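/-
Helper9 library: basic facts about quasisimple groups (`Cfsg.IsQuasisimple`).
-/
import Cfsg.Prelude.Def_Local

set_option autoImplicit false

namespace Cfsg.Agent.Lib.Helper9

/-- A proper normal subgroup of a quasisimple group is central. -/
theorem IsQuasisimple_normal_le_center {L : Type*} [Group L] (hL : Cfsg.IsQuasisimple L)
    (N : Subgroup L) [hN : N.Normal] (hne : N ≠ ⊤) : N ≤ Subgroup.center L := by
  obtain ⟨hperf, hsimp⟩ := hL
  have hmapN : (N.map (QuotientGroup.mk' (Subgroup.center L))).Normal :=
    hN.map _ (QuotientGroup.mk'_surjective _)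
  rcases hmapN.eq_bot_or_eq_top with h | h
  · rw [← le_bot_iff, Subgroup.map_le_iff_le_comap, MonoidHom.comap_bot, QuotientGroup.ker_mk'] at h
    exact h
  · exfalso
    apply hne
    have h2 : N ⊔ Subgroup.center L = ⊤ := by
      have := Subgroup.comap_map_eq (QuotientGroup.mk' (Subgroup.center L)) N
      rw [h, Subgroup.comap_top, QuotientGroup.ker_mk'] at this
      exact this.symm
    have h3 : commutator L ≤ N :=
      Subgroup.Normal.commutator_le_of_self_sup_commutative_eq_top h2 inferInstance
    rw [hperf.commutator_eq_top] at h3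
    exact top_le_iff.mp h3

/-- A quasisimple group is nontrivial. -/
theorem IsQuasisimple_nontrivial {L : Type*} [Group L] (hL : Cfsg.IsQuasisimple L) :
    Nontrivial L := by
  obtain ⟨_, hsimp⟩ := hL
  have : Nontrivial (L ⧸ Subgroup.center L) := hsimp.toNontrivial
  exact Function.Surjective.nontrivial (QuotientGroup.mk'_surjective (Subgroup.center L))

/-- A quasisimple group is not commutative: its centre is proper. -/
theorem IsQuasisimple_center_ne_top {L : Type*} [Group L] (hL : Cfsg.IsQuasisimple L) :
    Subgroup.center L ≠ ⊤ := by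
  obtain ⟨_, hsimp⟩ := hL
  intro h
  have : Nontrivial (L ⧸ Subgroup.center L) := hsimp.toNontrivial
  have hsub : Subsingleton (L ⧸ Subgroup.center L) := by
    rw [h]
    exact QuotientGroup.subsingleton_quotient_top
  exact not_subsingleton _ hsub

/-- A quasisimple group is not solvable. -/
theorem IsQuasisimple_not_isSolvable {L : Type*} [Group L] (hL : Cfsg.IsQuasisimple L) :
    ¬ Group.IsSolvable L := by
  have := IsQuasisimple_nontrivial hL
  have := hL.1
  exact Group.IsPerfect.not_isSolvable L

/-- A proper subnormal subgroup of a quasisimple group is central. -/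
theorem IsQuasisimple_subnormal_le_center {L : Type*} [Group L] (hL : Cfsg.IsQuasisimple L)
    (S : Subgroup L) (hS : S.IsSubnormal) (hne : S ≠ ⊤) : S ≤ Subgroup.center L := by
  obtain ⟨K, hK, hSK, hKtop⟩ := hS.exists_normal_and_le_and_lt_top_of_ne hne
  exact hSK.trans (IsQuasisimple_normal_le_center hL K hKtop.ne)

/-- Criterion: a perfect group with a proper centre all of whose proper normal subgroups are
central is quasisimple. -/
theorem isQuasisimple_of_normal_le_center {L : Type*} [Group L] (hperf : Group.IsPerfect L)
    (hne : Subgroup.center L ≠ ⊤)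
    (h : ∀ N : Subgroup L, N.Normal → N ≠ ⊤ → N ≤ Subgroup.center L) : Cfsg.IsQuasisimple L := by
  refine ⟨hperf, ?_⟩
  have hnt : Nontrivial (L ⧸ Subgroup.center L) := by
    by_contra hcon
    rw [not_nontrivial_iff_subsingleton] at hcon
    apply hne
    exact QuotientGroup.subsingleton_iff.mp hcon
  refine { exists_pair_ne := hnt.exists_pair_ne, eq_bot_or_eq_top_of_normal := ?_ }
  intro N hN
  have hcN : (N.comap (QuotientGroup.mk' (Subgroup.center L))).Normal := hN.comap _
  by_cases htop : N.comap (QuotientGroup.mk' (Subgroup.center L)) = ⊤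
  · right
    have := Subgroup.map_comap_eq_self_of_surjective (QuotientGroup.mk'_surjective (Subgroup.center L)) N
    rw [htop, Subgroup.map_top_of_surjective _ (QuotientGroup.mk'_surjective _)] at this
    exact this.symm
  · left
    have hle := h _ hcN htop
    have := Subgroup.map_comap_eq_self_of_surjective (QuotientGroup.mk'_surjective (Subgroup.center L)) N
    rw [← this, ← le_bot_iff, Subgroup.map_le_iff_le_comap, MonoidHom.comap_bot, QuotientGroup.ker_mk']
    exact hle

end Cfsg.Agent.Lib.Helper9
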