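/-
Helper9 library: components of a group (`Cfsg.IsComponent`), the layer, and the basic
commutation results (Aschbacher, Finite Group Theory, §31).
-/
import Cfsg.Prelude.Def_Local
import Cfsg.Agent.Lib.Helper9.Quasisimple

set_option autoImplicit false

namespace Cfsg.Agent.Lib.Helper9

variable {G : Type*} [Group G]

/-- Relative form: a proper subgroup `N` of a quasisimple subgroup `L` normalized by `L` is
centralized by `L`. -/
theorem quasisimple_commutator_eq_bot_of_normal_ne (L N : Subgroup G)
    (hL : Cfsg.IsQuasisimple ↥L) (hNL : N ≤ L) (hnorm : L ≤ Subgroup.normalizer (N : Set G))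
    (hne : N ≠ L) : ⁅L, N⁆ = ⊥ := by
  have hN' : (N.subgroupOf L).Normal := (Subgroup.normal_subgroupOf_iff_le_normalizer hNL).mpr hnorm
  have hne' : N.subgroupOf L ≠ ⊤ := by
    intro h
    rw [Subgroup.subgroupOf_eq_top] at h
    exact hne (le_antisymm hNL h)
  have hc := IsQuasisimple_normal_le_center hL (N.subgroupOf L) hne'
  rw [Subgroup.commutator_eq_bot_iff_le_centralizer]
  intro l hl
  rw [Subgroup.mem_centralizer_iff]
  intro n hn
  have hmem : (⟨n, hNL hn⟩ : ↥L) ∈ N.subgroupOf L := by
    rw [Subgroup.mem_subgroupOf]; exact hn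
  have := Subgroup.mem_center_iff.mp (hc hmem) ⟨l, hl⟩
  have h2 := congrArg Subtype.val this
  simp only [Subgroup.coe_mul] at h2
  exact h2.symm

/-- If `x` normalizes `A` and `B` then it normalizes `A ⊓ B`. -/
theorem mem_normalizer_inf {A B : Subgroup G} {x : G}
    (hA : x ∈ Subgroup.normalizer (A : Set G)) (hB : x ∈ Subgroup.normalizer (B : Set G)) :
    x ∈ Subgroup.normalizer ((A ⊓ B : Subgroup G) : Set G) := by
  rw [Subgroup.mem_normalizer_iff] at hA hB ⊢
  intro h
  rw [Subgroup.mem_inf, Subgroup.mem_inf, hA h, hB h]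

/-- **Chain lemma.** Let `L` be a quasisimple subgroup with a normal chain
`L = g 0 ⊴ g 1 ⊴ ⋯ ⊴ g n = K` and `N ≤ K` normalized by `K`. If `L ≰ N` then `⁅L, N⁆ = ⊥`. -/
theorem quasisimple_commutator_eq_bot_of_chain (L N K : Subgroup G)
    (hL : Cfsg.IsQuasisimple ↥L) (g : ℕ → Subgroup G) (n : ℕ) (hmono : Monotone g)
    (hg0 : g 0 = L) (hgn : g n = K)
    (hgnorm : ∀ i, g (i + 1) ≤ Subgroup.normalizer (g i : Set G)) (hNK : N ≤ K)
    (hKN : K ≤ Subgroup.normalizer (N : Set G)) (hLN : ¬ L ≤ N) : ⁅L, N⁆ = ⊥ := by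
  have hperf : ⁅L, L⁆ = L := Subgroup.isPerfect_iff.mp hL.1
  have hLK : L ≤ K := by rw [← hg0, ← hgn]; exact hmono (Nat.zero_le n)
  have key : ∀ i, i ≤ n → ⁅L, N ⊓ g i⁆ = ⊥ := by
    intro i
    induction i with
    | zero =>
      intro _
      rw [hg0]
      apply quasisimple_commutator_eq_bot_of_normal_ne L (N ⊓ L) hL inf_le_right
      · intro l hl
        exact mem_normalizer_inf (hKN (hLK hl)) (Subgroup.le_normalizer hl)
      · intro h
        apply hLN
        rw [← h]
        exact inf_le_left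
    | succ i ih =>
      intro hi
      have ih' := ih (Nat.le_of_succ_le hi)
      have hgiK : g i ≤ K := by rw [← hgn]; exact hmono (Nat.le_of_succ_le hi)
      have hLgi : L ≤ g i := by rw [← hg0]; exact hmono (Nat.zero_le i)
      set A : Subgroup G := N ⊓ g (i + 1) with hA
      -- ⁅L, A⁆ ≤ N ⊓ g i
      have h1 : ⁅L, A⁆ ≤ N ⊓ g i := by
        refine le_inf ?_ ?_
        · calc ⁅L, A⁆ ≤ ⁅g i, N⁆ := Subgroup.commutator_mono hLgi inf_le_left
            _ ≤ N := Subgroup.le_normalizer_iff_commutator_le_right.mp (hgiK.trans hKN)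
        · calc ⁅L, A⁆ ≤ ⁅g i, g (i + 1)⁆ := Subgroup.commutator_mono hLgi inf_le_right
            _ ≤ g i := Subgroup.le_normalizer_iff_commutator_le_left.mp (hgnorm i)
      have h2 : ⁅⁅L, A⁆, L⁆ = ⊥ := by
        rw [eq_bot_iff]
        calc ⁅⁅L, A⁆, L⁆ ≤ ⁅N ⊓ g i, L⁆ := Subgroup.commutator_mono h1 le_rfl
          _ = ⁅L, N ⊓ g i⁆ := Subgroup.commutator_comm _ _
          _ = ⊥ := ih'
      have h3 : ⁅⁅A, L⁆, L⁆ = ⊥ := by rw [Subgroup.commutator_comm A L]; exact h2
      have h4 := Subgroup.commutator_commutator_eq_bot_of_rotate (H₁ := L) (H₂ := L) (H₃ := A) h2 h3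
      rwa [hperf] at h4
  have := key n le_rfl
  rwa [hgn, inf_of_le_left hNK] at this

/-- **Aschbacher 31.4.** A component `L` and a subnormal subgroup `H`: either `L ≤ H` or
`⁅L, H⁆ = ⊥`. -/
theorem component_le_or_commutator_eq_bot (L H : Subgroup G) (hL : Cfsg.IsComponent L)
    (hH : H.IsSubnormal) : L ≤ H ∨ ⁅L, H⁆ = ⊥ := by
  induction hH with
  | top => exact Or.inl le_top
  | step H K hHK hK hN ih =>
    rcases ih with h | h
    · by_cases hLH : L ≤ H
      · exact Or.inl hLH
      · right
        obtain ⟨n, f, hmono, hfnorm, hf0, hfn⟩ := Subgroup.IsSubnormal.isSubnormal_iff.mp hL.1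
        apply quasisimple_commutator_eq_bot_of_chain L H K hL.2 (fun i => f i ⊓ K) n
        · intro i j hij
          exact inf_le_inf_right K (hmono hij)
        · show f 0 ⊓ K = L
          rw [hf0]; exact inf_of_le_left h
        · show f n ⊓ K = K
          rw [hfn]; exact top_inf_eq K
        · intro i x hx
          obtain ⟨hx1, hx2⟩ := Subgroup.mem_inf.mp hx
          have hle : f i ≤ f (i + 1) := hmono (Nat.le_succ i)
          have := (Subgroup.normal_subgroupOf_iff_le_normalizer hle).mp (hfnorm i)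
          exact mem_normalizer_inf (this hx1) (Subgroup.le_normalizer hx2)
        · exact hHK
        · exact (Subgroup.normal_subgroupOf_iff_le_normalizer hHK).mp hN
        · exact hLH
    · right
      rw [eq_bot_iff, ← h]
      exact Subgroup.commutator_mono le_rfl hHK

/-- Distinct components commute. -/
theorem components_commute (K L : Subgroup G) (hK : Cfsg.IsComponent K)
    (hL : Cfsg.IsComponent L) (hne : K ≠ L) : ⁅K, L⁆ = ⊥ := by
  rcases component_le_or_commutator_eq_bot K L hK hL.1 with h1 | h1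
  · rcases component_le_or_commutator_eq_bot L K hL hK.1 with h2 | h2
    · exact absurd (le_antisymm h1 h2) hne
    · rw [Subgroup.commutator_comm]; exact h2
  · exact h1

/-- A component centralizes every solvable subnormal subgroup. -/
theorem component_commutator_solvable_eq_bot (L H : Subgroup G) (hL : Cfsg.IsComponent L)
    (hH : H.IsSubnormal) (hs : Group.IsSolvable ↥H) : ⁅L, H⁆ = ⊥ := by
  rcases component_le_or_commutator_eq_bot L H hL hH with h | h
  · exfalso
    apply IsQuasisimple_not_isSolvable hL.2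
    exact Group.isSolvable_of_isSolvable_injective (Subgroup.inclusion_injective h)
  · exact h

/-- The layer centralizes the Fitting subgroup. -/
theorem layer_le_centralizer_fittingSubgroup :
    Cfsg.layer G ≤ Subgroup.centralizer (Cfsg.fittingSubgroup G : Set G) := by
  apply sSup_le
  intro L hL
  rw [← Subgroup.commutator_eq_bot_iff_le_centralizer, Subgroup.commutator_comm,
    Subgroup.commutator_eq_bot_iff_le_centralizer]
  apply sSup_le
  rintro N ⟨hN, hnil⟩
  rw [← Subgroup.commutator_eq_bot_iff_le_centralizer, Subgroup.commutator_comm]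
  have hsol : Group.IsSolvable ↥N := inferInstance
  exact component_commutator_solvable_eq_bot L N hL hN.isSubnormal hsol

/-- `⁅E(G), F(G)⁆ = ⊥`. -/
theorem commutator_layer_fittingSubgroup : ⁅Cfsg.layer G, Cfsg.fittingSubgroup G⁆ = ⊥ :=
  Subgroup.commutator_eq_bot_iff_le_centralizer.mpr layer_le_centralizer_fittingSubgroup

end Cfsg.Agent.Lib.Helper9
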