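/-
Helper9 library: transport of quasisimplicity, components, the layer and the Fitting subgroup
along isomorphisms and to/from (sub)normal subgroups.
-/
import Cfsg.Prelude.Def_Local
import Mathlib.GroupTheory.GroupAction.ConjAct
import Cfsg.Agent.Lib.Helper1.Fitting
import Cfsg.Agent.Lib.Helper9.Components

set_option autoImplicit false

namespace Cfsg.Agent.Lib.Helper9

/-- The image of the centre under an isomorphism is the centre. -/
theorem map_center_of_mulEquiv {H H' : Type*} [Group H] [Group H'] (e : H ≃* H') :
    (Subgroup.center H).map e.toMonoidHom = Subgroup.center H' := by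
  ext x
  constructor
  · rintro ⟨z, hz, rfl⟩
    rw [Subgroup.mem_center_iff]
    intro y
    obtain ⟨w, rfl⟩ := e.surjective y
    have := Subgroup.mem_center_iff.mp hz w
    change e w * e z = e z * e w
    rw [← map_mul, ← map_mul, this]
  · intro hx
    refine ⟨e.symm x, ?_, by simp⟩
    change e.symm x ∈ Subgroup.center H
    rw [Subgroup.mem_center_iff]
    intro y
    apply e.injective
    have := Subgroup.mem_center_iff.mp hx (e y)
    simpa using this

/-- Quasisimplicity is invariant under isomorphism. -/
theorem isQuasisimple_of_equiv {H H' : Type*} [Group H] [Group H'] (e : H ≃* H')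
    (h : Cfsg.IsQuasisimple H) : Cfsg.IsQuasisimple H' := by
  obtain ⟨hp, hs⟩ := h
  refine ⟨?_, ?_⟩
  · exact Group.IsPerfect.ofSurjective (f := e.toMonoidHom) e.surjective
  · exact (QuotientGroup.congr (Subgroup.center H) (Subgroup.center H') e
      (map_center_of_mulEquiv e)).symm.isSimpleGroup

variable {G : Type*} [Group G]

/-- The image of a component under an isomorphism is a component. -/
theorem isComponent_map_equiv {G' : Type*} [Group G'] (e : G ≃* G') {K : Subgroup G}
    (hK : Cfsg.IsComponent K) : Cfsg.IsComponent (K.map e.toMonoidHom) :=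
  ⟨hK.1.map e.surjective,
    isQuasisimple_of_equiv (K.equivMapOfInjective e.toMonoidHom e.injective) hK.2⟩

/-- A component of a subnormal subgroup `S`, viewed in `G`, is a component of `G`. -/
theorem isComponent_map_subtype {S : Subgroup G} (hS : S.IsSubnormal) {K : Subgroup ↥S}
    (hK : Cfsg.IsComponent K) : Cfsg.IsComponent (K.map S.subtype) :=
  ⟨hK.1.trans' hS,
    isQuasisimple_of_equiv (K.equivMapOfInjective S.subtype S.subtype_injective) hK.2⟩

/-- A component of `G` contained in a subgroup `S` is a component of `S`. -/
theorem isComponent_subgroupOf {S K : Subgroup G} (hKS : K ≤ S) (hK : Cfsg.IsComponent K) :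
    Cfsg.IsComponent (K.subgroupOf S) :=
  ⟨hK.1.subgroupOf, isQuasisimple_of_equiv (Subgroup.subgroupOfEquivOfLe hKS).symm hK.2⟩

/-- The layer of a subnormal subgroup lies in the layer of the group. -/
theorem layer_map_subtype_le {S : Subgroup G} (hS : S.IsSubnormal) :
    (Cfsg.layer ↥S).map S.subtype ≤ Cfsg.layer G := by
  rw [Subgroup.map_le_iff_le_comap]
  apply sSup_le
  intro K hK
  rw [← Subgroup.map_le_iff_le_comap]
  exact le_sSup (isComponent_map_subtype hS hK)

/-- The layer is a characteristic subgroup. -/
instance layer_characteristic : (Cfsg.layer G).Characteristic := by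
  rw [Subgroup.characteristic_iff_map_le]
  intro φ
  rw [Subgroup.map_le_iff_le_comap]
  apply sSup_le
  intro K hK
  rw [← Subgroup.map_le_iff_le_comap]
  exact le_sSup (isComponent_map_equiv φ hK)

/-- The layer is a normal subgroup. -/
instance layer_normal : (Cfsg.layer G).Normal := inferInstance

/-- The layer is perfect. -/
theorem layer_commutator_eq : ⁅Cfsg.layer G, Cfsg.layer G⁆ = Cfsg.layer G := by
  apply le_antisymm (Subgroup.commutator_le_self _)
  apply sSup_le
  intro K hK
  have hperf : ⁅K, K⁆ = K := Subgroup.isPerfect_iff.mp hK.2.1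
  rw [← hperf]
  exact Subgroup.commutator_mono (le_sSup hK) (le_sSup hK)

/-- The image of the Fitting subgroup under an isomorphism is the Fitting subgroup. -/
theorem fittingSubgroup_map_equiv_le {G' : Type*} [Group G'] (e : G ≃* G') :
    (Cfsg.fittingSubgroup G).map e.toMonoidHom ≤ Cfsg.fittingSubgroup G' := by
  rw [Subgroup.map_le_iff_le_comap]
  apply sSup_le
  rintro N ⟨hN, hnil⟩
  rw [← Subgroup.map_le_iff_le_comap]
  refine le_sSup ⟨hN.map _ e.surjective, ?_⟩
  exact Group.nilpotent_of_mulEquiv (N.equivMapOfInjective e.toMonoidHom e.injective)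

theorem fittingSubgroup_map_equiv {G' : Type*} [Group G'] (e : G ≃* G') :
    (Cfsg.fittingSubgroup G).map e.toMonoidHom = Cfsg.fittingSubgroup G' := by
  apply le_antisymm (fittingSubgroup_map_equiv_le e)
  have h := fittingSubgroup_map_equiv_le e.symm
  have h2 := Subgroup.map_mono (f := e.toMonoidHom) h
  rw [Subgroup.map_map] at h2
  have h3 : e.toMonoidHom.comp e.symm.toMonoidHom = MonoidHom.id G' := by
    ext x; simp
  rwa [h3, Subgroup.map_id] at h2

/-- The Fitting subgroup is characteristic. -/
instance fittingSubgroup_characteristic : (Cfsg.fittingSubgroup G).Characteristic := by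
  rw [Subgroup.characteristic_iff_map_le]
  intro φ
  exact fittingSubgroup_map_equiv_le φ

/-- The Fitting subgroup of a normal subgroup lies in the Fitting subgroup (finite group). -/
theorem fittingSubgroup_map_subtype_le_of_normal [Finite G] (N : Subgroup G) [N.Normal] :
    (Cfsg.fittingSubgroup ↥N).map N.subtype ≤ Cfsg.fittingSubgroup G := by
  have h1 : ((Cfsg.fittingSubgroup ↥N).map N.subtype).Normal :=
    ConjAct.normal_of_characteristic_of_normal
  have h2 : Group.IsNilpotent ↥((Cfsg.fittingSubgroup ↥N).map N.subtype) := by
    have := Cfsg.Agent.Lib.Helper1.fittingSubgroup_isNilpotent ↥N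
    exact Group.nilpotent_of_mulEquiv
      ((Cfsg.fittingSubgroup ↥N).equivMapOfInjective N.subtype N.subtype_injective)
  exact le_sSup ⟨h1, h2⟩

end Cfsg.Agent.Lib.Helper9
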