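/-
Helper9 library: the generalized Fitting subgroup `F*(G) = E(G) F(G)` of a finite group:
subnormal nilpotent subgroups lie in `F(G)`, and `C_G(F*(G)) ≤ F*(G)`.
-/
import Cfsg.Agent.Lib.Helper9.Transport

set_option autoImplicit false

namespace Cfsg.Agent.Lib.Helper9

variable {G : Type*} [Group G]

/-- Relative monotonicity of the Fitting subgroup: if `N ⊴ K` (both subgroups of a finite `G`),
then `F(N) ≤ F(K)` as subgroups of `G`. -/
theorem fittingSubgroup_map_subtype_le_of_normal_in [Finite G] (N K : Subgroup G) (hNK : N ≤ K)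
    (hnorm : (N.subgroupOf K).Normal) :
    (Cfsg.fittingSubgroup ↥N).map N.subtype ≤ (Cfsg.fittingSubgroup ↥K).map K.subtype := by
  have h1 := fittingSubgroup_map_subtype_le_of_normal (G := ↥K) (N.subgroupOf K)
  have h2 := Subgroup.map_mono (f := K.subtype) h1
  rw [Subgroup.map_map] at h2
  have h3 : Cfsg.fittingSubgroup ↥N = (Cfsg.fittingSubgroup ↥(N.subgroupOf K)).map
      (Subgroup.subgroupOfEquivOfLe hNK).toMonoidHom :=
    (fittingSubgroup_map_equiv (Subgroup.subgroupOfEquivOfLe hNK)).symm
  rw [h3, Subgroup.map_map]
  have h4 : N.subtype.comp (Subgroup.subgroupOfEquivOfLe hNK).toMonoidHom =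
      K.subtype.comp (N.subgroupOf K).subtype := by
    ext x
    rfl
  rw [h4]
  exact h2

/-- The Fitting subgroup of a subnormal subgroup lies in the Fitting subgroup. -/
theorem fittingSubgroup_map_subtype_le_of_subnormal [Finite G] {S : Subgroup G}
    (hS : S.IsSubnormal) : (Cfsg.fittingSubgroup ↥S).map S.subtype ≤ Cfsg.fittingSubgroup G := by
  induction hS with
  | top => exact fittingSubgroup_map_subtype_le_of_normal ⊤
  | step H K hHK hK hN ih =>
    exact (fittingSubgroup_map_subtype_le_of_normal_in H K hHK hN).trans ih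

/-- A subnormal nilpotent subgroup of a finite group lies in the Fitting subgroup. -/
theorem le_fittingSubgroup_of_subnormal_of_isNilpotent [Finite G] {S : Subgroup G}
    (hS : S.IsSubnormal) (hn : Group.IsNilpotent ↥S) : S ≤ Cfsg.fittingSubgroup G := by
  have h1 : Cfsg.fittingSubgroup ↥S = ⊤ := by
    rw [eq_top_iff]
    refine le_sSup ⟨inferInstance, ?_⟩
    exact Group.nilpotent_of_mulEquiv Subgroup.topEquiv.symm
  have h2 := fittingSubgroup_map_subtype_le_of_subnormal hS
  rw [h1, ← MonoidHom.range_eq_map, Subgroup.range_subtype] at h2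
  exact h2

/-- The Fitting subgroup is normal. -/
instance fittingSubgroup_normal' : (Cfsg.fittingSubgroup G).Normal := inferInstance

/-- The generalized Fitting subgroup is normal. -/
instance generalizedFittingSubgroup_normal : (Cfsg.generalizedFittingSubgroup G).Normal := by
  unfold Cfsg.generalizedFittingSubgroup
  exact Subgroup.sup_normal _ _

theorem layer_le_generalizedFittingSubgroup : Cfsg.layer G ≤ Cfsg.generalizedFittingSubgroup G :=
  le_sup_left

theorem fittingSubgroup_le_generalizedFittingSubgroup :
    Cfsg.fittingSubgroup G ≤ Cfsg.generalizedFittingSubgroup G :=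
  le_sup_right

/-- **The fundamental property of `F*`**: `C_G(F*(G)) ≤ F*(G)` for finite `G`. -/
theorem centralizer_generalizedFittingSubgroup_le [Finite G] :
    Subgroup.centralizer (Cfsg.generalizedFittingSubgroup G : Set G) ≤
      Cfsg.generalizedFittingSubgroup G := by
  classical
  set Fs := Cfsg.generalizedFittingSubgroup G with hFs
  set C := Subgroup.centralizer (Fs : Set G) with hC
  by_contra hcon
  -- a minimal subnormal subgroup of `G` inside `C` not contained in `Fs`
  let T : Set (Subgroup G) := {S | S.IsSubnormal ∧ S ≤ C ∧ ¬ S ≤ Fs}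
  have hTne : T.Nonempty := ⟨C, (inferInstance : C.Normal).isSubnormal, le_rfl, hcon⟩
  obtain ⟨S, ⟨hSsn, hSC, hSF⟩, hmin⟩ := (wellFounded_lt (α := Subgroup G)).has_min T hTne
  have hmin' : ∀ R : Subgroup G, R.IsSubnormal → R < S → R ≤ Fs := by
    intro R hR hlt
    by_contra hRF
    exact hmin R ⟨hR, hlt.le.trans hSC, hRF⟩ hlt
  -- subgroups of `S` inside `Fs` are centralized by `S`
  have hcent : ∀ R : Subgroup G, R ≤ Fs → ⁅R, S⁆ = ⊥ := by
    intro R hR
    rw [Subgroup.commutator_comm, Subgroup.commutator_eq_bot_iff_le_centralizer]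
    exact hSC.trans (Subgroup.centralizer_le hR)
  by_cases hperf : ⁅S, S⁆ = S
  · -- `S` is quasisimple, hence a component
    apply hSF
    have hP : Group.IsPerfect ↥S := Subgroup.isPerfect_iff.mpr hperf
    have hS1 : S ≠ ⊥ := by
      rintro rfl
      exact hSF bot_le
    have hQ : Cfsg.IsQuasisimple ↥S := by
      apply isQuasisimple_of_normal_le_center hP
      · intro htop
        have hcomm : IsMulCommutative ↥S := Subgroup.center_eq_top_iff.mp htop
        have : Subsingleton ↥S := inferInstance
        exact hS1 (Subgroup.eq_bot_of_subsingleton S)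
      · intro N hN hNtop
        have hNsn : (N.map S.subtype).IsSubnormal := hN.isSubnormal.trans' hSsn
        have hNle : N.map S.subtype ≤ S := Subgroup.map_subtype_le N
        have hNlt : N.map S.subtype < S := by
          refine lt_of_le_of_ne hNle ?_
          intro heq
          apply hNtop
          rw [eq_top_iff]
          intro x _
          have hx : (x : G) ∈ N.map S.subtype := by rw [heq]; exact x.2
          obtain ⟨y, hy, hyx⟩ := hx
          have : y = x := Subtype.ext hyx
          rwa [← this]
        have h1 := hcent _ (hmin' _ hNsn hNlt)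
        rw [Subgroup.commutator_eq_bot_iff_le_centralizer] at h1
        intro n hn
        rw [Subgroup.mem_center_iff]
        intro s
        have h2 := h1 (Subgroup.mem_map_of_mem S.subtype hn)
        rw [Subgroup.mem_centralizer_iff] at h2
        have h3 := h2 s s.2
        exact Subtype.ext h3
    have hcomp : Cfsg.IsComponent S := ⟨hSsn, hQ⟩
    have hle : S ≤ Cfsg.layer G := le_sSup hcomp
    exact hle.trans layer_le_generalizedFittingSubgroup
  · -- `S` has class at most two, hence lies in `F(G)`
    apply hSF
    have hS'le : ⁅S, S⁆ ≤ S := Subgroup.commutator_le_self S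
    have hS'lt : ⁅S, S⁆ < S := lt_of_le_of_ne hS'le hperf
    have hS'sn : (⁅S, S⁆ : Subgroup G).IsSubnormal := by
      refine Subgroup.IsSubnormal.step _ S hS'le hSsn ?_
      exact (Subgroup.normal_subgroupOf_iff_le_normalizer hS'le).mpr
        (Subgroup.normalizer_commutator_ge_left S S)
    have h1 := hcent _ (hmin' _ hS'sn hS'lt)
    have hnil : Group.IsNilpotent ↥S := by
      rw [Subgroup.isNilpotent_iff_lowerCentralSeries]
      refine ⟨2, ?_⟩
      rw [Subgroup.lowerCentralSeries_succ, Subgroup.lowerCentralSeries_succ,
        Subgroup.lowerCentralSeries_zero]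
      exact h1
    exact (le_fittingSubgroup_of_subnormal_of_isNilpotent hSsn hnil).trans
      fittingSubgroup_le_generalizedFittingSubgroup

end Cfsg.Agent.Lib.Helper9
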