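/-
Helper9 library: further consequences of the component / `F*` theory.
-/
import Cfsg.Agent.Lib.Helper9.FStar
import Cfsg.Agent.Lib.Helper9.Components

set_option autoImplicit false

namespace Cfsg.Agent.Lib.Helper9

variable {G : Type*} [Group G]

theorem component_le_layer {K : Subgroup G} (hK : Cfsg.IsComponent K) : K ≤ Cfsg.layer G :=
  le_sSup hK

theorem layer_le_of_forall_component_le {Y : Subgroup G}
    (h : ∀ K : Subgroup G, Cfsg.IsComponent K → K ≤ Y) : Cfsg.layer G ≤ Y :=
  sSup_le h

/-- A component is not contained in a solvable subgroup. -/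
theorem component_not_le_of_isSolvable {K Y : Subgroup G} (hK : Cfsg.IsComponent K)
    (hY : Group.IsSolvable ↥Y) : ¬ K ≤ Y := by
  intro h
  apply IsQuasisimple_not_isSolvable hK.2
  exact Group.isSolvable_of_isSolvable_injective (Subgroup.inclusion_injective h)

/-- The layer is trivial iff there are no components. -/
theorem layer_eq_bot_iff : Cfsg.layer G = ⊥ ↔ ∀ K : Subgroup G, ¬ Cfsg.IsComponent K := by
  constructor
  · intro h K hK
    have h1 : K ≤ ⊥ := h ▸ component_le_layer hK
    have h2 : Group.IsSolvable ↥(⊥ : Subgroup G) := inferInstance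
    exact component_not_le_of_isSolvable hK h2 h1
  · intro h
    rw [eq_bot_iff]
    exact layer_le_of_forall_component_le (fun K hK => absurd hK (h K))

/-- If the layer lies in a solvable subgroup, it is trivial. -/
theorem layer_eq_bot_of_le_isSolvable {Y : Subgroup G} (hY : Group.IsSolvable ↥Y)
    (h : Cfsg.layer G ≤ Y) : Cfsg.layer G = ⊥ := by
  rw [layer_eq_bot_iff]
  intro K hK
  exact component_not_le_of_isSolvable hK hY ((component_le_layer hK).trans h)

theorem fittingSubgroup_isSolvable [Finite G] : Group.IsSolvable ↥(Cfsg.fittingSubgroup G) := by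
  have := Cfsg.Agent.Lib.Helper1.fittingSubgroup_isNilpotent G
  infer_instance

/-- A component lies in a normal (more generally subnormal) subgroup `Y` with `C_G(Y) ≤ Y`
unless it is... it always does, provided `Y` is not solvable-contained: precisely,
`K ≤ Y` or `K ≤ C_G(Y)`. -/
theorem component_le_or_le_centralizer {K Y : Subgroup G} (hK : Cfsg.IsComponent K)
    (hY : Y.IsSubnormal) : K ≤ Y ∨ K ≤ Subgroup.centralizer (Y : Set G) := by
  rcases component_le_or_commutator_eq_bot K Y hK hY with h | h
  · exact Or.inl h
  · exact Or.inr (Subgroup.commutator_eq_bot_iff_le_centralizer.mp h)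

/-- If `Y` is subnormal and self-centralizing (`C_G(Y) ≤ Y`), then `E(G) ≤ Y`. -/
theorem layer_le_of_centralizer_le {Y : Subgroup G} (hY : Y.IsSubnormal)
    (hC : Subgroup.centralizer (Y : Set G) ≤ Y) : Cfsg.layer G ≤ Y := by
  apply layer_le_of_forall_component_le
  intro K hK
  rcases component_le_or_le_centralizer hK hY with h | h
  · exact h
  · exact h.trans hC

end Cfsg.Agent.Lib.Helper9

namespace Cfsg.Agent.Lib.Helper9

variable {G : Type*} [Group G]

/-- The centre of a subgroup `H`, viewed in `G`, is `H ⊓ C_G(H)`. -/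
theorem map_subtype_center (H : Subgroup G) :
    (Subgroup.center ↥H).map H.subtype = H ⊓ Subgroup.centralizer (H : Set G) := by
  ext x
  constructor
  · rintro ⟨⟨y, hy⟩, hyc, rfl⟩
    refine Subgroup.mem_inf.mpr ⟨hy, ?_⟩
    rw [Subgroup.mem_centralizer_iff]
    intro h hh
    have := Subgroup.mem_center_iff.mp hyc ⟨h, hh⟩
    exact congrArg Subtype.val this
  · intro hx
    obtain ⟨hx1, hx2⟩ := Subgroup.mem_inf.mp hx
    refine ⟨⟨x, hx1⟩, ?_, rfl⟩
    rw [SetLike.mem_coe, Subgroup.mem_center_iff]
    rintro ⟨h, hh⟩
    apply Subtype.ext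
    exact (Subgroup.mem_centralizer_iff.mp hx2) h hh

/-- An abelian subgroup (given as `A ≤ C_G(A)`) is nilpotent. -/
theorem isNilpotent_of_le_centralizer {A : Subgroup G}
    (h : A ≤ Subgroup.centralizer (A : Set G)) : Group.IsNilpotent ↥A := by
  have hc : IsMulCommutative ↥A := Subgroup.le_centralizer_iff_isMulCommutative.mp h
  let _i : CommGroup ↥A := { (inferInstance : Group ↥A) with mul_comm := fun a b => hc.1.1 a b }
  exact CommGroup.isNilpotent

/-- `Z(E(G)) = F(G) ⊓ E(G)` (as subgroups of `G`), for finite `G`. -/
theorem map_subtype_center_layer [Finite G] :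
    (Subgroup.center ↥(Cfsg.layer G)).map (Cfsg.layer G).subtype =
      Cfsg.fittingSubgroup G ⊓ Cfsg.layer G := by
  rw [map_subtype_center]
  apply le_antisymm
  · apply le_inf _ inf_le_left
    apply Cfsg.Agent.Lib.Helper1.le_fittingSubgroup inferInstance
    apply isNilpotent_of_le_centralizer
    intro x hx
    have h1 := (Subgroup.mem_inf.mp hx).2
    exact Subgroup.centralizer_le (by intro y hy; exact (Subgroup.mem_inf.mp hy).1) h1
  · apply le_inf inf_le_right
    refine inf_le_left.trans ?_
    exact Subgroup.le_centralizer_iff.mp layer_le_centralizer_fittingSubgroup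

end Cfsg.Agent.Lib.Helper9

namespace Cfsg.Agent.Lib.Helper9

variable {G : Type*} [Group G]

/-- A homomorphism to a solvable group kills some term of the derived series. -/
theorem exists_derivedSeries_le_ker {G' : Type*} [Group G'] (f : G →* G') [Group.IsSolvable G'] :
    ∃ n, derivedSeries G n ≤ f.ker := by
  obtain ⟨n, hn⟩ := Group.IsSolvable.solvable (G := G')
  refine ⟨n, ?_⟩
  have h := map_derivedSeries_le_derivedSeries f n
  rw [hn, Subgroup.map_le_iff_le_comap] at h
  exact h

/-- Derived series of a subgroup of `G`, viewed in `G`: successor step. -/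
theorem map_subtype_derivedSeries_succ (H : Subgroup G) (n : ℕ) :
    (derivedSeries ↥H (n + 1)).map H.subtype =
      ⁅(derivedSeries ↥H n).map H.subtype, (derivedSeries ↥H n).map H.subtype⁆ := by
  rw [derivedSeries_succ, Subgroup.map_commutator]

/-- A perfect subgroup `P ≤ H` lies in every term of the derived series of `H`. -/
theorem le_map_subtype_derivedSeries_of_perfect {P H : Subgroup G} (hP : ⁅P, P⁆ = P) (hPH : P ≤ H)
    (n : ℕ) : P ≤ (derivedSeries ↥H n).map H.subtype := by
  induction n with
  | zero =>
    rw [derivedSeries_zero, ← MonoidHom.range_eq_map, Subgroup.range_subtype]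
    exact hPH
  | succ n ih =>
    rw [map_subtype_derivedSeries_succ, ← hP]
    exact Subgroup.commutator_mono ih ih

/-- `E(G)` is the last term of the derived series of `F*(G)`. -/
theorem iInf_derivedSeries_generalizedFittingSubgroup [Finite G] :
    (⨅ n : ℕ, (derivedSeries ↥(Cfsg.generalizedFittingSubgroup G) n).map
      (Cfsg.generalizedFittingSubgroup G).subtype) = Cfsg.layer G := by
  apply le_antisymm
  · -- some term lies in `E`
    set Fs := Cfsg.generalizedFittingSubgroup G with hFs
    set E := Cfsg.layer G with hE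
    set F := Cfsg.fittingSubgroup G with hF
    let π : G →* G ⧸ E := QuotientGroup.mk' E
    have hsol : Group.IsSolvable ↥(F.map π) := by
      have : Group.IsSolvable ↥F := fittingSubgroup_isSolvable
      exact Group.isSolvable_of_surjective (MonoidHom.subgroupMap_surjective π F)
    have hmem : ∀ x : ↥Fs, (π.comp Fs.subtype) x ∈ F.map π := by
      intro x
      have h1 : π x.1 ∈ Fs.map π := Subgroup.mem_map_of_mem π x.2
      have h2 : Fs.map π = F.map π := by
        rw [hFs]
        unfold Cfsg.generalizedFittingSubgroup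
        rw [Subgroup.map_sup, QuotientGroup.map_mk'_self, bot_sup_eq]
      rw [h2] at h1
      exact h1
    let g : ↥Fs →* ↥(F.map π) := (π.comp Fs.subtype).codRestrict (F.map π) hmem
    obtain ⟨n, hn⟩ := exists_derivedSeries_le_ker g
    refine (iInf_le _ n).trans ?_
    rw [Subgroup.map_le_iff_le_comap]
    intro x hx
    have h3 := hn hx
    rw [MonoidHom.mem_ker] at h3
    have h4 : π x.1 = 1 := congrArg Subtype.val h3
    rw [Subgroup.mem_comap]
    exact (QuotientGroup.eq_one_iff x.1).mp h4
  · apply le_iInf
    intro n
    exact le_map_subtype_derivedSeries_of_perfect layer_commutator_eq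
      layer_le_generalizedFittingSubgroup n

end Cfsg.Agent.Lib.Helper9
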