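/-
Helper9 library: the layer versus subnormal subgroups and arbitrary subgroups.
-/
import Cfsg.Agent.Lib.Helper9.FStar2

set_option autoImplicit false

open scoped commutatorElement

namespace Cfsg.Agent.Lib.Helper9

variable {G : Type*} [Group G]

/-- The layer normalizes every subnormal subgroup. -/
theorem layer_le_normalizer_of_isSubnormal {A : Subgroup G} (hA : A.IsSubnormal) :
    Cfsg.layer G ≤ Subgroup.normalizer (A : Set G) := by
  apply layer_le_of_forall_component_le
  intro K hK
  rcases component_le_or_le_centralizer hK hA with h | h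
  · exact h.trans Subgroup.le_normalizer
  · exact h.trans (Subgroup.centralizer_le_normalizer _)

/-- A subnormal subgroup `A` with `E(A) = A` lies in `E(G)`. -/
theorem le_layer_of_layer_eq_top {A : Subgroup G} (hA : A.IsSubnormal)
    (h : Cfsg.layer ↥A = ⊤) : A ≤ Cfsg.layer G := by
  have h1 := layer_map_subtype_le hA
  rw [h, ← MonoidHom.range_eq_map, Subgroup.range_subtype] at h1
  exact h1

/-- The commutator `⁅H, K⁆` is normalized by `H`. -/
theorem le_normalizer_commutator_left (H K : Subgroup G) :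
    H ≤ Subgroup.normalizer ((⁅H, K⁆ : Subgroup G) : Set G) := by
  intro a ha
  -- it suffices to show conjugation by `a` and `a⁻¹` map `⁅H,K⁆` into itself
  have key : ∀ a ∈ H, ∀ x ∈ ⁅H, K⁆, a * x * a⁻¹ ∈ ⁅H, K⁆ := by
    intro a ha x hx
    have hle : ⁅H, K⁆ ≤ (⁅H, K⁆).comap (MulAut.conj a).toMonoidHom := by
      rw [Subgroup.commutator_def, Subgroup.closure_le]
      rintro _ ⟨b, hb, u, hu, rfl⟩
      show (MulAut.conj a) ⁅b, u⁆ ∈ ⁅H, K⁆
      rw [MulAut.conj_apply]
      have h1 : a * ⁅b, u⁆ * a⁻¹ = ⁅a * b, u⁆ * ⁅a, u⁆⁻¹ := by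
        simp only [commutatorElement_def]
        group
      rw [h1]
      exact Subgroup.mul_mem _ (Subgroup.commutator_mem_commutator (H.mul_mem ha hb) hu)
        (Subgroup.inv_mem _ (Subgroup.commutator_mem_commutator ha hu))
    have := hle hx
    rw [Subgroup.mem_comap] at this
    simpa [MulAut.conj_apply] using this
  rw [Subgroup.mem_normalizer_iff]
  intro x
  constructor
  · intro hx
    exact key a ha x hx
  · intro hx
    have := key a⁻¹ (H.inv_mem ha) _ hx
    simpa [mul_assoc] using this

end Cfsg.Agent.Lib.Helper9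

namespace Cfsg.Agent.Lib.Helper9

variable {G : Type*} [Group G]

/-- If `H ≤ N_G(A)` and `A ≤ H` and `H` is subnormal then `A` is subnormal. -/
theorem isSubnormal_of_le_normalizer {A H : Subgroup G} (hAH : A ≤ H) (hH : H.IsSubnormal)
    (hn : H ≤ Subgroup.normalizer (A : Set G)) : A.IsSubnormal :=
  Subgroup.IsSubnormal.step A H hAH hH ((Subgroup.normal_subgroupOf_iff_le_normalizer hAH).mpr hn)

/-- A perfect subgroup `K` with `⁅⁅K, U⁆, K⁆ = ⊥` centralizes `U`. -/
theorem commutator_eq_bot_of_perfect_of_commutator_commutator {K U : Subgroup G}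
    (hK : ⁅K, K⁆ = K) (h : ⁅⁅K, U⁆, K⁆ = ⊥) : ⁅K, U⁆ = ⊥ := by
  have h2 : ⁅⁅U, K⁆, K⁆ = ⊥ := by rw [Subgroup.commutator_comm U K]; exact h
  have h3 : ⁅⁅K, K⁆, U⁆ = ⊥ := Subgroup.commutator_commutator_eq_bot_of_rotate h h2
  rw [hK] at h3
  exact h3

/-- `E(G) = C_{E(G)}(U) ⁅E(G), U⁆` for every subgroup `U`. -/
theorem layer_eq_centralizer_sup_commutator (U : Subgroup G) :
    Cfsg.layer G = (Cfsg.layer G ⊓ Subgroup.centralizer (U : Set G)) ⊔ ⁅Cfsg.layer G, U⁆ := by
  have hDE : ⁅Cfsg.layer G, U⁆ ≤ Cfsg.layer G := Subgroup.commutator_le_left _ _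
  have hDsn : (⁅Cfsg.layer G, U⁆ : Subgroup G).IsSubnormal :=
    isSubnormal_of_le_normalizer hDE (Subgroup.Normal.isSubnormal inferInstance)
      (le_normalizer_commutator_left _ _)
  apply le_antisymm
  · apply layer_le_of_forall_component_le
    intro K hK
    rcases component_le_or_commutator_eq_bot K _ hK hDsn with h | h
    · exact h.trans le_sup_right
    · refine le_trans ?_ le_sup_left
      apply le_inf (component_le_layer hK)
      rw [← Subgroup.commutator_eq_bot_iff_le_centralizer]
      apply commutator_eq_bot_of_perfect_of_commutator_commutator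
        (Subgroup.isPerfect_iff.mp hK.2.1)
      rw [eq_bot_iff, Subgroup.commutator_comm]
      rw [← h]
      exact Subgroup.commutator_mono le_rfl
        (Subgroup.commutator_mono (component_le_layer hK) le_rfl)
  · exact sup_le inf_le_left hDE

end Cfsg.Agent.Lib.Helper9
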