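/-
Helper9 library: subnormal subgroups of `F*(G)`; `F*(A) ⊓ B = F*(B)` for `B ⊴ A`.
-/
import Cfsg.Agent.Lib.Helper9.FStar3

set_option autoImplicit false

namespace Cfsg.Agent.Lib.Helper9

variable {G : Type*} [Group G]

theorem isNilpotent_of_injective {H K : Type*} [Group H] [Group K] (f : H →* K)
    (hf : Function.Injective f) [hK : Group.IsNilpotent K] : Group.IsNilpotent H := by
  apply Subgroup.isNilpotent_of_ker_le_center f
  rw [(MonoidHom.ker_eq_bot_iff f).mpr hf]
  exact bot_le

/-- A subgroup of `G` contained in a nilpotent subgroup is nilpotent. -/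
theorem isNilpotent_of_le {A B : Subgroup G} (h : A ≤ B) (hB : Group.IsNilpotent ↥B) :
    Group.IsNilpotent ↥A :=
  isNilpotent_of_injective (Subgroup.inclusion h) (Subgroup.inclusion_injective h)

/-- `N.subgroupOf S` is nilpotent if `N` is. -/
theorem isNilpotent_subgroupOf {N : Subgroup G} (S : Subgroup G) (hN : Group.IsNilpotent ↥N) :
    Group.IsNilpotent ↥(N.subgroupOf S) := by
  let f : ↥(N.subgroupOf S) →* ↥N :=
    (S.subtype.comp (N.subgroupOf S).subtype).codRestrict N (fun x => x.2)
  apply isNilpotent_of_injective f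
  intro x y hxy
  have : (f x : G) = (f y : G) := congrArg Subtype.val hxy
  exact Subtype.ext (Subtype.ext this)

/-- For a subnormal subgroup `S` of a finite group, `F(S) = F(G) ⊓ S`. -/
theorem fittingSubgroup_map_subtype_eq_inf [Finite G] {S : Subgroup G} (hS : S.IsSubnormal) :
    (Cfsg.fittingSubgroup ↥S).map S.subtype = Cfsg.fittingSubgroup G ⊓ S := by
  apply le_antisymm
  · exact le_inf (fittingSubgroup_map_subtype_le_of_subnormal hS) (Subgroup.map_subtype_le _)
  · rw [← Subgroup.subgroupOf_map_subtype]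
    apply Subgroup.map_mono
    apply Cfsg.Agent.Lib.Helper1.le_fittingSubgroup
    · exact Subgroup.Normal.subgroupOf inferInstance S
    · exact isNilpotent_subgroupOf S (Cfsg.Agent.Lib.Helper1.fittingSubgroup_isNilpotent G)

/-- The image of the layer under an isomorphism is the layer. -/
theorem layer_map_equiv_le {G' : Type*} [Group G'] (e : G ≃* G') :
    (Cfsg.layer G).map e.toMonoidHom ≤ Cfsg.layer G' := by
  rw [Subgroup.map_le_iff_le_comap]
  apply sSup_le
  intro K hK
  rw [← Subgroup.map_le_iff_le_comap]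
  exact le_sSup (isComponent_map_equiv e hK)

theorem layer_map_equiv {G' : Type*} [Group G'] (e : G ≃* G') :
    (Cfsg.layer G).map e.toMonoidHom = Cfsg.layer G' := by
  apply le_antisymm (layer_map_equiv_le e)
  have h := layer_map_equiv_le e.symm
  have h2 := Subgroup.map_mono (f := e.toMonoidHom) h
  rw [Subgroup.map_map] at h2
  have h3 : e.toMonoidHom.comp e.symm.toMonoidHom = MonoidHom.id G' := by
    ext x; simp
  rwa [h3, Subgroup.map_id] at h2

/-- Relative monotonicity of the layer: if `N` is subnormal in `K` then `E(N) ≤ E(K)`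
as subgroups of `G`. -/
theorem layer_map_subtype_le_of_subnormal_in (N K : Subgroup G) (hNK : N ≤ K)
    (hsn : (N.subgroupOf K).IsSubnormal) :
    (Cfsg.layer ↥N).map N.subtype ≤ (Cfsg.layer ↥K).map K.subtype := by
  have h1 := layer_map_subtype_le (G := ↥K) hsn
  have h2 := Subgroup.map_mono (f := K.subtype) h1
  rw [Subgroup.map_map] at h2
  have h3 : Cfsg.layer ↥N = (Cfsg.layer ↥(N.subgroupOf K)).map
      (Subgroup.subgroupOfEquivOfLe hNK).toMonoidHom :=
    (layer_map_equiv (Subgroup.subgroupOfEquivOfLe hNK)).symm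
  rw [h3, Subgroup.map_map]
  have h4 : N.subtype.comp (Subgroup.subgroupOfEquivOfLe hNK).toMonoidHom =
      K.subtype.comp (N.subgroupOf K).subtype := by
    ext x
    rfl
  rw [h4]
  exact h2

/-- A component of `G` contained in `S` lies in `E(S)`. -/
theorem component_le_layer_map_subtype {K S : Subgroup G} (hK : Cfsg.IsComponent K)
    (hKS : K ≤ S) : K ≤ (Cfsg.layer ↥S).map S.subtype := by
  have h1 : K.subgroupOf S ≤ Cfsg.layer ↥S := component_le_layer (isComponent_subgroupOf hKS hK)
  have h2 := Subgroup.map_mono (f := S.subtype) h1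
  rwa [Subgroup.map_subgroupOf_eq_of_le hKS] at h2

/-- **Subnormal subgroups of `F*(G)`**: if `S ≤ F*(G)` is subnormal in the finite group `G`
then `S ≤ E(S) F(S)`. -/
theorem le_layer_sup_fittingSubgroup_of_subnormal [Finite G] {S : Subgroup G}
    (hS : S.IsSubnormal) (hle : S ≤ Cfsg.generalizedFittingSubgroup G) :
    S ≤ (Cfsg.layer ↥S).map S.subtype ⊔ (Cfsg.fittingSubgroup ↥S).map S.subtype := by
  classical
  rw [fittingSubgroup_map_subtype_eq_inf hS]
  set E := Cfsg.layer G with hE
  set F := Cfsg.fittingSubgroup G with hF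
  set E₁ : Subgroup G := sSup {K : Subgroup G | Cfsg.IsComponent K ∧ K ≤ S} with hE₁
  set E₂ : Subgroup G := sSup {K : Subgroup G | Cfsg.IsComponent K ∧ ⁅K, S⁆ = ⊥} with hE₂
  have hE₁S : E₁ ≤ S := sSup_le (fun K hK => hK.2)
  have hE₁ES : E₁ ≤ (Cfsg.layer ↥S).map S.subtype :=
    sSup_le (fun K hK => component_le_layer_map_subtype hK.1 hK.2)
  have hE₂C : E₂ ≤ Subgroup.centralizer (S : Set G) :=
    sSup_le (fun K hK => Subgroup.commutator_eq_bot_iff_le_centralizer.mp hK.2)
  have hSC : S ≤ Subgroup.centralizer (E₂ : Set G) := Subgroup.le_centralizer_iff.mp hE₂C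
  have hEle : E ≤ E₁ ⊔ E₂ := by
    apply layer_le_of_forall_component_le
    intro K hK
    rcases component_le_or_commutator_eq_bot K S hK hS with h | h
    · have hm : K ∈ {K : Subgroup G | Cfsg.IsComponent K ∧ K ≤ S} := ⟨hK, h⟩
      exact (le_sSup hm).trans le_sup_left
    · have hm : K ∈ {K : Subgroup G | Cfsg.IsComponent K ∧ ⁅K, S⁆ = ⊥} := ⟨hK, h⟩
      exact (le_sSup hm).trans le_sup_right
  have hE₂E : E₂ ≤ E := sSup_le (fun K hK => component_le_layer hK.1)
  have hFC : F ≤ Subgroup.centralizer (E : Set G) :=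
    Subgroup.le_centralizer_iff.mp layer_le_centralizer_fittingSubgroup
  intro s hs
  have hs' := hle hs
  unfold Cfsg.generalizedFittingSubgroup at hs'
  obtain ⟨e, he, f, hf, rfl⟩ := Subgroup.mem_sup_of_normal_right.mp hs'
  have he' : e ∈ ((E₁ ⊔ E₂ : Subgroup G) : Set G) := hEle he
  rw [Subgroup.coe_mul_of_left_le_normalizer_right E₁ E₂
    ((hE₁S.trans hSC).trans (Subgroup.centralizer_le_normalizer _))] at he'
  obtain ⟨e₁, he₁, e₂, he₂, rfl⟩ := Set.mem_mul.mp he'
  have he₁ : e₁ ∈ E₁ := he₁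
  have he₂ : e₂ ∈ E₂ := he₂
  -- `t = e₂ f ∈ S`
  have ht : e₂ * f ∈ S := by
    have : e₂ * f = e₁⁻¹ * (e₁ * e₂ * f) := by group
    rw [this]
    exact S.mul_mem (S.inv_mem (hE₁S he₁)) hs
  -- `e₂` centralizes `E`
  have hcent : e₂ ∈ Subgroup.centralizer (E : Set G) := by
    have h1 : E₁ ≤ Subgroup.centralizer ({e₂} : Set G) := by
      intro x hx
      rw [Subgroup.mem_centralizer_singleton_iff]
      exact ((hE₂C he₂) x (hE₁S hx))
    have h2 : E₂ ≤ Subgroup.centralizer ({e₂} : Set G) := by
      intro x hx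
      rw [Subgroup.mem_centralizer_singleton_iff]
      -- `e₂ = t f⁻¹`, both centralize `x`
      have ht' : x * (e₂ * f) = (e₂ * f) * x := (hSC ht) x hx
      have hf' : f * x = x * f := ((hFC hf) x (hE₂E hx)).symm
      calc x * e₂ = x * (e₂ * f) * f⁻¹ := by group
        _ = e₂ * f * x * f⁻¹ := by rw [ht']
        _ = e₂ * (f * x) * f⁻¹ := by group
        _ = e₂ * (x * f) * f⁻¹ := by rw [hf']
        _ = e₂ * x := by group
    rw [Subgroup.mem_centralizer_iff]
    intro x hx
    have := (sup_le h1 h2) (hEle hx)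
    rw [Subgroup.mem_centralizer_singleton_iff] at this
    exact this
  have he₂F : e₂ ∈ F := by
    have h1 : e₂ ∈ E ⊓ Subgroup.centralizer (E : Set G) := Subgroup.mem_inf.mpr ⟨hE₂E he₂, hcent⟩
    rw [← map_subtype_center, map_subtype_center_layer] at h1
    exact (Subgroup.mem_inf.mp h1).1
  have h3 : e₁ * e₂ * f = e₁ * (e₂ * f) := by group
  rw [h3]
  apply Subgroup.mul_mem
  · exact Subgroup.mem_sup_left (hE₁ES he₁)
  · exact Subgroup.mem_sup_right (Subgroup.mem_inf.mpr ⟨F.mul_mem he₂F hf, ht⟩)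

/-- **Subnormal subgroups of `F*(G)`**: `F(S) E(S) = S`. -/
theorem fittingSubgroup_sup_layer_eq_top_of_subnormal [Finite G] {S : Subgroup G}
    (hS : S.IsSubnormal) (hle : S ≤ Cfsg.generalizedFittingSubgroup G) :
    Cfsg.fittingSubgroup ↥S ⊔ Cfsg.layer ↥S = ⊤ := by
  have h := le_layer_sup_fittingSubgroup_of_subnormal hS hle
  rw [← Subgroup.map_sup] at h
  rw [eq_top_iff]
  intro x _
  obtain ⟨y, hy, hyx⟩ := h x.2
  have : y = x := Subtype.ext hyx
  rw [← this, sup_comm]
  exact hy

end Cfsg.Agent.Lib.Helper9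

namespace Cfsg.Agent.Lib.Helper9

variable {G : Type*} [Group G]

/-- `F*(B) ≤ F*(G)` for `B` subnormal in a finite group `G`. -/
theorem generalizedFittingSubgroup_map_subtype_le [Finite G] {B : Subgroup G}
    (hB : B.IsSubnormal) :
    (Cfsg.generalizedFittingSubgroup ↥B).map B.subtype ≤ Cfsg.generalizedFittingSubgroup G := by
  unfold Cfsg.generalizedFittingSubgroup
  rw [Subgroup.map_sup]
  exact sup_le_sup (layer_map_subtype_le hB) (fittingSubgroup_map_subtype_le_of_subnormal hB)

/-- `F*(G) ⊓ B = F*(B)` for `B` normal in a finite group `G`. -/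
theorem generalizedFittingSubgroup_inf_normal [Finite G] (B : Subgroup G) [hB : B.Normal] :
    Cfsg.generalizedFittingSubgroup G ⊓ B =
      (Cfsg.generalizedFittingSubgroup ↥B).map B.subtype := by
  apply le_antisymm
  · set S := Cfsg.generalizedFittingSubgroup G ⊓ B with hS
    have hSn : S.Normal := Subgroup.normal_inf_normal _ _
    have hSB : S ≤ B := inf_le_right
    have h1 := le_layer_sup_fittingSubgroup_of_subnormal hSn.isSubnormal (inf_le_left : S ≤ _)
    refine h1.trans ?_
    have hnorm : (S.subgroupOf B).Normal := Subgroup.Normal.subgroupOf hSn B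
    have h2 := layer_map_subtype_le_of_subnormal_in S B hSB hnorm.isSubnormal
    have h3 := fittingSubgroup_map_subtype_le_of_normal_in S B hSB hnorm
    unfold Cfsg.generalizedFittingSubgroup
    rw [Subgroup.map_sup]
    exact sup_le_sup h2 h3
  · exact le_inf (generalizedFittingSubgroup_map_subtype_le hB.isSubnormal)
      (Subgroup.map_subtype_le _)

end Cfsg.Agent.Lib.Helper9
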