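/-
Helper9 library: basics of `p`-components (`Cfsg.IsPComponent`) and the `p`-layer.
-/
import Cfsg.Agent.Lib.Helper9.FStar4
import Cfsg.Agent.Lib.Helper12.Cores

set_option autoImplicit false

namespace Cfsg.Agent.Lib.Helper9

universe u

variable {X : Type u} [Group X]

/-! ### `O_{p'}` -/

theorem coprime_iff_forall_prime_ne (p n : ℕ) [hp : Fact p.Prime] :
    n.Coprime p ↔ ∀ q : ℕ, q.Prime → q ∣ n → q ∈ {q : ℕ | q ≠ p} := by
  constructor
  · intro h q hq hqn hqp
    have hqp : q = p := hqp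
    subst hqp
    have : q ∣ Nat.gcd n q := Nat.dvd_gcd hqn dvd_rfl
    rw [h] at this
    exact hq.one_lt.ne' (Nat.dvd_one.mp this)
  · intro h
    apply Nat.Coprime.symm
    rw [Nat.Prime.coprime_iff_not_dvd hp.out]
    intro hpn
    exact h p hp.out hpn rfl

/-- `O_{p'}` is the `π`-core for `π = {q ≠ p}`. -/
theorem pPrimeCore_eq_piCore (p : ℕ) [Fact p.Prime] :
    Cfsg.pPrimeCore p X = Cfsg.piCore {q : ℕ | q ≠ p} X := by
  unfold Cfsg.pPrimeCore Cfsg.piCore
  congr 1
  ext N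
  show (N.Normal ∧ (Nat.card ↥N).Coprime p) ↔
    (N.Normal ∧ ∀ q : ℕ, q.Prime → q ∣ Nat.card ↥N → q ∈ {q : ℕ | q ≠ p})
  rw [coprime_iff_forall_prime_ne p (Nat.card ↥N)]

/-- A subnormal subgroup of order prime to `p` lies in `O_{p'}`. -/
theorem subnormal_le_pPrimeCore [Finite X] (p : ℕ) [Fact p.Prime] {H : Subgroup X}
    (hH : H.IsSubnormal) (hc : (Nat.card ↥H).Coprime p) : H ≤ Cfsg.pPrimeCore p X := by
  rw [pPrimeCore_eq_piCore]
  exact Cfsg.Agent.Lib.Helper12.subnormal_le_piCore _ H hH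
    ((coprime_iff_forall_prime_ne p _).mp hc)

/-- `O_{p'}(X / O_{p'}(X)) = 1`. -/
theorem pPrimeCore_quotient_eq_bot [Finite X] (p : ℕ) [Fact p.Prime] :
    Cfsg.pPrimeCore p (X ⧸ Cfsg.pPrimeCore p X) = ⊥ := by
  set O := Cfsg.pPrimeCore p X with hO
  set Nb := Cfsg.pPrimeCore p (X ⧸ O) with hNb
  have hN : Nb.comap (QuotientGroup.mk' O) ≤ O := by
    apply Cfsg.Agent.Lib.Helper12.le_pPrimeCore
    · infer_instance
    · rw [Cfsg.Agent.Lib.Helper12.card_comap_mk']
      exact Nat.Coprime.mul_left (Cfsg.Agent.Lib.Helper12.pPrimeCore_coprime p)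
        (Cfsg.Agent.Lib.Helper12.pPrimeCore_coprime p)
  rw [eq_bot_iff]
  intro x hx
  obtain ⟨y, rfl⟩ := QuotientGroup.mk'_surjective O x
  have : y ∈ O := hN hx
  rw [Subgroup.mem_bot]
  exact (QuotientGroup.eq_one_iff y).mpr this

/-- If `O_{p'}(Q) = 1` then `F(Q) = O_p(Q)`. -/
theorem fittingSubgroup_eq_pCore_of_pPrimeCore_eq_bot {Q : Type*} [Group Q] [Finite Q] (p : ℕ)
    [Fact p.Prime] (h : Cfsg.pPrimeCore p Q = ⊥) : Cfsg.fittingSubgroup Q = Cfsg.pCore p Q := by
  apply le_antisymm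
  · rw [Cfsg.Agent.Lib.Helper1.fittingSubgroup_eq_iSup_pCore]
    apply iSup_le
    intro q
    have hq : Fact (Nat.Prime (q : ℕ)) := ⟨q.2⟩
    by_cases hqp : (q : ℕ) = p
    · rw [hqp]
    · have h1 : Cfsg.pCore (q : ℕ) Q ≤ Cfsg.pPrimeCore p Q := by
        apply Cfsg.Agent.Lib.Helper12.le_pPrimeCore p _ inferInstance
        obtain ⟨n, hn⟩ := IsPGroup.iff_card.mp (Cfsg.Agent.Lib.Helper1.pCore_isPGroup (q : ℕ) Q)
        rw [hn]
        apply Nat.Coprime.pow_left
        exact (Nat.coprime_primes q.2 (Fact.out : p.Prime)).mpr hqp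
      rw [h] at h1
      exact h1.trans bot_le
  · exact Cfsg.Agent.Lib.Helper1.le_fittingSubgroup inferInstance
      (Cfsg.Agent.Lib.Helper1.pCore_isPGroup p Q).isNilpotent

end Cfsg.Agent.Lib.Helper9

namespace Cfsg.Agent.Lib.Helper9

universe u

variable {X : Type u} [Group X]

/-! ### `p`-components -/

/-- A `p`-component is perfect. -/
theorem IsPComponent_commutator_eq {p : ℕ} {K : Subgroup X} (hK : Cfsg.IsPComponent p K) :
    ⁅K, K⁆ = K := by
  obtain ⟨hsn, hcomp, hmin⟩ := hK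
  apply hmin ⁅K, K⁆
  · exact isSubnormal_of_le_normalizer (Subgroup.commutator_le_self K) hsn
      (le_normalizer_commutator_left K K)
  · exact Subgroup.commutator_le_self K
  · rw [Subgroup.map_commutator]
    exact Subgroup.isPerfect_iff.mp hcomp.2.1

/-- The image of a `p`-component in `X / O_{p'}(X)` is nontrivial. -/
theorem IsPComponent_map_ne_bot {p : ℕ} {K : Subgroup X} (hK : Cfsg.IsPComponent p K) :
    K.map (QuotientGroup.mk' (Cfsg.pPrimeCore p X)) ≠ ⊥ := by
  intro h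
  have h2 : Group.IsSolvable ↥(⊥ : Subgroup (X ⧸ Cfsg.pPrimeCore p X)) := inferInstance
  exact component_not_le_of_isSolvable hK.2.1 h2 (le_of_eq h)

/-- A `p`-component is not contained in `O_{p'}(X)`. -/
theorem IsPComponent_not_le_pPrimeCore {p : ℕ} {K : Subgroup X} (hK : Cfsg.IsPComponent p K) :
    ¬ K ≤ Cfsg.pPrimeCore p X := by
  intro h
  apply IsPComponent_map_ne_bot hK
  rw [eq_bot_iff]
  have := Subgroup.map_mono (f := QuotientGroup.mk' (Cfsg.pPrimeCore p X)) h
  rwa [QuotientGroup.map_mk'_self] at this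

/-- The order of a `p`-component is divisible by `p`. -/
theorem IsPComponent_dvd_card [Finite X] {p : ℕ} [hp : Fact p.Prime] {K : Subgroup X}
    (hK : Cfsg.IsPComponent p K) : p ∣ Nat.card ↥K := by
  by_contra h
  apply IsPComponent_not_le_pPrimeCore hK
  apply subnormal_le_pPrimeCore p hK.1
  exact Nat.Coprime.symm ((Nat.Prime.coprime_iff_not_dvd hp.out).mpr h)

/-- A subgroup of a quasisimple group which is subnormal and perfect is trivial or everything.
Stated inside an ambient group: `H ≤ L`, `H` subnormal in the ambient group, `L` quasisimple,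
`H` perfect. Then `H = ⊥` or `H = L`. -/
theorem eq_bot_or_eq_of_subnormal_perfect_le_quasisimple {Q : Type*} [Group Q] {H L : Subgroup Q}
    (hL : Cfsg.IsQuasisimple ↥L) (hHL : H ≤ L) (hH : H.IsSubnormal) (hperf : ⁅H, H⁆ = H) :
    H = ⊥ ∨ H = L := by
  by_cases htop : H.subgroupOf L = ⊤
  · right
    exact le_antisymm hHL (Subgroup.subgroupOf_eq_top.mp htop)
  · left
    have hc := IsQuasisimple_subnormal_le_center hL (H.subgroupOf L) hH.subgroupOf htop
    have h1 : ⁅H, H⁆ = ⊥ := by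
      rw [Subgroup.commutator_eq_bot_iff_le_centralizer]
      intro a ha
      rw [Subgroup.mem_centralizer_iff]
      intro b hb
      have ha' : (⟨a, hHL ha⟩ : ↥L) ∈ H.subgroupOf L := Subgroup.mem_subgroupOf.mpr ha
      have := Subgroup.mem_center_iff.mp (hc ha') ⟨b, hHL hb⟩
      exact congrArg Subtype.val this
    rw [← hperf, h1]

/-- A `p`-component is minimal among the subnormal perfect subgroups of order divisible by `p`. -/
theorem IsPComponent_eq_of_perfect [Finite X] {p : ℕ} [hp : Fact p.Prime] {K H : Subgroup X}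
    (hK : Cfsg.IsPComponent p K) (hHK : H ≤ K) (hH : H.IsSubnormal) (hperf : ⁅H, H⁆ = H)
    (hdvd : p ∣ Nat.card ↥H) : H = K := by
  set π := QuotientGroup.mk' (Cfsg.pPrimeCore p X) with hπ
  have hsn : (H.map π).IsSubnormal := hH.map (QuotientGroup.mk'_surjective _)
  have hperf' : ⁅H.map π, H.map π⁆ = H.map π := by
    rw [← Subgroup.map_commutator, hperf]
  rcases eq_bot_or_eq_of_subnormal_perfect_le_quasisimple hK.2.1.2 (Subgroup.map_mono hHK)
    hsn hperf' with h | h
  · exfalso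
    have hle : H ≤ Cfsg.pPrimeCore p X := by
      intro x hx
      have : π x ∈ H.map π := Subgroup.mem_map_of_mem π hx
      rw [h, Subgroup.mem_bot] at this
      exact (QuotientGroup.eq_one_iff x).mp this
    have h1 : Nat.card ↥H ∣ Nat.card ↥(Cfsg.pPrimeCore p X) := Subgroup.card_dvd_of_le hle
    have h2 := Cfsg.Agent.Lib.Helper12.pPrimeCore_coprime (X := X) p
    have h3 : p ∣ Nat.gcd (Nat.card ↥(Cfsg.pPrimeCore p X)) p :=
      Nat.dvd_gcd (hdvd.trans h1) dvd_rfl
    rw [h2] at h3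
    exact hp.out.one_lt.ne' (Nat.dvd_one.mp h3)
  · exact hK.2.2 H hH hHK h

/-- Every component of `X / O_{p'}(X)` is the image of a `p`-component of `X`. -/
theorem exists_isPComponent_map_eq [Finite X] (p : ℕ)
    {L : Subgroup (X ⧸ Cfsg.pPrimeCore p X)} (hL : Cfsg.IsComponent L) :
    ∃ K : Subgroup X, Cfsg.IsPComponent p K ∧
      K.map (QuotientGroup.mk' (Cfsg.pPrimeCore p X)) = L := by
  set π := QuotientGroup.mk' (Cfsg.pPrimeCore p X) with hπ
  let S : Set (Subgroup X) := {H | H.IsSubnormal ∧ H.map π = L}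
  have hne : S.Nonempty :=
    ⟨L.comap π, hL.1.comap π,
      Subgroup.map_comap_eq_self_of_surjective (QuotientGroup.mk'_surjective _) L⟩
  obtain ⟨K, hKS, hKmin⟩ := (wellFounded_lt (α := Subgroup X)).has_min S hne
  refine ⟨K, ⟨hKS.1, ?_, ?_⟩, hKS.2⟩
  · rw [hKS.2]; exact hL
  · intro H hH hHK himg
    have hHS : H ∈ S := ⟨hH, himg.trans hKS.2⟩
    rcases eq_or_lt_of_le hHK with h | h
    · exact h
    · exact absurd h (hKmin H hHS)

/-- The `p`-layer is trivial iff `X / O_{p'}(X)` has trivial layer. -/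
theorem pLayer_eq_bot_iff [Finite X] (p : ℕ) :
    Cfsg.pLayer p X = ⊥ ↔ Cfsg.layer (X ⧸ Cfsg.pPrimeCore p X) = ⊥ := by
  constructor
  · intro h
    rw [layer_eq_bot_iff]
    intro L hL
    obtain ⟨K, hK, hKL⟩ := exists_isPComponent_map_eq p hL
    have h1 : K ≤ Cfsg.pLayer p X := le_sSup hK
    rw [h] at h1
    apply IsPComponent_map_ne_bot hK
    rw [eq_bot_iff.mpr h1, Subgroup.map_bot]
  · intro h
    rw [layer_eq_bot_iff] at h
    rw [eq_bot_iff]
    apply sSup_le
    intro K hK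
    exact absurd hK.2.1 (h _)

end Cfsg.Agent.Lib.Helper9
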