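/-
Helper9 library: `p`-constraint (`Cfsg.IsPConstrained`) versus the `p`-layer.
-/
import Cfsg.Agent.Lib.Helper9.PComponent
import Cfsg.Agent.Lib.Helper1.Coprime

set_option autoImplicit false

namespace Cfsg.Agent.Lib.Helper9

universe u

variable {X : Type u} [Group X]

/-- `O_{p',p}(X)` is normal. -/
instance pPrimePCore_normal (p : ℕ) : (Cfsg.pPrimePCore p X).Normal := by
  unfold Cfsg.pPrimePCore
  infer_instance

theorem pPrimeCore_le_pPrimePCore (p : ℕ) : Cfsg.pPrimeCore p X ≤ Cfsg.pPrimePCore p X := by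
  intro x hx
  unfold Cfsg.pPrimePCore
  rw [Subgroup.mem_comap]
  have : QuotientGroup.mk' (Cfsg.pPrimeCore p X) x = 1 := (QuotientGroup.eq_one_iff x).mpr hx
  rw [this]
  exact Subgroup.one_mem _

theorem mem_pPrimePCore_iff (p : ℕ) (x : X) : x ∈ Cfsg.pPrimePCore p X ↔
    QuotientGroup.mk' (Cfsg.pPrimeCore p X) x ∈ Cfsg.pCore p (X ⧸ Cfsg.pPrimeCore p X) :=
  Iff.rfl

/-- A Sylow `p`-subgroup of `O_{p',p}(X)` covers `O_p(X / O_{p'}(X))`. -/
theorem exists_mem_sylow_pPrimePCore_map_eq [Finite X] (p : ℕ) [Fact p.Prime]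
    (P : Sylow p ↥(Cfsg.pPrimePCore p X)) (y : X ⧸ Cfsg.pPrimeCore p X)
    (hy : y ∈ Cfsg.pCore p (X ⧸ Cfsg.pPrimeCore p X)) :
    ∃ x ∈ (P : Subgroup ↥(Cfsg.pPrimePCore p X)).map (Cfsg.pPrimePCore p X).subtype,
      QuotientGroup.mk' (Cfsg.pPrimeCore p X) x = y := by
  let f : ↥(Cfsg.pPrimePCore p X) →* ↥(Cfsg.pCore p (X ⧸ Cfsg.pPrimeCore p X)) :=
    ((QuotientGroup.mk' (Cfsg.pPrimeCore p X)).comp (Cfsg.pPrimePCore p X).subtype).codRestrict
      (Cfsg.pCore p (X ⧸ Cfsg.pPrimeCore p X)) (fun x => x.2)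
  have hf : Function.Surjective f := by
    rintro ⟨z, hz⟩
    obtain ⟨x, rfl⟩ := QuotientGroup.mk'_surjective (Cfsg.pPrimeCore p X) z
    exact ⟨⟨x, hz⟩, rfl⟩
  have hOp : IsPGroup p ↥(Cfsg.pCore p (X ⧸ Cfsg.pPrimeCore p X)) :=
    Cfsg.Agent.Lib.Helper1.pCore_isPGroup p (X ⧸ Cfsg.pPrimeCore p X)
  have htop : ((P.mapSurjective hf : Sylow p ↥(Cfsg.pCore p (X ⧸ Cfsg.pPrimeCore p X))) :
      Subgroup ↥(Cfsg.pCore p (X ⧸ Cfsg.pPrimeCore p X))) = ⊤ := by
    have h1 : IsPGroup p ↥(⊤ : Subgroup ↥(Cfsg.pCore p (X ⧸ Cfsg.pPrimeCore p X))) :=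
      hOp.to_subgroup ⊤
    exact ((P.mapSurjective hf).is_maximal' h1 le_top).symm
  rw [Sylow.coe_mapSurjective] at htop
  have hmem : (⟨y, hy⟩ : ↥(Cfsg.pCore p (X ⧸ Cfsg.pPrimeCore p X))) ∈
      (P : Subgroup ↥(Cfsg.pPrimePCore p X)).map f := by
    rw [htop]; exact Subgroup.mem_top _
  obtain ⟨x, hx, hfx⟩ := hmem
  refine ⟨x.1, ⟨x, hx, rfl⟩, ?_⟩
  exact congrArg Subtype.val hfx

/-- Elements of `C_X(P)` map into `C(O_p(X / O_{p'}(X)))` for `P` a Sylow `p`-subgroup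
of `O_{p',p}(X)`. -/
theorem map_mem_centralizer_pCore_of_mem_centralizer_sylow [Finite X] (p : ℕ) [Fact p.Prime]
    (P : Sylow p ↥(Cfsg.pPrimePCore p X)) {x : X}
    (hx : x ∈ Subgroup.centralizer
      (((P : Subgroup ↥(Cfsg.pPrimePCore p X)).map (Cfsg.pPrimePCore p X).subtype : Subgroup X) :
        Set X)) :
    QuotientGroup.mk' (Cfsg.pPrimeCore p X) x ∈
      Subgroup.centralizer (Cfsg.pCore p (X ⧸ Cfsg.pPrimeCore p X) : Set (X ⧸ Cfsg.pPrimeCore p X)) := by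
  rw [Subgroup.mem_centralizer_iff]
  intro y hy
  obtain ⟨z, hz, rfl⟩ := exists_mem_sylow_pPrimePCore_map_eq p P y hy
  have := (Subgroup.mem_centralizer_iff.mp hx) z hz
  rw [← map_mul, ← map_mul, this]

/-- Elements of `C(O_p(X / O_{p'}(X)))` lift to `C_X(P)` for `P` a Sylow `p`-subgroup
of `O_{p',p}(X)`. -/
theorem exists_mem_centralizer_sylow_of_map_mem_centralizer_pCore [Finite X] (p : ℕ)
    [Fact p.Prime] (P : Sylow p ↥(Cfsg.pPrimePCore p X)) {y : X}
    (hy : QuotientGroup.mk' (Cfsg.pPrimeCore p X) y ∈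
      Subgroup.centralizer (Cfsg.pCore p (X ⧸ Cfsg.pPrimeCore p X) : Set (X ⧸ Cfsg.pPrimeCore p X))) :
    ∃ n ∈ Cfsg.pPrimeCore p X, y * n ∈ Subgroup.centralizer
      (((P : Subgroup ↥(Cfsg.pPrimePCore p X)).map (Cfsg.pPrimePCore p X).subtype : Subgroup X) :
        Set X) := by
  have hP'p : IsPGroup p
      ↥((P : Subgroup ↥(Cfsg.pPrimePCore p X)).map (Cfsg.pPrimePCore p X).subtype) :=
    P.isPGroup'.map (Cfsg.pPrimePCore p X).subtype
  have hP'M : (P : Subgroup ↥(Cfsg.pPrimePCore p X)).map (Cfsg.pPrimePCore p X).subtype ≤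
      Cfsg.pPrimePCore p X := Subgroup.map_subtype_le _
  apply Cfsg.Agent.Lib.Helper1.exists_mul_mem_centralizer
  · exact le_trans le_top (Subgroup.normalizer_eq_top_iff.mpr inferInstance).ge
  · obtain ⟨k, hk⟩ := IsPGroup.iff_card.mp hP'p
    rw [hk]
    apply Nat.Coprime.pow_left
    exact (Cfsg.Agent.Lib.Helper12.pPrimeCore_coprime (X := X) p).symm
  · left
    have := hP'p.isNilpotent
    infer_instance
  · intro a ha
    have h1 : QuotientGroup.mk' (Cfsg.pPrimeCore p X) a ∈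
        Cfsg.pCore p (X ⧸ Cfsg.pPrimeCore p X) := hP'M ha
    have h2 := (Subgroup.mem_centralizer_iff.mp hy) _ h1
    apply (QuotientGroup.eq_one_iff _).mp
    show QuotientGroup.mk' (Cfsg.pPrimeCore p X) (y⁻¹ * a * y * a⁻¹) = 1
    rw [map_mul, map_mul, map_mul, map_inv, map_inv, mul_assoc (_)⁻¹, h2]
    group

end Cfsg.Agent.Lib.Helper9

namespace Cfsg.Agent.Lib.Helper9

universe u

variable {X : Type u} [Group X]

/-- A finite group is `p`-constrained iff `X / O_{p'}(X)` has trivial layer. -/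
theorem isPConstrained_iff_layer_quotient_eq_bot [Finite X] (p : ℕ) [Fact p.Prime] :
    Cfsg.IsPConstrained p X ↔ Cfsg.layer (X ⧸ Cfsg.pPrimeCore p X) = ⊥ := by
  have hF : Cfsg.fittingSubgroup (X ⧸ Cfsg.pPrimeCore p X) =
      Cfsg.pCore p (X ⧸ Cfsg.pPrimeCore p X) :=
    fittingSubgroup_eq_pCore_of_pPrimeCore_eq_bot p (pPrimeCore_quotient_eq_bot p)
  constructor
  · intro hcon
    rw [layer_eq_bot_iff]
    intro L hL
    have P : Sylow p ↥(Cfsg.pPrimePCore p X) := default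
    have hsol : Group.IsSolvable ↥(Cfsg.pCore p (X ⧸ Cfsg.pPrimeCore p X)) := by
      have := (Cfsg.Agent.Lib.Helper1.pCore_isPGroup p (X ⧸ Cfsg.pPrimeCore p X)).isNilpotent
      infer_instance
    apply component_not_le_of_isSolvable hL hsol
    intro z hz
    obtain ⟨y, rfl⟩ := QuotientGroup.mk'_surjective (Cfsg.pPrimeCore p X) z
    have hc : QuotientGroup.mk' (Cfsg.pPrimeCore p X) y ∈ Subgroup.centralizer
        (Cfsg.pCore p (X ⧸ Cfsg.pPrimeCore p X) : Set (X ⧸ Cfsg.pPrimeCore p X)) := by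
      rw [← hF]
      exact layer_le_centralizer_fittingSubgroup (component_le_layer hL hz)
    obtain ⟨n, hn, hyn⟩ := exists_mem_centralizer_sylow_of_map_mem_centralizer_pCore p P hc
    have h1 : y * n ∈ Cfsg.pPrimePCore p X := hcon P hyn
    rw [mem_pPrimePCore_iff] at h1
    have h2 : QuotientGroup.mk' (Cfsg.pPrimeCore p X) (y * n) =
        QuotientGroup.mk' (Cfsg.pPrimeCore p X) y := by
      have hn1 : QuotientGroup.mk' (Cfsg.pPrimeCore p X) n = 1 :=
        (QuotientGroup.eq_one_iff n).mpr hn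
      rw [map_mul, hn1, mul_one]
    rw [h2] at h1
    exact h1
  · intro hE P x hx
    rw [mem_pPrimePCore_iff]
    have h1 := map_mem_centralizer_pCore_of_mem_centralizer_sylow p P hx
    have h2 : Cfsg.generalizedFittingSubgroup (X ⧸ Cfsg.pPrimeCore p X) =
        Cfsg.pCore p (X ⧸ Cfsg.pPrimeCore p X) := by
      unfold Cfsg.generalizedFittingSubgroup
      rw [hE, bot_sup_eq, hF]
    have h3 := centralizer_generalizedFittingSubgroup_le (G := X ⧸ Cfsg.pPrimeCore p X)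
    rw [h2] at h3
    exact h3 h1

/-- A finite group is `p`-constrained iff its `p`-layer is trivial. -/
theorem isPConstrained_iff_pLayer_eq_bot [Finite X] (p : ℕ) [Fact p.Prime] :
    Cfsg.IsPConstrained p X ↔ Cfsg.pLayer p X = ⊥ := by
  rw [isPConstrained_iff_layer_quotient_eq_bot, pLayer_eq_bot_iff]

end Cfsg.Agent.Lib.Helper9
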