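/-
Helper9 library: the extended 2-layer `L*_{2'}(X)` (`Cfsg.extendedTwoLayer`, Def_Balance).
-/
import Cfsg.Agent.Lib.Helper9.PConstrained
import Cfsg.Prelude.Def_Balance

set_option autoImplicit false

open scoped Pointwise

namespace Cfsg.Agent.Lib.Helper9

universe u

variable {X : Type u} [Group X]

/-- `O_{p'}(H)` of a subgroup, viewed in `X`. -/
def pPrimeCoreIn (p : ℕ) (H : Subgroup X) : Subgroup X :=
  (Cfsg.pPrimeCore p ↥H).map H.subtype

theorem pPrimeCoreIn_le (p : ℕ) (H : Subgroup X) : pPrimeCoreIn p H ≤ H :=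
  Subgroup.map_subtype_le _

theorem pPrimeCoreIn_coprime [Finite X] (p : ℕ) (H : Subgroup X) :
    (Nat.card ↥(pPrimeCoreIn p H)).Coprime p := by
  unfold pPrimeCoreIn
  rw [Subgroup.card_map_of_injective H.subtype_injective]
  exact Cfsg.Agent.Lib.Helper12.pPrimeCore_coprime p

/-- Equivariance of `O_{p'}(H)` under automorphisms of the ambient group. -/
theorem pPrimeCoreIn_map_equiv (p : ℕ) (φ : X ≃* X) (H : Subgroup X) :
    pPrimeCoreIn p (H.map φ.toMonoidHom) = (pPrimeCoreIn p H).map φ.toMonoidHom := by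
  unfold pPrimeCoreIn
  have e := Cfsg.Agent.Lib.Helper12.pPrimeCore_map_equiv p
    (H.equivMapOfInjective φ.toMonoidHom φ.injective)
  rw [← e, Subgroup.map_map, Subgroup.map_map]
  congr 1

/-- The centralizer of the image under an automorphism. -/
theorem centralizer_map_equiv (φ : X ≃* X) (A : Subgroup X) :
    Subgroup.centralizer ((A.map φ.toMonoidHom : Subgroup X) : Set X) =
      (Subgroup.centralizer (A : Set X)).map φ.toMonoidHom := by
  ext x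
  constructor
  · intro hx
    refine ⟨φ.symm x, ?_, by simp⟩
    rw [SetLike.mem_coe, Subgroup.mem_centralizer_iff]
    intro a ha
    have h1 := (Subgroup.mem_centralizer_iff.mp hx) (φ a) (Subgroup.mem_map_of_mem _ ha)
    apply φ.injective
    simpa using h1
  · rintro ⟨z, hz, rfl⟩
    rw [Subgroup.mem_centralizer_iff]
    rintro _ ⟨a, ha, rfl⟩
    have h1 := (Subgroup.mem_centralizer_iff.mp hz) a ha
    show φ a * φ z = φ z * φ a
    rw [← map_mul, ← map_mul, h1]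

/-- `O_{p'}(C_X(A))` viewed in `X`. -/
def coreCent (p : ℕ) (A : Subgroup X) : Subgroup X :=
  pPrimeCoreIn p (Subgroup.centralizer (A : Set X))

theorem coreCent_map_equiv (p : ℕ) (φ : X ≃* X) (A : Subgroup X) :
    coreCent p (A.map φ.toMonoidHom) = (coreCent p A).map φ.toMonoidHom := by
  unfold coreCent
  rw [centralizer_map_equiv, pPrimeCoreIn_map_equiv]

/-- Elements normalizing `A` normalize `O_{p'}(C_X(A))`. -/
theorem coreCent_map_conj_of_mem_normalizer (p : ℕ) {A : Subgroup X} {t : X}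
    (ht : t ∈ Subgroup.normalizer (A : Set X)) :
    (coreCent p A).map (MulAut.conj t).toMonoidHom = coreCent p A := by
  rw [← coreCent_map_equiv]
  congr 1
  ext x
  constructor
  · rintro ⟨a, ha, rfl⟩
    exact (Subgroup.mem_normalizer_iff.mp ht a).mp ha
  · intro hx
    refine ⟨t⁻¹ * x * t, ?_, by simp [MulAut.conj_apply, mul_assoc]⟩
    have := (Subgroup.mem_normalizer_iff.mp (Subgroup.inv_mem _ ht) x).mp hx
    simpa using this

end Cfsg.Agent.Lib.Helper9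

namespace Cfsg.Agent.Lib.Helper9

universe u

variable {X : Type u} [Group X]

/-- Two Sylow `p`-subgroups of a subgroup `Y`, viewed in `X`, are conjugate under `Y`. -/
theorem exists_sylow_map_subtype_eq_map_conj [Finite X] (p : ℕ) [Fact p.Prime] (Y : Subgroup X)
    (T T' : Sylow p ↥Y) : ∃ y ∈ Y, (T' : Subgroup ↥Y).map Y.subtype =
      ((T : Subgroup ↥Y).map Y.subtype).map (MulAut.conj y).toMonoidHom := by
  obtain ⟨y, hy⟩ := MulAction.exists_smul_eq (↥Y) T T'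
  refine ⟨y.1, y.2, ?_⟩
  have h1 : (T' : Subgroup ↥Y) = MulAut.conj y • (T : Subgroup ↥Y) := by
    rw [← hy]; rfl
  rw [h1]
  ext x
  constructor
  · rintro ⟨z, hz, rfl⟩
    obtain ⟨s, hs, rfl⟩ := (Subgroup.mem_smul_pointwise_iff_exists _ _ _).mp hz
    exact ⟨s.1, ⟨s, hs, rfl⟩, rfl⟩
  · rintro ⟨_, ⟨s, hs, rfl⟩, rfl⟩
    exact ⟨MulAut.conj y • s, Subgroup.smul_mem_pointwise_smul _ _ _ hs, rfl⟩

/-- `L_{p'}(X) O_{p',p}(X) = (L_{p'}(X) O_{p'}(X)) T` for `T` a Sylow `p`-subgroup of the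
left-hand side. -/
theorem exists_mul_of_mem_pLayer_sup_pPrimePCore [Finite X] (p : ℕ) [Fact p.Prime]
    (T : Sylow p ↥(Cfsg.pLayer p X ⊔ Cfsg.pPrimePCore p X)) {y : X}
    (hy : y ∈ Cfsg.pLayer p X ⊔ Cfsg.pPrimePCore p X) :
    ∃ r ∈ Cfsg.pLayer p X ⊔ Cfsg.pPrimeCore p X,
      ∃ t ∈ (T : Subgroup ↥(Cfsg.pLayer p X ⊔ Cfsg.pPrimePCore p X)).map
        (Cfsg.pLayer p X ⊔ Cfsg.pPrimePCore p X).subtype, y = r * t := by
  obtain ⟨l, hl, m, hm, rfl⟩ := Subgroup.mem_sup_of_normal_right.mp hy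
  have P : Sylow p ↥(Cfsg.pPrimePCore p X) := default
  have hMY : Cfsg.pPrimePCore p X ≤ Cfsg.pLayer p X ⊔ Cfsg.pPrimePCore p X := le_sup_right
  have hP'M : (P : Subgroup ↥(Cfsg.pPrimePCore p X)).map (Cfsg.pPrimePCore p X).subtype ≤
      Cfsg.pPrimePCore p X := Subgroup.map_subtype_le _
  have hP'p : IsPGroup p
      ↥((P : Subgroup ↥(Cfsg.pPrimePCore p X)).map (Cfsg.pPrimePCore p X).subtype) :=
    P.isPGroup'.map _
  obtain ⟨T'', hT''⟩ := IsPGroup.exists_le_sylow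
    (hP'p.comap_subtype (K := Cfsg.pLayer p X ⊔ Cfsg.pPrimePCore p X))
  obtain ⟨y₁, hy₁, hconj⟩ := exists_sylow_map_subtype_eq_map_conj p _ T T''
  have hP'le : (P : Subgroup ↥(Cfsg.pPrimePCore p X)).map (Cfsg.pPrimePCore p X).subtype ≤
      ((T : Subgroup ↥(Cfsg.pLayer p X ⊔ Cfsg.pPrimePCore p X)).map
        (Cfsg.pLayer p X ⊔ Cfsg.pPrimePCore p X).subtype).map (MulAut.conj y₁).toMonoidHom := by
    rw [← hconj]
    intro u hu
    exact ⟨⟨u, hMY (hP'M hu)⟩, hT'' (Subgroup.mem_comap.mpr hu), rfl⟩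
  -- `m₁ = y₁ m y₁⁻¹ ∈ M`
  have hm₁ : y₁ * m * y₁⁻¹ ∈ Cfsg.pPrimePCore p X :=
    (inferInstance : (Cfsg.pPrimePCore p X).Normal).conj_mem m hm y₁
  obtain ⟨u, hu, hum⟩ := exists_mem_sylow_pPrimePCore_map_eq p P _
    ((mem_pPrimePCore_iff p _).mp hm₁)
  obtain ⟨t, ht, htu⟩ := hP'le hu
  have htu : y₁ * t * y₁⁻¹ = u := by rw [← htu]; rfl
  have ho₁ : y₁ * m * y₁⁻¹ * u⁻¹ ∈ Cfsg.pPrimeCore p X := by
    apply (QuotientGroup.eq_one_iff _).mp
    show QuotientGroup.mk' (Cfsg.pPrimeCore p X) (y₁ * m * y₁⁻¹ * u⁻¹) = 1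
    rw [map_mul, map_inv, hum, mul_inv_cancel]
  have ho : y₁⁻¹ * (y₁ * m * y₁⁻¹ * u⁻¹) * y₁ ∈ Cfsg.pPrimeCore p X := by
    have := (inferInstance : (Cfsg.pPrimeCore p X).Normal).conj_mem _ ho₁ y₁⁻¹
    simpa using this
  refine ⟨l * (y₁⁻¹ * (y₁ * m * y₁⁻¹ * u⁻¹) * y₁), ?_, t, ht, ?_⟩
  · exact Subgroup.mul_mem _ (Subgroup.mem_sup_left hl) (Subgroup.mem_sup_right ho)
  · rw [← htu]; group

end Cfsg.Agent.Lib.Helper9

namespace Cfsg.Agent.Lib.Helper9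

universe u

variable {X : Type u} [Group X]

/-- The extended 2-layer, in terms of `coreCent`. -/
theorem extendedTwoLayer_def' : Cfsg.extendedTwoLayer X =
    Cfsg.pLayer 2 X ⊔ Cfsg.oddCore X ⊔
      ⨆ T : Sylow 2 ↥(Cfsg.pLayer 2 X ⊔ Cfsg.pPrimePCore 2 X),
        coreCent 2 ((T : Subgroup ↥(Cfsg.pLayer 2 X ⊔ Cfsg.pPrimePCore 2 X)).map
          (Cfsg.pLayer 2 X ⊔ Cfsg.pPrimePCore 2 X).subtype) := rfl

/-- Conjugates of `O(C_X(T))` under `L_{2'}(X) O_{2',2}(X)` stay inside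
`L_{2'}(X) O(X) O(C_X(T))`. -/
theorem coreCent_sylow_le [Finite X] (p : ℕ) [Fact p.Prime]
    (T T' : Sylow p ↥(Cfsg.pLayer p X ⊔ Cfsg.pPrimePCore p X)) :
    coreCent p ((T' : Subgroup ↥(Cfsg.pLayer p X ⊔ Cfsg.pPrimePCore p X)).map
        (Cfsg.pLayer p X ⊔ Cfsg.pPrimePCore p X).subtype) ≤
      Cfsg.pLayer p X ⊔ Cfsg.pPrimeCore p X ⊔
        coreCent p ((T : Subgroup ↥(Cfsg.pLayer p X ⊔ Cfsg.pPrimePCore p X)).map
          (Cfsg.pLayer p X ⊔ Cfsg.pPrimePCore p X).subtype) := by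
  obtain ⟨y, hy, hconj⟩ := exists_sylow_map_subtype_eq_map_conj p _ T T'
  obtain ⟨r, hr, t, ht, rfl⟩ := exists_mul_of_mem_pLayer_sup_pPrimePCore p T hy
  rw [hconj, coreCent_map_equiv]
  have hmul : (MulAut.conj (r * t)).toMonoidHom =
      (MulAut.conj r).toMonoidHom.comp (MulAut.conj t).toMonoidHom := by
    ext x
    simp [MulAut.conj_apply, mul_assoc]
  rw [hmul, ← Subgroup.map_map,
    coreCent_map_conj_of_mem_normalizer p (Subgroup.le_normalizer ht)]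
  rintro _ ⟨w, hw, rfl⟩
  show MulAut.conj r w ∈ _
  rw [MulAut.conj_apply]
  have hr' : r ∈ Cfsg.pLayer p X ⊔ Cfsg.pPrimeCore p X ⊔
      coreCent p ((T : Subgroup ↥(Cfsg.pLayer p X ⊔ Cfsg.pPrimePCore p X)).map
        (Cfsg.pLayer p X ⊔ Cfsg.pPrimePCore p X).subtype) := Subgroup.mem_sup_left hr
  have hw' : w ∈ Cfsg.pLayer p X ⊔ Cfsg.pPrimeCore p X ⊔
      coreCent p ((T : Subgroup ↥(Cfsg.pLayer p X ⊔ Cfsg.pPrimePCore p X)).map
        (Cfsg.pLayer p X ⊔ Cfsg.pPrimePCore p X).subtype) := Subgroup.mem_sup_right hw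
  exact Subgroup.mul_mem _ (Subgroup.mul_mem _ hr' hw') (Subgroup.inv_mem _ hr')

/-- One Sylow 2-subgroup suffices in the definition of the extended 2-layer. -/
theorem extendedTwoLayer_eq [Finite X]
    (T : Sylow 2 ↥(Cfsg.pLayer 2 X ⊔ Cfsg.pPrimePCore 2 X)) :
    Cfsg.extendedTwoLayer X = Cfsg.pLayer 2 X ⊔ Cfsg.oddCore X ⊔
      coreCent 2 ((T : Subgroup ↥(Cfsg.pLayer 2 X ⊔ Cfsg.pPrimePCore 2 X)).map
        (Cfsg.pLayer 2 X ⊔ Cfsg.pPrimePCore 2 X).subtype) := by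
  have : Fact (Nat.Prime 2) := ⟨Nat.prime_two⟩
  rw [extendedTwoLayer_def']
  apply le_antisymm
  · apply sup_le le_sup_left
    apply iSup_le
    intro T'
    exact coreCent_sylow_le 2 T T'
  · exact sup_le_sup_left (le_iSup (fun T : Sylow 2 ↥(Cfsg.pLayer 2 X ⊔ Cfsg.pPrimePCore 2 X) =>
      coreCent 2 ((T : Subgroup ↥(Cfsg.pLayer 2 X ⊔ Cfsg.pPrimePCore 2 X)).map
        (Cfsg.pLayer 2 X ⊔ Cfsg.pPrimePCore 2 X).subtype)) T) _

end Cfsg.Agent.Lib.Helper9
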