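/-
Helper9 library: `p`-components and the `p`-layer under isomorphisms; the `p`-layer is
characteristic.
-/
import Cfsg.Agent.Lib.Helper9.PComponent

set_option autoImplicit false

namespace Cfsg.Agent.Lib.Helper9

variable {X : Type*} [Group X] {X' : Type*} [Group X']

/-- The isomorphism `X / O_{p'}(X) ≃* X' / O_{p'}(X')` induced by `e : X ≃* X'`. -/
noncomputable def quotientPPrimeCoreEquiv (p : ℕ) (e : X ≃* X') :
    X ⧸ Cfsg.pPrimeCore p X ≃* X' ⧸ Cfsg.pPrimeCore p X' :=
  QuotientGroup.congr (Cfsg.pPrimeCore p X) (Cfsg.pPrimeCore p X') e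
    (Cfsg.Agent.Lib.Helper12.pPrimeCore_map_equiv p e)

theorem map_map_mk'_pPrimeCore (p : ℕ) (e : X ≃* X') (A : Subgroup X) :
    (A.map e.toMonoidHom).map (QuotientGroup.mk' (Cfsg.pPrimeCore p X')) =
      (A.map (QuotientGroup.mk' (Cfsg.pPrimeCore p X))).map
        (quotientPPrimeCoreEquiv p e).toMonoidHom := by
  rw [Subgroup.map_map, Subgroup.map_map]
  congr 1

/-- The image of a `p`-component under an isomorphism is a `p`-component. -/
theorem isPComponent_map_equiv (p : ℕ) (e : X ≃* X') {K : Subgroup X}
    (hK : Cfsg.IsPComponent p K) : Cfsg.IsPComponent p (K.map e.toMonoidHom) := by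
  obtain ⟨hsn, hcomp, hmin⟩ := hK
  refine ⟨hsn.map e.surjective, ?_, ?_⟩
  · rw [map_map_mk'_pPrimeCore]
    exact isComponent_map_equiv _ hcomp
  · intro H hH hHK himg
    have hsymm : ∀ A : Subgroup X', (A.map e.symm.toMonoidHom).map e.toMonoidHom = A := by
      intro A
      rw [Subgroup.map_map]
      have : e.toMonoidHom.comp e.symm.toMonoidHom = MonoidHom.id X' := by ext x; simp
      rw [this, Subgroup.map_id]
    have hsymm' : ∀ A : Subgroup X, (A.map e.toMonoidHom).map e.symm.toMonoidHom = A := by
      intro A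
      rw [Subgroup.map_map]
      have : e.symm.toMonoidHom.comp e.toMonoidHom = MonoidHom.id X := by ext x; simp
      rw [this, Subgroup.map_id]
    have h1 : H.map e.symm.toMonoidHom = K := by
      apply hmin
      · exact hH.map e.symm.surjective
      · have := Subgroup.map_mono (f := e.symm.toMonoidHom) hHK
        rwa [hsymm'] at this
      · have h2 := map_map_mk'_pPrimeCore p e (H.map e.symm.toMonoidHom)
        rw [hsymm, himg, map_map_mk'_pPrimeCore] at h2
        exact (Subgroup.map_injective (quotientPPrimeCoreEquiv p e).injective h2).symm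
    rw [← h1, hsymm]

/-- The `p`-layer is mapped onto the `p`-layer by an isomorphism. -/
theorem pLayer_map_equiv_le (p : ℕ) (e : X ≃* X') :
    (Cfsg.pLayer p X).map e.toMonoidHom ≤ Cfsg.pLayer p X' := by
  rw [Subgroup.map_le_iff_le_comap]
  apply sSup_le
  intro K hK
  rw [← Subgroup.map_le_iff_le_comap]
  exact le_sSup (isPComponent_map_equiv p e hK)

/-- The `p`-layer is characteristic. -/
instance pLayer_characteristic (p : ℕ) : (Cfsg.pLayer p X).Characteristic := by
  rw [Subgroup.characteristic_iff_map_le]
  intro φ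
  exact pLayer_map_equiv_le p φ

/-- The `p`-layer is normal. -/
instance pLayer_normal (p : ℕ) : (Cfsg.pLayer p X).Normal := inferInstance

end Cfsg.Agent.Lib.Helper9
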