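/-
Helper9 library: the extended 2-layer is normal; `L*_{2'}(X) = L_{2'}(X) F` with `F` of odd order
normalized by a Sylow 2-subgroup.
-/
import Cfsg.Agent.Lib.Helper9.ExtLayer
import Cfsg.Agent.Lib.Helper9.PComponentEquiv

set_option autoImplicit false

open scoped Pointwise

namespace Cfsg.Agent.Lib.Helper9

universe u

variable {X : Type u} [Group X]

theorem mem_normalizer_of_map_conj_eq {W : Subgroup X} {t : X}
    (h : W.map (MulAut.conj t).toMonoidHom = W) : t ∈ Subgroup.normalizer (W : Set X) := by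
  rw [Subgroup.mem_normalizer_iff]
  intro x
  constructor
  · intro hx
    rw [← h]
    exact ⟨x, hx, rfl⟩
  · intro hx
    rw [← h] at hx
    obtain ⟨w, hw, hwx⟩ := hx
    have : w = x := (MulAut.conj t).injective hwx
    rwa [← this]

theorem map_conj_eq_of_mem_normalizer {W : Subgroup X} {t : X}
    (ht : t ∈ Subgroup.normalizer (W : Set X)) : W.map (MulAut.conj t).toMonoidHom = W := by
  ext x
  constructor
  · rintro ⟨a, ha, rfl⟩
    exact (Subgroup.mem_normalizer_iff.mp ht a).mp ha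
  · intro hx
    refine ⟨t⁻¹ * x * t, ?_, by simp [MulAut.conj_apply, mul_assoc]⟩
    have := (Subgroup.mem_normalizer_iff.mp (Subgroup.inv_mem _ ht) x).mp hx
    simpa using this

theorem mem_normalizer_sup {A B : Subgroup X} {t : X}
    (hA : t ∈ Subgroup.normalizer (A : Set X)) (hB : t ∈ Subgroup.normalizer (B : Set X)) :
    t ∈ Subgroup.normalizer ((A ⊔ B : Subgroup X) : Set X) := by
  apply mem_normalizer_of_map_conj_eq
  rw [Subgroup.map_sup, map_conj_eq_of_mem_normalizer hA, map_conj_eq_of_mem_normalizer hB]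

/-- For `Y` normal in `X` and `T` a Sylow `p`-subgroup of `Y`, the conjugate by `g ∈ X` is again
(the image of) a Sylow `p`-subgroup of `Y`. -/
theorem exists_sylow_map_subtype_eq_map_conj_of_normal (p : ℕ) [Fact p.Prime] (Y : Subgroup X)
    [hY : Y.Normal] (T : Sylow p ↥Y) (g : X) : ∃ T' : Sylow p ↥Y,
      (T' : Subgroup ↥Y).map Y.subtype =
        ((T : Subgroup ↥Y).map Y.subtype).map (MulAut.conj g).toMonoidHom := by
  refine ⟨(MulAut.conjNormal g : MulAut ↥Y) • T, ?_⟩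
  rw [Sylow.pointwise_smul_def]
  ext x
  constructor
  · rintro ⟨z, hz, rfl⟩
    obtain ⟨s, hs, rfl⟩ := (Subgroup.mem_smul_pointwise_iff_exists _ _ _).mp hz
    exact ⟨s.1, ⟨s, hs, rfl⟩, rfl⟩
  · rintro ⟨_, ⟨s, hs, rfl⟩, rfl⟩
    exact ⟨(MulAut.conjNormal g : MulAut ↥Y) • s,
      Subgroup.smul_mem_pointwise_smul _ _ _ hs, rfl⟩

instance pLayer_sup_pPrimePCore_normal (p : ℕ) :
    (Cfsg.pLayer p X ⊔ Cfsg.pPrimePCore p X).Normal :=
  Subgroup.sup_normal _ _

/-- The extended 2-layer is normal. -/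
theorem extendedTwoLayer_normal [Finite X] : (Cfsg.extendedTwoLayer X).Normal := by
  have h2 : Fact (Nat.Prime 2) := ⟨Nat.prime_two⟩
  have T : Sylow 2 ↥(Cfsg.pLayer 2 X ⊔ Cfsg.pPrimePCore 2 X) := default
  constructor
  intro n hn g
  have key : (Cfsg.extendedTwoLayer X).map (MulAut.conj g).toMonoidHom ≤
      Cfsg.extendedTwoLayer X := by
    nth_rewrite 1 [extendedTwoLayer_eq T]
    rw [Subgroup.map_sup, Subgroup.map_sup]
    apply sup_le
    · apply sup_le
      · rw [map_conj_eq_of_mem_normalizer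
          (((Subgroup.normalizer_eq_top_iff.mpr (pLayer_normal 2)).ge) (Subgroup.mem_top g))]
        rw [extendedTwoLayer_def']
        exact le_sup_of_le_left le_sup_left
      · rw [map_conj_eq_of_mem_normalizer
          (((Subgroup.normalizer_eq_top_iff.mpr (Cfsg.pPrimeCore_normal 2 X)).ge)
            (Subgroup.mem_top g))]
        rw [extendedTwoLayer_def']
        exact le_sup_of_le_left le_sup_right
    · obtain ⟨T', hT'⟩ := exists_sylow_map_subtype_eq_map_conj_of_normal 2 _ T g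
      rw [← coreCent_map_equiv, ← hT', extendedTwoLayer_def']
      exact le_sup_of_le_right (le_iSup (fun T : Sylow 2 ↥(Cfsg.pLayer 2 X ⊔
        Cfsg.pPrimePCore 2 X) => coreCent 2 ((T : Subgroup ↥(Cfsg.pLayer 2 X ⊔
        Cfsg.pPrimePCore 2 X)).map (Cfsg.pLayer 2 X ⊔ Cfsg.pPrimePCore 2 X).subtype)) T')
  exact key ⟨n, hn, rfl⟩

end Cfsg.Agent.Lib.Helper9

namespace Cfsg.Agent.Lib.Helper9

universe u

variable {X : Type u} [Group X]

/-- A Sylow `p`-subgroup `T` of a normal subgroup `Y` is normalized by any Sylow `p`-subgroup of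
`X` containing it. -/
theorem sylow_le_normalizer_of_sylow_normal_le [Finite X] (p : ℕ) [Fact p.Prime] (Y : Subgroup X)
    [hY : Y.Normal] (T : Sylow p ↥Y) (S : Sylow p X)
    (hTS : (T : Subgroup ↥Y).map Y.subtype ≤ S) :
    (S : Subgroup X) ≤ Subgroup.normalizer (((T : Subgroup ↥Y).map Y.subtype : Subgroup X) : Set X) := by
  have hA : (T : Subgroup ↥Y).map Y.subtype = (S : Subgroup X) ⊓ Y := by
    apply le_antisymm (le_inf hTS (Subgroup.map_subtype_le _))
    have hQ : IsPGroup p ↥(((S : Subgroup X) ⊓ Y).subgroupOf Y) :=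
      (S.isPGroup'.to_le inf_le_left).comap_subtype
    have hle : (T : Subgroup ↥Y) ≤ ((S : Subgroup X) ⊓ Y).subgroupOf Y := by
      intro t ht
      rw [Subgroup.mem_subgroupOf]
      exact Subgroup.mem_inf.mpr ⟨hTS ⟨t, ht, rfl⟩, t.2⟩
    have := T.is_maximal' hQ hle
    rw [← this, Subgroup.map_subgroupOf_eq_of_le inf_le_right]
  rw [hA]
  intro s hs
  exact mem_normalizer_inf (Subgroup.le_normalizer hs)
    ((Subgroup.normalizer_eq_top_iff.mpr hY).ge (Subgroup.mem_top s))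

/-- `L*_{2'}(X) = L_{2'}(X) F` with `F` of odd order normalized by a Sylow 2-subgroup of `X`. -/
theorem exists_extendedTwoLayer_eq_pLayer_sup [Finite X] : ∃ F : Subgroup X,
    Odd (Nat.card ↥F) ∧ (∃ S : Sylow 2 X, (S : Subgroup X) ≤ Subgroup.normalizer (F : Set X)) ∧
      Cfsg.extendedTwoLayer X = Cfsg.pLayer 2 X ⊔ F := by
  have h2 : Fact (Nat.Prime 2) := ⟨Nat.prime_two⟩
  have T : Sylow 2 ↥(Cfsg.pLayer 2 X ⊔ Cfsg.pPrimePCore 2 X) := default
  obtain ⟨S, hS⟩ := IsPGroup.exists_le_sylow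
    (T.isPGroup'.map (Cfsg.pLayer 2 X ⊔ Cfsg.pPrimePCore 2 X).subtype)
  have hSN := sylow_le_normalizer_of_sylow_normal_le 2 _ T S hS
  refine ⟨Cfsg.oddCore X ⊔ coreCent 2 ((T : Subgroup ↥(Cfsg.pLayer 2 X ⊔
    Cfsg.pPrimePCore 2 X)).map (Cfsg.pLayer 2 X ⊔ Cfsg.pPrimePCore 2 X).subtype), ?_, ⟨S, ?_⟩, ?_⟩
  · rw [← Nat.coprime_two_right, sup_comm]
    apply Nat.Coprime.coprime_dvd_left
      (Cfsg.Agent.Lib.Helper12.card_sup_dvd_of_normal _ (Cfsg.oddCore X))
    exact Nat.Coprime.mul_left (pPrimeCoreIn_coprime 2 _)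
      (Cfsg.Agent.Lib.Helper12.pPrimeCore_coprime 2)
  · intro s hs
    apply mem_normalizer_sup
    · exact (Subgroup.normalizer_eq_top_iff.mpr (Cfsg.pPrimeCore_normal 2 X)).ge
        (Subgroup.mem_top s)
    · exact mem_normalizer_of_map_conj_eq (coreCent_map_conj_of_mem_normalizer 2 (hSN hs))
  · rw [extendedTwoLayer_eq T, sup_assoc]

end Cfsg.Agent.Lib.Helper9
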