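/-
Helper9 library: deeper `p`-component theory: a `p`-component is generated by its `p`-elements,
is the unique `p`-component over its image in `X / O_{p'}(X)`, and is normal in the `p`-layer.
-/
import Cfsg.Agent.Lib.Helper9.PComponentEquiv
import Cfsg.Agent.Lib.Helper9.ExtLayer2
import Cfsg.Agent.Lib.Helper12.PComplement

set_option autoImplicit false

namespace Cfsg.Agent.Lib.Helper9

universe u

variable {X : Type u} [Group X]

/-- **`p`-elements of `J N` lie in `J`** when `J` is subnormal and `N` is a normal `p'`-subgroup. -/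
theorem mem_of_orderOf_eq_pow_of_mem_sup [Finite X] (p : ℕ) [Fact p.Prime] {J N : Subgroup X}
    (hJ : J.IsSubnormal) [hN : N.Normal] (hNp : (Nat.card ↥N).Coprime p) {x : X} {k : ℕ}
    (hxo : orderOf x = p ^ k) (hx : x ∈ J ⊔ N) : x ∈ J := by
  induction hJ with
  | top => exact Subgroup.mem_top x
  | step J K' hle hK' hnorm ih =>
    have hxK' : x ∈ K' := ih (sup_le_sup_right hle N hx)
    obtain ⟨j, hj, n, hn, rfl⟩ := Subgroup.mem_sup_of_normal_right.mp hx
    have hnK' : n ∈ K' := by
      have : n = j⁻¹ * (j * n) := by group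
      rw [this]
      exact K'.mul_mem (K'.inv_mem (hle hj)) hxK'
    -- work in `K' / J`
    let q := QuotientGroup.mk' (J.subgroupOf K')
    have heq : q ⟨j * n, hxK'⟩ = q ⟨n, hnK'⟩ := by
      have h1 : (⟨j * n, hxK'⟩ : ↥K') = ⟨j, hle hj⟩ * ⟨n, hnK'⟩ := rfl
      rw [h1, map_mul]
      have h2 : q ⟨j, hle hj⟩ = 1 := by
        apply (QuotientGroup.eq_one_iff _).mpr
        exact Subgroup.mem_subgroupOf.mpr hj
      rw [h2, one_mul]
    have hd1 : orderOf (q ⟨j * n, hxK'⟩) ∣ p ^ k := by
      have := orderOf_map_dvd q (⟨j * n, hxK'⟩ : ↥K')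
      rwa [← Subgroup.orderOf_coe, hxo] at this
    have hd2 : orderOf (q ⟨j * n, hxK'⟩) ∣ Nat.card ↥N := by
      rw [heq]
      have h3 := orderOf_map_dvd q (⟨n, hnK'⟩ : ↥K')
      rw [← Subgroup.orderOf_coe] at h3
      have h4 : orderOf n ∣ Nat.card ↥N := by
        have := orderOf_dvd_natCard (⟨n, hn⟩ : ↥N)
        rwa [← Subgroup.orderOf_coe] at this
      exact h3.trans h4
    have hone : orderOf (q ⟨j * n, hxK'⟩) = 1 := by
      have hcop : (Nat.card ↥N).Coprime (p ^ k) := Nat.Coprime.pow_right k hNp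
      exact Nat.eq_one_of_dvd_coprimes hcop hd2 hd1
    have hq1 : q ⟨j * n, hxK'⟩ = 1 := orderOf_eq_one_iff.mp hone
    exact Subgroup.mem_subgroupOf.mp ((QuotientGroup.eq_one_iff _).mp hq1)

/-- A finite perfect group with a central Sylow `p`-subgroup has order prime to `p`. -/
theorem coprime_card_of_perfect_of_central_sylow {C : Type*} [Group C] [Finite C] (p : ℕ)
    [Fact p.Prime] (hperf : Group.IsPerfect C) (P : Sylow p C)
    (hP : ∀ x ∈ (P : Subgroup C), ∀ c : C, c * x = x * c) : (Nat.card C).Coprime p := by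
  have hcard := Cfsg.Agent.Lib.Helper12.card_pPrimeCore_mul_of_central_sylow P hP
  have hidx : (Cfsg.pPrimeCore p C).index = Nat.card ↥(P : Subgroup C) := by
    have h1 := Subgroup.card_mul_index (Cfsg.pPrimeCore p C)
    rw [← hcard] at h1
    exact Nat.eq_of_mul_eq_mul_left Nat.card_pos h1
  obtain ⟨k, hk⟩ := IsPGroup.iff_card.mp P.isPGroup'
  have hq : IsPGroup p (C ⧸ Cfsg.pPrimeCore p C) := by
    apply IsPGroup.of_card (n := k)
    rw [← Subgroup.index_eq_card, hidx, hk]
  have hsol : Group.IsSolvable (C ⧸ Cfsg.pPrimeCore p C) := by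
    have := hq.isNilpotent
    infer_instance
  have hperf' : Group.IsPerfect (C ⧸ Cfsg.pPrimeCore p C) :=
    Group.IsPerfect.ofSurjective (f := QuotientGroup.mk' (Cfsg.pPrimeCore p C))
      (QuotientGroup.mk'_surjective _)
  have hsub : Subsingleton (C ⧸ Cfsg.pPrimeCore p C) := by
    by_contra h
    rw [not_subsingleton_iff_nontrivial] at h
    exact Group.IsPerfect.not_isSolvable (C ⧸ Cfsg.pPrimeCore p C) hsol
  have hidx1 : (Cfsg.pPrimeCore p C).index = 1 := by
    rw [Subgroup.index_eq_card]
    exact Nat.card_of_subsingleton 1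
  have htop : Cfsg.pPrimeCore p C = ⊤ := Subgroup.index_eq_one.mp hidx1
  have := Cfsg.Agent.Lib.Helper12.pPrimeCore_coprime (X := C) p
  rw [htop, Subgroup.card_top] at this
  exact this

end Cfsg.Agent.Lib.Helper9

namespace Cfsg.Agent.Lib.Helper9

universe u

variable {X : Type u} [Group X]

/-- The subgroup generated by the `p`-elements of `K`. -/
def pElementsClosure (p : ℕ) (K : Subgroup X) : Subgroup X :=
  Subgroup.closure {x : X | x ∈ K ∧ ∃ k : ℕ, orderOf x = p ^ k}

theorem pElementsClosure_le (p : ℕ) (K : Subgroup X) : pElementsClosure p K ≤ K := by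
  unfold pElementsClosure
  rw [Subgroup.closure_le]
  intro x hx
  exact hx.1

theorem le_normalizer_pElementsClosure (p : ℕ) (K : Subgroup X) :
    K ≤ Subgroup.normalizer (pElementsClosure p K : Set X) := by
  intro g hg
  apply mem_normalizer_of_map_conj_eq
  have key : ∀ g ∈ K, (pElementsClosure p K).map (MulAut.conj g).toMonoidHom ≤
      pElementsClosure p K := by
    intro g hg
    unfold pElementsClosure
    rw [MonoidHom.map_closure, Subgroup.closure_le]
    rintro _ ⟨x, ⟨hxK, k, hk⟩, rfl⟩
    apply Subgroup.subset_closure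
    refine ⟨?_, k, ?_⟩
    · show MulAut.conj g x ∈ K
      rw [MulAut.conj_apply]
      exact K.mul_mem (K.mul_mem hg hxK) (K.inv_mem hg)
    · rw [← hk]
      exact orderOf_injective (MulAut.conj g).toMonoidHom (MulAut.conj g).injective x
  apply le_antisymm (key g hg)
  intro x hx
  have h1 := key g⁻¹ (K.inv_mem hg) ⟨x, hx, rfl⟩
  refine ⟨_, h1, ?_⟩
  simp [MulAut.conj_apply, mul_assoc]

/-- **A `p`-component is generated by its `p`-elements.** -/
theorem IsPComponent_pElementsClosure_eq [Finite X] {p : ℕ} [hp : Fact p.Prime] {K : Subgroup X}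
    (hK : Cfsg.IsPComponent p K) : pElementsClosure p K = K := by
  set π := QuotientGroup.mk' (Cfsg.pPrimeCore p X) with hπ
  set R := pElementsClosure p K with hR
  have hRK : R ≤ K := pElementsClosure_le p K
  have hRsn : R.IsSubnormal :=
    isSubnormal_of_le_normalizer hRK hK.1 (le_normalizer_pElementsClosure p K)
  by_contra hne
  have himg : R.map π ≠ K.map π := fun h => hne (hK.2.2 R hRsn hRK h)
  -- the image of `R` is a proper normal subgroup of the quasisimple group `K.map π`
  have hnorm : ((R.map π).subgroupOf (K.map π)).Normal := by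
    rw [Subgroup.normal_subgroupOf_iff_le_normalizer (Subgroup.map_mono hRK)]
    rintro _ ⟨g, hg, rfl⟩
    have h1 := le_normalizer_pElementsClosure p K hg
    apply mem_normalizer_of_map_conj_eq
    have h2 := map_conj_eq_of_mem_normalizer h1
    rw [Subgroup.map_map]
    have h3 : (MulAut.conj (π g)).toMonoidHom.comp π = π.comp (MulAut.conj g).toMonoidHom := by
      ext x
      simp [MulAut.conj_apply]
    rw [h3, ← Subgroup.map_map, h2]
  have hntop : (R.map π).subgroupOf (K.map π) ≠ ⊤ := by
    intro h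
    apply himg
    exact le_antisymm (Subgroup.map_mono hRK) (Subgroup.subgroupOf_eq_top.mp h)
  have hcen := IsQuasisimple_normal_le_center hK.2.1.2 ((R.map π).subgroupOf (K.map π)) hntop
  -- a Sylow `p`-subgroup of `K.map π` is central
  have f : ↥K →* ↥(K.map π) := π.subgroupMap K
  have hf : Function.Surjective (π.subgroupMap K) := MonoidHom.subgroupMap_surjective π K
  have P : Sylow p ↥K := default
  have hPc : ∀ x ∈ ((P.mapSurjective hf : Sylow p ↥(K.map π)) : Subgroup ↥(K.map π)),
      ∀ c : ↥(K.map π), c * x = x * c := by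
    intro x hx c
    rw [Sylow.coe_mapSurjective] at hx
    obtain ⟨y, hy, rfl⟩ := hx
    obtain ⟨k, hk⟩ := (IsPGroup.iff_orderOf.mp P.isPGroup') ⟨y, hy⟩
    have hyR : (y : X) ∈ R := by
      apply Subgroup.subset_closure
      refine ⟨y.2, k, ?_⟩
      have : orderOf y = orderOf (⟨y, hy⟩ : ↥(P : Subgroup ↥K)) :=
        Subgroup.orderOf_coe (⟨y, hy⟩ : ↥(P : Subgroup ↥K))
      rw [Subgroup.orderOf_coe, this, hk]
    have hmem : π.subgroupMap K y ∈ (R.map π).subgroupOf (K.map π) := by
      rw [Subgroup.mem_subgroupOf]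
      exact ⟨y, hyR, rfl⟩
    exact (Subgroup.mem_center_iff.mp (hcen hmem) c)
  have hcop := coprime_card_of_perfect_of_central_sylow p hK.2.1.2.1
    (P.mapSurjective hf) hPc
  -- so `K.map π` is a subnormal `p'`-subgroup of the quotient, hence trivial
  have hle := subnormal_le_pPrimeCore p hK.2.1.1 hcop
  rw [pPrimeCore_quotient_eq_bot] at hle
  exact IsPComponent_map_ne_bot hK (eq_bot_iff.mpr hle)

end Cfsg.Agent.Lib.Helper9

namespace Cfsg.Agent.Lib.Helper9

universe u

variable {X : Type u} [Group X]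

/-- A `p`-component lies in every subnormal subgroup `J` with `K ≤ J O_{p'}(X)`. -/
theorem IsPComponent_le_of_le_sup [Finite X] {p : ℕ} [Fact p.Prime] {K J : Subgroup X}
    (hK : Cfsg.IsPComponent p K) (hJ : J.IsSubnormal) (hle : K ≤ J ⊔ Cfsg.pPrimeCore p X) :
    K ≤ J := by
  rw [← IsPComponent_pElementsClosure_eq hK]
  unfold pElementsClosure
  rw [Subgroup.closure_le]
  rintro x ⟨hxK, k, hk⟩
  exact mem_of_orderOf_eq_pow_of_mem_sup p hJ (Cfsg.Agent.Lib.Helper12.pPrimeCore_coprime p) hk
    (hle hxK)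

/-- A `p`-component lies in every subnormal subgroup whose image mod `O_{p'}(X)` contains
the image of `K`. -/
theorem IsPComponent_le_of_map_le [Finite X] {p : ℕ} [Fact p.Prime] {K J : Subgroup X}
    (hK : Cfsg.IsPComponent p K) (hJ : J.IsSubnormal)
    (hle : K.map (QuotientGroup.mk' (Cfsg.pPrimeCore p X)) ≤
      J.map (QuotientGroup.mk' (Cfsg.pPrimeCore p X))) : K ≤ J := by
  apply IsPComponent_le_of_le_sup hK hJ
  have h1 := Subgroup.comap_mono (f := QuotientGroup.mk' (Cfsg.pPrimeCore p X)) hle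
  rw [Subgroup.comap_map_eq, Subgroup.comap_map_eq, QuotientGroup.ker_mk'] at h1
  exact le_sup_left.trans h1

/-- **Uniqueness**: a `p`-component is determined by its image in `X / O_{p'}(X)`. -/
theorem IsPComponent_eq_of_map_eq [Finite X] {p : ℕ} [Fact p.Prime] {K K' : Subgroup X}
    (hK : Cfsg.IsPComponent p K) (hK' : Cfsg.IsPComponent p K')
    (h : K.map (QuotientGroup.mk' (Cfsg.pPrimeCore p X)) =
      K'.map (QuotientGroup.mk' (Cfsg.pPrimeCore p X))) : K = K' :=
  le_antisymm (IsPComponent_le_of_map_le hK hK'.1 h.le) (IsPComponent_le_of_map_le hK' hK.1 h.ge)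

/-- `p`-components have no proper normal subgroups of index prime to `p`. -/
theorem IsPComponent_eq_top_of_coprime_index [Finite X] {p : ℕ} [Fact p.Prime] {K : Subgroup X}
    (hK : Cfsg.IsPComponent p K) (M : Subgroup ↥K) [hM : M.Normal] (hidx : (M.index).Coprime p) :
    M = ⊤ := by
  rw [eq_top_iff]
  have key : K ≤ M.map K.subtype := by
    nth_rewrite 1 [← IsPComponent_pElementsClosure_eq hK]
    unfold pElementsClosure
    rw [Subgroup.closure_le]
    rintro x ⟨hxK, k, hk⟩
    refine ⟨⟨x, hxK⟩, ?_, rfl⟩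
    -- the image of `x` in `K / M` has order dividing `p ^ k` and `M.index`
    apply (QuotientGroup.eq_one_iff (N := M) _).mp
    apply orderOf_eq_one_iff.mp
    have h1 : orderOf ((⟨x, hxK⟩ : ↥K) : ↥K ⧸ M) ∣ p ^ k := by
      have := orderOf_map_dvd (QuotientGroup.mk' M) (⟨x, hxK⟩ : ↥K)
      rwa [← Subgroup.orderOf_coe, hk] at this
    have h2 : orderOf ((⟨x, hxK⟩ : ↥K) : ↥K ⧸ M) ∣ M.index := by
      rw [Subgroup.index_eq_card]
      exact orderOf_dvd_natCard _
    exact Nat.eq_one_of_dvd_coprimes (Nat.Coprime.pow_right k hidx) h2 h1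
  intro y _
  obtain ⟨z, hz, hzy⟩ := key y.2
  have : z = y := Subtype.ext hzy
  rwa [← this]

/-- If the image of `g` normalizes the image of the `p`-component `K` in `X / O_{p'}(X)`,
then `g` normalizes `K`. -/
theorem IsPComponent_map_conj_eq [Finite X] {p : ℕ} [Fact p.Prime] {K : Subgroup X}
    (hK : Cfsg.IsPComponent p K) (g : X)
    (hg : (K.map (QuotientGroup.mk' (Cfsg.pPrimeCore p X))).map
        (MulAut.conj (QuotientGroup.mk' (Cfsg.pPrimeCore p X) g)).toMonoidHom =
      K.map (QuotientGroup.mk' (Cfsg.pPrimeCore p X))) :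
    K.map (MulAut.conj g).toMonoidHom = K := by
  apply IsPComponent_eq_of_map_eq (isPComponent_map_equiv p (MulAut.conj g) hK) hK
  rw [← hg, Subgroup.map_map, Subgroup.map_map]
  congr 1

/-- `O_{p'}(X)` normalizes every `p`-component. -/
theorem pPrimeCore_le_normalizer_pComponent [Finite X] {p : ℕ} [Fact p.Prime] {K : Subgroup X}
    (hK : Cfsg.IsPComponent p K) :
    Cfsg.pPrimeCore p X ≤ Subgroup.normalizer (K : Set X) := by
  intro n hn
  apply mem_normalizer_of_map_conj_eq
  apply IsPComponent_map_conj_eq hK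
  have h1 : QuotientGroup.mk' (Cfsg.pPrimeCore p X) n = 1 := (QuotientGroup.eq_one_iff n).mpr hn
  rw [h1]
  have : (MulAut.conj (1 : X ⧸ Cfsg.pPrimeCore p X)).toMonoidHom = MonoidHom.id _ := by
    ext x; simp
  rw [this, Subgroup.map_id]

/-- Every `p`-component normalizes every `p`-component. -/
theorem pComponent_le_normalizer_pComponent [Finite X] {p : ℕ} [Fact p.Prime] {K K' : Subgroup X}
    (hK : Cfsg.IsPComponent p K) (hK' : Cfsg.IsPComponent p K') :
    K' ≤ Subgroup.normalizer (K : Set X) := by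
  by_cases heq : K' = K
  · rw [heq]; exact Subgroup.le_normalizer
  · have hne : K'.map (QuotientGroup.mk' (Cfsg.pPrimeCore p X)) ≠
        K.map (QuotientGroup.mk' (Cfsg.pPrimeCore p X)) :=
      fun h => heq (IsPComponent_eq_of_map_eq hK' hK h)
    have hcomm := components_commute _ _ hK'.2.1 hK.2.1 hne
    rw [Subgroup.commutator_eq_bot_iff_le_centralizer] at hcomm
    intro g hg
    apply mem_normalizer_of_map_conj_eq
    apply IsPComponent_map_conj_eq hK
    apply map_conj_eq_of_mem_normalizer
    apply Subgroup.centralizer_le_normalizer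
    exact hcomm (Subgroup.mem_map_of_mem _ hg)

/-- **A `p`-component is normalized by the `p`-layer.** -/
theorem pLayer_le_normalizer_pComponent [Finite X] {p : ℕ} [Fact p.Prime] {K : Subgroup X}
    (hK : Cfsg.IsPComponent p K) : Cfsg.pLayer p X ≤ Subgroup.normalizer (K : Set X) :=
  sSup_le (fun _ hK' => pComponent_le_normalizer_pComponent hK hK')

end Cfsg.Agent.Lib.Helper9
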