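/-
Helper9 library: commutators of distinct `p`-components; `K ∩ O_{p'}(X) = O_{p'}(K)`.
-/
import Cfsg.Agent.Lib.Helper9.PComponent2

set_option autoImplicit false

namespace Cfsg.Agent.Lib.Helper9

universe u

variable {X : Type u} [Group X]

/-- For any subgroup `K`, `K ∩ O_{p'}(X) ≤ O_{p'}(K)`. -/
theorem inf_pPrimeCore_le_pPrimeCoreIn [Finite X] (p : ℕ) (K : Subgroup X) :
    K ⊓ Cfsg.pPrimeCore p X ≤ pPrimeCoreIn p K := by
  unfold pPrimeCoreIn
  rw [inf_comm, ← Subgroup.subgroupOf_map_subtype]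
  apply Subgroup.map_mono
  apply Cfsg.Agent.Lib.Helper12.le_pPrimeCore p _ (Subgroup.Normal.subgroupOf inferInstance K)
  have h1 : Nat.card ↥((Cfsg.pPrimeCore p X).subgroupOf K) ∣ Nat.card ↥(Cfsg.pPrimeCore p X) := by
    let f : ↥((Cfsg.pPrimeCore p X).subgroupOf K) →* ↥(Cfsg.pPrimeCore p X) :=
      (K.subtype.comp ((Cfsg.pPrimeCore p X).subgroupOf K).subtype).codRestrict
        (Cfsg.pPrimeCore p X) (fun x => x.2)
    apply Subgroup.card_dvd_of_injective f
    intro x y hxy
    have : (f x : X) = (f y : X) := congrArg Subtype.val hxy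
    exact Subtype.ext (Subtype.ext this)
  exact Nat.Coprime.coprime_dvd_left h1 (Cfsg.Agent.Lib.Helper12.pPrimeCore_coprime p)

/-- For a subnormal subgroup `K`, `O_{p'}(K) = K ∩ O_{p'}(X)`. -/
theorem pPrimeCoreIn_eq_inf_of_subnormal [Finite X] (p : ℕ) [Fact p.Prime] {K : Subgroup X}
    (hK : K.IsSubnormal) : pPrimeCoreIn p K = K ⊓ Cfsg.pPrimeCore p X := by
  apply le_antisymm _ (inf_pPrimeCore_le_pPrimeCoreIn p K)
  apply le_inf (pPrimeCoreIn_le p K)
  apply subnormal_le_pPrimeCore p _ (pPrimeCoreIn_coprime p K)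
  unfold pPrimeCoreIn
  exact Subgroup.IsSubnormal.trans' (Subgroup.Normal.isSubnormal inferInstance) hK

/-- Distinct `p`-components commute modulo `O_{p'}`: `⁅K, L⁆ ≤ O_{p'}(K) ∩ O_{p'}(L)`. -/
theorem commutator_pComponents_le [Finite X] {p : ℕ} [Fact p.Prime] {K L : Subgroup X}
    (hK : Cfsg.IsPComponent p K) (hL : Cfsg.IsPComponent p L) (hne : K ≠ L) :
    ⁅K, L⁆ ≤ pPrimeCoreIn p K ⊓ pPrimeCoreIn p L := by
  have h1 : ⁅K, L⁆ ≤ K := Subgroup.le_normalizer_iff_commutator_le_left.mp
    (pComponent_le_normalizer_pComponent hK hL)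
  have h2 : ⁅K, L⁆ ≤ L := by
    rw [Subgroup.commutator_comm]
    exact Subgroup.le_normalizer_iff_commutator_le_left.mp
      (pComponent_le_normalizer_pComponent hL hK)
  have h3 : ⁅K, L⁆ ≤ Cfsg.pPrimeCore p X := by
    have hne' : K.map (QuotientGroup.mk' (Cfsg.pPrimeCore p X)) ≠
        L.map (QuotientGroup.mk' (Cfsg.pPrimeCore p X)) :=
      fun h => hne (IsPComponent_eq_of_map_eq hK hL h)
    have hcomm := components_commute _ _ hK.2.1 hL.2.1 hne'
    rw [← Subgroup.map_commutator] at hcomm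
    intro x hx
    have : QuotientGroup.mk' (Cfsg.pPrimeCore p X) x ∈
        (⁅K, L⁆).map (QuotientGroup.mk' (Cfsg.pPrimeCore p X)) := Subgroup.mem_map_of_mem _ hx
    rw [hcomm, Subgroup.mem_bot] at this
    exact (QuotientGroup.eq_one_iff x).mp this
  exact le_inf ((le_inf h1 h3).trans (inf_pPrimeCore_le_pPrimeCoreIn p K))
    ((le_inf h2 h3).trans (inf_pPrimeCore_le_pPrimeCoreIn p L))

/-- A quasisimple `p`-component commutes with every other `p`-component. -/
theorem commutator_pComponents_eq_bot_of_isQuasisimple [Finite X] {p : ℕ} [Fact p.Prime]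
    {K L : Subgroup X} (hK : Cfsg.IsPComponent p K) (hL : Cfsg.IsPComponent p L) (hne : K ≠ L)
    (hq : Cfsg.IsQuasisimple ↥K) : ⁅K, L⁆ = ⊥ := by
  apply commutator_eq_bot_of_perfect_of_commutator_commutator (IsPComponent_commutator_eq hK)
  have h1 : ⁅K, L⁆ ≤ pPrimeCoreIn p K := (commutator_pComponents_le hK hL hne).trans inf_le_left
  -- `O_{p'}(K)` is a proper normal subgroup of `K`, hence central
  have hntop : Cfsg.pPrimeCore p ↥K ≠ ⊤ := by
    intro h
    have hc := Cfsg.Agent.Lib.Helper12.pPrimeCore_coprime (X := ↥K) p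
    rw [h, Subgroup.card_top] at hc
    have hd := IsPComponent_dvd_card hK
    have hp : p.Prime := Fact.out
    have : p ∣ Nat.gcd (Nat.card ↥K) p := Nat.dvd_gcd hd dvd_rfl
    rw [hc] at this
    exact hp.one_lt.ne' (Nat.dvd_one.mp this)
  have hcen := IsQuasisimple_normal_le_center hq (Cfsg.pPrimeCore p ↥K) hntop
  have h2 : pPrimeCoreIn p K ≤ Subgroup.centralizer (K : Set X) := by
    unfold pPrimeCoreIn
    refine (Subgroup.map_mono hcen).trans ?_
    rw [map_subtype_center]
    exact inf_le_right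
  rw [Subgroup.commutator_eq_bot_iff_le_centralizer]
  exact h1.trans h2

end Cfsg.Agent.Lib.Helper9

namespace Cfsg.Agent.Lib.Helper9

universe u

variable {X : Type u} [Group X]

/-- The image in `X / O_{p'}(X)` of a `p`-subgroup `D` of `p'`-index in a `p`-component `K`
is not central in the image of `K`. -/
theorem IsPComponent_not_map_le_centralizer [Finite X] {p : ℕ} [Fact p.Prime] {K D : Subgroup X}
    (hK : Cfsg.IsPComponent p K) (hDK : D ≤ K) (hD : IsPGroup p ↥D)
    (hidx : ¬ p ∣ D.relIndex K) :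
    ¬ D.map (QuotientGroup.mk' (Cfsg.pPrimeCore p X)) ≤
      Subgroup.centralizer (K.map (QuotientGroup.mk' (Cfsg.pPrimeCore p X)) :
        Set (X ⧸ Cfsg.pPrimeCore p X)) := by
  intro hcen
  set π := QuotientGroup.mk' (Cfsg.pPrimeCore p X) with hπ
  have hf : Function.Surjective (π.subgroupMap K) := MonoidHom.subgroupMap_surjective π K
  have hP' : IsPGroup p ↥((D.map π).subgroupOf (K.map π)) := (hD.map π).comap_subtype
  have hmap : (D.subgroupOf K).map (π.subgroupMap K) = (D.map π).subgroupOf (K.map π) := by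
    ext x
    constructor
    · rintro ⟨d, hd, rfl⟩
      rw [Subgroup.mem_subgroupOf]
      exact ⟨d.1, Subgroup.mem_subgroupOf.mp hd, rfl⟩
    · intro hx
      rw [Subgroup.mem_subgroupOf] at hx
      obtain ⟨d, hd, hdx⟩ := hx
      exact ⟨⟨d, hDK hd⟩, Subgroup.mem_subgroupOf.mpr hd, Subtype.ext hdx⟩
  have hidx' : ¬ p ∣ ((D.map π).subgroupOf (K.map π)).index := by
    intro h
    apply hidx
    rw [← hmap] at h
    exact h.trans (Subgroup.index_map_dvd (D.subgroupOf K) hf)
  have hPc : ∀ x ∈ ((hP'.toSylow hidx' : Sylow p ↥(K.map π)) : Subgroup ↥(K.map π)),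
      ∀ c : ↥(K.map π), c * x = x * c := by
    intro x hx c
    have hx' : x ∈ (D.map π).subgroupOf (K.map π) := hx
    rw [Subgroup.mem_subgroupOf] at hx'
    have := (Subgroup.mem_centralizer_iff.mp (hcen hx')) c.1 c.2
    exact Subtype.ext this
  have hcop := coprime_card_of_perfect_of_central_sylow p hK.2.1.2.1 (hP'.toSylow hidx') hPc
  have hle := subnormal_le_pPrimeCore p hK.2.1.1 hcop
  rw [pPrimeCore_quotient_eq_bot] at hle
  exact IsPComponent_map_ne_bot hK (eq_bot_iff.mpr hle)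

/-- An element centralizing a `p`-subgroup of `p'`-index in a `p`-component `K` (for instance a
Sylow `p`-subgroup of `K`) normalizes `K`. -/
theorem IsPComponent_map_conj_eq_of_mem_centralizer [Finite X] {p : ℕ} [Fact p.Prime]
    {K D : Subgroup X} (hK : Cfsg.IsPComponent p K) (hDK : D ≤ K) (hD : IsPGroup p ↥D)
    (hidx : ¬ p ∣ D.relIndex K) {g : X} (hg : g ∈ Subgroup.centralizer (D : Set X)) :
    K.map (MulAut.conj g).toMonoidHom = K := by
  by_contra hne
  have hK' := isPComponent_map_equiv p (MulAut.conj g) hK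
  have hDK' : D ≤ K.map (MulAut.conj g).toMonoidHom := by
    intro d hd
    refine ⟨d, hDK hd, ?_⟩
    show MulAut.conj g d = d
    rw [MulAut.conj_apply, ← (Subgroup.mem_centralizer_iff.mp hg) d hd]
    group
  have hne' : (K.map (MulAut.conj g).toMonoidHom).map (QuotientGroup.mk' (Cfsg.pPrimeCore p X)) ≠
      K.map (QuotientGroup.mk' (Cfsg.pPrimeCore p X)) :=
    fun h => hne (IsPComponent_eq_of_map_eq hK' hK h)
  have hcomm := components_commute _ _ hK'.2.1 hK.2.1 hne'
  rw [Subgroup.commutator_eq_bot_iff_le_centralizer] at hcomm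
  exact IsPComponent_not_map_le_centralizer hK hDK hD hidx
    ((Subgroup.map_mono hDK').trans hcomm)

end Cfsg.Agent.Lib.Helper9
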