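/-
Helper9 library: `K / O_{p'}(K)` is quasisimple for a `p`-component `K`; quasisimple
`p`-components; images of components in `X / O_{p'}(X)`.
-/
import Cfsg.Agent.Lib.Helper9.PComponent3

set_option autoImplicit false

open scoped commutatorElement

namespace Cfsg.Agent.Lib.Helper9

universe u

variable {X : Type u} [Group X]

/-- For a subnormal subgroup `K`, `O_{p'}(K)` (inside the group `K`) is `O_{p'}(X) ∩ K`. -/
theorem pPrimeCore_subgroup_eq_subgroupOf [Finite X] (p : ℕ) [Fact p.Prime] {K : Subgroup X}
    (hK : K.IsSubnormal) : Cfsg.pPrimeCore p ↥K = (Cfsg.pPrimeCore p X).subgroupOf K := by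
  have h := pPrimeCoreIn_eq_inf_of_subnormal p hK
  unfold pPrimeCoreIn at h
  rw [inf_comm, ← Subgroup.subgroupOf_map_subtype] at h
  exact Subgroup.map_injective K.subtype_injective h

/-- `K / O_{p'}(K)` is isomorphic to the image of `K` in `X / O_{p'}(X)`, for `K` subnormal. -/
noncomputable def quotientPPrimeCoreEquivMap [Finite X] (p : ℕ) [Fact p.Prime] {K : Subgroup X}
    (hK : K.IsSubnormal) :
    ↥K ⧸ Cfsg.pPrimeCore p ↥K ≃* ↥(K.map (QuotientGroup.mk' (Cfsg.pPrimeCore p X))) :=
  (QuotientGroup.quotientMulEquivOfEq (by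
    rw [pPrimeCore_subgroup_eq_subgroupOf p hK]
    ext x
    rw [MonoidHom.mem_ker, Subgroup.mem_subgroupOf]
    constructor
    · intro hx
      apply Subtype.ext
      exact (QuotientGroup.eq_one_iff (x : X)).mpr hx
    · intro hx
      exact (QuotientGroup.eq_one_iff (x : X)).mp (congrArg Subtype.val hx))).trans
    (QuotientGroup.quotientKerEquivOfSurjective
      ((QuotientGroup.mk' (Cfsg.pPrimeCore p X)).subgroupMap K)
      (MonoidHom.subgroupMap_surjective _ K))

/-- `K / O_{p'}(K)` is quasisimple for a `p`-component `K`. -/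
theorem IsPComponent_quotient_isQuasisimple [Finite X] {p : ℕ} [Fact p.Prime] {K : Subgroup X}
    (hK : Cfsg.IsPComponent p K) : Cfsg.IsQuasisimple (↥K ⧸ Cfsg.pPrimeCore p ↥K) :=
  isQuasisimple_of_equiv (quotientPPrimeCoreEquivMap p hK.1).symm hK.2.1.2

end Cfsg.Agent.Lib.Helper9

namespace Cfsg.Agent.Lib.Helper9

universe u

variable {X : Type u} [Group X]

/-- In a quasisimple `p`-component `K`, `O_{p'}(K)` is central. -/
theorem pPrimeCoreIn_le_centralizer_of_isQuasisimple [Finite X] {p : ℕ} [Fact p.Prime]
    {K : Subgroup X} (hK : Cfsg.IsPComponent p K) (hq : Cfsg.IsQuasisimple ↥K) :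
    pPrimeCoreIn p K ≤ Subgroup.centralizer (K : Set X) := by
  have hntop : Cfsg.pPrimeCore p ↥K ≠ ⊤ := by
    intro h
    have hc := Cfsg.Agent.Lib.Helper12.pPrimeCore_coprime (X := ↥K) p
    rw [h, Subgroup.card_top] at hc
    have hd := IsPComponent_dvd_card hK
    have hp : p.Prime := Fact.out
    have : p ∣ Nat.gcd (Nat.card ↥K) p := Nat.dvd_gcd hd dvd_rfl
    rw [hc] at this
    exact hp.one_lt.ne' (Nat.dvd_one.mp this)
  have hcen := IsQuasisimple_normal_le_center hq (Cfsg.pPrimeCore p ↥K) hntop
  unfold pPrimeCoreIn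
  refine (Subgroup.map_mono hcen).trans ?_
  rw [map_subtype_center]
  exact inf_le_right

/-- A `p`-component `K` is quasisimple iff `⁅K, O_{p'}(K)⁆ = 1`. -/
theorem IsPComponent_isQuasisimple_iff [Finite X] {p : ℕ} [hp : Fact p.Prime] {K : Subgroup X}
    (hK : Cfsg.IsPComponent p K) :
    Cfsg.IsQuasisimple ↥K ↔ ⁅K, pPrimeCoreIn p K⁆ = ⊥ := by
  constructor
  · intro hq
    rw [Subgroup.commutator_comm, Subgroup.commutator_eq_bot_iff_le_centralizer]
    exact pPrimeCoreIn_le_centralizer_of_isQuasisimple hK hq
  · intro hcomm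
    have hperfK : ⁅K, K⁆ = K := IsPComponent_commutator_eq hK
    have hperf : Group.IsPerfect ↥K := Subgroup.isPerfect_iff.mpr hperfK
    have hnt : Nontrivial ↥K := by
      rw [← Finite.one_lt_card_iff_nontrivial]
      have hd := IsPComponent_dvd_card hK
      exact lt_of_lt_of_le hp.out.one_lt (Nat.le_of_dvd Nat.card_pos hd)
    apply isQuasisimple_of_normal_le_center hperf
    · intro htop
      have hcomm' : ∀ a b : ↥K, a * b = b * a := by
        intro a b
        have : a ∈ Subgroup.center ↥K := by rw [htop]; exact Subgroup.mem_top a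
        exact ((Subgroup.mem_center_iff.mp this) b).symm
      have hsol : Group.IsSolvable ↥K := Group.isSolvable_of_comm hcomm'
      exact Group.IsPerfect.not_isSolvable ↥K hsol
    · intro M hM hMtop
      by_cases hq : M.map (QuotientGroup.mk' (Cfsg.pPrimeCore p ↥K)) = ⊤
      · -- then `M O_{p'}(K) = K`, so `M` has `p'`-index, so `M = K`
        exfalso
        apply hMtop
        have hsup : Cfsg.pPrimeCore p ↥K ⊔ M = ⊤ := by
          have h1 := congrArg (Subgroup.comap (QuotientGroup.mk' (Cfsg.pPrimeCore p ↥K))) hq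
          rw [Subgroup.comap_map_eq, QuotientGroup.ker_mk', Subgroup.comap_top] at h1
          rw [sup_comm]; exact h1
        have hidx : (M.index).Coprime p := by
          have h2 : M.index = M.relIndex (Cfsg.pPrimeCore p ↥K) := by
            rw [← Subgroup.relIndex_top_right, ← hsup, Subgroup.relIndex_sup_right]
          rw [h2]
          exact Nat.Coprime.coprime_dvd_left (Subgroup.relIndex_dvd_card _ _)
            (Cfsg.Agent.Lib.Helper12.pPrimeCore_coprime p)
        exact IsPComponent_eq_top_of_coprime_index hK M hidx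
      · have hMn : (M.map (QuotientGroup.mk' (Cfsg.pPrimeCore p ↥K))).Normal :=
          hM.map _ (QuotientGroup.mk'_surjective _)
        have hcen := IsQuasisimple_normal_le_center (IsPComponent_quotient_isQuasisimple hK)
          (M.map (QuotientGroup.mk' (Cfsg.pPrimeCore p ↥K))) hq
        -- `⁅K, M⁆ ≤ O_{p'}(K)`
        have h1 : ⁅K, M.map K.subtype⁆ ≤ pPrimeCoreIn p K := by
          rw [Subgroup.commutator_le]
          intro k hk m hm
          obtain ⟨m', hm', rfl⟩ := hm
          have hz := hcen (Subgroup.mem_map_of_mem (QuotientGroup.mk' (Cfsg.pPrimeCore p ↥K)) hm')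
          have hz2 := (Subgroup.mem_center_iff.mp hz)
            (QuotientGroup.mk' (Cfsg.pPrimeCore p ↥K) ⟨k, hk⟩)
          have h3 : (⁅(⟨k, hk⟩ : ↥K), m'⁆ : ↥K) ∈ Cfsg.pPrimeCore p ↥K := by
            apply (QuotientGroup.eq_one_iff _).mp
            show QuotientGroup.mk' (Cfsg.pPrimeCore p ↥K) ⁅(⟨k, hk⟩ : ↥K), m'⁆ = 1
            rw [map_commutatorElement, commutatorElement_eq_one_iff_mul_comm]
            exact hz2
          exact ⟨_, h3, rfl⟩
        have h2 : ⁅K, M.map K.subtype⁆ = ⊥ := by
          apply commutator_eq_bot_of_perfect_of_commutator_commutator hperfK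
          rw [eq_bot_iff, ← hcomm, Subgroup.commutator_comm K (pPrimeCoreIn p K)]
          exact Subgroup.commutator_mono h1 le_rfl
        intro m hm
        rw [Subgroup.mem_center_iff]
        intro k
        have h4 : M.map K.subtype ≤ Subgroup.centralizer (K : Set X) := by
          rw [Subgroup.commutator_comm, Subgroup.commutator_eq_bot_iff_le_centralizer] at h2
          exact h2
        have := (Subgroup.mem_centralizer_iff.mp (h4 ⟨m, hm, rfl⟩)) k.1 k.2
        exact Subtype.ext this

end Cfsg.Agent.Lib.Helper9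

namespace Cfsg.Agent.Lib.Helper9

universe u

/-- A nontrivial homomorphic image of a quasisimple group is quasisimple. -/
theorem isQuasisimple_of_surjective {L M : Type*} [Group L] [Group M] (f : L →* M)
    (hf : Function.Surjective f) (hL : Cfsg.IsQuasisimple L) [hM : Nontrivial M] :
    Cfsg.IsQuasisimple M := by
  have hperf : Group.IsPerfect M := by
    have := hL.1
    exact Group.IsPerfect.ofSurjective (f := f) hf
  apply isQuasisimple_of_normal_le_center hperf
  · intro htop
    have hcomm' : ∀ a b : M, a * b = b * a := by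
      intro a b
      have : a ∈ Subgroup.center M := by rw [htop]; exact Subgroup.mem_top a
      exact ((Subgroup.mem_center_iff.mp this) b).symm
    have hsol : Group.IsSolvable M := Group.isSolvable_of_comm hcomm'
    exact Group.IsPerfect.not_isSolvable M hsol
  · intro R hR hRtop
    have hR' : (R.comap f).Normal := hR.comap f
    have hR'top : R.comap f ≠ ⊤ := by
      intro h
      apply hRtop
      rw [← Subgroup.map_comap_eq_self_of_surjective hf R, h, Subgroup.map_top_of_surjective f hf]
    have hcen := IsQuasisimple_normal_le_center hL (R.comap f) hR'top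
    intro r hr
    obtain ⟨r', rfl⟩ := hf r
    rw [Subgroup.mem_center_iff]
    intro c
    obtain ⟨c', rfl⟩ := hf c
    have := (Subgroup.mem_center_iff.mp (hcen (Subgroup.mem_comap.mpr hr))) c'
    rw [← map_mul, ← map_mul, this]

variable {X : Type u} [Group X]

/-- The image of a component of `X` in `X / O_{p'}(X)` lies in the layer of the quotient. -/
theorem map_component_le_layer_quotient (p : ℕ) {L : Subgroup X} (hL : Cfsg.IsComponent L) :
    L.map (QuotientGroup.mk' (Cfsg.pPrimeCore p X)) ≤ Cfsg.layer (X ⧸ Cfsg.pPrimeCore p X) := by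
  by_cases hbot : L.map (QuotientGroup.mk' (Cfsg.pPrimeCore p X)) = ⊥
  · rw [hbot]; exact bot_le
  · apply component_le_layer
    refine ⟨hL.1.map (QuotientGroup.mk'_surjective _), ?_⟩
    have hnt : Nontrivial ↥(L.map (QuotientGroup.mk' (Cfsg.pPrimeCore p X))) :=
      (Subgroup.nontrivial_iff_ne_bot _).mpr hbot
    exact isQuasisimple_of_surjective ((QuotientGroup.mk' (Cfsg.pPrimeCore p X)).subgroupMap L)
      (MonoidHom.subgroupMap_surjective _ L) hL.2

theorem map_layer_le_layer_quotient (p : ℕ) :
    (Cfsg.layer X).map (QuotientGroup.mk' (Cfsg.pPrimeCore p X)) ≤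
      Cfsg.layer (X ⧸ Cfsg.pPrimeCore p X) := by
  rw [Subgroup.map_le_iff_le_comap]
  apply layer_le_of_forall_component_le
  intro L hL
  rw [← Subgroup.map_le_iff_le_comap]
  exact map_component_le_layer_quotient p hL

/-- The image of `E(X)` in `X / O_{p'}(X)` is all of `E(X / O_{p'}(X))` iff `L_{p'}(X) ≤ E(X)`. -/
theorem map_layer_eq_layer_quotient_iff [Finite X] (p : ℕ) [Fact p.Prime] :
    (Cfsg.layer X).map (QuotientGroup.mk' (Cfsg.pPrimeCore p X)) =
      Cfsg.layer (X ⧸ Cfsg.pPrimeCore p X) ↔ Cfsg.pLayer p X ≤ Cfsg.layer X := by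
  constructor
  · intro h
    apply sSup_le
    intro K hK
    apply IsPComponent_le_of_map_le hK (Subgroup.Normal.isSubnormal inferInstance)
    rw [h]
    exact component_le_layer hK.2.1
  · intro h
    apply le_antisymm (map_layer_le_layer_quotient p)
    apply layer_le_of_forall_component_le
    intro Kbar hKbar
    obtain ⟨K, hK, hKimg⟩ := exists_isPComponent_map_eq p hKbar
    rw [← hKimg]
    have hKL : K ≤ Cfsg.pLayer p X := le_sSup hK
    exact Subgroup.map_mono (hKL.trans h)

end Cfsg.Agent.Lib.Helper9
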