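/-
Helper9 library: subgroups of finite cyclic groups are determined by their order;
complements in commutative groups have the same order.
-/
import Mathlib.GroupTheory.SpecificGroups.Cyclic
import Mathlib.GroupTheory.Complement

set_option autoImplicit false

namespace Cfsg.Agent.Lib.Helper9

open scoped Pointwise

/-- In a finite cyclic group, a subgroup is the set of solutions of `x ^ |A| = 1`. -/
theorem mem_iff_pow_card_eq_one_of_isCyclic {C : Type*} [Group C] [Finite C] [IsCyclic C]
    (A : Subgroup C) (x : C) : x ∈ A ↔ x ^ Nat.card A = 1 := by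
  classical
  have : Fintype C := Fintype.ofFinite C
  constructor
  · intro hx
    have := pow_card_eq_one' (G := A) (x := ⟨x, hx⟩)
    exact congrArg Subtype.val this
  · intro hx
    have hpos : 0 < Nat.card A := Nat.card_pos
    set T : Finset C := Finset.univ.filter (fun a => a ^ Nat.card A = 1) with hT
    set SA : Finset C := Finset.univ.filter (fun a => a ∈ A) with hSA
    have hTle : T.card ≤ Nat.card A := IsCyclic.card_pow_eq_one_le hpos
    have hsub : SA ⊆ T := by
      intro a ha
      rw [hSA, Finset.mem_filter] at ha
      rw [hT, Finset.mem_filter]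
      refine ⟨Finset.mem_univ _, ?_⟩
      have := pow_card_eq_one' (G := A) (x := ⟨a, ha.2⟩)
      exact congrArg Subtype.val this
    have hSAcard : SA.card = Nat.card A := by
      rw [hSA, Nat.card_eq_fintype_card, Fintype.card_subtype]
    have heq : SA = T := Finset.eq_of_subset_of_card_le hsub (by rw [hSAcard]; exact hTle)
    have hxT : x ∈ T := by
      rw [hT, Finset.mem_filter]; exact ⟨Finset.mem_univ _, hx⟩
    rw [← heq, hSA, Finset.mem_filter] at hxT
    exact hxT.2

/-- In a finite cyclic group, subgroups of equal order are equal. -/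
theorem subgroup_eq_of_card_eq_of_isCyclic {C : Type*} [Group C] [Finite C] [IsCyclic C]
    (A B : Subgroup C) (h : Nat.card A = Nat.card B) : A = B := by
  ext x
  rw [mem_iff_pow_card_eq_one_of_isCyclic A, mem_iff_pow_card_eq_one_of_isCyclic B, h]

/-- In a group where `B` is normal, `A ⊔ B = ⊤` and `A ⊓ B = ⊥` make `A`, `B` complements, so
`|A| * |B| = |G|`. -/
theorem card_mul_card_of_sup_eq_top_of_inf_eq_bot {W : Type*} [Group W] (A B : Subgroup W)
    [B.Normal] (hsup : A ⊔ B = ⊤) (hinf : A ⊓ B = ⊥) : Nat.card A * Nat.card B = Nat.card W := by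
  have hd : Disjoint A B := disjoint_iff.mpr hinf
  have hmul : (A : Set W) * (B : Set W) = Set.univ := by
    rw [← Subgroup.mul_normal, hsup, Subgroup.coe_top]
  exact (Subgroup.isComplement'_of_disjoint_and_mul_eq_univ hd hmul).card_mul_card

/-- Inside a finite subgroup `W` of `G` which is cyclic, two subgroups of `W` of the same order
coincide. -/
theorem eq_of_card_eq_of_le_isCyclic {G : Type*} [Group G] (W A B : Subgroup G) [Finite W]
    [IsCyclic W] (hA : A ≤ W) (hB : B ≤ W) (h : Nat.card A = Nat.card B) : A = B := by
  have h1 : Nat.card (A.subgroupOf W) = Nat.card (B.subgroupOf W) := by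
    rw [Nat.card_congr (Subgroup.subgroupOfEquivOfLe hA).toEquiv,
      Nat.card_congr (Subgroup.subgroupOfEquivOfLe hB).toEquiv, h]
  have h2 := subgroup_eq_of_card_eq_of_isCyclic _ _ h1
  rw [Subgroup.subgroupOf_inj, inf_of_le_left hA, inf_of_le_left hB] at h2
  exact h2

end Cfsg.Agent.Lib.Helper9
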