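/-
Helper9 library: stability lemmas for coprime action (elementwise versions).
-/
import Mathlib.GroupTheory.Sylow
import Mathlib.GroupTheory.Commutator.Basic
import Mathlib.GroupTheory.Index

set_option autoImplicit false

namespace Cfsg.Agent.Lib.Helper9

open scoped commutatorElement

/-- If `a * h * a⁻¹ = w * h` with `w` commuting with `a`, then `a ^ k * h * a⁻¹ ^ k = w ^ k * h`. -/
theorem conj_pow_of_conj_eq_mul {G : Type*} [Group G] (a h w : G) (haw : a * w = w * a)
    (hc : a * h * a⁻¹ = w * h) (k : ℕ) : a ^ k * h * (a ^ k)⁻¹ = w ^ k * h := by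
  induction k with
  | zero => simp
  | succ k ih =>
    have hawk : a * w ^ k = w ^ k * a := by
      have : Commute a w := haw
      exact (this.pow_right k)
    calc a ^ (k + 1) * h * (a ^ (k + 1))⁻¹ = a * (a ^ k * h * (a ^ k)⁻¹) * a⁻¹ := by
          rw [pow_succ']; group
      _ = a * (w ^ k * h) * a⁻¹ := by rw [ih]
      _ = (a * w ^ k) * (a⁻¹ * (a * h * a⁻¹)) := by group
      _ = (w ^ k * a) * (a⁻¹ * (w * h)) := by rw [hawk, hc]
      _ = w ^ (k + 1) * h := by rw [pow_succ]; group

/-- One step of the stability argument: if `a` centralizes `⁅h, a⁆` and the orders of `a` and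
`⁅h, a⁆` are coprime, then `a` commutes with `h`. -/
theorem commute_of_commutator_centralized {G : Type*} [Group G] (a h : G)
    (hz : a * ⁅h, a⁆ = ⁅h, a⁆ * a) (hcop : (orderOf a).Coprime (orderOf ⁅h, a⁆)) :
    a * h = h * a := by
  set z := ⁅h, a⁆ with hzdef
  have hconj : a * h * a⁻¹ = z⁻¹ * h := by
    rw [hzdef, commutatorElement_def]; group
  have haw : a * z⁻¹ = z⁻¹ * a := by
    have : Commute a z := hz
    exact this.inv_right
  have hk := conj_pow_of_conj_eq_mul a h z⁻¹ haw hconj (orderOf a)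
  rw [pow_orderOf_eq_one] at hk
  simp only [one_mul, inv_one, mul_one] at hk
  have hw : z⁻¹ ^ orderOf a = 1 := by
    have : z⁻¹ ^ orderOf a * h = 1 * h := by rw [one_mul]; exact hk.symm
    exact mul_right_cancel this
  have hd : orderOf z ∣ orderOf a := by
    rw [← orderOf_inv]
    exact orderOf_dvd_of_pow_eq_one hw
  have h1 : orderOf z = 1 := Nat.eq_one_of_dvd_coprimes hcop hd (dvd_refl _)
  have hz1 : z = 1 := orderOf_eq_one_iff.mp h1
  rw [hz1, inv_one, one_mul] at hconj
  calc a * h = a * h * a⁻¹ * a := by group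
    _ = h * a := by rw [hconj]

/-- **Stability lemma**. Let `c 0 ≥ c 1 ≥ ⋯ ≥ c n = ⊥` be a chain of subgroups of a finite
subgroup `H = c 0` and `a` an element whose order is coprime to `|H|` with `⁅h, a⁆ ∈ c (i+1)`
for all `h ∈ c i`. Then `a` centralizes `H`. -/
theorem mem_centralizer_of_stabilizes_chain {G : Type*} [Group G] (H : Subgroup G) [Finite H]
    (n : ℕ) (c : Fin (n + 1) → Subgroup G) (hc0 : c 0 = H) (hcn : c (Fin.last n) = ⊥)
    (hanti : Antitone c) (a : G)
    (hcop : (orderOf a).Coprime (Nat.card H))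
    (htriv : ∀ i : Fin n, ∀ h ∈ c i.castSucc, ⁅h, a⁆ ∈ c i.succ) :
    a ∈ Subgroup.centralizer (H : Set G) := by
  have key : ∀ i : Fin (n + 1), ∀ h ∈ c i, a * h = h * a := by
    intro i
    induction i using Fin.reverseInduction with
    | last =>
      intro h hh
      rw [hcn, Subgroup.mem_bot] at hh
      subst hh; simp
    | cast i ih =>
      intro h hh
      have hz := htriv i h hh
      have hzH : ⁅h, a⁆ ∈ H := by
        rw [← hc0]
        exact hanti (Fin.zero_le _) hz
      apply commute_of_commutator_centralized a h (ih _ hz)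
      have hd : orderOf ⁅h, a⁆ ∣ Nat.card H := Subgroup.orderOf_dvd_natCard H hzH
      exact Nat.Coprime.coprime_dvd_right hd hcop
  rw [Subgroup.mem_centralizer_iff]
  intro h hh
  rw [SetLike.mem_coe, ← hc0] at hh
  exact (key 0 h hh).symm

/-- Two-step version of the stability lemma: if `a` centralizes `K`, and `⁅h, a⁆ ∈ K` for all
`h ∈ N`, `K ≤ N` finite with `|N|` coprime to the order of `a`, then `a` centralizes `N`. -/
theorem mem_centralizer_of_stabilizes_pair {G : Type*} [Group G] (N K : Subgroup G) [Finite N]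
    (hKN : K ≤ N) (a : G)
    (hcop : (orderOf a).Coprime (Nat.card N))
    (hK : ∀ k ∈ K, a * k = k * a) (hN : ∀ h ∈ N, ⁅h, a⁆ ∈ K) :
    ∀ h ∈ N, a * h = h * a := by
  intro h hh
  have hz := hN h hh
  apply commute_of_commutator_centralized a h (hK _ hz)
  have hd : orderOf ⁅h, a⁆ ∣ Nat.card N := Subgroup.orderOf_dvd_natCard N (hKN hz)
  exact Nat.Coprime.coprime_dvd_right hd hcop

end Cfsg.Agent.Lib.Helper9
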