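/-
Helper9 library: the normalizer-chain argument (a substitute for Thompson's `A × B` lemma).
If `D` normalizes `P ≤ Q` (`Q` a `p`-group), centralizes `N_Q(P)`, and is "`p`-stable"
(perfect, or of order prime to `p`, or generated by such subgroups), then `D` centralizes `Q`.
-/
import Cfsg.Agent.Lib.Helper9.FStar3
import Cfsg.Agent.Lib.Helper9.Stability
import Cfsg.Agent.Lib.Helper21.SylowBasic

set_option autoImplicit false

open scoped commutatorElement

namespace Cfsg.Agent.Lib.Helper9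

variable {G : Type*} [Group G]

/-- `D` is `p`-stable: whenever `D` centralizes `R₁` and `⁅R₂, D⁆ ≤ R₁ ≤ R₂` with `R₂` a
`p`-group, `D` centralizes `R₂`. -/
def PStable (p : ℕ) (D : Subgroup G) : Prop :=
  ∀ R₁ R₂ : Subgroup G, IsPGroup p ↥R₂ → R₁ ≤ R₂ → ⁅R₁, D⁆ = ⊥ → ⁅R₂, D⁆ ≤ R₁ → ⁅R₂, D⁆ = ⊥

/-- Perfect subgroups are `p`-stable. -/
theorem pStable_of_perfect (p : ℕ) {D : Subgroup G} (hD : ⁅D, D⁆ = D) : PStable p D := by
  intro R₁ R₂ _ _ h1 h2
  rw [Subgroup.commutator_comm]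
  apply commutator_eq_bot_of_perfect_of_commutator_commutator hD
  rw [eq_bot_iff, ← h1, Subgroup.commutator_comm D R₂]
  exact Subgroup.commutator_mono h2 le_rfl

/-- Subgroups of order prime to `p` are `p`-stable. -/
theorem pStable_of_coprime [Finite G] (p : ℕ) [Fact p.Prime] {D : Subgroup G}
    (hD : (Nat.card ↥D).Coprime p) : PStable p D := by
  intro R₁ R₂ hR₂ hle h1 h2
  rw [Subgroup.commutator_eq_bot_iff_le_centralizer] at h1 ⊢
  obtain ⟨k, hk⟩ := IsPGroup.iff_card.mp hR₂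
  intro h hh
  rw [Subgroup.mem_centralizer_iff]
  intro a ha
  have hcop : (orderOf a).Coprime (Nat.card ↥R₂) := by
    rw [hk]
    apply Nat.Coprime.pow_right
    exact Nat.Coprime.coprime_dvd_left (Subgroup.orderOf_dvd_natCard D ha) hD
  exact mem_centralizer_of_stabilizes_pair R₂ R₁ hle a hcop
    (fun k hk => (Subgroup.mem_centralizer_iff.mp (h1 hk)) a ha)
    (fun h hh => h2 (Subgroup.commutator_mem_commutator hh ha)) h hh

/-- A subgroup generated by `p`-stable subgroups is `p`-stable. -/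
theorem pStable_sSup (p : ℕ) (S : Set (Subgroup G)) (hS : ∀ D ∈ S, PStable p D) :
    PStable p (sSup S) := by
  intro R₁ R₂ hR₂ hle h1 h2
  rw [Subgroup.commutator_comm, Subgroup.commutator_eq_bot_iff_le_centralizer]
  apply sSup_le
  intro D hD
  rw [← Subgroup.commutator_eq_bot_iff_le_centralizer, Subgroup.commutator_comm]
  apply hS D hD R₁ R₂ hR₂ hle
  · rw [eq_bot_iff, ← h1]
    exact Subgroup.commutator_mono le_rfl (le_sSup hD)
  · exact (Subgroup.commutator_mono le_rfl (le_sSup hD)).trans h2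

theorem pStable_sup (p : ℕ) {D₁ D₂ : Subgroup G} (h₁ : PStable p D₁) (h₂ : PStable p D₂) :
    PStable p (D₁ ⊔ D₂) := by
  rw [← sSup_pair]
  apply pStable_sSup
  intro D hD
  rcases hD with rfl | rfl
  · exact h₁
  · exact h₂

/-- **Normalizer chain lemma.** -/
theorem commutator_eq_bot_of_normalizer_chain [Finite G] {p : ℕ} [Fact p.Prime]
    {Q P D : Subgroup G} (hQ : IsPGroup p ↥Q) (hPQ : P ≤ Q)
    (hDP : D ≤ Subgroup.normalizer (P : Set G)) (hDQ : D ≤ Subgroup.normalizer (Q : Set G))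
    (hcent : ⁅Q ⊓ Subgroup.normalizer (P : Set G), D⁆ = ⊥) (hstar : PStable p D) :
    ⁅Q, D⁆ = ⊥ := by
  let S : Set (Subgroup G) := {R | Q ⊓ Subgroup.normalizer (P : Set G) ≤ R ∧ R ≤ Q ∧
    D ≤ Subgroup.normalizer (R : Set G) ∧ ⁅R, D⁆ = ⊥}
  have hne : S.Nonempty := by
    refine ⟨Q ⊓ Subgroup.normalizer (P : Set G), le_rfl, inf_le_left, ?_, hcent⟩
    intro d hd
    exact mem_normalizer_inf (hDQ hd) (Subgroup.le_normalizer (hDP hd))
  obtain ⟨R, hRS, hmax⟩ := (wellFounded_gt (α := Subgroup G)).has_min S hne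
  obtain ⟨hR0, hRQ, hDR, hRD⟩ := hRS
  by_cases hRQ' : R = Q
  · rw [← hRQ']; exact hRD
  · exfalso
    obtain ⟨x, hxQ, hxN, hxR⟩ :=
      Cfsg.Agent.Lib.Helper21.exists_mem_normalizer_not_mem' hQ hRQ hRQ'
    set R₂ := Q ⊓ Subgroup.normalizer (R : Set G) with hR₂
    have hRR₂ : R ≤ R₂ := le_inf hRQ Subgroup.le_normalizer
    have hlt : R < R₂ := by
      refine lt_of_le_of_ne hRR₂ ?_
      intro h
      apply hxR
      rw [h]
      exact Subgroup.mem_inf.mpr ⟨hxQ, hxN⟩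
    have hDR₂ : D ≤ Subgroup.normalizer (R₂ : Set G) := by
      intro d hd
      exact mem_normalizer_inf (hDQ hd) (Subgroup.le_normalizer (hDR hd))
    have hPR : P ≤ R := (le_inf hPQ Subgroup.le_normalizer).trans hR0
    have hcomm : ⁅R₂, D⁆ ≤ R := by
      have h1 : ⁅⁅D, R⁆, R₂⁆ = ⊥ := by
        rw [Subgroup.commutator_comm D R, hRD, Subgroup.commutator_bot_left]
      have h2 : ⁅⁅R, R₂⁆, D⁆ = ⊥ := by
        rw [eq_bot_iff, ← hRD]
        apply Subgroup.commutator_mono _ le_rfl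
        exact Subgroup.le_normalizer_iff_commutator_le_left.mp (inf_le_right : R₂ ≤ _)
      have h3 : ⁅⁅R₂, D⁆, R⁆ = ⊥ := Subgroup.commutator_commutator_eq_bot_of_rotate h1 h2
      rw [Subgroup.commutator_eq_bot_iff_le_centralizer] at h3
      have h4 : ⁅R₂, D⁆ ≤ Subgroup.normalizer (P : Set G) :=
        (h3.trans (Subgroup.centralizer_le hPR)).trans (Subgroup.centralizer_le_normalizer _)
      have h5 : ⁅R₂, D⁆ ≤ Q :=
        (Subgroup.commutator_mono (inf_le_left : R₂ ≤ Q) le_rfl).trans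
          (Subgroup.le_normalizer_iff_commutator_le_left.mp hDQ)
      exact (le_inf h5 h4).trans hR0
    have hR₂D : ⁅R₂, D⁆ = ⊥ := hstar R R₂ (hQ.to_le inf_le_left) hRR₂ hRD hcomm
    exact hmax R₂ ⟨hR0.trans hRR₂, inf_le_left, hDR₂, hR₂D⟩ hlt

end Cfsg.Agent.Lib.Helper9
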