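/-
Helper9 library: components of subgroups viewed in the ambient group; standard subgroups.
-/
import Cfsg.Agent.Lib.Helper9.FStar4
import Cfsg.Agent.Lib.Helper9.ExtLayer2

set_option autoImplicit false

namespace Cfsg.Agent.Lib.Helper9

universe u

variable {G : Type u} [Group G]

/-- `L` is a component of the subgroup `H`, everything viewed in `G`. -/
def IsComponentIn (L H : Subgroup G) : Prop := L ≤ H ∧ Cfsg.IsComponent (L.subgroupOf H)

/-- Components of a subgroup are permuted by automorphisms of the ambient group. -/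
theorem IsComponentIn.map_equiv {L H : Subgroup G} (h : IsComponentIn L H) (φ : G ≃* G) :
    IsComponentIn (L.map φ.toMonoidHom) (H.map φ.toMonoidHom) := by
  refine ⟨Subgroup.map_mono h.1, ?_⟩
  have e := isComponent_map_equiv (H.equivMapOfInjective φ.toMonoidHom φ.injective) h.2
  have : (L.subgroupOf H).map (H.equivMapOfInjective φ.toMonoidHom φ.injective).toMonoidHom =
      (L.map φ.toMonoidHom).subgroupOf (H.map φ.toMonoidHom) := by
    ext x
    constructor
    · rintro ⟨y, hy, rfl⟩
      rw [Subgroup.mem_subgroupOf]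
      exact ⟨y.1, Subgroup.mem_subgroupOf.mp hy, rfl⟩
    · intro hx
      rw [Subgroup.mem_subgroupOf] at hx
      obtain ⟨l, hl, hlx⟩ := hx
      refine ⟨⟨l, h.1 hl⟩, Subgroup.mem_subgroupOf.mpr hl, ?_⟩
      exact Subtype.ext hlx
  rwa [this] at e

/-- Distinct components of a subgroup commute. -/
theorem IsComponentIn.commutator_eq_bot {L L' H : Subgroup G} (h : IsComponentIn L H)
    (h' : IsComponentIn L' H) (hne : L ≠ L') : ⁅L, L'⁆ = ⊥ := by
  have hne' : L.subgroupOf H ≠ L'.subgroupOf H := by
    intro heq
    apply hne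
    have := congrArg (Subgroup.map H.subtype) heq
    rwa [Subgroup.map_subgroupOf_eq_of_le h.1, Subgroup.map_subgroupOf_eq_of_le h'.1] at this
  have hc := components_commute _ _ h.2 h'.2 hne'
  have := congrArg (Subgroup.map H.subtype) hc
  rwa [Subgroup.map_commutator, Subgroup.map_subgroupOf_eq_of_le h.1,
    Subgroup.map_subgroupOf_eq_of_le h'.1, Subgroup.map_bot] at this

/-- A component of a subgroup is quasisimple as a group. -/
theorem IsComponentIn.isQuasisimple {L H : Subgroup G} (h : IsComponentIn L H) :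
    Cfsg.IsQuasisimple ↥L :=
  isQuasisimple_of_equiv (Subgroup.subgroupOfEquivOfLe h.1) h.2.2

/-- The centralizer of a conjugate element. -/
theorem centralizer_singleton_conj (y g : G) :
    Subgroup.centralizer ({g * y * g⁻¹} : Set G) =
      (Subgroup.centralizer ({y} : Set G)).map (MulAut.conj g).toMonoidHom := by
  ext x
  constructor
  · intro hx
    refine ⟨g⁻¹ * x * g, ?_, by simp [MulAut.conj_apply, mul_assoc]⟩
    rw [SetLike.mem_coe]
    rw [Subgroup.mem_centralizer_singleton_iff] at hx ⊢
    calc g⁻¹ * x * g * y = g⁻¹ * (x * (g * y * g⁻¹)) * g := by group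
      _ = g⁻¹ * ((g * y * g⁻¹) * x) * g := by rw [hx]
      _ = y * (g⁻¹ * x * g) := by group
  · rintro ⟨z, hz, rfl⟩
    rw [SetLike.mem_coe] at hz
    rw [Subgroup.mem_centralizer_singleton_iff] at hz ⊢
    show MulAut.conj g z * (g * y * g⁻¹) = g * y * g⁻¹ * MulAut.conj g z
    rw [MulAut.conj_apply]
    calc g * z * g⁻¹ * (g * y * g⁻¹) = g * (z * y) * g⁻¹ := by group
      _ = g * (y * z) * g⁻¹ := by rw [hz]
      _ = g * y * g⁻¹ * (g * z * g⁻¹) := by group

end Cfsg.Agent.Lib.Helper9

namespace Cfsg.Agent.Lib.Helper9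

universe u

variable {G : Type u} [Group G]

/-- `N_G(L) ≤ N_G(C_G(L))`. -/
theorem normalizer_le_normalizer_centralizer (L : Subgroup G) :
    Subgroup.normalizer (L : Set G) ≤
      Subgroup.normalizer ((Subgroup.centralizer (L : Set G) : Subgroup G) : Set G) := by
  intro g hg
  apply mem_normalizer_of_map_conj_eq
  rw [← centralizer_map_equiv, map_conj_eq_of_mem_normalizer hg]

/-- A component `L` of an involution centralizer, which is a component of `C_G(y)` for every
involution `y ∈ C_G(L)` and commutes with none of its other conjugates, is standard. -/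
theorem isStandardSubgroup_of_component [Finite G] (x : G) (hx : orderOf x = 2) (L : Subgroup G)
    (hLx : L ≤ Subgroup.centralizer ({x} : Set G))
    (hne : ∀ y : G, orderOf y = 2 → y ∈ Subgroup.centralizer (L : Set G) →
      L ≤ Subgroup.centralizer ({y} : Set G) ∧
        Cfsg.IsComponent (L.subgroupOf (Subgroup.centralizer ({y} : Set G))))
    (hnc : ∀ g : G, L.map (MulAut.conj g).toMonoidHom ≠ L →
      ⁅L, L.map (MulAut.conj g).toMonoidHom⁆ ≠ ⊥) : Cfsg.IsStandardSubgroup L := by
  have h2 : Fact (Nat.Prime 2) := ⟨Nat.prime_two⟩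
  have hxL : x ∈ Subgroup.centralizer (L : Set G) := by
    rw [Subgroup.mem_centralizer_iff]
    intro l hl
    exact Subgroup.mem_centralizer_singleton_iff.mp (hLx hl)
  -- Key lemma
  have key : ∀ g y : G, orderOf y = 2 → y ∈ Subgroup.centralizer (L : Set G) →
      y ∈ Subgroup.centralizer ((L.map (MulAut.conj g).toMonoidHom : Subgroup G) : Set G) →
      L.map (MulAut.conj g).toMonoidHom = L := by
    intro g y hy hyL hyLg
    by_contra hcon
    have hc1 : IsComponentIn L (Subgroup.centralizer ({y} : Set G)) := hne y hy hyL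
    have hy' : g⁻¹ * y * g ∈ Subgroup.centralizer (L : Set G) := by
      rw [Subgroup.mem_centralizer_iff]
      intro l hl
      have := (Subgroup.mem_centralizer_iff.mp hyLg) (g * l * g⁻¹) ⟨l, hl, rfl⟩
      calc l * (g⁻¹ * y * g) = g⁻¹ * (g * l * g⁻¹ * y) * g := by group
        _ = g⁻¹ * (y * (g * l * g⁻¹)) * g := by rw [this]
        _ = g⁻¹ * y * g * l := by group
    have hy'o : orderOf (g⁻¹ * y * g) = 2 := by
      have : g⁻¹ * y * g = MulAut.conj g⁻¹ y := by simp [MulAut.conj_apply]
      rw [this]
      have := orderOf_injective (MulAut.conj g⁻¹).toMonoidHom (MulAut.conj g⁻¹).injective y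
      exact this.trans hy
    have hc2 : IsComponentIn L (Subgroup.centralizer ({g⁻¹ * y * g} : Set G)) :=
      hne _ hy'o hy'
    have hc3 := hc2.map_equiv (MulAut.conj g)
    rw [← centralizer_singleton_conj] at hc3
    have hyy : g * (g⁻¹ * y * g) * g⁻¹ = y := by group
    rw [hyy] at hc3
    have := hc1.commutator_eq_bot hc3 (Ne.symm hcon)
    exact hnc g hcon this
  have hcx : IsComponentIn L (Subgroup.centralizer ({x} : Set G)) := hne x hx hxL
  refine ⟨hcx.isQuasisimple, ⟨?_, ?_⟩, hnc, ?_⟩
  · -- even order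
    have : orderOf x ∣ Nat.card ↥(Subgroup.centralizer (L : Set G)) :=
      Subgroup.orderOf_dvd_natCard _ hxL
    rw [hx] at this
    exact even_iff_two_dvd.mpr this
  · intro g hg
    by_contra hodd
    rw [Nat.not_odd_iff_even, even_iff_two_dvd] at hodd
    obtain ⟨y, hy⟩ := exists_prime_orderOf_dvd_card' 2 hodd
    have hyo : orderOf (y : G) = 2 := by rw [Subgroup.orderOf_coe]; exact hy
    have hy1 := (Subgroup.mem_inf.mp y.2).1
    have hy2 : (y : G) ∈ Subgroup.centralizer
        ((L.map (MulAut.conj g).toMonoidHom : Subgroup G) : Set G) := by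
      rw [centralizer_map_equiv]
      exact (Subgroup.mem_inf.mp y.2).2
    have := key g y hyo hy1 hy2
    exact hg (normalizer_le_normalizer_centralizer L (mem_normalizer_of_map_conj_eq this))
  · apply le_antisymm (normalizer_le_normalizer_centralizer L)
    intro g hg
    apply mem_normalizer_of_map_conj_eq
    apply key g x hx hxL
    rw [centralizer_map_equiv, map_conj_eq_of_mem_normalizer hg]
    exact hxL

end Cfsg.Agent.Lib.Helper9
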