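/-
Helper9 library: internal forms of "a `p'`-automorphism trivial on `Ω₁` is trivial (`p` odd)"
(S0120, by helper20) and the Thompson `A × B` lemma (via the normalizer chain lemma).
-/
import Cfsg.Agent.S0120
import Cfsg.Agent.Lib.Helper9.NormalizerChain
import Cfsg.Agent.Lib.Helper9.Standard

set_option autoImplicit false

namespace Cfsg.Agent.Lib.Helper9

universe u

variable {G : Type u} [Group G]

/-- Internal form of S0120: for odd `p`, a `p'`-element normalizing the `p`-subgroup `D` and
centralizing all its elements of order dividing `p` centralizes `D`. -/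
theorem mem_centralizer_of_centralizes_omega [Finite G] {p : ℕ} [Fact p.Prime] (hp : p ≠ 2)
    {D : Subgroup G} (hD : IsPGroup p ↥D) {x : G} (hx : x ∈ Subgroup.normalizer (D : Set G))
    (hcop : (orderOf x).Coprime p) (h : ∀ d ∈ D, d ^ p = 1 → x * d = d * x) :
    x ∈ Subgroup.centralizer (D : Set G) := by
  haveI : (D.subgroupOf (Subgroup.normalizer (D : Set G))).Normal := Subgroup.normal_in_normalizer
  have hD' : IsPGroup p ↥(D.subgroupOf (Subgroup.normalizer (D : Set G))) := hD.comap_subtype
  have hdvd : orderOf (MulAut.conjNormal (H := D.subgroupOf (Subgroup.normalizer (D : Set G)))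
      (⟨x, hx⟩ : ↥(Subgroup.normalizer (D : Set G)))) ∣ orderOf x := by
    have h1 := orderOf_map_dvd
      (MulAut.conjNormal (H := D.subgroupOf (Subgroup.normalizer (D : Set G))))
      (⟨x, hx⟩ : ↥(Subgroup.normalizer (D : Set G)))
    rwa [Subgroup.orderOf_mk] at h1
  have ha := Cfsg.Agent.S0120.result hp hD'
    (MulAut.conjNormal (H := D.subgroupOf (Subgroup.normalizer (D : Set G)))
      (⟨x, hx⟩ : ↥(Subgroup.normalizer (D : Set G))))
    (Nat.Coprime.coprime_dvd_left hdvd hcop)
    (by
      intro y hy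
      apply Subtype.ext
      apply Subtype.ext
      rw [MulAut.conjNormal_apply]
      have hyD : ((y : ↥(Subgroup.normalizer (D : Set G))) : G) ∈ D := y.2
      have hyp : ((y : ↥(Subgroup.normalizer (D : Set G))) : G) ^ p = 1 := by
        have := congrArg (fun z : ↥(D.subgroupOf (Subgroup.normalizer (D : Set G))) =>
          ((z : ↥(Subgroup.normalizer (D : Set G))) : G)) hy
        simpa using this
      have h2 := h _ hyD hyp
      show x * ((y : ↥(Subgroup.normalizer (D : Set G))) : G) * x⁻¹ = _
      rw [h2, mul_inv_cancel_right])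
  rw [Subgroup.mem_centralizer_iff]
  intro d hd
  have h3 := congrArg (fun f : MulAut ↥(D.subgroupOf (Subgroup.normalizer (D : Set G))) =>
    (((f ⟨⟨d, Subgroup.le_normalizer hd⟩, hd⟩ :
      ↥(D.subgroupOf (Subgroup.normalizer (D : Set G)))) :
        ↥(Subgroup.normalizer (D : Set G))) : G)) ha
  simp only [MulAut.conjNormal_apply, MulAut.one_apply] at h3
  have h4 : x * d * x⁻¹ = d := h3
  have h5 : x * d * x⁻¹ * x = d * x := by rw [h4]
  simpa [mul_assoc] using h5.symm

/-- **Thompson `A × B` lemma** (internal form): if the `p`-stable subgroup `A` (e.g. a `p'`-group)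
normalizes the `p`-group `H`, centralizes `E ≤ H` and `C_H(E)`, then it centralizes `H`. -/
theorem commutator_eq_bot_of_centralizes_centralizer [Finite G] {p : ℕ} [Fact p.Prime]
    {H E A : Subgroup G} (hH : IsPGroup p ↥H) (hEH : E ≤ H)
    (hAH : A ≤ Subgroup.normalizer (H : Set G)) (hAE : A ≤ Subgroup.centralizer (E : Set G))
    (hcent : ⁅H ⊓ Subgroup.centralizer (E : Set G), A⁆ = ⊥) (hstar : PStable p A) :
    ⁅H, A⁆ = ⊥ := by
  have hAE' : ⁅A, E⁆ = ⊥ := Subgroup.commutator_eq_bot_iff_le_centralizer.mpr hAE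
  have hANE : A ≤ Subgroup.normalizer (E : Set G) :=
    hAE.trans (Subgroup.centralizer_le_normalizer _)
  -- `[N_H(E), A] ≤ C_H(E)`
  have h1 : ⁅⁅H ⊓ Subgroup.normalizer (E : Set G), A⁆, E⁆ = ⊥ := by
    apply Subgroup.commutator_commutator_eq_bot_of_rotate
    · rw [hAE', Subgroup.commutator_bot_left]
    · have h2 : ⁅E, H ⊓ Subgroup.normalizer (E : Set G)⁆ ≤ E := by
        rw [← Subgroup.le_normalizer_iff_commutator_le_left]
        exact inf_le_right
      have hEA : ⁅E, A⁆ = ⊥ := by rw [Subgroup.commutator_comm]; exact hAE'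
      rw [eq_bot_iff, ← hEA]
      exact Subgroup.commutator_mono h2 le_rfl
  have h3 : ⁅H ⊓ Subgroup.normalizer (E : Set G), A⁆ ≤ H ⊓ Subgroup.centralizer (E : Set G) := by
    apply le_inf
    · refine (Subgroup.commutator_mono inf_le_left le_rfl).trans ?_
      rw [← Subgroup.le_normalizer_iff_commutator_le_left]
      exact hAH
    · exact Subgroup.commutator_eq_bot_iff_le_centralizer.mp h1
  have h4 : ⁅H ⊓ Subgroup.normalizer (E : Set G), A⁆ = ⊥ :=
    hstar _ _ (hH.to_le inf_le_left)
      (inf_le_inf_left H (Subgroup.centralizer_le_normalizer _)) hcent h3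
  exact commutator_eq_bot_of_normalizer_chain hH hEH hANE hAH h4 hstar

end Cfsg.Agent.Lib.Helper9
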