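/-
Helper9 library: `p`-length one (`Cfsg.PLengthLE p 1 G`) unfolded:
the index of `O_{p',p}(G)` is prime to `p`.
-/
import Cfsg.Agent.Lib.Helper9.PConstrained
import Cfsg.Agent.Lib.Helper25.UpperPSeries

set_option autoImplicit false

namespace Cfsg.Agent.Lib.Helper9

universe u

variable {G : Type u} [Group G]

theorem upperPSeries_one (p : ℕ) : (Cfsg.upperPSeries p G 1).1 = Cfsg.pPrimeCore p G := by
  have h1 : (Cfsg.upperPSeries p G 1).1 =
      (Cfsg.pPrimeCore p (G ⧸ (⊥ : Subgroup G))).comap (QuotientGroup.mk' ⊥) := by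
    simp only [Cfsg.upperPSeries, Even.zero, if_true]
    rfl
  rw [h1, ← Cfsg.Agent.Lib.Helper12.pPrimeCore_map_equiv p
    (QuotientGroup.quotientBot (G := G))]
  ext x
  simp only [Subgroup.mem_comap, Subgroup.mem_map]
  constructor
  · intro hx
    exact ⟨_, hx, rfl⟩
  · rintro ⟨y, hy, hyx⟩
    have : y = QuotientGroup.mk' ⊥ x := by
      apply (QuotientGroup.quotientBot (G := G)).injective
      rw [← hyx]
      rfl
    rw [← this]
    exact hy

theorem upperPSeries_succ_of_even (p : ℕ) {n : ℕ} (hn : Even n) :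
    (Cfsg.upperPSeries p G (n + 1)).1 =
      (Cfsg.pPrimeCore p (G ⧸ (Cfsg.upperPSeries p G n).1)).comap (QuotientGroup.mk' _) := by
  rw [Cfsg.upperPSeries]
  simp only [hn, if_true]

theorem upperPSeries_succ_of_not_even (p : ℕ) {n : ℕ} (hn : ¬ Even n) :
    (Cfsg.upperPSeries p G (n + 1)).1 =
      (Cfsg.pCore p (G ⧸ (Cfsg.upperPSeries p G n).1)).comap (QuotientGroup.mk' _) := by
  rw [Cfsg.upperPSeries]
  simp only [hn, if_false]

theorem comap_pCore_quotient_eq_pPrimePCore (p : ℕ) (N : Subgroup G) [N.Normal]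
    (h : N = Cfsg.pPrimeCore p G) :
    (Cfsg.pCore p (G ⧸ N)).comap (QuotientGroup.mk' N) = Cfsg.pPrimePCore p G := by
  subst h
  rfl

theorem upperPSeries_two (p : ℕ) : (Cfsg.upperPSeries p G 2).1 = Cfsg.pPrimePCore p G := by
  rw [upperPSeries_succ_of_not_even p (by decide : ¬ Even 1)]
  exact comap_pCore_quotient_eq_pPrimePCore p _ (upperPSeries_one p)

theorem coprime_index_of_comap_pPrimeCore_eq_top [Finite G] (p : ℕ) (N : Subgroup G) [N.Normal]
    (h : (Cfsg.pPrimeCore p (G ⧸ N)).comap (QuotientGroup.mk' N) = ⊤) :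
    (N.index).Coprime p := by
  have h1 : Cfsg.pPrimeCore p (G ⧸ N) = ⊤ := by
    rw [eq_top_iff]
    intro y _
    obtain ⟨x, rfl⟩ := QuotientGroup.mk'_surjective N y
    have : x ∈ (Cfsg.pPrimeCore p (G ⧸ N)).comap (QuotientGroup.mk' N) := h ▸ Subgroup.mem_top x
    exact this
  have h2 := Cfsg.Agent.Lib.Helper12.pPrimeCore_coprime (X := G ⧸ N) p
  rw [h1, Subgroup.card_top] at h2
  exact h2

/-- `p`-length at most one: the index of `O_{p',p}(G)` is prime to `p`. -/
theorem coprime_index_pPrimePCore_of_pLengthLE_one [Finite G] (p : ℕ)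
    (h : Cfsg.PLengthLE p 1 G) : ((Cfsg.pPrimePCore p G).index).Coprime p := by
  unfold Cfsg.PLengthLE at h
  have h3 : (Cfsg.upperPSeries p G (2 + 1)).1 = ⊤ := h
  rw [upperPSeries_succ_of_even p (by decide : Even 2)] at h3
  have key : ∀ (N : Subgroup G) [N.Normal], N = Cfsg.pPrimePCore p G →
      (Cfsg.pPrimeCore p (G ⧸ N)).comap (QuotientGroup.mk' N) = ⊤ →
        ((Cfsg.pPrimePCore p G).index).Coprime p := by
    intro N _ hN hc
    subst hN
    exact coprime_index_of_comap_pPrimeCore_eq_top p _ hc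
  exact key _ (upperPSeries_two p) h3

end Cfsg.Agent.Lib.Helper9
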