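/-
Helper9 library: solvable groups of `p`-length one, `p` odd: a `p'`-subgroup normalized by a
maximal elementary abelian `p`-subgroup lies in `O_{p'}(G)` (Bender–Glauberman style).
-/
import Cfsg.Agent.Lib.Helper9.PLength
import Cfsg.Agent.Lib.Helper9.OmegaOdd
import Cfsg.Agent.Lib.Helper9.FStar2
import Cfsg.Agent.Lib.Helper9.FStar

set_option autoImplicit false

namespace Cfsg.Agent.Lib.Helper9

universe u

variable {G : Type u} [Group G]

/-- In a finite solvable group `X` with `O_{p'}(X) = 1`, `C_X(O_p(X)) ≤ O_p(X)`. -/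
theorem centralizer_pCore_le_of_isSolvable {X : Type*} [Group X] [Finite X] [Group.IsSolvable X]
    (p : ℕ) [Fact p.Prime] (hO : Cfsg.pPrimeCore p X = ⊥) :
    Subgroup.centralizer (Cfsg.pCore p X : Set X) ≤ Cfsg.pCore p X := by
  have hlay : Cfsg.layer X = ⊥ :=
    layer_eq_bot_of_le_isSolvable (Y := ⊤) inferInstance le_top
  have hF : Cfsg.generalizedFittingSubgroup X = Cfsg.pCore p X := by
    unfold Cfsg.generalizedFittingSubgroup
    rw [hlay, bot_sup_eq]
    exact fittingSubgroup_eq_pCore_of_pPrimeCore_eq_bot p hO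
  have := centralizer_generalizedFittingSubgroup_le (G := X)
  rwa [hF] at this

/-- adjoining a commuting element of order dividing `p` to an elementary abelian subgroup -/
theorem isElementaryAbelian_closure_insert {p : ℕ} {E : Subgroup G}
    (hE : Cfsg.IsElementaryAbelian p E) {d : G} (hd : d ^ p = 1) (hcomm : ∀ e ∈ E, d * e = e * d) :
    Cfsg.IsElementaryAbelian p (Subgroup.closure ((E : Set G) ∪ {d})) := by
  haveI := hE.1
  have hc : ∀ x ∈ ((E : Set G) ∪ {d}), ∀ y ∈ ((E : Set G) ∪ {d}), x * y = y * x := by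
    rintro x (hx | hx) y (hy | hy)
    · exact setLike_mul_comm hx hy
    · rw [Set.mem_singleton_iff] at hy; rw [hy]; exact (hcomm x hx).symm
    · rw [Set.mem_singleton_iff] at hx; rw [hx]; exact hcomm y hy
    · rw [Set.mem_singleton_iff] at hx hy; rw [hx, hy]
  haveI hcommB := Subgroup.isMulCommutative_closure hc
  refine ⟨hcommB, ?_⟩
  intro b hb
  induction hb using Subgroup.closure_induction with
  | mem x hx =>
    rcases hx with hx | hx
    · exact hE.2 x hx
    · rw [Set.mem_singleton_iff] at hx; rw [hx]; exact hd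
  | one => exact one_pow p
  | mul x y hx hy ihx ihy =>
    have : Commute x y := setLike_mul_comm hx hy
    rw [this.mul_pow, ihx, ihy, one_mul]
  | inv x hx ih => rw [inv_pow, ih, inv_one]

/-- **`p`-length one.** Let `G` be a finite solvable group of `p`-length at most one, `p` odd,
`E` a maximal elementary abelian `p`-subgroup and `L` a `p'`-subgroup normalized by `E`. Then
`L ≤ O_{p'}(G)`. -/
theorem le_pPrimeCore_of_pLengthLE_one [Finite G] [Group.IsSolvable G] (p : ℕ) [Fact p.Prime]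
    (hp : p ≠ 2) (hpl : Cfsg.PLengthLE p 1 G) (E L : Subgroup G)
    (hE : Cfsg.IsElementaryAbelian p E)
    (hEmax : ∀ B : Subgroup G, Cfsg.IsElementaryAbelian p B → E ≤ B → B = E)
    (hL : (Nat.card L).Coprime p) (hEL : E ≤ Subgroup.normalizer (L : Set G)) :
    L ≤ Cfsg.pPrimeCore p G := by
  have hpr : p.Prime := Fact.out
  have hπ := QuotientGroup.mk'_surjective (Cfsg.pPrimeCore p G)
  have hObot : Cfsg.pPrimeCore p (G ⧸ Cfsg.pPrimeCore p G) = ⊥ := pPrimeCore_quotient_eq_bot p
  have hPp : IsPGroup p ↥(Cfsg.pCore p (G ⧸ Cfsg.pPrimeCore p G)) :=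
    Cfsg.Agent.Lib.Helper1.pCore_isPGroup p _
  obtain ⟨kP, hkP⟩ := IsPGroup.iff_card.mp hPp
  -- the index of `O_p(G/O_{p'}(G))` is prime to `p`
  have hPidx : ((Cfsg.pCore p (G ⧸ Cfsg.pPrimeCore p G)).index).Coprime p := by
    have h1 := coprime_index_pPrimePCore_of_pLengthLE_one p hpl
    unfold Cfsg.pPrimePCore at h1
    rwa [Subgroup.index_comap_of_surjective _ hπ] at h1
  -- a Sylow `p`-subgroup containing `E`
  have hEp : IsPGroup p ↥E := by
    intro a
    refine ⟨1, ?_⟩
    apply Subtype.ext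
    rw [pow_one]
    simpa using hE.2 a a.2
  obtain ⟨T, hET⟩ := hEp.exists_le_sylow
  have hTP : (T : Subgroup G).map (QuotientGroup.mk' (Cfsg.pPrimeCore p G)) =
      Cfsg.pCore p (G ⧸ Cfsg.pPrimeCore p G) := by
    apply le_antisymm
    · rw [← Subgroup.relIndex_eq_one]
      have h1 : (Cfsg.pCore p (G ⧸ Cfsg.pPrimeCore p G)).relIndex
          ((T : Subgroup G).map (QuotientGroup.mk' (Cfsg.pPrimeCore p G))) ∣
          (Cfsg.pCore p (G ⧸ Cfsg.pPrimeCore p G)).index :=
        Subgroup.relIndex_dvd_index_of_normal _ _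
      have h2 := Subgroup.relIndex_dvd_card (Cfsg.pCore p (G ⧸ Cfsg.pPrimeCore p G))
          ((T : Subgroup G).map (QuotientGroup.mk' (Cfsg.pPrimeCore p G)))
      obtain ⟨k, hk⟩ := IsPGroup.iff_card.mp
        (T.isPGroup'.map (QuotientGroup.mk' (Cfsg.pPrimeCore p G)))
      rw [hk] at h2
      have h3 := Nat.Coprime.coprime_dvd_left h1 hPidx
      have h4 := Nat.Coprime.pow_right k h3
      exact Nat.Coprime.eq_one_of_dvd h4 h2
    · have := Cfsg.Agent.Lib.Helper1.pCore_le_sylow (Sylow.mapSurjective hπ T)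
      rwa [Sylow.coe_mapSurjective] at this
  have hTO : ∀ t ∈ (T : Subgroup G), QuotientGroup.mk' (Cfsg.pPrimeCore p G) t = 1 → t = 1 := by
    intro t ht h1
    have h2 : t ∈ Cfsg.pPrimeCore p G := by
      rwa [QuotientGroup.mk'_apply, QuotientGroup.eq_one_iff] at h1
    obtain ⟨k, hk⟩ := IsPGroup.iff_card.mp T.isPGroup'
    have hd : Disjoint (T : Subgroup G) (Cfsg.pPrimeCore p G) := by
      apply Subgroup.disjoint_of_coprime_natCard
      rw [hk]
      exact Nat.Coprime.pow_left k (Cfsg.Agent.Lib.Helper12.pPrimeCore_coprime p).symm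
    have := hd.le_bot (Subgroup.mem_inf.mpr ⟨ht, h2⟩)
    exact Subgroup.mem_bot.mp this
  -- images of `E` and `L`
  have hEbP : E.map (QuotientGroup.mk' (Cfsg.pPrimeCore p G)) ≤
      Cfsg.pCore p (G ⧸ Cfsg.pPrimeCore p G) := by
    rw [← hTP]; exact Subgroup.map_mono hET
  have hLbcop : (Nat.card ↥(L.map (QuotientGroup.mk' (Cfsg.pPrimeCore p G)))).Coprime p :=
    Nat.Coprime.coprime_dvd_left (Subgroup.card_map_dvd _ _) hL
  have hLP : Disjoint (L.map (QuotientGroup.mk' (Cfsg.pPrimeCore p G)))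
      (Cfsg.pCore p (G ⧸ Cfsg.pPrimeCore p G)) := by
    apply Subgroup.disjoint_of_coprime_natCard
    rw [hkP]
    exact Nat.Coprime.pow_right kP hLbcop
  have hLE : L.map (QuotientGroup.mk' (Cfsg.pPrimeCore p G)) ≤
      Subgroup.centralizer ((E.map (QuotientGroup.mk' (Cfsg.pPrimeCore p G)) :
        Subgroup (G ⧸ Cfsg.pPrimeCore p G)) : Set (G ⧸ Cfsg.pPrimeCore p G)) := by
    rw [← Subgroup.commutator_eq_bot_iff_le_centralizer, eq_bot_iff]
    have h1 : ⁅L.map (QuotientGroup.mk' (Cfsg.pPrimeCore p G)),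
        E.map (QuotientGroup.mk' (Cfsg.pPrimeCore p G))⁆ ≤
        L.map (QuotientGroup.mk' (Cfsg.pPrimeCore p G)) := by
      rw [← Subgroup.le_normalizer_iff_commutator_le_left]
      exact (Subgroup.map_mono hEL).trans (Subgroup.le_normalizer_map _)
    have h2 : ⁅L.map (QuotientGroup.mk' (Cfsg.pPrimeCore p G)),
        E.map (QuotientGroup.mk' (Cfsg.pPrimeCore p G))⁆ ≤
        Cfsg.pCore p (G ⧸ Cfsg.pPrimeCore p G) :=
      (Subgroup.commutator_mono le_top hEbP).trans (Subgroup.commutator_le_right _ _)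
    exact (le_inf h1 h2).trans (disjoint_iff.mp hLP).le
  -- elements of order `p` of `C_{P̄}(Ē)` lie in `Ē`
  have hΩ : ∀ d ∈ Cfsg.pCore p (G ⧸ Cfsg.pPrimeCore p G) ⊓
      Subgroup.centralizer ((E.map (QuotientGroup.mk' (Cfsg.pPrimeCore p G)) :
        Subgroup (G ⧸ Cfsg.pPrimeCore p G)) : Set (G ⧸ Cfsg.pPrimeCore p G)),
      d ^ p = 1 → d ∈ E.map (QuotientGroup.mk' (Cfsg.pPrimeCore p G)) := by
    intro d hd hdp
    rw [Subgroup.mem_inf] at hd
    obtain ⟨hdP, hdC⟩ := hd
    rw [← hTP] at hdP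
    obtain ⟨t, ht, rfl⟩ := hdP
    have htp : t ^ p = 1 := by
      apply hTO _ ((T : Subgroup G).pow_mem ht p)
      rw [map_pow]; exact hdp
    have htc : ∀ e ∈ E, t * e = e * t := by
      intro e he
      have h1 : t * e * t⁻¹ * e⁻¹ = 1 := by
        apply hTO _ ((T : Subgroup G).mul_mem ((T : Subgroup G).mul_mem
          ((T : Subgroup G).mul_mem ht (hET he)) ((T : Subgroup G).inv_mem ht))
          ((T : Subgroup G).inv_mem (hET he)))
        have h2 := (Subgroup.mem_centralizer_iff.mp hdC)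
          (QuotientGroup.mk' (Cfsg.pPrimeCore p G) e) ⟨e, he, rfl⟩
        simp only [map_mul, map_inv]
        rw [← h2, mul_inv_cancel_right, mul_inv_cancel]
      have h3 : t * e * t⁻¹ * e⁻¹ * e * t = 1 * e * t := by rw [h1]
      simpa [mul_assoc] using h3
    have hB := isElementaryAbelian_closure_insert hE htp htc
    have hEB : E ≤ Subgroup.closure ((E : Set G) ∪ {t}) :=
      fun e he => Subgroup.subset_closure (Or.inl he)
    have hBE := hEmax _ hB hEB
    have : t ∈ E := by
      rw [← hBE]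
      exact Subgroup.subset_closure (Or.inr rfl)
    exact ⟨t, this, rfl⟩
  -- `L̄` centralizes `C_{P̄}(Ē)`
  have hcent : ⁅Cfsg.pCore p (G ⧸ Cfsg.pPrimeCore p G) ⊓
      Subgroup.centralizer ((E.map (QuotientGroup.mk' (Cfsg.pPrimeCore p G)) :
        Subgroup (G ⧸ Cfsg.pPrimeCore p G)) : Set (G ⧸ Cfsg.pPrimeCore p G)),
      L.map (QuotientGroup.mk' (Cfsg.pPrimeCore p G))⁆ = ⊥ := by
    rw [Subgroup.commutator_comm, Subgroup.commutator_eq_bot_iff_le_centralizer]
    intro x hx
    apply mem_centralizer_of_centralizes_omega hp (hPp.to_le inf_le_left)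
    · apply mem_normalizer_inf
      · rw [Subgroup.normalizer_eq_top_iff.mpr inferInstance]
        exact Subgroup.mem_top x
      · exact normalizer_le_normalizer_centralizer _
          ((Subgroup.centralizer_le_normalizer _) (hLE hx))
    · exact Nat.Coprime.coprime_dvd_left (Subgroup.orderOf_dvd_natCard _ hx) hLbcop
    · intro d hd hdp
      have h1 := hΩ d hd hdp
      exact ((Subgroup.mem_centralizer_iff.mp (hLE hx)) d h1).symm
  have key := commutator_eq_bot_of_centralizes_centralizer hPp hEbP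
    (by
      rw [Subgroup.normalizer_eq_top_iff.mpr inferInstance]
      exact le_top)
    hLE hcent (pStable_of_coprime p hLbcop)
  rw [Subgroup.commutator_comm, Subgroup.commutator_eq_bot_iff_le_centralizer] at key
  have h5 : L.map (QuotientGroup.mk' (Cfsg.pPrimeCore p G)) ≤
      Cfsg.pCore p (G ⧸ Cfsg.pPrimeCore p G) :=
    key.trans (centralizer_pCore_le_of_isSolvable p hObot)
  have h6 : L.map (QuotientGroup.mk' (Cfsg.pPrimeCore p G)) = ⊥ :=
    eq_bot_iff.mpr ((le_inf le_rfl h5).trans (disjoint_iff.mp hLP).le)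
  intro l hl
  have : QuotientGroup.mk' (Cfsg.pPrimeCore p G) l ∈
      L.map (QuotientGroup.mk' (Cfsg.pPrimeCore p G)) := ⟨l, hl, rfl⟩
  rw [h6, Subgroup.mem_bot, QuotientGroup.mk'_apply, QuotientGroup.eq_one_iff] at this
  exact this

end Cfsg.Agent.Lib.Helper9
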