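import Cfsg.Agent.Lib.Helper9.PConstrainedSub
import Cfsg.Agent.Lib.Helper12.HallHigman
import Cfsg.Agent.Lib.Helper24.PSolvable

/-!
Helper lemmas (helper9): a group in which `C_G(P)` is `p`-solvable, `P` a Sylow `p`-subgroup of `O_{p',p}(G)`,
is `p`-constrained.
-/

set_option autoImplicit false

namespace Cfsg.Agent.Lib.Helper9

universe u

variable {X : Type u} [Group X]

/-- If a normal subgroup `D` with `O_{p'}(Q) = 1` is `p`-solvable and contains the layer, the layer is trivial. -/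
theorem layer_eq_bot_of_le_normal_isPSolvable {Q : Type u} [Group Q] [Finite Q] (p : ℕ) [Fact p.Prime]
    (hQ : Cfsg.pPrimeCore p Q = ⊥) (D : Subgroup Q) [hD : D.Normal]
    (hsol : Cfsg.IsPSolvable p ↥D) (hle : Cfsg.layer Q ≤ D) : Cfsg.layer Q = ⊥ := by
  have hOD : Cfsg.pPrimeCore p ↥D = ⊥ := by
    rw [pPrimeCore_subgroup_eq_subgroupOf p hD.isSubnormal, hQ, Subgroup.bot_subgroupOf]
  have hHH := Cfsg.Agent.Lib.Helper12.centralizer_pCore_le_pCore p hsol hOD
  -- `O_p(D)` lies in `F(Q)`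
  have hpF : (Cfsg.pCore p ↥D).map D.subtype ≤ Cfsg.fittingSubgroup Q := by
    refine le_trans (Subgroup.map_mono ?_) (fittingSubgroup_map_subtype_le_of_normal D)
    apply Cfsg.Agent.Lib.Helper1.le_fittingSubgroup (Cfsg.Agent.Lib.Helper24.pCore_normal' p)
    exact (Cfsg.Agent.Lib.Helper12.pCore_isPGroup' p).isNilpotent
  have hcen : (Cfsg.layer Q).subgroupOf D ≤
      Subgroup.centralizer ((Cfsg.pCore p ↥D : Subgroup ↥D) : Set ↥D) := by
    intro x hx
    rw [Subgroup.mem_centralizer_iff]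
    intro y hy
    have h1 : (x : Q) ∈ Subgroup.centralizer (Cfsg.fittingSubgroup Q : Set Q) :=
      layer_le_centralizer_fittingSubgroup (Subgroup.mem_subgroupOf.mp hx)
    have h2 : (y : Q) ∈ Cfsg.fittingSubgroup Q := hpF ⟨y, hy, rfl⟩
    apply Subtype.ext
    exact (Subgroup.mem_centralizer_iff.mp h1) _ h2
  have hle2 : Cfsg.layer Q ≤ (Cfsg.pCore p ↥D).map D.subtype := by
    intro x hx
    exact ⟨⟨x, hle hx⟩, hHH (hcen (Subgroup.mem_subgroupOf.mpr hx)), rfl⟩
  have hsolv : Group.IsSolvable ↥((Cfsg.pCore p ↥D).map D.subtype) := by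
    have hp : IsPGroup p ↥((Cfsg.pCore p ↥D).map D.subtype) :=
      (Cfsg.Agent.Lib.Helper12.pCore_isPGroup' p).map D.subtype
    have := hp.isNilpotent
    infer_instance
  exact layer_eq_bot_of_le_isSolvable hsolv hle2

/-- A group in which the centralizer of a Sylow `p`-subgroup of `O_{p',p}(X)` is `p`-solvable is `p`-constrained. -/
theorem isPConstrained_of_isPSolvable_centralizer [Finite X] (p : ℕ) [Fact p.Prime]
    (P : Sylow p ↥(Cfsg.pPrimePCore p X))
    (hsol : Cfsg.IsPSolvable p ↥(Subgroup.centralizer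
      (((P : Subgroup ↥(Cfsg.pPrimePCore p X)).map (Cfsg.pPrimePCore p X).subtype : Subgroup X) :
        Set X))) : Cfsg.IsPConstrained p X := by
  rw [isPConstrained_iff_layer_quotient_eq_bot]
  set C : Subgroup X := Subgroup.centralizer
    (((P : Subgroup ↥(Cfsg.pPrimePCore p X)).map (Cfsg.pPrimePCore p X).subtype : Subgroup X) :
      Set X) with hC
  have hDeq : C.map (QuotientGroup.mk' (Cfsg.pPrimeCore p X)) =
      Subgroup.centralizer (Cfsg.pCore p (X ⧸ Cfsg.pPrimeCore p X) :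
        Set (X ⧸ Cfsg.pPrimeCore p X)) := by
    apply le_antisymm
    · rintro _ ⟨x, hx, rfl⟩
      exact map_mem_centralizer_pCore_of_mem_centralizer_sylow p P hx
    · intro y hy
      obtain ⟨x, rfl⟩ := QuotientGroup.mk'_surjective _ y
      obtain ⟨n, hn, hxn⟩ := exists_mem_centralizer_sylow_of_map_mem_centralizer_pCore p P hy
      refine ⟨x * n, hxn, ?_⟩
      have h1 : QuotientGroup.mk' (Cfsg.pPrimeCore p X) n = 1 := (QuotientGroup.eq_one_iff n).mpr hn
      rw [map_mul, h1, mul_one]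
  haveI hpn : (Cfsg.pCore p (X ⧸ Cfsg.pPrimeCore p X)).Normal :=
    Cfsg.Agent.Lib.Helper24.pCore_normal' p
  haveI hDn : (C.map (QuotientGroup.mk' (Cfsg.pPrimeCore p X))).Normal := by
    rw [hDeq]; exact Subgroup.normal_centralizer
  have hDsol : Cfsg.IsPSolvable p ↥(C.map (QuotientGroup.mk' (Cfsg.pPrimeCore p X))) :=
    Cfsg.Agent.Lib.Helper24.isPSolvable_of_surjective p
      ((QuotientGroup.mk' (Cfsg.pPrimeCore p X)).subgroupMap C)
      (MonoidHom.subgroupMap_surjective _ C) hsol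
  apply layer_eq_bot_of_le_normal_isPSolvable p (pPrimeCore_quotient_eq_bot p)
    (C.map (QuotientGroup.mk' (Cfsg.pPrimeCore p X))) hDsol
  rw [hDeq]
  have hF : Cfsg.fittingSubgroup (X ⧸ Cfsg.pPrimeCore p X) =
      Cfsg.pCore p (X ⧸ Cfsg.pPrimeCore p X) :=
    fittingSubgroup_eq_pCore_of_pPrimeCore_eq_bot p (pPrimeCore_quotient_eq_bot p)
  have := layer_le_centralizer_fittingSubgroup (G := X ⧸ Cfsg.pPrimeCore p X)
  rwa [hF] at this

end Cfsg.Agent.Lib.Helper9
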