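import Cfsg.Agent.Lib.Helper9.PLength
import Cfsg.Agent.Lib.Helper12.PPrimeP

/-!
Helper lemmas (helper9): fusion in groups of `p`-length one: `G = N_G(S) O_{p'}(G)`, control of fusion by `N_G(S)`.
-/

set_option autoImplicit false

namespace Cfsg.Agent.Lib.Helper9

open scoped Pointwise

universe u

variable {G : Type u} [Group G] [Finite G] {p : ℕ} [Fact p.Prime]

/-- In a group of `p`-length one, a Sylow `p`-subgroup lies in `O_{p',p}(G)`. -/
theorem sylow_le_pPrimePCore_of_pLengthLE_one (h : Cfsg.PLengthLE p 1 G) (S : Sylow p G) :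
    (S : Subgroup G) ≤ Cfsg.pPrimePCore p G := by
  have hcop := coprime_index_pPrimePCore_of_pLengthLE_one p h
  haveI : (Cfsg.pPrimePCore p G).Normal := Cfsg.Agent.Lib.Helper12.pPrimePCore_normal' p
  rw [← Subgroup.relIndex_eq_one]
  have h1 : (Cfsg.pPrimePCore p G).relIndex S ∣ (Cfsg.pPrimePCore p G).index :=
    Subgroup.relIndex_dvd_index_of_normal _ _
  have h2 : (Cfsg.pPrimePCore p G).relIndex S ∣ Nat.card (S : Subgroup G) :=
    Subgroup.relIndex_dvd_card _ _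
  obtain ⟨n, hn⟩ := IsPGroup.iff_card.mp S.isPGroup'
  rw [hn] at h2
  exact Nat.eq_one_of_dvd_coprimes (hcop.pow_right n) h1 h2

/-- `O_{p',p}(G) = S O_{p'}(G)` in a group of `p`-length one. -/
theorem exists_mul_of_mem_pPrimePCore (h : Cfsg.PLengthLE p 1 G) (S : Sylow p G) {l : G}
    (hl : l ∈ Cfsg.pPrimePCore p G) :
    ∃ s ∈ (S : Subgroup G), ∃ k ∈ Cfsg.pPrimeCore p G, l = s * k := by
  have hSL := sylow_le_pPrimePCore_of_pLengthLE_one h S
  have hy : QuotientGroup.mk' (Cfsg.pPrimeCore p G) l ∈ Cfsg.pCore p (G ⧸ Cfsg.pPrimeCore p G) :=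
    (mem_pPrimePCore_iff p l).mp hl
  obtain ⟨x, hx, hxl⟩ := exists_mem_sylow_pPrimePCore_map_eq p (S.subtype hSL) _ hy
  have hxS : x ∈ (S : Subgroup G) := by
    rw [Sylow.coe_subtype, Subgroup.subgroupOf_map_subtype] at hx
    exact hx.1
  refine ⟨x, hxS, x⁻¹ * l, ?_, by group⟩
  apply (QuotientGroup.eq_one_iff _).mp
  show QuotientGroup.mk' (Cfsg.pPrimeCore p G) (x⁻¹ * l) = 1
  rw [map_mul, map_inv, hxl, inv_mul_cancel]

/-- `G = N_G(S) O_{p'}(G)` in a group of `p`-length one. -/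
theorem exists_normalizer_mul_of_pLengthLE_one (h : Cfsg.PLengthLE p 1 G) (S : Sylow p G) (x : G) :
    ∃ g ∈ Subgroup.normalizer ((S : Subgroup G) : Set G), ∃ k ∈ Cfsg.pPrimeCore p G, x = g * k := by
  have hSL := sylow_le_pPrimePCore_of_pLengthLE_one h S
  haveI : (Cfsg.pPrimePCore p G).Normal := Cfsg.Agent.Lib.Helper12.pPrimePCore_normal' p
  have htop := Sylow.normalizer_sup_eq_top' S hSL
  have hx : x ∈ Subgroup.normalizer ((S : Subgroup G) : Set G) ⊔ Cfsg.pPrimePCore p G :=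
    htop ▸ Subgroup.mem_top x
  rw [← SetLike.mem_coe, Subgroup.mul_normal, Set.mem_mul] at hx
  obtain ⟨n, hn, l, hl, rfl⟩ := hx
  obtain ⟨s, hs, k, hk, rfl⟩ := exists_mul_of_mem_pPrimePCore h S hl
  exact ⟨n * s, Subgroup.mul_mem _ hn (Subgroup.le_normalizer hs), k, hk, by group⟩

theorem eq_one_of_mem_sylow_of_mem_pPrimeCore (S : Sylow p G) {a : G} (haS : a ∈ (S : Subgroup G))
    (haK : a ∈ Cfsg.pPrimeCore p G) : a = 1 := by
  have h := Cfsg.Agent.Lib.Helper12.inf_eq_bot_of_coprime_of_isPGroup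
    (Cfsg.Agent.Lib.Helper12.pPrimeCore_coprime (X := G) p) S.isPGroup'
  have : a ∈ Cfsg.pPrimeCore p G ⊓ (S : Subgroup G) := ⟨haK, haS⟩
  rw [h] at this
  exact Subgroup.mem_bot.mp this

/-- If `k ∈ O_{p'}(G)` conjugates `y ∈ S` into `S` then `k` centralizes `y`. -/
theorem conj_eq_of_mem_pPrimeCore (S : Sylow p G) {k y : G} (hk : k ∈ Cfsg.pPrimeCore p G)
    (hy : y ∈ (S : Subgroup G)) (hky : k * y * k⁻¹ ∈ (S : Subgroup G)) : k * y * k⁻¹ = y := by
  haveI : (Cfsg.pPrimeCore p G).Normal := Cfsg.Agent.Lib.Helper12.pPrimeCore_normal' p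
  have h1 : k * y * k⁻¹ * y⁻¹ ∈ (S : Subgroup G) := Subgroup.mul_mem _ hky (Subgroup.inv_mem _ hy)
  have h2 : k * y * k⁻¹ * y⁻¹ ∈ Cfsg.pPrimeCore p G := by
    have h3 : y * k⁻¹ * y⁻¹ ∈ Cfsg.pPrimeCore p G :=
      Subgroup.Normal.conj_mem inferInstance _ (Subgroup.inv_mem _ hk) y
    have e : k * y * k⁻¹ * y⁻¹ = k * (y * k⁻¹ * y⁻¹) := by group
    rw [e]
    exact Subgroup.mul_mem _ hk h3
  have h4 := eq_one_of_mem_sylow_of_mem_pPrimeCore S h1 h2
  exact mul_inv_eq_one.mp h4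

/-- **Control of fusion in `p`-length one**: if `Y ⊆ S` and `xYx⁻¹ ⊆ S` then `x = g c` with `g ∈ N_G(S)`,
`c ∈ C_G(Y)`. -/
theorem exists_normalizer_mul_centralizer (h : Cfsg.PLengthLE p 1 G) (S : Sylow p G) (Y : Set G)
    (x : G) (hY : Y ⊆ (S : Subgroup G)) (hxY : (fun y => x * y * x⁻¹) '' Y ⊆ (S : Subgroup G)) :
    ∃ g ∈ Subgroup.normalizer ((S : Subgroup G) : Set G), ∃ c ∈ Subgroup.centralizer Y, g * c = x := by
  obtain ⟨g, hg, k, hk, rfl⟩ := exists_normalizer_mul_of_pLengthLE_one h S x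
  refine ⟨g, hg, k, ?_, rfl⟩
  rw [Subgroup.mem_centralizer_iff]
  intro y hy
  have h1 : g * k * y * (g * k)⁻¹ ∈ (S : Subgroup G) := hxY ⟨y, hy, rfl⟩
  have h2 : k * y * k⁻¹ ∈ (S : Subgroup G) := by
    have h3 := (Subgroup.mem_normalizer_iff.mp (Subgroup.inv_mem _ hg) _).mp h1
    have e : g⁻¹ * (g * k * y * (g * k)⁻¹) * g⁻¹⁻¹ = k * y * k⁻¹ := by group
    rwa [e] at h3
  have h4 := conj_eq_of_mem_pPrimeCore S hk (hY hy) h2
  calc y * k = (k * y * k⁻¹) * k := by rw [h4]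
    _ = k * y := by group

/-- Every `p`-subgroup `Q` is conjugate into `S` by an element centralizing `Q ∩ S`. -/
theorem exists_centralizer_conj_le (h : Cfsg.PLengthLE p 1 G) (S : Sylow p G) (Q : Subgroup G)
    (hQ : IsPGroup p ↥Q) :
    ∃ x ∈ Subgroup.centralizer ((Q ⊓ (S : Subgroup G) : Subgroup G) : Set G),
      Q.map (MulAut.conj x).toMonoidHom ≤ (S : Subgroup G) := by
  obtain ⟨S', hQS'⟩ := hQ.exists_le_sylow
  obtain ⟨g, hg⟩ := MulAction.exists_smul_eq G S S'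
  -- `S' = g S g⁻¹`
  obtain ⟨n, hn, k, hk, hgk⟩ := exists_normalizer_mul_of_pLengthLE_one h S g⁻¹
  -- `g = k⁻¹ n⁻¹`
  have hconj : ∀ q ∈ Q, k * q * k⁻¹ ∈ (S : Subgroup G) := by
    intro q hq
    have h1 : q ∈ (S' : Subgroup G) := hQS' hq
    rw [← hg, Sylow.smul_def, Sylow.pointwise_smul_def] at h1
    have h1' : q ∈ MulAut.conj g • (S : Subgroup G) := h1
    rw [Subgroup.mem_smul_pointwise_iff_exists] at h1'
    obtain ⟨s, hs, hsq⟩ := h1'
    rw [MulAut.smul_def, MulAut.conj_apply] at hsq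
    -- `q = g s g⁻¹`, `g⁻¹ = n k`
    have h2 : g⁻¹ * q * g⁻¹⁻¹ = s := by rw [← hsq]; group
    rw [hgk] at h2
    have h3 : k * q * k⁻¹ = n⁻¹ * s * n⁻¹⁻¹ := by rw [← h2]; group
    rw [h3]
    exact (Subgroup.mem_normalizer_iff.mp (Subgroup.inv_mem _ hn) s).mp hs
  refine ⟨k, ?_, ?_⟩
  · rw [Subgroup.mem_centralizer_iff]
    intro y hy
    have h4 := conj_eq_of_mem_pPrimeCore S hk hy.2 (hconj y hy.1)
    calc y * k = (k * y * k⁻¹) * k := by rw [h4]
      _ = k * y := by group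
  · rintro _ ⟨q, hq, rfl⟩
    exact hconj q hq

end Cfsg.Agent.Lib.Helper9

namespace Cfsg.Agent.Lib.Helper9

universe u

variable {G : Type u} [Group G] [Finite G] {p : ℕ} [Fact p.Prime]

theorem exists_mul_pow_of_le_normalizer {D : Subgroup G} {n' k : G} (hn' : n' ∈ D)
    (hk : k ∈ Subgroup.normalizer (D : Set G)) (j : ℕ) : ∃ c ∈ D, (n' * k) ^ j = c * k ^ j := by
  induction j with
  | zero => exact ⟨1, D.one_mem, by simp⟩
  | succ j ih =>
    obtain ⟨c, hc, hcj⟩ := ih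
    have h1 : k ^ j * n' * (k ^ j)⁻¹ ∈ D :=
      (Subgroup.mem_normalizer_iff.mp (Subgroup.pow_mem _ hk j) n').mp hn'
    refine ⟨c * (k ^ j * n' * (k ^ j)⁻¹), D.mul_mem hc h1, ?_⟩
    rw [pow_succ, hcj, pow_succ]
    group

/-- In a group of `p`-length one, `S ≤ G'` implies `S ≤ N_G(S)'`. -/
theorem sylow_le_commutator_normalizer (h : Cfsg.PLengthLE p 1 G) (S : Sylow p G)
    (hS : (S : Subgroup G) ≤ commutator G) :
    (S : Subgroup G) ≤ ⁅Subgroup.normalizer ((S : Subgroup G) : Set G),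
      Subgroup.normalizer ((S : Subgroup G) : Set G)⁆ := by
  haveI : (Cfsg.pPrimeCore p G).Normal := Cfsg.Agent.Lib.Helper12.pPrimeCore_normal' p
  set N := Subgroup.normalizer ((S : Subgroup G) : Set G) with hN
  set π := QuotientGroup.mk' (Cfsg.pPrimeCore p G) with hπ
  have hNtop : N.map π = ⊤ := by
    rw [eq_top_iff]
    intro y _
    obtain ⟨x, rfl⟩ := QuotientGroup.mk'_surjective _ y
    obtain ⟨g, hg, k, hk, rfl⟩ := exists_normalizer_mul_of_pLengthLE_one h S x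
    refine ⟨g, hg, ?_⟩
    have h1 : π k = 1 := (QuotientGroup.eq_one_iff k).mpr hk
    rw [map_mul, h1, mul_one]
  have hcomm : commutator G ≤ ⁅N, N⁆ ⊔ Cfsg.pPrimeCore p G := by
    have h1 : (commutator G).map π = (⁅N, N⁆).map π := by
      rw [commutator_def, Subgroup.map_commutator, Subgroup.map_commutator, hNtop,
        Subgroup.map_top_of_surjective π (QuotientGroup.mk'_surjective _)]
    have h2 : commutator G ≤ ((commutator G).map π).comap π := Subgroup.le_comap_map π _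
    rw [h1, Subgroup.comap_map_eq, QuotientGroup.ker_mk'] at h2
    exact h2
  have hDN : N ≤ Subgroup.normalizer ((⁅N, N⁆ : Subgroup G) : Set G) := by
    rw [Subgroup.le_normalizer_iff_commutator_le_left]
    exact Subgroup.commutator_mono (Subgroup.commutator_le_self N) le_rfl
  intro s hs
  have hs' : s ∈ ⁅N, N⁆ ⊔ Cfsg.pPrimeCore p G := hcomm (hS hs)
  rw [← SetLike.mem_coe, Subgroup.mul_normal, Set.mem_mul] at hs'
  obtain ⟨n', hn', k, hk, rfl⟩ := hs'
  have hn'N : n' ∈ N := Subgroup.commutator_le_self N hn'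
  have hkN : k ∈ N := by
    have : k = n'⁻¹ * (n' * k) := by group
    rw [this]
    exact N.mul_mem (N.inv_mem hn'N) (Subgroup.le_normalizer hs)
  obtain ⟨c, hc, hcm⟩ := exists_mul_pow_of_le_normalizer hn' (hDN hkN)
    (Nat.card ↥(Cfsg.pPrimeCore p G))
  have hk1 : k ^ Nat.card ↥(Cfsg.pPrimeCore p G) = 1 := by
    have := pow_card_eq_one' (G := ↥(Cfsg.pPrimeCore p G)) (x := ⟨k, hk⟩)
    exact congrArg Subtype.val this
  rw [hk1, mul_one] at hcm
  -- `(n' k)^m ∈ ⁅N,N⁆` and the order of `n' k` is prime to `m`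
  have hord : (Nat.card ↥(Cfsg.pPrimeCore p G)).Coprime (orderOf (n' * k)) := by
    obtain ⟨j, hj⟩ := IsPGroup.iff_card.mp S.isPGroup'
    have h1 : orderOf (n' * k) ∣ p ^ j := by
      rw [← hj]
      have := orderOf_dvd_natCard (⟨n' * k, hs⟩ : ↥(S : Subgroup G))
      rwa [Subgroup.orderOf_mk] at this
    obtain ⟨i, _, hi⟩ := (Nat.dvd_prime_pow (Fact.out : p.Prime)).mp h1
    rw [hi]
    exact Nat.Coprime.pow_right i (Cfsg.Agent.Lib.Helper12.pPrimeCore_coprime (X := G) p)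
  obtain ⟨t, ht⟩ := exists_pow_eq_self_of_coprime hord
  rw [← ht, hcm]
  exact Subgroup.pow_mem _ hc t

end Cfsg.Agent.Lib.Helper9
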