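/-
Helper9 library: coprime action and invariant Sylow subgroups (internal form).
`A`, `N` subgroups of a finite group `G`, `A ≤ N_G(N)`, `(|A|, |N|) = 1`, `A` or `N` solvable.
* `exists_invariant_sylow` : there is an `A`-invariant Sylow `q`-subgroup of `N`;
* `invariant_sylow_conj`   : two such are conjugate under `C_N(A)`;
* `invariant_sylow_unique` : if `C_N(A) = 1` there is only one.
-/
import Mathlib
import Cfsg.Agent.Lib.Helper1.Coprime

set_option autoImplicit false
open Pointwise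

namespace Cfsg.Agent.Lib.Helper9

open Subgroup Cfsg.Agent.Lib.Helper1

variable {G : Type*} [Group G]

/-- The image in `G` of the conjugate of a Sylow subgroup of `N` by an element of `N`. -/
theorem map_subtype_smul_sylow {N : Subgroup G} {q : ℕ} [Fact q.Prime] (k : ↥N) (Q : Sylow q ↥N) :
    (((k • Q : Sylow q ↥N) : Subgroup ↥N)).map N.subtype =
      MulAut.conj (k : G) • ((Q : Subgroup ↥N).map N.subtype) := by
  rw [Sylow.coe_subgroup_smul, map_subtype_conj_smul]


/-- The image in `G` of the conjugate of a Sylow subgroup of `N` by an element of `N_G(N)`. -/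
theorem map_subtype_normalizer_smul_sylow {N : Subgroup G} {q : ℕ} [Fact q.Prime]
    (γ : ↥(normalizer (N : Set G))) (Q : Sylow q ↥N) :
    (((γ • Q : Sylow q ↥N) : Subgroup ↥N)).map N.subtype =
      MulAut.conj (γ : G) • ((Q : Subgroup ↥N).map N.subtype) := by
  ext x
  rw [mem_conj_smul_iff]
  constructor
  · rintro ⟨y, hy, rfl⟩
    rw [Sylow.pointwise_smul_def] at hy
    obtain ⟨z, hz, rfl⟩ := (Subgroup.mem_smul_pointwise_iff_exists _ _ _).mp hy
    refine ⟨z, hz, ?_⟩
    have e : ((γ • z : ↥N) : G) = (γ : G) * z * (γ : G)⁻¹ := rfl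
    simp only [Subgroup.subtype_apply, e]
    group
  · rintro ⟨y, hy, hyx⟩
    refine ⟨γ • y, ?_, ?_⟩
    · rw [Sylow.pointwise_smul_def]
      exact Subgroup.smul_mem_pointwise_smul _ _ _ hy
    · have e : ((γ • y : ↥N) : G) = (γ : G) * y * (γ : G)⁻¹ := rfl
      have hy' : (y : G) = (γ : G)⁻¹ * x * (γ : G) := hyx
      simp only [Subgroup.subtype_apply, e, hy']
      group

/-- Coprime action: existence of an invariant Sylow subgroup. -/
theorem exists_invariant_sylow [Finite G] (A N : Subgroup G)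
    (hAN : A ≤ normalizer (N : Set G)) (hcop : (Nat.card A).Coprime (Nat.card N))
    (hsolv : Group.IsSolvable A ∨ Group.IsSolvable N) (q : ℕ) [Fact q.Prime] :
    ∃ Q : Sylow q ↥N, A ≤ normalizer (((Q : Subgroup ↥N).map N.subtype : Subgroup G) : Set G) := by
  obtain ⟨Q₀⟩ : Nonempty (Sylow q ↥N) := inferInstance
  obtain ⟨U, hU⟩ : ∃ U : Subgroup G,
    U = normalizer (((Q₀ : Subgroup ↥N).map N.subtype : Subgroup G) : Set G) ⊓ (N ⊔ A) := ⟨_, rfl⟩
  have hΓ : N ⊔ A ≤ normalizer (N : Set G) := sup_le_normalizer hAN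
  have hKU : ∀ γ ∈ N ⊔ A, ∃ k ∈ N, ∃ u ∈ U, γ = k * u := by
    intro γ hγ
    obtain ⟨k, hk, hkγ⟩ := frattini_sylow N Q₀ γ (hΓ hγ)
    refine ⟨k, hk, k⁻¹ * γ, ?_, by group⟩
    rw [hU]
    exact ⟨hkγ, (N ⊔ A).mul_mem ((N ⊔ A).inv_mem (le_sup_left (a := N) hk)) hγ⟩
  obtain ⟨k, hk, hAk⟩ := exists_le_conj_smul_of_coprime hAN hcop hsolv
    (hU ▸ inf_le_right) hKU
  refine ⟨(⟨k, hk⟩ : ↥N) • Q₀, ?_⟩
  rw [map_subtype_smul_sylow]
  intro a ha
  have := hAk ha
  rw [← conj_smul_normalizer]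
  rw [mem_conj_smul_iff] at this ⊢
  rw [hU] at this
  exact this.1

/-- Coprime action: invariant Sylow subgroups are conjugate under `C_N(A)`. -/
theorem invariant_sylow_conj [Finite G] (A N : Subgroup G)
    (hAN : A ≤ normalizer (N : Set G)) (hcop : (Nat.card A).Coprime (Nat.card N))
    (hsolv : Group.IsSolvable A ∨ Group.IsSolvable N) (q : ℕ) [Fact q.Prime]
    (Q₁ Q₂ : Sylow q ↥N)
    (h₁ : A ≤ normalizer (((Q₁ : Subgroup ↥N).map N.subtype : Subgroup G) : Set G))
    (h₂ : A ≤ normalizer (((Q₂ : Subgroup ↥N).map N.subtype : Subgroup G) : Set G)) :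
    ∃ c ∈ N ⊓ centralizer (A : Set G),
      MulAut.conj c • ((Q₁ : Subgroup ↥N).map N.subtype) = (Q₂ : Subgroup ↥N).map N.subtype := by
  obtain ⟨k, hk⟩ := MulAction.exists_smul_eq ↥N Q₁ Q₂
  have hkH : MulAut.conj (k : G) • ((Q₁ : Subgroup ↥N).map N.subtype) =
      (Q₂ : Subgroup ↥N).map N.subtype := by
    rw [← map_subtype_smul_sylow, hk]
  have hAk : A ≤ MulAut.conj (k : G) •
      normalizer (((Q₁ : Subgroup ↥N).map N.subtype : Subgroup G) : Set G) := by
    rw [conj_smul_normalizer, hkH]; exact h₂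
  obtain ⟨c, hc, hcU⟩ :=
    exists_mem_centralizer_of_le_conj_smul hAN hcop hsolv h₁ (k : G) k.2 hAk
  refine ⟨c, hc, ?_⟩
  have h1 : MulAut.conj ((k : G)⁻¹ * c) • ((Q₁ : Subgroup ↥N).map N.subtype) =
      (Q₁ : Subgroup ↥N).map N.subtype := Subgroup.mem_normalizer_iff_map_conj_eq.mp hcU
  have e : c = (k : G) * ((k : G)⁻¹ * c) := by group
  rw [e, map_mul, mul_smul, h1, hkH]

/-- Coprime action with trivial fixed points: the invariant Sylow subgroup is unique. -/
theorem invariant_sylow_unique [Finite G] (A N : Subgroup G)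
    (hAN : A ≤ normalizer (N : Set G)) (hcop : (Nat.card A).Coprime (Nat.card N))
    (hsolv : Group.IsSolvable A ∨ Group.IsSolvable N)
    (hfix : N ⊓ centralizer (A : Set G) = ⊥) (q : ℕ) [Fact q.Prime]
    (Q₁ Q₂ : Sylow q ↥N)
    (h₁ : A ≤ normalizer (((Q₁ : Subgroup ↥N).map N.subtype : Subgroup G) : Set G))
    (h₂ : A ≤ normalizer (((Q₂ : Subgroup ↥N).map N.subtype : Subgroup G) : Set G)) :
    Q₁ = Q₂ := by
  obtain ⟨c, hc, hcq⟩ := invariant_sylow_conj A N hAN hcop hsolv q Q₁ Q₂ h₁ h₂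
  rw [hfix, Subgroup.mem_bot] at hc
  rw [hc, map_one, one_smul] at hcq
  apply Sylow.ext
  exact Subgroup.map_injective N.subtype_injective hcq

end Cfsg.Agent.Lib.Helper9
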