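/-
Helper9 library: consequences of the normalizer-chain lemma for `p`-local subgroups:
`p`-stable subgroups of `N_G(P)` centralizing `O_p(N_G(P))` centralize `O_p(G)`.
`F*(G) = O_p(G)` is inherited by `p`-local subgroups.
-/
import Cfsg.Agent.Lib.Helper9.NormalizerChain
import Cfsg.Agent.Lib.Helper9.ExtLayer2
import Cfsg.Agent.Lib.Helper9.PComponent

set_option autoImplicit false

namespace Cfsg.Agent.Lib.Helper9

universe u

variable {G : Type u} [Group G]

/-- `O_p(H)` of a subgroup, viewed in `G`. -/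
def pCoreIn (p : ℕ) (H : Subgroup G) : Subgroup G := (Cfsg.pCore p ↥H).map H.subtype

theorem pCoreIn_le (p : ℕ) (H : Subgroup G) : pCoreIn p H ≤ H := Subgroup.map_subtype_le _

/-- A `p`-subgroup of `H` normalized by `H` lies in `O_p(H)`. -/
theorem le_pCoreIn {p : ℕ} {A H : Subgroup G} (hAH : A ≤ H)
    (hnorm : H ≤ Subgroup.normalizer (A : Set G)) (hA : IsPGroup p ↥A) : A ≤ pCoreIn p H := by
  unfold pCoreIn
  rw [← Subgroup.map_subgroupOf_eq_of_le hAH]
  apply Subgroup.map_mono
  apply Cfsg.Agent.Lib.Helper1.le_pCore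
    ((Subgroup.normal_subgroupOf_iff_le_normalizer hAH).mpr hnorm)
  exact hA.comap_subtype

/-- **Theorem T.** Let `P ≤ Q` be `p`-subgroups of the finite group `G` with `N_G(P) ≤ N_G(Q)`,
and `D ≤ N_G(P)` a `p`-stable subgroup centralizing `O_p(N_G(P))`. Then `D` centralizes `Q`. -/
theorem commutator_eq_bot_of_pStable_of_le_normalizer [Finite G] {p : ℕ} [Fact p.Prime]
    {P Q D : Subgroup G} (hQ : IsPGroup p ↥Q) (hPQ : P ≤ Q)
    (hNQ : Subgroup.normalizer (P : Set G) ≤ Subgroup.normalizer (Q : Set G))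
    (hD : D ≤ Subgroup.normalizer (P : Set G))
    (hcent : ⁅pCoreIn p (Subgroup.normalizer (P : Set G)), D⁆ = ⊥) (hstar : PStable p D) :
    ⁅Q, D⁆ = ⊥ := by
  apply commutator_eq_bot_of_normalizer_chain hQ hPQ hD (hD.trans hNQ) _ hstar
  rw [eq_bot_iff, ← hcent]
  apply Subgroup.commutator_mono _ le_rfl
  apply le_pCoreIn inf_le_right _ (hQ.to_le inf_le_left)
  intro h hh
  exact mem_normalizer_inf (hNQ hh) (Subgroup.le_normalizer hh)

/-- **Corollary.** Let `P` be a `p`-subgroup of the finite group `G` and `D ≤ N_G(P)` a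
`p`-stable subgroup centralizing `O_p(N_G(P))`. Then `D` centralizes `O_p(G)`. -/
theorem commutator_pCore_eq_bot_of_pStable [Finite G] {p : ℕ} [Fact p.Prime]
    {P D : Subgroup G} (hP : IsPGroup p ↥P) (hD : D ≤ Subgroup.normalizer (P : Set G))
    (hcent : ⁅pCoreIn p (Subgroup.normalizer (P : Set G)), D⁆ = ⊥) (hstar : PStable p D) :
    ⁅Cfsg.pCore p G, D⁆ = ⊥ := by
  have hQ : IsPGroup p ↥(P ⊔ Cfsg.pCore p G) :=
    IsPGroup.to_sup_of_normal_right hP (Cfsg.Agent.Lib.Helper1.pCore_isPGroup p G)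
  have hNQ : Subgroup.normalizer (P : Set G) ≤
      Subgroup.normalizer ((P ⊔ Cfsg.pCore p G : Subgroup G) : Set G) := by
    intro h hh
    exact mem_normalizer_sup hh
      ((Subgroup.normalizer_eq_top_iff.mpr (Cfsg.pCore_normal p G)).ge (Subgroup.mem_top h))
  have := commutator_eq_bot_of_pStable_of_le_normalizer hQ le_sup_left hNQ hD hcent hstar
  rw [eq_bot_iff, ← this]
  exact Subgroup.commutator_mono le_sup_right le_rfl

/-- `O_p` and `O_{p'}` commute. -/
theorem commutator_pCore_pPrimeCore [Finite G] (p : ℕ) [Fact p.Prime] :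
    ⁅Cfsg.pCore p G, Cfsg.pPrimeCore p G⁆ = ⊥ := by
  rw [eq_bot_iff]
  refine (Subgroup.commutator_le_inf _ _).trans ?_
  rw [le_bot_iff]
  apply Disjoint.eq_bot
  apply Subgroup.disjoint_of_coprime_natCard
  obtain ⟨k, hk⟩ := IsPGroup.iff_card.mp (Cfsg.Agent.Lib.Helper1.pCore_isPGroup p G)
  rw [hk]
  exact Nat.Coprime.pow_left k (Cfsg.Agent.Lib.Helper12.pPrimeCore_coprime p).symm

end Cfsg.Agent.Lib.Helper9

namespace Cfsg.Agent.Lib.Helper9

universe u

variable {G : Type u} [Group G]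

/-- If `F*(G) = O_p(G)` then `F*(N_G(P)) = O_p(N_G(P))` for every `p`-subgroup `P`. -/
theorem generalizedFittingSubgroup_normalizer_eq_pCore [Finite G] {p : ℕ} [Fact p.Prime]
    (h : Cfsg.generalizedFittingSubgroup G = Cfsg.pCore p G) {P : Subgroup G}
    (hP : IsPGroup p ↥P) :
    Cfsg.generalizedFittingSubgroup ↥(Subgroup.normalizer (P : Set G)) =
      Cfsg.pCore p ↥(Subgroup.normalizer (P : Set G)) := by
  set H := Subgroup.normalizer (P : Set G) with hH
  have hCF : Subgroup.centralizer (Cfsg.pCore p G : Set G) ≤ Cfsg.pCore p G := by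
    have := centralizer_generalizedFittingSubgroup_le (G := G)
    rwa [h] at this
  have hpc_le_fit : Cfsg.pCore p ↥H ≤ Cfsg.fittingSubgroup ↥H :=
    Cfsg.Agent.Lib.Helper1.le_fittingSubgroup inferInstance
      (Cfsg.Agent.Lib.Helper1.pCore_isPGroup p ↥H).isNilpotent
  -- the layer of `H` is trivial
  have hlayer : Cfsg.layer ↥H = ⊥ := by
    have hc : ⁅pCoreIn p H, (Cfsg.layer ↥H).map H.subtype⁆ = ⊥ := by
      unfold pCoreIn
      rw [← Subgroup.map_commutator, eq_bot_iff]
      have h1 : ⁅Cfsg.pCore p ↥H, Cfsg.layer ↥H⁆ ≤ ⁅Cfsg.layer ↥H, Cfsg.fittingSubgroup ↥H⁆ := by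
        rw [Subgroup.commutator_comm]
        exact Subgroup.commutator_mono le_rfl hpc_le_fit
      rw [commutator_layer_fittingSubgroup] at h1
      rw [le_bot_iff.mp h1, Subgroup.map_bot]
    have hperf : ⁅(Cfsg.layer ↥H).map H.subtype, (Cfsg.layer ↥H).map H.subtype⁆ =
        (Cfsg.layer ↥H).map H.subtype := by
      rw [← Subgroup.map_commutator, layer_commutator_eq]
    have h2 := commutator_pCore_eq_bot_of_pStable hP (Subgroup.map_subtype_le _) hc
      (pStable_of_perfect p hperf)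
    rw [Subgroup.commutator_comm, Subgroup.commutator_eq_bot_iff_le_centralizer] at h2
    have h3 : (Cfsg.layer ↥H).map H.subtype ≤ Cfsg.pCore p G := h2.trans hCF
    have hsol : Group.IsSolvable ↥((Cfsg.pCore p G).subgroupOf H) := by
      have : IsPGroup p ↥((Cfsg.pCore p G).subgroupOf H) :=
        (Cfsg.Agent.Lib.Helper1.pCore_isPGroup p G).comap_subtype
      have := this.isNilpotent
      infer_instance
    apply layer_eq_bot_of_le_isSolvable hsol
    rw [Subgroup.subgroupOf, ← Subgroup.map_le_iff_le_comap]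
    exact h3
  -- `O_{p'}(H)` is trivial
  have hpp : Cfsg.pPrimeCore p ↥H = ⊥ := by
    have hc : ⁅pCoreIn p H, pPrimeCoreIn p H⁆ = ⊥ := by
      unfold pCoreIn pPrimeCoreIn
      rw [← Subgroup.map_commutator, commutator_pCore_pPrimeCore, Subgroup.map_bot]
    have h2 := commutator_pCore_eq_bot_of_pStable hP (pPrimeCoreIn_le p H) hc
      (pStable_of_coprime p (pPrimeCoreIn_coprime p H))
    rw [Subgroup.commutator_comm, Subgroup.commutator_eq_bot_iff_le_centralizer] at h2
    have h3 : pPrimeCoreIn p H ≤ Cfsg.pCore p G := h2.trans hCF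
    -- a `p`-group of order prime to `p` is trivial
    have h4 : pPrimeCoreIn p H = ⊥ := by
      have hpg : IsPGroup p ↥(pPrimeCoreIn p H) :=
        (Cfsg.Agent.Lib.Helper1.pCore_isPGroup p G).to_le h3
      obtain ⟨k, hk⟩ := IsPGroup.iff_card.mp hpg
      have hcop := pPrimeCoreIn_coprime p H
      rw [hk] at hcop
      have hk1 : p ^ k = 1 := by
        rcases Nat.eq_zero_or_pos k with h0 | hpos
        · rw [h0, pow_zero]
        · exfalso
          have hp : p.Prime := Fact.out
          have hd : p ∣ Nat.gcd (p ^ k) p := Nat.dvd_gcd (dvd_pow_self p hpos.ne') dvd_rfl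
          rw [hcop] at hd
          exact hp.one_lt.ne' (Nat.dvd_one.mp hd)
      rw [hk1] at hk
      exact Subgroup.card_eq_one.mp hk
    unfold pPrimeCoreIn at h4
    exact (Subgroup.map_eq_bot_iff_of_injective _ H.subtype_injective).mp h4
  unfold Cfsg.generalizedFittingSubgroup
  rw [hlayer, bot_sup_eq]
  exact fittingSubgroup_eq_pCore_of_pPrimeCore_eq_bot p hpp

end Cfsg.Agent.Lib.Helper9
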