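/-
Helper9 library: `p`-local subgroups of groups with trivial `p`-layer.
* normalizers of `p`-subgroups commute with quotients by normal `p'`-subgroups;
* if `L_{p'}(G) = 1` then `L_{p'}(N_G(P)) = 1` and `O_{p'}(N_G(P)) ≤ O_{p'}(G)`.
-/
import Cfsg.Agent.Lib.Helper9.NormalizerChain2
import Cfsg.Agent.Lib.Helper9.FStar4
import Cfsg.Agent.Lib.Helper1.Coprime

set_option autoImplicit false

open scoped Pointwise

namespace Cfsg.Agent.Lib.Helper9

universe u

variable {G : Type u} [Group G]

/-- If `N ⊴ G` is a `p'`-group and `P` a `p`-subgroup, then `N_{G/N}(PN/N) = N_G(P)N/N`. -/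
theorem normalizer_map_mk'_eq_of_coprime [Finite G] {p : ℕ} [Fact p.Prime] (N : Subgroup G)
    [N.Normal] (hN : Nat.Coprime (Nat.card N) p) {P : Subgroup G} (hP : IsPGroup p ↥P) :
    Subgroup.normalizer ((P.map (QuotientGroup.mk' N) : Subgroup (G ⧸ N)) : Set (G ⧸ N)) =
      (Subgroup.normalizer (P : Set G)).map (QuotientGroup.mk' N) := by
  apply le_antisymm
  · intro xb hxb
    obtain ⟨x, rfl⟩ := QuotientGroup.mk'_surjective N xb
    have hmap : (P.map (MulAut.conj x).toMonoidHom).map (QuotientGroup.mk' N) =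
        P.map (QuotientGroup.mk' N) := by
      have h1 := map_conj_eq_of_mem_normalizer hxb
      rw [Subgroup.map_map] at h1 ⊢
      have h3 : (QuotientGroup.mk' N).comp (MulAut.conj x).toMonoidHom =
          (MulAut.conj ((QuotientGroup.mk' N) x)).toMonoidHom.comp (QuotientGroup.mk' N) := by
        ext y
        simp
      rw [h3]
      exact h1
    have hsup : N ⊔ P.map (MulAut.conj x).toMonoidHom = N ⊔ P := by
      have h2 := congrArg (Subgroup.comap (QuotientGroup.mk' N)) hmap
      rw [Subgroup.comap_map_eq, Subgroup.comap_map_eq, QuotientGroup.ker_mk'] at h2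
      rw [sup_comm, h2, sup_comm]
    have hNtop : ∀ (A : Subgroup G), A ≤ Subgroup.normalizer (N : Set G) := by
      intro A
      rw [Subgroup.normalizer_eq_top_iff.mpr inferInstance]
      exact le_top
    obtain ⟨k, hk⟩ := IsPGroup.iff_card.mp hP
    have hcop : Nat.Coprime (Nat.card N) (Nat.card P) := by
      rw [hk]; exact Nat.Coprime.pow_right k hN
    have hP' : IsPGroup p ↥(P.map (MulAut.conj x).toMonoidHom) := hP.map _
    obtain ⟨k', hk'⟩ := IsPGroup.iff_card.mp hP'
    have hcop' : Nat.Coprime (Nat.card N) (Nat.card (P.map (MulAut.conj x).toMonoidHom)) := by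
      rw [hk']; exact Nat.Coprime.pow_right k' hN
    have hA := Cfsg.Agent.Lib.Helper1.isComplIn_sup (hNtop P)
      (Subgroup.disjoint_of_coprime_natCard hcop)
    have hA₁ := Cfsg.Agent.Lib.Helper1.isComplIn_sup (hNtop (P.map (MulAut.conj x).toMonoidHom))
      (Subgroup.disjoint_of_coprime_natCard hcop')
    rw [hsup] at hA₁
    have hsolv : Group.IsSolvable ↥P := by
      have := hP.isNilpotent
      infer_instance
    obtain ⟨n, hn, hconj⟩ := Cfsg.Agent.Lib.Helper1.internal_sz_conj (hNtop _) hA hA₁ hcop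
      (Or.inr hsolv)
    refine ⟨n * x, ?_, ?_⟩
    · apply mem_normalizer_of_map_conj_eq
      conv_rhs => rw [← hconj]
      ext y
      simp only [Subgroup.mem_map, Subgroup.mem_smul_pointwise_iff_exists]
      constructor
      · rintro ⟨a, ha, rfl⟩
        refine ⟨x * a * x⁻¹, ⟨a, ha, by simp⟩, by simp [mul_assoc]⟩
      · rintro ⟨b, ⟨a, ha, rfl⟩, rfl⟩
        exact ⟨a, ha, by simp [mul_assoc]⟩
    · simp only [QuotientGroup.mk'_apply, QuotientGroup.mk_mul]
      rw [(QuotientGroup.eq_one_iff n).mpr hn, one_mul]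
  · exact Subgroup.le_normalizer_map _

/-- If `F*(X) = O_p(X)` then `E(X) = 1`. -/
theorem layer_eq_bot_of_generalizedFittingSubgroup_eq_pCore {X : Type*} [Group X] [Finite X]
    {p : ℕ} [Fact p.Prime] (h : Cfsg.generalizedFittingSubgroup X = Cfsg.pCore p X) :
    Cfsg.layer X = ⊥ := by
  have hsol : Group.IsSolvable ↥(Cfsg.pCore p X) := by
    have := (Cfsg.Agent.Lib.Helper1.pCore_isPGroup p X).isNilpotent
    infer_instance
  apply layer_eq_bot_of_le_isSolvable hsol
  rw [← h]
  exact le_sup_left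

/-- If `F*(X) = O_p(X)` then `O_{p'}(X) = 1`. -/
theorem pPrimeCore_eq_bot_of_generalizedFittingSubgroup_eq_pCore {X : Type*} [Group X] [Finite X]
    {p : ℕ} [Fact p.Prime] (h : Cfsg.generalizedFittingSubgroup X = Cfsg.pCore p X) :
    Cfsg.pPrimeCore p X = ⊥ := by
  have h1 : Cfsg.pPrimeCore p X ≤ Cfsg.pCore p X := by
    have h2 := commutator_pCore_pPrimeCore (G := X) p
    rw [Subgroup.commutator_comm, Subgroup.commutator_eq_bot_iff_le_centralizer] at h2
    refine h2.trans ?_
    have h3 := centralizer_generalizedFittingSubgroup_le (G := X)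
    rwa [h] at h3
  have hpg : IsPGroup p ↥(Cfsg.pPrimeCore p X) :=
    (Cfsg.Agent.Lib.Helper1.pCore_isPGroup p X).to_le h1
  obtain ⟨k, hk⟩ := IsPGroup.iff_card.mp hpg
  have hcop := Cfsg.Agent.Lib.Helper12.pPrimeCore_coprime (X := X) p
  rw [hk] at hcop
  have hk1 : p ^ k = 1 := by
    rcases Nat.eq_zero_or_pos k with h0 | hpos
    · rw [h0, pow_zero]
    · exfalso
      have hp : p.Prime := Fact.out
      have hd : p ∣ Nat.gcd (p ^ k) p := Nat.dvd_gcd (dvd_pow_self p hpos.ne') dvd_rfl
      rw [hcop] at hd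
      exact hp.one_lt.ne' (Nat.dvd_one.mp hd)
  rw [hk1] at hk
  exact Subgroup.card_eq_one.mp hk

/-- If `L_{p'}(G) = 1` then `F*(G/O_{p'}(G)) = O_p(G/O_{p'}(G))`. -/
theorem generalizedFittingSubgroup_quotient_pPrimeCore_eq_pCore [Finite G] {p : ℕ}
    [Fact p.Prime] (hL : Cfsg.pLayer p G = ⊥) :
    Cfsg.generalizedFittingSubgroup (G ⧸ Cfsg.pPrimeCore p G) =
      Cfsg.pCore p (G ⧸ Cfsg.pPrimeCore p G) := by
  have h1 := (pLayer_eq_bot_iff p).mp hL
  unfold Cfsg.generalizedFittingSubgroup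
  rw [h1, bot_sup_eq]
  exact fittingSubgroup_eq_pCore_of_pPrimeCore_eq_bot p (pPrimeCore_quotient_eq_bot p)

/-- Let `G` be finite with `L_{p'}(G) = 1` and `P` a `p`-subgroup, `H = N_G(P)`.
Then the image of `H` in `G/O_{p'}(G)` has `F* = O_p`. -/
theorem generalizedFittingSubgroup_map_normalizer_eq_pCore [Finite G] {p : ℕ} [Fact p.Prime]
    (hL : Cfsg.pLayer p G = ⊥) {P : Subgroup G} (hP : IsPGroup p ↥P) :
    Cfsg.generalizedFittingSubgroup
        ↥((Subgroup.normalizer (P : Set G)).map (QuotientGroup.mk' (Cfsg.pPrimeCore p G))) =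
      Cfsg.pCore p
        ↥((Subgroup.normalizer (P : Set G)).map (QuotientGroup.mk' (Cfsg.pPrimeCore p G))) := by
  have h := generalizedFittingSubgroup_normalizer_eq_pCore
    (generalizedFittingSubgroup_quotient_pPrimeCore_eq_pCore hL)
    (hP.map (QuotientGroup.mk' (Cfsg.pPrimeCore p G)))
  rw [normalizer_map_mk'_eq_of_coprime (Cfsg.pPrimeCore p G)
    (Cfsg.Agent.Lib.Helper12.pPrimeCore_coprime p) hP] at h
  exact h

/-- Kernel of the restriction of `mk' N` to a subgroup `H`. -/
theorem ker_subgroupMap_mk' (N : Subgroup G) [N.Normal] (H : Subgroup G) :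
    ((QuotientGroup.mk' N).subgroupMap H).ker = N.subgroupOf H := by
  ext x
  rw [MonoidHom.mem_ker, Subgroup.mem_subgroupOf, Subtype.ext_iff]
  simp only [MonoidHom.subgroupMap_apply_coe, Subgroup.coe_one, QuotientGroup.mk'_apply,
    QuotientGroup.eq_one_iff]

/-- Let `G` be finite with `L_{p'}(G) = 1` and `P` a `p`-subgroup, `H = N_G(P)`. Then
`O_{p'}(H) = H ∩ O_{p'}(G)`. -/
theorem pPrimeCore_normalizer_eq_of_pLayer_eq_bot [Finite G] {p : ℕ} [Fact p.Prime]
    (hL : Cfsg.pLayer p G = ⊥) {P : Subgroup G} (hP : IsPGroup p ↥P) :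
    Cfsg.pPrimeCore p ↥(Subgroup.normalizer (P : Set G)) =
      (Cfsg.pPrimeCore p G).subgroupOf (Subgroup.normalizer (P : Set G)) := by
  have hF := generalizedFittingSubgroup_map_normalizer_eq_pCore hL hP
  have hpp := pPrimeCore_eq_bot_of_generalizedFittingSubgroup_eq_pCore hF
  have hsurj := MonoidHom.subgroupMap_surjective (QuotientGroup.mk' (Cfsg.pPrimeCore p G))
    (Subgroup.normalizer (P : Set G))
  apply le_antisymm
  · rw [← ker_subgroupMap_mk', ← MonoidHom.comap_bot, ← Subgroup.map_le_iff_le_comap, ← hpp]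
    apply Cfsg.Agent.Lib.Helper12.le_pPrimeCore
    · exact Subgroup.Normal.map inferInstance _ hsurj
    · exact Nat.Coprime.coprime_dvd_left (Subgroup.card_map_dvd _ _)
        (Cfsg.Agent.Lib.Helper12.pPrimeCore_coprime p)
  · apply Cfsg.Agent.Lib.Helper12.le_pPrimeCore
    · infer_instance
    · apply Nat.Coprime.coprime_dvd_left _ (Cfsg.Agent.Lib.Helper12.pPrimeCore_coprime (X := G) p)
      rw [← Subgroup.card_map_of_injective (Subgroup.subtype_injective _)]
      apply Subgroup.card_dvd_of_le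
      rw [Subgroup.subgroupOf_map_subtype]
      exact inf_le_left

/-- **`p`-locals of groups with trivial `p`-layer.** If `L_{p'}(G) = 1` and `P` is a `p`-subgroup
then `L_{p'}(N_G(P)) = 1`. -/
theorem pLayer_normalizer_eq_bot [Finite G] {p : ℕ} [Fact p.Prime]
    (hL : Cfsg.pLayer p G = ⊥) {P : Subgroup G} (hP : IsPGroup p ↥P) :
    Cfsg.pLayer p ↥(Subgroup.normalizer (P : Set G)) = ⊥ := by
  have hF := generalizedFittingSubgroup_map_normalizer_eq_pCore hL hP
  have hlay := layer_eq_bot_of_generalizedFittingSubgroup_eq_pCore hF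
  have hsurj := MonoidHom.subgroupMap_surjective (QuotientGroup.mk' (Cfsg.pPrimeCore p G))
    (Subgroup.normalizer (P : Set G))
  rw [pLayer_eq_bot_iff]
  have hker : Cfsg.pPrimeCore p ↥(Subgroup.normalizer (P : Set G)) =
      ((QuotientGroup.mk' (Cfsg.pPrimeCore p G)).subgroupMap
        (Subgroup.normalizer (P : Set G))).ker := by
    rw [ker_subgroupMap_mk']
    exact pPrimeCore_normalizer_eq_of_pLayer_eq_bot hL hP
  have e := (QuotientGroup.quotientMulEquivOfEq hker).trans
    (QuotientGroup.quotientKerEquivOfSurjective _ hsurj)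
  have h1 := layer_map_equiv e
  rw [hlay] at h1
  exact (Subgroup.map_eq_bot_iff_of_injective _ e.injective).mp h1

end Cfsg.Agent.Lib.Helper9
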