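/-
Helper9 library: basic transport lemmas for the Cfsg vocabulary.
-/
import Cfsg.Prelude.Def_CaseTheorems
import Cfsg.Prelude.Def_Transfer

set_option autoImplicit false

namespace Cfsg.Agent.Lib.Helper9

/-- `PRankLE` passes to any group that embeds. -/
theorem pRankLE_of_injective {G H : Type*} [Group G] [Group H] (f : H →* G)
    (hf : Function.Injective f) (p k : ℕ) (h : Cfsg.PRankLE p k G) : Cfsg.PRankLE p k H := by
  intro A hA hexp
  have h1 : IsMulCommutative ↥(A.map f) := Subgroup.map_isMulCommutative A f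
  have h2 : ∀ a ∈ A.map f, a ^ p = 1 := by
    rintro _ ⟨a, ha, rfl⟩
    rw [← map_pow, hexp a ha, map_one]
  have h3 := h (A.map f) h1 h2
  rwa [Subgroup.card_map_of_injective hf] at h3

/-- `PRankLE` is invariant under isomorphism. -/
theorem pRankLE_congr {G H : Type*} [Group G] [Group H] (e : G ≃* H) (p k : ℕ) :
    Cfsg.PRankLE p k G ↔ Cfsg.PRankLE p k H :=
  ⟨pRankLE_of_injective e.symm.toMonoidHom e.symm.injective p k,
   pRankLE_of_injective e.toMonoidHom e.injective p k⟩

/-- `PRankLE` for a subgroup of a subgroup, viewed in the big group. -/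
theorem pRankLE_map_subtype {G : Type*} [Group G] (H : Subgroup G) (P : Subgroup H) (p k : ℕ) :
    Cfsg.PRankLE p k ↥(P.map H.subtype) ↔ Cfsg.PRankLE p k ↥P :=
  (pRankLE_congr (P.equivMapOfInjective H.subtype H.subtype_injective) p k).symm

end Cfsg.Agent.Lib.Helper9
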