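/-
Helper9 library: the largest normal nilpotent Hall subgroup `Cfsg.fittingHall` of a finite group,
and coprime elements of a nilpotent group centralizing a normal subgroup.
-/
import Cfsg.Prelude.Def_OddOrderLocal
import Cfsg.Agent.Lib.Helper1.Fitting
import Cfsg.Agent.Lib.Helper9.Stability

set_option autoImplicit false

namespace Cfsg.Agent.Lib.Helper9

open scoped commutatorElement

/-- In a nilpotent subgroup `F`, an element `u ∈ F` normalizing `H ≤ F` whose order is coprime to
`|H|` centralizes `H`. -/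
theorem mem_centralizer_of_nilpotent_of_coprime {G : Type*} [Group G] (F H : Subgroup G)
    [Finite H] (hF : Group.IsNilpotent F) (hHF : H ≤ F) (u : G) (huF : u ∈ F)
    (huN : u ∈ Subgroup.normalizer (H : Set G)) (hcop : (orderOf u).Coprime (Nat.card H)) :
    u ∈ Subgroup.centralizer (H : Set G) := by
  obtain ⟨n, hn⟩ := (Subgroup.isNilpotent_iff_lowerCentralSeries F).mp hF
  refine mem_centralizer_of_stabilizes_chain H n
    (fun i : Fin (n + 1) => H ⊓ F.lowerCentralSeries i.val) ?_ ?_ ?_ u hcop ?_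
  · show H ⊓ F.lowerCentralSeries 0 = H
    rw [Subgroup.lowerCentralSeries_zero]
    exact inf_of_le_left hHF
  · show H ⊓ F.lowerCentralSeries n = ⊥
    rw [hn, inf_bot_eq]
  · intro i j hij
    exact inf_le_inf_left H (Subgroup.lowerCentralSeries_antitone F hij)
  · intro i h hh
    obtain ⟨hhH, hhγ⟩ := Subgroup.mem_inf.mp hh
    refine Subgroup.mem_inf.mpr ⟨?_, ?_⟩
    · rw [Subgroup.mem_normalizer_iff] at huN
      have : u * h⁻¹ * u⁻¹ ∈ H := (huN h⁻¹).mp (H.inv_mem hhH)
      have e : ⁅h, u⁆ = h * (u * h⁻¹ * u⁻¹) := by rw [commutatorElement_def]; group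
      rw [e]
      exact H.mul_mem hhH this
    · show ⁅h, u⁆ ∈ F.lowerCentralSeries (i.val + 1)
      rw [Subgroup.lowerCentralSeries_succ]
      exact Subgroup.commutator_mem_commutator hhγ huF

/-- Members of the defining family of `fittingHall` lie in it. -/
theorem le_fittingHall {M : Type*} [Group M] {N : Subgroup M} (hN : N.Normal)
    (hn : Group.IsNilpotent N) (hc : (Nat.card N).Coprime N.index) : N ≤ Cfsg.fittingHall M :=
  le_sSup ⟨hN, hn, hc⟩

/-- `fittingHall M ≤ fittingSubgroup M`. -/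
theorem fittingHall_le_fittingSubgroup (M : Type*) [Group M] :
    Cfsg.fittingHall M ≤ Cfsg.fittingSubgroup M := by
  apply sSup_le
  rintro N ⟨hN, hn, _⟩
  exact le_sSup ⟨hN, hn⟩

/-- `fittingHall M` is nilpotent for finite `M`. -/
theorem fittingHall_isNilpotent (M : Type*) [Group M] [Finite M] :
    Group.IsNilpotent (Cfsg.fittingHall M) := by
  have h1 := Cfsg.Agent.Lib.Helper1.fittingSubgroup_isNilpotent M
  have h2 := fittingHall_le_fittingSubgroup M
  have h3 : Group.IsNilpotent ↥((Cfsg.fittingHall M).subgroupOf (Cfsg.fittingSubgroup M)) :=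
    inferInstance
  exact Group.nilpotent_of_mulEquiv (Subgroup.subgroupOfEquivOfLe h2)

/-- `|L| = |K| * [L : K]` for `K ≤ L`. -/
theorem card_eq_card_mul_relIndex {G : Type*} [Group G] {K L : Subgroup G} (h : K ≤ L) :
    Nat.card L = Nat.card K * K.relIndex L := by
  rw [← Subgroup.card_mul_index (K.subgroupOf L),
    Nat.card_congr (Subgroup.subgroupOfEquivOfLe h).toEquiv]
  rfl

/-- A prime dividing `|N₁ ⊔ N₂|` (`N₂` normal) divides `|N₁|` or `|N₂|`. -/
theorem prime_dvd_card_sup {G : Type*} [Group G] (N₁ N₂ : Subgroup G) [N₂.Normal] {p : ℕ}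
    (hp : p.Prime) (h : p ∣ Nat.card ↥(N₁ ⊔ N₂)) : p ∣ Nat.card N₁ ∨ p ∣ Nat.card N₂ := by
  rw [card_eq_card_mul_relIndex (le_sup_right : N₂ ≤ N₁ ⊔ N₂), Subgroup.relIndex_sup_right,
    hp.dvd_mul] at h
  rcases h with h | h
  · exact Or.inr h
  · exact Or.inl (dvd_trans h (Subgroup.relIndex_dvd_card _ _))

/-- The defining family of `fittingHall` is closed under binary joins (finite group). -/
theorem fittingHall_family_sup {M : Type*} [Group M] [Finite M] {N₁ N₂ : Subgroup M}
    (h₁ : N₁.Normal ∧ Group.IsNilpotent N₁ ∧ (Nat.card N₁).Coprime N₁.index)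
    (h₂ : N₂.Normal ∧ Group.IsNilpotent N₂ ∧ (Nat.card N₂).Coprime N₂.index) :
    (N₁ ⊔ N₂).Normal ∧ Group.IsNilpotent ↥(N₁ ⊔ N₂) ∧
      (Nat.card ↥(N₁ ⊔ N₂)).Coprime (N₁ ⊔ N₂).index := by
  obtain ⟨hn₁, hnil₁, hc₁⟩ := h₁
  obtain ⟨hn₂, hnil₂, hc₂⟩ := h₂
  refine ⟨Subgroup.sup_normal N₁ N₂, ?_, ?_⟩
  · have hle : N₁ ⊔ N₂ ≤ Cfsg.fittingSubgroup M :=
      sup_le (le_sSup ⟨hn₁, hnil₁⟩) (le_sSup ⟨hn₂, hnil₂⟩)
    have h1 := Cfsg.Agent.Lib.Helper1.fittingSubgroup_isNilpotent M
    have h3 : Group.IsNilpotent ↥((N₁ ⊔ N₂).subgroupOf (Cfsg.fittingSubgroup M)) := inferInstance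
    exact Group.nilpotent_of_mulEquiv (Subgroup.subgroupOfEquivOfLe hle)
  · apply Nat.coprime_of_dvd
    intro p hp hcard hidx
    have hi₁ : p ∣ N₁.index := dvd_trans hidx (Subgroup.index_dvd_of_le le_sup_left)
    have hi₂ : p ∣ N₂.index := dvd_trans hidx (Subgroup.index_dvd_of_le le_sup_right)
    rcases prime_dvd_card_sup N₁ N₂ hp hcard with h | h
    · exact hp.one_lt.ne' (Nat.eq_one_of_dvd_coprimes hc₁ h hi₁)
    · exact hp.one_lt.ne' (Nat.eq_one_of_dvd_coprimes hc₂ h hi₂)

/-- For a finite group, `fittingHall M` itself is a normal nilpotent Hall subgroup. -/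
theorem fittingHall_mem_family (M : Type*) [Group M] [Finite M] :
    (Cfsg.fittingHall M).Normal ∧ Group.IsNilpotent (Cfsg.fittingHall M) ∧
      (Nat.card (Cfsg.fittingHall M)).Coprime (Cfsg.fittingHall M).index := by
  classical
  set S : Set (Subgroup M) :=
    {N : Subgroup M | N.Normal ∧ Group.IsNilpotent N ∧ (Nat.card N).Coprime N.index} with hS
  have hfin : S.Finite := Set.toFinite S
  have hsup : Cfsg.fittingHall M = hfin.toFinset.sup id := by
    rw [Finset.sup_id_eq_sSup, Set.Finite.coe_toFinset]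
    rfl
  rw [hsup]
  refine Finset.sup_induction (p := fun N : Subgroup M =>
      N.Normal ∧ Group.IsNilpotent N ∧ (Nat.card N).Coprime N.index) ?_ ?_ ?_
  · refine ⟨Subgroup.normal_bot, inferInstance, ?_⟩
    rw [Subgroup.card_bot]
    exact Nat.coprime_one_left _
  · intro a ha b hb
    exact fittingHall_family_sup ha hb
  · intro N hN
    rw [Set.Finite.mem_toFinset] at hN
    exact hN

/-- The Hall property of `fittingHall M`. -/
theorem fittingHall_coprime (M : Type*) [Group M] [Finite M] :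
    (Nat.card (Cfsg.fittingHall M)).Coprime (Cfsg.fittingHall M).index :=
  (fittingHall_mem_family M).2.2

end Cfsg.Agent.Lib.Helper9
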