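/-
Helper9 library: consequences of `Cfsg.IsComplIn` and of the type-P data `Cfsg.IsTypePWith`.
-/
import Cfsg.Prelude.Def_OddOrderLocal
import Cfsg.Agent.Lib.Helper9.FittingHall

set_option autoImplicit false

namespace Cfsg.Agent.Lib.Helper9

/-- For complements inside `M`: `|A| * |B| = |M|`. -/
theorem isComplIn_card_mul_card {G : Type*} [Group G] {A B M : Subgroup G}
    (h : Cfsg.IsComplIn A B M) : Nat.card A * Nat.card B = Nat.card M := by
  obtain ⟨hA, hB, hinf, hprod⟩ := h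
  rw [← Nat.card_prod]
  refine Nat.card_congr (Equiv.ofBijective
    (fun ab : ↥A × ↥B => (⟨(ab.1 : G) * (ab.2 : G), M.mul_mem (hA ab.1.2) (hB ab.2.2)⟩ : ↥M))
    ⟨?_, ?_⟩)
  · rintro ⟨⟨a, ha⟩, ⟨b, hb⟩⟩ ⟨⟨a', ha'⟩, ⟨b', hb'⟩⟩ heq
    have heq' : a * b = a' * b' := congrArg Subtype.val heq
    have hz : a'⁻¹ * a = b' * b⁻¹ := by
      calc a'⁻¹ * a = a'⁻¹ * (a * b) * b⁻¹ := by group
        _ = a'⁻¹ * (a' * b') * b⁻¹ := by rw [heq']
        _ = b' * b⁻¹ := by group
    have hzA : a'⁻¹ * a ∈ A := A.mul_mem (A.inv_mem ha') ha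
    have hzB : a'⁻¹ * a ∈ B := by rw [hz]; exact B.mul_mem hb' (B.inv_mem hb)
    have hz1 : a'⁻¹ * a = 1 := by
      have : a'⁻¹ * a ∈ A ⊓ B := Subgroup.mem_inf.mpr ⟨hzA, hzB⟩
      rwa [hinf, Subgroup.mem_bot] at this
    have haa : a = a' := by
      have := inv_mul_eq_one.mp hz1
      exact this.symm
    have hbb : b = b' := by
      rw [hz1] at hz
      have := mul_inv_eq_one.mp hz.symm
      exact this.symm
    subst haa
    subst hbb
    rfl
  · rintro ⟨m, hm⟩
    obtain ⟨a, ha, b, hb, rfl⟩ := hprod m hm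
    exact ⟨(⟨a, ha⟩, ⟨b, hb⟩), rfl⟩

/-- `fittingHallOf M` is normalized by `M`. -/
theorem le_normalizer_fittingHallOf {G : Type*} [Group G] (M : Subgroup G) :
    M ≤ Subgroup.normalizer (Cfsg.fittingHallOf M : Set G) := by
  have h1 : Subgroup.normalizer ((Cfsg.fittingHall ↥M : Subgroup ↥M) : Set ↥M) = ⊤ :=
    Subgroup.normalizer_eq_top_iff.mpr inferInstance
  have h2 := Subgroup.le_normalizer_map (H := Cfsg.fittingHall ↥M) M.subtype
  rw [h1, ← MonoidHom.range_eq_map, Subgroup.range_subtype] at h2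
  exact h2

/-- `fittingHallOf M ≤ fittingOf M`. -/
theorem fittingHallOf_le_fittingOf {G : Type*} [Group G] (M : Subgroup G) :
    Cfsg.fittingHallOf M ≤ Cfsg.fittingOf M :=
  Subgroup.map_mono (fittingHall_le_fittingSubgroup ↥M)

/-- `fittingOf M` is nilpotent (finite `M`). -/
theorem fittingOf_isNilpotent {G : Type*} [Group G] (M : Subgroup G) [Finite M] :
    Group.IsNilpotent ↥(Cfsg.fittingOf M) := by
  have h1 := Cfsg.Agent.Lib.Helper1.fittingSubgroup_isNilpotent ↥M
  exact Group.nilpotent_of_mulEquiv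
    ((Cfsg.fittingSubgroup ↥M).equivMapOfInjective M.subtype M.subtype_injective)

/-- `|fittingHallOf M| = |fittingHall M|`. -/
theorem card_fittingHallOf {G : Type*} [Group G] (M : Subgroup G) :
    Nat.card (Cfsg.fittingHallOf M) = Nat.card (Cfsg.fittingHall ↥M) :=
  Subgroup.card_map_of_injective M.subtype_injective

/-- A subgroup `U ≤ M` meeting `M_F` trivially has order dividing the index of `M_F` in `M`. -/
theorem card_dvd_index_fittingHall {G : Type*} [Group G] (M U : Subgroup G) (hUM : U ≤ M)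
    (hinf : Cfsg.fittingHallOf M ⊓ U = ⊥) : Nat.card U ∣ (Cfsg.fittingHall ↥M).index := by
  set φ : ↥U →* ↥M ⧸ Cfsg.fittingHall ↥M :=
    (QuotientGroup.mk' (Cfsg.fittingHall ↥M)).comp (Subgroup.inclusion hUM) with hφ
  have hinj : Function.Injective φ := by
    rw [← MonoidHom.ker_eq_bot_iff, eq_bot_iff]
    rintro ⟨u, hu⟩ hker
    rw [MonoidHom.mem_ker, hφ, MonoidHom.comp_apply, QuotientGroup.mk'_apply,
      QuotientGroup.eq_one_iff] at hker
    have : u ∈ Cfsg.fittingHallOf M ⊓ U :=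
      Subgroup.mem_inf.mpr ⟨⟨_, hker, rfl⟩, hu⟩
    rw [hinf, Subgroup.mem_bot] at this
    rw [Subgroup.mem_bot]
    exact Subtype.ext this
  rw [Subgroup.index_eq_card]
  exact Subgroup.card_dvd_of_injective φ hinj

variable {G : Type*} [Group G] [Finite G] {M W₁ U W₂ : Subgroup G}

/-- In type-P data, `|U|` is coprime to `|M_F|`. -/
theorem typeP_coprime_card_U (hP : Cfsg.IsTypePWith M W₁ U W₂) :
    (Nat.card U).Coprime (Nat.card (Cfsg.fittingHallOf M)) := by
  obtain ⟨_, hUM', hinf, _⟩ := hP.U_compl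
  have hM'M : ⁅M, M⁆ ≤ M := Subgroup.commutator_le_self M
  have h1 := card_dvd_index_fittingHall M U (hUM'.trans hM'M) hinf
  have h2 := fittingHall_coprime ↥M
  rw [card_fittingHallOf]
  exact (Nat.Coprime.coprime_dvd_right h1 h2).symm

/-- In type-P data, `F(M) ∩ U` centralizes `M_F`. -/
theorem typeP_fittingOf_inf_U_le (hP : Cfsg.IsTypePWith M W₁ U W₂) :
    Cfsg.fittingOf M ⊓ U ≤ Subgroup.centralizer (Cfsg.fittingHallOf M : Set G) := by
  intro u hu
  obtain ⟨huF, huU⟩ := Subgroup.mem_inf.mp hu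
  obtain ⟨_, hUM', _, _⟩ := hP.U_compl
  have hM'M : ⁅M, M⁆ ≤ M := Subgroup.commutator_le_self M
  apply mem_centralizer_of_nilpotent_of_coprime (Cfsg.fittingOf M) (Cfsg.fittingHallOf M)
    (fittingOf_isNilpotent M) (fittingHallOf_le_fittingOf M) u huF
  · exact le_normalizer_fittingHallOf M (hM'M (hUM' huU))
  · exact Nat.Coprime.coprime_dvd_left (Subgroup.orderOf_dvd_natCard U huU) (typeP_coprime_card_U hP)

end Cfsg.Agent.Lib.Helper9
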