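/-
Helper9 library: fixed-point-free actions on abelian groups (Frobenius complement lemmas).
If a finite group `B` acts on a nontrivial finite abelian group `V` such that no nonidentity element
of `B` fixes a nonidentity element of `V`, then `B` is cyclic whenever it is abelian or of order `pq`.
The proofs use the "partition" trick with norms.
-/
import Mathlib

set_option autoImplicit false

open Finset

namespace Cfsg.Agent.Lib.Helper9

section Fpf

variable {B V : Type*} [Group B] [CommGroup V] [MulDistribMulAction B V]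

/-- fixed-point-free action: no nonidentity element of `B` fixes a nonidentity element of `V` -/
def IsFpfAction (B V : Type*) [Group B] [CommGroup V] [MulDistribMulAction B V] : Prop :=
  ∀ b : B, b ≠ 1 → ∀ v : V, b • v = v → v = 1

theorem IsFpfAction.prod_subgroup_eq_one (hf : IsFpfAction B V) (H : Subgroup B) [Fintype H]
    (hH : H ≠ ⊥) (w : V) : ∏ h : H, (h : B) • w = 1 := by
  obtain ⟨x, hx, hx1⟩ := H.bot_or_exists_ne_one.resolve_left hH
  apply hf x hx1
  have := Finset.smul_prod_perm (G := ↥H) w ⟨x, hx⟩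
  simpa [Subgroup.smul_def] using this

theorem IsFpfAction.prod_range_pow_eq_one (hf : IsFpfAction B V) {t : B} {q : ℕ} (ht : t ^ q = 1)
    (ht1 : t ≠ 1) (v : V) : ∏ j ∈ range q, (t ^ j) • v = 1 := by
  apply hf t ht1
  rw [Finset.smul_prod']
  have h1 : ∀ j, t • (t ^ j) • v = (t ^ (j + 1)) • v := fun j => by rw [smul_smul, ← pow_succ']
  simp only [h1]
  have h2 := Finset.prod_range_succ (fun j => (t ^ j) • v) q
  have h3 := Finset.prod_range_succ' (fun j => (t ^ j) • v) q
  rw [h2] at h3
  simp only [ht, pow_zero] at h3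
  exact (mul_right_cancel h3).symm

theorem IsFpfAction.pow_card_eq_one_of_family (hf : IsFpfAction B V) {ι κ : Type*} [Fintype ι]
    [Fintype κ] (t : ι → B) (n : κ → B) (s : ℕ → B) (q : ℕ) (hq : 0 < q)
    (ht : ∀ i, (t i) ^ q = 1) (ht1 : ∀ i, t i ≠ 1)
    (hn : ∀ w : V, ∏ k : κ, (n k) • w = 1)
    (hbij : ∀ j, 0 < j → j < q → ∀ w : V,
      ∏ i : ι, ((t i) ^ j) • w = ∏ k : κ, (n k * s j) • w)
    (v : V) : v ^ Fintype.card ι = 1 := by
  have h1 : ∏ i : ι, ∏ j ∈ range q, ((t i) ^ j) • v = 1 :=
    Finset.prod_eq_one (fun i _ => hf.prod_range_pow_eq_one (ht i) (ht1 i) v)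
  rw [Finset.prod_comm] at h1
  obtain ⟨q', rfl⟩ : ∃ q', q = q' + 1 := ⟨q - 1, by omega⟩
  rw [Finset.prod_range_succ'] at h1
  have h2 : ∏ j ∈ range q', ∏ i : ι, ((t i) ^ (j + 1)) • v = 1 := by
    apply Finset.prod_eq_one
    intro j hj
    rw [hbij (j + 1) (by omega) (by have := Finset.mem_range.mp hj; omega) v]
    simp only [mul_smul]
    exact hn _
  rw [h2, one_mul] at h1
  simpa using h1

/-- two independent commuting elements of prime order `r` force `v ^ r = 1` -/
theorem IsFpfAction.pow_prime_eq_one_of_commute (hf : IsFpfAction B V) [Finite B] {a b : B} {r : ℕ}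
    (hr : r.Prime) (ha : orderOf a = r) (hb : orderOf b = r) (hab : Commute a b)
    (hdisj : a ∉ Subgroup.zpowers b) (v : V) : v ^ r = 1 := by
  classical
  haveI : Fintype ↥(Subgroup.zpowers b) := Fintype.ofFinite _
  have hb1 : b ≠ 1 := by
    rintro rfl
    rw [orderOf_one] at hb
    exact hr.one_lt.ne hb
  have hcard : Fintype.card ↥(Subgroup.zpowers b) = r := by
    rw [← Nat.card_eq_fintype_card, Nat.card_zpowers, hb]
  have hcomm : ∀ h : ↥(Subgroup.zpowers b), Commute a (h : B) := by
    intro h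
    obtain ⟨k, hk⟩ := Subgroup.mem_zpowers_iff.mp h.2
    rw [← hk]
    exact hab.zpow_right k
  have hpow : ∀ h : ↥(Subgroup.zpowers b), (h : B) ^ r = 1 := by
    intro h
    obtain ⟨k, hk⟩ := Subgroup.mem_zpowers_iff.mp h.2
    rw [← hk, ← zpow_natCast, ← zpow_mul, mul_comm, zpow_mul, zpow_natCast, ← hb,
      pow_orderOf_eq_one, one_zpow]
  have key := hf.pow_card_eq_one_of_family (ι := ↥(Subgroup.zpowers b))
    (κ := ↥(Subgroup.zpowers b)) (fun h => a * (h : B)) (fun h => (h : B)) (fun j => a ^ j) r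
    hr.pos
    (by
      intro h
      rw [(hcomm h).mul_pow, hpow h, ← ha, pow_orderOf_eq_one, one_mul])
    (by
      intro h hh
      apply hdisj
      have : a = ((h : B))⁻¹ := eq_inv_of_mul_eq_one_left hh
      rw [this]
      exact (Subgroup.zpowers b).inv_mem h.2)
    (fun w => hf.prod_subgroup_eq_one _ (by
      intro hbot
      apply hb1
      have : b ∈ Subgroup.zpowers b := Subgroup.mem_zpowers b
      rw [hbot] at this
      exact Subgroup.mem_bot.mp this) w)
    (by
      intro j hj0 hjr w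
      have hcop : (Nat.card ↥(Subgroup.zpowers b)).Coprime j := by
        rw [Nat.card_zpowers, hb]
        exact (Nat.Prime.coprime_iff_not_dvd hr).mpr (Nat.not_dvd_of_pos_of_lt hj0 hjr)
      rw [← Equiv.prod_comp (powCoprime hcop)
        (fun k : ↥(Subgroup.zpowers b) => ((k : B) * a ^ j) • w)]
      apply Finset.prod_congr rfl
      intro h _
      rw [(hcomm h).mul_pow, ((hcomm h).pow_pow j j).eq]
      rfl)
    v
  rwa [hcard] at key

/-- a normal subgroup `P` and an element `y` none of whose powers `y ^ j` (`0 < j < q`) commutes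
with a nonidentity element of `P` force `v ^ |P| = 1` -/
theorem IsFpfAction.pow_card_eq_one_of_normal (hf : IsFpfAction B V) [Finite B] (P : Subgroup B)
    [P.Normal] (hP : P ≠ ⊥) {y : B} {q : ℕ} (hq : 0 < q) (hy : y ^ q = 1) (hy1 : y ≠ 1)
    (hcent : ∀ j, 0 < j → j < q → ∀ g ∈ P, g * y ^ j = y ^ j * g → g = 1) (v : V) :
    v ^ Nat.card P = 1 := by
  classical
  haveI : Fintype ↥P := Fintype.ofFinite _
  have key := hf.pow_card_eq_one_of_family (ι := ↥P) (κ := ↥P)
    (fun g => (g : B) * y * (g : B)⁻¹) (fun g => (g : B)) (fun j => y ^ j) q hq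
    (by
      intro g
      rw [conj_pow, hy, mul_one, mul_inv_cancel])
    (by
      intro g hg
      apply hy1
      have h1 : (g : B)⁻¹ * ((g : B) * y * (g : B)⁻¹) * (g : B) = (g : B)⁻¹ * 1 * (g : B) := by
        rw [hg]
      simpa [mul_assoc] using h1)
    (fun w => hf.prod_subgroup_eq_one P hP w)
    (by
      intro j hj0 hjq w
      have hmem : ∀ g : ↥P, (g : B) * y ^ j * (g : B)⁻¹ * (y ^ j)⁻¹ ∈ P := by
        intro g
        have h1 : y ^ j * (g : B)⁻¹ * (y ^ j)⁻¹ ∈ P :=
          ‹P.Normal›.conj_mem _ (P.inv_mem g.2) _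
        have h2 := P.mul_mem g.2 h1
        simpa [mul_assoc] using h2
      let φ : ↥P → ↥P := fun g => ⟨(g : B) * y ^ j * (g : B)⁻¹ * (y ^ j)⁻¹, hmem g⟩
      have hinj : Function.Injective φ := by
        intro g g' hgg
        have h1 : (g : B) * y ^ j * (g : B)⁻¹ * (y ^ j)⁻¹ =
            (g' : B) * y ^ j * (g' : B)⁻¹ * (y ^ j)⁻¹ := congrArg Subtype.val hgg
        have h2 : (g : B) * y ^ j * (g : B)⁻¹ = (g' : B) * y ^ j * (g' : B)⁻¹ :=
          mul_right_cancel h1
        have h3 : ((g' : B)⁻¹ * (g : B)) * y ^ j = y ^ j * ((g' : B)⁻¹ * (g : B)) := by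
          have : (g' : B)⁻¹ * ((g : B) * y ^ j * (g : B)⁻¹) * (g : B) =
              (g' : B)⁻¹ * ((g' : B) * y ^ j * (g' : B)⁻¹) * (g : B) := by rw [h2]
          simpa [mul_assoc] using this
        have h4 := hcent j hj0 hjq _ (P.mul_mem (P.inv_mem g'.2) g.2) h3
        apply Subtype.ext
        have : (g : B) = (g' : B) * ((g' : B)⁻¹ * (g : B)) := by group
        rw [this, h4, mul_one]
      have hbij : Function.Bijective φ := Finite.injective_iff_bijective.mp hinj
      rw [← Equiv.prod_comp (Equiv.ofBijective φ hbij)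
        (fun k : ↥P => ((k : B) * y ^ j) • w)]
      apply Finset.prod_congr rfl
      intro g _
      congr 1
      simp only [Equiv.ofBijective_apply, φ, conj_pow]
      group)
    v
  rwa [← Nat.card_eq_fintype_card] at key

/-- a fixed-point-free action on a nontrivial group of exponent `r` admits no element of order `r` -/
theorem IsFpfAction.false_of_pow_prime (hf : IsFpfAction B V) [Finite V] [Nontrivial V] {a : B}
    {r : ℕ} (hr : r.Prime) (ha : orderOf a = r) (h : ∀ v : V, v ^ r = 1) : False := by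
  haveI : Fact r.Prime := ⟨hr⟩
  have hZ : IsPGroup r ↥(Subgroup.zpowers a) := by
    apply IsPGroup.of_card (n := 1)
    rw [Nat.card_zpowers, ha, pow_one]
  have hV : IsPGroup r V := fun v => ⟨1, by rw [pow_one]; exact h v⟩
  obtain ⟨k, hk⟩ := IsPGroup.iff_card.mp hV
  have hk0 : k ≠ 0 := by
    rintro rfl
    rw [pow_zero] at hk
    have := (Finite.one_lt_card_iff_nontrivial (α := V)).mpr inferInstance
    omega
  have hdvd : r ∣ Nat.card V := by rw [hk]; exact dvd_pow_self r hk0
  have hfix : (1 : V) ∈ MulAction.fixedPoints ↥(Subgroup.zpowers a) V := by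
    intro g
    exact smul_one g
  obtain ⟨b, hb, hb1⟩ := hZ.exists_fixed_point_of_prime_dvd_card_of_fixed_point V hdvd hfix
  have ha1 : a ≠ 1 := by
    rintro rfl
    rw [orderOf_one] at ha
    exact hr.one_lt.ne ha
  apply hb1
  symm
  apply hf a ha1 b
  exact hb ⟨a, Subgroup.mem_zpowers a⟩

end Fpf

section Cyclic

variable {B : Type*} [Group B]

/-- A finite abelian group that is not cyclic contains two "independent" elements of the same
prime order. -/
theorem exists_prime_pair_of_not_isCyclic [Finite B] (hcomm : ∀ x y : B, x * y = y * x)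
    (hnc : ¬ IsCyclic B) :
    ∃ (r : ℕ) (a b : B), r.Prime ∧ orderOf a = r ∧ orderOf b = r ∧ a ∉ Subgroup.zpowers b := by
  classical
  letI : CommGroup B := { ‹Group B› with mul_comm := hcomm }
  obtain ⟨g, hg⟩ := Monoid.exists_orderOf_eq_exponent
    (Monoid.ExponentExists.of_finite (G := B))
  set e := Monoid.exponent B with he
  have he0 : 0 < e := Monoid.exponent_pos.mpr (Monoid.ExponentExists.of_finite (G := B))
  -- the quotient by `⟨g⟩` is nontrivial
  have hne : Subgroup.zpowers g ≠ ⊤ := by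
    intro htop
    apply hnc
    exact ⟨⟨g, fun x => by
      have : x ∈ Subgroup.zpowers g := htop ▸ Subgroup.mem_top x
      exact this⟩⟩
  have hcard : Nat.card (B ⧸ Subgroup.zpowers g) ≠ 1 := by
    intro h1
    apply hne
    rw [← Subgroup.index_eq_one]
    exact h1
  have hrp : (Nat.card (B ⧸ Subgroup.zpowers g)).minFac.Prime := Nat.minFac_prime hcard
  set r := (Nat.card (B ⧸ Subgroup.zpowers g)).minFac with hr
  haveI : Fact r.Prime := ⟨hrp⟩
  obtain ⟨yb, hyb⟩ := exists_prime_orderOf_dvd_card' (G := B ⧸ Subgroup.zpowers g) r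
    (Nat.minFac_dvd _)
  obtain ⟨y, rfl⟩ := QuotientGroup.mk_surjective yb
  have hy_not : y ∉ Subgroup.zpowers g := by
    intro hy
    have : (QuotientGroup.mk y : B ⧸ Subgroup.zpowers g) = 1 :=
      (QuotientGroup.eq_one_iff y).mpr hy
    rw [this, orderOf_one] at hyb
    exact hrp.one_lt.ne hyb
  have hyr : y ^ r ∈ Subgroup.zpowers g := by
    rw [← QuotientGroup.eq_one_iff, QuotientGroup.mk_pow, ← hyb, pow_orderOf_eq_one]
  have hre : r ∣ e := by
    rw [← hyb]
    apply orderOf_dvd_of_pow_eq_one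
    rw [← QuotientGroup.mk_pow, he, Monoid.pow_exponent_eq_one, QuotientGroup.mk_one]
  obtain ⟨m, hm⟩ := hre
  have hm0 : 0 < m := by
    rcases Nat.eq_zero_or_pos m with h | h
    · rw [h, mul_zero] at hm; omega
    · exact h
  obtain ⟨k, hk⟩ := (Submonoid.mem_powers_iff _ _).mp (mem_powers_iff_mem_zpowers.mpr hyr)
  -- `r ∣ k`
  have hrk : r ∣ k := by
    have h1 : g ^ (k * m) = 1 := by
      rw [pow_mul, hk, ← pow_mul, ← hm, he, Monoid.pow_exponent_eq_one]
    have h2 : e ∣ k * m := by
      rw [← hg]; exact orderOf_dvd_of_pow_eq_one h1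
    rw [hm] at h2
    exact Nat.dvd_of_mul_dvd_mul_right hm0 h2
  obtain ⟨k', hk'⟩ := hrk
  -- the two elements
  have hb'_not : y * (g ^ k')⁻¹ ∉ Subgroup.zpowers g := by
    intro h
    apply hy_not
    have := (Subgroup.zpowers g).mul_mem h (Subgroup.pow_mem _ (Subgroup.mem_zpowers g) k')
    simpa using this
  have hb'_pow : (y * (g ^ k')⁻¹) ^ r = 1 := by
    rw [mul_pow, inv_pow, ← pow_mul, mul_comm k' r, ← hk', hk, mul_inv_cancel]
  have hb'_ne : y * (g ^ k')⁻¹ ≠ 1 := by
    intro h
    apply hb'_not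
    rw [h]
    exact Subgroup.one_mem _
  have hb'_ord : orderOf (y * (g ^ k')⁻¹) = r := orderOf_eq_prime hb'_pow hb'_ne
  have ha'_pow : (g ^ m) ^ r = 1 := by
    rw [← pow_mul, mul_comm, ← hm, ← hg, pow_orderOf_eq_one]
  have ha'_ne : g ^ m ≠ 1 := by
    apply pow_ne_one_of_lt_orderOf hm0.ne'
    rw [hg, hm]
    have := hrp.one_lt
    nlinarith
  have ha'_ord : orderOf (g ^ m) = r := orderOf_eq_prime ha'_pow ha'_ne
  refine ⟨r, y * (g ^ k')⁻¹, g ^ m, hrp, hb'_ord, ha'_ord, ?_⟩
  intro h
  apply hb'_not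
  exact (Subgroup.zpowers_le.mpr (Subgroup.pow_mem _ (Subgroup.mem_zpowers g) m)) h

variable {V : Type*} [CommGroup V] [MulDistribMulAction B V]

/-- **Abelian Frobenius complements are cyclic.** -/
theorem IsFpfAction.isCyclic_of_comm (hf : IsFpfAction B V) [Finite B] [Finite V] [Nontrivial V]
    (hcomm : ∀ x y : B, x * y = y * x) : IsCyclic B := by
  by_contra hnc
  obtain ⟨r, a, b, hr, ha, hb, hab⟩ := exists_prime_pair_of_not_isCyclic hcomm hnc
  exact hf.false_of_pow_prime hr ha
    (fun v => hf.pow_prime_eq_one_of_commute hr ha hb (hcomm a b) hab v)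

theorem commute_of_pow_coprime {x z : B} {i : ℕ} (h : Commute (x ^ i) z)
    (hcop : Nat.Coprime i (orderOf x)) (hx : 1 < orderOf x) : Commute x z := by
  obtain ⟨m, -, hm⟩ := Nat.exists_mul_mod_eq_one_of_coprime hcop hx
  have h1 : x = (x ^ i) ^ m := by
    rw [← pow_mul, ← pow_mod_orderOf, hm, pow_one]
  rw [h1]
  exact h.pow_left m

theorem minFac_mul_of_lt {p q : ℕ} (hp : p.Prime) (hq : q.Prime) (hqp : q < p) :
    (p * q).minFac = q := by
  have h1 : (p * q).minFac.Prime := Nat.minFac_prime (by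
    have := hp.one_lt; have := hq.one_lt; nlinarith)
  have h2 : (p * q).minFac ∣ p * q := Nat.minFac_dvd _
  have h3 : (p * q).minFac ≤ q := Nat.minFac_le_of_dvd hq.two_le (dvd_mul_left q p)
  rcases (Nat.Prime.dvd_mul h1).mp h2 with h | h
  · have := (Nat.prime_dvd_prime_iff_eq h1 hp).mp h
    omega
  · exact (Nat.prime_dvd_prime_iff_eq h1 hq).mp h

/-- Frobenius complements of order `pq` with `q < p` are cyclic. -/
theorem IsFpfAction.isCyclic_of_card_eq_mul_of_lt (hf : IsFpfAction B V) [Finite B] [Finite V]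
    [Nontrivial V] {p q : ℕ} (hp : p.Prime) (hq : q.Prime) (hqp : q < p)
    (hcard : Nat.card B = p * q) : IsCyclic B := by
  haveI : Fact p.Prime := ⟨hp⟩
  haveI : Fact q.Prime := ⟨hq⟩
  obtain ⟨x, hx⟩ := exists_prime_orderOf_dvd_card' (G := B) p (hcard ▸ dvd_mul_right p q)
  obtain ⟨y, hy⟩ := exists_prime_orderOf_dvd_card' (G := B) q (hcard ▸ dvd_mul_left q p)
  by_cases hxy : Commute x y
  · apply isCyclic_of_orderOf_eq_card (x * y)
    rw [hxy.orderOf_mul_eq_mul_orderOf_of_coprime, hx, hy, hcard]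
    rw [hx, hy]
    exact (Nat.coprime_primes hp hq).mpr (by omega)
  · exfalso
    have hPcard : Nat.card ↥(Subgroup.zpowers x) = p := by rw [Nat.card_zpowers, hx]
    have hidx : (Subgroup.zpowers x).index = q := by
      have := (Subgroup.zpowers x).card_mul_index
      rw [hPcard, hcard] at this
      exact Nat.eq_of_mul_eq_mul_left hp.pos this
    haveI : (Subgroup.zpowers x).Normal := by
      apply Subgroup.normal_of_index_eq_minFac_card
      rw [hidx, hcard, minFac_mul_of_lt hp hq hqp]
    have hx1 : x ≠ 1 := by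
      rintro rfl
      rw [orderOf_one] at hx
      exact hp.one_lt.ne hx
    have hy1 : y ≠ 1 := by
      rintro rfl
      rw [orderOf_one] at hy
      exact hq.one_lt.ne hy
    have hPne : Subgroup.zpowers x ≠ ⊥ := by
      intro hbot
      apply hx1
      have : x ∈ Subgroup.zpowers x := Subgroup.mem_zpowers x
      rw [hbot] at this
      exact Subgroup.mem_bot.mp this
    have key := hf.pow_card_eq_one_of_normal (Subgroup.zpowers x) hPne hq.pos
      (by rw [← hy, pow_orderOf_eq_one]) hy1
      (by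
        intro j hj0 hjq g hg hcomm
        by_contra hg1
        apply hxy
        obtain ⟨i, rfl⟩ := (Submonoid.mem_powers_iff _ _).mp (mem_powers_iff_mem_zpowers.mpr hg)
        have hcopi : Nat.Coprime i (orderOf x) := by
          rw [hx, Nat.coprime_comm, Nat.Prime.coprime_iff_not_dvd hp]
          intro hdvd
          apply hg1
          obtain ⟨c, rfl⟩ := hdvd
          rw [pow_mul, ← hx, pow_orderOf_eq_one, one_pow]
        have h1 : Commute x (y ^ j) :=
          commute_of_pow_coprime (show Commute (x ^ i) (y ^ j) from hcomm) hcopi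
            (by rw [hx]; exact hp.one_lt)
        have hcopj : Nat.Coprime j (orderOf y) := by
          rw [hy, Nat.coprime_comm, Nat.Prime.coprime_iff_not_dvd hq]
          exact Nat.not_dvd_of_pos_of_lt hj0 hjq
        exact (commute_of_pow_coprime h1.symm hcopj (by rw [hy]; exact hq.one_lt)).symm)
    rw [hPcard] at key
    exact hf.false_of_pow_prime hp hx key

/-- **Frobenius complements that are abelian or of order `pq` are cyclic.** -/
theorem IsFpfAction.isCyclic (hf : IsFpfAction B V) [Finite B] [Finite V] [Nontrivial V]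
    (h : (∀ x y : B, x * y = y * x) ∨ ∃ p q : ℕ, p.Prime ∧ q.Prime ∧ Nat.card B = p * q) :
    IsCyclic B := by
  rcases h with h | ⟨p, q, hp, hq, hcard⟩
  · exact hf.isCyclic_of_comm h
  · rcases lt_trichotomy p q with hlt | heq | hgt
    · exact hf.isCyclic_of_card_eq_mul_of_lt hq hp hlt (by rw [hcard, mul_comm])
    · subst heq
      haveI : Fact p.Prime := ⟨hp⟩
      apply hf.isCyclic_of_comm
      have := IsPGroup.isMulCommutative_of_card_eq_prime_sq (G := B) (p := p) (by rw [hcard, sq])
      exact fun x y => mul_comm' x y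
    · exact hf.isCyclic_of_card_eq_mul_of_lt hp hq hgt hcard

end Cyclic

section Conj

open scoped IsMulCommutative

variable {G : Type*} [Group G]

/-- The conjugation action of a subgroup `A ≤ N_G(V)` on `V`. -/
def conjMulDistribMulAction (A V : Subgroup G)
    (h : A ≤ Subgroup.normalizer (V : Set G)) : MulDistribMulAction ↥A ↥V where
  smul a v := ⟨(a : G) * (v : G) * (a : G)⁻¹, (Subgroup.mem_normalizer_iff.mp (h a.2) v).mp v.2⟩
  one_smul v := Subtype.ext (by
    show ((1 : ↥A) : G) * (v : G) * ((1 : ↥A) : G)⁻¹ = v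
    simp)
  mul_smul a b v := Subtype.ext (by
    show ((a * b : ↥A) : G) * (v : G) * ((a * b : ↥A) : G)⁻¹ =
      (a : G) * ((b : G) * (v : G) * (b : G)⁻¹) * (a : G)⁻¹
    simp [mul_assoc])
  smul_mul a v w := Subtype.ext (by
    show (a : G) * ((v * w : ↥V) : G) * (a : G)⁻¹ =
      ((a : G) * (v : G) * (a : G)⁻¹) * ((a : G) * (w : G) * (a : G)⁻¹)
    simp [mul_assoc])
  smul_one a := Subtype.ext (by
    show (a : G) * ((1 : ↥V) : G) * (a : G)⁻¹ = ((1 : ↥V) : G)
    simp)

/-- **Frobenius complements (internal form).** If `A` normalizes the nontrivial abelian subgroup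
`V` and no nonidentity element of `A` centralizes a nonidentity element of `V`, then `A` is cyclic
provided it is abelian or of order `pq`. -/
theorem isCyclic_of_fpf_on_subgroup [Finite G] (A V : Subgroup G) [IsMulCommutative V]
    (hV : V ≠ ⊥) (hAV : A ≤ Subgroup.normalizer (V : Set G))
    (hfpf : ∀ a ∈ A, a ≠ 1 → V ⊓ Subgroup.centralizer {a} = ⊥)
    (hA : IsMulCommutative A ∨ ∃ p q : ℕ, p.Prime ∧ q.Prime ∧ Nat.card A = p * q) :
    IsCyclic A := by
  letI := conjMulDistribMulAction A V hAV
  haveI : Nontrivial ↥V := (Subgroup.nontrivial_iff_ne_bot V).mpr hV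
  have hf : IsFpfAction ↥A ↥V := by
    intro a ha v hv
    have ha1 : (a : G) ≠ 1 := fun h => ha (Subtype.ext h)
    have h1 : (a : G) * (v : G) * (a : G)⁻¹ = (v : G) := congrArg Subtype.val hv
    have h2 : (v : G) ∈ V ⊓ Subgroup.centralizer {(a : G)} := by
      rw [Subgroup.mem_inf]
      refine ⟨v.2, ?_⟩
      rw [Subgroup.mem_centralizer_singleton_iff]
      have : (a : G) * (v : G) * (a : G)⁻¹ * (a : G) = (v : G) * (a : G) := by rw [h1]
      simpa [mul_assoc] using this.symm
    rw [hfpf a a.2 ha1] at h2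
    exact Subtype.ext (Subgroup.mem_bot.mp h2)
  apply hf.isCyclic
  rcases hA with hA | hA
  · left
    intro x y
    exact mul_comm' x y
  · right
    exact hA

end Conj

end Cfsg.Agent.Lib.Helper9
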