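/-
helper9: the "host lemma" (pure `s`-group theory) for the proof of S1402 (Bender–Glauberman 9.5);
see notes/bg95/PROOF.md, step 2a, and notes/bg95/SPEC.md, piece (B).
-/
import Mathlib
import Cfsg.Prelude
import Cfsg.Agent.Lib.Helper17.BGUniqG
import Cfsg.Agent.Lib.Helper4.NormalStep
import Cfsg.Agent.Lib.Helper1.NormalRankThree
import Cfsg.Agent.Lib.Helper12.Basic
import Cfsg.Agent.Lib.Helper23.Class2

set_option autoImplicit false
open scoped commutatorElement

namespace Cfsg.Agent.Lib.Helper9.BG95Host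

variable {S : Type*} [Group S]

/-- `Ω₁(Z(S))`: the central elements of order dividing `s`. -/
def omegaZ (s : ℕ) (S : Type*) [Group S] : Subgroup S where
  carrier := {x | x ∈ Subgroup.center S ∧ x ^ s = 1}
  mul_mem' := by
    rintro a b ⟨ha, ha'⟩ ⟨hb, hb'⟩
    refine ⟨Subgroup.mul_mem _ ha hb, ?_⟩
    have hc : Commute a b := (Subgroup.mem_center_iff.mp ha b).symm
    rw [hc.mul_pow, ha', hb', one_mul]
  one_mem' := ⟨Subgroup.one_mem _, one_pow _⟩
  inv_mem' := by
    rintro a ⟨ha, ha'⟩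
    exact ⟨Subgroup.inv_mem _ ha, by rw [inv_pow, ha', inv_one]⟩

theorem mem_omegaZ {s : ℕ} {x : S} : x ∈ omegaZ s S ↔ x ∈ Subgroup.center S ∧ x ^ s = 1 := Iff.rfl

theorem omegaZ_le_center (s : ℕ) : omegaZ s S ≤ Subgroup.center S := fun _ hx => hx.1

instance omegaZ_characteristic (s : ℕ) : (omegaZ s S).Characteristic := by
  rw [Subgroup.characteristic_iff_map_le]
  rintro φ _ ⟨x, hx, rfl⟩
  refine ⟨?_, ?_⟩
  · have h1 : (Subgroup.center S).map φ.toMonoidHom ≤ Subgroup.center S :=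
      (Subgroup.characteristic_iff_map_le.mp inferInstance) φ
    exact h1 ⟨x, hx.1, rfl⟩
  · show (φ x) ^ s = 1
    rw [← map_pow, hx.2, map_one]

/-- The host subgroup in the case of cyclic `Ω₁(Z(S))`: elements of order dividing `s` that are
central modulo `Ω₁(Z(S))`. -/
def host (s : ℕ) (hs : Odd s) (S : Type*) [Group S] : Subgroup S where
  carrier := {x | x ^ s = 1 ∧ ∀ g : S, ⁅x, g⁆ ∈ omegaZ s S}
  mul_mem' := by
    rintro a b ⟨ha, ha'⟩ ⟨hb, hb'⟩
    have hcomm : ∀ g : S, ⁅a * b, g⁆ = ⁅a, g⁆ * ⁅b, g⁆ := by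
      intro g
      have h1 : ⁅a * b, g⁆ = a * ⁅b, g⁆ * a⁻¹ * ⁅a, g⁆ := by
        simp only [commutatorElement_def]; group
      have h2 : a * ⁅b, g⁆ = ⁅b, g⁆ * a := ((Subgroup.mem_center_iff.mp (hb' g).1) a)
      rw [h1, h2, mul_inv_cancel_right]
      exact ((Subgroup.mem_center_iff.mp (hb' g).1) _).symm
    refine ⟨?_, fun g => ?_⟩
    · rw [Cfsg.Agent.Lib.Helper23.mul_pow_of_central_commutator a b (hb' a).1 s, ha, hb, one_mul]
      obtain ⟨k, hk⟩ := hs
      have hch : s.choose 2 = s * k := by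
        rw [Nat.choose_two_right]
        have : s * (s - 1) = 2 * (s * k) := by
          have : s - 1 = 2 * k := by omega
          rw [this]; ring
        rw [this, Nat.mul_div_cancel_left _ (by norm_num : 0 < 2)]
      rw [hch, pow_mul, (hb' a).2, one_pow, mul_one]
    · rw [hcomm g]
      exact Subgroup.mul_mem _ (ha' g) (hb' g)
  one_mem' := by
    refine ⟨one_pow _, fun g => ?_⟩
    rw [commutatorElement_one_left]
    exact Subgroup.one_mem _
  inv_mem' := by
    rintro a ⟨ha, ha'⟩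
    refine ⟨by rw [inv_pow, ha, inv_one], fun g => ?_⟩
    have h1 : ⁅a⁻¹, g⁆ = a⁻¹ * ⁅a, g⁆⁻¹ * a := by
      simp only [commutatorElement_def]; group
    have h2 : a⁻¹ * ⁅a, g⁆⁻¹ = ⁅a, g⁆⁻¹ * a⁻¹ :=
      ((Subgroup.mem_center_iff.mp (Subgroup.inv_mem _ (ha' g).1)) a⁻¹)
    rw [h1, h2, inv_mul_cancel_right]
    exact Subgroup.inv_mem _ (ha' g)

theorem mem_host {s : ℕ} {hs : Odd s} {x : S} :
    x ∈ host s hs S ↔ x ^ s = 1 ∧ ∀ g : S, ⁅x, g⁆ ∈ omegaZ s S := Iff.rfl

theorem omegaZ_le_host (s : ℕ) (hs : Odd s) : omegaZ s S ≤ host s hs S := by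
  intro x hx
  refine ⟨hx.2, fun g => ?_⟩
  have : ⁅x, g⁆ = 1 := by
    rw [commutatorElement_eq_one_iff_mul_comm]
    exact ((Subgroup.mem_center_iff.mp hx.1) g).symm
  rw [this]; exact Subgroup.one_mem _

instance host_characteristic (s : ℕ) (hs : Odd s) : (host s hs S).Characteristic := by
  rw [Subgroup.characteristic_iff_map_le]
  rintro φ _ ⟨x, hx, rfl⟩
  refine ⟨?_, fun g => ?_⟩
  · show (φ x) ^ s = 1
    rw [← map_pow, hx.1, map_one]
  · have h1 : (omegaZ s S).map φ.toMonoidHom ≤ omegaZ s S :=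
      (Subgroup.characteristic_iff_map_le.mp inferInstance) φ
    have h2 : ⁅φ x, g⁆ = φ ⁅x, φ.symm g⁆ := by
      rw [map_commutatorElement, MulEquiv.apply_symm_apply]
    show ⁅φ x, g⁆ ∈ omegaZ s S
    rw [h2]
    exact h1 ⟨_, hx.2 (φ.symm g), rfl⟩

section finite

variable [Finite S] {s : ℕ} [Fact s.Prime]

omit [Finite S] in
/-- A cyclic subgroup of exponent dividing `s` has at most `s` elements. -/
theorem card_le_of_isCyclic_of_exp (H : Subgroup S) (hc : IsCyclic H) (he : ∀ x ∈ H, x ^ s = 1) :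
    Nat.card H ≤ s := by
  obtain ⟨g, hg⟩ := hc.exists_generator
  have h1 : orderOf g = Nat.card H := orderOf_eq_card_of_forall_mem_zpowers hg
  have h2 : g ^ s = 1 := Subtype.ext (by simpa using he g g.2)
  have h3 := orderOf_dvd_of_pow_eq_one h2
  rw [← h1]
  exact Nat.le_of_dvd (Fact.out : s.Prime).pos h3

/-- A noncyclic `s`-subgroup has at least `s ^ 2` elements. -/
theorem sq_le_card_of_not_isCyclic (hS : IsPGroup s S) (Y : Subgroup S) (hY : ¬ IsCyclic Y) :
    s ^ 2 ≤ Nat.card Y := by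
  have hsp : s.Prime := Fact.out
  obtain ⟨k, hk⟩ := IsPGroup.iff_card.mp (hS.to_subgroup Y)
  rcases k with _ | _ | k
  · exfalso; apply hY
    rw [pow_zero] at hk
    have : Subsingleton Y := (Nat.card_eq_one_iff_unique.mp hk).1
    infer_instance
  · exfalso; apply hY
    rw [zero_add, pow_one] at hk
    exact isCyclic_of_prime_card hk
  · rw [hk]
    exact Nat.pow_le_pow_right hsp.pos (by omega)

theorem omegaZ_ne_bot (hS : IsPGroup s S) [Nontrivial S] : omegaZ s S ≠ ⊥ := by
  have hsp : s.Prime := Fact.out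
  have hZ : Nontrivial (Subgroup.center S) := hS.center_nontrivial
  have hZp : IsPGroup s (Subgroup.center S) := hS.to_subgroup _
  obtain ⟨n, hn0, hn⟩ := hZp.nontrivial_iff_card.mp hZ
  have hdvd : s ∣ Nat.card (Subgroup.center S) := hn.symm ▸ dvd_pow_self _ (ne_of_gt hn0)
  obtain ⟨x, hx⟩ := exists_prime_orderOf_dvd_card' s hdvd
  intro hbot
  have hxmem : (x : S) ∈ omegaZ s S := ⟨x.2, by
    have h1 := pow_orderOf_eq_one x
    rw [hx] at h1
    simpa using congrArg Subtype.val h1⟩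
  rw [hbot, Subgroup.mem_bot] at hxmem
  have h2 : x = 1 := Subtype.ext hxmem
  rw [h2, orderOf_one] at hx
  exact hsp.one_lt.ne hx

/-- If `Ω₁(Z(S))` has order `s` and `S` is not cyclic, the host is strictly larger than `Ω₁(Z(S))`. -/
theorem exists_mem_host_not_mem_omegaZ (hs : s ≠ 2) (hodd : Odd s) (hS : IsPGroup s S)
    (hΩ : Nat.card (omegaZ s S) = s) (hnc : ¬ IsCyclic S) :
    ∃ x ∈ host s hodd S, x ∉ omegaZ s S := by
  have hsp : s.Prime := Fact.out
  have htop : ¬ IsCyclic (⊤ : Subgroup S) := fun h => hnc (Subgroup.topEquiv.isCyclic.mp h)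
  obtain ⟨A0, -, hA0n, hA0e, hA0card⟩ :=
    Cfsg.Agent.Lib.Helper4.exists_normal_elemAb_le_of_not_isCyclic hs hS ⊤ htop
  have := hA0n
  have hΩn : (omegaZ s S).Normal := inferInstance
  have hNbn : (A0.map (QuotientGroup.mk' (omegaZ s S))).Normal :=
    Subgroup.Normal.map inferInstance _ (QuotientGroup.mk'_surjective (omegaZ s S))
  have hNbne : A0.map (QuotientGroup.mk' (omegaZ s S)) ≠ ⊥ := by
    intro h
    have hle : A0 ≤ omegaZ s S := by
      intro a ha
      have h1 : QuotientGroup.mk' (omegaZ s S) a ∈ A0.map (QuotientGroup.mk' (omegaZ s S)) :=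
        Subgroup.mem_map_of_mem _ ha
      rw [h, Subgroup.mem_bot, QuotientGroup.mk'_apply, QuotientGroup.eq_one_iff] at h1
      exact h1
    have h2 := Subgroup.card_le_of_le hle
    rw [hA0card, hΩ] at h2
    nlinarith [hsp.one_lt]
  obtain ⟨xb, hxb, hxb1, hxbc⟩ := Cfsg.Agent.Lib.Helper12.exists_ne_one_mem_center_of_normal
    (hS.to_quotient (omegaZ s S)) (A0.map (QuotientGroup.mk' (omegaZ s S))) hNbne
  obtain ⟨x, hxA0, rfl⟩ := hxb
  refine ⟨x, ⟨hA0e.2 x hxA0, fun g => ?_⟩, ?_⟩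
  · rw [← QuotientGroup.eq_one_iff (N := omegaZ s S)]
    have h3 : ((⁅x, g⁆ : S) : S ⧸ omegaZ s S) = ⁅(x : S ⧸ omegaZ s S), (g : S ⧸ omegaZ s S)⁆ := by
      simp [commutatorElement_def]
    rw [h3, commutatorElement_eq_one_iff_mul_comm]
    exact ((Subgroup.mem_center_iff.mp hxbc) _).symm
  · intro hx
    apply hxb1
    rw [QuotientGroup.mk'_apply, QuotientGroup.eq_one_iff]; exact hx

omit [Finite S] in
/-- An element of the host outside `Ω₁(Z(S))` has order `s`. -/
theorem orderOf_eq_of_mem_host {hodd : Odd s} {w : S} (hw : w ∈ host s hodd S)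
    (hwΩ : w ∉ omegaZ s S) : orderOf w = s := by
  have hsp : s.Prime := Fact.out
  refine orderOf_eq_prime hw.1 ?_
  rintro rfl
  exact hwΩ (Subgroup.one_mem _)

/-- For `w` in the host outside `Ω₁(Z(S))` (of order `s`), `⟨w⟩ ⊓ Ω₁(Z(S)) = ⊥`. -/
theorem zpowers_inf_omegaZ {hodd : Odd s} {w : S} (hw : w ∈ host s hodd S)
    (hwΩ : w ∉ omegaZ s S) : Nat.card (Subgroup.zpowers w ⊓ omegaZ s S : Subgroup S) = 1 := by
  have hsp : s.Prime := Fact.out
  have ho := orderOf_eq_of_mem_host hw hwΩ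
  have hcz : Nat.card (Subgroup.zpowers w) = s := by rw [Nat.card_zpowers, ho]
  have hdvd : Nat.card (Subgroup.zpowers w ⊓ omegaZ s S : Subgroup S) ∣ s := by
    rw [← hcz]; exact Subgroup.card_dvd_of_le inf_le_left
  rcases (Nat.dvd_prime hsp).mp hdvd with h | h
  · exact h
  · exfalso
    have heq : Subgroup.zpowers w ⊓ omegaZ s S = Subgroup.zpowers w :=
      Subgroup.eq_of_le_of_card_ge inf_le_left (by rw [h, hcz])
    apply hwΩ
    have h1 : w ∈ Subgroup.zpowers w ⊓ omegaZ s S := by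
      rw [heq]; exact Subgroup.mem_zpowers w
    exact h1.2

/-- The subgroup `⟨w⟩ ⊔ Ω₁(Z(S))` for `w` in the host. -/
theorem sup_facts {hodd : Odd s} (hΩ : Nat.card (omegaZ s S) = s) {w : S}
    (hw : w ∈ host s hodd S) (hwΩ : w ∉ omegaZ s S) :
    (Subgroup.zpowers w ⊔ omegaZ s S).Normal ∧
      IsMulCommutative (Subgroup.zpowers w ⊔ omegaZ s S : Subgroup S) ∧
      (∀ a ∈ Subgroup.zpowers w ⊔ omegaZ s S, a ^ s = 1) ∧
      Nat.card (Subgroup.zpowers w ⊔ omegaZ s S : Subgroup S) = s ^ 2 := by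
  have hsp : s.Prime := Fact.out
  have hle : Subgroup.zpowers w ⊔ omegaZ s S ≤ host s hodd S :=
    sup_le (Subgroup.zpowers_le.mpr hw) (omegaZ_le_host s hodd)
  have hΩc : ∀ z ∈ omegaZ s S, ∀ g : S, g * z = z * g := fun z hz g =>
    (Subgroup.mem_center_iff.mp hz.1 g)
  have hBC : Subgroup.zpowers w ⊔ omegaZ s S ≤ Subgroup.centralizer ({w} : Set S) := by
    refine sup_le (Subgroup.zpowers_le.mpr ?_) ?_
    · rw [Subgroup.mem_centralizer_iff]
      intro h hh
      rw [Set.mem_singleton_iff] at hh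
      rw [hh]
    · intro z hz
      rw [Subgroup.mem_centralizer_iff]
      intro h _
      exact hΩc z hz h
  have hBcent : Subgroup.zpowers w ⊔ omegaZ s S ≤
      Subgroup.centralizer ((Subgroup.zpowers w ⊔ omegaZ s S : Subgroup S) : Set S) := by
    refine sup_le (Subgroup.zpowers_le.mpr ?_) ?_
    · rw [Subgroup.mem_centralizer_iff]
      intro b hb
      have h1 := hBC hb
      rw [Subgroup.mem_centralizer_iff] at h1
      exact (h1 w rfl).symm
    · intro z hz
      rw [Subgroup.mem_centralizer_iff]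
      intro h _
      exact hΩc z hz h
  refine ⟨?_, ?_, fun a ha => (hle ha).1, ?_⟩
  · have hmap : ∀ g : S, (Subgroup.zpowers w ⊔ omegaZ s S).map (MulAut.conj g).toMonoidHom ≤
        Subgroup.zpowers w ⊔ omegaZ s S := by
      intro g
      rw [Subgroup.map_sup, sup_le_iff]
      constructor
      · rw [MonoidHom.map_zpowers, Subgroup.zpowers_le]
        show g * w * g⁻¹ ∈ _
        have h1 : g * w * g⁻¹ = ⁅w, g⁆⁻¹ * w := by
          simp only [commutatorElement_def]; group
        rw [h1]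
        exact Subgroup.mul_mem _ (le_sup_right (a := Subgroup.zpowers w)
          (Subgroup.inv_mem _ (hw.2 g))) (le_sup_left (b := omegaZ s S) (Subgroup.mem_zpowers w))
      · rintro _ ⟨z, hz, rfl⟩
        show g * z * g⁻¹ ∈ _
        rw [hΩc z hz g, mul_inv_cancel_right]
        exact le_sup_right (a := Subgroup.zpowers w) hz
    constructor
    intro n hn g
    exact hmap g ⟨n, hn, rfl⟩
  · refine ⟨⟨?_⟩⟩
    rintro ⟨a, ha⟩ ⟨b, hb⟩
    apply Subtype.ext
    have h1 := hBcent ha
    rw [Subgroup.mem_centralizer_iff] at h1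
    exact (h1 b hb).symm
  · have h1 := Cfsg.Agent.Lib.Helper4.card_sup_mul_card_inf (Subgroup.zpowers w) (omegaZ s S)
      (by rw [Subgroup.normalizer_eq_top]; exact le_top)
    rw [zpowers_inf_omegaZ hw hwΩ, mul_one, Nat.card_zpowers, orderOf_eq_of_mem_host hw hwΩ, hΩ] at h1
    rw [h1, sq]

/-- Key claim: every element of the host is centralized by a wide elementary abelian subgroup. -/
theorem exists_wide_centralizing (hs : s ≠ 2) {hodd : Odd s} (hS : IsPGroup s S)
    (hΩ : Nat.card (omegaZ s S) = s)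
    (E₀ : Subgroup S) (hE₀c : IsMulCommutative E₀) (hE₀e : ∀ a ∈ E₀, a ^ s = 1)
    (hE₀card : s ^ 2 < Nat.card E₀) (w : S) (hw : w ∈ host s hodd S) :
    ∃ A₀ : Subgroup S, IsMulCommutative A₀ ∧ (∀ a ∈ A₀, a ^ s = 1) ∧ s ^ 2 < Nat.card A₀ ∧
      A₀ ≤ Subgroup.centralizer ({w} : Set S) := by
  by_cases hwΩ : w ∈ omegaZ s S
  · refine ⟨E₀, hE₀c, hE₀e, hE₀card, fun a _ => ?_⟩
    rw [Subgroup.mem_centralizer_iff]
    intro h hh
    rw [Set.mem_singleton_iff] at hh
    rw [hh]
    exact ((Subgroup.mem_center_iff.mp hwΩ.1 a)).symm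
  · obtain ⟨hBn, hBc, hBe, hB2⟩ := sup_facts hΩ hw hwΩ
    obtain ⟨A, hBA, -, hCA, A₀, hA₀A, hA₀c, hA₀e, hA₀card⟩ :=
      Cfsg.Agent.Lib.Helper1.exists_self_centralizing_normal_rank_three hs hS E₀ hE₀c hE₀e hE₀card
        (Subgroup.zpowers w ⊔ omegaZ s S) hBc hBe hB2
    refine ⟨A₀, hA₀c, hA₀e, hA₀card, fun a ha => ?_⟩
    rw [Subgroup.mem_centralizer_iff]
    intro h hh
    rw [Set.mem_singleton_iff] at hh
    rw [hh]
    have h1 : a ∈ Subgroup.centralizer (A : Set S) := by rw [hCA]; exact hA₀A ha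
    rw [Subgroup.mem_centralizer_iff] at h1
    exact h1 w (hBA (le_sup_left (b := omegaZ s S) (Subgroup.mem_zpowers w)))

/-- **Host lemma** (notes/bg95/PROOF.md, 2a): a wide `s`-group (`s` odd) has a characteristic noncyclic
subgroup `W` of exponent `s` such that every element of `W` is centralized by a wide abelian
subgroup, and every noncyclic subgroup of `W` contains a noncyclic subgroup with wide centralizer. -/
theorem exists_host {S : Type*} [Group S] [Finite S] (s : ℕ) [Fact s.Prime] (hs : s ≠ 2)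
    (hS : IsPGroup s S) (hr : ¬ Cfsg.PRankLE s 2 S) :
    ∃ W : Subgroup S, W.Characteristic ∧ ¬ IsCyclic W ∧ (∀ w ∈ W, w ^ s = 1) ∧
      (∀ w ∈ W, ∃ A' : Subgroup S, IsMulCommutative A' ∧ ¬ Cfsg.PRankLE s 2 A' ∧
        A' ≤ Subgroup.centralizer ({w} : Set S)) ∧
      (∀ Y : Subgroup S, Y ≤ W → ¬ IsCyclic Y → ∃ Y₀ : Subgroup S, Y₀ ≤ Y ∧ ¬ IsCyclic Y₀ ∧
        ¬ Cfsg.PRankLE s 2 ↥(Subgroup.centralizer (Y₀ : Set S))) := by
  classical
  have hsp : s.Prime := Fact.out
  have hodd : Odd s := hsp.odd_of_ne_two hs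
  obtain ⟨E₀, hE₀c, hE₀e, hE₀card⟩ : ∃ E₀ : Subgroup S, IsMulCommutative E₀ ∧
      (∀ a ∈ E₀, a ^ s = 1) ∧ s ^ 2 < Nat.card E₀ := by
    by_contra hcon
    apply hr
    intro A hAc hAe
    by_contra h
    exact hcon ⟨A, hAc, hAe, not_le.mp h⟩
  have comm_of : ∀ A₀ : Subgroup S, IsMulCommutative A₀ → ∀ a ∈ A₀, ∀ b ∈ A₀, a * b = b * a :=
    fun A₀ hA₀c a ha b hb => congrArg Subtype.val (hA₀c.is_comm.comm (⟨a, ha⟩ : A₀) ⟨b, hb⟩)
  have wide_of : ∀ A₀ : Subgroup S, IsMulCommutative A₀ → (∀ a ∈ A₀, a ^ s = 1) →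
      s ^ 2 < Nat.card A₀ → ¬ Cfsg.PRankLE s 2 A₀ := fun A₀ hc he hcard =>
    Cfsg.Agent.Lib.Helper17.BGU.not_pRankLE_of_elemAb le_rfl (comm_of A₀ hc) he hcard
  have hs1 : 1 < s := hsp.one_lt
  have hss : s < s ^ 2 := by nlinarith
  have hSnc : ¬ IsCyclic S := by
    intro hc
    have h1 := card_le_of_isCyclic_of_exp E₀ inferInstance hE₀e
    omega
  have hnt : Nontrivial S := by
    by_contra h
    rw [not_nontrivial_iff_subsingleton] at h
    exact hSnc inferInstance
  by_cases hcyc : IsCyclic (omegaZ s S)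
  · -- `Ω₁(Z(S))` has order `s`
    have hΩle : Nat.card (omegaZ s S) ≤ s := card_le_of_isCyclic_of_exp _ hcyc (fun x hx => hx.2)
    have hΩ : Nat.card (omegaZ s S) = s := by
      obtain ⟨k, hk⟩ := IsPGroup.iff_card.mp (hS.to_subgroup (omegaZ s S))
      rcases k with _ | k
      · exfalso
        rw [pow_zero] at hk
        exact omegaZ_ne_bot hS (Subgroup.card_eq_one.mp hk)
      · apply le_antisymm hΩle
        rw [hk]
        calc s = s ^ 1 := (pow_one s).symm
          _ ≤ s ^ (k + 1) := Nat.pow_le_pow_right hsp.pos (by omega)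
    obtain ⟨x₀, hx₀W, hx₀Ω⟩ := exists_mem_host_not_mem_omegaZ hs hodd hS hΩ hSnc
    -- a subgroup of the host properly containing `Ω₁(Z(S))` is not cyclic
    have nc_of : ∀ Y : Subgroup S, Y ≤ host s hodd S → omegaZ s S ≤ Y → (∃ y ∈ Y, y ∉ omegaZ s S) →
        ¬ IsCyclic Y := by
      intro Y hYW hΩY ⟨y, hyY, hyΩ⟩ hYc
      have h1 := card_le_of_isCyclic_of_exp Y hYc (fun x hx => (hYW hx).1)
      have h2 : omegaZ s S = Y := Subgroup.eq_of_le_of_card_ge hΩY (by rw [hΩ]; exact h1)
      exact hyΩ (h2 ▸ hyY)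
    refine ⟨host s hodd S, inferInstance, nc_of _ le_rfl (omegaZ_le_host s hodd) ⟨x₀, hx₀W, hx₀Ω⟩,
      fun w hw => hw.1, ?_, ?_⟩
    · intro w hw
      obtain ⟨A₀, hA₀c, hA₀e, hA₀card, hA₀w⟩ :=
        exists_wide_centralizing hs hS hΩ E₀ hE₀c hE₀e hE₀card w hw
      exact ⟨A₀, hA₀c, wide_of A₀ hA₀c hA₀e hA₀card, hA₀w⟩
    · intro Y hYW hYnc
      have hΩc : ∀ z ∈ omegaZ s S, ∀ g : S, g * z = z * g := fun z hz g =>
        (Subgroup.mem_center_iff.mp hz.1 g)
      by_cases hΩY : omegaZ s S ≤ Y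
      · -- `Y` contains `Ω₁(Z(S))`
        obtain ⟨w, hwY, hwΩ⟩ : ∃ w ∈ Y, w ∉ omegaZ s S := by
          by_contra hcon
          push Not at hcon
          have : Y = omegaZ s S := le_antisymm hcon hΩY
          rw [this] at hYnc
          exact hYnc hcyc
        have hw : w ∈ host s hodd S := hYW hwY
        obtain ⟨A₀, hA₀c, hA₀e, hA₀card, hA₀w⟩ :=
          exists_wide_centralizing hs hS hΩ E₀ hE₀c hE₀e hE₀card w hw
        have hY₀Y : Subgroup.zpowers w ⊔ omegaZ s S ≤ Y :=
          sup_le (Subgroup.zpowers_le.mpr hwY) hΩY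
        refine ⟨Subgroup.zpowers w ⊔ omegaZ s S, hY₀Y,
          nc_of _ (hY₀Y.trans hYW) le_sup_right
            ⟨w, le_sup_left (b := omegaZ s S) (Subgroup.mem_zpowers w), hwΩ⟩, ?_⟩
        refine Cfsg.Agent.Lib.Helper17.BGU.not_pRankLE_of_elemAb (E := A₀) ?_ (comm_of A₀ hA₀c)
          hA₀e hA₀card
        intro a ha
        have h1 : Subgroup.zpowers w ⊔ omegaZ s S ≤ Subgroup.centralizer ({a} : Set S) := by
          refine sup_le (Subgroup.zpowers_le.mpr ?_) ?_
          · rw [Subgroup.mem_centralizer_iff]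
            intro h hh
            rw [Set.mem_singleton_iff] at hh
            rw [hh]
            have h2 := hA₀w ha
            rw [Subgroup.mem_centralizer_iff] at h2
            exact (h2 w rfl).symm
          · intro z hz
            rw [Subgroup.mem_centralizer_iff]
            intro h _
            exact hΩc z hz h
        rw [Subgroup.mem_centralizer_iff]
        intro y hy
        have h3 := h1 hy
        rw [Subgroup.mem_centralizer_iff] at h3
        exact (h3 a rfl).symm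
      · -- `Y` meets `Ω₁(Z(S))` trivially
        have hinf : ∀ x ∈ Y, x ∈ omegaZ s S → x = 1 := by
          intro x hxY hxΩ
          have hdvd : Nat.card (omegaZ s S ⊓ Y : Subgroup S) ∣ s := by
            have h0 := Subgroup.card_dvd_of_le (inf_le_left : omegaZ s S ⊓ Y ≤ omegaZ s S)
            rw [hΩ] at h0
            exact h0
          rcases (Nat.dvd_prime hsp).mp hdvd with h | h
          · have h1 : omegaZ s S ⊓ Y = ⊥ := Subgroup.card_eq_one.mp h
            have h2 : x ∈ omegaZ s S ⊓ Y := ⟨hxΩ, hxY⟩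
            rw [h1, Subgroup.mem_bot] at h2
            exact h2
          · exfalso
            have heq : omegaZ s S ⊓ Y = omegaZ s S :=
              Subgroup.eq_of_le_of_card_ge inf_le_left (by rw [h, hΩ])
            exact hΩY (heq ▸ inf_le_right)
        have hYcomm : ∀ a ∈ Y, ∀ b ∈ Y, a * b = b * a := by
          intro a ha b hb
          have hmemY : ⁅a, b⁆ ∈ Y := by
            rw [commutatorElement_def]
            exact Y.mul_mem (Y.mul_mem (Y.mul_mem ha hb) (Y.inv_mem ha)) (Y.inv_mem hb)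
          have h1 : ⁅a, b⁆ = 1 := hinf _ hmemY ((hYW ha).2 b)
          exact commutatorElement_eq_one_iff_mul_comm.mp h1
        have hE3cent : Y ⊔ omegaZ s S ≤
            Subgroup.centralizer ((Y ⊔ omegaZ s S : Subgroup S) : Set S) := by
          refine sup_le ?_ ?_
          · intro y hy
            have h1 : Y ⊔ omegaZ s S ≤ Subgroup.centralizer ({y} : Set S) := by
              refine sup_le ?_ ?_
              · intro b hb
                rw [Subgroup.mem_centralizer_iff]
                intro h hh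
                rw [Set.mem_singleton_iff] at hh
                rw [hh]
                exact hYcomm y hy b hb
              · intro z hz
                rw [Subgroup.mem_centralizer_iff]
                intro h _
                exact hΩc z hz h
            rw [Subgroup.mem_centralizer_iff]
            intro b hb
            have h2 := h1 hb
            rw [Subgroup.mem_centralizer_iff] at h2
            exact (h2 y rfl).symm
          · intro z hz
            rw [Subgroup.mem_centralizer_iff]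
            intro h _
            exact hΩc z hz h
        have hE3card : s ^ 2 < Nat.card (Y ⊔ omegaZ s S : Subgroup S) := by
          have h1 := sq_le_card_of_not_isCyclic hS Y hYnc
          by_contra hcon
          rw [not_lt] at hcon
          have h2 : Y = Y ⊔ omegaZ s S :=
            Subgroup.eq_of_le_of_card_ge le_sup_left (hcon.trans h1)
          exact hΩY (h2 ▸ le_sup_right)
        refine ⟨Y, le_rfl, hYnc, ?_⟩
        refine Cfsg.Agent.Lib.Helper17.BGU.not_pRankLE_of_elemAb (E := Y ⊔ omegaZ s S) ?_ ?_ ?_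
          hE3card
        · exact hE3cent.trans (Subgroup.centralizer_le (by
            intro y hy
            exact le_sup_left (b := omegaZ s S) hy))
        · intro a ha b hb
          have h1 := hE3cent ha
          rw [Subgroup.mem_centralizer_iff] at h1
          exact (h1 b hb).symm
        · intro a ha
          exact ((sup_le hYW (omegaZ_le_host s hodd)) ha).1
  · -- `Ω₁(Z(S))` is the host
    refine ⟨omegaZ s S, inferInstance, hcyc, fun w hw => hw.2, ?_, ?_⟩
    · intro w hw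
      refine ⟨E₀, hE₀c, wide_of E₀ hE₀c hE₀e hE₀card, fun a _ => ?_⟩
      rw [Subgroup.mem_centralizer_iff]
      intro h hh
      rw [Set.mem_singleton_iff] at hh
      rw [hh]
      exact ((Subgroup.mem_center_iff.mp hw.1 a)).symm
    · intro Y hY hYnc
      refine ⟨Y, le_rfl, hYnc, ?_⟩
      refine Cfsg.Agent.Lib.Helper17.BGU.not_pRankLE_of_elemAb (E := E₀) ?_ (comm_of E₀ hE₀c)
        hE₀e hE₀card
      intro a _
      rw [Subgroup.mem_centralizer_iff]
      intro y hy
      exact (Subgroup.mem_center_iff.mp (hY hy).1 a).symm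

end finite

end Cfsg.Agent.Lib.Helper9.BG95Host
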