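/-
helper9: Bender–Glauberman Lemma 12.9(a)–(c) (statement S1424): for `q ∈ σ(M)`, a nontrivial
`q`-subgroup `X ≤ M` and a maximal subgroup `M* ≠ M` containing `N_G(X)`, with `S` a Sylow
`q`-subgroup of `M ∩ M*` containing `X`: `M*` is not conjugate to `M`, `N_G(S) ≤ M`, and `S` is a
Sylow `q`-subgroup of `M*`.  The earlier results B & G 10.1 (S1404), 10.7(d) (S1413) and 12.7 (S1422)
enter as explicit hypotheses.
-/
import Mathlib
import Cfsg.Prelude
import Cfsg.Agent.Lib.Helper1.BGX1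

set_option autoImplicit false
set_option linter.unusedSectionVars false

namespace Cfsg.Agent.Lib.Helper9.BGSigEmb

open Cfsg.Agent.Lib.Helper8 (mem_map_conj conj_mem_map_conj map_conj_map_conj map_conj_one
  map_conj_le_iff map_conj_eq_iff card_map_conj mem_normalizer_iff_map_conj)
open Cfsg.Agent.Lib.Helper17.BGU (exists_coatom_ge normalizer_ne_top lt_inf_normalizer)

variable {G : Type*} [Group G]

/-- Sylow's theorem in a subgroup `L`, for a `q`-subgroup `Q₀` of `L` of index prime to `q`. -/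
theorem exists_conj_le_of_not_dvd_relIndex [Finite G] {q : ℕ} [Fact q.Prime] {Q₀ L R : Subgroup G}
    (hQ₀ : IsPGroup q Q₀) (hidx : ¬ q ∣ Q₀.relIndex L)
    (hR : IsPGroup q R) (hRL : R ≤ L) : ∃ y ∈ L, ∀ r ∈ R, y * r * y⁻¹ ∈ Q₀ := by
  have hQ' : IsPGroup q ↥(Q₀.subgroupOf L) := hQ₀.comap_subtype
  have hR' : IsPGroup q ↥(R.subgroupOf L) := hR.comap_subtype
  have hidx' : ¬ q ∣ (Q₀.subgroupOf L).index := hidx
  obtain ⟨Q₁, hQ₁⟩ := hR'.exists_le_sylow
  obtain ⟨y, hy⟩ := MulAction.exists_smul_eq ↥L Q₁ (hQ'.toSylow hidx')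
  refine ⟨y, y.2, fun r hr => ?_⟩
  have h1 : (⟨r, hRL hr⟩ : L) ∈ (Q₁ : Subgroup L) := hQ₁ (Subgroup.mem_subgroupOf.mpr hr)
  have h2 : y * ⟨r, hRL hr⟩ * y⁻¹ ∈ ((y • Q₁ : Sylow q L) : Subgroup L) := by
    rw [Cfsg.Agent.Lib.Helper1.mem_sylow_smul_iff]
    have e : y⁻¹ * (y * ⟨r, hRL hr⟩ * y⁻¹) * y = ⟨r, hRL hr⟩ := by group
    rw [e]; exact h1
  rw [hy] at h2
  have h3 : y * ⟨r, hRL hr⟩ * y⁻¹ ∈ Q₀.subgroupOf L := (IsPGroup.mem_toSylow hQ' hidx').mp h2
  rw [Subgroup.mem_subgroupOf] at h3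
  simpa using h3

/-- For `q ∈ σ(M)`, every `q`-subgroup of `M` lies in a Sylow `q`-subgroup `P` of `G` with
`P ≤ N_G(P) ≤ M`. -/
theorem exists_sylow_ge_of_mem_sigma [Finite G] {M : Subgroup G} {q : ℕ} [Fact q.Prime]
    (hq : q ∈ Cfsg.sigma M) {Y : Subgroup G} (hY : IsPGroup q Y) (hYM : Y ≤ M) :
    ∃ P : Sylow q G, Y ≤ (P : Subgroup G) ∧ (P : Subgroup G) ≤ M ∧
      Subgroup.normalizer ((P : Subgroup G) : Set G) ≤ M := by
  obtain ⟨P₀, hP₀M, -, hNP₀⟩ := Cfsg.Agent.Lib.Helper1.BGX.exists_sylow_of_mem_sigma hq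
  obtain ⟨m₀, hm₀, hconj⟩ := Cfsg.Agent.Lib.Helper1.BGX.exists_conj_le_sylow_in P₀ hP₀M hY hYM
  refine ⟨m₀⁻¹ • P₀, ?_, ?_, ?_⟩
  · intro y hy
    rw [Cfsg.Agent.Lib.Helper1.mem_sylow_smul_iff, inv_inv]
    exact hconj y hy
  · intro x hx
    rw [Cfsg.Agent.Lib.Helper1.mem_sylow_smul_iff, inv_inv] at hx
    have h1 := hP₀M hx
    have h2 := M.mul_mem (M.mul_mem (M.inv_mem hm₀) h1) hm₀
    have e : m₀⁻¹ * (m₀ * x * m₀⁻¹) * m₀ = x := by group
    rwa [e] at h2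
  · intro n hn
    have h1 : n • (m₀⁻¹ • P₀) = m₀⁻¹ • P₀ := Sylow.smul_eq_iff_mem_normalizer.mpr hn
    have h2 : (m₀ * n * m₀⁻¹) • P₀ = P₀ := by
      have h3 := congrArg (fun Q : Sylow q G => m₀ • Q) h1
      simp only [smul_smul] at h3
      rw [mul_inv_cancel, one_smul] at h3
      rw [← mul_assoc] at h3
      exact h3
    have h4 : m₀ * n * m₀⁻¹ ∈ M := hNP₀ (Sylow.smul_eq_iff_mem_normalizer.mp h2)
    have h5 := M.mul_mem (M.mul_mem (M.inv_mem hm₀) h4) hm₀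
    have e : m₀⁻¹ * (m₀ * n * m₀⁻¹) * m₀ = n := by group
    rwa [e] at h5

/-- **B & G Lemma 12.9(a)–(c)**, with 10.1, 10.7(d) and 12.7 as hypotheses. -/
theorem sigma_embedding [Finite G] (hG : Cfsg.IsMinSimpleOddOrder G)
    (h101 : ∀ (M : Subgroup G), IsCoatom M → ∀ (p : ℕ) [Fact p.Prime], p ∈ Cfsg.sigma M →
      ∀ X : Subgroup G, IsPGroup p X → X ≠ ⊥ → X ≤ M → ∀ g : G,
        X.map (MulAut.conj g).toMonoidHom ≤ M →
        ∃ m ∈ M, ∃ c ∈ Subgroup.centralizer (X : Set G), g = m * c)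
    (h107 : ∀ (p : ℕ) [Fact p.Prime] (P : Sylow p G) (Q : Subgroup G), Q ≤ (P : Subgroup G) →
      ¬ p ∣ ((P : Subgroup G) ⊓ Subgroup.normalizer (Q : Set G)).relIndex
        (Subgroup.normalizer (Q : Set G)))
    (h127 : ∀ (p : ℕ) [Fact p.Prime] (P : Subgroup G), IsPGroup p P → ¬ IsMulCommutative P →
      Cfsg.InUniqueMaximal P)
    (M : Subgroup G) (hM : IsCoatom M) (q : ℕ) [Fact q.Prime] (hq : q ∈ Cfsg.sigma M)
    (X : Subgroup G) (hXq : IsPGroup q X) (hX1 : X ≠ ⊥) (hXM : X ≤ M)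
    (Mstar : Subgroup G) (hMs : IsCoatom Mstar) (hne : Mstar ≠ M)
    (hNX : Subgroup.normalizer (X : Set G) ≤ Mstar)
    (S : Sylow q ↥(M ⊓ Mstar))
    (hXS : X ≤ (S : Subgroup ↥(M ⊓ Mstar)).map (M ⊓ Mstar).subtype) :
    (∀ g : G, Mstar ≠ M.map (MulAut.conj g).toMonoidHom) ∧
      Subgroup.normalizer (((S : Subgroup ↥(M ⊓ Mstar)).map (M ⊓ Mstar).subtype : Subgroup G) :
        Set G) ≤ M ∧
      ¬ q ∣ ((S : Subgroup ↥(M ⊓ Mstar)).map (M ⊓ Mstar).subtype).relIndex Mstar := by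
  classical
  have hsimple : IsSimpleGroup G := hG.2.1
  have hqp : q.Prime := Fact.out
  have hCX : Subgroup.centralizer (X : Set G) ≤ Mstar :=
    (Subgroup.centralizer_le_normalizer _).trans hNX
  have hXMs : X ≤ Mstar := Subgroup.le_normalizer.trans hNX
  -- (a)
  have ha : ∀ g : G, Mstar ≠ M.map (MulAut.conj g).toMonoidHom := by
    intro g hg
    have h1 : X.map (MulAut.conj g⁻¹).toMonoidHom ≤ M := by
      rw [map_conj_le_iff, inv_inv, ← hg]; exact hXMs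
    obtain ⟨m, hm, c, hc, hgmc⟩ := h101 M hM q hq X hXq hX1 hXM g⁻¹ h1
    have hcMs : c ∈ Mstar := hCX hc
    have hg' : g = c⁻¹ * m⁻¹ := by
      rw [← mul_inv_rev, ← hgmc, inv_inv]
    have h2 : M.map (MulAut.conj m⁻¹).toMonoidHom = M :=
      mem_normalizer_iff_map_conj.mp (Subgroup.le_normalizer (M.inv_mem hm))
    have h3 : Mstar.map (MulAut.conj c).toMonoidHom = Mstar :=
      mem_normalizer_iff_map_conj.mp (Subgroup.le_normalizer hcMs)
    apply hne
    rw [hg', ← map_conj_map_conj, h2] at hg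
    rw [← h3, hg, map_conj_map_conj, mul_inv_cancel, map_conj_one]
  obtain ⟨S', hS'def⟩ : ∃ S' : Subgroup G,
      S' = (S : Subgroup ↥(M ⊓ Mstar)).map (M ⊓ Mstar).subtype := ⟨_, rfl⟩
  rw [← hS'def] at hXS ⊢
  have hS'q : IsPGroup q S' := hS'def ▸ S.isPGroup'.map _
  have hS'le : S' ≤ M ⊓ Mstar := hS'def ▸ Subgroup.map_subtype_le _
  have hS'1 : S' ≠ ⊥ := fun h => hX1 (le_bot_iff.mp (h ▸ hXS))
  -- maximality of `S'` among `q`-subgroups of `M ⊓ M*`
  have hmax : ∀ T : Subgroup G, IsPGroup q T → T ≤ M ⊓ Mstar → S' ≤ T → T = S' := by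
    intro T hT hTle hST
    have h1 : (S : Subgroup ↥(M ⊓ Mstar)) ≤ T.subgroupOf (M ⊓ Mstar) := by
      intro x hx
      rw [Subgroup.mem_subgroupOf]
      exact hST (hS'def ▸ ⟨x, hx, rfl⟩)
    have h2 := S.is_maximal' hT.comap_subtype h1
    rw [hS'def, ← h2]
    exact (Subgroup.map_subgroupOf_eq_of_le hTle).symm
  -- a Sylow `q`-subgroup `P` of `G` with `S' ≤ P ≤ M` and `N(P) ≤ M`
  obtain ⟨P, hS'P, hPM, hNP⟩ := exists_sylow_ge_of_mem_sigma hq hS'q (hS'le.trans inf_le_left)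
  have hCS' : Subgroup.centralizer (S' : Set G) ≤ Mstar :=
    (Subgroup.centralizer_le (SetLike.coe_subset_coe.mpr hXS)).trans hCX
  -- `C_P(S') ≤ S'`
  have hCPS : ∀ c ∈ (P : Subgroup G), c ∈ Subgroup.centralizer (S' : Set G) → c ∈ S' := by
    intro c hcP hcC
    have hT : S' ⊔ Subgroup.zpowers c ≤ (P : Subgroup G) :=
      sup_le hS'P (Subgroup.zpowers_le.mpr hcP)
    have hTle : S' ⊔ Subgroup.zpowers c ≤ M ⊓ Mstar :=
      sup_le hS'le (Subgroup.zpowers_le.mpr ⟨hPM hcP, hCS' hcC⟩)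
    have h1 := hmax _ (P.isPGroup'.to_le hT) hTle le_sup_left
    rw [← h1]
    exact le_sup_right (a := S') (Subgroup.mem_zpowers c)
  have hS'top : S' ≠ ⊤ := fun h => hM.1 (top_le_iff.mp (h ▸ (hS'le.trans inf_le_left)))
  have hNS'top : Subgroup.normalizer (S' : Set G) ≠ ⊤ := normalizer_ne_top hS'1 hS'top
  refine ⟨ha, ?_, ?_⟩
  · -- (b)
    by_cases hSP : S' = (P : Subgroup G)
    · rw [hSP]; exact hNP
    · have hlt : S' < (P : Subgroup G) := lt_of_le_of_ne hS'P hSP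
      have hQlt := lt_inf_normalizer P.isPGroup' hlt
      have hQq : IsPGroup q ↥((P : Subgroup G) ⊓ Subgroup.normalizer (S' : Set G)) :=
        P.isPGroup'.to_le inf_le_left
      have hQna : ¬ IsMulCommutative ↥((P : Subgroup G) ⊓ Subgroup.normalizer (S' : Set G)) := by
        intro hc
        apply not_le_of_gt hQlt
        intro x hx
        apply hCPS x hx.1
        rw [Subgroup.mem_centralizer_iff]
        intro s hs
        have h1 := hc.is_comm.comm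
          (⟨s, hQlt.le hs⟩ : ↥((P : Subgroup G) ⊓ Subgroup.normalizer (S' : Set G))) ⟨x, hx⟩
        exact congrArg Subtype.val h1
      obtain ⟨L₀, -, huniq⟩ := h127 q _ hQq hQna
      obtain ⟨L, hL, hNL⟩ := exists_coatom_ge hNS'top
      have h1 := huniq L ⟨hL, inf_le_right.trans hNL⟩
      have h2 := huniq M ⟨hM, inf_le_left.trans hPM⟩
      have h3 : L = M := h1.trans h2.symm
      rw [← h3]
      exact hNL
  · -- (c)
    intro hdvd
    have hS'Ms : S' ≤ Mstar := hS'le.trans inf_le_right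
    obtain ⟨T₀, hT₀⟩ := (hS'q.comap_subtype : IsPGroup q ↥(S'.subgroupOf Mstar)).exists_le_sylow
    have hS'T : S' ≤ (T₀ : Subgroup ↥Mstar).map Mstar.subtype := by
      intro x hx
      exact ⟨⟨x, hS'Ms hx⟩, hT₀ (Subgroup.mem_subgroupOf.mpr hx), rfl⟩
    have hTq : IsPGroup q ↥((T₀ : Subgroup ↥Mstar).map Mstar.subtype) := T₀.isPGroup'.map _
    have hTMs : (T₀ : Subgroup ↥Mstar).map Mstar.subtype ≤ Mstar := Subgroup.map_subtype_le _
    by_cases hST : S' = (T₀ : Subgroup ↥Mstar).map Mstar.subtype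
    · apply T₀.not_dvd_index
      have h1 : S'.subgroupOf Mstar = (T₀ : Subgroup ↥Mstar) := by
        rw [hST]
        ext x
        rw [Subgroup.mem_subgroupOf]
        constructor
        · rintro ⟨y, hy, hyx⟩
          have : y = x := Subtype.ext hyx
          exact this ▸ hy
        · intro hx
          exact ⟨x, hx, rfl⟩
      have h2 : S'.relIndex Mstar = (T₀ : Subgroup ↥Mstar).index := by
        rw [← h1]; rfl
      rwa [h2] at hdvd
    · have hlt : S' < (T₀ : Subgroup ↥Mstar).map Mstar.subtype := lt_of_le_of_ne hS'T hST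
      have hRlt := lt_inf_normalizer hTq hlt
      obtain ⟨R, hRdef⟩ : ∃ R : Subgroup G, R = (T₀ : Subgroup ↥Mstar).map Mstar.subtype ⊓
          Subgroup.normalizer (S' : Set G) := ⟨_, rfl⟩
      rw [← hRdef] at hRlt
      have hRq : IsPGroup q R := hRdef ▸ hTq.to_le inf_le_left
      have hRN : R ≤ Subgroup.normalizer (S' : Set G) := hRdef ▸ inf_le_right
      have hRMs : R ≤ Mstar := hRdef ▸ inf_le_left.trans hTMs
      obtain ⟨y, hyN, hy⟩ := exists_conj_le_of_not_dvd_relIndex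
        (P.isPGroup'.to_le (inf_le_left : (P : Subgroup G) ⊓ Subgroup.normalizer (S' : Set G) ≤ P))
        (h107 q P S' hS'P) hRq hRN
      have h1 : S'.map (MulAut.conj y).toMonoidHom ≤ M := by
        rw [mem_normalizer_iff_map_conj.mp hyN]; exact hS'le.trans inf_le_left
      obtain ⟨m, hm, c, hc, hymc⟩ := h101 M hM q hq S' hS'q hS'1 (hS'le.trans inf_le_left) y h1
      have hcMs : c ∈ Mstar := hCS' hc
      have hR'M : R.map (MulAut.conj c).toMonoidHom ≤ M ⊓ Mstar := by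
        rintro _ ⟨r, hr, rfl⟩
        show c * r * c⁻¹ ∈ M ⊓ Mstar
        refine ⟨?_, Mstar.mul_mem (Mstar.mul_mem hcMs (hRMs hr)) (Mstar.inv_mem hcMs)⟩
        have h2 : y * r * y⁻¹ ∈ M := hPM (hy r hr).1
        have h3 := M.mul_mem (M.mul_mem (M.inv_mem hm) h2) hm
        have e : m⁻¹ * (y * r * y⁻¹) * m = c * r * c⁻¹ := by rw [hymc]; group
        rwa [e] at h3
      have hS'R' : S' ≤ R.map (MulAut.conj c).toMonoidHom := by
        intro s hs
        refine ⟨s, hRlt.le hs, ?_⟩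
        show c * s * c⁻¹ = s
        rw [Subgroup.mem_centralizer_iff] at hc
        rw [← hc s hs, mul_inv_cancel_right]
      have h4 := hmax _ (hRq.map _) hR'M hS'R'
      have h5 : Nat.card R = Nat.card S' := by
        rw [← h4, card_map_conj]
      have h6 : R = S' := (Subgroup.eq_of_le_of_card_ge hRlt.le (le_of_eq h5)).symm
      exact (ne_of_gt hRlt) h6

end Cfsg.Agent.Lib.Helper9.BGSigEmb
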