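/-
helper9: pieces (G2), (2f), (2g) of notes/bg95/PROOF.md (proof of S1402, Bender–Glauberman 9.5):
in a minimal simple group of odd order with `A ∈ SCN_3(P)`, for a maximal subgroup `H ≥ A` with
`O_s(H)` wide (`s ≠ p`), wide `s`-subgroups of `H` determine `H`, and `K = O_{p'}(C_G(A)) ≤ H`, then
all `A`-invariant `s`-subgroups lie in `H`, and so do the normalizers of the maximal ones and of all
`p`-subgroups containing `A`.
-/
import Mathlib
import Cfsg.Agent.Lib.Helper17.BGFitF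
import Cfsg.Agent.Lib.Helper17.BG95TypeI

set_option autoImplicit false
set_option linter.unusedSectionVars false
open scoped Pointwise

namespace Cfsg.Agent.Lib.Helper9.BG95Inv

open Cfsg.Agent.Lib.Helper17 Cfsg.Agent.Lib.Helper17.BGU

variable {G : Type*} [Group G]

/-- (G2) from (G1): if abelian wide `s`-subgroups are uniqueness subgroups, a wide `s`-subgroup of
the maximal subgroup `H` lies in no other maximal subgroup. -/
theorem wide_uniq_of_ab_uniq {s : ℕ} {H : Subgroup G}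
    (hab : ∀ B : Subgroup G, IsPGroup s B → IsMulCommutative B → ¬ Cfsg.PRankLE s 2 ↥B →
      Cfsg.InUniqueMaximal B)
    (hH : IsCoatom H) (R : Subgroup G) (hR : IsPGroup s R) (hRw : ¬ Cfsg.PRankLE s 2 ↥R)
    (hRH : R ≤ H) (M : Subgroup G) (hM : IsCoatom M) (hRM : R ≤ M) : M = H := by
  obtain ⟨E₀, hE₀R, hE₀c, hE₀e, hE₀card⟩ := exists_elemAb_of_not_pRankLE hRw
  have hE₀w : ¬ Cfsg.PRankLE s 2 ↥E₀ := not_pRankLE_of_elemAb le_rfl hE₀c hE₀e hE₀card
  have hE₀mc : IsMulCommutative ↥E₀ := ⟨⟨fun a b => Subtype.ext (hE₀c a a.2 b b.2)⟩⟩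
  obtain ⟨M₀, -, huniq⟩ := hab E₀ (hR.to_le hE₀R) hE₀mc hE₀w
  have h1 := huniq M ⟨hM, hE₀R.trans hRM⟩
  have h2 := huniq H ⟨hH, hE₀R.trans hRH⟩
  rw [h1, h2]

/-- A `q`-subgroup of a nonabelian simple group is proper. -/
theorem ne_top_of_isPGroup [Finite G] [IsSimpleGroup G] (hnc : ¬ IsMulCommutative G) {q : ℕ}
    [Fact q.Prime] {Q : Subgroup G} (hQ : IsPGroup q Q) : Q ≠ ⊤ := by
  intro h
  have hG' : IsPGroup q G := by
    intro g
    obtain ⟨k, hk⟩ := hQ ⟨g, h ▸ Subgroup.mem_top g⟩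
    exact ⟨k, by simpa using congrArg Subtype.val hk⟩
  have hnil : Group.IsNilpotent G := hG'.isNilpotent
  have hsol : Group.IsSolvable G := inferInstance
  exact hnc ⟨⟨IsSimpleGroup.comm_iff_isSolvable.mpr hsol⟩⟩

/-- Steps (2f) and (2g) of notes/bg95/PROOF.md. -/
theorem inv_facts [Finite G] (hG : Cfsg.IsMinSimpleOddOrder G) (p : ℕ) [Fact p.Prime]
    (P : Sylow p G) (A : Subgroup G) (hA : Cfsg.IsSCN (P : Subgroup G) A)
    (hA3 : ¬ Cfsg.PRankLE p 2 ↥A) {H : Subgroup G} (hH : IsCoatom H) (hAH : A ≤ H) {s : ℕ}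
    (hs : s.Prime) (hsp : s ≠ p) (hSw : ¬ Cfsg.PRankLE s 2 ↥(Cfsg.pCoreOf s H))
    (hwide : ∀ R : Subgroup G, IsPGroup s R → ¬ Cfsg.PRankLE s 2 ↥R → R ≤ H →
      ∀ M : Subgroup G, IsCoatom M → R ≤ M → M = H)
    (hcent : ∀ Y : Subgroup G, (Nat.card Y).Coprime p → Y ≤ Subgroup.centralizer (A : Set G) →
      Y ≤ H) :
    (∀ T ∈ Cfsg.maxInvSubgroups ⊤ A {s}, T ≤ H ∧ Subgroup.normalizer (T : Set G) ≤ H) ∧
    (∀ T : Subgroup G, IsPGroup s T → A ≤ Subgroup.normalizer (T : Set G) → T ≤ H) ∧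
    (∀ Q : Subgroup G, IsPGroup p Q → A ≤ Q → Subgroup.normalizer (Q : Set G) ≤ H) := by
  have hsimple : IsSimpleGroup G := hG.2.1
  have hnc := hG.2.2.1
  have hpp : p.Prime := Fact.out
  have hsF : Fact s.Prime := ⟨hs⟩
  obtain ⟨hAp, hAne, hpA, hAtr, hZ⟩ := scn_three_facts hG P hA hA3
  obtain ⟨kA, hkA⟩ := IsPGroup.iff_card.mp hAp
  have hsA : ¬ s ∣ Nat.card A := by
    rw [hkA]
    intro h
    exact hsp ((Nat.prime_dvd_prime_iff_eq hs hpp).mp (hs.dvd_of_dvd_pow h))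
  have htr := Cfsg.Agent.S1393.result hG A hAtr hZ s hs hsA
  have hcop : ∀ X : Subgroup G,
      (Nat.card (Cfsg.piCoreOf (Cfsg.primesNotDvd (Nat.card A)) X)).Coprime p := fun X =>
    (Nat.Coprime.coprime_dvd_left hpA (coprime_card_piCoreOf A X)).symm
  have hK : Cfsg.piCoreOf (Cfsg.primesNotDvd (Nat.card A)) (Subgroup.centralizer (A : Set G)) ≤ H :=
    hcent _ (hcop _) (piCoreOf_le _)
  -- `S = O_s(H)` and a maximal `A`-invariant `s`-subgroup `S*` containing it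
  have hSs : IsPGroup s (Cfsg.pCoreOf s H) := PrimeAct.pCoreOf_isPGroup s H
  have hSH : Cfsg.pCoreOf s H ≤ H := PrimeAct.pCoreOf_le s H
  have hAS : A ≤ Subgroup.normalizer ((Cfsg.pCoreOf s H : Subgroup G) : Set G) :=
    hAH.trans (le_normalizer_pCoreOf s H)
  obtain ⟨Sst, hSst, hSSst⟩ := exists_maxInv_ge ((mem_invq_iff hs).mpr ⟨hSs, hAS⟩)
  have hSsts : IsPGroup s Sst := ((mem_invq_iff hs).mp hSst.1).1
  have hSstw : ¬ Cfsg.PRankLE s 2 ↥Sst := fun h =>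
    hSw (pRankLE_of_le hSSst h)
  have hSstH : Sst ≤ H := by
    obtain ⟨M, hM, hSstM⟩ := exists_coatom_ge (ne_top_of_isPGroup hnc hSsts)
    have h1 := hwide (Cfsg.pCoreOf s H) hSs hSw hSH M hM (hSSst.trans hSstM)
    exact h1 ▸ hSstM
  have hSstne : Sst ≠ ⊥ := by
    rintro rfl
    apply hSstw
    intro B _ _
    have h1 : Nat.card ↥B = 1 := by
      have : Subsingleton ↥(⊥ : Subgroup G) := inferInstance
      have : Subsingleton ↥B := inferInstance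
      exact Nat.card_unique
    rw [h1]
    exact Nat.one_le_pow _ _ hs.pos
  have hNSst : Subgroup.normalizer (Sst : Set G) ≤ H := by
    obtain ⟨M, hM, hNM⟩ := exists_coatom_ge
      (normalizer_ne_top hSstne (ne_top_of_isPGroup hnc hSsts))
    have h1 := hwide Sst hSsts hSstw hSstH M hM (Subgroup.le_normalizer.trans hNM)
    exact h1 ▸ hNM
  have h1 : ∀ T ∈ Cfsg.maxInvSubgroups ⊤ A {s},
      T ≤ H ∧ Subgroup.normalizer (T : Set G) ≤ H := by
    intro T hT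
    obtain ⟨k, hk, rfl⟩ := htr Sst hSst T hT
    have hkH : k ∈ H := hK hk
    constructor
    · rintro _ ⟨x, hx, rfl⟩
      show k * x * k⁻¹ ∈ H
      exact H.mul_mem (H.mul_mem hkH (hSstH hx)) (H.inv_mem hkH)
    · rw [← Subgroup.map_equiv_normalizer_eq Sst (MulAut.conj k)]
      rintro _ ⟨x, hx, rfl⟩
      show k * x * k⁻¹ ∈ H
      exact H.mul_mem (H.mul_mem hkH (hNSst hx)) (H.inv_mem hkH)
  have h2 : ∀ T : Subgroup G, IsPGroup s T → A ≤ Subgroup.normalizer (T : Set G) → T ≤ H := by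
    intro T hTs hAT
    obtain ⟨Q, hQ, hTQ⟩ := exists_maxInv_ge ((mem_invq_iff hs).mpr ⟨hTs, hAT⟩)
    exact hTQ.trans (h1 Q hQ).1
  refine ⟨h1, h2, ?_⟩
  intro Q hQp hAQ
  have hQtop : Q ≠ ⊤ := ne_top_of_isPGroup hnc hQp
  have hQπ : ∀ r : ℕ, r.Prime → r ∣ Nat.card Q → r ∣ Nat.card A := by
    intro r hr hrQ
    obtain ⟨kQ, hkQ⟩ := IsPGroup.iff_card.mp hQp
    rw [hkQ] at hrQ
    have h3 : r = p := (Nat.prime_dvd_prime_iff_eq hr hpp).mp (hr.dvd_of_dvd_pow hrQ)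
    rw [h3]; exact hpA
  have hsn : (A.subgroupOf Q).IsSubnormal := by
    have : Group.IsNilpotent ↥Q := hQp.isNilpotent
    exact isSubnormal_of_isNilpotent _ _ rfl
  have h95 := Cfsg.Agent.S1395.result hG A hAtr s hs hsA Q hQtop hQπ hAQ hsn htr
  obtain ⟨Q', hQ', -⟩ := exists_maxInv_ge (A := Q) (T := ⊥) (π := {s})
    ((mem_invq_iff hs).mpr ⟨IsPGroup.of_bot, by
      intro a _
      rw [Subgroup.mem_normalizer_iff]
      intro x
      simp [Subgroup.mem_bot]⟩)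
  have hQ'A : Q' ∈ Cfsg.maxInvSubgroups ⊤ A {s} := h95.2.2.1 hQ'
  have hd := (h95.2.2.2 Q' hQ').2
  rw [hd]
  refine sup_le ?_ (inf_le_right.trans (h1 Q' hQ'A).2)
  exact hcent _ (hcop _) ((piCoreOf_le _).trans
    (Subgroup.centralizer_le (SetLike.coe_subset_coe.mpr hAQ)))

end Cfsg.Agent.Lib.Helper9.BG95Inv
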