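/-
helper9: in a `p`-group `R` (`p` odd) of rank at least 3, a subgroup `Y` of order `p` has a
centralizer of rank at least 3, provided `Y ≤ R'` or every elementary abelian subgroup of order `p^2`
is contained in a larger one.  (Used for B & G Lemma 12.8, S1423.)
-/
import Mathlib
import Cfsg.Prelude
import Cfsg.Agent.S1452
import Cfsg.Agent.S1453
import Cfsg.Agent.Lib.Helper4.ElemAb
import Cfsg.Agent.Lib.Helper4.Basic

set_option autoImplicit false
set_option linter.unusedSectionVars false
set_option linter.style.haveILetI false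

namespace Cfsg.Agent.Lib.Helper9.BGCentRank

open Subgroup
open Cfsg.Agent.Lib.Helper4 (elemAb_comm elemAb_of_comm elemAb_sup elemAb_map elemAb_zpowers)

variable {R : Type*} [Group R]

theorem closure_normal_of_conj_invariant {s : Set R} (h : ∀ g x, x ∈ s → g * x * g⁻¹ ∈ s) :
    (closure s).Normal := by
  refine ⟨fun n hn g => ?_⟩
  induction hn using Subgroup.closure_induction with
  | mem x hx => exact subset_closure (h g x hx)
  | one => simp
  | mul a b _ _ iha ihb =>
    have : g * (a * b) * g⁻¹ = (g * a * g⁻¹) * (g * b * g⁻¹) := by group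
    rw [this]; exact (closure s).mul_mem iha ihb
  | inv a _ iha =>
    have : g * a⁻¹ * g⁻¹ = (g * a * g⁻¹)⁻¹ := by group
    rw [this]; exact (closure s).inv_mem iha

/-- A subgroup of prime order is elementary abelian. -/
theorem elemAb_of_card_prime {p : ℕ} [Fact p.Prime] {Y : Subgroup R} (hY : Nat.card Y = p) :
    Cfsg.IsElementaryAbelian p Y := by
  haveI : IsCyclic Y := isCyclic_of_prime_card hY
  apply elemAb_of_comm
  · intro x hx y hy
    have := (IsCyclic.commGroup (α := Y)).mul_comm ⟨x, hx⟩ ⟨y, hy⟩
    exact congrArg (fun t : Y => (t : R)) this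
  · intro a ha
    have hfin : Finite Y := Nat.finite_of_card_ne_zero (hY ▸ (Fact.out : p.Prime).ne_zero)
    have h1 : (⟨a, ha⟩ : Y) ^ Nat.card Y = 1 := pow_card_eq_one'
    rw [hY] at h1
    exact congrArg (fun t : Y => (t : R)) h1

/-- A subgroup of prime order not contained in `W` meets `W` trivially. -/
theorem inf_eq_bot_of_card_prime {p : ℕ} [Fact p.Prime] {Y W : Subgroup R} (hY : Nat.card Y = p)
    (h : ¬ Y ≤ W) : Y ⊓ W = ⊥ := by
  have hpp : p.Prime := Fact.out
  have hfin : Finite Y := Nat.finite_of_card_ne_zero (hY ▸ hpp.ne_zero)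
  by_contra hne
  have hd : Nat.card ↥(Y ⊓ W) ∣ p := hY ▸ Subgroup.card_dvd_of_le inf_le_left
  rcases (Nat.dvd_prime hpp).mp hd with h1 | h1
  · exact hne (Subgroup.card_eq_one.mp h1)
  · have : Y ⊓ W = Y := Subgroup.eq_of_le_of_card_ge inf_le_left (by rw [h1, hY])
    exact h (this ▸ inf_le_right)

theorem exists_elemAb_centralizer [Finite R] (p : ℕ) [Fact p.Prime] (hp : p ≠ 2)
    (hR : IsPGroup p R) (hr : ¬ Cfsg.PRankLE p 2 R) (Y : Subgroup R) (hY : Nat.card Y = p)
    (h : Y ≤ commutator R ∨ ∀ A : Subgroup R, Cfsg.IsElementaryAbelian p A → Nat.card A = p ^ 2 →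
      ∃ B : Subgroup R, Cfsg.IsElementaryAbelian p B ∧ A < B) :
    ∃ B : Subgroup R, Cfsg.IsElementaryAbelian p B ∧ p ^ 2 < Nat.card B ∧
      B ≤ centralizer (Y : Set R) := by
  have hpp : p.Prime := Fact.out
  have hYel : Cfsg.IsElementaryAbelian p Y := elemAb_of_card_prime hY
  -- a big elementary abelian subgroup
  obtain ⟨B₀, hB₀c, hB₀p, hB₀⟩ : ∃ B₀ : Subgroup R, IsMulCommutative B₀ ∧ (∀ a ∈ B₀, a ^ p = 1) ∧
      p ^ 2 < Nat.card B₀ := by
    unfold Cfsg.PRankLE at hr
    push Not at hr
    exact hr
  by_cases hext : ∀ A : Subgroup R, Cfsg.IsElementaryAbelian p A → Nat.card A = p ^ 2 →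
      ∃ B : Subgroup R, Cfsg.IsElementaryAbelian p B ∧ A < B
  · -- the ideal case
    by_cases hYZ : Y ≤ center R
    · refine ⟨B₀, ⟨hB₀c, hB₀p⟩, hB₀, ?_⟩
      intro b _
      rw [Subgroup.mem_centralizer_iff]
      intro y hy
      exact (Subgroup.mem_center_iff.mp (hYZ hy) b).symm
    · -- a central element of order `p`
      haveI : Nontrivial R := by
        by_contra hnt
        rw [not_nontrivial_iff_subsingleton] at hnt
        apply hYZ
        intro y _
        have : y = 1 := Subsingleton.elim _ _
        rw [this]; exact one_mem _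
      haveI := hR.center_nontrivial
      have hpc : p ∣ Nat.card (center R) := by
        obtain ⟨k, hk⟩ := IsPGroup.iff_card.mp (hR.to_subgroup (center R))
        have hk0 : k ≠ 0 := by
          rintro rfl
          rw [pow_zero] at hk
          have := (Subgroup.card_eq_one.mp hk)
          exact (Subgroup.nontrivial_iff_ne_bot _).mp inferInstance this
        rw [hk]; exact dvd_pow_self p hk0
      obtain ⟨z, hz⟩ := exists_prime_orderOf_dvd_card' p hpc
      have hzp : (z : R) ^ p = 1 := by
        have := pow_orderOf_eq_one z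
        rw [hz] at this
        exact congrArg (fun t : center R => (t : R)) this
      have hzo : orderOf (z : R) = p := by
        rw [Subgroup.orderOf_coe]; exact hz
      have hzcen : ∀ x : R, x * (z : R) = (z : R) * x := fun x =>
        (Subgroup.mem_center_iff.mp z.2 x)
      have hZel : Cfsg.IsElementaryAbelian p (zpowers (z : R)) := elemAb_zpowers hzp
      have hZcard : Nat.card (zpowers (z : R)) = p := by rw [Nat.card_zpowers, hzo]
      have hZcen : zpowers (z : R) ≤ center R := by
        rw [zpowers_le]; exact z.2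
      set A := Y ⊔ zpowers (z : R) with hA
      have hAel : Cfsg.IsElementaryAbelian p A := by
        apply elemAb_sup hYel hZel
        intro a _ b hb
        exact (Subgroup.mem_center_iff.mp (hZcen hb) a)
      have hinf : Y ⊓ zpowers (z : R) = ⊥ := by
        apply inf_eq_bot_of_card_prime hY
        intro hle
        have : Y = zpowers (z : R) := Subgroup.eq_of_le_of_card_ge hle (by rw [hY, hZcard])
        exact hYZ (this ▸ hZcen)
      have hAcard : Nat.card A = p ^ 2 := by
        have hn : Y ≤ normalizer ((zpowers (z : R) : Subgroup R) : Set R) := by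
          intro y _
          rw [Subgroup.mem_normalizer_iff]
          intro x
          constructor
          · intro hx
            have e : y * x * y⁻¹ = x := by
              rw [(Subgroup.mem_center_iff.mp (hZcen hx) y)]; group
            rw [e]; exact hx
          · intro hx
            have h1 := Subgroup.mem_center_iff.mp (hZcen hx) y⁻¹
            have e : x = y * x * y⁻¹ := by
              have : y⁻¹ * (y * x * y⁻¹) * y = (y * x * y⁻¹) := by
                rw [h1]; group
              have e2 : y⁻¹ * (y * x * y⁻¹) * y = x := by group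
              exact e2.symm.trans this
            rw [e]; exact hx
        have := Cfsg.Agent.Lib.Helper4.card_sup_mul_card_inf Y (zpowers (z : R)) hn
        rw [hinf, Subgroup.card_bot, mul_one, hY, hZcard] at this
        rw [this]; ring
      obtain ⟨B, hBel, hAB⟩ := hext A hAel hAcard
      refine ⟨B, hBel, ?_, ?_⟩
      · rw [← hAcard]
        by_contra hle
        push Not at hle
        have : A = B := Subgroup.eq_of_le_of_card_ge hAB.le hle
        exact hAB.ne this
      · intro b hb
        rw [Subgroup.mem_centralizer_iff]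
        intro y hy
        exact elemAb_comm hBel y (hAB.le (le_sup_left (a := Y) hy)) b hb
  · -- the narrow case
    have hYc : Y ≤ commutator R := h.resolve_right hext
    push Not at hext
    obtain ⟨E, hEel, hEcard, hEmax⟩ := hext
    have hEmax' : ∀ B : Subgroup R, Cfsg.IsElementaryAbelian p B → E ≤ B → B = E := by
      intro B hB hEB
      by_contra hne
      exact hEmax B hB (lt_of_le_of_ne hEB (fun h => hne h.symm))
    obtain ⟨-, -, ⟨hWel, hWcard⟩, hTchar, hTidx⟩ :=
      Cfsg.Agent.S1453.result p hp hR hr E hEel hEcard hEmax'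
    set W : Subgroup R := Subgroup.closure {x : R | x ∈ Subgroup.upperCentralSeries R 2 ∧ x ^ p = 1} with hW
    haveI hWn : W.Normal := by
      apply closure_normal_of_conj_invariant
      rintro g x ⟨hx2, hxp⟩
      refine ⟨(inferInstance : (Subgroup.upperCentralSeries R 2).Normal).conj_mem x hx2 g, ?_⟩
      rw [conj_pow, hxp]; simp
    obtain ⟨A₁, hWA₁, hA₁n, hA₁c, hA₁r⟩ := Cfsg.Agent.S1452.result p hp hR hr W hWel hWcard
    -- `A₁` is abelian
    have hA₁comm : ∀ a ∈ A₁, ∀ b ∈ A₁, a * b = b * a := by
      intro a ha b hb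
      have : a ∈ centralizer (A₁ : Set R) := by rw [hA₁c]; exact ha
      exact (Subgroup.mem_centralizer_iff.mp this b hb).symm
    -- a big elementary abelian subgroup of `A₁`
    obtain ⟨B', hB'c, hB'p, hB'⟩ : ∃ B' : Subgroup ↥A₁, IsMulCommutative B' ∧
        (∀ a ∈ B', a ^ p = 1) ∧ p ^ 2 < Nat.card B' := by
      unfold Cfsg.PRankLE at hA₁r
      push Not at hA₁r
      exact hA₁r
    set B₁ : Subgroup R := B'.map A₁.subtype with hB₁
    have hB₁A₁ : B₁ ≤ A₁ := Subgroup.map_subtype_le _
    have hB₁el : Cfsg.IsElementaryAbelian p B₁ := elemAb_map A₁.subtype ⟨hB'c, hB'p⟩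
    have hB₁card : Nat.card B₁ = Nat.card B' :=
      Subgroup.card_map_of_injective A₁.subtype_injective
    -- `R' ≤ T = C_R(W)`
    set T₁ : Subgroup R := centralizer (W : Set R) with hT₁
    haveI : T₁.Characteristic := hTchar
    haveI hT₁n : T₁.Normal := Subgroup.normal_of_characteristic T₁
    have hcomT : commutator R ≤ T₁ := by
      have hcq : Nat.card (R ⧸ T₁) = p := by rw [← Subgroup.index_eq_card]; exact hTidx
      haveI : IsCyclic (R ⧸ T₁) := isCyclic_of_prime_card hcq
      letI : CommGroup (R ⧸ T₁) := IsCyclic.commGroup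
      have := Abelianization.commutator_subset_ker (QuotientGroup.mk' T₁)
      rwa [QuotientGroup.ker_mk'] at this
    have hYT : Y ≤ T₁ := hYc.trans hcomT
    have hYW : ∀ y ∈ Y, ∀ w ∈ W, y * w = w * y := fun y hy w hw =>
      (Subgroup.mem_centralizer_iff.mp (hYT hy) w hw).symm
    by_cases hYleW : Y ≤ W
    · refine ⟨B₁, hB₁el, by rw [hB₁card]; exact hB', ?_⟩
      intro b hb
      rw [Subgroup.mem_centralizer_iff]
      intro y hy
      exact hA₁comm y (hWA₁ (hYleW hy)) b (hB₁A₁ hb)
    · have hinf : Y ⊓ W = ⊥ := inf_eq_bot_of_card_prime hY hYleW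
      have hBel : Cfsg.IsElementaryAbelian p (Y ⊔ W) := elemAb_sup hYel hWel hYW
      have hcard : Nat.card ↥(Y ⊔ W) = p ^ 3 := by
        have hn : Y ≤ normalizer ((W : Subgroup R) : Set R) := by
          rw [Subgroup.normalizer_eq_top_iff.mpr hWn]; exact le_top
        have := Cfsg.Agent.Lib.Helper4.card_sup_mul_card_inf Y W hn
        rw [hinf, Subgroup.card_bot, mul_one, hY, hWcard] at this
        rw [this]; ring
      refine ⟨Y ⊔ W, hBel, ?_, ?_⟩
      · rw [hcard]; exact Nat.pow_lt_pow_right hpp.one_lt (by norm_num)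
      · intro b hb
        rw [Subgroup.mem_centralizer_iff]
        intro y hy
        exact elemAb_comm hBel y (le_sup_left (a := Y) hy) b hb

end Cfsg.Agent.Lib.Helper9.BGCentRank
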