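/-
helper9: generic group-theoretic lemmas for Bender–Glauberman Theorem 12.7 (S1422):
* generation by centralizers for a `p`-group `R` acting on a `p'`-group `K` through the noncyclic
  abelian quotient `R/Z`, `Z` central and acting trivially (via S0058 in a quotient group);
* the centre and the commutators of a nonabelian group of order `p^3`;
* the noncentral points of `⟨u⟩ × Z` are conjugates of `⟨u⟩`.
-/
import Mathlib
import Cfsg.Prelude
import Cfsg.Agent.S0058
import Cfsg.Agent.Lib.Helper8.Layer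
import Cfsg.Agent.Lib.Helper8.Conj
import Cfsg.Agent.Lib.Helper4.Basic

set_option autoImplicit false
set_option linter.unusedSectionVars false
set_option linter.style.haveILetI false

namespace Cfsg.Agent.Lib.Helper9.BGNonab

open Subgroup

variable {G : Type*} [Group G]

/-- **Generation through a central quotient.**  `R` a `p`-group normalizing the `p'`-group `K`,
`Z ≤ Z(R)` centralizing `K`, `R/Z` abelian, `R` nonabelian.  If `C_K(u) ≤ L` for all `u ∈ R ∖ Z`
and `Z ≤ L`, then `K ≤ L`. -/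
theorem le_of_central_quot_generation [Finite G] {p : ℕ} [Fact p.Prime]
    {K R Z L : Subgroup G} (hR : IsPGroup p R) (hK : (Nat.card K).Coprime p)
    (hRK : R ≤ normalizer (K : Set G)) (hZR : Z ≤ R)
    (hZc : ∀ z ∈ Z, ∀ r ∈ R, z * r = r * z) (hZK : ∀ z ∈ Z, ∀ k ∈ K, z * k = k * z)
    (hcomm : ∀ a ∈ R, ∀ b ∈ R, a * b * a⁻¹ * b⁻¹ ∈ Z)
    (hnab : ¬ ∀ a ∈ R, ∀ b ∈ R, a * b = b * a)
    (hZL : Z ≤ L) (h : ∀ u ∈ R, u ∉ Z → K ⊓ centralizer {u} ≤ L) : K ≤ L := by
  have hpp : p.Prime := Fact.out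
  set N : Subgroup G := K ⊔ R with hN
  have hKN : K ≤ N := le_sup_left
  have hRN : R ≤ N := le_sup_right
  have hZN : Z ≤ N := hZR.trans hRN
  -- `Z` is central in `N`
  have hNc : N ≤ centralizer (Z : Set G) := by
    refine sup_le ?_ ?_
    · intro k hk
      rw [Subgroup.mem_centralizer_iff]
      intro z hz
      exact hZK z hz k hk
    · intro r hr
      rw [Subgroup.mem_centralizer_iff]
      intro z hz
      exact hZc z hz r hr
  have hZcen : ∀ z ∈ Z, ∀ n ∈ N, z * n = n * z := by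
    intro z hz n hn
    exact Subgroup.mem_centralizer_iff.mp (hNc hn) z hz
  set Z' : Subgroup ↥N := Z.subgroupOf N with hZ'
  haveI hZ'n : Z'.Normal := by
    refine ⟨fun z hz n => ?_⟩
    rw [hZ', mem_subgroupOf] at hz ⊢
    have h1 := hZcen (z : G) hz (n : G) n.2
    have : ((n * z * n⁻¹ : ↥N) : G) = (z : G) := by
      push_cast
      rw [← h1]; group
    rw [this]; exact hz
  let π : ↥N →* ↥N ⧸ Z' := QuotientGroup.mk' Z'
  have hπ : ∀ a b : ↥N, π a = π b ↔ ((a : G)⁻¹ * (b : G)) ∈ Z := by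
    intro a b
    show (QuotientGroup.mk a : ↥N ⧸ Z') = QuotientGroup.mk b ↔ _
    rw [QuotientGroup.eq, hZ', mem_subgroupOf]
    simp
  set A' : Subgroup (↥N ⧸ Z') := (R.subgroupOf N).map π with hA'
  set K' : Subgroup (↥N ⧸ Z') := (K.subgroupOf N).map π with hK'
  set L' : Subgroup (↥N ⧸ Z') := (L.subgroupOf N).map π with hL'
  -- `A'` is commutative
  haveI hA'c : IsMulCommutative A' := by
    refine ⟨⟨?_⟩⟩
    rintro ⟨x, a, ha, rfl⟩ ⟨y, b, hb, rfl⟩
    apply Subtype.ext
    show π a * π b = π b * π a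
    rw [← map_mul, ← map_mul, hπ]
    replace ha : (a : G) ∈ R := ha
    replace hb : (b : G) ∈ R := hb
    have := hcomm _ (R.inv_mem hb) _ (R.inv_mem ha)
    have e : ((a * b : ↥N) : G)⁻¹ * ((b * a : ↥N) : G) = (b : G)⁻¹ * (a : G)⁻¹ * (b : G)⁻¹⁻¹ * (a : G)⁻¹⁻¹ := by
      push_cast; group
    rw [e]; exact this
  -- `A'` is not cyclic
  have hA'nc : ¬ IsCyclic A' := by
    intro hcyc
    obtain ⟨⟨g', g, hg, rfl⟩, hgen⟩ := hcyc.exists_generator
    replace hg : (g : G) ∈ R := hg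
    apply hnab
    have key : ∀ r ∈ R, ∃ i : ℤ, ∃ z ∈ Z, r = (g : G) ^ i * z := by
      intro r hr
      have hr' : π ⟨r, hRN hr⟩ ∈ A' := ⟨⟨r, hRN hr⟩, mem_subgroupOf.mpr hr, rfl⟩
      obtain ⟨i, hi⟩ := Subgroup.mem_zpowers_iff.mp (hgen ⟨_, hr'⟩)
      have hi' : π (g ^ i) = π ⟨r, hRN hr⟩ := by
        have := congrArg Subtype.val hi
        simpa using this
      rw [hπ] at hi'
      refine ⟨i, _, hi', ?_⟩
      push_cast
      group
    intro a ha b hb
    obtain ⟨i, z, hz, rfl⟩ := key a ha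
    obtain ⟨j, w, hw, rfl⟩ := key b hb
    have hgi : (g : G) ^ i ∈ R := R.zpow_mem hg i
    have hgj : (g : G) ^ j ∈ R := R.zpow_mem hg j
    have c1 : z * (g : G) ^ j = (g : G) ^ j * z := hZc z hz _ hgj
    have c2 : w * (g : G) ^ i = (g : G) ^ i * w := hZc w hw _ hgi
    have c3 : z * w = w * z := hZc z hz w (hZR hw)
    have c4 : (g : G) ^ i * (g : G) ^ j = (g : G) ^ j * (g : G) ^ i := by
      rw [← zpow_add, ← zpow_add, add_comm]
    calc (g : G) ^ i * z * ((g : G) ^ j * w) = (g : G) ^ i * (z * (g : G) ^ j) * w := by group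
      _ = (g : G) ^ i * ((g : G) ^ j * z) * w := by rw [c1]
      _ = ((g : G) ^ i * (g : G) ^ j) * (z * w) := by group
      _ = ((g : G) ^ j * (g : G) ^ i) * (w * z) := by rw [c4, c3]
      _ = (g : G) ^ j * ((g : G) ^ i * w) * z := by group
      _ = (g : G) ^ j * (w * (g : G) ^ i) * z := by rw [c2]
      _ = (g : G) ^ j * w * ((g : G) ^ i * z) := by group
  -- `A'` normalizes `K'`
  have hA'K' : A' ≤ normalizer (K' : Set (↥N ⧸ Z')) := by
    rintro x ⟨a, ha, rfl⟩
    replace ha : (a : G) ∈ R := ha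
    rw [Subgroup.mem_normalizer_iff]
    intro y
    constructor
    · rintro ⟨k, hk, rfl⟩
      replace hk : (k : G) ∈ K := hk
      refine ⟨a * k * a⁻¹, ?_, by simp⟩
      show ((a * k * a⁻¹ : ↥N) : G) ∈ K
      push_cast
      exact (Subgroup.mem_normalizer_iff.mp (hRK ha) _).mp hk
    · rintro ⟨k, hk, hk2⟩
      replace hk : (k : G) ∈ K := hk
      refine ⟨a⁻¹ * k * a, ?_, ?_⟩
      · show ((a⁻¹ * k * a : ↥N) : G) ∈ K
        push_cast
        have := (Subgroup.mem_normalizer_iff.mp (hRK (R.inv_mem ha)) _).mp hk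
        simpa using this
      · rw [map_mul, map_mul, hk2, map_inv]
        group
  -- coprimality
  have hcop : (Nat.card A').Coprime (Nat.card K') := by
    have h1 : Nat.card A' ∣ Nat.card R := by
      have := Subgroup.card_map_dvd (H := R.subgroupOf N) π
      rwa [Nat.card_congr (Subgroup.subgroupOfEquivOfLe hRN).toEquiv] at this
    have h2 : Nat.card K' ∣ Nat.card K := by
      have := Subgroup.card_map_dvd (H := K.subgroupOf N) π
      rwa [Nat.card_congr (Subgroup.subgroupOfEquivOfLe hKN).toEquiv] at this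
    obtain ⟨n, hn⟩ := IsPGroup.iff_card.mp hR
    rw [hn] at h1
    exact Nat.Coprime.coprime_dvd_left h1
      (Nat.Coprime.coprime_dvd_right h2 (Nat.Coprime.pow_left n hK.symm))
  have hgen := Cfsg.Agent.S0058.result A' K' hA'nc hA'K' hcop
  -- `K ⊓ Z = ⊥`
  have hKZ : K ⊓ Z = ⊥ := by
    apply Subgroup.inf_eq_bot_of_coprime
    obtain ⟨n, hn⟩ := IsPGroup.iff_card.mp (hR.to_le hZR)
    rw [hn]
    exact Nat.Coprime.pow_right n hK
  have hK'L' : K' ≤ L' := by
    rw [← hgen]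
    refine iSup₂_le ?_
    rintro a' ⟨ha', ha'1⟩
    obtain ⟨u, hu, rfl⟩ := ha'
    replace hu : (u : G) ∈ R := hu
    have huZ : (u : G) ∉ Z := by
      intro hz
      apply ha'1
      have : π u = π 1 := by
        rw [hπ]
        simpa using Z.inv_mem hz
      rw [this, map_one]
    rintro y ⟨⟨k, hk, rfl⟩, hy2⟩
    replace hk : (k : G) ∈ K := hk
    have hcomm' : π u * π k = π k * π u := by
      have := Subgroup.mem_centralizer_iff.mp hy2 (π u) (Set.mem_singleton _)
      exact this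
    rw [← map_mul, ← map_mul, hπ] at hcomm'
    have e : ((u * k : ↥N) : G)⁻¹ * ((k * u : ↥N) : G) = (k : G)⁻¹ * ((u : G)⁻¹ * (k : G) * (u : G)⁻¹⁻¹) := by
      push_cast; group
    rw [e] at hcomm'
    have hcK : (k : G)⁻¹ * ((u : G)⁻¹ * (k : G) * (u : G)⁻¹⁻¹) ∈ K :=
      K.mul_mem (K.inv_mem hk)
        ((Subgroup.mem_normalizer_iff.mp (hRK (R.inv_mem hu)) _).mp hk)
    have h1 : (k : G)⁻¹ * ((u : G)⁻¹ * (k : G) * (u : G)⁻¹⁻¹) = 1 := by
      have : (k : G)⁻¹ * ((u : G)⁻¹ * (k : G) * (u : G)⁻¹⁻¹) ∈ K ⊓ Z := ⟨hcK, hcomm'⟩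
      rwa [hKZ, Subgroup.mem_bot] at this
    have h2 : (u : G) * (k : G) = (k : G) * (u : G) := by
      have h3 : (k : G) = (u : G)⁻¹ * (k : G) * (u : G)⁻¹⁻¹ := inv_mul_eq_one.mp h1
      calc (u : G) * (k : G) = (u : G) * ((u : G)⁻¹ * (k : G) * (u : G)⁻¹⁻¹) := by rw [← h3]
        _ = (k : G) * (u : G) := by group
    have hkL : (k : G) ∈ L := by
      apply h (u : G) hu huZ
      refine ⟨hk, ?_⟩
      show (k : G) ∈ centralizer {(u : G)}
      rw [Subgroup.mem_centralizer_iff]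
      intro x hx
      rw [Set.mem_singleton_iff] at hx
      rw [hx]; exact h2
    exact ⟨k, mem_subgroupOf.mpr hkL, rfl⟩
  intro k hk
  have hk' : π ⟨k, hKN hk⟩ ∈ K' := ⟨⟨k, hKN hk⟩, mem_subgroupOf.mpr hk, rfl⟩
  obtain ⟨l, hl, hl2⟩ := hK'L' hk'
  replace hl : (l : G) ∈ L := hl
  rw [hπ] at hl2
  have : k = (l : G) * ((l : G)⁻¹ * k) := by group
  rw [this]
  exact L.mul_mem hl (hZL hl2)


/-! ### Nonabelian groups of order `p^3` -/

section Cube

variable {X : Type*} [Group X]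

theorem card_center_of_card_cube {p : ℕ} [Fact p.Prime] (hc : Nat.card X = p ^ 3)
    (hna : ¬ ∀ a b : X, a * b = b * a) : Nat.card (center X) = p := by
  have hpp : p.Prime := Fact.out
  haveI : Finite X := Nat.finite_of_card_ne_zero (hc ▸ pow_ne_zero 3 hpp.ne_zero)
  obtain ⟨k, hk0, hk⟩ := IsPGroup.card_center_eq_prime_pow hc (by norm_num)
  have hk3 : k ≤ 3 := by
    have h1 : p ^ k ∣ p ^ 3 := by
      rw [← hk, ← hc]; exact Subgroup.card_subgroup_dvd_card _
    exact (Nat.pow_dvd_pow_iff_le_right hpp.one_lt).mp h1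
  have hmul := Subgroup.card_eq_card_quotient_mul_card_subgroup (center X)
  rw [hc, hk] at hmul
  interval_cases k
  · simpa using hk
  · exfalso
    have hq : Nat.card (X ⧸ center X) = p := by
      have h2 : p ^ 3 = p * p ^ 2 := by ring
      rw [h2] at hmul
      exact (Nat.eq_of_mul_eq_mul_right (pow_pos hpp.pos 2) hmul).symm
    haveI : Fact (Nat.card (X ⧸ center X)).Prime := ⟨hq ▸ hpp⟩
    haveI : IsCyclic (X ⧸ center X) := isCyclic_of_prime_card rfl
    exact hna (commutative_of_cyclic_center_quotient (QuotientGroup.mk' (center X))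
      (by rw [QuotientGroup.ker_mk']))
  · exfalso
    have htop : center X = ⊤ := by
      apply Subgroup.eq_top_of_card_eq
      rw [hk, hc]
    apply hna
    intro a b
    have : b ∈ center X := by rw [htop]; trivial
    exact (Subgroup.mem_center_iff.mp this a)

theorem commutator_mem_center_of_card_cube {p : ℕ} [Fact p.Prime] (hc : Nat.card X = p ^ 3)
    (hna : ¬ ∀ a b : X, a * b = b * a) (a b : X) : a * b * a⁻¹ * b⁻¹ ∈ center X := by
  have hpp : p.Prime := Fact.out
  haveI : Finite X := Nat.finite_of_card_ne_zero (hc ▸ pow_ne_zero 3 hpp.ne_zero)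
  have hZ := card_center_of_card_cube hc hna
  have hmul := Subgroup.card_eq_card_quotient_mul_card_subgroup (center X)
  rw [hc, hZ] at hmul
  have hq : Nat.card (X ⧸ center X) = p ^ 2 := by
    have h2 : p ^ 3 = p ^ 2 * p := by ring
    rw [h2] at hmul
    exact (Nat.eq_of_mul_eq_mul_right hpp.pos hmul).symm
  have hcomm := IsPGroup.commutative_of_card_eq_prime_sq hq
  have h1 : (QuotientGroup.mk (a * b * a⁻¹ * b⁻¹) : X ⧸ center X) = 1 := by
    have := hcomm (QuotientGroup.mk a) (QuotientGroup.mk b)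
    rw [QuotientGroup.mk_mul, QuotientGroup.mk_mul, QuotientGroup.mk_mul, QuotientGroup.mk_inv,
      QuotientGroup.mk_inv, this]
    group
  exact (QuotientGroup.eq_one_iff _).mp h1

end Cube

/-- The centre of a nonabelian subgroup `P₁` of order `p^3`, as a subgroup of `G`. -/
theorem card_inf_centralizer_of_card_cube {p : ℕ} [Fact p.Prime] {P₁ : Subgroup G}
    (hc : Nat.card P₁ = p ^ 3) (hna : ¬ IsMulCommutative P₁) :
    Nat.card ↥(P₁ ⊓ centralizer (P₁ : Set G)) = p := by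
  have hna' : ¬ ∀ a b : ↥P₁, a * b = b * a := fun h => hna ⟨⟨h⟩⟩
  have h1 := card_center_of_card_cube hc hna'
  have h0 : Subgroup.center ↥P₁ = (Subgroup.centralizer (P₁ : Set G)).subgroupOf P₁ := by
    ext x
    rw [Subgroup.mem_center_iff, Subgroup.mem_subgroupOf, Subgroup.mem_centralizer_iff]
    constructor
    · intro h y hy
      have := h ⟨y, hy⟩
      exact congrArg Subtype.val this
    · intro h y
      apply Subtype.ext
      exact h y.1 y.2
  have h2 : Nat.card ↥(Subgroup.center ↥P₁) = Nat.card ↥(P₁ ⊓ centralizer (P₁ : Set G)) := by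
    rw [h0, inf_comm, ← Subgroup.inf_subgroupOf_right]
    exact Nat.card_congr (Subgroup.subgroupOfEquivOfLe inf_le_right).toEquiv
  rw [← h2, h1]

theorem commutator_mem_inf_centralizer_of_card_cube {p : ℕ} [Fact p.Prime] {P₁ : Subgroup G}
    (hc : Nat.card P₁ = p ^ 3) (hna : ¬ IsMulCommutative P₁) {a b : G} (ha : a ∈ P₁) (hb : b ∈ P₁) :
    a * b * a⁻¹ * b⁻¹ ∈ P₁ ⊓ centralizer (P₁ : Set G) := by
  have hna' : ¬ ∀ a b : ↥P₁, a * b = b * a := fun h => hna ⟨⟨h⟩⟩
  have h1 := commutator_mem_center_of_card_cube hc hna' ⟨a, ha⟩ ⟨b, hb⟩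
  refine ⟨P₁.mul_mem (P₁.mul_mem (P₁.mul_mem ha hb) (P₁.inv_mem ha)) (P₁.inv_mem hb), ?_⟩
  show a * b * a⁻¹ * b⁻¹ ∈ centralizer (P₁ : Set G)
  rw [Subgroup.mem_centralizer_iff]
  intro x hx
  have := Subgroup.mem_center_iff.mp h1 ⟨x, hx⟩
  exact congrArg Subtype.val this

end Cfsg.Agent.Lib.Helper9.BGNonab
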