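/-
helper9: the points of `⟨u⟩ × Z(P₁)` for a nonabelian group `P₁` of order `p^3` and exponent `p`
(for Bender–Glauberman Theorem 12.7, S1422), and a Sylow criterion.
-/
import Mathlib
import Cfsg.Prelude
import Cfsg.Agent.Lib.Helper9.BGNonabA

set_option autoImplicit false
set_option linter.unusedSectionVars false
set_option linter.style.haveILetI false

namespace Cfsg.Agent.Lib.Helper9.BGNonab

open Subgroup
open Cfsg.Agent.Lib.Helper8 (mem_map_conj conj_mem_map_conj map_conj_map_conj map_conj_one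
  map_conj_le_iff map_conj_eq_iff card_map_conj mem_normalizer_iff_map_conj)

variable {G : Type*} [Group G]

section Points

variable {p : ℕ} [Fact p.Prime] {P₁ : Subgroup G}

theorem pow_eq_one_of_exponent (hexp : Monoid.exponent P₁ = p) {x : G} (hx : x ∈ P₁) :
    x ^ p = 1 := by
  have h := Monoid.pow_exponent_eq_one (⟨x, hx⟩ : P₁)
  rw [hexp] at h
  exact congrArg Subtype.val h

theorem comm_of_mem_center {z x : G} (hz : z ∈ P₁ ⊓ centralizer (P₁ : Set G)) (hx : x ∈ P₁) :
    z * x = x * z :=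
  (Subgroup.mem_centralizer_iff.mp hz.2 x hx).symm

/-- `A_u = ⟨u⟩ Z(P₁)` is elementary abelian of order `p^2`. -/
theorem elemAb_point_sup [Finite G] (hc : Nat.card P₁ = p ^ 3)
    (hna : ¬ IsMulCommutative P₁) (hexp : Monoid.exponent P₁ = p) {u : G} (hu : u ∈ P₁)
    (huZ : u ∉ P₁ ⊓ centralizer (P₁ : Set G)) :
    zpowers u ⊔ (P₁ ⊓ centralizer (P₁ : Set G)) ≤ P₁ ∧
    Cfsg.IsElementaryAbelian p (zpowers u ⊔ (P₁ ⊓ centralizer (P₁ : Set G))) ∧
      Nat.card ↥(zpowers u ⊔ (P₁ ⊓ centralizer (P₁ : Set G))) = p ^ 2 := by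
  have hpp : p.Prime := Fact.out
  set Z := P₁ ⊓ centralizer (P₁ : Set G) with hZ
  have hZcard : Nat.card Z = p := card_inf_centralizer_of_card_cube hc hna
  have hzu : zpowers u ≤ P₁ := by rw [zpowers_le]; exact hu
  have hcomm : ∀ a ∈ zpowers u, ∀ b ∈ Z, a * b = b * a := fun a ha b hb =>
    (comm_of_mem_center hb (hzu ha)).symm
  have hprod : ∀ x ∈ zpowers u ⊔ Z, ∃ a ∈ zpowers u, ∃ b ∈ Z, x = a * b := fun x hx =>
    Cfsg.Agent.Lib.Helper8.mem_sup_of_commute hcomm hx
  have hup : u ^ p = 1 := pow_eq_one_of_exponent hexp hu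
  have hu1 : u ≠ 1 := fun h => huZ (h ▸ Z.one_mem)
  have hord : orderOf u = p := orderOf_eq_prime hup hu1
  refine ⟨sup_le hzu inf_le_left, ⟨⟨⟨?_⟩⟩, ?_⟩, ?_⟩
  · rintro ⟨x, hx⟩ ⟨y, hy⟩
    apply Subtype.ext
    show x * y = y * x
    obtain ⟨a, ha, b, hb, rfl⟩ := hprod x hx
    obtain ⟨a', ha', b', hb', rfl⟩ := hprod y hy
    have c1 : a * a' = a' * a := by
      obtain ⟨i, rfl⟩ := Subgroup.mem_zpowers_iff.mp ha
      obtain ⟨j, rfl⟩ := Subgroup.mem_zpowers_iff.mp ha'
      rw [← zpow_add, ← zpow_add, add_comm]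
    have c2 : b * a' = a' * b := (hcomm a' ha' b hb).symm
    have c3 : b' * a = a * b' := (hcomm a ha b' hb').symm
    have c4 : b * b' = b' * b := comm_of_mem_center hb hb'.1
    calc a * b * (a' * b') = a * (b * a') * b' := by group
      _ = a * (a' * b) * b' := by rw [c2]
      _ = (a * a') * (b * b') := by group
      _ = (a' * a) * (b' * b) := by rw [c1, c4]
      _ = a' * (a * b') * b := by group
      _ = a' * (b' * a) * b := by rw [c3]
      _ = a' * b' * (a * b) := by group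
  · intro x hx
    obtain ⟨a, ha, b, hb, rfl⟩ := hprod x hx
    have hc' : Commute a b := hcomm a ha b hb
    rw [hc'.mul_pow, pow_eq_one_of_exponent hexp (hzu ha), pow_eq_one_of_exponent hexp hb.1, one_mul]
  · have hnorm : zpowers u ≤ normalizer (Z : Set G) := by
      intro a ha
      rw [Subgroup.mem_normalizer_iff]
      intro z
      constructor
      · intro hz
        have : a * z * a⁻¹ = z := by rw [hcomm a ha z hz]; group
        rw [this]; exact hz
      · intro hz
        have h1 := hcomm a ha _ hz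
        have : a * z * a⁻¹ = z := by
          have h2 : a * (a * z * a⁻¹) = a * z := by rw [h1]; group
          exact mul_left_cancel h2
        rw [← this]; exact hz
    have hmul := Cfsg.Agent.Lib.Helper4.card_sup_mul_card_inf (zpowers u) Z hnorm
    have hzc : Nat.card (zpowers u) = p := by rw [Nat.card_zpowers, hord]
    have hinf : zpowers u ⊓ Z = ⊥ := by
      by_contra hne
      have hd : Nat.card ↥(zpowers u ⊓ Z) ∣ p := by
        rw [← hzc]; exact Subgroup.card_dvd_of_le inf_le_left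
      rcases (Nat.dvd_prime hpp).mp hd with h1 | h1
      · exact hne (Subgroup.card_eq_one.mp h1)
      · have : zpowers u ⊓ Z = zpowers u := by
          apply Subgroup.eq_of_le_of_card_ge inf_le_left
          rw [h1, hzc]
        apply huZ
        have h2 : u ∈ zpowers u ⊓ Z := by rw [this]; exact mem_zpowers u
        exact h2.2
    rw [hinf, Subgroup.card_bot, mul_one, hzc, hZcard] at hmul
    rw [hmul]; ring

/-- Every point of `A_u` other than the centre is a `P₁`-conjugate of `⟨u⟩`. -/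
theorem point_conj [Finite G] (hc : Nat.card P₁ = p ^ 3)
    (hna : ¬ IsMulCommutative P₁) (hexp : Monoid.exponent P₁ = p) {u : G} (hu : u ∈ P₁)
    (huZ : u ∉ P₁ ⊓ centralizer (P₁ : Set G)) {A₀ : Subgroup G}
    (hA₀ : A₀ ≤ zpowers u ⊔ (P₁ ⊓ centralizer (P₁ : Set G))) (hA₀c : Nat.card A₀ = p)
    (hne : A₀ ≠ P₁ ⊓ centralizer (P₁ : Set G)) :
    ∃ s ∈ P₁, A₀ = (zpowers u).map (MulAut.conj s).toMonoidHom := by
  have hpp : p.Prime := Fact.out
  set Z := P₁ ⊓ centralizer (P₁ : Set G) with hZ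
  have hZcard : Nat.card Z = p := card_inf_centralizer_of_card_cube hc hna
  have hzu : zpowers u ≤ P₁ := by rw [zpowers_le]; exact hu
  have hcomm : ∀ a ∈ zpowers u, ∀ b ∈ Z, a * b = b * a := fun a ha b hb =>
    (comm_of_mem_center hb (hzu ha)).symm
  have hup : u ^ p = 1 := pow_eq_one_of_exponent hexp hu
  have hu1 : u ≠ 1 := fun h => huZ (h ▸ Z.one_mem)
  -- an element of `A₀` outside `Z`
  have hex : ∃ a ∈ A₀, a ∉ Z := by
    by_contra hcon
    push Not at hcon
    apply hne
    apply Subgroup.eq_of_le_of_card_ge hcon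
    rw [hZcard, hA₀c]
  obtain ⟨a, haA, haZ⟩ := hex
  obtain ⟨x, hx, z, hz, rfl⟩ := Cfsg.Agent.Lib.Helper8.mem_sup_of_commute hcomm (hA₀ haA)
  obtain ⟨i, rfl⟩ := Subgroup.mem_zpowers_iff.mp hx
  -- `p ∤ i`
  have hpi : ¬ (p : ℤ) ∣ i := by
    rintro ⟨m, rfl⟩
    apply haZ
    have : u ^ ((p : ℤ) * m) = 1 := by
      rw [zpow_mul, zpow_natCast, hup, one_zpow]
    rw [this, one_mul]; exact hz
  -- inverse of `i` mod `p`
  have hcop : IsCoprime i (p : ℤ) := by
    rw [Int.isCoprime_iff_gcd_eq_one]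
    have := (Int.isCoprime_iff_gcd_eq_one.mp
      ((Prime.coprime_iff_not_dvd (Nat.prime_iff_prime_int.mp hpp)).mpr hpi))
    rwa [Int.gcd_comm] at this
  obtain ⟨j, m, hjm⟩ := hcop
  -- `b = (u^i z)^j = u * z^j`
  have hcz : Commute (u ^ i) z := hcomm _ hx z hz
  have hb : (u ^ i * z) ^ j = u * z ^ j := by
    rw [hcz.mul_zpow, ← zpow_mul]
    have h1 : i * j = 1 - m * p := by linarith
    have h2 : u ^ (m * (p : ℤ)) = 1 := by
      rw [mul_comm, zpow_mul, zpow_natCast, hup, one_zpow]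
    rw [h1, zpow_sub, zpow_one, h2, inv_one, mul_one]
  have hbA : u * z ^ j ∈ A₀ := hb ▸ A₀.zpow_mem haA j
  have hzj : z ^ j ∈ Z := Z.zpow_mem hz j
  have hb1 : u * z ^ j ≠ 1 := by
    intro h1
    apply huZ
    have : u = (z ^ j)⁻¹ := eq_inv_of_mul_eq_one_left h1
    rw [this]; exact Z.inv_mem hzj
  -- `A₀ = ⟨u z^j⟩`
  have hA₀eq : A₀ = zpowers (u * z ^ j) := by
    symm
    apply Subgroup.eq_of_le_of_card_ge
    · rw [zpowers_le]; exact hbA
    · rw [hA₀c, Nat.card_zpowers]
      have hd : orderOf (u * z ^ j) ∣ p := by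
        rw [← hA₀c]
        have : Nat.card (zpowers (u * z ^ j)) ∣ Nat.card A₀ :=
          Subgroup.card_dvd_of_le (by rw [zpowers_le]; exact hbA)
        rwa [Nat.card_zpowers] at this
      rcases (Nat.dvd_prime hpp).mp hd with h1 | h1
      · exact absurd (orderOf_eq_one_iff.mp h1) hb1
      · rw [h1]
  -- a noncentral commutator generates `Z`
  have hncen : ∃ y ∈ P₁, y * u ≠ u * y := by
    by_contra hcon
    push Not at hcon
    apply huZ
    refine ⟨hu, ?_⟩
    show u ∈ centralizer (P₁ : Set G)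
    rw [Subgroup.mem_centralizer_iff]
    intro y hy
    exact hcon y hy
  obtain ⟨y, hy, hyu⟩ := hncen
  set c := y * u * y⁻¹ * u⁻¹ with hcdef
  have hcZ : c ∈ Z := commutator_mem_inf_centralizer_of_card_cube hc hna hy hu
  have hc1 : c ≠ 1 := by
    intro h1
    apply hyu
    have : y * u = c * (u * y) := by rw [hcdef]; group
    rw [this, h1, one_mul]
  have hZgen : Z = zpowers c := by
    symm
    apply Subgroup.eq_of_le_of_card_ge
    · rw [zpowers_le]; exact hcZ
    · rw [hZcard, Nat.card_zpowers]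
      have hd : orderOf c ∣ p := by
        have : Nat.card (zpowers c) ∣ Nat.card Z :=
          Subgroup.card_dvd_of_le (by rw [zpowers_le]; exact hcZ)
        rwa [Nat.card_zpowers, hZcard] at this
      rcases (Nat.dvd_prime hpp).mp hd with h1 | h1
      · exact absurd (orderOf_eq_one_iff.mp h1) hc1
      · rw [h1]
  have hzjc : z ^ j ∈ zpowers c := hZgen ▸ hzj
  obtain ⟨k, hk⟩ := (mem_powers_iff_mem_zpowers).mpr hzjc
  -- `y^k u y^-k = c^k u`
  have hconj : ∀ n : ℕ, y ^ n * u * (y ^ n)⁻¹ = c ^ n * u := by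
    intro n
    induction n with
    | zero => simp
    | succ n ih =>
      have hcy : c * y = y * c := comm_of_mem_center hcZ hy
      have hcn : c ^ n * y = y * c ^ n := by
        have : Commute c y := hcy
        exact (this.pow_left n)
      calc y ^ (n + 1) * u * (y ^ (n + 1))⁻¹ = y * (y ^ n * u * (y ^ n)⁻¹) * y⁻¹ := by
            rw [pow_succ']; group
        _ = y * (c ^ n * u) * y⁻¹ := by rw [ih]
        _ = (y * c ^ n) * (u * y⁻¹) := by group
        _ = (c ^ n * y) * (u * y⁻¹) := by rw [hcn]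
        _ = c ^ n * (y * u * y⁻¹ * u⁻¹) * u := by group
        _ = c ^ (n + 1) * u := by rw [← hcdef, pow_succ]
  refine ⟨y ^ k, P₁.pow_mem hy k, ?_⟩
  rw [hA₀eq, MonoidHom.map_zpowers]
  congr 1
  show u * z ^ j = y ^ k * u * (y ^ k)⁻¹
  have hk' : c ^ k = z ^ j := hk
  rw [hconj k, hk']
  exact (comm_of_mem_center hzj hu).symm

end Points

/-- A maximal `p`-subgroup `S` of `L` with `N_G(S) ≤ L` is a Sylow `p`-subgroup of `G`. -/
theorem exists_sylow_eq_of_normalizer_le [Finite G] {p : ℕ} [Fact p.Prime] {S L : Subgroup G}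
    (hS : IsPGroup p S) (hSL : S ≤ L)
    (hmax : ∀ T : Subgroup G, IsPGroup p T → T ≤ L → S ≤ T → T = S)
    (hN : normalizer (S : Set G) ≤ L) : ∃ T : Sylow p G, (T : Subgroup G) = S := by
  obtain ⟨T, hST⟩ := hS.exists_le_sylow
  refine ⟨T, ?_⟩
  by_contra hne
  -- normalizer condition in the `p`-group `T`
  haveI : Group.IsNilpotent ↥(T : Subgroup G) := T.isPGroup'.isNilpotent
  have hnc := normalizerCondition_of_isNilpotent (G := ↥(T : Subgroup G))
  have hlt' : S.subgroupOf T < ⊤ := by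
    rw [lt_top_iff_ne_top]
    intro h
    rw [Subgroup.subgroupOf_eq_top] at h
    exact hne (le_antisymm h hST)
  have h1 := hnc (S.subgroupOf T) hlt'
  -- `N_T(S)` is a `p`-subgroup of `L` containing `S`
  set N₀ : Subgroup ↥(T : Subgroup G) :=
    normalizer ((S.subgroupOf T : Subgroup ↥(T : Subgroup G)) : Set ↥(T : Subgroup G)) with hN₀
  set N₁ : Subgroup G := N₀.map (T : Subgroup G).subtype with hN₁
  have hN₁p : IsPGroup p N₁ :=
    (T.isPGroup'.to_subgroup N₀).map _
  have hSN₁ : S ≤ N₁ := by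
    intro s hs
    exact ⟨⟨s, hST hs⟩, Subgroup.le_normalizer (mem_subgroupOf.mpr hs), rfl⟩
  have hN₁L : N₁ ≤ L := by
    rintro x ⟨t, ht, rfl⟩
    apply hN
    rw [Subgroup.mem_normalizer_iff]
    intro s
    have ht' := Subgroup.mem_normalizer_iff.mp ht
    constructor
    · intro hs
      have := (ht' ⟨s, hST hs⟩).mp (mem_subgroupOf.mpr hs)
      exact mem_subgroupOf.mp this
    · intro hs
      have hsT : s ∈ (T : Subgroup G) := by
        have h2 : (t : G)⁻¹ * ((t : G) * s * (t : G)⁻¹) * (t : G) = s := by group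
        rw [← h2]
        exact (T : Subgroup G).mul_mem ((T : Subgroup G).mul_mem ((T : Subgroup G).inv_mem t.2)
          (hST hs)) t.2
      have := (ht' ⟨s, hsT⟩).mpr (mem_subgroupOf.mpr hs)
      exact mem_subgroupOf.mp this
  have hN₁S := hmax N₁ hN₁p hN₁L hSN₁
  -- contradiction with `S.subgroupOf T < normalizer`
  apply h1.ne
  apply le_antisymm (Subgroup.le_normalizer)
  intro t ht
  rw [mem_subgroupOf]
  rw [← hN₁S]
  exact ⟨t, ht, rfl⟩

end Cfsg.Agent.Lib.Helper9.BGNonab
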