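/-
helper9: "Lemma G" for Bender–Glauberman Theorem 12.7 (S1422): if `M_σ = K S` with `K` an
`M`-invariant `p'`-group and `S` a Sylow `p`-subgroup of `G` containing a nonabelian group `P₁` of
order `p^3` and exponent `p`, and `N_G(S)` and all `C_G(u)`, `u ∈ P₁ ∖ Z(P₁)`, lie in `L`, then
`M ≤ L`.
-/
import Mathlib
import Cfsg.Prelude
import Cfsg.Agent.Lib.Helper9.BGNonabB
import Cfsg.Agent.Lib.Helper9.BGSigEmb
import Cfsg.Agent.Lib.Helper8.Factorization
import Cfsg.Agent.Lib.Helper2.BGCorA
import Cfsg.Agent.Lib.Helper23.BGY1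

set_option autoImplicit false
set_option linter.unusedSectionVars false
set_option linter.style.haveILetI false

namespace Cfsg.Agent.Lib.Helper9.BGNonab

open Subgroup
open Cfsg.Agent.Lib.Helper8 (mem_map_conj conj_mem_map_conj map_conj_map_conj map_conj_one
  map_conj_le_iff map_conj_eq_iff card_map_conj mem_normalizer_iff_map_conj)

variable {G : Type*} [Group G]

/-- A subgroup `K ≤ H` of order prime to the index of the normal subgroup `N` of `H` lies in `N`. -/
theorem le_of_coprime_relIndex_normal [Finite G] {N H K : Subgroup G} (hNH : N ≤ H)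
    (hn : H ≤ normalizer (N : Set G)) (hKH : K ≤ H)
    (h : (Nat.card K).Coprime (N.relIndex H)) : K ≤ N := by
  haveI : (N.subgroupOf H).Normal := (Subgroup.normal_subgroupOf_iff_le_normalizer hNH).mpr hn
  have hc : Nat.card (K.subgroupOf H) = Nat.card K :=
    Nat.card_congr (Subgroup.subgroupOfEquivOfLe hKH).toEquiv
  have h1 : K.subgroupOf H ≤ N.subgroupOf H := by
    apply Cfsg.Agent.Lib.Helper23.BGY.le_of_coprime_index_normal
    rw [hc]; exact h
  intro k hk
  have : (⟨k, hKH hk⟩ : H) ∈ N.subgroupOf H := h1 (Subgroup.mem_subgroupOf.mpr hk)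
  exact Subgroup.mem_subgroupOf.mp this

/-- A normal `p`-complement of `X ≤ G` (with `X ⊴ M`), as an `M`-invariant subgroup of `G`. -/
theorem exists_invariant_pcompl [Finite G] {p : ℕ} [Fact p.Prime] {M X : Subgroup G}
    (hXn : M ≤ normalizer (X : Set G)) (hc : Cfsg.HasNormalPComplement p ↥X)
    (S : Sylow p G) (hSX : (S : Subgroup G) ≤ X) :
    ∃ K : Subgroup G, K ≤ X ∧ M ≤ normalizer (K : Set G) ∧ (Nat.card K).Coprime p ∧
      ∀ x ∈ X, ∃ k ∈ K, ∃ s ∈ (S : Subgroup G), x = k * s := by
  have hpp : p.Prime := Fact.out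
  obtain ⟨P, N, hNn, hNP⟩ := hc
  set K : Subgroup G := N.map X.subtype with hK
  have hKX : K ≤ X := Subgroup.map_subtype_le _
  have hcK : Nat.card K = Nat.card N := Subgroup.card_map_of_injective X.subtype_injective
  have hmul : Nat.card N * Nat.card (P : Subgroup ↥X) = Nat.card ↥X := hNP.card_mul_card
  have hidx : (P : Subgroup ↥X).index = Nat.card N := hNP.index_eq_card
  have hNcop : (Nat.card N).Coprime p := by
    rw [← hidx, Nat.coprime_comm, hpp.coprime_iff_not_dvd]
    exact P.not_dvd_index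
  have hKcop : (Nat.card K).Coprime p := by rw [hcK]; exact hNcop
  -- `K` is normal in `X`
  have hXK : X ≤ normalizer (K : Set G) := by
    intro x hx
    apply Cfsg.Agent.Lib.Helper1.mem_normalizer_of_forall_conj_mem
    rintro _ ⟨n, hn, rfl⟩
    exact ⟨⟨x, hx⟩ * n * ⟨x, hx⟩⁻¹, hNn.conj_mem n hn _, by simp⟩
  -- index of `K` in `X` is a power of `p`
  have hrel : K.relIndex X = Nat.card (P : Subgroup ↥X) := by
    have h1 : K.relIndex X = N.index := by
      unfold Subgroup.relIndex Subgroup.subgroupOf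
      rw [hK, Subgroup.comap_map_eq_self_of_injective X.subtype_injective]
    rw [h1]
    have h2 := Subgroup.card_mul_index N
    have hNpos : 0 < Nat.card N := Nat.card_pos
    have : Nat.card N * N.index = Nat.card N * Nat.card (P : Subgroup ↥X) := by rw [h2, hmul]
    exact Nat.eq_of_mul_eq_mul_left hNpos this
  obtain ⟨e, he⟩ := IsPGroup.iff_card.mp P.isPGroup'
  refine ⟨K, hKX, ?_, hKcop, ?_⟩
  · -- `M` normalizes `K`
    intro m hm
    apply Cfsg.Agent.Lib.Helper1.mem_normalizer_of_forall_conj_mem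
    have hle : K.map (MulAut.conj m).toMonoidHom ≤ K := by
      apply le_of_coprime_relIndex_normal hKX hXK
      · rintro _ ⟨k, hk, rfl⟩
        have := (Subgroup.mem_normalizer_iff.mp (hXn hm) k).mp (hKX hk)
        simpa using this
      · rw [card_map_conj, hrel, he]
        exact hKcop.pow_right e
    intro k hk
    exact hle (conj_mem_map_conj hk)
  · -- `X = K S`
    set S' : Sylow p ↥X := S.subtype hSX with hS'
    have hcS : Nat.card (S' : Subgroup ↥X) = Nat.card (P : Subgroup ↥X) := by
      rw [Sylow.card_eq_multiplicity, Sylow.card_eq_multiplicity]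
    have hcompl : N.IsComplement' (S' : Subgroup ↥X) := by
      apply Subgroup.isComplement'_of_coprime
      · rw [hcS]; exact hmul
      · rw [hcS, he]; exact hNcop.pow_right e
    intro x hx
    obtain ⟨⟨n, ⟨s, hs⟩⟩, hns, -⟩ := hcompl.existsUnique ⟨x, hx⟩
    refine ⟨(n : ↥X), ⟨n, n.2, rfl⟩, (s : G), ?_, ?_⟩
    · have h3 : s ∈ (S : Subgroup G).subgroupOf X := by
        rw [← Sylow.coe_subtype S hSX]; exact hs
      exact Subgroup.mem_subgroupOf.mp h3
    · have := congrArg Subtype.val hns
      simpa using this.symm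

/-- **Lemma G** (abstract form). -/
theorem le_of_point_centralizers_le [Finite G] {p : ℕ} [Fact p.Prime]
    {M L X K : Subgroup G} (S : Sylow p G)
    (hXM : X ≤ M) (hXn : M ≤ normalizer (X : Set G)) (hSX : (S : Subgroup G) ≤ X)
    (hKn : M ≤ normalizer (K : Set G)) (hKc : (Nat.card K).Coprime p)
    (hKS : ∀ x ∈ X, ∃ k ∈ K, ∃ s ∈ (S : Subgroup G), x = k * s)
    (hNS : normalizer ((S : Subgroup G) : Set G) ≤ L)
    {P₁ : Subgroup G} (hP₁S : P₁ ≤ (S : Subgroup G)) (hc : Nat.card P₁ = p ^ 3)
    (hna : ¬ IsMulCommutative P₁) (hexp : Monoid.exponent P₁ = p)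
    (hcent : ∀ u ∈ P₁, u ∉ P₁ ⊓ centralizer (P₁ : Set G) → centralizer ({u} : Set G) ≤ L) :
    M ≤ L := by
  have hpp : p.Prime := Fact.out
  set Z := P₁ ⊓ centralizer (P₁ : Set G) with hZ
  have hZcard : Nat.card Z = p := card_inf_centralizer_of_card_cube hc hna
  have hSL : (S : Subgroup G) ≤ L := Subgroup.le_normalizer.trans hNS
  have hSM : (S : Subgroup G) ≤ M := hSX.trans hXM
  have hP₁M : P₁ ≤ M := hP₁S.trans hSM
  have hP₁p : IsPGroup p P₁ := S.isPGroup'.to_le hP₁S
  -- a noncentral element
  have hex : ∃ u₀ ∈ P₁, u₀ ∉ Z := by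
    by_contra hcon
    push Not at hcon
    apply hna
    refine ⟨⟨?_⟩⟩
    rintro ⟨a, ha⟩ ⟨b, hb⟩
    apply Subtype.ext
    show a * b = b * a
    exact comm_of_mem_center (hcon a ha) hb
  obtain ⟨u₀, hu₀, hu₀Z⟩ := hex
  obtain ⟨hAP₁, hAel, hAcard⟩ := elemAb_point_sup hc hna hexp hu₀ hu₀Z
  set A := zpowers u₀ ⊔ Z with hA
  -- `K ≤ L`
  have hKL : K ≤ L := by
    apply Cfsg.Agent.Lib.Helper8.le_of_forall_inf_centralizer_le hAel (le_of_eq hAcard.symm)
      ((hAP₁.trans hP₁M).trans hKn)
    · rw [hAcard]; exact (Nat.Coprime.pow_left 2 hKc.symm)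
    · intro a ha ha1
      by_cases haZ : a ∈ Z
      · -- the central point
        have hZa : Z = zpowers a := by
          symm
          apply Subgroup.eq_of_le_of_card_ge
          · rw [zpowers_le]; exact haZ
          · rw [hZcard, Nat.card_zpowers]
            have hd : orderOf a ∣ p := by
              have : Nat.card (zpowers a) ∣ Nat.card Z :=
                Subgroup.card_dvd_of_le (by rw [zpowers_le]; exact haZ)
              rwa [Nat.card_zpowers, hZcard] at this
            rcases (Nat.dvd_prime hpp).mp hd with h1 | h1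
            · exact absurd (orderOf_eq_one_iff.mp h1) ha1
            · rw [h1]
        apply le_of_central_quot_generation (p := p) (R := P₁) (Z := Z) hP₁p
        · exact Nat.Coprime.coprime_dvd_left (Subgroup.card_dvd_of_le inf_le_left) hKc
        · -- `P₁` normalizes `K ⊓ C(a)`
          intro r hr
          apply Cfsg.Agent.Lib.Helper1.mem_normalizer_of_forall_conj_mem
          rintro k ⟨hkK, hkC⟩
          refine ⟨(Subgroup.mem_normalizer_iff.mp (hKn (hP₁M hr)) k).mp hkK, ?_⟩
          show r * k * r⁻¹ ∈ centralizer ({a} : Set G)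
          rw [Subgroup.mem_centralizer_singleton_iff]
          have hkC' : k ∈ centralizer ({a} : Set G) := hkC
          rw [Subgroup.mem_centralizer_singleton_iff] at hkC'
          have har : a * r = r * a := comm_of_mem_center haZ hr
          have har' : r⁻¹ * a = a * r⁻¹ := by
            have : r⁻¹ * (a * r) * r⁻¹ = r⁻¹ * (r * a) * r⁻¹ := by rw [har]
            have e1 : r⁻¹ * (a * r) * r⁻¹ = r⁻¹ * a := by group
            have e2 : r⁻¹ * (r * a) * r⁻¹ = a * r⁻¹ := by group
            rw [e1, e2] at this; exact this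
          calc r * k * r⁻¹ * a = r * k * (r⁻¹ * a) := by group
            _ = r * k * (a * r⁻¹) := by rw [har']
            _ = r * (k * a) * r⁻¹ := by group
            _ = r * (a * k) * r⁻¹ := by rw [hkC']
            _ = (r * a) * k * r⁻¹ := by group
            _ = (a * r) * k * r⁻¹ := by rw [har]
            _ = a * (r * k * r⁻¹) := by group
        · exact inf_le_left
        · intro z hz r hr; exact comm_of_mem_center hz hr
        · -- `Z` centralizes `K ⊓ C(a)`
          intro z hz k hk
          rw [hZa] at hz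
          obtain ⟨i, rfl⟩ := Subgroup.mem_zpowers_iff.mp hz
          have hkC' : k ∈ centralizer ({a} : Set G) := hk.2
          rw [Subgroup.mem_centralizer_singleton_iff] at hkC'
          have : Commute a k := hkC'.symm
          exact (this.zpow_left i)
        · intro a' ha' b' hb'
          exact commutator_mem_inf_centralizer_of_card_cube hc hna ha' hb'
        · intro hcom
          apply hna
          refine ⟨⟨?_⟩⟩
          rintro ⟨x, hx⟩ ⟨y, hy⟩
          exact Subtype.ext (hcom x hx y hy)
        · exact (inf_le_left.trans hP₁S).trans hSL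
        · intro u hu huZ
          exact inf_le_right.trans (hcent u hu huZ)
      · exact inf_le_right.trans (hcent a (hAP₁ ha) haZ)
  -- Frattini
  intro m hm
  have hconjS : ∀ s ∈ (S : Subgroup G), m * s * m⁻¹ ∈ X := fun s hs =>
    (Subgroup.mem_normalizer_iff.mp (hXn hm) s).mp (hSX hs)
  have hidx : ¬ p ∣ (S : Subgroup G).relIndex X := by
    intro hd
    exact S.not_dvd_index (hd.trans (Subgroup.relIndex_dvd_index_of_le hSX))
  obtain ⟨y, hy, hyS⟩ := Cfsg.Agent.Lib.Helper9.BGSigEmb.exists_conj_le_of_not_dvd_relIndex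
    (Q₀ := (S : Subgroup G)) (L := X) (R := (S : Subgroup G).map (MulAut.conj m).toMonoidHom)
    S.isPGroup' hidx (S.isPGroup'.map _) (by
      rintro _ ⟨s, hs, rfl⟩
      simpa using hconjS s hs)
  have hymN : y * m ∈ normalizer ((S : Subgroup G) : Set G) := by
    apply Cfsg.Agent.Lib.Helper1.mem_normalizer_of_forall_conj_mem
    intro s hs
    have := hyS (m * s * m⁻¹) (conj_mem_map_conj hs)
    have e : y * (m * s * m⁻¹) * y⁻¹ = y * m * s * (y * m)⁻¹ := by group
    rwa [e] at this
  obtain ⟨k, hk, s, hs, hks⟩ := hKS y⁻¹ (X.inv_mem hy)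
  have hm' : m = k * (s * (y * m)) := by
    rw [← mul_assoc, ← hks]; group
  rw [hm']
  exact L.mul_mem (hKL hk) (L.mul_mem (hSL hs) (hNS hymN))

end Cfsg.Agent.Lib.Helper9.BGNonab
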