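/-
helper9: Bender–Glauberman Theorem 12.7 (S1422): a nonabelian `p`-subgroup of a minimal simple group
of odd order lies in a unique maximal subgroup.  The earlier results of B&G (the Uniqueness Theorem,
10.? `M_σ` Hall, 10.5 rank-two Sylow structure, 10.8 normal `p`-complements, 12.4(b), 12.6(a),(c))
enter as hypotheses.
-/
import Mathlib
import Cfsg.Prelude
import Cfsg.Agent.Lib.Helper9.BGNonabC
import Cfsg.Agent.Lib.Helper1.GlaubL1
import Cfsg.Agent.Lib.Helper1.BGX1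
import Cfsg.Agent.Lib.Helper17.BGUniqA
import Cfsg.Agent.Lib.Helper17.BGUniqC
import Cfsg.Agent.Lib.Helper17.Rank2Fitting
import Cfsg.Agent.Lib.Helper23.BGY2

set_option autoImplicit false
set_option linter.unusedSectionVars false
set_option linter.style.haveILetI false

namespace Cfsg.Agent.Lib.Helper9.BGNonab

open Subgroup
open Cfsg.Agent.Lib.Helper8 (mem_map_conj conj_mem_map_conj map_conj_map_conj map_conj_one
  map_conj_le_iff map_conj_eq_iff card_map_conj mem_normalizer_iff_map_conj)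

variable {G : Type*} [Group G]

/-- A Sylow `p`-subgroup of `G` lying in a nilpotent subgroup `X` is normalized by `N(X)`. -/
theorem le_normalizer_of_sylow_le_nilpotent [Finite G] {p : ℕ} [Fact p.Prime] {M X : Subgroup G}
    (hXn : M ≤ normalizer (X : Set G)) (hX : Group.IsNilpotent ↥X) (S : Sylow p G)
    (hSX : (S : Subgroup G) ≤ X) : M ≤ normalizer ((S : Subgroup G) : Set G) := by
  set S' : Sylow p ↥X := S.subtype hSX with hS'
  have hnorm : ∀ (q : ℕ) (_ : Fact q.Prime) (Q : Sylow q ↥X), (Q : Subgroup ↥X).Normal :=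
    (isNilpotent_of_finite_tfae (G := ↥X)).out 0 3 |>.mp hX
  have hS'n : (S' : Subgroup ↥X).Normal := hnorm p inferInstance S'
  haveI : Unique (Sylow p ↥X) := Sylow.unique_of_normal S' hS'n
  intro m hm
  apply Cfsg.Agent.Lib.Helper1.mem_normalizer_of_forall_conj_mem
  set R : Subgroup G := (S : Subgroup G).map (MulAut.conj m).toMonoidHom with hR
  have hRX : R ≤ X := by
    rintro _ ⟨s, hs, rfl⟩
    have := (Subgroup.mem_normalizer_iff.mp (hXn hm) s).mp (hSX hs)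
    simpa using this
  have hRp : IsPGroup p R := S.isPGroup'.map _
  obtain ⟨Q, hQ⟩ := (hRp.comap_subtype (K := X)).exists_le_sylow
  have hQS : Q = S' := Subsingleton.elim _ _
  intro s hs
  have h1 : (⟨m * s * m⁻¹, hRX (conj_mem_map_conj hs)⟩ : ↥X) ∈ (Q : Subgroup ↥X) := by
    apply hQ
    rw [Subgroup.mem_comap]
    exact conj_mem_map_conj hs
  rw [hQS, hS', Sylow.coe_subtype, Subgroup.mem_subgroupOf] at h1
  exact h1

/-- "`M` is the unique maximal subgroup containing `N_G(Y)`". -/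
def NUniq (L Y : Subgroup G) : Prop :=
  normalizer (Y : Set G) ≤ L ∧ ∀ L' : Subgroup G, IsCoatom L' → normalizer (Y : Set G) ≤ L' → L' = L

/-- The key step of 12.7: if `Z(P₁)` is not a "uniqueness point" for `L`, then `M ≤ L`. -/
theorem le_of_not_nUniq_center [Finite G] {p : ℕ} [Fact p.Prime] {M L : Subgroup G}
    (T : Sylow p G) (hTM : (T : Subgroup G) ≤ M) (hTL : (T : Subgroup G) ≤ L)
    (hNT : normalizer ((T : Subgroup G) : Set G) ≤ L)
    (hHall : Cfsg.IsPiHallOf (Cfsg.sigma M) (Cfsg.sigmaCore M) M) (hpσ : p ∈ Cfsg.sigma M)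
    (hnpc : Cfsg.HasNormalPComplement p ↥(Cfsg.sigmaCore M))
    (h1416L : ∀ A : Subgroup G, (A ≤ L ∧ Cfsg.IsElementaryAbelian p A ∧ Nat.card A = p ^ 2) →
      (∀ A₀ : Subgroup G, A₀ ≤ A → Nat.card A₀ = p → ¬ NUniq L A₀) →
        Group.IsNilpotent ↥(Cfsg.sigmaCore L))
    (hLnil : ¬ Group.IsNilpotent ↥(Cfsg.sigmaCore L))
    {P₁ : Subgroup G} (hP₁T : P₁ ≤ (T : Subgroup G)) (hc : Nat.card P₁ = p ^ 3)
    (hna : ¬ IsMulCommutative P₁) (hexp : Monoid.exponent P₁ = p)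
    (hnotU : ¬ NUniq L (P₁ ⊓ centralizer (P₁ : Set G))) : M ≤ L := by
  have hpp : p.Prime := Fact.out
  have hXn : M ≤ normalizer ((Cfsg.sigmaCore M : Subgroup G) : Set G) :=
    Cfsg.Agent.Lib.Helper23.BGY.le_normalizer_sigmaCore M
  have hXM : Cfsg.sigmaCore M ≤ M := Cfsg.Agent.Lib.Helper2.BGCor.sigmaCore_le M
  -- `T ≤ M_σ`
  have hTX : (T : Subgroup G) ≤ Cfsg.sigmaCore M := by
    apply le_of_coprime_relIndex_normal hXM hXn hTM
    obtain ⟨e, he⟩ := IsPGroup.iff_card.mp T.isPGroup'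
    rw [he]
    apply Nat.Coprime.pow_left
    rw [hpp.coprime_iff_not_dvd]
    exact hHall.2.2 p hpp hpσ
  obtain ⟨K, -, hKn, hKc, hKS⟩ := exists_invariant_pcompl hXn hnpc T hTX
  apply le_of_point_centralizers_le T hXM hXn hTX hKn hKc hKS hNT hP₁T hc hna hexp
  intro u hu huZ
  obtain ⟨hAP₁, hAel, hAcard⟩ := elemAb_point_sup hc hna hexp hu huZ
  have hAL : zpowers u ⊔ (P₁ ⊓ centralizer (P₁ : Set G)) ≤ L := (hAP₁.trans hP₁T).trans hTL
  -- a uniqueness point of `A_u`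
  have hex : ∃ A₀ : Subgroup G, A₀ ≤ zpowers u ⊔ (P₁ ⊓ centralizer (P₁ : Set G)) ∧
      Nat.card A₀ = p ∧ NUniq L A₀ := by
    by_contra hcon
    push Not at hcon
    exact hLnil (h1416L _ ⟨hAL, hAel, hAcard⟩ (fun A₀ h1 h2 => hcon A₀ h1 h2))
  obtain ⟨A₀, hA₀A, hA₀c, hA₀U⟩ := hex
  have hA₀Z : A₀ ≠ P₁ ⊓ centralizer (P₁ : Set G) := fun h => hnotU (h ▸ hA₀U)
  obtain ⟨s, hs, hA₀s⟩ := point_conj hc hna hexp hu huZ hA₀A hA₀c hA₀Z
  have hsL : s ∈ L := hTL (hP₁T hs)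
  intro c hc'
  rw [Subgroup.mem_centralizer_singleton_iff] at hc'
  have hcomm : ∀ a ∈ zpowers u, c * a = a * c := by
    intro a ha
    obtain ⟨i, rfl⟩ := Subgroup.mem_zpowers_iff.mp ha
    have : Commute c u := hc'
    exact this.zpow_right i
  have h1 : s * c * s⁻¹ ∈ normalizer (A₀ : Set G) := by
    apply Cfsg.Agent.Lib.Helper1.mem_normalizer_of_forall_conj_mem
    intro x hx
    rw [hA₀s] at hx ⊢
    obtain ⟨a, ha, rfl⟩ := hx
    have e : s * c * s⁻¹ * ((MulAut.conj s).toMonoidHom a) * (s * c * s⁻¹)⁻¹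
        = s * (c * a) * c⁻¹ * s⁻¹ := by
      simp only [MulEquiv.toMonoidHom_eq_coe, MonoidHom.coe_coe, MulAut.conj_apply]
      group
    rw [e, hcomm a ha]
    have e2 : s * (a * c) * c⁻¹ * s⁻¹ = s * a * s⁻¹ := by group
    rw [e2]
    exact conj_mem_map_conj ha
  have h2 : s * c * s⁻¹ ∈ L := hA₀U.1 h1
  have h3 := L.mul_mem (L.mul_mem (L.inv_mem hsL) h2) hsL
  have e3 : s⁻¹ * (s * c * s⁻¹) * s = c := by group
  rwa [e3] at h3

end Cfsg.Agent.Lib.Helper9.BGNonab
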