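/-
helper9: Bender–Glauberman Theorem 12.7 (S1422), main assembly.
-/
import Mathlib
import Cfsg.Prelude
import Cfsg.Agent.Lib.Helper9.BGNonabD
import Cfsg.Agent.Lib.Helper1.BGX3

set_option autoImplicit false
set_option linter.unusedSectionVars false
set_option linter.style.haveILetI false

namespace Cfsg.Agent.Lib.Helper9.BGNonab

open Subgroup
open Cfsg.Agent.Lib.Helper8 (mem_map_conj conj_mem_map_conj map_conj_map_conj map_conj_one
  map_conj_le_iff map_conj_eq_iff card_map_conj mem_normalizer_iff_map_conj)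

variable {G : Type*} [Group G]

theorem not_isCyclic_of_nonabelian_le {P S : Subgroup G} (hPS : P ≤ S)
    (hPna : ¬ IsMulCommutative P) : ¬ IsCyclic S := by
  intro hcyc
  apply hPna
  refine ⟨⟨fun a b => ?_⟩⟩
  have := (IsCyclic.commGroup (α := S)).mul_comm ⟨a, hPS a.2⟩ ⟨b, hPS b.2⟩
  apply Subtype.ext
  show (a : G) * (b : G) = (b : G) * (a : G)
  exact congrArg (fun x : S => (x : G)) this

theorem not_isMulCommutative_of_le {P S : Subgroup G} (hPS : P ≤ S)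
    (hPna : ¬ IsMulCommutative P) : ¬ IsMulCommutative S := by
  intro hS
  apply hPna
  refine ⟨⟨fun a b => ?_⟩⟩
  have := hS.is_comm.comm ⟨a, hPS a.2⟩ ⟨b, hPS b.2⟩
  apply Subtype.ext
  show (a : G) * (b : G) = (b : G) * (a : G)
  exact congrArg (fun x : S => (x : G)) this

/-- **B & G Theorem 12.7**, with the earlier results as hypotheses. -/
theorem nonabelian_inUniqueMaximal [Finite G] (hG : Cfsg.IsMinSimpleOddOrder G)
    (hUT : Cfsg.Agent.Lib.Helper1.BGX.UT G)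
    (h1350 : ∀ M : Subgroup G, IsCoatom M →
      Cfsg.IsPiHallOf (Cfsg.sigma M) (Cfsg.sigmaCore M) M)
    (h1412 : ∀ (p : ℕ) [Fact p.Prime] (P : Sylow p G), Cfsg.PRankLE p 2 (P : Subgroup G) →
      IsMulCommutative (P : Subgroup G) ∨ ∃ P₁ P₂ : Subgroup G, P₁ ⊔ P₂ = (P : Subgroup G) ∧
        (∀ a ∈ P₁, ∀ b ∈ P₂, a * b = b * a) ∧
        ¬ IsMulCommutative P₁ ∧ Nat.card P₁ = p ^ 3 ∧ Monoid.exponent P₁ = p ∧ IsCyclic P₂ ∧
        Subgroup.closure {x : G | x ∈ P₂ ∧ x ^ p = 1} = P₁ ⊓ Subgroup.centralizer (P₁ : Set G))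
    (h1414 : ∀ M : Subgroup G, IsCoatom M → ∀ p : ℕ, p.Prime → p ∣ Nat.card M →
      p ∉ Cfsg.beta M → Cfsg.HasNormalPComplement p ↥(Cfsg.sigmaCore M))
    (h1416 : ∀ M : Subgroup G, IsCoatom M → ∀ (p : ℕ) [Fact p.Prime] (A : Subgroup G),
      (A ≤ M ∧ Cfsg.IsElementaryAbelian p A ∧ Nat.card A = p ^ 2) →
      (∀ A₀ : Subgroup G, A₀ ≤ A → Nat.card A₀ = p →
        ¬ (normalizer (A₀ : Set G) ≤ M ∧
          ∀ L : Subgroup G, IsCoatom L → normalizer (A₀ : Set G) ≤ L → L = M)) →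
      Group.IsNilpotent ↥(Cfsg.sigmaCore M))
    (h1420a : ∀ M : Subgroup G, IsCoatom M → ∀ N : Subgroup G, N ≤ M → Group.IsNilpotent N →
      (∀ p : ℕ, p.Prime → p ∣ Nat.card N → p ∉ Cfsg.sigma M) → IsMulCommutative N)
    (h1420c : ∀ M : Subgroup G, IsCoatom M → ∀ (p : ℕ) (P : Subgroup G), p ∈ Cfsg.sigma M →
      IsPGroup p P → P ≤ M → ¬ IsCyclic P → Subgroup.normalizer (P : Set G) ≤ M)
    (p : ℕ) [Fact p.Prime] (P : Subgroup G) (hP : IsPGroup p P) (hPna : ¬ IsMulCommutative P) :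
    Cfsg.InUniqueMaximal P := by
  have hpp : p.Prime := Fact.out
  obtain ⟨T₀, hPT₀⟩ := hP.exists_le_sylow
  have hPtop : P ≠ ⊤ := fun h =>
    Cfsg.Agent.Lib.Helper1.BGX.sylow_ne_top hG T₀ (top_le_iff.mp (h ▸ hPT₀))
  obtain ⟨M, hM, hPM⟩ := Cfsg.Agent.Lib.Helper17.BGU.exists_coatom_ge hPtop
  refine ⟨M, ⟨hM, hPM⟩, ?_⟩
  rintro L ⟨hL, hPL⟩
  by_contra hne
  -- `p ∈ σ(M)`, `p ∈ σ(L)`
  have hσ : ∀ M' : Subgroup G, IsCoatom M' → P ≤ M' → p ∈ Cfsg.sigma M' := by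
    intro M' hM' hPM'
    by_contra hnot
    apply hPna
    apply h1420a M' hM' P hPM' hP.isNilpotent
    intro q hq hqd
    obtain ⟨e, he⟩ := IsPGroup.iff_card.mp hP
    rw [he] at hqd
    have : q = p := (Nat.prime_dvd_prime_iff_eq hq hpp).mp (hq.dvd_of_dvd_pow hqd)
    rw [this]; exact hnot
  have hpM := hσ M hM hPM
  have hpL := hσ L hL hPL
  -- a Sylow `p`-subgroup `S` of `M ∩ L` containing `P`
  obtain ⟨R', hPR'⟩ := Cfsg.Agent.Lib.Helper1.GlaubL.exists_isSylIn_ge hP (le_inf hPM hPL)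
  obtain ⟨hSML, hSp, hSmax⟩ := Cfsg.Agent.Lib.Helper1.GlaubL.isSylIn_map (M ⊓ L) R'
  set S := (R' : Subgroup ↥(M ⊓ L)).map (M ⊓ L).subtype with hS
  have hSM : S ≤ M := hSML.trans inf_le_left
  have hSL : S ≤ L := hSML.trans inf_le_right
  have hSnc : ¬ IsCyclic S := not_isCyclic_of_nonabelian_le hPR' hPna
  have hNSM : normalizer (S : Set G) ≤ M := h1420c M hM p S hpM hSp hSM hSnc
  have hNSL : normalizer (S : Set G) ≤ L := h1420c L hL p S hpL hSp hSL hSnc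
  obtain ⟨T, hTS⟩ := exists_sylow_eq_of_normalizer_le hSp hSML
    (fun T hT hTL hST => hSmax T hTL hT hST) (le_inf hNSM hNSL)
  have hTM : (T : Subgroup G) ≤ M := hTS ▸ hSM
  have hTL : (T : Subgroup G) ≤ L := hTS ▸ hSL
  have hNTM : normalizer ((T : Subgroup G) : Set G) ≤ M := hTS ▸ hNSM
  have hNTL : normalizer ((T : Subgroup G) : Set G) ≤ L := hTS ▸ hNSL
  have hPT : P ≤ (T : Subgroup G) := hTS ▸ hPR'
  -- `T` has rank at most 2
  have hrank : Cfsg.PRankLE p 2 ↥(T : Subgroup G) := by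
    by_contra hr
    have hTtop := Cfsg.Agent.Lib.Helper1.BGX.sylow_ne_top hG T
    have hU : Cfsg.InUniqueMaximal (T : Subgroup G) :=
      hUT T hTtop
        (fun h => hr (Cfsg.Agent.Lib.Helper1.BGX.pRankLE_mono hpp.pos (by norm_num) (h p hpp)))
        (Or.inl (fun h => hr (h p hpp)))
    obtain ⟨M₀, -, huniq⟩ := hU
    have h1 := huniq M ⟨hM, hTM⟩
    have h2 := huniq L ⟨hL, hTL⟩
    exact hne (h2.trans h1.symm)
  have hrankG : Cfsg.PRankLE p 2 G := by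
    apply Cfsg.Agent.Lib.Helper17.BGU.pRankLE_of_sylow T
    intro E hET hEc hEp
    exact Cfsg.Agent.Lib.Helper1.BGX.card_le_of_pRankLE ⟨hEc, hEp⟩
      (Cfsg.Agent.Lib.Helper17.pRankLE_of_le hET hrank)
  -- structure of `T`
  rcases h1412 p T hrank with hab | ⟨P₁, P₂, hsup, -, hna, hc, hexp, -, -⟩
  · exact not_isMulCommutative_of_le hPT hPna hab
  have hP₁T : P₁ ≤ (T : Subgroup G) := hsup ▸ le_sup_left
  -- normal `p`-complements
  have hnpc : ∀ M' : Subgroup G, IsCoatom M' → p ∈ Cfsg.sigma M' →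
      Cfsg.HasNormalPComplement p ↥(Cfsg.sigmaCore M') := by
    intro M' hM' hpM'
    apply h1414 M' hM' p hpp hpM'.2.1
    intro hβ
    exact hβ.1.2 (Cfsg.Agent.Lib.Helper1.BGX.pRankLE_subgroup hrankG M')
  -- `M_σ` is not nilpotent
  have hnil : ∀ M' L' : Subgroup G, IsCoatom M' → IsCoatom L' → p ∈ Cfsg.sigma M' →
      (T : Subgroup G) ≤ M' → normalizer ((T : Subgroup G) : Set G) ≤ L' → M' ≠ L' →
      ¬ Group.IsNilpotent ↥(Cfsg.sigmaCore M') := by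
    intro M' L' hM' hL' hpM' hTM' hNTL' hne' hnilp
    have hXn : M' ≤ normalizer ((Cfsg.sigmaCore M' : Subgroup G) : Set G) :=
      Cfsg.Agent.Lib.Helper23.BGY.le_normalizer_sigmaCore M'
    have hXM : Cfsg.sigmaCore M' ≤ M' := Cfsg.Agent.Lib.Helper2.BGCor.sigmaCore_le M'
    have hTX : (T : Subgroup G) ≤ Cfsg.sigmaCore M' := by
      apply le_of_coprime_relIndex_normal hXM hXn hTM'
      obtain ⟨e, he⟩ := IsPGroup.iff_card.mp T.isPGroup'
      rw [he]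
      apply Nat.Coprime.pow_left
      rw [hpp.coprime_iff_not_dvd]
      exact (h1350 M' hM').2.2 p hpp hpM'
    have h1 : M' ≤ L' := (le_normalizer_of_sylow_le_nilpotent hXn hnilp T hTX).trans hNTL'
    exact hne' ((hM'.le_iff_eq hL'.1).mp h1).symm
  have hMnil := hnil M L hM hL hpM hTM hNTL (fun h => hne h.symm)
  have hLnil := hnil L M hL hM hpL hTL hNTM hne
  by_cases hU : NUniq L (P₁ ⊓ centralizer (P₁ : Set G))
  · have hU' : ¬ NUniq M (P₁ ⊓ centralizer (P₁ : Set G)) := fun h => hne (h.2 L hL hU.1)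
    have h1 : L ≤ M := le_of_not_nUniq_center (M := L) (L := M) T hTL hTM hNTM (h1350 L hL) hpL
      (hnpc L hL hpL) (h1416 M hM p) hMnil hP₁T hc hna hexp hU'
    exact hne ((hL.le_iff_eq hM.1).mp h1).symm
  · have h1 : M ≤ L := le_of_not_nUniq_center (M := M) (L := L) T hTM hTL hNTL (h1350 M hM) hpM
      (hnpc M hM hpM) (h1416 L hL p) hLnil hP₁T hc hna hexp hU
    exact hne ((hM.le_iff_eq hL.1).mp h1)

end Cfsg.Agent.Lib.Helper9.BGNonab
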