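/-
helper9: Bender–Glauberman Lemma 12.8 (S1423): for `p ∈ σ(M)`, `X ≤ M` of order `p` with
`p ∈ β(M)` or `X ≤ (M_σ)'`, `M` is the unique maximal subgroup containing `C_G(X)`, and the Sylow
`p`-subgroups of `M_σ` are uniqueness subgroups.  Earlier results enter as hypotheses.
-/
import Mathlib
import Cfsg.Prelude
import Cfsg.Agent.Lib.Helper9.BGCentRank
import Cfsg.Agent.Lib.Helper9.BGNonabE
import Cfsg.Agent.Lib.Helper1.BGX4

set_option autoImplicit false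
set_option linter.unusedSectionVars false
set_option linter.style.haveILetI false

namespace Cfsg.Agent.Lib.Helper9.BGCentSig

open Subgroup
open Cfsg.Agent.Lib.Helper8 (mem_map_conj conj_mem_map_conj map_conj_map_conj map_conj_one
  map_conj_le_iff map_conj_eq_iff card_map_conj mem_normalizer_iff_map_conj)
open Cfsg.Agent.Lib.Helper4 (elemAb_comm elemAb_of_comm elemAb_sup elemAb_map elemAb_zpowers
  elemAb_comap_injective)
open Cfsg.Agent.Lib.Helper9.BGNonab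
open scoped commutatorElement

variable {G : Type*} [Group G]

/-- The derived subgroup of `X₀ = K T` (`K ⊴ X₀`) lies in `K T'`. -/
theorem commutator_le_sup_of_factor {X₀ K T : Subgroup G} (hTX : T ≤ X₀)
    (hXK : X₀ ≤ normalizer (K : Set G))
    (hKT : ∀ x ∈ X₀, ∃ k ∈ K, ∃ t ∈ T, x = k * t) : ⁅X₀, X₀⁆ ≤ K ⊔ ⁅T, T⁆ := by
  rw [Subgroup.commutator_le]
  intro a ha b hb
  obtain ⟨k₁, hk₁, t₁, ht₁, rfl⟩ := hKT a ha
  obtain ⟨k₂, hk₂, t₂, ht₂, rfl⟩ := hKT b hb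
  have hconj : ∀ t ∈ T, ∀ k ∈ K, t * k * t⁻¹ ∈ K := fun t ht k hk =>
    (Subgroup.mem_normalizer_iff.mp (hXK (hTX ht)) k).mp hk
  have huT : t₁ * t₂ * t₁⁻¹ ∈ T := T.mul_mem (T.mul_mem ht₁ ht₂) (T.inv_mem ht₁)
  have hcT : t₁ * t₂ * t₁⁻¹ * t₂⁻¹ ∈ T := T.mul_mem huT (T.inv_mem ht₂)
  have hcT' : t₁ * t₂ * t₁⁻¹ * t₂⁻¹ ∈ ⁅T, T⁆ := by
    have := Subgroup.commutator_mem_commutator ht₁ ht₂
    rwa [commutatorElement_def] at this
  have e : ⁅k₁ * t₁, k₂ * t₂⁆ = k₁ * (t₁ * k₂ * t₁⁻¹) *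
      ((t₁ * t₂ * t₁⁻¹) * k₁⁻¹ * (t₁ * t₂ * t₁⁻¹)⁻¹) *
      ((t₁ * t₂ * t₁⁻¹ * t₂⁻¹) * k₂⁻¹ * (t₁ * t₂ * t₁⁻¹ * t₂⁻¹)⁻¹) *
      (t₁ * t₂ * t₁⁻¹ * t₂⁻¹) := by
    rw [commutatorElement_def]; group
  rw [e]
  exact (K ⊔ ⁅T, T⁆).mul_mem (le_sup_left (a := K) (K.mul_mem (K.mul_mem (K.mul_mem hk₁
    (hconj t₁ ht₁ k₂ hk₂)) (hconj _ huT _ (K.inv_mem hk₁))) (hconj _ hcT _ (K.inv_mem hk₂))))
    (le_sup_right (a := K) hcT')

theorem commutator_mul_central_left {x y z : G} (hzy : z * y = y * z) :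
    (x * z) * y * (x * z)⁻¹ * y⁻¹ = x * y * x⁻¹ * y⁻¹ := by
  have : (x * z) * y * (x * z)⁻¹ * y⁻¹ = x * (z * y) * z⁻¹ * x⁻¹ * y⁻¹ := by group
  rw [this, hzy]; group

theorem commutator_mul_central_right {x y z : G} (hzx : z * x = x * z) :
    x * (y * z) * x⁻¹ * (y * z)⁻¹ = x * y * x⁻¹ * y⁻¹ := by
  have hzx' : z * x⁻¹ = x⁻¹ * z := by
    have h1 : x⁻¹ * (z * x) * x⁻¹ = x⁻¹ * (x * z) * x⁻¹ := by rw [hzx]
    have e1 : x⁻¹ * (z * x) * x⁻¹ = x⁻¹ * z := by group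
    have e2 : x⁻¹ * (x * z) * x⁻¹ = z * x⁻¹ := by group
    rw [e1, e2] at h1; exact h1.symm
  have : x * (y * z) * x⁻¹ * (y * z)⁻¹ = x * y * (z * x⁻¹) * z⁻¹ * y⁻¹ := by group
  rw [this, hzx']; group

/-- In the rank two structure `T = P₁ ∘ P₂`, the derived subgroup is central. -/
theorem commutator_le_centralizer_of_central_product {p : ℕ} [Fact p.Prime]
    {T P₁ P₂ : Subgroup G} (hsup : P₁ ⊔ P₂ = T)
    (hcomm : ∀ a ∈ P₁, ∀ b ∈ P₂, a * b = b * a) (hna : ¬ IsMulCommutative P₁)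
    (hc : Nat.card P₁ = p ^ 3) (hcyc : IsCyclic P₂) : ⁅T, T⁆ ≤ centralizer (T : Set G) := by
  have hP₂comm : ∀ a ∈ P₂, ∀ b ∈ P₂, a * b = b * a := by
    intro a ha b hb
    have := (IsCyclic.commGroup (α := P₂)).mul_comm ⟨a, ha⟩ ⟨b, hb⟩
    exact congrArg (fun t : P₂ => (t : G)) this
  have hfac : ∀ x ∈ T, ∃ a ∈ P₁, ∃ b ∈ P₂, x = a * b := fun x hx =>
    Cfsg.Agent.Lib.Helper8.mem_sup_of_commute hcomm (hsup ▸ hx)
  -- elements of `P₂` are central in `T`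
  have hP₂cen : ∀ z ∈ P₂, ∀ x ∈ T, z * x = x * z := by
    intro z hz x hx
    obtain ⟨a, ha, b, hb, rfl⟩ := hfac x hx
    calc z * (a * b) = (z * a) * b := by group
      _ = (a * z) * b := by rw [(hcomm a ha z hz).symm]
      _ = a * (z * b) := by group
      _ = a * (b * z) := by rw [hP₂comm z hz b hb]
      _ = a * b * z := by group
  have hP₁T : P₁ ≤ T := hsup ▸ le_sup_left
  have hP₂T : P₂ ≤ T := hsup ▸ le_sup_right
  rw [Subgroup.commutator_le]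
  intro g₁ hg₁ g₂ hg₂
  obtain ⟨a₁, ha₁, a₂, ha₂, rfl⟩ := hfac g₁ hg₁
  obtain ⟨b₁, hb₁, b₂, hb₂, rfl⟩ := hfac g₂ hg₂
  rw [commutatorElement_def,
    commutator_mul_central_left (hP₂cen a₂ ha₂ _ (T.mul_mem (hP₁T hb₁) (hP₂T hb₂))),
    commutator_mul_central_right (hP₂cen b₂ hb₂ _ (hP₁T ha₁))]
  have hZ := commutator_mem_inf_centralizer_of_card_cube hc hna ha₁ hb₁
  rw [Subgroup.mem_centralizer_iff]
  intro x hx
  obtain ⟨a, ha, b, hb, rfl⟩ := hfac x hx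
  set c := a₁ * b₁ * a₁⁻¹ * b₁⁻¹ with hcdef
  have hca : c * a = a * c := comm_of_mem_center hZ ha
  have hcb : c * b = b * c := hcomm c hZ.1 b hb
  calc a * b * c = a * (b * c) := by group
    _ = a * (c * b) := by rw [hcb]
    _ = (a * c) * b := by group
    _ = (c * a) * b := by rw [hca]
    _ = c * (a * b) := by group

end Cfsg.Agent.Lib.Helper9.BGCentSig
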