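/-
helper9: Bender–Glauberman Lemma 12.8 (S1423), main assembly.
-/
import Mathlib
import Cfsg.Prelude
import Cfsg.Agent.Lib.Helper9.BGCentSig

set_option autoImplicit false
set_option linter.unusedSectionVars false
set_option linter.style.haveILetI false

namespace Cfsg.Agent.Lib.Helper9.BGCentSig

open Subgroup
open Cfsg.Agent.Lib.Helper8 (mem_map_conj conj_mem_map_conj map_conj_map_conj map_conj_one
  map_conj_le_iff map_conj_eq_iff card_map_conj mem_normalizer_iff_map_conj)
open Cfsg.Agent.Lib.Helper4 (elemAb_comm elemAb_of_comm elemAb_sup elemAb_map elemAb_zpowers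
  elemAb_comap_injective)
open Cfsg.Agent.Lib.Helper9.BGNonab
open scoped commutatorElement

variable {G : Type*} [Group G]

/-- From a uniqueness subgroup `B ≤ M ∩ C_G(Y)`: `M` is the unique maximal subgroup over
`C_G(Y)`. -/
theorem centralizer_uniq_of_inUniqueMaximal [Finite G] (hG : Cfsg.IsMinSimpleOddOrder G)
    {M B Y : Subgroup G} (hM : IsCoatom M) (hBM : B ≤ M) (hB : Cfsg.InUniqueMaximal B)
    (hBY : B ≤ centralizer (Y : Set G)) (hY : Y ≠ ⊥) :
    centralizer (Y : Set G) ≤ M ∧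
      ∀ L : Subgroup G, IsCoatom L → centralizer (Y : Set G) ≤ L → L = M := by
  obtain ⟨M₀, ⟨hM₀, hBM₀⟩, huniq⟩ := hB
  have hMM₀ : M = M₀ := huniq M ⟨hM, hBM⟩
  have huniq' : ∀ L : Subgroup G, IsCoatom L → centralizer (Y : Set G) ≤ L → L = M :=
    fun L hL hCL => (huniq L ⟨hL, hBY.trans hCL⟩).trans hMM₀.symm
  have hne : centralizer (Y : Set G) ≠ ⊤ := by
    obtain ⟨y₀, hy₀, hy₀1⟩ := (Subgroup.ne_bot_iff_exists_ne_one (H := Y)).mp hY |>.imp
      (fun y hy => hy) |> fun ⟨y, hy⟩ => (⟨(y : G), y.2, fun h => hy (Subtype.ext h)⟩ :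
        ∃ y₀ : G, y₀ ∈ Y ∧ y₀ ≠ 1)
    intro htop
    apply Cfsg.Agent.Lib.Helper1.BGX.centralizer_singleton_ne_top hG hy₀1
    rw [eq_top_iff, ← htop]
    exact Subgroup.centralizer_le (by simpa using hy₀)
  obtain ⟨L, hL, hCL⟩ := Cfsg.Agent.Lib.Helper17.BGU.exists_coatom_ge hne
  exact ⟨(huniq' L hL hCL) ▸ hCL, huniq'⟩

/-- Conjugating back by an element of `M`. -/
theorem centralizer_uniq_of_conj {M X : Subgroup G} (hM : IsCoatom M) {y : G} (hy : y ∈ M)
    (h : centralizer ((X.map (MulAut.conj y).toMonoidHom : Subgroup G) : Set G) ≤ M ∧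
      ∀ L : Subgroup G, IsCoatom L →
        centralizer ((X.map (MulAut.conj y).toMonoidHom : Subgroup G) : Set G) ≤ L → L = M) :
    centralizer (X : Set G) ≤ M ∧
      ∀ L : Subgroup G, IsCoatom L → centralizer (X : Set G) ≤ L → L = M := by
  have hconj : ∀ c ∈ centralizer (X : Set G),
      y * c * y⁻¹ ∈ centralizer ((X.map (MulAut.conj y).toMonoidHom : Subgroup G) : Set G) := by
    intro c hc
    rw [Subgroup.mem_centralizer_iff]
    rintro _ ⟨x, hx, rfl⟩
    have hcx : x * c = c * x := Subgroup.mem_centralizer_iff.mp hc x hx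
    simp only [MulEquiv.toMonoidHom_eq_coe, MonoidHom.coe_coe, MulAut.conj_apply]
    calc y * x * y⁻¹ * (y * c * y⁻¹) = y * (x * c) * y⁻¹ := by group
      _ = y * (c * x) * y⁻¹ := by rw [hcx]
      _ = y * c * y⁻¹ * (y * x * y⁻¹) := by group
  have hconj' : ∀ c ∈ centralizer ((X.map (MulAut.conj y).toMonoidHom : Subgroup G) : Set G),
      y⁻¹ * c * y ∈ centralizer (X : Set G) := by
    intro c hc
    rw [Subgroup.mem_centralizer_iff]
    intro x hx
    have hcx : (y * x * y⁻¹) * c = c * (y * x * y⁻¹) :=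
      Subgroup.mem_centralizer_iff.mp hc _ (conj_mem_map_conj hx)
    calc x * (y⁻¹ * c * y) = y⁻¹ * ((y * x * y⁻¹) * c) * y := by group
      _ = y⁻¹ * (c * (y * x * y⁻¹)) * y := by rw [hcx]
      _ = y⁻¹ * c * y * x := by group
  constructor
  · intro c hc
    have h1 := h.1 (hconj c hc)
    have h2 := M.mul_mem (M.mul_mem (M.inv_mem hy) h1) hy
    have e : y⁻¹ * (y * c * y⁻¹) * y = c := by group
    rwa [e] at h2
  · intro L hL hCL
    have hL' : IsCoatom (L.map (MulAut.conj y).toMonoidHom) :=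
      Cfsg.Agent.Lib.Helper17.BGU.isCoatom_map_conj y hL
    have h1 : L.map (MulAut.conj y).toMonoidHom = M := by
      apply h.2 _ hL'
      intro c hc
      rw [mem_map_conj]
      exact hCL (hconj' c hc)
    have h2 : L = M.map (MulAut.conj y⁻¹).toMonoidHom := map_conj_eq_iff.mp h1
    rw [h2]
    ext x
    rw [mem_map_conj, inv_inv]
    constructor
    · intro hx
      have := M.mul_mem (M.mul_mem (M.inv_mem hy) hx) hy
      have e : y⁻¹ * (y * x * y⁻¹) * y = x := by group
      rwa [e] at this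
    · intro hx
      exact M.mul_mem (M.mul_mem hy hx) (M.inv_mem hy)

end Cfsg.Agent.Lib.Helper9.BGCentSig
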