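/-
helper9: Bender–Glauberman Lemma 12.8 (S1423), final theorem (earlier results as hypotheses).
-/
import Mathlib
import Cfsg.Prelude
import Cfsg.Agent.Lib.Helper9.BGCentSigB

set_option autoImplicit false
set_option linter.unusedSectionVars false
set_option linter.style.haveILetI false

namespace Cfsg.Agent.Lib.Helper9.BGCentSig

open Subgroup
open Cfsg.Agent.Lib.Helper8 (mem_map_conj conj_mem_map_conj map_conj_map_conj map_conj_one
  map_conj_le_iff map_conj_eq_iff card_map_conj mem_normalizer_iff_map_conj)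
open Cfsg.Agent.Lib.Helper4 (elemAb_comm elemAb_of_comm elemAb_sup elemAb_map elemAb_zpowers
  elemAb_comap_injective)
open Cfsg.Agent.Lib.Helper9.BGNonab
open scoped commutatorElement

variable {G : Type*} [Group G]

/-- Step I: conjugate `X` into `T` (and into `T'` when `p ∉ β(M)`). -/
theorem exists_conj_le_sylow_commutator [Finite G] {M : Subgroup G} {p : ℕ} [Fact p.Prime]
    (T : Sylow p G) (hTMs : (T : Subgroup G) ≤ Cfsg.sigmaCore M)
    (h1414 : p ∉ Cfsg.beta M → Cfsg.HasNormalPComplement p ↥(Cfsg.sigmaCore M))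
    (X : Subgroup G) (hXM : X ≤ M) (hX : Nat.card X = p)
    (h : p ∈ Cfsg.beta M ∨ X ≤ ⁅Cfsg.sigmaCore M, Cfsg.sigmaCore M⁆) :
    ∃ y ∈ M, X.map (MulAut.conj y).toMonoidHom ≤ (T : Subgroup G) ∧
      (p ∈ Cfsg.beta M ∨
        X.map (MulAut.conj y).toMonoidHom ≤ ⁅(T : Subgroup G), (T : Subgroup G)⁆) := by
  have hpp : p.Prime := Fact.out
  have hMsM : Cfsg.sigmaCore M ≤ M := Cfsg.Agent.Lib.Helper2.BGCor.sigmaCore_le M
  have hTM : (T : Subgroup G) ≤ M := hTMs.trans hMsM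
  have hXp : IsPGroup p X := IsPGroup.of_card (n := 1) (by rw [hX, pow_one])
  by_cases hβ : p ∈ Cfsg.beta M
  · obtain ⟨m, hm, hconj⟩ := Cfsg.Agent.Lib.Helper1.BGX.exists_conj_le_sylow_in T hTM hXp hXM
    refine ⟨m, hm, ?_, Or.inl hβ⟩
    rintro _ ⟨x, hx, rfl⟩
    simpa using hconj x hx
  · have hX' : X ≤ ⁅Cfsg.sigmaCore M, Cfsg.sigmaCore M⁆ := h.resolve_left hβ
    have hXn : M ≤ normalizer ((Cfsg.sigmaCore M : Subgroup G) : Set G) :=
      Cfsg.Agent.Lib.Helper23.BGY.le_normalizer_sigmaCore M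
    obtain ⟨K, hKMs, hKn, hKc, hKS⟩ := exists_invariant_pcompl hXn (h1414 hβ) T hTMs
    have hder : ⁅Cfsg.sigmaCore M, Cfsg.sigmaCore M⁆ ≤ K ⊔ ⁅(T : Subgroup G), (T : Subgroup G)⁆ :=
      commutator_le_sup_of_factor hTMs (hMsM.trans hKn) hKS
    set T' : Subgroup G := ⁅(T : Subgroup G), (T : Subgroup G)⁆ with hT'
    have hT'T : T' ≤ (T : Subgroup G) := Cfsg.Agent.Lib.Helper23.BGY.commutator_self_le _
    have hT'p : IsPGroup p T' := T.isPGroup'.to_le hT'T
    have hT'K : T' ≤ normalizer (K : Set G) := (hT'T.trans hTM).trans hKn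
    -- `T'` is a Sylow `p`-subgroup of `K T'`
    have hidx : ¬ p ∣ T'.relIndex (K ⊔ T') := by
      have h1 := Cfsg.Agent.Lib.Helper4.card_sup_mul_card_inf T' K hT'K
      have hinf : T' ⊓ K = ⊥ := by
        obtain ⟨e, he⟩ := IsPGroup.iff_card.mp hT'p
        apply Subgroup.inf_eq_bot_of_coprime
        rw [he]
        exact (hKc.pow_right e).symm
      rw [hinf, Subgroup.card_bot, mul_one] at h1
      have h2 : Nat.card T' * T'.relIndex (K ⊔ T') = Nat.card ↥(K ⊔ T') :=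
        Cfsg.Agent.Lib.Helper4.card_mul_relIndex le_sup_right
      rw [sup_comm] at h1
      rw [h1] at h2
      have h3 : T'.relIndex (K ⊔ T') = Nat.card K :=
        Nat.eq_of_mul_eq_mul_left Nat.card_pos h2
      rw [h3]
      exact fun hd => hpp.one_lt.ne' (Nat.dvd_one.mp (hKc ▸ Nat.dvd_gcd hd dvd_rfl))
    obtain ⟨y, hy, hyX⟩ := Cfsg.Agent.Lib.Helper9.BGSigEmb.exists_conj_le_of_not_dvd_relIndex
      hT'p hidx hXp (hX'.trans hder)
    have hyM : y ∈ M := by
      have : K ⊔ T' ≤ M := sup_le (hKMs.trans hMsM) (hT'T.trans hTM)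
      exact this hy
    have hle : X.map (MulAut.conj y).toMonoidHom ≤ T' := by
      rintro _ ⟨x, hx, rfl⟩
      simpa using hyX x hx
    exact ⟨y, hyM, hle.trans hT'T, Or.inr hle⟩

end Cfsg.Agent.Lib.Helper9.BGCentSig
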