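/-
helper9: Bender–Glauberman Lemma 12.8 (S1423), final theorem (earlier results as hypotheses).
-/
import Mathlib
import Cfsg.Prelude
import Cfsg.Agent.Lib.Helper9.BGCentSigC

set_option autoImplicit false
set_option linter.unusedSectionVars false
set_option linter.style.haveILetI false

namespace Cfsg.Agent.Lib.Helper9.BGCentSig

open Subgroup
open Cfsg.Agent.Lib.Helper8 (mem_map_conj conj_mem_map_conj map_conj_map_conj map_conj_one
  map_conj_le_iff map_conj_eq_iff card_map_conj mem_normalizer_iff_map_conj)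
open Cfsg.Agent.Lib.Helper4 (elemAb_comm elemAb_of_comm elemAb_sup elemAb_map elemAb_zpowers
  elemAb_comap_injective)
open Cfsg.Agent.Lib.Helper9.BGNonab
open scoped commutatorElement

variable {G : Type*} [Group G]

/-- Step II, rank at least 3: a big elementary abelian subgroup of `T ∩ C_G(Y)`. -/
theorem exists_elemAb_le_centralizer [Finite G] (hG : Cfsg.IsMinSimpleOddOrder G)
    {p : ℕ} [Fact p.Prime] (T : Sylow p G) (hr : ¬ Cfsg.PRankLE p 2 ↥(T : Subgroup G))
    (Y : Subgroup G) (hYT : Y ≤ (T : Subgroup G)) (hY : Nat.card Y = p)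
    (h : Cfsg.IsIdealPrime p G ∨ Y ≤ ⁅(T : Subgroup G), (T : Subgroup G)⁆) :
    ∃ B : Subgroup G, B ≤ (T : Subgroup G) ∧ Cfsg.IsElementaryAbelian p B ∧
      p ^ 2 < Nat.card B ∧ B ≤ centralizer (Y : Set G) := by
  have hpp : p.Prime := Fact.out
  have hp2 : p ≠ 2 := by
    have hodd := hG.1
    have hdvd : p ∣ Nat.card G := by
      have h1 : Nat.card Y ∣ Nat.card G := Subgroup.card_subgroup_dvd_card Y
      rwa [hY] at h1
    rintro rfl
    exact (Nat.not_even_iff_odd.mpr hodd) (even_iff_two_dvd.mpr hdvd)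
  set Y' : Subgroup ↥(T : Subgroup G) := Y.subgroupOf (T : Subgroup G) with hY'
  have hY'card : Nat.card Y' = p := by
    rw [hY', Nat.card_congr (Subgroup.subgroupOfEquivOfLe hYT).toEquiv, hY]
  have hcase : Y' ≤ commutator ↥(T : Subgroup G) ∨
      ∀ A : Subgroup ↥(T : Subgroup G), Cfsg.IsElementaryAbelian p A → Nat.card A = p ^ 2 →
        ∃ B : Subgroup ↥(T : Subgroup G), Cfsg.IsElementaryAbelian p B ∧ A < B := by
    rcases h with hid | hYc
    · right
      intro A hAel hAcard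
      obtain ⟨B, hBT, hBel, hAB⟩ := hid.2.2 T (A.map (T : Subgroup G).subtype)
        (Subgroup.map_subtype_le _) (elemAb_map _ hAel)
        (by rw [Subgroup.card_map_of_injective (T : Subgroup G).subtype_injective, hAcard])
      refine ⟨B.subgroupOf (T : Subgroup G),
        elemAb_comap_injective _ (T : Subgroup G).subtype_injective hBel, ?_⟩
      constructor
      · intro a ha
        rw [Subgroup.mem_subgroupOf]
        exact hAB.le ⟨a, ha, rfl⟩
      · intro hle
        apply hAB.not_ge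
        intro b hb
        have : (⟨b, hBT hb⟩ : ↥(T : Subgroup G)) ∈ A := hle (Subgroup.mem_subgroupOf.mpr hb)
        exact ⟨⟨b, hBT hb⟩, this, rfl⟩
    · left
      intro y hy
      have h1 : (y : G) ∈ ⁅(T : Subgroup G), (T : Subgroup G)⁆ := hYc (Subgroup.mem_subgroupOf.mp hy)
      rw [← Subgroup.map_subtype_commutator] at h1
      obtain ⟨y', hy', hyy'⟩ := h1
      have : y' = y := Subtype.ext hyy'
      rw [← this]; exact hy'
  obtain ⟨B', hB'el, hB'card, hB'Y⟩ :=
    Cfsg.Agent.Lib.Helper9.BGCentRank.exists_elemAb_centralizer p hp2 T.isPGroup' hr Y' hY'card hcase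
  refine ⟨B'.map (T : Subgroup G).subtype, Subgroup.map_subtype_le _, elemAb_map _ hB'el, ?_, ?_⟩
  · rw [Subgroup.card_map_of_injective (T : Subgroup G).subtype_injective]; exact hB'card
  · rintro _ ⟨b, hb, rfl⟩
    rw [Subgroup.mem_centralizer_iff]
    intro y hy
    have h1 := Subgroup.mem_centralizer_iff.mp (hB'Y hb) ⟨y, hYT hy⟩
      (Subgroup.mem_subgroupOf.mpr hy)
    exact congrArg (fun t : ↥(T : Subgroup G) => (t : G)) h1

/-- **B & G Lemma 12.8**, with the earlier results as hypotheses. -/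
theorem sigma_order_p_centralizer [Finite G] (hG : Cfsg.IsMinSimpleOddOrder G)
    (hUT : Cfsg.Agent.Lib.Helper1.BGX.UT G)
    {M : Subgroup G} (hM : IsCoatom M) {p : ℕ} [Fact p.Prime] (hp : p ∈ Cfsg.sigma M)
    (hHallG : Cfsg.IsPiHall (Cfsg.sigma M) (Cfsg.sigmaCore M))
    (h1412 : ∀ P : Sylow p G, Cfsg.PRankLE p 2 (P : Subgroup G) →
      IsMulCommutative (P : Subgroup G) ∨ ∃ P₁ P₂ : Subgroup G, P₁ ⊔ P₂ = (P : Subgroup G) ∧
        (∀ a ∈ P₁, ∀ b ∈ P₂, a * b = b * a) ∧
        ¬ IsMulCommutative P₁ ∧ Nat.card P₁ = p ^ 3 ∧ Monoid.exponent P₁ = p ∧ IsCyclic P₂ ∧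
        Subgroup.closure {x : G | x ∈ P₂ ∧ x ^ p = 1} = P₁ ⊓ Subgroup.centralizer (P₁ : Set G))
    (h1414 : p ∉ Cfsg.beta M → Cfsg.HasNormalPComplement p ↥(Cfsg.sigmaCore M))
    (h1422 : ∀ P : Subgroup G, IsPGroup p P → ¬ IsMulCommutative P → Cfsg.InUniqueMaximal P)
    (X : Subgroup G) (hXM : X ≤ M) (hX : Nat.card X = p)
    (P : Sylow p ↥(Cfsg.sigmaCore M))
    (h : p ∈ Cfsg.beta M ∨ X ≤ ⁅Cfsg.sigmaCore M, Cfsg.sigmaCore M⁆) :
    (Subgroup.centralizer (X : Set G) ≤ M ∧
      ∀ L : Subgroup G, IsCoatom L → Subgroup.centralizer (X : Set G) ≤ L → L = M) ∧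
    Cfsg.InUniqueMaximal ((P : Subgroup ↥(Cfsg.sigmaCore M)).map (Cfsg.sigmaCore M).subtype) ∧
      (P : Subgroup ↥(Cfsg.sigmaCore M)).map (Cfsg.sigmaCore M).subtype ≤ M := by
  have hpp : p.Prime := Fact.out
  have hMsM : Cfsg.sigmaCore M ≤ M := Cfsg.Agent.Lib.Helper2.BGCor.sigmaCore_le M
  set P₀ : Subgroup G := (P : Subgroup ↥(Cfsg.sigmaCore M)).map (Cfsg.sigmaCore M).subtype with hP₀
  have hP₀Ms : P₀ ≤ Cfsg.sigmaCore M := Subgroup.map_subtype_le _
  have hP₀p : IsPGroup p P₀ := P.isPGroup'.map _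
  have hidx : ¬ p ∣ P₀.index := by
    rw [← Subgroup.relIndex_mul_index hP₀Ms]
    have h1 : P₀.relIndex (Cfsg.sigmaCore M) = (P : Subgroup ↥(Cfsg.sigmaCore M)).index := by
      unfold Subgroup.relIndex Subgroup.subgroupOf
      rw [hP₀, Subgroup.comap_map_eq_self_of_injective (Cfsg.sigmaCore M).subtype_injective]
    rw [h1]
    intro hd
    rcases (Nat.Prime.dvd_mul hpp).mp hd with h2 | h2
    · exact P.not_dvd_index h2
    · exact hHallG.2 p hpp hp h2
  set T : Sylow p G := hP₀p.toSylow hidx with hT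
  have hTP₀ : (T : Subgroup G) = P₀ := IsPGroup.toSylow_coe hP₀p hidx
  have hTMs : (T : Subgroup G) ≤ Cfsg.sigmaCore M := hTP₀ ▸ hP₀Ms
  have hTM : (T : Subgroup G) ≤ M := hTMs.trans hMsM
  -- Step I
  obtain ⟨y, hyM, hYT, hYc⟩ := exists_conj_le_sylow_commutator T hTMs h1414 X hXM hX h
  set Y : Subgroup G := X.map (MulAut.conj y).toMonoidHom with hY
  have hYcard : Nat.card Y = p := by rw [hY, card_map_conj, hX]
  have hYne : Y ≠ ⊥ := by
    intro hb
    rw [hb, Subgroup.card_bot] at hYcard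
    exact hpp.one_lt.ne hYcard
  -- Step II
  have key : Cfsg.InUniqueMaximal (T : Subgroup G) ∧
      ∃ B : Subgroup G, B ≤ (T : Subgroup G) ∧ Cfsg.InUniqueMaximal B ∧
        B ≤ centralizer (Y : Set G) := by
    by_cases hr : Cfsg.PRankLE p 2 ↥(T : Subgroup G)
    · -- rank at most 2
      have hrankG : Cfsg.PRankLE p 2 G := by
        apply Cfsg.Agent.Lib.Helper17.BGU.pRankLE_of_sylow T
        intro E hET hEc hEp
        exact Cfsg.Agent.Lib.Helper1.BGX.card_le_of_pRankLE ⟨hEc, hEp⟩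
          (Cfsg.Agent.Lib.Helper17.pRankLE_of_le hET hr)
      have hβ : p ∉ Cfsg.beta M := fun hβ =>
        hβ.1.2 (Cfsg.Agent.Lib.Helper1.BGX.pRankLE_subgroup hrankG M)
      have hYT' : Y ≤ ⁅(T : Subgroup G), (T : Subgroup G)⁆ := hYc.resolve_left hβ
      have hTna : ¬ IsMulCommutative (T : Subgroup G) := by
        intro hab
        apply hYne
        rw [eq_bot_iff]
        refine hYT'.trans ?_
        rw [Subgroup.commutator_le]
        intro a ha b hb
        have := hab.is_comm.comm ⟨a, ha⟩ ⟨b, hb⟩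
        have h2 : a * b = b * a := congrArg (fun t : ↥(T : Subgroup G) => (t : G)) this
        rw [Subgroup.mem_bot, commutatorElement_def, h2]; group
      have hTU := h1422 T T.isPGroup' hTna
      refine ⟨hTU, T, le_rfl, hTU, ?_⟩
      rcases h1412 T hr with hab | ⟨P₁, P₂, hsup, hcomm, hna, hc, -, hcyc, -⟩
      · exact absurd hab hTna
      · have h1 := commutator_le_centralizer_of_central_product hsup hcomm hna hc hcyc
        intro t ht
        rw [Subgroup.mem_centralizer_iff]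
        intro y' hy'
        exact (Subgroup.mem_centralizer_iff.mp (h1 (hYT' hy')) t ht).symm
    · -- rank at least 3
      have hTtop := Cfsg.Agent.Lib.Helper1.BGX.sylow_ne_top hG T
      have hTU : Cfsg.InUniqueMaximal (T : Subgroup G) :=
        hUT T hTtop
          (fun h => hr (Cfsg.Agent.Lib.Helper1.BGX.pRankLE_mono hpp.pos (by norm_num) (h p hpp)))
          (Or.inl (fun h => hr (h p hpp)))
      obtain ⟨B, hBT, hBel, hBcard, hBY⟩ := exists_elemAb_le_centralizer hG T hr Y hYT hYcard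
        (hYc.imp (fun hβ => hβ.2) id)
      refine ⟨hTU, B, hBT, ?_, hBY⟩
      have hBtop : B ≠ ⊤ := fun h => hTtop (top_le_iff.mp (h ▸ hBT))
      have hBcomm := elemAb_comm hBel
      have hnr2 : ¬ Cfsg.PRankLE p 2 ↥B :=
        Cfsg.Agent.Lib.Helper17.BGU.not_pRankLE_of_elemAb le_rfl hBcomm hBel.2 hBcard
      exact hUT B hBtop
        (fun h => hnr2 (Cfsg.Agent.Lib.Helper1.BGX.pRankLE_mono hpp.pos (by norm_num) (h p hpp)))
        (Or.inl (fun h => hnr2 (h p hpp)))
  obtain ⟨hTU, B, hBT, hBU, hBY⟩ := key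
  refine ⟨?_, hTP₀ ▸ hTU, hP₀Ms.trans hMsM⟩
  apply centralizer_uniq_of_conj hM hyM
  exact centralizer_uniq_of_inUniqueMaximal hG hM (hBT.trans hTM) hBU hBY hYne

end Cfsg.Agent.Lib.Helper9.BGCentSig
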