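/-
helper9: Bender–Glauberman Lemma 12.11/12.12 material (S1426): for a complement `E` of `M_σ` in `M`,
`[M_σ, E] = M_σ` and `C_{M_σ}(E) ≤ (M_σ)'`.
-/
import Mathlib
import Cfsg.Prelude
import Cfsg.Agent.Lib.Helper1.PrimeIndexCent
import Cfsg.Agent.Lib.Helper8.SupNormalizer
import Cfsg.Agent.Lib.Helper8.Conj
import Cfsg.Agent.Lib.Helper9.TypeP

set_option autoImplicit false
set_option linter.unusedSectionVars false
set_option linter.style.haveILetI false

namespace Cfsg.Agent.Lib.Helper9.BGSigAct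

open Subgroup
open Cfsg.Agent.Lib.Helper8 (mem_map_conj conj_mem_map_conj map_conj_map_conj map_conj_one
  map_conj_le_iff map_conj_eq_iff card_map_conj mem_normalizer_iff_map_conj)
open scoped commutatorElement

/-- A normal subgroup `L` of a solvable group `X` with `X = L X'` is all of `X`. -/
theorem eq_top_of_forall_mul_commutator {X : Type*} [Group X] [Group.IsSolvable X]
    (L : Subgroup X) [L.Normal]
    (h : ∀ x : X, ∃ l ∈ L, ∃ c ∈ commutator X, x = l * c) : L = ⊤ := by
  by_contra hne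
  haveI : Nontrivial (X ⧸ L) := by
    rw [← not_subsingleton_iff_nontrivial]
    intro hs
    apply hne
    rw [eq_top_iff]
    intro x _
    have : (QuotientGroup.mk x : X ⧸ L) = 1 := Subsingleton.elim _ _
    exact (QuotientGroup.eq_one_iff x).mp this
  have hlt := Group.IsSolvable.commutator_lt_top_of_nontrivial (X ⧸ L)
  apply hlt.ne
  rw [eq_top_iff]
  intro q _
  obtain ⟨x, rfl⟩ := QuotientGroup.mk_surjective q
  obtain ⟨l, hl, c, hc, rfl⟩ := h x
  have h1 : (QuotientGroup.mk (l * c) : X ⧸ L) = QuotientGroup.mk c := by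
    rw [QuotientGroup.mk_mul, (QuotientGroup.eq_one_iff l).mpr hl, one_mul]
  rw [h1]
  have h2 : (QuotientGroup.mk' L) c ∈ (commutator X).map (QuotientGroup.mk' L) :=
    Subgroup.mem_map_of_mem _ hc
  rw [commutator_def, Subgroup.map_commutator] at h2
  refine Subgroup.commutator_mono le_top le_top h2

variable {G : Type*} [Group G]

/-- `[A, E] = A` when `M = E A`, `A ⊴ M`, `A ∩ E = 1`, `A ≤ M'` and `M` is solvable. -/
theorem commutator_compl_eq [Finite G] {A E M : Subgroup G} (hc : Cfsg.IsComplIn E A M)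
    (hAn : M ≤ normalizer (A : Set G)) (hAder : A ≤ ⁅M, M⁆) (hsolv : Group.IsSolvable ↥M) :
    ⁅A, E⁆ = A := by
  obtain ⟨hEM, hAM, hEA, hprod⟩ := hc
  set N : Subgroup G := ⁅A, E⁆ with hN
  have hconjA : ∀ m ∈ M, ∀ a ∈ A, m * a * m⁻¹ ∈ A := fun m hm a ha =>
    (Subgroup.mem_normalizer_iff.mp (hAn hm) a).mp ha
  -- `N ≤ A`
  have hNA : N ≤ A := by
    rw [hN, Subgroup.commutator_le]
    intro a ha e he
    rw [commutatorElement_def]
    have h1 : e * a⁻¹ * e⁻¹ ∈ A := hconjA e (hEM he) _ (A.inv_mem ha)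
    have e1 : a * e * a⁻¹ * e⁻¹ = a * (e * a⁻¹ * e⁻¹) := by group
    rw [e1]; exact A.mul_mem ha h1
  -- `E` normalizes `N`
  have hEN : E ≤ normalizer (N : Set G) := by
    intro e he
    rw [mem_normalizer_iff_map_conj, hN, Subgroup.map_commutator]
    congr 1
    · exact mem_normalizer_iff_map_conj.mp (hAn (hEM he))
    · exact mem_normalizer_iff_map_conj.mp (Subgroup.le_normalizer he)
  -- `A` normalizes `N`
  have hAN : A ≤ normalizer (N : Set G) := by
    intro b hb
    apply Cfsg.Agent.Lib.Helper1.mem_normalizer_of_forall_conj_mem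
    intro n hn
    have hle : N.map (MulAut.conj b).toMonoidHom ≤ N := by
      rw [hN, Subgroup.commutator_def, MonoidHom.map_closure, Subgroup.closure_le]
      rintro _ ⟨_, ⟨a, ha, e, he, rfl⟩, rfl⟩
      have h1 : ⁅b * a, e⁆ ∈ ⁅A, E⁆ := Subgroup.commutator_mem_commutator (A.mul_mem hb ha) he
      have h2 : ⁅b, e⁆ ∈ ⁅A, E⁆ := Subgroup.commutator_mem_commutator hb he
      have e1 : (MulAut.conj b).toMonoidHom ⁅a, e⁆ = ⁅b * a, e⁆ * ⁅b, e⁆⁻¹ := by
        simp only [MulEquiv.toMonoidHom_eq_coe, MonoidHom.coe_coe, MulAut.conj_apply,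
          commutatorElement_def]
        group
      rw [e1, ← Subgroup.commutator_def]
      exact (⁅A, E⁆).mul_mem h1 ((⁅A, E⁆).inv_mem h2)
    exact hle (conj_mem_map_conj hn)
  -- `M` normalizes `L = N E`
  set L : Subgroup G := N ⊔ E with hL
  have hfacL : ∀ x ∈ L, ∃ n ∈ N, ∃ e ∈ E, x = n * e := fun x hx =>
    Cfsg.Agent.Lib.Helper8.mem_sup_of_le_normalizer hEN hx
  have hML : M ≤ normalizer (L : Set G) := by
    intro m hm
    obtain ⟨e, he, b, hb, rfl⟩ := hprod m hm
    apply Subgroup.mul_mem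
    · -- `e ∈ E` normalizes `N ⊔ E`
      apply Cfsg.Agent.Lib.Helper1.mem_normalizer_of_forall_conj_mem
      intro x hx
      obtain ⟨n, hn, e', he', rfl⟩ := hfacL x hx
      have e1 : e * (n * e') * e⁻¹ = (e * n * e⁻¹) * (e * e' * e⁻¹) := by group
      rw [e1]
      exact L.mul_mem (le_sup_left (a := N) ((Subgroup.mem_normalizer_iff.mp (hEN he) n).mp hn))
        (le_sup_right (a := N) (E.mul_mem (E.mul_mem he he') (E.inv_mem he)))
    · -- `b ∈ A` normalizes `N ⊔ E`
      apply Cfsg.Agent.Lib.Helper1.mem_normalizer_of_forall_conj_mem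
      intro x hx
      obtain ⟨n, hn, e', he', rfl⟩ := hfacL x hx
      have e1 : b * (n * e') * b⁻¹ = (b * n * b⁻¹) * (⁅b, e'⁆ * e') := by
        rw [commutatorElement_def]; group
      rw [e1]
      exact L.mul_mem (le_sup_left (a := N) ((Subgroup.mem_normalizer_iff.mp (hAN hb) n).mp hn))
        (L.mul_mem (le_sup_left (a := N) (Subgroup.commutator_mem_commutator hb he'))
          (le_sup_right (a := N) he'))
  have hLM : L ≤ M := sup_le (hNA.trans hAM) hEM
  -- `M = L`
  haveI : (L.subgroupOf M).Normal := (Subgroup.normal_subgroupOf_iff_le_normalizer hLM).mpr hML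
  haveI := hsolv
  have htop : L.subgroupOf M = ⊤ := by
    apply eq_top_of_forall_mul_commutator
    rintro ⟨m, hm⟩
    obtain ⟨e, he, b, hb, rfl⟩ := hprod m hm
    have hb' : b ∈ (commutator ↥M).map M.subtype := by
      rw [Subgroup.map_subtype_commutator]; exact hAder hb
    obtain ⟨b', hb'c, hb'b⟩ := hb'
    refine ⟨⟨e, hEM he⟩, Subgroup.mem_subgroupOf.mpr (le_sup_right (a := N) he), b', hb'c, ?_⟩
    apply Subtype.ext
    show e * b = e * (b' : G)
    rw [← hb'b]; rfl
  have hML' : M ≤ L := by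
    intro m hm
    have : (⟨m, hm⟩ : ↥M) ∈ L.subgroupOf M := by rw [htop]; exact Subgroup.mem_top _
    exact Subgroup.mem_subgroupOf.mp this
  -- Dedekind
  apply le_antisymm hNA
  intro a ha
  obtain ⟨n, hn, e, he, rfl⟩ := hfacL a (hML' (hAM ha))
  have heA : e ∈ A := by
    have : e = n⁻¹ * (n * e) := by group
    rw [this]; exact A.mul_mem (A.inv_mem (hNA hn)) ha
  have he1 : e = 1 := by
    have : e ∈ E ⊓ A := ⟨he, heA⟩
    rwa [hEA, Subgroup.mem_bot] at this
  rw [he1, mul_one]; exact hn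

/-- `C_A(E) ≤ A'` when `[A, E] = A` and the action is coprime. -/
theorem inf_centralizer_le_commutator [Finite G] {A E : Subgroup G}
    (hEA : E ≤ normalizer (A : Set G)) (hcop : (Nat.card E).Coprime (Nat.card A))
    (hcomm : ⁅A, E⁆ = A) : A ⊓ centralizer (E : Set G) ≤ ⁅A, A⁆ := by
  rintro c ⟨hcA, hcE⟩
  have := Cfsg.Agent.Lib.Helper1.mem_commutator_of_mem_centralizer E A hEA hcop hcomm ⟨c, hcA⟩ hcE
  rw [← Subgroup.map_subtype_commutator]
  exact ⟨⟨c, hcA⟩, this, rfl⟩

end Cfsg.Agent.Lib.Helper9.BGSigAct
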