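/-
helper9: Bender–Glauberman Lemma 12.12-type statement (S1426, third part): for `g ∉ M`,
`M_σ ∩ M^g` is cyclic, has no prime divisor in `β(M)`, and meets `(M_σ)'` trivially.
Earlier results (10.1(a), 12.6(c), 12.8) enter as hypotheses.
-/
import Mathlib
import Cfsg.Prelude
import Cfsg.Agent.Lib.Helper9.BGSigAct
import Cfsg.Agent.Lib.Helper1.Noncyclic
import Cfsg.Agent.Lib.Helper8.Factorization
import Cfsg.Agent.Lib.Helper4.ElemAb
import Cfsg.Agent.Lib.Helper2.BGCorA

set_option autoImplicit false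
set_option linter.unusedSectionVars false
set_option linter.style.haveILetI false

namespace Cfsg.Agent.Lib.Helper9.BGSigAct

open Subgroup
open Cfsg.Agent.Lib.Helper8 (mem_map_conj conj_mem_map_conj map_conj_map_conj map_conj_one
  map_conj_le_iff map_conj_eq_iff card_map_conj mem_normalizer_iff_map_conj)
open Cfsg.Agent.Lib.Helper4 (elemAb_comm elemAb_of_comm elemAb_sup elemAb_map elemAb_zpowers)
open scoped commutatorElement

variable {G : Type*} [Group G]

theorem sigmaCore_inf_conj [Finite G] {M : Subgroup G}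
    (h1404 : ∀ (q : ℕ) [Fact q.Prime], q ∈ Cfsg.sigma M → ∀ X : Subgroup G, IsPGroup q X →
      X ≠ ⊥ → X ≤ M → ∀ g : G, X.map (MulAut.conj g).toMonoidHom ≤ M →
        ∃ m ∈ M, ∃ c ∈ centralizer (X : Set G), g = m * c)
    (h1420c : ∀ (q : ℕ) (P : Subgroup G), q ∈ Cfsg.sigma M → IsPGroup q P → P ≤ M →
      ¬ IsCyclic P → normalizer (P : Set G) ≤ M)
    (h1423 : ∀ (q : ℕ) [Fact q.Prime], q ∈ Cfsg.sigma M → ∀ X : Subgroup G, X ≤ M →
      Nat.card X = q →
      (q ∈ Cfsg.beta M ∨ X ≤ ⁅Cfsg.sigmaCore M, Cfsg.sigmaCore M⁆) → centralizer (X : Set G) ≤ M)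
    (g : G) (hg : g ∉ M) :
    IsCyclic ↥(Cfsg.sigmaCore M ⊓ M.map (MulAut.conj g).toMonoidHom) ∧
      (∀ p : ℕ, p.Prime →
        p ∣ Nat.card ↥(Cfsg.sigmaCore M ⊓ M.map (MulAut.conj g).toMonoidHom) → p ∉ Cfsg.beta M) ∧
      Cfsg.sigmaCore M ⊓ M.map (MulAut.conj g).toMonoidHom ⊓
        ⁅Cfsg.sigmaCore M, Cfsg.sigmaCore M⁆ = ⊥ := by
  set D : Subgroup G := Cfsg.sigmaCore M ⊓ M.map (MulAut.conj g).toMonoidHom with hD
  have hMsM : Cfsg.sigmaCore M ≤ M := Cfsg.Agent.Lib.Helper2.BGCor.sigmaCore_le M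
  have hDM : D ≤ M := inf_le_left.trans hMsM
  -- (3a)
  have hkey : ∀ (q : ℕ) [Fact q.Prime] (X : Subgroup G), X ≤ D → IsPGroup q X → X ≠ ⊥ →
      q ∈ Cfsg.sigma M ∧ ¬ centralizer (X : Set G) ≤ M := by
    intro q _ X hXD hXq hX1
    have hqp : q.Prime := Fact.out
    have hqσ : q ∈ Cfsg.sigma M := by
      apply Cfsg.Agent.Lib.Helper2.BGCor.primes_card_sigmaCore M q hqp
      obtain ⟨k, hk⟩ := IsPGroup.iff_card.mp hXq
      have hk0 : k ≠ 0 := by
        rintro rfl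
        rw [pow_zero] at hk
        exact hX1 (Subgroup.card_eq_one.mp hk)
      have h1 : q ∣ Nat.card X := by rw [hk]; exact dvd_pow_self q hk0
      exact h1.trans (Subgroup.card_dvd_of_le (hXD.trans inf_le_left))
    refine ⟨hqσ, fun hC => hg ?_⟩
    have hXg : X.map (MulAut.conj g⁻¹).toMonoidHom ≤ M := by
      rw [map_conj_le_iff, inv_inv]
      exact hXD.trans inf_le_right
    obtain ⟨m, hm, c, hc, hgm⟩ := h1404 q hqσ X hXq hX1 (hXD.trans hDM) g⁻¹ hXg
    have h2 : g⁻¹ ∈ M := hgm ▸ M.mul_mem hm (hC hc)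
    have := M.inv_mem h2
    rwa [inv_inv] at this
  -- elements of prime order
  have hprime : ∀ (H : Subgroup G), H ≤ D → ∀ p : ℕ, p.Prime → p ∣ Nat.card H →
      ∃ X : Subgroup G, X ≤ H ∧ Nat.card X = p := by
    intro H _ p hp hpd
    haveI : Fact p.Prime := ⟨hp⟩
    obtain ⟨x, hx⟩ := exists_prime_orderOf_dvd_card' p hpd
    refine ⟨zpowers (x : G), ?_, ?_⟩
    · rw [zpowers_le]; exact x.2
    · rw [Nat.card_zpowers, Subgroup.orderOf_coe, hx]
  have hcardX : ∀ (p : ℕ) [Fact p.Prime] (X : Subgroup G), Nat.card X = p →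
      IsPGroup p X ∧ X ≠ ⊥ := by
    intro p _ X hX
    refine ⟨IsPGroup.of_card (n := 1) (by rw [hX, pow_one]), ?_⟩
    intro hb
    rw [hb, Subgroup.card_bot] at hX
    exact (Fact.out : p.Prime).one_lt.ne hX
  -- (3c)
  have hβ : ∀ p : ℕ, p.Prime → p ∣ Nat.card ↥D → p ∉ Cfsg.beta M := by
    intro p hp hpd hpβ
    haveI : Fact p.Prime := ⟨hp⟩
    obtain ⟨X, hXD, hXc⟩ := hprime D le_rfl p hp hpd
    obtain ⟨hXp, hX1⟩ := hcardX p X hXc
    obtain ⟨hpσ, hnot⟩ := hkey p X hXD hXp hX1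
    exact hnot (h1423 p hpσ X (hXD.trans hDM) hXc (Or.inl hpβ))
  -- (3d)
  have hder : D ⊓ ⁅Cfsg.sigmaCore M, Cfsg.sigmaCore M⁆ = ⊥ := by
    by_contra hne
    have hcard : Nat.card ↥(D ⊓ ⁅Cfsg.sigmaCore M, Cfsg.sigmaCore M⁆) ≠ 1 :=
      fun h => hne (Subgroup.card_eq_one.mp h)
    obtain ⟨p, hp, hpd⟩ := Nat.exists_prime_and_dvd hcard
    haveI : Fact p.Prime := ⟨hp⟩
    obtain ⟨X, hXH, hXc⟩ := hprime _ inf_le_left p hp hpd
    obtain ⟨hXp, hX1⟩ := hcardX p X hXc
    have hXD : X ≤ D := hXH.trans inf_le_left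
    obtain ⟨hpσ, hnot⟩ := hkey p X hXD hXp hX1
    exact hnot (h1423 p hpσ X (hXD.trans hDM) hXc (Or.inr (hXH.trans inf_le_right)))
  refine ⟨?_, hβ, hder⟩
  -- (3e) `D` is abelian
  have hcomm : ∀ a ∈ D, ∀ b ∈ D, a * b = b * a := by
    intro a ha b hb
    have h1 : ⁅a, b⁆ ∈ D ⊓ ⁅Cfsg.sigmaCore M, Cfsg.sigmaCore M⁆ := by
      refine ⟨?_, Subgroup.commutator_mem_commutator ha.1 hb.1⟩
      rw [commutatorElement_def]
      exact D.mul_mem (D.mul_mem (D.mul_mem ha hb) (D.inv_mem ha)) (D.inv_mem hb)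
    rw [hder, Subgroup.mem_bot, commutatorElement_eq_one_iff_mul_comm] at h1
    exact h1
  -- (3f) `D` is cyclic
  letI : CommGroup ↥D :=
    { (inferInstance : Group ↥D) with
      mul_comm := fun a b => Subtype.ext (hcomm a a.2 b b.2) }
  by_contra hnc
  obtain ⟨q, hq, a, b, haq, hbq, hb1, hab⟩ := Cfsg.Agent.Lib.Helper1.exists_noncyclic_pair hnc
  haveI : Fact q.Prime := ⟨hq⟩
  have haq' : (a : G) ^ q = 1 := by
    have := congrArg (fun t : ↥D => (t : G)) haq
    simpa using this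
  have hbq' : (b : G) ^ q = 1 := by
    have := congrArg (fun t : ↥D => (t : G)) hbq
    simpa using this
  set X : Subgroup G := zpowers (a : G) ⊔ zpowers (b : G) with hX
  have hXD : X ≤ D := by
    rw [hX]
    exact sup_le (by rw [zpowers_le]; exact a.2) (by rw [zpowers_le]; exact b.2)
  have hXel : Cfsg.IsElementaryAbelian q X := by
    apply elemAb_sup (elemAb_zpowers haq') (elemAb_zpowers hbq')
    intro x hx y hy
    have hxD : x ∈ D := by
      have : zpowers (a : G) ≤ D := by rw [zpowers_le]; exact a.2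
      exact this hx
    have hyD : y ∈ D := by
      have : zpowers (b : G) ≤ D := by rw [zpowers_le]; exact b.2
      exact this hy
    exact hcomm x hxD y hyD
  have hXq : IsPGroup q X := Cfsg.Agent.Lib.Helper4.elemAb_isPGroup hXel
  -- `|X| ≥ q^2`
  have hbord : orderOf (b : G) = q := by
    apply orderOf_eq_prime hbq'
    intro h1
    exact hb1 (Subtype.ext h1)
  have hlt : zpowers (b : G) < X := by
    refine lt_of_le_of_ne le_sup_right ?_
    intro heq
    have ha : (a : G) ∈ zpowers (b : G) := by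
      rw [heq]; exact le_sup_left (a := zpowers (a : G)) (mem_zpowers (a : G))
    -- then `a * b^j = 1` for some `j`
    have ha' : ((a : G))⁻¹ ∈ zpowers (b : G) := (zpowers (b : G)).inv_mem ha
    obtain ⟨j, hj⟩ := (mem_powers_iff_mem_zpowers).mpr ha'
    have hj' : (b : G) ^ j = ((a : G))⁻¹ := hj
    apply hab j
    apply Subtype.ext
    show (a : G) * ((b ^ j : ↥D) : G) = 1
    rw [Subgroup.coe_pow, hj', mul_inv_cancel]
  have hX2 : q ^ 2 ≤ Nat.card X := by
    obtain ⟨k, hk⟩ := IsPGroup.iff_card.mp hXq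
    have hcb : Nat.card (zpowers (b : G)) = q := by rw [Nat.card_zpowers, hbord]
    have hlt' : q < Nat.card X := by
      rw [← hcb]
      by_contra hle
      push Not at hle
      exact hlt.ne (Subgroup.eq_of_le_of_card_ge hlt.le hle)
    rw [hk] at hlt' ⊢
    have hk2 : 2 ≤ k := by
      by_contra hk2
      push Not at hk2
      interval_cases k
      · simp at hlt'
        exact absurd hlt' (by have := hq.one_lt; omega)
      · simp at hlt'
    exact Nat.pow_le_pow_right hq.pos hk2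
  have hXnc : ¬ IsCyclic X := Cfsg.Agent.Lib.Helper8.not_isCyclic_of_elemAb hq hXel hX2
  have hX1 : X ≠ ⊥ := by
    intro hb
    rw [hb, Subgroup.card_bot] at hX2
    have := hq.one_lt
    nlinarith
  obtain ⟨hqσ, hnot⟩ := hkey q X hXD hXq hX1
  exact hnot ((Subgroup.centralizer_le_normalizer _).trans
    (h1420c q X hqσ hXq (hXD.trans hDM) hXnc))

end Cfsg.Agent.Lib.Helper9.BGSigAct
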