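import Mathlib
import Cfsg.Agent.Lib.Helper2.BGCorM
import Cfsg.Agent.Lib.Helper24.BGTen4
import Cfsg.Agent.S1411

/-!
# B & G 13.9: the `σ`-partition (helper9)

`σ(M) ∩ σ(N) ≠ ∅` forces the maximal subgroups `M`, `N` of the minimal simple group `G` of odd order
to be conjugate; and every prime divisor of `|G|` lies in `σ(M)` for some maximal `M`.

Hypothesis form: the statement (U) = B & G 13.6 (`HU`) and B & G 13.12 in the case `Q = Q*`
(`H1312`) are hypotheses, as are the conclusions of S1417, S1418, S1423, S1424 (helper16's `H17n`,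
`H18a`, `H23`, `H24`, helper2's `H23b`).  The argument is the one of helper8 (`msgs` 1441, (R1)):
for non-conjugate `M`, `N` and a common Sylow `q`-subgroup `Q` of `G` with `N_G(Q) ≤ M ∩ N`,
S1411 gives a `p`-subgroup `S_p ≤ N_G(Q)` not centralizing `Q`; by S1414 `p ∉ σ(M) ∪ σ(N)`, by
13.1(a) `p ∈ τ₁(M) ∩ τ₁(N)`; for `P ≤ S_p` of order `p` either `C_Q(P) ≠ 1`, against (U), or
`C_Q(P) = 1`, against 13.12.
-/

set_option autoImplicit false
set_option linter.style.haveILetI false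
open scoped commutatorElement

namespace Cfsg.Agent.Lib.Helper9.BGSigPart

open Cfsg Cfsg.Agent.Lib.Helper1.BGX
open Cfsg.Agent.Lib.Helper8 (mem_map_conj conj_mem_map_conj map_conj_map_conj map_conj_one
  map_conj_le_iff map_conj_eq_iff card_map_conj mem_normalizer_iff_map_conj sylow_smul_coe)
open Cfsg.Agent.Lib.Helper17.BGU (exists_coatom_ge normalizer_ne_top isCoatom_map_conj)
open Cfsg.Agent.Lib.Helper16.BGPrim (H17n H18a H23 H24 thm13_1a mem_sigma_of_sylow sigma_map_conj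
  exists_sylow_eq_of_not_dvd_index le_sigmaCore_of_isPGroup)
open Cfsg.Agent.Lib.Helper2.BGCor (H23b nonconj_symm exists_conj_eq_of_sylow_uniq wp_not_beta
  exists_compl_sigmaCore sigmaCore_le primes_card_sigmaCore)
open Cfsg.Agent.Lib.Helper23.BGY (exists_conj_mem_compl isComplIn_conj le_normalizer_sigmaCore
  le_of_coprime_index_normal)

variable {G : Type*} [Group G]

/-! ### hypotheses -/

/-- Statement (U) = B & G 13.6, in the form delivered by `Helper2.BGCor.thm13_6`. -/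
def HU (G : Type*) [Group G] : Prop :=
  ∀ M : Subgroup G, IsCoatom M → ∀ E : Subgroup G, Cfsg.IsComplIn E (Cfsg.sigmaCore M) M →
    ∀ P : Subgroup G, P ≤ E → ∀ p : ℕ, p ∈ Cfsg.tau1 M → Nat.card P = p →
    ∀ (q : ℕ) [Fact q.Prime] (X : Subgroup G), Nat.card X = q →
    X ≤ Cfsg.sigmaCore M ⊓ Subgroup.centralizer (P : Set G) →
    ∀ S : Sylow q ↥(Cfsg.sigmaCore M),
      Cfsg.InUniqueMaximal
          ((S : Subgroup ↥(Cfsg.sigmaCore M)).map (Cfsg.sigmaCore M).subtype) ∧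
        (S : Subgroup ↥(Cfsg.sigmaCore M)).map (Cfsg.sigmaCore M).subtype ≤ M

/-- B & G 13.12 in the case `Q = Q*`: two non-conjugate maximal subgroups `M`, `N`, a subgroup
`P ≤ M ∩ N` of prime order `p ∈ τ₁(M) ∩ τ₁(N)` and a Sylow `q`-subgroup `Q` of `G` normalized by
`P` with `C_Q(P) = 1` and `N_G(Q) ≤ M ∩ N` cannot exist. -/
def H1312 (G : Type*) [Group G] : Prop :=
  ∀ M N : Subgroup G, IsCoatom M → IsCoatom N →
    (∀ g : G, N ≠ M.map (MulAut.conj g).toMonoidHom) →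
    ∀ p : ℕ, p ∈ Cfsg.tau1 M → p ∈ Cfsg.tau1 N →
    ∀ P : Subgroup G, P ≤ M ⊓ N → Nat.card P = p →
    ∀ (q : ℕ) [Fact q.Prime] (Q : Sylow q G), (Q : Subgroup G) ≤ M ⊓ N →
    P ≤ Subgroup.normalizer ((Q : Subgroup G) : Set G) →
    (Q : Subgroup G) ⊓ Subgroup.centralizer (P : Set G) = ⊥ →
    Subgroup.normalizer ((Q : Subgroup G) : Set G) ≤ M ⊓ N → False

/-! ### group theory -/

/-- In a group with a normal `q`-complement, a `q'`-subgroup normalizing a `q`-subgroup centralizes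
it. -/
theorem le_centralizer_of_normalPComplement {X : Type*} [Group X] [Finite X] {q : ℕ}
    [Fact q.Prime] (h : Cfsg.HasNormalPComplement q X) {Q S : Subgroup X} (hQ : IsPGroup q Q)
    (hS : (Nat.card S).Coprime q) (hSQ : S ≤ Subgroup.normalizer (Q : Set X)) :
    S ≤ Subgroup.centralizer (Q : Set X) := by
  obtain ⟨P0, W, hWn, hWc⟩ := h
  haveI := hWn
  have hcard : Nat.card W * Nat.card (P0 : Subgroup X) = Nat.card X := hWc.card_mul
  have hidx : W.index = Nat.card (P0 : Subgroup X) := by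
    have h1 := W.card_mul_index
    rw [← hcard] at h1
    exact Nat.eq_of_mul_eq_mul_left Nat.card_pos h1
  obtain ⟨k, hk⟩ := IsPGroup.iff_card.mp P0.isPGroup'
  have hSW : S ≤ W := by
    apply le_of_coprime_index_normal
    rw [hidx, hk]
    exact Nat.Coprime.pow_right _ hS
  have hWq : (Nat.card W).Coprime q := by
    have h1 : Nat.card W = (P0 : Subgroup X).index := by
      have h2 := (P0 : Subgroup X).card_mul_index
      rw [← hcard, mul_comm (Nat.card W)] at h2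
      exact (Nat.eq_of_mul_eq_mul_left Nat.card_pos h2).symm
    rw [h1, Nat.coprime_comm, Nat.Prime.coprime_iff_not_dvd Fact.out]
    exact P0.not_dvd_index
  have hQW : Q ⊓ W = ⊥ := by
    apply (Subgroup.disjoint_of_coprime_natCard _).eq_bot
    obtain ⟨j, hj⟩ := IsPGroup.iff_card.mp hQ
    rw [hj]
    exact (Nat.Coprime.pow_right _ hWq).symm
  intro s hs
  rw [Subgroup.mem_centralizer_iff]
  intro x hx
  have h1 : s * x * s⁻¹ ∈ Q := (Subgroup.mem_normalizer_iff.mp (hSQ hs) x).mp hx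
  have h2 : s * x * s⁻¹ * x⁻¹ ∈ Q ⊓ W := by
    refine ⟨Q.mul_mem h1 (Q.inv_mem hx), ?_⟩
    have e : s * x * s⁻¹ * x⁻¹ = s * (x * s⁻¹ * x⁻¹) := by group
    rw [e]
    exact W.mul_mem (hSW hs) (hWn.conj_mem _ (W.inv_mem (hSW hs)) x)
  rw [hQW, Subgroup.mem_bot] at h2
  calc x * s = (s * x * s⁻¹ * x⁻¹)⁻¹ * (s * x) := by group
    _ = s * x := by rw [h2, inv_one, one_mul]

/-- the same, for subgroups of a subgroup `H` of `G`. -/
theorem le_centralizer_of_normalPComplement' [Finite G] {q : ℕ} [Fact q.Prime] {H : Subgroup G}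
    (h : Cfsg.HasNormalPComplement q ↥H) {Q S : Subgroup G} (hQH : Q ≤ H) (hSH : S ≤ H)
    (hQ : IsPGroup q Q) (hS : (Nat.card S).Coprime q)
    (hSQ : S ≤ Subgroup.normalizer (Q : Set G)) :
    S ≤ Subgroup.centralizer (Q : Set G) := by
  have h1 : S.subgroupOf H ≤ Subgroup.centralizer ((Q.subgroupOf H : Subgroup ↥H) : Set ↥H) := by
    apply le_centralizer_of_normalPComplement h hQ.comap_subtype
    · rw [Cfsg.Agent.Lib.Helper1.card_subgroupOf_of_le hSH]
      exact hS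
    · intro s hs
      rw [Subgroup.mem_normalizer_iff]
      intro x
      have := Subgroup.mem_normalizer_iff.mp (hSQ (Subgroup.mem_subgroupOf.mp hs)) (x : G)
      simpa [Subgroup.mem_subgroupOf] using this
  intro s hs
  rw [Subgroup.mem_centralizer_iff]
  intro x hx
  have h2 := Subgroup.mem_centralizer_iff.mp
    (h1 (Subgroup.mem_subgroupOf.mpr (show ((⟨s, hSH hs⟩ : ↥H) : G) ∈ S from hs)))
    ⟨x, hQH hx⟩ (Subgroup.mem_subgroupOf.mpr (show ((⟨x, hQH hx⟩ : ↥H) : G) ∈ Q from hx))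
  exact congrArg Subtype.val h2

/-- A subgroup of `M` of order prime to `|M_σ|` lies in some complement of `M_σ` in `M`. -/
theorem exists_compl_ge [Finite G] (hG : Cfsg.IsMinSimpleOddOrder G) {M : Subgroup G}
    (hM : IsCoatom M) {Y : Subgroup G} (hYM : Y ≤ M)
    (hcop : (Nat.card Y).Coprime (Nat.card (Cfsg.sigmaCore M))) :
    ∃ E : Subgroup G, Cfsg.IsComplIn E (Cfsg.sigmaCore M) M ∧ Y ≤ E := by
  obtain ⟨hHall, -, -⟩ := Cfsg.Agent.S1350.result hG M hM
  obtain ⟨E0, hE0⟩ := exists_compl_sigmaCore hHall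
  haveI : Group.IsSolvable ↥M := hG.2.2.2 M hM.1
  have hsolv : Group.IsSolvable ↥Y ∨ Group.IsSolvable ↥(Cfsg.sigmaCore M) :=
    Or.inl (Group.isSolvable_of_isSolvable_injective (Subgroup.inclusion_injective hYM))
  obtain ⟨k, hk, hkY⟩ := exists_conj_mem_compl (le_normalizer_sigmaCore M) hE0 hYM hcop hsolv
  exact ⟨E0.map (MulAut.conj k).toMonoidHom,
    isComplIn_conj (le_normalizer_sigmaCore M) hE0 (sigmaCore_le M hk),
    fun a ha => mem_map_conj.mpr (hkY a ha)⟩

/-! ### the core argument -/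

/-- **B & G 13.9**, core: two non-conjugate maximal subgroups cannot both contain the normalizer of
a Sylow `q`-subgroup `Q` of `G`. -/
theorem false_of_common_sylow [Finite G] (hG : Cfsg.IsMinSimpleOddOrder G)
    (h17 : H17n G) (h18 : H18a G) (h23 : H23 G) (h23b : H23b G) (h24 : H24 G)
    (hU : HU G) (h1312 : H1312 G)
    {M N : Subgroup G} (hM : IsCoatom M) (hN : IsCoatom N)
    (hnc : ∀ g : G, N ≠ M.map (MulAut.conj g).toMonoidHom)
    {q : ℕ} [Fact q.Prime] (hqM : q ∈ Cfsg.sigma M) (hqN : q ∈ Cfsg.sigma N)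
    (Q : Sylow q G) (hNQM : Subgroup.normalizer ((Q : Subgroup G) : Set G) ≤ M)
    (hNQN : Subgroup.normalizer ((Q : Subgroup G) : Set G) ≤ N) : False := by
  have hqp : q.Prime := Fact.out
  have hnc' := nonconj_symm hnc
  have hQM : (Q : Subgroup G) ≤ M := Subgroup.le_normalizer.trans hNQM
  have hQN : (Q : Subgroup G) ≤ N := Subgroup.le_normalizer.trans hNQN
  -- `Q ≠ 1`
  have hQ1 : (Q : Subgroup G) ≠ ⊥ := by
    intro h
    have h1 : q ∣ Nat.card G := hqM.2.1.trans (Subgroup.card_subgroup_dvd_card M)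
    have h2 : q ∣ Nat.card (Q : Subgroup G) := by
      rw [Q.card_eq_multiplicity]
      apply dvd_pow_self
      intro h0
      have := (Nat.factorization_eq_zero_iff _ _).mp h0
      rcases this with h3 | h3 | h3
      · exact h3 hqp
      · exact h3 h1
      · exact Nat.card_pos.ne' h3
    rw [h, Subgroup.card_bot] at h2
    exact hqp.one_lt.ne' (Nat.dvd_one.mp h2)
  have hQMσ : (Q : Subgroup G) ≤ Cfsg.sigmaCore M :=
    le_sigmaCore_of_isPGroup hG hM hqM Q.isPGroup' hQM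
  have hQNσ : (Q : Subgroup G) ≤ Cfsg.sigmaCore N :=
    le_sigmaCore_of_isPGroup hG hN hqN Q.isPGroup' hQN
  -- normal `q`-complements
  have hβM : q ∉ Cfsg.beta M := wp_not_beta hG h23b hN hM hnc hqN hqM
  have hβN : q ∉ Cfsg.beta N := wp_not_beta hG h23b hM hN hnc' hqM hqN
  have hncM : Cfsg.HasNormalPComplement q ↥(Cfsg.sigmaCore M) :=
    ((Cfsg.Agent.S1414.result hG M hM).2.2.2.2 q hqp hqM.2.1 hβM).2.1
  have hncN : Cfsg.HasNormalPComplement q ↥(Cfsg.sigmaCore N) :=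
    ((Cfsg.Agent.S1414.result hG N hN).2.2.2.2 q hqp hqN.2.1 hβN).2.1
  -- a complement `V` of `Q` in `N_G(Q)`, and a Sylow subgroup of `V` not centralizing `Q`
  obtain ⟨V, hV, hVcop⟩ := Cfsg.Agent.Lib.Helper24.BGTen.exists_compl_normalizer Q
  obtain ⟨hQV, -⟩ := Cfsg.Agent.S1411.result hG q Q V hV
  have hVN : V ≤ Subgroup.normalizer ((Q : Subgroup G) : Set G) := hV.2.1
  have hVC : ¬ V ≤ Subgroup.centralizer ((Q : Subgroup G) : Set G) := by
    intro h
    apply hQ1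
    rw [hQV, Subgroup.commutator_eq_bot_iff_le_centralizer]
    exact Subgroup.le_centralizer_iff.mp h
  obtain ⟨p, hpF, hp⟩ : ∃ (p : ℕ) (_ : Fact p.Prime), ∀ T : Sylow p ↥V,
      ¬ (T : Subgroup ↥V).map V.subtype ≤ Subgroup.centralizer ((Q : Subgroup G) : Set G) := by
    by_contra hcon
    push Not at hcon
    apply hVC
    apply Cfsg.Agent.Lib.Helper21.Camina.le_of_sylows
    intro t ht
    exact hcon t ht
  haveI := hpF
  have hpp : p.Prime := Fact.out
  obtain ⟨T⟩ : Nonempty (Sylow p ↥V) := inferInstance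
  obtain ⟨Sp, hSpdef⟩ : ∃ Sp : Subgroup G, Sp = (T : Subgroup ↥V).map V.subtype := ⟨_, rfl⟩
  have hSpC : ¬ Sp ≤ Subgroup.centralizer ((Q : Subgroup G) : Set G) := hSpdef ▸ hp T
  have hSpp : IsPGroup p Sp := hSpdef ▸ T.isPGroup'.map _
  have hSpV : Sp ≤ V := hSpdef ▸ Subgroup.map_subtype_le _
  have hSpNQ : Sp ≤ Subgroup.normalizer ((Q : Subgroup G) : Set G) := hSpV.trans hVN
  have hSpM : Sp ≤ M := hSpNQ.trans hNQM
  have hSpN : Sp ≤ N := hSpNQ.trans hNQN
  have hSpq : (Nat.card Sp).Coprime q :=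
    Nat.Coprime.coprime_dvd_left (Subgroup.card_dvd_of_le hSpV) hVcop
  -- `p ∉ σ(M) ∪ σ(N)`
  have hpM : p ∉ Cfsg.sigma M := by
    intro hpM
    exact hSpC (le_centralizer_of_normalPComplement' hncM hQMσ
      (le_sigmaCore_of_isPGroup hG hM hpM hSpp hSpM) Q.isPGroup' hSpq hSpNQ)
  have hpN : p ∉ Cfsg.sigma N := by
    intro hpN
    exact hSpC (le_centralizer_of_normalPComplement' hncN hQNσ
      (le_sigmaCore_of_isPGroup hG hN hpN hSpp hSpN) Q.isPGroup' hSpq hSpNQ)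
  -- `p ∈ τ₁(M) ∩ τ₁(N)`
  have hpτM : p ∈ Cfsg.tau1 M := by
    by_contra hcon
    apply hSpC
    intro s hs
    rw [Subgroup.mem_centralizer_iff]
    intro t ht
    exact (thm13_1a hG h17 h18 h23 h24 hN hM hnc' hpN hSpp hSpN hSpM hcon t
      ⟨hQNσ ht, hQM ht⟩ s hs).symm
  have hpτN : p ∈ Cfsg.tau1 N := by
    by_contra hcon
    apply hSpC
    intro s hs
    rw [Subgroup.mem_centralizer_iff]
    intro t ht
    exact (thm13_1a hG h17 h18 h23 h24 hM hN hnc hpM hSpp hSpM hSpN hcon t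
      ⟨hQMσ ht, hQN ht⟩ s hs).symm
  -- a subgroup `P` of order `p` of `S_p`
  have hSp1 : Sp ≠ ⊥ := by
    intro h
    apply hSpC
    rw [h]
    exact bot_le
  have hpSp : p ∣ Nat.card Sp := by
    obtain ⟨k, hk⟩ := IsPGroup.iff_card.mp hSpp
    rw [hk]
    apply dvd_pow_self
    rintro rfl
    rw [pow_zero] at hk
    exact hSp1 (Subgroup.card_eq_one.mp hk)
  obtain ⟨x, hx⟩ := exists_prime_orderOf_dvd_card' p hpSp
  obtain ⟨P, hPdef⟩ : ∃ P : Subgroup G, P = Subgroup.zpowers (x : G) := ⟨_, rfl⟩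
  have hPc : Nat.card P = p := by
    rw [hPdef, Nat.card_zpowers, Subgroup.orderOf_coe, hx]
  have hPSp : P ≤ Sp := by
    rw [hPdef]; exact Subgroup.zpowers_le.mpr x.2
  by_cases hfix : (Q : Subgroup G) ⊓ Subgroup.centralizer (P : Set G) = ⊥
  · -- `P` acts fixed-point-freely on `Q`: 13.12
    exact h1312 M N hM hN hnc p hpτM hpτN P (le_inf (hPSp.trans hSpM) (hPSp.trans hSpN)) hPc q Q
      (le_inf hQM hQN) (hPSp.trans hSpNQ) hfix (le_inf hNQM hNQN)
  · -- `C_Q(P) ≠ 1`: (U)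
    have hcop : (Nat.card Sp).Coprime (Nat.card (Cfsg.sigmaCore M)) := by
      apply Nat.coprime_of_dvd
      intro r hr h1 h2
      have h3 : r = p := by
        obtain ⟨k, hk⟩ := IsPGroup.iff_card.mp hSpp
        rw [hk] at h1
        exact (Nat.prime_dvd_prime_iff_eq hr hpp).mp (hr.dvd_of_dvd_pow h1)
      exact hpM (h3 ▸ primes_card_sigmaCore M r hr h2)
    obtain ⟨E, hE, hSpE⟩ := exists_compl_ge hG hM hSpM hcop
    have hCq : IsPGroup q ↥((Q : Subgroup G) ⊓ Subgroup.centralizer (P : Set G)) :=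
      Q.isPGroup'.to_le inf_le_left
    have hqC : q ∣ Nat.card ↥((Q : Subgroup G) ⊓ Subgroup.centralizer (P : Set G)) := by
      obtain ⟨k, hk⟩ := IsPGroup.iff_card.mp hCq
      rw [hk]
      apply dvd_pow_self
      rintro rfl
      rw [pow_zero] at hk
      exact hfix (Subgroup.card_eq_one.mp hk)
    obtain ⟨y, hy⟩ := exists_prime_orderOf_dvd_card' q hqC
    obtain ⟨X, hXdef⟩ : ∃ X : Subgroup G, X = Subgroup.zpowers (y : G) := ⟨_, rfl⟩
    have hXc : Nat.card X = q := by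
      rw [hXdef, Nat.card_zpowers, Subgroup.orderOf_coe, hy]
    have hXT : X ≤ Cfsg.sigmaCore M ⊓ Subgroup.centralizer (P : Set G) := by
      rw [hXdef]
      exact Subgroup.zpowers_le.mpr ⟨hQMσ y.2.1, y.2.2⟩
    obtain ⟨S⟩ : Nonempty (Sylow q ↥(Cfsg.sigmaCore M)) := inferInstance
    obtain ⟨hSu, hSM⟩ := hU M hM E hE P (hPSp.trans hSpE) p hpτM hPc q X hXc hXT S
    obtain ⟨-, ⟨-, hidxG⟩, -⟩ := Cfsg.Agent.S1350.result hG M hM
    obtain ⟨SG, hSG⟩ := exists_sylow_eq_of_not_dvd_index (hidxG q hqp hqM) S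
    obtain ⟨g, hg⟩ := exists_conj_eq_of_sylow_uniq hN hM hqN SG (hSG ▸ hSM) (hSG ▸ hSu)
    exact hnc g hg

/-- **B & G 13.9**: maximal subgroups `M`, `N` with `σ(M) ∩ σ(N) ≠ ∅` are conjugate. -/
theorem sigma_partition [Finite G] (hG : Cfsg.IsMinSimpleOddOrder G)
    (h17 : H17n G) (h18 : H18a G) (h23 : H23 G) (h23b : H23b G) (h24 : H24 G)
    (hU : HU G) (h1312 : H1312 G)
    {M N : Subgroup G} (hM : IsCoatom M) (hN : IsCoatom N)
    (h : (Cfsg.sigma M ∩ Cfsg.sigma N).Nonempty) :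
    ∃ g : G, N = M.map (MulAut.conj g).toMonoidHom := by
  obtain ⟨q, hqM, hqN⟩ := h
  haveI : Fact q.Prime := ⟨hqM.1⟩
  by_contra hnc
  push Not at hnc
  obtain ⟨SM, -, -, hNM⟩ := exists_sylow_of_mem_sigma hqM
  obtain ⟨SN, -, -, hNN⟩ := exists_sylow_of_mem_sigma hqN
  obtain ⟨g, hg⟩ := MulAction.exists_smul_eq G SN SM
  have hSMcoe : (SM : Subgroup G) = (SN : Subgroup G).map (MulAut.conj g).toMonoidHom := by
    rw [← hg, sylow_smul_coe]
  have hN' : IsCoatom (N.map (MulAut.conj g).toMonoidHom) := isCoatom_map_conj g hN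
  have hnc' : ∀ k : G, N.map (MulAut.conj g).toMonoidHom ≠ M.map (MulAut.conj k).toMonoidHom := by
    intro k hk
    apply hnc (g⁻¹ * k)
    rw [map_conj_eq_iff.mp hk, map_conj_map_conj]
  have hNN' : Subgroup.normalizer ((SM : Subgroup G) : Set G) ≤
      N.map (MulAut.conj g).toMonoidHom := by
    rw [hSMcoe]
    have h1 : Subgroup.normalizer
        ((((SN : Subgroup G).map (MulAut.conj g).toMonoidHom : Subgroup G)) : Set G) =
        (Subgroup.normalizer ((SN : Subgroup G) : Set G)).map (MulAut.conj g).toMonoidHom :=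
      (Subgroup.map_equiv_normalizer_eq (SN : Subgroup G) (MulAut.conj g)).symm
    rw [h1]
    exact Subgroup.map_mono hNN
  exact false_of_common_sylow hG h17 h18 h23 h23b h24 hU h1312 hM hN' hnc' hqM
    (sigma_map_conj hqN g) SM hNM hNN'

/-- Every prime divisor of `|G|` lies in `σ(M)` for some maximal subgroup `M`. -/
theorem exists_coatom_mem_sigma [Finite G] (hG : Cfsg.IsMinSimpleOddOrder G) {p : ℕ}
    (hp : p.Prime) (hd : p ∣ Nat.card G) : ∃ M : Subgroup G, IsCoatom M ∧ p ∈ Cfsg.sigma M := by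
  haveI : Fact p.Prime := ⟨hp⟩
  haveI := hG.2.1
  obtain ⟨P⟩ : Nonempty (Sylow p G) := inferInstance
  have hP1 : (P : Subgroup G) ≠ ⊥ := by
    intro h
    have h2 : p ∣ Nat.card (P : Subgroup G) := by
      rw [P.card_eq_multiplicity]
      apply dvd_pow_self
      intro h0
      rcases (Nat.factorization_eq_zero_iff _ _).mp h0 with h3 | h3 | h3
      · exact h3 hp
      · exact h3 hd
      · exact Nat.card_pos.ne' h3
    rw [h, Subgroup.card_bot] at h2
    exact hp.one_lt.ne' (Nat.dvd_one.mp h2)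
  obtain ⟨M, hM, hNM⟩ := exists_coatom_ge (normalizer_ne_top hP1 (sylow_ne_top hG P))
  exact ⟨M, hM, mem_sigma_of_sylow P (Subgroup.le_normalizer.trans hNM) hP1 hNM⟩

end Cfsg.Agent.Lib.Helper9.BGSigPart
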