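import Mathlib
import Cfsg.Agent.Lib.Helper9.BGSigPartA
import Cfsg.Agent.S1417
import Cfsg.Agent.S1418
import Cfsg.Agent.S1423
import Cfsg.Agent.S1424

/-!
# B & G 13.9 (the `σ`-partition, frozen S1378) from S1428, Corollary R and B & G 13.12 (helper9)

`s1378_of` has verbatim the conclusion of frozen S1378; its hypotheses are `H28 M` (the conclusion
of S1428) and `CorR M` (Corollary R of the notes) for every maximal subgroup `M`, in the shapes of
helper2's `BGCorJ`, and `H1312 G` (B & G 13.12 in the case `Q = Q*`, see `BGSigPartA`).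
The conclusions of S1417, S1418, S1423, S1424 are imported for real.
-/

set_option autoImplicit false

namespace Cfsg.Agent.Lib.Helper9.BGSigPart

open Cfsg

variable {G : Type*} [Group G]

theorem h17n_real [Finite G] (hG : Cfsg.IsMinSimpleOddOrder G) :
    Cfsg.Agent.Lib.Helper16.BGPrim.H17n G :=
  fun M hM q _ hq A hA => (Cfsg.Agent.S1417.result hG M hM q hq A hA).1

theorem h18a_real [Finite G] (hG : Cfsg.IsMinSimpleOddOrder G) :
    Cfsg.Agent.Lib.Helper16.BGPrim.H18a G :=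
  fun M hM E hE q _ hq A hA =>
    ⟨(Cfsg.Agent.S1418.result hG M hM E hE q hq A hA).1.1,
      (Cfsg.Agent.S1418.result hG M hM E hE q hq A hA).2.1.2.2⟩

theorem h23_real [Finite G] (hG : Cfsg.IsMinSimpleOddOrder G) :
    Cfsg.Agent.Lib.Helper16.BGPrim.H23 G :=
  fun M hM q _ hq X hXM hX P hXd =>
    (Cfsg.Agent.S1423.result hG M hM q hq X hXM hX P (Or.inr hXd)).2

theorem h23b_real [Finite G] (hG : Cfsg.IsMinSimpleOddOrder G) :
    Cfsg.Agent.Lib.Helper2.BGCor.H23b G :=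
  fun M hM q _ hq X hXM hX P hβ =>
    (Cfsg.Agent.S1423.result hG M hM q hq X hXM hX P (Or.inl hβ)).2

theorem h24_real [Finite G] (hG : Cfsg.IsMinSimpleOddOrder G) :
    Cfsg.Agent.Lib.Helper16.BGPrim.H24 G :=
  fun M hM q _ hq X hXq hX1 hXM Mstar hMs hne hNX S hXS =>
    Cfsg.Agent.S1424.result hG M hM q hq X hXq hX1 hXM Mstar hMs hne hNX S hXS

/-- (U) from S1428 and Corollary R. -/
theorem hU_of [Finite G] (hG : Cfsg.IsMinSimpleOddOrder G)
    (h28 : ∀ M : Subgroup G, IsCoatom M → Cfsg.Agent.Lib.Helper2.BGCor.H28 M)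
    (hR : ∀ M : Subgroup G, IsCoatom M → Cfsg.Agent.Lib.Helper2.BGCor.CorR M) : HU G :=
  fun M hM _ hE _ hPE _ hp hPc _ _ _ hXc hXT =>
    (Cfsg.Agent.Lib.Helper2.BGCor.thm13_6 hG hM (h28 M hM) (hR M hM) hE hPE hp hPc hXc hXT).2

/-- **S1378** from S1428, Corollary R and B & G 13.12. -/
theorem s1378_of [Finite G] (hG : Cfsg.IsMinSimpleOddOrder G)
    (h28 : ∀ M : Subgroup G, IsCoatom M → Cfsg.Agent.Lib.Helper2.BGCor.H28 M)
    (hR : ∀ M : Subgroup G, IsCoatom M → Cfsg.Agent.Lib.Helper2.BGCor.CorR M)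
    (h1312 : H1312 G) :
    (∀ p : ℕ, p.Prime → p ∣ Nat.card G → ∃ M : Subgroup G, IsCoatom M ∧ p ∈ Cfsg.sigma M) ∧
      ∀ M N : Subgroup G, IsCoatom M → IsCoatom N → (Cfsg.sigma M ∩ Cfsg.sigma N).Nonempty →
        ∃ g : G, N = M.map (MulAut.conj g).toMonoidHom :=
  ⟨fun _ hp hd => exists_coatom_mem_sigma hG hp hd,
    fun _ _ hM hN h => sigma_partition hG (h17n_real hG) (h18a_real hG) (h23_real hG)
      (h23b_real hG) (h24_real hG) (hU_of hG h28 hR) h1312 hM hN h⟩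

end Cfsg.Agent.Lib.Helper9.BGSigPart
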