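import Mathlib
import Cfsg.Agent.Lib.Helper9.BGSigPartB
import Cfsg.Agent.Lib.Helper2.BGCorU
import Cfsg.Agent.Lib.Helper24.BGRegF

/-!
# B & G 13.9 (S1378) from the statement of S1428 alone (helper9)

`h1312_of`: helper2's formalization of B & G 13.12 (`thm13_12`) discharges `H1312 G`;
`s1378_of_h1428`: verbatim the conclusion of frozen S1378 from helper17's `H1428 G`
(the forall-closed conclusion of S1428); Corollaries R and G1 come from helper24's `BGRegF`.
-/

set_option autoImplicit false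

namespace Cfsg.Agent.Lib.Helper9.BGSigPart

open Cfsg
open Cfsg.Agent.Lib.Helper17.BGR2 (H1428)
open Cfsg.Agent.Lib.Helper24.BGReg (h28G_of_h1428 corR_of_h1428 corG1_of_h1428)
open Cfsg.Agent.Lib.Helper2.BGCor (Asym thm13_12 nonconj_symm)
open Cfsg.Agent.Lib.Helper8 (IsSylIn isSylIn_of_card_le)

variable {G : Type*} [Group G]

/-- a Sylow `q`-subgroup of `G` contained in `L` is a Sylow `q`-subgroup of `L`. -/
theorem isSylIn_of_sylow_le [Finite G] {q : ℕ} [Fact q.Prime] (Q : Sylow q G) {L : Subgroup G}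
    (hQL : (Q : Subgroup G) ≤ L) : IsSylIn q (Q : Subgroup G) L := by
  apply isSylIn_of_card_le Q.isPGroup' hQL
  rw [Q.card_eq_multiplicity]
  apply Nat.pow_le_pow_right (Fact.out : q.Prime).pos
  exact (Nat.factorization_le_iff_dvd Nat.card_pos.ne' Nat.card_pos.ne').mpr
    (Subgroup.card_subgroup_dvd_card L) q

/-- `H1312 G` from helper2's `thm13_12` and the statement of S1428. -/
theorem h1312_of [Finite G] (hG : Cfsg.IsMinSimpleOddOrder G) (h28 : H1428 G) : H1312 G := by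
  intro M N hM hN hnc p hpM hpN P hPMN hPc q _ Q hQMN hPQ hfpf hNQ
  have hsyl : IsSylIn q (Q : Subgroup G) (M ⊓ N) := isSylIn_of_sylow_le Q hQMN
  have hsyl' : IsSylIn q (Q : Subgroup G) (N ⊓ M) := by rw [inf_comm]; exact hsyl
  have h : Asym M N p P q (Q : Subgroup G) :=
    ⟨hM, hN, hnc, hpM, hPc, hPMN.trans inf_le_left, hPMN.trans inf_le_right, Fact.out, hsyl,
      hPQ, hfpf, hNQ.trans inf_le_right⟩
  have h' : Asym N M p P q (Q : Subgroup G) :=
    ⟨hN, hM, nonconj_symm hnc, hpN, hPc, hPMN.trans inf_le_right, hPMN.trans inf_le_left,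
      Fact.out, hsyl', hPQ, hfpf, hNQ.trans inf_le_left⟩
  exact thm13_12 hG h h' (h28G_of_h1428 h28 M hM) (corR_of_h1428 hG h28 hM)
    (corG1_of_h1428 hG h28 hM) (h28G_of_h1428 h28 N hN) (corR_of_h1428 hG h28 hN)
    (corG1_of_h1428 hG h28 hN)

/-- **S1378** from the statement of S1428. -/
theorem s1378_of_h1428 [Finite G] (hG : Cfsg.IsMinSimpleOddOrder G) (h28 : H1428 G) :
    (∀ p : ℕ, p.Prime → p ∣ Nat.card G → ∃ M : Subgroup G, IsCoatom M ∧ p ∈ Cfsg.sigma M) ∧
      ∀ M N : Subgroup G, IsCoatom M → IsCoatom N → (Cfsg.sigma M ∩ Cfsg.sigma N).Nonempty →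
        ∃ g : G, N = M.map (MulAut.conj g).toMonoidHom :=
  s1378_of hG (h28G_of_h1428 h28) (fun _ hM => corR_of_h1428 hG h28 hM) (h1312_of hG h28)

end Cfsg.Agent.Lib.Helper9.BGSigPart
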