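import Mathlib
import Cfsg.Agent.Lib.Helper24.BGRegF
import Cfsg.Agent.Lib.Helper9.BGSigPartA
import Cfsg.Agent.S1420

/-!
# B & G Theorem 14.4 (helper9), hypothesis form

`M` maximal, `x ∈ M_σ^#` with `C_G(x) ⊄ M`.  Then there is a maximal subgroup `N ≠ M` which is the
only maximal subgroup containing `C_G(x)`; `x` is a `τ₂(N)`-element, `N_σ` is nilpotent,
`N_σ ∩ M = 1`, `M ∩ N` is a complement of `N_σ` in `N` and `C_{N_σ}(x) ≠ 1`.

Hypotheses: `SP G` (the conclusion of S1378, the `σ`-partition) and helper17's `H1428 G`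
(the conclusion of S1428; it gives Corollary R via helper24's `BGReg`).
-/

set_option autoImplicit false
set_option linter.style.haveILetI false
open scoped commutatorElement

namespace Cfsg.Agent.Lib.Helper9.BG144

open Cfsg Cfsg.Agent.Lib.Helper1.BGX
open Cfsg.Agent.Lib.Helper17.BGU (exists_coatom_ge normalizer_ne_top isCoatom_map_conj
  normalizer_eq_of_coatom)
open Cfsg.Agent.Lib.Helper2.BGCor (sigmaCore_le primes_card_sigmaCore thm12_14fg CorR)
open Cfsg.Agent.Lib.Helper23.BGY (mem_tau2_of_not_rank_one not_mem_sigma_of_dvd_compl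
  le_normalizer_sigmaCore)
open Cfsg.Agent.Lib.Helper24.BGReg (h16 h17 h17n h18e h24 mem_kappa_of_fixed corR_of_h1428)
open Cfsg.Agent.Lib.Helper17.BGR2 (H1428)

variable {G : Type*} [Group G]

/-- The conclusion of S1378 (second part): the `σ`-partition. -/
def SP (G : Type*) [Group G] : Prop :=
  ∀ M N : Subgroup G, IsCoatom M → IsCoatom N → (Cfsg.sigma M ∩ Cfsg.sigma N).Nonempty →
    ∃ g : G, N = M.map (MulAut.conj g).toMonoidHom

/-! ### group theory -/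

/-- If `E ∩ K = 1`, `x ∈ E` normalizes `K` and `x` commutes with `e n` (`e ∈ E`, `n ∈ K`), then `x`
commutes with `e` and with `n`. -/
theorem comm_of_compl {E K : Subgroup G} (hEK : E ⊓ K = ⊥) {x e n : G} (hxE : x ∈ E)
    (heE : e ∈ E) (hn : n ∈ K) (hxK : x ∈ Subgroup.normalizer (K : Set G))
    (hc : (e * n) * x = x * (e * n)) : e * x = x * e ∧ n * x = x * n := by
  have h1 : e⁻¹ * (x⁻¹ * e * x) ∈ E := E.mul_mem (E.inv_mem heE)
    (E.mul_mem (E.mul_mem (E.inv_mem hxE) heE) hxE)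
  have hxK' : x⁻¹ ∈ Subgroup.normalizer (K : Set G) := Subgroup.inv_mem _ hxK
  have h2 : n * (x⁻¹ * n⁻¹ * x) ∈ K := by
    refine K.mul_mem hn ?_
    have := (Subgroup.mem_normalizer_iff.mp hxK' n⁻¹).mp (K.inv_mem hn)
    simpa using this
  have h3 : e⁻¹ * (x⁻¹ * e * x) = n * (x⁻¹ * n⁻¹ * x) := by
    have h4 : x⁻¹ * (e * n) * x = e * n := by
      rw [mul_assoc, hc]; group
    calc e⁻¹ * (x⁻¹ * e * x) = e⁻¹ * (x⁻¹ * (e * n) * x) * (x⁻¹ * n⁻¹ * x) := by group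
      _ = e⁻¹ * (e * n) * (x⁻¹ * n⁻¹ * x) := by rw [h4]
      _ = n * (x⁻¹ * n⁻¹ * x) := by group
  have h5 : e⁻¹ * (x⁻¹ * e * x) ∈ E ⊓ K := ⟨h1, h3 ▸ h2⟩
  rw [hEK, Subgroup.mem_bot] at h5
  have h6 : e * x = x * e := by
    calc e * x = x * e * (e⁻¹ * (x⁻¹ * e * x)) := by group
      _ = x * e := by rw [h5, mul_one]
  refine ⟨h6, ?_⟩
  have h7 : e * (n * x) = e * (x * n) := by
    calc e * (n * x) = (e * n) * x := by group
      _ = x * (e * n) := hc
      _ = (x * e) * n := by group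
      _ = (e * x) * n := by rw [h6]
      _ = e * (x * n) := by group
  exact mul_left_cancel h7

/-- powers of an element commute with whatever the element commutes with. -/
theorem comm_pow_of_comm {x c : G} (h : c * x = x * c) (k : ℕ) : c * x ^ k = x ^ k * c :=
  (Commute.pow_right (show Commute c x from h) k).eq

/-! ### Theorem 14.4 -/

/-- **B & G 14.4**, the maximal subgroup `N` attached to `x ∈ M_σ^#` with `C_G(x) ⊄ M`. -/
theorem thm14_4 [Finite G] (hG : Cfsg.IsMinSimpleOddOrder G) (hSP : SP G) (h28 : H1428 G)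
    {M : Subgroup G} (hM : IsCoatom M) {x : G} (hx : x ∈ Cfsg.sigmaCore M) (hx1 : x ≠ 1)
    (hxM : ¬ Subgroup.centralizer ({x} : Set G) ≤ M) :
    ∃ N : Subgroup G, IsCoatom N ∧ N ≠ M ∧ Subgroup.centralizer ({x} : Set G) ≤ N ∧
      (∀ L : Subgroup G, IsCoatom L → Subgroup.centralizer ({x} : Set G) ≤ L → L = N) ∧
      Group.IsNilpotent (Cfsg.sigmaCore N) ∧ Cfsg.sigmaCore N ⊓ M = ⊥ ∧
      Cfsg.IsComplIn (M ⊓ N) (Cfsg.sigmaCore N) N ∧
      (∀ p : ℕ, p.Prime → p ∣ orderOf x → p ∈ Cfsg.tau2 N) ∧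
      Cfsg.sigmaCore N ⊓ Subgroup.centralizer ({x} : Set G) ≠ ⊥ := by
  haveI := hG.2.1
  have hxMM : x ∈ M := sigmaCore_le M hx
  have ho1 : orderOf x ≠ 1 := fun h => hx1 (orderOf_eq_one_iff.mp h)
  have hopos : 0 < orderOf x := orderOf_pos x
  obtain ⟨p, hpp, hpx⟩ := Nat.exists_prime_and_dvd ho1
  haveI : Fact p.Prime := ⟨hpp⟩
  -- the element `y` of order `p` and `X = ⟨y⟩`
  obtain ⟨y, hydef⟩ : ∃ y : G, y = x ^ (orderOf x / p) := ⟨_, rfl⟩
  have hyo : orderOf y = p := by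
    rw [hydef]; exact orderOf_pow_orderOf_div hopos.ne' hpx
  obtain ⟨X, hXdef⟩ : ∃ X : Subgroup G, X = Subgroup.zpowers y := ⟨_, rfl⟩
  have hXc : Nat.card X = p := by rw [hXdef, Nat.card_zpowers, hyo]
  have hyσ : y ∈ Cfsg.sigmaCore M := hydef ▸ Subgroup.pow_mem _ hx _
  have hXσ : X ≤ Cfsg.sigmaCore M := hXdef ▸ Subgroup.zpowers_le.mpr hyσ
  have hXM : X ≤ M := hXσ.trans (sigmaCore_le M)
  have hXp : IsPGroup p X := IsPGroup.of_card (n := 1) (by rw [hXc, pow_one])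
  have hX1 : X ≠ ⊥ := by
    intro h
    rw [h, Subgroup.card_bot] at hXc
    exact hpp.one_lt.ne hXc
  have hpM : p ∈ Cfsg.sigma M :=
    primes_card_sigmaCore M p hpp (hXc ▸ Subgroup.card_dvd_of_le hXσ)
  -- `C_G(x) ≤ C_G(X) ≤ N_G(X)`
  have hCxX : Subgroup.centralizer ({x} : Set G) ≤ Subgroup.centralizer (X : Set G) := by
    intro c hc
    have hcx : x * c = c * x := Subgroup.mem_centralizer_iff.mp hc x rfl
    rw [Subgroup.mem_centralizer_iff]
    intro z hz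
    rw [hXdef] at hz
    obtain ⟨k, rfl⟩ := Subgroup.mem_zpowers_iff.mp hz
    have h1 : Commute c y := by
      rw [hydef]; exact Commute.pow_right hcx.symm _
    exact (Commute.zpow_right h1 k).eq.symm
  have hCN : Subgroup.centralizer (X : Set G) ≤ Subgroup.normalizer (X : Set G) :=
    Subgroup.centralizer_le_normalizer _
  have hXtop : X ≠ ⊤ := fun h => hM.1 (top_le_iff.mp (h ▸ hXM))
  obtain ⟨N, hN, hNXN⟩ := exists_coatom_ge (normalizer_ne_top hX1 hXtop)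
  have hCxN : Subgroup.centralizer ({x} : Set G) ≤ N := hCxX.trans (hCN.trans hNXN)
  have hNM : N ≠ M := fun h => hxM (h ▸ hCxN)
  -- `p ∉ σ(N)`
  have hXMN : X ≤ M ⊓ N := le_inf hXM (Subgroup.le_normalizer.trans hNXN)
  obtain ⟨S, hXS⟩ := exists_sylow_in_ge hXMN hXp
  have hpN : p ∉ Cfsg.sigma N := by
    intro hpN
    obtain ⟨g, hg⟩ := hSP M N hM hN ⟨p, hpM, hpN⟩
    exact (h24 hG M hM p hpM X hXp hX1 hXM N hN hNM hNXN S hXS).1 g hg
  obtain ⟨hpτ, hnil, hNσM, hcompl⟩ := thm12_14fg hG (h16 hG) (h17 hG) (h17n hG) (h18e hG)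
    (h24 hG) hM hN hNM hpM hpN hXp hX1 hXM hNXN
  have hxN : x ∈ N := hCxN (Subgroup.mem_centralizer_iff.mpr (fun z hz => by
    rw [Set.mem_singleton_iff.mp hz]))
  have hxE : x ∈ M ⊓ N := ⟨hxMM, hxN⟩
  have hEK : (M ⊓ N) ⊓ Cfsg.sigmaCore N = ⊥ := hcompl.2.2.1
  have hxNσ : x ∈ Subgroup.normalizer ((Cfsg.sigmaCore N : Subgroup G) : Set G) :=
    le_normalizer_sigmaCore N hxN
  -- `C_{N_σ}(x) ≠ 1`
  have hR1 : Cfsg.sigmaCore N ⊓ Subgroup.centralizer ({x} : Set G) ≠ ⊥ := by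
    intro hbot
    apply hxM
    intro c hc
    obtain ⟨e, he, n, hn, hcen⟩ := hcompl.2.2.2 c (hCxN hc)
    have hcx : (e * n) * x = x * (e * n) := by
      rw [← hcen]; exact (Subgroup.mem_centralizer_iff.mp hc x rfl).symm
    obtain ⟨-, hnx⟩ := comm_of_compl hEK hxE he hn hxNσ hcx
    have hn1 : n ∈ Cfsg.sigmaCore N ⊓ Subgroup.centralizer ({x} : Set G) := by
      refine ⟨hn, Subgroup.mem_centralizer_iff.mpr (fun z hz => ?_)⟩
      rw [Set.mem_singleton_iff.mp hz]; exact hnx.symm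
    rw [hbot, Subgroup.mem_bot] at hn1
    rw [hcen, hn1, mul_one]
    exact he.1
  -- a non-identity element `w` of `C_{N_σ}(x)`
  obtain ⟨w, hw1⟩ := (Subgroup.ne_bot_iff_exists_ne_one.mp hR1)
  have hwσ : (w : G) ∈ Cfsg.sigmaCore N := w.2.1
  have hwx : x * (w : G) = (w : G) * x := Subgroup.mem_centralizer_iff.mp w.2.2 x rfl
  have hw1' : (w : G) ≠ 1 := fun h => hw1 (Subtype.ext h)
  -- `y ∈ N` has order `p ∈ τ₂(N)`
  have hyN : y ∈ N := hydef ▸ Subgroup.pow_mem _ hxN _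
  have hCorR : CorR N := corR_of_h1428 hG h28 hN
  -- every prime divisor of `o(x)` lies in `τ₂(N)`
  have hτ2 : ∀ r : ℕ, r.Prime → r ∣ orderOf x → r ∈ Cfsg.tau2 N := by
    intro r hr hrx
    obtain ⟨z, hzdef⟩ : ∃ z : G, z = x ^ (orderOf x / r) := ⟨_, rfl⟩
    have hzo : orderOf z = r := by
      rw [hzdef]; exact orderOf_pow_orderOf_div hopos.ne' hrx
    have hzE : z ∈ M ⊓ N := hzdef ▸ Subgroup.pow_mem _ hxE _
    have hrE : r ∣ Nat.card ↥(M ⊓ N) := by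
      rw [← hzo]; exact Subgroup.orderOf_dvd_natCard _ hzE
    have hrσ : r ∉ Cfsg.sigma N := not_mem_sigma_of_dvd_compl hG hN hcompl hr hrE
    by_contra hcon
    have hrk : Cfsg.PRankLE r 1 ↥N := by
      by_contra hrk
      exact hcon (mem_tau2_of_not_rank_one hG hN hr hrσ hrk)
    have hzw : z * (w : G) = (w : G) * z := by
      rw [hzdef]; exact (comm_pow_of_comm hwx.symm _).symm
    have hrκ : r ∈ Cfsg.kappa N := mem_kappa_of_fixed hG hr hrσ hrk hzE.2 hzo hwσ hw1' hzw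
    have hyz : y * z = z * y := by
      rw [hydef, hzdef, ← pow_add, ← pow_add, add_comm]
    exact hCorR z hzE.2 (hzo ▸ hrκ) y hyN hyz (hyo ▸ hpτ)
  -- uniqueness, by S1420
  have hxhat : x ∈ Cfsg.sigmaHat N := ⟨hxN, w, hwσ, hw1', hwx⟩
  obtain ⟨-, hu⟩ := (Cfsg.Agent.S1420.result hG N hN (M ⊓ N) hcompl).2.2.2 x hxN hx1 hτ2 hxhat
  exact ⟨N, hN, hNM, hCxN, hu, hnil, hNσM, hcompl, hτ2, hR1⟩

end Cfsg.Agent.Lib.Helper9.BG144
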