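import Mathlib
import Cfsg.Agent.Lib.Helper9.BG144A
import Cfsg.Agent.Lib.Helper9.FittingHall
import Cfsg.Agent.Lib.Helper12.CNMinF

/-!
# B & G Theorem 14.4 (helper9): `M_F ≤ M_σ`, and the shape of frozen S1375

* `fittingHallOf_le_sigmaCore`: `M_F ≤ M_σ` for a maximal subgroup `M` (unconditional);
* `sigmaCore_eq_fittingHallOf`: `M_σ = M_F` when `M_σ` is nilpotent;
* `s1375_of`: verbatim the conclusion of frozen S1375 from `SP G` and `H1428 G`.
-/

set_option autoImplicit false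
set_option linter.style.haveILetI false
open scoped commutatorElement

namespace Cfsg.Agent.Lib.Helper9.BG144

open Cfsg Cfsg.Agent.Lib.Helper1.BGX
open Cfsg.Agent.Lib.Helper17.BGU (normalizer_eq_of_coatom)
open Cfsg.Agent.Lib.Helper2.BGCor (sigmaCore_le primes_card_sigmaCore)
open Cfsg.Agent.Lib.Helper23.BGY (le_normalizer_sigmaCore le_of_coprime_index_normal)
open Cfsg.Agent.Lib.Helper17.BGR2 (H1428)

variable {G : Type*} [Group G]

/-- every prime divisor of `|M_F|` lies in `σ(M)`. -/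
theorem mem_sigma_of_dvd_card_fittingHall [Finite G] (hG : Cfsg.IsMinSimpleOddOrder G)
    {M : Subgroup G} (hM : IsCoatom M) {p : ℕ} (hp : p.Prime)
    (hd : p ∣ Nat.card (Cfsg.fittingHall ↥M)) : p ∈ Cfsg.sigma M := by
  haveI : Fact p.Prime := ⟨hp⟩
  haveI := hG.2.1
  obtain ⟨hFn, hFnil, hFcop⟩ := Cfsg.Agent.Lib.Helper9.fittingHall_mem_family ↥M
  haveI := hFn
  haveI := hFnil
  obtain ⟨P⟩ : Nonempty (Sylow p ↥M) := inferInstance
  -- `P ≤ M_F`
  have hPF : (P : Subgroup ↥M) ≤ Cfsg.fittingHall ↥M := by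
    apply le_of_coprime_index_normal
    obtain ⟨k, hk⟩ := IsPGroup.iff_card.mp P.isPGroup'
    rw [hk]
    apply Nat.Coprime.pow_left
    rw [Nat.Prime.coprime_iff_not_dvd hp]
    intro hidx
    exact hp.one_lt.ne' (Nat.eq_one_of_dvd_coprimes hFcop hd hidx)
  -- `P` is normal in `M`
  have hPn : (P : Subgroup ↥M).Normal := by
    have h1 : ((P.subtype hPF : Sylow p ↥(Cfsg.fittingHall ↥M)) :
        Subgroup ↥(Cfsg.fittingHall ↥M)).Normal := inferInstance
    haveI h2 : ((P.subtype hPF : Sylow p ↥(Cfsg.fittingHall ↥M)) :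
        Subgroup ↥(Cfsg.fittingHall ↥M)).Characteristic :=
      Sylow.characteristic_of_normal _ h1
    have h3 : (((P.subtype hPF : Sylow p ↥(Cfsg.fittingHall ↥M)) :
        Subgroup ↥(Cfsg.fittingHall ↥M)).map (Cfsg.fittingHall ↥M).subtype).Normal :=
      inferInstance
    have h4 : ((P.subtype hPF : Sylow p ↥(Cfsg.fittingHall ↥M)) :
        Subgroup ↥(Cfsg.fittingHall ↥M)).map (Cfsg.fittingHall ↥M).subtype =
        (P : Subgroup ↥M) := by
      rw [Sylow.coe_subtype]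
      exact Subgroup.map_subgroupOf_eq_of_le hPF
    rwa [h4] at h3
  -- `p ∣ |M|`
  have hpM : p ∣ Nat.card M := hd.trans (Subgroup.card_subgroup_dvd_card _)
  have hP1 : (P : Subgroup ↥M) ≠ ⊥ := by
    intro h
    have h2 : p ∣ Nat.card (P : Subgroup ↥M) := by
      rw [P.card_eq_multiplicity]
      apply dvd_pow_self
      intro h0
      rcases (Nat.factorization_eq_zero_iff _ _).mp h0 with h3 | h3 | h3
      · exact h3 hp
      · exact h3 hpM
      · exact Nat.card_pos.ne' h3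
    rw [h, Subgroup.card_bot] at h2
    exact hp.one_lt.ne' (Nat.dvd_one.mp h2)
  have hP'M : (P : Subgroup ↥M).map M.subtype ≤ M := Subgroup.map_subtype_le _
  have hP'1 : (P : Subgroup ↥M).map M.subtype ≠ ⊥ := by
    intro h
    exact hP1 ((Subgroup.map_eq_bot_iff_of_injective _ M.subtype_injective).mp h)
  have hMn : M ≤ Subgroup.normalizer (((P : Subgroup ↥M).map M.subtype : Subgroup G) : Set G) :=
    Cfsg.Agent.Lib.Helper12.CNMin.le_normalizer_map_subtype M (P : Subgroup ↥M) hPn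
  exact ⟨hp, hpM, P, (normalizer_eq_of_coatom hM hP'M hP'1 hMn).le⟩

/-- `M_F ≤ M_σ` for a maximal subgroup `M` of a minimal simple group of odd order. -/
theorem fittingHallOf_le_sigmaCore [Finite G] (hG : Cfsg.IsMinSimpleOddOrder G)
    {M : Subgroup G} (hM : IsCoatom M) : Cfsg.fittingHallOf M ≤ Cfsg.sigmaCore M := by
  apply Subgroup.map_mono
  exact le_sSup ⟨Cfsg.fittingHall_normal ↥M,
    fun p hp hd => mem_sigma_of_dvd_card_fittingHall hG hM hp hd⟩

/-- `M_σ = M_F` when `M_σ` is nilpotent. -/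
theorem sigmaCore_eq_fittingHallOf [Finite G] (hG : Cfsg.IsMinSimpleOddOrder G)
    {M : Subgroup G} (hM : IsCoatom M) (hnil : Group.IsNilpotent (Cfsg.sigmaCore M)) :
    Cfsg.sigmaCore M = Cfsg.fittingHallOf M := by
  apply le_antisymm _ (fittingHallOf_le_sigmaCore hG hM)
  obtain ⟨⟨hle, hpr, hidx⟩, -, -⟩ := Cfsg.Agent.S1350.result hG M hM
  apply Cfsg.Agent.Lib.Helper12.CNMin.le_fittingHallOf M _ hle (le_normalizer_sigmaCore M) hnil
  apply Nat.coprime_of_dvd
  intro r hr h1 h2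
  exact hidx r hr (hpr r hr h1) h2

/-- an element normalizing `U` and `V` normalizes `U ⊔ V`. -/
theorem mem_normalizer_sup {U V : Subgroup G} {k : G}
    (hU : k ∈ Subgroup.normalizer (U : Set G)) (hV : k ∈ Subgroup.normalizer (V : Set G)) :
    k ∈ Subgroup.normalizer ((U ⊔ V : Subgroup G) : Set G) := by
  rw [Cfsg.Agent.Lib.Helper8.mem_normalizer_iff_map_conj] at hU hV ⊢
  rw [Subgroup.map_sup, hU, hV]

/-- In a standard factorisation `M = K U M_σ`, the subgroup `U M_σ` is normal in `M`. -/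
theorem le_normalizer_sup_sigmaCore {M K U : Subgroup G}
    (hKU : Cfsg.IsSigmaDecomposition M K U) :
    M ≤ Subgroup.normalizer ((U ⊔ Cfsg.sigmaCore M : Subgroup G) : Set G) := by
  obtain ⟨hUM, hKσM, hUK, hprod⟩ := hKU.compl
  have hσn := le_normalizer_sigmaCore M
  have h1 : U ≤ Subgroup.normalizer ((U ⊔ Cfsg.sigmaCore M : Subgroup G) : Set G) :=
    le_sup_left.trans Subgroup.le_normalizer
  have h2 : Cfsg.sigmaCore M ≤
      Subgroup.normalizer ((U ⊔ Cfsg.sigmaCore M : Subgroup G) : Set G) :=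
    le_sup_right.trans Subgroup.le_normalizer
  have h3 : K ≤ Subgroup.normalizer ((U ⊔ Cfsg.sigmaCore M : Subgroup G) : Set G) :=
    fun k hk => mem_normalizer_sup (hKU.normal hk) (hσn (hKU.hall.1 hk))
  intro m hm
  obtain ⟨a, ha, b, hb, rfl⟩ := hprod m hm
  exact Subgroup.mul_mem _ (h1 ha) ((sup_le h3 h2) hb)

/-- If `M = T K` with `T` normal in `M`, an element of `M` of order prime to `|K|` lies in `T`. -/
theorem mem_of_coprime_of_sup [Finite G] {M T K : Subgroup G} (hTM : T ≤ M) (hKM : K ≤ M)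
    (hn : M ≤ Subgroup.normalizer (T : Set G)) (hsup : M ≤ T ⊔ K) {x : G} (hxM : x ∈ M)
    (hcop : (orderOf x).Coprime (Nat.card K)) : x ∈ T := by
  haveI hT'n : (T.subgroupOf M).Normal := Subgroup.normal_subgroupOf_of_le_normalizer hn
  have htop : T.subgroupOf M ⊔ K.subgroupOf M = ⊤ := by
    rw [← Subgroup.subgroupOf_sup hTM hKM, Subgroup.subgroupOf_eq_top]
    exact hsup
  have hidx : (T.subgroupOf M).index ∣ Nat.card K := by
    rw [← Subgroup.relIndex_top_right, ← htop, Subgroup.relIndex_sup_left,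
      ← Cfsg.Agent.Lib.Helper1.card_subgroupOf_of_le hKM]
    exact Subgroup.relIndex_dvd_card _ _
  have h1 : Subgroup.zpowers (⟨x, hxM⟩ : ↥M) ≤ T.subgroupOf M := by
    apply le_of_coprime_index_normal
    rw [Nat.card_zpowers, Subgroup.orderOf_mk]
    exact Nat.Coprime.coprime_dvd_right hidx hcop
  exact Subgroup.mem_subgroupOf.mp (h1 (Subgroup.mem_zpowers _))

/-- **S1375** from the `σ`-partition and S1428. -/
theorem s1375_of [Finite G] (hG : Cfsg.IsMinSimpleOddOrder G) (hSP : SP G) (h28 : H1428 G)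
    (M : Subgroup G) (hM : IsCoatom M) (x : G) (hx : x ∈ Cfsg.sigmaCore M) (hx1 : x ≠ 1)
    (hxM : ¬ Subgroup.centralizer ({x} : Set G) ≤ M) :
    ∃ N : Subgroup G, (IsCoatom N ∧ Subgroup.centralizer ({x} : Set G) ≤ N) ∧
      (∀ L : Subgroup G, IsCoatom L → Subgroup.centralizer ({x} : Set G) ≤ L → L = N) ∧
      Cfsg.sigmaCore N = Cfsg.fittingHallOf N ∧
      Subgroup.centralizer ({x} : Set G) ≤ Subgroup.normalizer
        ((Cfsg.sigmaCore N ⊓ Subgroup.centralizer ({x} : Set G) : Subgroup G) : Set G) ∧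
      Cfsg.IsComplIn (M ⊓ Subgroup.centralizer ({x} : Set G))
        (Cfsg.sigmaCore N ⊓ Subgroup.centralizer ({x} : Set G))
        (Subgroup.centralizer ({x} : Set G)) ∧
      Cfsg.IsComplIn (M ⊓ N) (Cfsg.sigmaCore N) N ∧
      ∀ K' U' : Subgroup G, Cfsg.IsSigmaDecomposition N K' U' →
        U' ≠ ⊥ ∧ x ∈ Cfsg.sigmaA N U' ∧ x ∉ Cfsg.sigmaCore N := by
  obtain ⟨N, hN, hNM, hCxN, hu, hnil, hNσM, hcompl, hτ2, hR1⟩ :=
    thm14_4 hG hSP h28 hM hx hx1 hxM
  have hxMM : x ∈ M := sigmaCore_le M hx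
  have hxN : x ∈ N := hCxN (Subgroup.mem_centralizer_iff.mpr (fun z hz => by
    rw [Set.mem_singleton_iff.mp hz]))
  have hxE : x ∈ M ⊓ N := ⟨hxMM, hxN⟩
  have hEK : (M ⊓ N) ⊓ Cfsg.sigmaCore N = ⊥ := hcompl.2.2.1
  have hxNσ : x ∈ Subgroup.normalizer ((Cfsg.sigmaCore N : Subgroup G) : Set G) :=
    le_normalizer_sigmaCore N hxN
  have hxnot : x ∉ Cfsg.sigmaCore N := by
    intro h
    have : x ∈ Cfsg.sigmaCore N ⊓ M := ⟨h, hxMM⟩
    rw [hNσM, Subgroup.mem_bot] at this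
    exact hx1 this
  refine ⟨N, ⟨hN, hCxN⟩, hu, sigmaCore_eq_fittingHallOf hG hN hnil, ?_, ?_, hcompl, ?_⟩
  · -- `C_G(x)` normalizes `C_{N_σ}(x)`
    intro c hc
    rw [Subgroup.mem_normalizer_iff]
    intro z
    have hcN : c ∈ Subgroup.normalizer ((Cfsg.sigmaCore N : Subgroup G) : Set G) :=
      le_normalizer_sigmaCore N (hCxN hc)
    constructor
    · rintro ⟨hz1, hz2⟩
      exact ⟨(Subgroup.mem_normalizer_iff.mp hcN z).mp hz1,
        Subgroup.mul_mem _ (Subgroup.mul_mem _ hc hz2) (Subgroup.inv_mem _ hc)⟩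
    · rintro ⟨hz1, hz2⟩
      refine ⟨(Subgroup.mem_normalizer_iff.mp hcN z).mpr hz1, ?_⟩
      have e : z = c⁻¹ * (c * z * c⁻¹) * c := by group
      rw [e]
      exact Subgroup.mul_mem _ (Subgroup.mul_mem _ (Subgroup.inv_mem _ hc) hz2) hc
  · -- `C_G(x) = C_M(x) C_{N_σ}(x)`
    refine ⟨inf_le_right, inf_le_right, ?_, ?_⟩
    · rw [eq_bot_iff]
      rintro z ⟨⟨hz1, -⟩, ⟨hz2, -⟩⟩
      rw [← hNσM]
      exact ⟨hz2, hz1⟩
    · intro c hc
      obtain ⟨e, he, n, hn, hcen⟩ := hcompl.2.2.2 c (hCxN hc)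
      have hcx : (e * n) * x = x * (e * n) := by
        rw [← hcen]; exact (Subgroup.mem_centralizer_iff.mp hc x rfl).symm
      obtain ⟨hex, hnx⟩ := comm_of_compl hEK hxE he hn hxNσ hcx
      refine ⟨e, ⟨he.1, Subgroup.mem_centralizer_iff.mpr (fun z hz => ?_)⟩, n,
        ⟨hn, Subgroup.mem_centralizer_iff.mpr (fun z hz => ?_)⟩, hcen⟩
      · rw [Set.mem_singleton_iff.mp hz]; exact hex.symm
      · rw [Set.mem_singleton_iff.mp hz]; exact hnx.symm
  · -- standard factorisations of `N`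
    intro K' U' hKU
    obtain ⟨w, hw1⟩ := (Subgroup.ne_bot_iff_exists_ne_one.mp hR1)
    have hwx : x * (w : G) = (w : G) * x := Subgroup.mem_centralizer_iff.mp w.2.2 x rfl
    have hw1' : (w : G) ≠ 1 := fun h => hw1 (Subtype.ext h)
    have hxhat : x ∈ Cfsg.sigmaHat N := ⟨hxN, w, w.2.1, hw1', hwx⟩
    -- `x ∈ U' N_σ`
    have hxU : x ∈ U' ⊔ Cfsg.sigmaCore N := by
      obtain ⟨hUN, hKσN, hUK, hprod⟩ := hKU.compl
      apply mem_of_coprime_of_sup (sup_le hUN (sigmaCore_le N)) hKU.hall.1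
        (le_normalizer_sup_sigmaCore hKU) ?_ hxN ?_
      · intro m hm
        obtain ⟨a, ha, b, hb, rfl⟩ := hprod m hm
        refine Subgroup.mul_mem _ (le_sup_left (a := U' ⊔ Cfsg.sigmaCore N)
          (le_sup_left (a := U') ha)) ?_
        have : K' ⊔ Cfsg.sigmaCore N ≤ (U' ⊔ Cfsg.sigmaCore N) ⊔ K' :=
          sup_le le_sup_right (le_sup_of_le_left le_sup_right)
        exact this hb
      · apply Nat.coprime_of_dvd
        intro r hr h1 h2
        have h3 := hτ2 r hr h1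
        have h4 := hKU.hall.2.1 r hr h2
        exact h3.2.2.2 (Cfsg.Agent.Lib.Helper2.BGCor.pRankLE_one_of_kappa h4)
    refine ⟨?_, ⟨hxhat, hxU⟩, hxnot⟩
    intro hU
    rw [hU, bot_sup_eq] at hxU
    exact hxnot hxU

end Cfsg.Agent.Lib.Helper9.BG144
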