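/-
helper9: DEFECT-ONE cluster, Part M (planner helper8), leaf TRFIX `tr1_mem_range_nrm`:
the relative trace `tr1_N γ` maps `P`-fixed vectors into `ν V`.
-/
import Mathlib
import Cfsg.Prelude.Def_BlockRank
import Cfsg.Agent.Lib.Helper8.DOMDefs
import Cfsg.Agent.Lib.Helper27.BlkAlgDefs2
import Cfsg.Agent.Lib.Helper27.BlkAlgL3
import Cfsg.Agent.Lib.Helper19.BlkAlgB1
import Cfsg.Agent.Lib.Helper18.BlkAlgB3

set_option autoImplicit false

namespace Cfsg.Agent.Lib.Helper9.DOMTRFIX

open Cfsg Cfsg.Agent.Lib.Helper8.DOM Cfsg.Agent.Lib.Helper27.BlkAlg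

universe u v w

/-- sum over a finite group `N` split along the right cosets `H s` of a subgroup `H` -/
theorem sum_eq_sum_complement {N : Type*} [Group N] [Fintype N] {M : Type*} [AddCommMonoid M]
    (H : Subgroup N) (S : Set N) (hS : Subgroup.IsComplement (H : Set N) S) [Fintype H] [Fintype S]
    (f : N → M) : ∑ n : N, f n = ∑ s : S, ∑ h : H, f ((h : N) * (s : N)) := by
  classical
  let e : ↥H × ↥S ≃ N := Equiv.ofBijective (fun x : ↥H × ↥S => (x.1 : N) * (x.2 : N)) hS
  rw [← e.sum_comp, Fintype.sum_prod_type, Finset.sum_comm]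
  rfl

section modules

variable {F : Type u} [Field F] {G : Type v} [Group G] [Finite G]
variable {V : Type w} [AddCommGroup V] [Module F V]
variable (p : ℕ) [Fact p.Prime] [CharP F p]

/-- TRFIX -/
theorem tr1_mem_range_nrm (ρ : Representation F G V) (P : Subgroup G)
    (γ : V →ₗ[F] V) (v : V) (hv : v ∈ fixed ρ P) :
    tr1 ρ ρ (Nz P) γ v ∈ LinearMap.range (nrm ρ P) := by
  classical
  have : Fintype (Nz P) := Fintype.ofFinite _
  have : Fintype P := Fintype.ofFinite _
  rw [tr1_eq_sum, LinearMap.sum_apply]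
  set H : Subgroup (Nz P) := P.subgroupOf (Nz P) with hH
  obtain ⟨S, hS, -⟩ := Subgroup.exists_isComplement_right H 1
  have : Fintype S := Fintype.ofFinite _
  have : Fintype H := Fintype.ofFinite _
  rw [sum_eq_sum_complement H S hS]
  apply Submodule.sum_mem
  intro s _
  refine ⟨ρ ((s : Nz P) : G) (γ (ρ (((s : Nz P) : G)⁻¹) v)), ?_⟩
  rw [nrm_eq_sum, LinearMap.sum_apply]
  have hPN : P ≤ Nz P := Subgroup.le_normalizer
  let e : H ≃ P := (Subgroup.subgroupOfEquivOfLe hPN).toEquiv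
  rw [← e.sum_comp]
  apply Finset.sum_congr rfl
  intro h _
  have hx : (((h : Nz P) : G)) ∈ P := h.2
  have hfix : ρ ((((h : Nz P) : G))⁻¹) v = v := hv _ (P.inv_mem hx)
  have he : ((e h : P) : G) = ((h : Nz P) : G) := rfl
  rw [he]
  simp only [LinearMap.coe_comp, Function.comp_apply, Subgroup.coe_mul, mul_inv_rev, map_mul,
    Module.End.mul_apply]
  rw [hfix]

end modules

end Cfsg.Agent.Lib.Helper9.DOMTRFIX
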