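/-
helper9: S3282 batch 2 (sub-planner helper1), leaf ARITH `arith` (pure number theory): `b = 2`.
-/
import Mathlib
import Cfsg.Prelude.Def_Characters
import Cfsg.Agent.Lib.Helper24.BSWDefs
import Cfsg.Agent.Lib.Helper1.BSWCDefs
import Cfsg.Agent.Lib.Helper10.PowTwistChar

set_option autoImplicit false
open Cfsg Cfsg.Agent.Lib.Helper24.BSW Cfsg.Agent.CharLib Cfsg.Agent.Lib.Helper1.BSWC
open scoped ComplexConjugate

namespace Cfsg.Agent.Lib.Helper9.BSWCARITH

universe u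

/-- **ARITH** -/
theorem arith (k j b x ε : ℤ) (hk : 4 ≤ k) (hk2 : Even k) (hj : Odd j) (hε : ε = 1 ∨ ε = -1)
    (hx : x = b * k + ε) (hx1 : 1 ≤ x)
    (heq : 2 * k * j * (x - ε) ^ 2 = 4 * k ^ 3 * x * (x + ε)) : b = 2 := by
  have hε2 : ε ^ 2 = 1 := by rcases hε with h | h <;> rw [h] <;> norm_num
  have hk3 : (2 * k ^ 3 : ℤ) ≠ 0 := by positivity
  -- `j b² = 2 x (x + ε)`
  have h1 : j * b ^ 2 = 2 * x * (x + ε) := by
    apply mul_left_cancel₀ hk3
    have hxe : x - ε = b * k := by rw [hx]; ring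
    rw [hxe] at heq
    linear_combination heq
  -- expand
  have h2 : b * (j * b - 2 * b * k ^ 2 - 6 * ε * k) = 4 := by
    rw [hx] at h1
    linear_combination h1 + 4 * hε2
  have hdvd : b ∣ 4 := Dvd.intro _ h2
  have hb4 : b ≤ 4 := Int.le_of_dvd (by norm_num) hdvd
  have hb4' : -4 ≤ b := by
    have : -b ∣ 4 := (neg_dvd).mpr hdvd
    have := Int.le_of_dvd (by norm_num) this
    linarith
  have hεle : ε ≤ 1 := by rcases hε with h | h <;> rw [h] <;> norm_num
  -- `b > 0`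
  have hbpos : 0 < b := by
    by_contra hb
    push Not at hb
    rcases eq_or_lt_of_le hb with h0 | hneg
    · rw [h0] at h2; norm_num at h2
    · have : b * k ≤ -1 * 4 := by nlinarith
      linarith
  obtain ⟨r, hr⟩ := hj
  interval_cases b
  · -- b = 1
    exfalso
    have : (2 : ℤ) ∣ 1 := ⟨k ^ 2 + 3 * ε * k + 2 - r, by linear_combination h2 - hr⟩
    norm_num at this
  · rfl
  · exfalso
    norm_num at hdvd
  · -- b = 4
    exfalso
    have h2' : 4 * j - 8 * k ^ 2 - 6 * ε * k = 1 := by linarith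
    have : (2 : ℤ) ∣ 1 := ⟨2 * j - 4 * k ^ 2 - 3 * ε * k, by linear_combination (-1 : ℤ) * h2'⟩
    norm_num at this

end Cfsg.Agent.Lib.Helper9.BSWCARITH
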