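/-
helper9: S3282 batch 2 (sub-planner helper1), leaf LAT `lattice_main` (pure integers), assembled from the sub-leaves
LAT-S (`Helper9.BSWCLATS.lat_struct`), LAT-G (`lat_good`), LAT-B (`Helper23.BSWCLATB.lat_bad`) of
notes/S3282_LAT_leaves.lean.
-/
import Mathlib
import Cfsg.Prelude.Def_Characters
import Cfsg.Agent.Lib.Helper24.BSWDefs
import Cfsg.Agent.Lib.Helper1.BSWCDefs
import Cfsg.Agent.Lib.Helper10.PowTwistChar
import Cfsg.Agent.Lib.Helper9.BSWCLATS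
import Cfsg.Agent.Lib.Helper23.BSWCLATB
import Cfsg.Agent.Lib.Helper23.BSWCLATG

set_option autoImplicit false
open Cfsg Cfsg.Agent.Lib.Helper24.BSW Cfsg.Agent.CharLib Cfsg.Agent.Lib.Helper1.BSWC
open scoped ComplexConjugate

namespace Cfsg.Agent.Lib.Helper9.BSWCLAT

universe u

/-- the two other elements of `Fin 3` -/
theorem fin3_others (p₀ : Fin 3) : ∃ q₁ q₂ : Fin 3, q₁ ≠ p₀ ∧ q₂ ≠ p₀ ∧ q₁ ≠ q₂ ∧
    ∀ g : Fin 3 → ℤ, ∑ q, g q = g p₀ + g q₁ + g q₂ := by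
  obtain rfl | rfl | rfl : p₀ = 0 ∨ p₀ = 1 ∨ p₀ = 2 := by fin_cases p₀ <;> simp
  · exact ⟨1, 2, by decide, by decide, by decide, fun g => by rw [Fin.sum_univ_three]⟩
  · exact ⟨0, 2, by decide, by decide, by decide, fun g => by rw [Fin.sum_univ_three]; ring⟩
  · exact ⟨0, 1, by decide, by decide, by decide, fun g => by rw [Fin.sum_univ_three]; ring⟩

/-- **LAT** assembly -/
theorem lattice_main {B I : Type*} [Fintype B] [DecidableEq B] [Fintype I] [DecidableEq I]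
    (inv : I → I) (hinv : ∀ i, inv (inv i) = i) (ν : I) (hν : ∀ i, inv i = i ↔ i = ν)
    (hI : ∃ i, i ≠ ν)
    (m : I → B → ℤ) (hminv : ∀ i, m (inv i) = m i)
    (triv : B) (htriv : ∀ i, m i triv = 1)
    (hgram : ∀ i j, ∑ χ, m i χ * m j χ =
      2 + (if i = j then 1 else 0) + (if i = inv j then 1 else 0))
    (f : B → ℤ) (hf : ∀ χ, 0 < f χ) (hftriv : f triv = 1) (hdeg : ∀ i, ∑ χ, m i χ * f χ = 0)
    (σ : I → ℤ) (hσ : ∀ i, σ i = 1 ∨ σ i = -1) (hσinv : ∀ i, σ (inv i) = σ i)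
    (hσsum : ∑ i, σ i = -1)
    (htest : ∀ i j, ∑ χ, (m i χ : ℚ) * ((∑ l, m l χ * σ l : ℤ) : ℚ) ^ 2 / (f χ : ℚ) =
      ∑ χ, (m j χ : ℚ) * ((∑ l, m l χ * σ l : ℤ) : ℚ) ^ 2 / (f χ : ℚ)) :
    ∃ (ε : ℤ) (X : B) (L : I → B) (Y₁ Y₂ : B), (ε = 1 ∨ ε = -1) ∧
      (∀ i, i ≠ ν → ∀ χ, m i χ = (if χ = triv then 1 else 0) + (if χ = X then ε else 0)
        - (if χ = L i then ε else 0)) ∧
      (∀ χ, m ν χ = (if χ = triv then 1 else 0) + (if χ = X then ε else 0)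
        - (if χ = Y₁ then ε else 0) - (if χ = Y₂ then ε else 0)) ∧
      X ≠ triv ∧ Y₁ ≠ Y₂ ∧ Y₁ ≠ triv ∧ Y₂ ≠ triv ∧ Y₁ ≠ X ∧ Y₂ ≠ X ∧
      (∀ i, i ≠ ν → L i ≠ triv ∧ L i ≠ X ∧ L i ≠ Y₁ ∧ L i ≠ Y₂) ∧
      (∀ i j, i ≠ ν → j ≠ ν → (L i = L j ↔ j = i ∨ j = inv i)) ∧
      (∀ i, i ≠ ν → f (L i) = f X + ε) ∧ f Y₁ = f Y₂ ∧ 2 * f Y₁ = f X + ε := by
  obtain ⟨c, e, p, b, fs, hc, hct, he, hmν, hmi, hinvp, hrel⟩ :=
    Cfsg.Agent.Lib.Helper9.BSWCLATS.lat_struct inv hinv ν hν m hminv triv htriv hgram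
  by_cases hgood : ∀ i j, i ≠ ν → j ≠ ν → p i = p j
  · obtain ⟨i₀, hi₀⟩ := hI
    obtain ⟨q₁, q₂, hq₁, hq₂, hq₁₂, hsum⟩ := fin3_others (p i₀)
    have hpi : ∀ i, i ≠ ν → p i = p i₀ := fun i hi => hgood i i₀ hi hi₀
    refine Cfsg.Agent.Lib.Helper23.BSWCLATG.lat_good inv hinv ν hν ⟨i₀, hi₀⟩ m triv f hf hftriv hdeg σ hσ hσinv hσsum htest
      (e (p i₀)) (e q₁) (e q₂) (he _) (he _) (he _) (c (p i₀)) (c q₁) (c q₂) (hct _) (hct _) (hct _)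
      (fun h => hq₁ (hc h)) (fun h => hq₂ (hc h)) (fun h => hq₁₂ (hc h)) ?_ b fs ?_ ?_
    · intro χ
      rw [hmν χ, hsum]
      ring
    · intro i hi
      obtain ⟨h1, h2, h3, h4⟩ := hmi i hi
      refine ⟨h1, h2, h3 _, h3 _, h3 _, ?_⟩
      intro χ
      rw [h4 χ, hpi i hi]
    · intro i j hi hj
      constructor
      · intro hb
        by_contra hcon
        push Not at hcon
        exact ((hrel i j hi hj hcon.1 hcon.2).1 (hgood i j hi hj)) hb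
      · rintro (rfl | rfl)
        · rfl
        · exact ((hinvp i hi).2.1).symm
  · exfalso
    push Not at hgood
    obtain ⟨i₁, i₂, h₁, h₂, hp⟩ := hgood
    exact Cfsg.Agent.Lib.Helper23.BSWCLATB.lat_bad inv hinv ν hν m triv f hf hftriv hdeg σ hσ hσinv hσsum htest c e p b fs hc hct he
      hmν hmi hinvp hrel i₁ i₂ h₁ h₂ hp

end Cfsg.Agent.Lib.Helper9.BSWCLAT
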