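import Mathlib
import Cfsg.Prelude.Def_GeometricClasses

set_option autoImplicit false
open scoped MatrixGroups Kronecker

namespace Cfsg.Agent.Lib.Helper9.TensA
open Matrix

variable {F : Type*} [Field F] {a b : ℕ}

/-- Kronecker product applied to a pure tensor -/
theorem kron_mulVec (A : Matrix (Fin a) (Fin a) F) (B : Matrix (Fin b) (Fin b) F)
    (v : Fin a → F) (w : Fin b → F) :
    (A ⊗ₖ B) *ᵥ (fun p : Fin a × Fin b => v p.1 * w p.2) =
      fun p : Fin a × Fin b => (A *ᵥ v) p.1 * (B *ᵥ w) p.2 := by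
  funext p
  obtain ⟨i, k⟩ := p
  simp only [Matrix.mulVec, dotProduct, Matrix.kroneckerMap_apply, Fintype.sum_prod_type]
  rw [Finset.sum_mul_sum]
  apply Finset.sum_congr rfl
  intro j _
  apply Finset.sum_congr rfl
  intro l _
  ring

/-- the pure tensor map -/
def pure (v : Fin a → F) : (Fin b → F) →ₗ[F] (Fin a × Fin b → F) where
  toFun w := fun p => v p.1 * w p.2
  map_add' w w' := by
    funext p
    simp [mul_add]
  map_smul' c w := by
    funext p
    simp
    ring

/-- if `A` is not scalar then `A ⊗ B - λ` has rank at least `b` -/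
theorem rank_ge_of_nonscalar (A : Matrix (Fin a) (Fin a) F) (B : Matrix (Fin b) (Fin b) F)
    (hA : ∀ c : F, A ≠ c • 1) (hB : B.det ≠ 0) (lam : F) :
    b ≤ (A ⊗ₖ B - lam • (1 : Matrix (Fin a × Fin b) (Fin a × Fin b) F)).rank := by
  classical
  obtain ⟨v, hv⟩ : ∃ v : Fin a → F, LinearIndependent F ![v, A *ᵥ v] := by
    by_contra hcon
    push Not at hcon
    obtain ⟨c, hc⟩ := LinearMap.exists_eq_smul_id_of_forall_notLinearIndependent
      (f := Matrix.toLin' A) (fun v => by simpa [Matrix.toLin'_apply] using hcon v)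
    apply hA c
    apply Matrix.toLin'.injective
    rw [hc, map_smul, Matrix.toLin'_one]
    rfl
  obtain ⟨M, hM⟩ : ∃ M : Matrix (Fin a × Fin b) (Fin a × Fin b) F,
    M = A ⊗ₖ B - lam • (1 : Matrix (Fin a × Fin b) (Fin a × Fin b) F) := ⟨_, rfl⟩
  rw [← hM]
  let Ψ : (Fin b → F) →ₗ[F] (Fin a × Fin b → F) := M.mulVecLin ∘ₗ pure v
  have hinj : Function.Injective Ψ := by
    rw [← LinearMap.ker_eq_bot, LinearMap.ker_eq_bot']
    intro w hw
    have h1 : M *ᵥ (fun p : Fin a × Fin b => v p.1 * w p.2) = 0 := hw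
    rw [hM, Matrix.sub_mulVec, kron_mulVec, Matrix.smul_mulVec, Matrix.one_mulVec] at h1
    have hBw : B *ᵥ w = 0 := by
      funext k
      have h2 : (B *ᵥ w) k • (A *ᵥ v) + (-(lam * w k)) • v = 0 := by
        funext i
        have := congrFun h1 (i, k)
        simp only [Pi.sub_apply, Pi.smul_apply, smul_eq_mul, Pi.zero_apply] at this
        simp only [Pi.add_apply, Pi.smul_apply, smul_eq_mul, Pi.zero_apply]
        linear_combination this
      have h3 := LinearIndependent.pair_iff.mp hv (-(lam * w k)) ((B *ᵥ w) k)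
        (by simpa [add_comm] using h2)
      exact h3.2
    have := Matrix.eq_zero_of_mulVec_eq_zero hB hBw
    exact this
  have h1 : Module.finrank F (LinearMap.range Ψ) = b := by
    rw [LinearMap.finrank_range_of_inj hinj, Module.finrank_fin_fun]
  have h2 : LinearMap.range Ψ ≤ LinearMap.range M.mulVecLin := LinearMap.range_comp_le_range _ _
  have h3 := Submodule.finrank_mono h2
  rw [h1] at h3
  exact h3


theorem one_kron_mulVec (M : Matrix (Fin b) (Fin b) F) (φ : Fin a × Fin b → F) (i : Fin a)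
    (k : Fin b) :
    (((1 : Matrix (Fin a) (Fin a) F) ⊗ₖ M) *ᵥ φ) (i, k) = (M *ᵥ (fun l => φ (i, l))) k := by
  classical
  simp only [Matrix.mulVec, dotProduct, Matrix.kroneckerMap_apply, Fintype.sum_prod_type]
  rw [Finset.sum_eq_single i]
  · simp
  · intro j _ hji
    simp [Matrix.one_apply_ne hji.symm]
  · intro h
    exact absurd (Finset.mem_univ i) h

/-- kernel of `1 ⊗ M` -/
noncomputable def kerEquiv (M : Matrix (Fin b) (Fin b) F) :
    (Fin a → LinearMap.ker M.mulVecLin) ≃ₗ[F]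
      LinearMap.ker ((1 : Matrix (Fin a) (Fin a) F) ⊗ₖ M).mulVecLin where
  toFun ψ := ⟨fun p => (ψ p.1).1 p.2, by
    rw [LinearMap.mem_ker, Matrix.mulVecLin_apply]
    funext p
    obtain ⟨i, k⟩ := p
    rw [one_kron_mulVec]
    have := (ψ i).2
    rw [LinearMap.mem_ker, Matrix.mulVecLin_apply] at this
    exact congrFun this k⟩
  map_add' ψ ψ' := by
    apply Subtype.ext
    funext p
    simp
  map_smul' c ψ := by
    apply Subtype.ext
    funext p
    simp
  invFun φ := fun i => ⟨fun l => φ.1 (i, l), by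
    rw [LinearMap.mem_ker, Matrix.mulVecLin_apply]
    funext k
    rw [← one_kron_mulVec]
    have := φ.2
    rw [LinearMap.mem_ker, Matrix.mulVecLin_apply] at this
    exact congrFun this (i, k)⟩
  left_inv ψ := by
    funext i
    apply Subtype.ext
    funext l
    rfl
  right_inv φ := by
    apply Subtype.ext
    funext p
    rfl

theorem finrank_ker_one_kron (M : Matrix (Fin b) (Fin b) F) :
    Module.finrank F (LinearMap.ker ((1 : Matrix (Fin a) (Fin a) F) ⊗ₖ M).mulVecLin) =
      a * Module.finrank F (LinearMap.ker M.mulVecLin) := by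
  rw [← (kerEquiv (a := a) M).finrank_eq, Module.finrank_pi_fintype]
  simp

/-- rank of `1 ⊗ M` -/
theorem rank_one_kron (M : Matrix (Fin b) (Fin b) F) :
    ((1 : Matrix (Fin a) (Fin a) F) ⊗ₖ M).rank = a * M.rank := by
  have h1 := LinearMap.finrank_range_add_finrank_ker ((1 : Matrix (Fin a) (Fin a) F) ⊗ₖ M).mulVecLin
  have h2 := LinearMap.finrank_range_add_finrank_ker M.mulVecLin
  rw [finrank_ker_one_kron] at h1
  rw [Module.finrank_fintype_fun_eq_card, Fintype.card_prod, Fintype.card_fin, Fintype.card_fin] at h1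
  rw [Module.finrank_fin_fun] at h2
  unfold Matrix.rank
  have h3 : a * b = a * Module.finrank F (LinearMap.range M.mulVecLin) +
      a * Module.finrank F (LinearMap.ker M.mulVecLin) := by
    rw [← Nat.mul_add, h2]
  omega


theorem scalar_kron_sub (α lam : F) (B : Matrix (Fin b) (Fin b) F) :
    ((α • (1 : Matrix (Fin a) (Fin a) F)) ⊗ₖ B) - lam • (1 : Matrix (Fin a × Fin b) (Fin a × Fin b) F) =
      (1 : Matrix (Fin a) (Fin a) F) ⊗ₖ (α • B - lam • 1) := by
  ext ⟨i, k⟩ ⟨j, l⟩
  simp only [Matrix.sub_apply, Matrix.kroneckerMap_apply, Matrix.smul_apply, smul_eq_mul,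
    Matrix.one_apply, Prod.mk.injEq]
  by_cases hij : i = j
  · by_cases hkl : k = l
    · simp [hij, hkl]
    · simp [hij, hkl]
  · simp [hij]

theorem kron_pow (A : Matrix (Fin a) (Fin a) F) (B : Matrix (Fin b) (Fin b) F) (k : ℕ) :
    (A ⊗ₖ B) ^ k = (A ^ k) ⊗ₖ (B ^ k) := by
  induction k with
  | zero => simp
  | succ k ih => rw [pow_succ, ih, pow_succ, pow_succ, Matrix.mul_kronecker_mul]

/-- if a Kronecker product is a nonzero scalar then both factors are scalar -/
theorem scalar_of_kron_scalar (C : Matrix (Fin a) (Fin a) F) (D : Matrix (Fin b) (Fin b) F) (z : F)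
    (hz : z ≠ 0) (ha : 0 < a) (hb : 0 < b)
    (h : C ⊗ₖ D = z • (1 : Matrix (Fin a × Fin b) (Fin a × Fin b) F)) :
    ∃ s t : F, s * t = z ∧ C = s • 1 ∧ D = t • 1 := by
  have hent : ∀ i j k l, C i j * D k l = if (i, k) = (j, l) then z else 0 := by
    intro i j k l
    have := congrFun (congrFun h (i, k)) (j, l)
    simp only [Matrix.kroneckerMap_apply, Matrix.smul_apply, smul_eq_mul, Matrix.one_apply,
      mul_ite, mul_one, mul_zero] at this
    exact this
  let i₀ : Fin a := ⟨0, ha⟩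
  let k₀ : Fin b := ⟨0, hb⟩
  have h00 : C i₀ i₀ * D k₀ k₀ = z := by
    rw [hent, if_pos rfl]
  have hC0 : C i₀ i₀ ≠ 0 := fun h0 => hz (by rw [← h00, h0, zero_mul])
  have hD0 : D k₀ k₀ ≠ 0 := fun h0 => hz (by rw [← h00, h0, mul_zero])
  refine ⟨C i₀ i₀, D k₀ k₀, h00, ?_, ?_⟩
  · ext i j
    have h1 := hent i j k₀ k₀
    rw [Matrix.smul_apply, Matrix.one_apply, smul_eq_mul]
    by_cases hij : i = j
    · subst hij
      rw [if_pos rfl] at h1
      rw [if_pos rfl, mul_one]
      have : C i i * D k₀ k₀ = C i₀ i₀ * D k₀ k₀ := by rw [h1, h00]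
      exact mul_right_cancel₀ hD0 this
    · rw [if_neg (by simp [hij])] at h1
      rw [if_neg hij, mul_zero]
      rcases mul_eq_zero.mp h1 with h | h
      · exact h
      · exact absurd h hD0
  · ext k l
    have h1 := hent i₀ i₀ k l
    rw [Matrix.smul_apply, Matrix.one_apply, smul_eq_mul]
    by_cases hkl : k = l
    · subst hkl
      rw [if_pos rfl] at h1
      rw [if_pos rfl, mul_one]
      have : C i₀ i₀ * D k k = C i₀ i₀ * D k₀ k₀ := by rw [h1, h00]
      exact mul_left_cancel₀ hC0 this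
    · rw [if_neg (by simp [hkl])] at h1
      rw [if_neg hkl, mul_zero]
      rcases mul_eq_zero.mp h1 with h | h
      · exact absurd h hC0
      · exact h

variable {n : ℕ}

/-- similarity of a matrix with a reindexed matrix over the product index type -/
def Sim (e : Fin n ≃ Fin a × Fin b) (x : Matrix (Fin n) (Fin n) F)
    (Y : Matrix (Fin a × Fin b) (Fin a × Fin b) F) : Prop :=
  ∃ Q Qi : Matrix (Fin n) (Fin n) F, Q * Qi = 1 ∧ Qi * Q = 1 ∧
    x = Q * Matrix.reindex e.symm e.symm Y * Qi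

theorem Sim.rank_sub {e : Fin n ≃ Fin a × Fin b} {x : Matrix (Fin n) (Fin n) F}
    {Y : Matrix (Fin a × Fin b) (Fin a × Fin b) F} (h : Sim e x Y) (lam : F) :
    (x - lam • 1).rank = (Y - lam • 1).rank := by
  obtain ⟨Q, Qi, hQQi, hQiQ, rfl⟩ := h
  have h1 : Q * Matrix.reindex e.symm e.symm Y * Qi - lam • 1 =
      Q * Matrix.reindex e.symm e.symm (Y - lam • 1) * Qi := by
    have h2 : Matrix.reindex e.symm e.symm (Y - lam • 1) =
        Matrix.reindex e.symm e.symm Y - lam • 1 := by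
      ext i j
      simp [Matrix.one_apply]
    rw [h2, Matrix.mul_sub, Matrix.sub_mul, Matrix.mul_smul, Matrix.smul_mul, Matrix.mul_one, hQQi]
  have hQdet : IsUnit Q.det := by
    rw [isUnit_iff_ne_zero]
    intro h0
    have := congrArg Matrix.det hQQi
    rw [Matrix.det_mul, h0, zero_mul, Matrix.det_one] at this
    exact zero_ne_one this
  have hQidet : IsUnit Qi.det := by
    rw [isUnit_iff_ne_zero]
    intro h0
    have := congrArg Matrix.det hQQi
    rw [Matrix.det_mul, h0, mul_zero, Matrix.det_one] at this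
    exact zero_ne_one this
  rw [h1, Matrix.rank_mul_eq_left_of_isUnit_det _ _ hQidet,
    Matrix.rank_mul_eq_right_of_isUnit_det _ _ hQdet, Matrix.rank_reindex]

theorem Sim.pow_eq_smul {e : Fin n ≃ Fin a × Fin b} {x : Matrix (Fin n) (Fin n) F}
    {Y : Matrix (Fin a × Fin b) (Fin a × Fin b) F} (h : Sim e x Y) (k : ℕ) (z : F)
    (hx : x ^ k = z • 1) : Y ^ k = z • 1 := by
  obtain ⟨Q, Qi, hQQi, hQiQ, rfl⟩ := h
  obtain ⟨R, hR⟩ : ∃ R : Matrix (Fin n) (Fin n) F, R = Matrix.reindex e.symm e.symm Y := ⟨_, rfl⟩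
  rw [← hR] at hx
  have hpow : ∀ k : ℕ, (Q * R * Qi) ^ k = Q * R ^ k * Qi := by
    intro k
    induction k with
    | zero => rw [pow_zero, pow_zero, Matrix.mul_one, hQQi]
    | succ k ih =>
      rw [pow_succ, ih, pow_succ]
      calc Q * R ^ k * Qi * (Q * R * Qi) = Q * R ^ k * (Qi * Q) * R * Qi := by
            simp only [Matrix.mul_assoc]
        _ = Q * (R ^ k * R) * Qi := by rw [hQiQ, Matrix.mul_one]; simp only [Matrix.mul_assoc]
  rw [hpow] at hx
  have hRk : R ^ k = z • 1 := by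
    calc R ^ k = (Qi * Q) * R ^ k * (Qi * Q) := by rw [hQiQ, Matrix.one_mul, Matrix.mul_one]
      _ = Qi * (Q * R ^ k * Qi) * Q := by simp only [Matrix.mul_assoc]
      _ = z • 1 := by rw [hx, Matrix.mul_smul, Matrix.smul_mul, Matrix.mul_one, hQiQ]
  have hRpow : R ^ k = Matrix.reindex e.symm e.symm (Y ^ k) := by
    rw [hR, ← Matrix.coe_reindexAlgEquiv F F, map_pow]
  rw [hRpow] at hRk
  ext p q
  have := congrFun (congrFun hRk (e.symm p)) (e.symm q)
  simp only [Matrix.reindex_apply, Matrix.submatrix_apply, Equiv.symm_symm, Equiv.apply_symm_apply,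
    Matrix.smul_apply, Matrix.one_apply, EmbeddingLike.apply_eq_iff_eq] at this
  rw [this, Matrix.smul_apply, Matrix.one_apply]


/-- conjugates into the tensor product subgroup are similar to Kronecker products -/
theorem sim_of_mem (e : Fin n ≃ Fin a × Fin b) (P x g : GL (Fin n) F)
    (h : g⁻¹ * x * g ∈ Cfsg.Geo.tensorProductSubgroup a b e P) :
    ∃ (A : GL (Fin a) F) (B : GL (Fin b) F),
      Sim e (x : Matrix (Fin n) (Fin n) F)
        ((A : Matrix (Fin a) (Fin a) F) ⊗ₖ (B : Matrix (Fin b) (Fin b) F)) := by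
  unfold Cfsg.Geo.tensorProductSubgroup at h
  rw [Subgroup.mem_map] at h
  obtain ⟨y, hy, hyx⟩ := h
  rw [Subgroup.mem_map] at hy
  obtain ⟨k, hk, hky⟩ := hy
  obtain ⟨A, B, hAB⟩ := hk
  refine ⟨A, B, ((g * P : GL (Fin n) F) : Matrix (Fin n) (Fin n) F),
    (((g * P)⁻¹ : GL (Fin n) F) : Matrix (Fin n) (Fin n) F), ?_, ?_, ?_⟩
  · rw [← Units.val_mul, mul_inv_cancel, Units.val_one]
  · rw [← Units.val_mul, inv_mul_cancel, Units.val_one]
  · have h1 : x = (g * P) * y * (g * P)⁻¹ := by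
      have h2 : P * y * P⁻¹ = g⁻¹ * x * g := hyx
      have h3 : x = g * (P * y * P⁻¹) * g⁻¹ := by
        rw [h2]; group
      rw [h3]; group
    have h4 : (y : Matrix (Fin n) (Fin n) F) = Matrix.reindex e.symm e.symm
        ((A : Matrix (Fin a) (Fin a) F) ⊗ₖ (B : Matrix (Fin b) (Fin b) F)) := by
      rw [← hky, ← hAB]
      rfl
    rw [h1, Units.val_mul, Units.val_mul, h4]

theorem mem_of_eq (e : Fin n ≃ Fin a × Fin b) (P y : GL (Fin n) F) (A : GL (Fin a) F)
    (B : GL (Fin b) F)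
    (h : (y : Matrix (Fin n) (Fin n) F) = (P : Matrix (Fin n) (Fin n) F) *
      Matrix.reindex e.symm e.symm ((A : Matrix (Fin a) (Fin a) F) ⊗ₖ (B : Matrix (Fin b) (Fin b) F)) *
      ((P⁻¹ : GL (Fin n) F) : Matrix (Fin n) (Fin n) F)) :
    y ∈ Cfsg.Geo.tensorProductSubgroup a b e P := by
  classical
  unfold Cfsg.Geo.tensorProductSubgroup
  rw [Subgroup.mem_map]
  have hdet : ((A : Matrix (Fin a) (Fin a) F) ⊗ₖ (B : Matrix (Fin b) (Fin b) F)).det ≠ 0 := by
    rw [Matrix.det_kronecker]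
    have hA : (A : Matrix (Fin a) (Fin a) F).det ≠ 0 := by
      have := A.isUnit
      exact ((Matrix.isUnit_iff_isUnit_det _).mp this).ne_zero
    have hB : (B : Matrix (Fin b) (Fin b) F).det ≠ 0 := by
      have := B.isUnit
      exact ((Matrix.isUnit_iff_isUnit_det _).mp this).ne_zero
    exact mul_ne_zero (pow_ne_zero _ hA) (pow_ne_zero _ hB)
  let k : GL (Fin a × Fin b) F := Matrix.GeneralLinearGroup.mkOfDetNeZero _ hdet
  have hk : k ∈ Cfsg.Geo.kroneckerSubgroup a b F := ⟨A, B, rfl⟩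
  refine ⟨(Cfsg.Geo.glReindex e.symm) k, Subgroup.mem_map.mpr ⟨k, hk, rfl⟩, ?_⟩
  apply Units.ext
  show ((P * (Cfsg.Geo.glReindex e.symm) k * P⁻¹ : GL (Fin n) F) : Matrix (Fin n) (Fin n) F) = _
  rw [h, Units.val_mul, Units.val_mul]
  rfl

end Cfsg.Agent.Lib.Helper9.TensA
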