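import Mathlib
import Cfsg.Prelude.Def_GeometricClasses
import Cfsg.Agent.Lib.Helper11.MonoDefs
import Cfsg.Agent.Lib.Helper11.MonoBasic

/-!
helper9: S5634 (m = 1) leaf MD `exists_col_three` (helper11's market, notes/S5634_m1_leaves.lean).
Also: permutation matrices as elements of `GL` (`pg`), monomial.
-/

set_option autoImplicit false
set_option linter.unusedSectionVars false
set_option linter.unusedVariables false

namespace Cfsg.Agent.Lib.Helper9.MonoLeaf
open Matrix Cfsg.Agent.Lib.Helper11.Mono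

variable {F : Type*} [Field F] [Fintype F] {ι : Type} [Fintype ι] [DecidableEq ι]

/-- the permutation matrix of `σ` as an element of `GL` -/
noncomputable def pg (σ : Equiv.Perm ι) : GL ι F :=
  ⟨σ.permMatrix F, (σ⁻¹).permMatrix F,
    by rw [← Matrix.permMatrix_mul, inv_mul_cancel, Matrix.permMatrix_one],
    by rw [← Matrix.permMatrix_mul, mul_inv_cancel, Matrix.permMatrix_one]⟩

omit [Fintype F] in
lemma pg_apply (σ : Equiv.Perm ι) (a b : ι) :
    ((pg σ : GL ι F) : Matrix ι ι F) a b = if σ a = b then 1 else 0 := by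
  show (σ.permMatrix F) a b = _
  rw [Equiv.Perm.permMatrix, PEquiv.toMatrix_apply]
  simp [Equiv.toPEquiv_apply]

omit [Fintype F] in
lemma pg_isMono (σ : Equiv.Perm ι) : IsMono ((pg σ : GL ι F) : Matrix ι ι F) := by
  intro j
  refine ⟨σ.symm j, fun k hk => ?_⟩
  rw [pg_apply, if_neg]
  intro h
  exact hk (by rw [← h, Equiv.symm_apply_apply])

omit [Fintype F] in
/-- entries of `A * (pg σ * dg s)` -/
lemma mul_pg_dg_apply (A : Matrix ι ι F) (σ : Equiv.Perm ι) (s : ι → Fˣ) (i b : ι) :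
    (A * ((pg σ * dg s : GL ι F) : Matrix ι ι F)) i b = A i (σ.symm b) * (s b : F) := by
  rw [Units.val_mul, dg_val, ← Matrix.mul_assoc, Matrix.mul_diagonal, Matrix.mul_apply]
  congr 1
  rw [Finset.sum_eq_single (σ.symm b)]
  · rw [pg_apply, if_pos (Equiv.apply_symm_apply σ b), mul_one]
  · intro a _ ha
    rw [pg_apply, if_neg, mul_zero]
    intro h
    exact ha (by rw [← h, Equiv.symm_apply_apply])
  · intro h
    exact absurd (Finset.mem_univ _) h

/-- LEAF MD. -/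
theorem exists_col_three (h3 : 3 ≤ Fintype.card ι) (hq : 4 ≤ Fintype.card F)
    (G : Subgroup (GL ι F)) (hN : ContainsN G) (A : GL ι F) (hA : A ∈ G)
    (hnm : ¬ IsMono (A : Matrix ι ι F)) :
    ∃ A' : GL ι F, A' ∈ G ∧ ∃ k l₁ l₂ l₃ : ι, l₁ ≠ l₂ ∧ l₁ ≠ l₃ ∧ l₂ ≠ l₃ ∧
      (A' : Matrix ι ι F) l₁ k ≠ 0 ∧ (A' : Matrix ι ι F) l₂ k ≠ 0 ∧ (A' : Matrix ι ι F) l₃ k ≠ 0 := by
  classical
  unfold IsMono at hnm
  rw [not_forall] at hnm
  obtain ⟨k, hk⟩ := hnm
  rw [not_exists] at hk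
  obtain ⟨l₁, h1⟩ : ∃ l, (A : Matrix ι ι F) l k ≠ 0 := by
    by_contra h
    rw [not_exists] at h
    exact col_ne_zero A k (funext fun l => by simpa [Matrix.col_apply] using h l)
  obtain ⟨l₂, h21, h2⟩ : ∃ l, l ≠ l₁ ∧ (A : Matrix ι ι F) l k ≠ 0 := by
    by_contra h
    apply hk l₁
    intro l hl
    by_contra hne
    exact h ⟨l, hl, hne⟩
  by_cases h3' : ∃ l₃, l₃ ≠ l₁ ∧ l₃ ≠ l₂ ∧ (A : Matrix ι ι F) l₃ k ≠ 0
  · obtain ⟨l₃, h31, h32, h3v⟩ := h3'
    exact ⟨A, hA, k, l₁, l₂, l₃, h21.symm, h31.symm, h32.symm, h1, h2, h3v⟩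
  have h3'' : ∀ l₃, l₃ ≠ l₁ → l₃ ≠ l₂ → (A : Matrix ι ι F) l₃ k = 0 := by
    intro l₃ h31 h32
    by_contra hne
    exact h3' ⟨l₃, h31, h32, hne⟩
  obtain ⟨l₃, h31, h32⟩ : ∃ l₃, l₃ ≠ l₁ ∧ l₃ ≠ l₂ := by
    by_contra h
    have hsub : (Finset.univ : Finset ι) ⊆ {l₁, l₂} := by
      intro x _
      by_cases hx : x = l₁
      · simp [hx]
      · by_cases hx2 : x = l₂
        · simp [hx2]
        · exact absurd ⟨x, hx, hx2⟩ h
    have hc := Finset.card_le_card hsub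
    have h2c : ({l₁, l₂} : Finset ι).card ≤ 2 := Finset.card_le_two
    rw [Finset.card_univ] at hc
    omega
  have h3k : (A : Matrix ι ι F) l₃ k = 0 := h3'' l₃ h31 h32
  obtain ⟨k', hk'⟩ : ∃ k', (A : Matrix ι ι F) l₃ k' ≠ 0 := by
    by_contra h
    have h0 : ∀ j, (A : Matrix ι ι F) l₃ j = 0 := by
      intro j
      by_contra hne
      exact h ⟨j, hne⟩
    have hdet : (A : Matrix ι ι F).det = 0 := Matrix.det_eq_zero_of_row_eq_zero l₃ h0
    have hu : IsUnit (A : Matrix ι ι F).det := (Matrix.isUnit_iff_isUnit_det _).1 A.isUnit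
    rw [hdet] at hu
    exact not_isUnit_zero hu
  have hkk' : k' ≠ k := by
    rintro rfl
    exact hk' h3k
  obtain ⟨σ, hσ1, hσ2⟩ : ∃ σ : Equiv.Perm ι, σ k = l₁ ∧ σ k' = l₂ := by
    refine ⟨Equiv.swap (Equiv.swap k l₁ k') l₂ * Equiv.swap k l₁, ?_, ?_⟩
    · rw [Equiv.Perm.mul_apply, Equiv.swap_apply_left]
      apply Equiv.swap_apply_of_ne_of_ne
      · intro h
        have := congrArg (Equiv.swap k l₁) h
        rw [Equiv.swap_apply_right, Equiv.swap_apply_self] at this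
        exact hkk' this.symm
      · exact h21.symm
    · rw [Equiv.Perm.mul_apply, Equiv.swap_apply_left]
  obtain ⟨x, hx0, hx1, hx2⟩ : ∃ x : F, x ≠ 0 ∧
      (A : Matrix ι ι F) l₁ k * x + (A : Matrix ι ι F) l₁ k' ≠ 0 ∧
      (A : Matrix ι ι F) l₂ k * x + (A : Matrix ι ι F) l₂ k' ≠ 0 := by
    have hcard : ({0, -(A : Matrix ι ι F) l₁ k' / (A : Matrix ι ι F) l₁ k,
        -(A : Matrix ι ι F) l₂ k' / (A : Matrix ι ι F) l₂ k} : Finset F).card
        < Fintype.card F := by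
      have := Finset.card_le_three (a := (0 : F))
        (b := -(A : Matrix ι ι F) l₁ k' / (A : Matrix ι ι F) l₁ k)
        (c := -(A : Matrix ι ι F) l₂ k' / (A : Matrix ι ι F) l₂ k)
      omega
    obtain ⟨x, hx⟩ : ∃ x, x ∉ ({0, -(A : Matrix ι ι F) l₁ k' / (A : Matrix ι ι F) l₁ k,
        -(A : Matrix ι ι F) l₂ k' / (A : Matrix ι ι F) l₂ k} : Finset F) := by
      by_contra h
      have hall : ∀ x, x ∈ ({0, -(A : Matrix ι ι F) l₁ k' / (A : Matrix ι ι F) l₁ k,
        -(A : Matrix ι ι F) l₂ k' / (A : Matrix ι ι F) l₂ k} : Finset F) := by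
        intro x
        by_contra hne
        exact h ⟨x, hne⟩
      rw [Finset.eq_univ_iff_forall.2 hall, Finset.card_univ] at hcard
      exact lt_irrefl _ hcard
    simp only [Finset.mem_insert, Finset.mem_singleton, not_or] at hx
    refine ⟨x, hx.1, ?_, ?_⟩
    · intro h
      apply hx.2.1
      rw [eq_div_iff h1]
      linear_combination h
    · intro h
      apply hx.2.2
      rw [eq_div_iff h2]
      linear_combination h
  set u₁ : Fˣ := Units.mk0 (x / (A : Matrix ι ι F) l₁ k) (div_ne_zero hx0 h1) with hu₁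
  set u₂ : Fˣ := Units.mk0 (1 / (A : Matrix ι ι F) l₂ k) (div_ne_zero one_ne_zero h2) with hu₂
  set s : ι → Fˣ := fun b => if b = l₁ then u₁ else if b = l₂ then u₂ else 1 with hs
  have hs1 : (s l₁ : F) = x / (A : Matrix ι ι F) l₁ k := by
    rw [hs]
    simp [hu₁]
  have hs2 : (s l₂ : F) = 1 / (A : Matrix ι ι F) l₂ k := by
    rw [hs]
    simp [hu₂, h21]
  have hm : IsMono ((pg σ * dg s : GL ι F) : Matrix ι ι F) := by
    rw [Units.val_mul]
    exact IsMono.mul (pg_isMono σ) (dg_isMono s)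
  have hent : ∀ i, ((A * (pg σ * dg s) * A : GL ι F) : Matrix ι ι F) i k
      = (A : Matrix ι ι F) i k * x + (A : Matrix ι ι F) i k' := by
    intro i
    rw [Units.val_mul, Units.val_mul, Matrix.mul_apply,
      Finset.sum_eq_add_of_mem l₁ l₂ (Finset.mem_univ _) (Finset.mem_univ _) h21.symm]
    · rw [mul_pg_dg_apply, mul_pg_dg_apply, hs1, hs2]
      have e1 : σ.symm l₁ = k := by rw [← hσ1, Equiv.symm_apply_apply]
      have e2 : σ.symm l₂ = k' := by rw [← hσ2, Equiv.symm_apply_apply]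
      rw [e1, e2]
      field_simp
    · intro c _ hc
      rw [h3'' c hc.1 hc.2, mul_zero]
  refine ⟨A * (pg σ * dg s) * A, G.mul_mem (G.mul_mem hA (hN _ hm)) hA, k, l₁, l₂, l₃,
    h21.symm, h31.symm, h32.symm, ?_, ?_, ?_⟩
  · rw [hent]; exact hx1
  · rw [hent]; exact hx2
  · rw [hent, h3k, zero_mul, zero_add]; exact hk'

end Cfsg.Agent.Lib.Helper9.MonoLeaf
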