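import Cfsg.Agent.Lib.Helper9.FpfAction

/-!
Helper lemmas (helper9): a `q`-group acting fixed-point-freely on a nontrivial finite abelian group has only one
subgroup of order `q`.
-/

set_option autoImplicit false

namespace Cfsg.Agent.Lib.Helper9

variable {B V : Type*} [Group B] [CommGroup V] [MulDistribMulAction B V]

theorem IsFpfAction.mem_zpowers_of_commute (hf : IsFpfAction B V) [Finite B] [Finite V]
    [Nontrivial V] {a b : B} {r : ℕ} (hr : r.Prime) (ha : orderOf a = r) (hb : orderOf b = r)
    (hab : Commute a b) : a ∈ Subgroup.zpowers b := by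
  by_contra hdisj
  exact hf.false_of_pow_prime hr ha (hf.pow_prime_eq_one_of_commute hr ha hb hab hdisj)

/-- A `q`-group acting fixed-point-freely on a nontrivial finite abelian group has a unique subgroup of order `q`. -/
theorem IsFpfAction.subgroup_eq_of_card_eq_prime (hf : IsFpfAction B V) [Finite B] [Finite V]
    [Nontrivial V] (q : ℕ) [hq : Fact q.Prime] (hB : IsPGroup q B) (H K : Subgroup B)
    (hH : Nat.card H = q) (hK : Nat.card K = q) : H = K := by
  have hnt : Nontrivial B := by
    have h1 : 1 < Nat.card H := by rw [hH]; exact hq.out.one_lt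
    have : Nontrivial ↥H := Finite.one_lt_card_iff_nontrivial.mp h1
    obtain ⟨x, y, hxy⟩ := this
    exact ⟨⟨(x : B), (y : B), fun h => hxy (Subtype.ext h)⟩⟩
  haveI hcnt : Nontrivial ↥(Subgroup.center B) := IsPGroup.center_nontrivial hB
  have hpc : IsPGroup q ↥(Subgroup.center B) := hB.to_subgroup _
  obtain ⟨n, hn⟩ := IsPGroup.iff_card.mp hpc
  have hdvd : q ∣ Nat.card ↥(Subgroup.center B) := by
    rw [hn]
    apply dvd_pow_self
    intro h0
    rw [h0, pow_zero] at hn
    have := Finite.one_lt_card_iff_nontrivial.mpr hcnt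
    omega
  obtain ⟨z, hz⟩ := exists_prime_orderOf_dvd_card' q hdvd
  have hzq : orderOf (z : B) = q := by rw [Subgroup.orderOf_coe, hz]
  have key : ∀ L : Subgroup B, Nat.card L = q → L = Subgroup.zpowers (z : B) := by
    intro L hL
    have h1 : 1 < Nat.card L := by rw [hL]; exact hq.out.one_lt
    have : Nontrivial ↥L := Finite.one_lt_card_iff_nontrivial.mp h1
    obtain ⟨h, hh1⟩ := exists_ne (1 : ↥L)
    have hho : orderOf (h : B) = q := by
      have h2 : orderOf (h : B) ∣ q := by
        rw [Subgroup.orderOf_coe, ← hL]; exact orderOf_dvd_natCard h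
      rcases (Nat.dvd_prime hq.out).mp h2 with h3 | h3
      · exfalso
        apply hh1
        apply Subtype.ext
        exact orderOf_eq_one_iff.mp h3
      · exact h3
    have hzL : Subgroup.zpowers (h : B) = L := by
      apply Subgroup.eq_of_le_of_card_ge ((Subgroup.zpowers_le).mpr h.2)
      rw [Nat.card_zpowers, hho, hL]
    have hcomm : Commute (z : B) (h : B) := ((Subgroup.mem_center_iff.mp z.2) (h : B)).symm
    have hmem := hf.mem_zpowers_of_commute hq.out hzq hho hcomm
    rw [← hzL]
    symm
    apply Subgroup.eq_of_le_of_card_ge ((Subgroup.zpowers_le).mpr hmem)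
    rw [Nat.card_zpowers, Nat.card_zpowers, hho, hzq]
  rw [key H hH, key K hK]

end Cfsg.Agent.Lib.Helper9
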