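import Mathlib
import Cfsg.Agent.Lib.Helper9.FpfUnique
import Cfsg.Agent.S0016

/-!
# S4840 leaf (T0) (helper9; planner helper1's exact name and binders, notes/S4840_leaves.lean)

An `r`-subgroup (`r ≠ p`) of a group whose `p'`-elements act fixed-point-freely on a nontrivial finite
commutative group is cyclic or (`r = 2`) generalized quaternion `Q_{2^(n+2)}`, `n ≥ 1`.
-/

set_option autoImplicit false

universe u v

namespace Cfsg.Agent.Lib.Helper9.Gag

open Cfsg

/-- (T0) an `r`-subgroup (`r ≠ p`) of a group whose `p'`-elements act fixed-point-freely on a nontrivial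
commutative group of exponent `p` is cyclic or (`r = 2`) generalized quaternion. -/
theorem cyclic_or_quat_of_fpf {X : Type u} [Group X] [Finite X] {V : Type v} [CommGroup V] [Finite V]
    [Nontrivial V] (p : ℕ) [Fact p.Prime] (φ : X →* MulAut V) (hexp : ∀ v : V, v ^ p = 1)
    (hfpf : ∀ x : X, x ≠ 1 → (orderOf x).Coprime p → ∀ v : V, φ x v = v → v = 1)
    (r : ℕ) [Fact r.Prime] (hrp : r ≠ p) (Q : Subgroup X) (hQ : IsPGroup r Q) :
    IsCyclic Q ∨ (r = 2 ∧ ∃ n : ℕ, 1 ≤ n ∧ Nonempty (Q ≃* QuaternionGroup (2 ^ n))) := by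
  classical
  letI act : MulDistribMulAction ↥Q V := MulDistribMulAction.compHom V (φ.comp Q.subtype)
  have hsmul : ∀ (b : ↥Q) (v : V), b • v = φ (b : X) v := fun b v => rfl
  have hf : Cfsg.Agent.Lib.Helper9.IsFpfAction ↥Q V := by
    intro b hb v hv
    rw [hsmul] at hv
    have hb' : (b : X) ≠ 1 := fun h => hb (Subtype.ext h)
    obtain ⟨k, hk⟩ := (IsPGroup.iff_orderOf.mp hQ) b
    have hcop : (orderOf (b : X)).Coprime p := by
      rw [Subgroup.orderOf_coe, hk]
      apply Nat.Coprime.pow_left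
      exact (Nat.coprime_primes (Fact.out : r.Prime) (Fact.out : p.Prime)).mpr hrp
    exact hfpf (b : X) hb' hcop v hv
  have huniq : ∀ H K : Subgroup ↥Q, Nat.card H = r → Nat.card K = r → H = K :=
    fun H K hH hK => hf.subgroup_eq_of_card_eq_prime r hQ H K hH hK
  rcases Cfsg.Agent.S0016.result r hQ huniq with h | ⟨hr2, n, ⟨e⟩⟩
  · exact Or.inl h
  · rcases Nat.eq_zero_or_pos n with hn | hn
    · left
      subst hn
      rw [pow_zero] at e
      haveI : IsCyclic (QuaternionGroup 1) := QuaternionGroup.quaternionGroup_one_isCyclic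
      exact isCyclic_of_surjective e.symm e.symm.surjective
    · exact Or.inr ⟨hr2, n, hn, ⟨e⟩⟩

end Cfsg.Agent.Lib.Helper9.Gag
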