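import Mathlib

/-!
Small facts on finite `p`-groups (helper9):
* `isCyclic_of_comm_of_unique_order_p`: a finite abelian `p`-group whose elements of order `p`
  all lie in one cyclic subgroup is cyclic;
* `pow_le_card_of_lowerCentralSeries_ne_bot`: a finite `p`-group whose lower central series term
  of index `n + 1` is nontrivial has order at least `p ^ (n + 3)`;
* `normal_of_le_center'`: central subgroups are normal.
-/

set_option autoImplicit false

namespace Cfsg.Agent.Lib.Helper9.PGroupMisc

universe u

/-- A finite commutative `p`-group in which all elements of order `p` lie in one cyclic subgroup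
is cyclic. -/
theorem isCyclic_of_comm_of_unique_order_p {A : Type*} [CommGroup A] [Finite A] {p : ℕ}
    [hp : Fact p.Prime] (hA : IsPGroup p A)
    (huniq : ∀ u v : A, orderOf u = p → orderOf v = p → v ∈ Subgroup.zpowers u) :
    IsCyclic A := by
  classical
  obtain ⟨a, ha⟩ := Monoid.exists_orderOf_eq_exponent (G := A) Monoid.ExponentExists.of_finite
  obtain ⟨e, he⟩ := (IsPGroup.iff_orderOf.mp hA) a
  have hp0 : p ≠ 0 := hp.out.ne_zero
  have key : ∀ j : ℕ, ∀ b : A, orderOf b = p ^ j → b ∈ Subgroup.zpowers a := by
    intro j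
    induction j with
    | zero =>
      intro b hb
      rw [pow_zero, orderOf_eq_one_iff] at hb
      rw [hb]; exact one_mem _
    | succ j ih =>
      intro b hb
      have hbp : orderOf (b ^ p) = p ^ j := by
        rw [orderOf_pow_of_dvd hp0 (by rw [hb, pow_succ]; exact dvd_mul_left _ _), hb, pow_succ,
          Nat.mul_div_cancel _ hp.out.pos]
      have hmem := ih _ hbp
      rw [← mem_powers_iff_mem_zpowers, Submonoid.mem_powers_iff] at hmem
      obtain ⟨k, hk⟩ := hmem
      have hje : j + 1 ≤ e := by
        have h1 : orderOf b ∣ Monoid.exponent A := Monoid.order_dvd_exponent b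
        rw [← ha, he, hb] at h1
        exact (Nat.pow_dvd_pow_iff_le_right hp.out.one_lt).mp h1
      have hpk : p ∣ k := by
        by_contra hnd
        have hcop : Nat.Coprime (p ^ e) k := Nat.Coprime.pow_left _ ((Nat.Prime.coprime_iff_not_dvd hp.out).mpr hnd)
        have h1 : orderOf (a ^ k) = p ^ e := by
          rw [orderOf_pow', he, hcop.gcd_eq_one, Nat.div_one]
          rintro rfl
          exact hnd (dvd_zero _)
        rw [hk, hbp] at h1
        have := Nat.pow_right_injective hp.out.two_le h1
        omega
      obtain ⟨k', rfl⟩ := hpk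
      have hcp : (b * (a ^ k')⁻¹) ^ p = 1 := by
        rw [mul_pow, inv_pow, ← pow_mul, mul_comm k' p, hk, mul_inv_cancel]
      have hb' : b = (b * (a ^ k')⁻¹) * a ^ k' := by group
      by_cases hc1 : b * (a ^ k')⁻¹ = 1
      · rw [hb', hc1, one_mul]
        exact Subgroup.pow_mem _ (Subgroup.mem_zpowers a) _
      · have hoc : orderOf (b * (a ^ k')⁻¹) = p := orderOf_eq_prime hcp hc1
        have hou : orderOf (a ^ (p ^ (e - 1))) = p := by
          rw [orderOf_pow_of_dvd (pow_ne_zero _ hp0) (by rw [he]; exact pow_dvd_pow _ (by omega)), he]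
          have : p ^ e = p ^ (e - 1) * p := by rw [← pow_succ]; congr 1; omega
          rw [this, Nat.mul_div_cancel_left _ (pow_pos hp.out.pos _)]
        have h2 := huniq _ _ hou hoc
        have h3 : Subgroup.zpowers (a ^ (p ^ (e - 1))) ≤ Subgroup.zpowers a :=
          Subgroup.zpowers_le_of_mem (Subgroup.pow_mem _ (Subgroup.mem_zpowers a) _)
        rw [hb']
        exact mul_mem (h3 h2) (Subgroup.pow_mem _ (Subgroup.mem_zpowers a) _)
  refine ⟨a, fun b => ?_⟩
  obtain ⟨j, hj⟩ := (IsPGroup.iff_orderOf.mp hA) b
  exact Subgroup.mem_zpowers_iff.mp (key j b hj)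


/-- A subgroup contained in the center is normal. -/
theorem normal_of_le_center' {G : Type*} [Group G] {N : Subgroup G}
    (h : N ≤ Subgroup.center G) : N.Normal :=
  ⟨fun n hn g => by
    have := Subgroup.mem_center_iff.mp (h hn) g
    rw [this, mul_inv_cancel_right]; exact hn⟩



theorem comm_of_card_le_sq {G : Type*} [Group G] [Finite G] {p : ℕ} [hp : Fact p.Prime]
    {m : ℕ} (hm : Nat.card G = p ^ m) (hm2 : m ≤ 2) : ∀ a b : G, a * b = b * a := by
  interval_cases m
  · rw [pow_zero] at hm
    have : Subsingleton G := (Nat.card_eq_one_iff_unique.mp hm).1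
    intro a b; exact Subsingleton.elim _ _
  · rw [pow_one] at hm
    have := isCyclic_of_prime_card hm
    intro a b
    obtain ⟨g, hg⟩ := IsCyclic.exists_generator (α := G)
    obtain ⟨i, rfl⟩ := Subgroup.mem_zpowers_iff.mp (hg a)
    obtain ⟨j, rfl⟩ := Subgroup.mem_zpowers_iff.mp (hg b)
    rw [← zpow_add, ← zpow_add, add_comm]
  · have := IsPGroup.isMulCommutative_of_card_eq_prime_sq hm
    intro a b; exact mul_comm' a b

theorem pow_le_card_of_lowerCentralSeries_ne_bot {p : ℕ} [hp : Fact p.Prime] :
    ∀ (n : ℕ) {G : Type u} [Group G] [Finite G], IsPGroup p G →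
      (⊤ : Subgroup G).lowerCentralSeries (n + 1) ≠ ⊥ → p ^ (n + 3) ≤ Nat.card G := by
  intro n
  induction n with
  | zero =>
    intro G _ _ hG hne
    obtain ⟨m, hm⟩ := IsPGroup.iff_card.mp hG
    by_contra hlt
    have hm2 : m ≤ 2 := by
      by_contra h3
      apply hlt
      rw [hm]
      exact Nat.pow_le_pow_right hp.out.pos (by omega)
    have hcomm := comm_of_card_le_sq hm hm2
    apply hne
    rw [zero_add, Subgroup.lowerCentralSeries_succ, Subgroup.lowerCentralSeries_zero,
      Subgroup.commutator_eq_bot_iff_le_centralizer]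
    intro x _
    rw [Subgroup.mem_centralizer_iff]
    intro y _
    exact hcomm y x
  | succ n ih =>
    intro G _ _ hG hne
    have : Nontrivial G := by
      by_contra hnt
      rw [not_nontrivial_iff_subsingleton] at hnt
      exact hne (Subsingleton.elim _ _)
    have hq : (⊤ : Subgroup (G ⧸ Subgroup.center G)).lowerCentralSeries (n + 1) ≠ ⊥ := by
      intro h0
      apply hne
      have h1 := Subgroup.map_lowerCentralSeries (⊤ : Subgroup G)
        (QuotientGroup.mk' (Subgroup.center G)) (n + 1)
      rw [← MonoidHom.range_eq_map, MonoidHom.range_eq_top.mpr (QuotientGroup.mk'_surjective _),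
        h0, Subgroup.map_eq_bot_iff, QuotientGroup.ker_mk'] at h1
      rw [Subgroup.lowerCentralSeries_succ, eq_bot_iff]
      refine (Subgroup.commutator_mono h1 le_rfl).trans ?_
      rw [Subgroup.commutator_le]
      intro z hz g _
      rw [Subgroup.mem_bot, commutatorElement_eq_one_iff_mul_comm]
      exact (Subgroup.mem_center_iff.mp hz g).symm
    have h2 := ih (hG.to_quotient (Subgroup.center G)) hq
    have h3 : p ≤ Nat.card (Subgroup.center G) := by
      have := hG.center_nontrivial
      have hZ : IsPGroup p (Subgroup.center G) := hG.to_subgroup _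
      obtain ⟨k, hk0, hk⟩ := hZ.nontrivial_iff_card.mp inferInstance
      rw [hk]
      calc p = p ^ 1 := (pow_one p).symm
        _ ≤ p ^ k := Nat.pow_le_pow_right hp.out.pos hk0
    rw [Subgroup.card_eq_card_quotient_mul_card_subgroup (Subgroup.center G), pow_succ]
    exact Nat.mul_le_mul h2 h3

end Cfsg.Agent.Lib.Helper9.PGroupMisc
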