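import Mathlib
import Cfsg.Prelude.Def_GeometricClasses
import Cfsg.Agent.Lib.Helper25.TensDefs
import Cfsg.Agent.Lib.Helper25.TensStmt

/-!
helper9: S5637 leaf TP (`KG_lt`), helper25's market, exact signature of notes/S5637_leaves.lean.
-/

set_option autoImplicit false
set_option linter.unusedSectionVars false
set_option linter.unusedVariables false

namespace Cfsg.Agent.Lib.Helper9.TensLeaf
open Matrix Cfsg.Agent.Lib.Helper25.Tens Cfsg.Agent.Lib.Helper25.TensLeaves
open scoped Kronecker

variable {F : Type*} [Field F] {a b : ℕ}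

/-- an elementary transvection as a unit -/
def etv {ι : Type} [Fintype ι] [DecidableEq ι] (p q : ι) (hpq : p ≠ q) (c : F) : GL ι F where
  val := Matrix.transvection p q c
  inv := Matrix.transvection p q (-c)
  val_inv := (Matrix.transvection_mul_transvection_same p q hpq c (-c)).trans
    (by rw [add_neg_cancel, Matrix.transvection_zero])
  inv_val := (Matrix.transvection_mul_transvection_same p q hpq (-c) c).trans
    (by rw [neg_add_cancel, Matrix.transvection_zero])

lemma etv_val {ι : Type} [Fintype ι] [DecidableEq ι] (p q : ι) (hpq : p ≠ q) (c : F) :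
    ((etv p q hpq c : GL ι F) : Matrix ι ι F) = Matrix.transvection p q c := rfl

lemma etv_mem_SL {ι : Type} [Fintype ι] [DecidableEq ι] (p q : ι) (hpq : p ≠ q) (c : F) :
    etv p q hpq c ∈ Cfsg.Geo.specialLinear ι F :=
  (mem_SLG_iff _).2 (by rw [etv_val, Matrix.det_transvection_of_ne p q hpq c])

/-- (TP) the Kronecker group is proper in `SL`. -/
theorem KG_lt (ha : 2 ≤ a) (hb : 2 ≤ b) : KG a b F ⊓ SLG a b F < SLG a b F := by
  refine lt_of_le_of_ne inf_le_right ?_
  intro heq
  let i0 : Fin a := ⟨0, by omega⟩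
  let i1 : Fin a := ⟨1, by omega⟩
  let l0 : Fin b := ⟨0, by omega⟩
  let l1 : Fin b := ⟨1, by omega⟩
  have hi : i0 ≠ i1 := by
    intro h
    have := congrArg Fin.val h
    simp [i0, i1] at this
  have hl : l0 ≠ l1 := by
    intro h
    have := congrArg Fin.val h
    simp [l0, l1] at this
  have hpq : ((i0, l0) : Idx a b) ≠ (i1, l1) := by
    intro h
    exact hi (congrArg Prod.fst h)
  have hg : etv ((i0, l0) : Idx a b) (i1, l1) hpq (1 : F) ∈ SLG a b F := etv_mem_SL _ _ hpq 1
  have hgK : etv ((i0, l0) : Idx a b) (i1, l1) hpq (1 : F) ∈ KG a b F := by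
    rw [← heq] at hg
    exact hg.1
  obtain ⟨α, β, hαβ⟩ := (mem_KG_iff _).1 hgK
  rw [etv_val] at hαβ
  have e1 := congrFun (congrFun hαβ (i0, l0)) (i1, l1)
  have e2 := congrFun (congrFun hαβ (i0, l0)) (i0, l0)
  have e3 := congrFun (congrFun hαβ (i0, l0)) (i0, l1)
  simp only [Matrix.transvection, Matrix.add_apply, Matrix.one_apply, Matrix.single_apply,
    Matrix.kroneckerMap_apply, Prod.mk.injEq] at e1 e2 e3
  simp [hi, hl, hi.symm, hl.symm] at e1 e2 e3
  have h00 : (α : Matrix (Fin a) (Fin a) F) i0 i0 ≠ 0 := by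
    intro h
    rw [h, zero_mul] at e2
    exact one_ne_zero e2
  have h01 : (β : Matrix (Fin b) (Fin b) F) l0 l1 ≠ 0 := by
    intro h
    rw [h, mul_zero] at e1
    exact one_ne_zero e1
  rcases e3 with h | h
  · exact h00 h
  · exact h01 h

end Cfsg.Agent.Lib.Helper9.TensLeaf
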