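import Mathlib
import Cfsg.Prelude.Def_GeometricClasses

/-! Membership in the subfield subgroup `SL_n(F) ∩ GL_n(F₀) F^*` in matrix terms. -/

set_option autoImplicit false
open scoped MatrixGroups

namespace Cfsg.Agent.Lib.Helper9.SubfieldA
open Matrix

variable {F : Type*} [Field F] {n : ℕ}

/-- the subfield subgroup of `SL_n(F)` -/
abbrev HH (F₀ : Subfield F) (n : ℕ) : Subgroup (Matrix.SpecialLinearGroup (Fin n) F) :=
  (Cfsg.Geo.subfieldSubgroup F₀ (1 : GL (Fin n) F)).comap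
    (Matrix.SpecialLinearGroup.toGL : Matrix.SpecialLinearGroup (Fin n) F →* GL (Fin n) F)

theorem mem_subfield_iff (F₀ : Subfield F) (g : GL (Fin n) F) :
    g ∈ Cfsg.Geo.subfieldSubgroup F₀ (1 : GL (Fin n) F) ↔
      ∃ (a : GL (Fin n) F₀) (c : Fˣ),
        (g : Matrix (Fin n) (Fin n) F) =
          (c : F) • (a : Matrix (Fin n) (Fin n) F₀).map (F₀.subtype : F₀ →+* F) := by
  unfold Cfsg.Geo.subfieldSubgroup
  have h1 : (MulAut.conj (1 : GL (Fin n) F)).toMonoidHom = MonoidHom.id _ := by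
    ext g
    simp
  rw [h1, Subgroup.map_id, Subgroup.mem_sup_of_normal_right]
  constructor
  · rintro ⟨y, ⟨a, rfl⟩, z, hz, rfl⟩
    rw [Cfsg.Geo.mem_scalars_iff] at hz
    obtain ⟨c, hc⟩ := hz
    refine ⟨a, c, ?_⟩
    rw [Units.val_mul, hc, Matrix.mul_smul, Matrix.mul_one]
    rfl
  · rintro ⟨a, c, hg⟩
    have hs : ∃ s : GL (Fin n) F, (s : Matrix (Fin n) (Fin n) F) = (c : F) • 1 := by
      refine ⟨⟨(c : F) • 1, ((c⁻¹ : Fˣ) : F) • 1, ?_, ?_⟩, rfl⟩
      · rw [Matrix.smul_mul, Matrix.mul_smul, Matrix.mul_one, smul_smul, ← Units.val_mul,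
          mul_inv_cancel, Units.val_one, one_smul]
      · rw [Matrix.smul_mul, Matrix.mul_smul, Matrix.mul_one, smul_smul, ← Units.val_mul,
          inv_mul_cancel, Units.val_one, one_smul]
    obtain ⟨s, hs⟩ := hs
    refine ⟨Matrix.GeneralLinearGroup.map (F₀.subtype : F₀ →+* F) a, ⟨a, rfl⟩, s, ?_, ?_⟩
    · rw [Cfsg.Geo.mem_scalars_iff]
      exact ⟨c, hs⟩
    · apply Units.ext
      rw [Units.val_mul, hs, hg, Matrix.mul_smul, Matrix.mul_one]
      rfl

/-- conjugating into the subfield subgroup: matrix criterion -/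
theorem exists_conj_mem (F₀ : Subfield F) (x : Matrix.SpecialLinearGroup (Fin n) F)
    (g : Matrix (Fin n) (Fin n) F) (hdet : g.det = 1)
    (y₀ : Matrix (Fin n) (Fin n) F₀) (c : F) (hc : c ≠ 0)
    (hx : (x : Matrix (Fin n) (Fin n) F) * g = g * (c • y₀.map (F₀.subtype : F₀ →+* F))) :
    ∃ P : Matrix.SpecialLinearGroup (Fin n) F, P⁻¹ * x * P ∈ HH F₀ n := by
  classical
  -- determinants
  have hd := congrArg Matrix.det hx
  rw [Matrix.det_mul, Matrix.det_mul, hdet, x.2, Matrix.det_smul, one_mul, one_mul] at hd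
  have hmapdet : (y₀.map (F₀.subtype : F₀ →+* F)).det = (F₀.subtype : F₀ →+* F) y₀.det := by
    rw [← RingHom.mapMatrix_apply, ← RingHom.map_det]
  rw [hmapdet] at hd
  have hy : y₀.det ≠ 0 := by
    intro h
    rw [h, map_zero, mul_zero] at hd
    exact one_ne_zero hd
  let P : Matrix.SpecialLinearGroup (Fin n) F := ⟨g, hdet⟩
  have hPg : (P : Matrix (Fin n) (Fin n) F) = g := rfl
  refine ⟨P, ?_⟩
  rw [Subgroup.mem_comap, mem_subfield_iff]
  refine ⟨Matrix.GeneralLinearGroup.mkOfDetNeZero y₀ hy, Units.mk0 c hc, ?_⟩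
  have hP : ((P⁻¹ * x * P : Matrix.SpecialLinearGroup (Fin n) F) : Matrix (Fin n) (Fin n) F) =
      c • y₀.map (F₀.subtype : F₀ →+* F) := by
    have h1 : (P : Matrix (Fin n) (Fin n) F) *
        ((P⁻¹ * x * P : Matrix.SpecialLinearGroup (Fin n) F) : Matrix (Fin n) (Fin n) F) =
        g * (c • y₀.map (F₀.subtype : F₀ →+* F)) := by
      rw [← hx, ← Matrix.SpecialLinearGroup.coe_mul, ← mul_assoc, ← mul_assoc, mul_inv_cancel,
        one_mul, Matrix.SpecialLinearGroup.coe_mul]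
    have hinv : ((P⁻¹ : Matrix.SpecialLinearGroup (Fin n) F) : Matrix (Fin n) (Fin n) F) * g = 1 := by
      rw [← hPg, ← Matrix.SpecialLinearGroup.coe_mul, inv_mul_cancel, Matrix.SpecialLinearGroup.coe_one]
    calc ((P⁻¹ * x * P : Matrix.SpecialLinearGroup (Fin n) F) : Matrix (Fin n) (Fin n) F)
        = (((P⁻¹ : Matrix.SpecialLinearGroup (Fin n) F) : Matrix (Fin n) (Fin n) F) * g) *
          ((P⁻¹ * x * P : Matrix.SpecialLinearGroup (Fin n) F) : Matrix (Fin n) (Fin n) F) := by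
          rw [hinv, Matrix.one_mul]
      _ = ((P⁻¹ : Matrix.SpecialLinearGroup (Fin n) F) : Matrix (Fin n) (Fin n) F) *
          (g * (c • y₀.map (F₀.subtype : F₀ →+* F))) := by
          rw [Matrix.mul_assoc, ← h1, hPg]
      _ = c • y₀.map (F₀.subtype : F₀ →+* F) := by
          rw [← Matrix.mul_assoc, hinv, Matrix.one_mul]
  exact hP


/-- conjugating into the subfield subgroup: it is enough that the determinant of the conjugating
matrix lies in the subfield -/
theorem exists_conj_mem' (F₀ : Subfield F) (x : Matrix.SpecialLinearGroup (Fin n) F)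
    (g : Matrix (Fin n) (Fin n) F) (a₀ : F₀) (ha₀ : a₀ ≠ 0) (hdet : g.det = (a₀ : F))
    (y₀ : Matrix (Fin n) (Fin n) F₀) (c : F) (hc : c ≠ 0)
    (hx : (x : Matrix (Fin n) (Fin n) F) * g = g * (c • y₀.map (F₀.subtype : F₀ →+* F))) :
    ∃ P : Matrix.SpecialLinearGroup (Fin n) F, P⁻¹ * x * P ∈ HH F₀ n := by
  classical
  rcases Nat.eq_zero_or_pos n with h0 | h0
  · subst h0
    exact exists_conj_mem F₀ x g (Matrix.det_isEmpty) y₀ c hc hx
  · let i₀ : Fin n := ⟨0, h0⟩
    let h₀ : Matrix (Fin n) (Fin n) F₀ := Matrix.diagonal (Function.update (fun _ => (1 : F₀)) i₀ a₀⁻¹)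
    let h₁ : Matrix (Fin n) (Fin n) F₀ := Matrix.diagonal (Function.update (fun _ => (1 : F₀)) i₀ a₀)
    have h01 : h₀ * h₁ = 1 := by
      rw [Matrix.diagonal_mul_diagonal, ← Matrix.diagonal_one]
      congr 1
      funext i
      by_cases hi : i = i₀
      · subst hi
        simp [inv_mul_cancel₀ ha₀]
      · simp [Function.update_of_ne hi]
    have hdet0 : h₀.det = a₀⁻¹ := by
      rw [Matrix.det_diagonal, Finset.prod_update_of_mem (Finset.mem_univ _)]
      simp
    have hm01 : h₀.map (F₀.subtype : F₀ →+* F) * h₁.map (F₀.subtype : F₀ →+* F) = 1 := by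
      rw [← Matrix.map_mul, h01]
      ext i j
      simp [Matrix.one_apply, apply_ite]
    refine exists_conj_mem F₀ x (g * h₀.map (F₀.subtype : F₀ →+* F)) ?_ (h₁ * y₀ * h₀) c hc ?_
    · rw [Matrix.det_mul, hdet]
      have : (h₀.map (F₀.subtype : F₀ →+* F)).det = (F₀.subtype : F₀ →+* F) h₀.det := by
        rw [← RingHom.mapMatrix_apply, ← RingHom.map_det]
      rw [this, hdet0]
      show (a₀ : F) * ((a₀⁻¹ : F₀) : F) = 1
      rw [← Subfield.coe_mul, mul_inv_cancel₀ ha₀, Subfield.coe_one]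
    · rw [← Matrix.mul_assoc, hx, Matrix.map_mul, Matrix.map_mul, Matrix.mul_smul, Matrix.mul_smul,
        Matrix.smul_mul]
      congr 1
      rw [Matrix.mul_assoc g]
      calc g * (y₀.map (F₀.subtype : F₀ →+* F) * h₀.map (F₀.subtype : F₀ →+* F))
          = g * (((h₀.map (F₀.subtype : F₀ →+* F)) * (h₁.map (F₀.subtype : F₀ →+* F))) *
              (y₀.map (F₀.subtype : F₀ →+* F) * h₀.map (F₀.subtype : F₀ →+* F))) := by
            rw [hm01, Matrix.one_mul]
        _ = _ := by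
            simp only [Matrix.mul_assoc]

/-- unpacking membership of a conjugate in the subfield subgroup -/
theorem exists_of_conj_mem (F₀ : Subfield F) (x P : Matrix.SpecialLinearGroup (Fin n) F)
    (h : P⁻¹ * x * P ∈ HH F₀ n) :
    ∃ (y₀ : Matrix (Fin n) (Fin n) F₀) (c : F), c ≠ 0 ∧ y₀.det ≠ 0 ∧
      (x : Matrix (Fin n) (Fin n) F) * (P : Matrix (Fin n) (Fin n) F) =
        (P : Matrix (Fin n) (Fin n) F) * (c • y₀.map (F₀.subtype : F₀ →+* F)) := by
  rw [Subgroup.mem_comap, mem_subfield_iff] at h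
  obtain ⟨a, c, hac⟩ := h
  refine ⟨(a : Matrix (Fin n) (Fin n) F₀), (c : F), c.ne_zero, ?_, ?_⟩
  · exact (Matrix.isUnit_iff_isUnit_det _).mp a.isUnit |>.ne_zero
  · have h1 : ((P⁻¹ * x * P : Matrix.SpecialLinearGroup (Fin n) F) : Matrix (Fin n) (Fin n) F) =
        (c : F) • (a : Matrix (Fin n) (Fin n) F₀).map (F₀.subtype : F₀ →+* F) := hac
    rw [← h1, ← Matrix.SpecialLinearGroup.coe_mul, ← Matrix.SpecialLinearGroup.coe_mul,
      mul_assoc, mul_inv_cancel_left]

end Cfsg.Agent.Lib.Helper9.SubfieldA
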