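import Mathlib
import Cfsg.Agent.Lib.Helper24.C3lDefs

/-!
S5886 toolkit (helper9), on helper24's `C3lDefs`: `E`-linear functionals.
* `exists_isEL`: a separating `E`-linear functional for an `E`-invariant `F`-subspace;
* `exists_isEL_line`, `exists_isEL_line₂`: the special cases of one / two `E`-lines;
* `exists_isEL_comp`: duality, every `F`-functional is `τ ∘ φ` with `φ` `E`-linear (`τ ≠ 0`).
-/

set_option autoImplicit false
set_option linter.unusedSectionVars false
set_option linter.unusedVariables false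

namespace Cfsg.Agent.Lib.Helper9.C3lLeaf
open Cfsg Matrix Module Cfsg.Agent.Lib.Helper24.C3l

variable {F : Type*} [Field F] {n : ℕ} {E : Type*} [Field E] [Algebra F E]

local notation "𝕍" => (Fin n → F)
local notation "𝕄" => Matrix (Fin n) (Fin n) F

/-- `F^n` with its `E`-vector space structure -/
def VE (S : KL n F E) : Type _ := Fin n → F

instance (S : KL n F E) : AddCommGroup (VE S) := inferInstanceAs (AddCommGroup (Fin n → F))

instance (S : KL n F E) : Module E (VE S) where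
  smul e x := S.act e x
  one_smul x := S.act_one x
  mul_smul e e' x := S.act_mul e e' x
  smul_zero e := S.act_vzero e
  smul_add e x y := S.act_vadd e x y
  add_smul e e' x := S.act_add e e' x
  zero_smul x := S.act_zero x

/-- the identity map into the synonym -/
def toVE (S : KL n F E) (x : Fin n → F) : VE S := x

lemma toVE_add (S : KL n F E) (a b : Fin n → F) : toVE S (a + b) = toVE S a + toVE S b := rfl

lemma toVE_act (S : KL n F E) (e : E) (x : Fin n → F) : toVE S (S.act e x) = e • toVE S x := rfl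

lemma toVE_smul (S : KL n F E) (c : F) (x : Fin n → F) :
    toVE S (c • x) = (algebraMap F E c) • toVE S x := by
  rw [← toVE_act, S.act_algebraMap]

/-- a separating `E`-linear functional for an `E`-invariant `F`-subspace -/
theorem exists_isEL (S : KL n F E) (P : Submodule F 𝕍) (hP : ∀ (e : E), ∀ x ∈ P, S.act e x ∈ P)
    {x : 𝕍} (hx : x ∉ P) :
    ∃ φ : 𝕍 →ₗ[F] E, S.IsEL φ ∧ (∀ y ∈ P, φ y = 0) ∧ φ x = 1 := by
  let P' : Submodule E (VE S) :=
    { carrier := {y | (y : Fin n → F) ∈ P}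
      add_mem' := fun {a b} ha hb => P.add_mem ha hb
      zero_mem' := P.zero_mem
      smul_mem' := fun e y hy => hP e y hy }
  have hmem : ∀ y : Fin n → F, toVE S y ∈ P' ↔ y ∈ P := fun y => Iff.rfl
  have hx' : toVE S x ∉ P' := fun h => hx ((hmem x).mp h)
  obtain ⟨f, hfx, hPf⟩ := Submodule.exists_le_ker_of_notMem hx'
  let φ : 𝕍 →ₗ[F] E :=
    { toFun := fun y => (f (toVE S x))⁻¹ * f (toVE S y)
      map_add' := fun a b => by
        rw [toVE_add, map_add, mul_add]
      map_smul' := fun c a => by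
        simp only [RingHom.id_apply]
        rw [toVE_smul, map_smul, smul_eq_mul, Algebra.smul_def]
        ring }
  have hφ : ∀ y, φ y = (f (toVE S x))⁻¹ * f (toVE S y) := fun y => rfl
  refine ⟨φ, ?_, ?_, ?_⟩
  · intro e y
    rw [hφ, hφ, toVE_act, map_smul, smul_eq_mul]
    ring
  · intro y hy
    have : f (toVE S y) = 0 := hPf ((hmem y).mpr hy)
    rw [hφ, this, mul_zero]
  · rw [hφ, inv_mul_cancel₀ hfx]

lemma act_mem_line' (S : KL n F E) (v : 𝕍) (e : E) : ∀ x ∈ S.line v, S.act e x ∈ S.line v :=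
  fun x hx => S.act_mem_line_of_mem hx e

/-- an `E`-linear functional vanishing on the `E`-line of `v` with value `1` at `x ∉ E v` -/
theorem exists_isEL_line (S : KL n F E) {v x : 𝕍} (hx : x ∉ S.line v) :
    ∃ φ : 𝕍 →ₗ[F] E, S.IsEL φ ∧ φ v = 0 ∧ φ x = 1 := by
  obtain ⟨φ, h1, h2, h3⟩ := exists_isEL S (S.line v) (fun e => act_mem_line' S v e) hx
  exact ⟨φ, h1, h2 v (S.self_mem_line v), h3⟩

/-- an `E`-linear functional vanishing on `E v + E w` with value `1` at `x ∉ E v + E w` -/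
theorem exists_isEL_line₂ (S : KL n F E) {v w x : 𝕍} (hx : x ∉ S.line v ⊔ S.line w) :
    ∃ φ : 𝕍 →ₗ[F] E, S.IsEL φ ∧ φ v = 0 ∧ φ w = 0 ∧ φ x = 1 := by
  have hP : ∀ (e : E), ∀ y ∈ S.line v ⊔ S.line w, S.act e y ∈ S.line v ⊔ S.line w := by
    intro e y hy
    obtain ⟨a, ha, b, hb, rfl⟩ := Submodule.mem_sup.mp hy
    rw [S.act_vadd]
    exact Submodule.add_mem _ (Submodule.mem_sup_left (S.act_mem_line_of_mem ha e))
      (Submodule.mem_sup_right (S.act_mem_line_of_mem hb e))
  obtain ⟨φ, h1, h2, h3⟩ := exists_isEL S _ hP hx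
  exact ⟨φ, h1, h2 v (Submodule.mem_sup_left (S.self_mem_line v)),
    h2 w (Submodule.mem_sup_right (S.self_mem_line w)), h3⟩

/-- if `φ` is `E`-linear and vanishes at `v` it vanishes on the `E`-line of `v` -/
lemma isEL_line_eq_zero (S : KL n F E) {φ : 𝕍 →ₗ[F] E} (hφ : S.IsEL φ) {v : 𝕍} (hv : φ v = 0)
    {y : 𝕍} (hy : y ∈ S.line v) : φ y = 0 := by
  obtain ⟨e, rfl⟩ := S.mem_line.mp hy
  rw [hφ, hv, mul_zero]

/-- the `τ`-pairing `E → Hom_F(E, F)`, `a ↦ τ (a * ·)` -/
def mulFunctional (τ : E →ₗ[F] F) : E →ₗ[F] (E →ₗ[F] F) where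
  toFun a := τ.comp (LinearMap.mulLeft F a)
  map_add' a b := by
    ext c
    simp [add_mul]
  map_smul' c a := by
    ext b
    simp

lemma mulFunctional_apply (τ : E →ₗ[F] F) (a b : E) : mulFunctional τ a b = τ (a * b) := rfl

lemma mulFunctional_injective (τ : E →ₗ[F] F) (hτ : τ ≠ 0) :
    Function.Injective (mulFunctional τ) := by
  rw [← LinearMap.ker_eq_bot, LinearMap.ker_eq_bot']
  intro a ha
  by_contra ha0
  apply hτ
  ext b
  have := congrArg (fun g : E →ₗ[F] F => g (a⁻¹ * b)) ha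
  simp only [mulFunctional_apply, LinearMap.zero_apply] at this
  rw [← mul_assoc, mul_inv_cancel₀ ha0, one_mul] at this
  simpa using this

/-- non-degeneracy of the `τ`-form -/
lemma eq_zero_of_tau_mul (τ : E →ₗ[F] F) (hτ : τ ≠ 0) {a : E} (h : ∀ b, τ (a * b) = 0) : a = 0 := by
  apply mulFunctional_injective τ hτ
  ext b
  rw [mulFunctional_apply, h b]
  simp

lemma mulFunctional_surjective [FiniteDimensional F E] (τ : E →ₗ[F] F) (hτ : τ ≠ 0) :
    Function.Surjective (mulFunctional τ) := by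
  apply (LinearMap.injective_iff_surjective_of_finrank_eq_finrank ?_).mp
    (mulFunctional_injective τ hτ)
  exact (Subspace.dual_finrank_eq).symm

/-- the `τ`-pairing is onto: every `F`-functional of `E` is `τ (a * ·)` -/
theorem exists_mul_functional [FiniteDimensional F E] (τ : E →ₗ[F] F) (hτ : τ ≠ 0)
    (μ : E →ₗ[F] F) : ∃ a : E, ∀ b, μ b = τ (a * b) := by
  obtain ⟨a, ha⟩ := mulFunctional_surjective τ hτ μ
  exact ⟨a, fun b => by rw [← ha, mulFunctional_apply]⟩

/-- duality: every `F`-functional of `V` is `τ ∘ φ` with `φ` `E`-linear -/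
theorem exists_isEL_comp [FiniteDimensional F E] (S : KL n F E) (τ : E →ₗ[F] F) (hτ : τ ≠ 0)
    (χ : 𝕍 →ₗ[F] F) : ∃ φ : 𝕍 →ₗ[F] E, S.IsEL φ ∧ ∀ x, χ x = τ (φ x) := by
  let Ψ : E ≃ₗ[F] (E →ₗ[F] F) :=
    LinearEquiv.ofBijective (mulFunctional τ)
      ⟨mulFunctional_injective τ hτ, mulFunctional_surjective τ hτ⟩
  have hΨ : ∀ a b, Ψ a b = τ (a * b) := fun a b => rfl
  -- `y ↦ (e ↦ χ (e y))`
  let μ : 𝕍 →ₗ[F] (E →ₗ[F] F) :=
    { toFun := fun y => χ.comp (S.orb y)
      map_add' := fun a b => by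
        ext e
        show χ (S.act e (a + b)) = χ (S.act e a) + χ (S.act e b)
        rw [S.act_vadd, map_add]
      map_smul' := fun c a => by
        ext e
        show χ (S.act e (c • a)) = c • χ (S.act e a)
        rw [S.act_vsmul, map_smul] }
  have hμ : ∀ y e, μ y e = χ (S.act e y) := fun y e => rfl
  let φ : 𝕍 →ₗ[F] E := Ψ.symm.toLinearMap.comp μ
  have hφ : ∀ y b, τ (φ y * b) = χ (S.act b y) := by
    intro y b
    have h1 : Ψ (φ y) = μ y := by
      show Ψ (Ψ.symm (μ y)) = μ y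
      exact Ψ.apply_symm_apply _
    rw [← hΨ, h1, hμ]
  refine ⟨φ, ?_, ?_⟩
  · intro e y
    have h : φ (S.act e y) - e * φ y = 0 := by
      apply eq_zero_of_tau_mul τ hτ
      intro b
      rw [sub_mul, map_sub, hφ, ← S.act_mul]
      have : e * φ y * b = φ y * (b * e) := by ring
      rw [this, hφ, sub_self]
    exact sub_eq_zero.mp h
  · intro x
    have := hφ x 1
    rw [mul_one, S.act_one] at this
    exact this.symm

end Cfsg.Agent.Lib.Helper9.C3lLeaf
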