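import Mathlib
import Cfsg.Agent.Lib.Helper24.C3lDefs
import Cfsg.Agent.Lib.Helper24.C3lEL
import Cfsg.Agent.Lib.Helper23.C3lTRA
import Cfsg.Agent.Lib.Helper23.C3lDet
import Cfsg.Agent.Lib.Helper11.C3lD3
import Cfsg.Agent.Lib.Helper5.TMCalc
import Cfsg.Agent.Lib.Helper9.C3lFn

/-!
S5886 leaf E (helper9), on helper24's `C3lDefs`: a subgroup `M` of `GL_n(F)` (`F` finite) containing the centraliser of
`E` in `SL_n(F)` (`[E : F] ≥ 2`, `[E : F] < n`) and one non-trivial `F`-transvection contains `SL_n(F)`.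

Route: `TM M s a` (helper5's `TMCalc`) says that `x ↦ x + s(x) a` lies in `M`.  Write `s = τ ∘ ψ` with `ψ` `E`-linear.
* `TM_of_ne_zero`: if `ψ a ≠ 0`, conjugating with the `E`-transvections of centre `a` gives `TM M (τ ∘ μ) a` for all
  `E`-linear `μ` with `μ a = 0`;
* `exists_TM_ne_zero`: if `ψ a = 0`, conjugate first with an `E`-dilation of norm `1` outside `F` times an
  `E`-transvection, then with the `F`-transvection so obtained: the new pair has `ψ'' a'' ≠ 0`;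
* `TM_transfer`: transitivity of the centraliser moves the centre anywhere;
* `TM_all_of_EL`: a commutator gives all the remaining functionals.
-/

set_option autoImplicit false
set_option linter.unusedSectionVars false
set_option linter.unusedVariables false

namespace Cfsg.Agent.Lib.Helper9.C3lLeaf
open Cfsg Matrix Module Cfsg.Agent.Lib.Helper24.C3l Cfsg.Agent.Lib.Helper5.TMCalc
  Cfsg.Agent.Lib.Helper5.SpMax

variable {F : Type*} [Field F] {n : ℕ} {E : Type*} [Field E] [Algebra F E]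

local notation "𝕍" => (Fin n → F)
local notation "𝕄" => Matrix (Fin n) (Fin n) F

/-- `E`-linear functionals are closed under `F`-scalars -/
lemma isEL_smul (S : KL n F E) {φ : 𝕍 →ₗ[F] E} (hφ : S.IsEL φ) (c : F) : S.IsEL (c • φ) := by
  intro e x
  rw [LinearMap.smul_apply, LinearMap.smul_apply, hφ, mul_smul_comm]

/-- the transported functional `ψ ∘ g⁻¹` -/
noncomputable def conjFn (ψ : 𝕍 →ₗ[F] E) (g : GL (Fin n) F) : 𝕍 →ₗ[F] E :=
  ψ ∘ₗ Matrix.toLin' ((g⁻¹ : GL (Fin n) F) : 𝕄)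

lemma conjFn_apply (ψ : 𝕍 →ₗ[F] E) (g : GL (Fin n) F) (x : 𝕍) :
    conjFn ψ g x = ψ (((g⁻¹ : GL (Fin n) F) : 𝕄) *ᵥ x) := by
  unfold conjFn
  rw [LinearMap.comp_apply, Matrix.toLin'_apply]

lemma conjFn_mulVec (ψ : 𝕍 →ₗ[F] E) (g : GL (Fin n) F) (y : 𝕍) :
    conjFn ψ g ((g : 𝕄) *ᵥ y) = ψ y := by
  rw [conjFn_apply, inv_mul_mulVec]

lemma act_mulVec_of_comm (S : KL n F E) {g : GL (Fin n) F}
    (hg : ∀ e : E, (g : 𝕄) * S.ρ e = S.ρ e * (g : 𝕄)) (e : E) (x : 𝕍) :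
    (g : 𝕄) *ᵥ (S.act e x) = S.act e ((g : 𝕄) *ᵥ x) := by
  rw [S.act_def, S.act_def, Matrix.mulVec_mulVec, Matrix.mulVec_mulVec, hg]

lemma isEL_conjFn (S : KL n F E) {ψ : 𝕍 →ₗ[F] E} (hψ : S.IsEL ψ) {g : GL (Fin n) F}
    (hg : ∀ e : E, (g : 𝕄) * S.ρ e = S.ρ e * (g : 𝕄)) : S.IsEL (conjFn ψ g) := by
  intro e x
  rw [conjFn_apply, conjFn_apply, ← hψ]
  congr 1
  apply mulVec_inj g
  rw [mul_inv_mulVec, act_mulVec_of_comm S hg, mul_inv_mulVec]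

/-- conjugation by an element of `M` centralising `E` -/
lemma TM_conjFn (S : KL n F E) {M : Subgroup (GL (Fin n) F)} (τ : E →ₗ[F] F) {ψ : 𝕍 →ₗ[F] E}
    {a : 𝕍} (hT : TM M (τ ∘ₗ ψ) a) {g : GL (Fin n) F} (hgM : g ∈ M) :
    TM M (τ ∘ₗ conjFn ψ g) ((g : 𝕄) *ᵥ a) := by
  refine TM_of_eq ?_ (TM_conj hgM hT)
  intro x
  rw [LinearMap.comp_apply, LinearMap.comp_apply, Matrix.toLin'_apply, LinearMap.comp_apply,
    conjFn_apply]

/-- case `ψ a ≠ 0`: all `E`-linear functionals vanishing at the centre -/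
lemma TM_of_ne_zero (S : KL n F E) {M : Subgroup (GL (Fin n) F)} (hM : S.CenLe M) (τ : E →ₗ[F] F)
    {ψ : 𝕍 →ₗ[F] E} (hψ : S.IsEL ψ) {a : 𝕍} (hc : ψ a ≠ 0) (hT : TM M (τ ∘ₗ ψ) a)
    {μ : 𝕍 →ₗ[F] E} (hμ : S.IsEL μ) (hμa : μ a = 0) : TM M (τ ∘ₗ μ) a := by
  have hμ1 : S.IsEL (KL.cmul (ψ a)⁻¹ μ) := hμ.cmul S (ψ a)⁻¹
  have hμ1a : KL.cmul (ψ a)⁻¹ μ a = 0 := by rw [KL.cmul_apply, hμa, mul_zero]
  have hg := S.tv_mem_of hM hμ1 hμ1a
  have h1 := TM_conj hg hT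
  have hga : ((S.tv _ a hμ1 hμ1a : GL (Fin n) F) : 𝕄) *ᵥ a = a := by
    rw [S.tv_mulVec, hμ1a, S.act_zero, add_zero]
  rw [hga] at h1
  have h2 : TM M (τ ∘ₗ ψ - τ ∘ₗ μ) a := by
    refine TM_of_eq ?_ h1
    intro x
    rw [LinearMap.comp_apply, Matrix.toLin'_apply, S.tv_inv_mulVec, LinearMap.comp_apply,
      map_sub, hψ, KL.cmul_apply, LinearMap.sub_apply, LinearMap.comp_apply, LinearMap.comp_apply,
      map_sub]
    congr 2
    field_simp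
  have h3 := TM_add (TM_neg h2) hT
  refine TM_of_eq ?_ h3
  intro x
  simp

/-- transitivity of the centraliser: the centre can be moved anywhere -/
lemma TM_transfer [FiniteDimensional F E] (S : KL n F E) (hlt : finrank F E < n)
    {M : Subgroup (GL (Fin n) F)} (hM : S.CenLe M) (τ : E →ₗ[F] F) {a b : 𝕍} (ha : a ≠ 0)
    (hb : b ≠ 0) (hall : ∀ μ : 𝕍 →ₗ[F] E, S.IsEL μ → μ a = 0 → TM M (τ ∘ₗ μ) a)
    {μ : 𝕍 →ₗ[F] E} (hμ : S.IsEL μ) (hμb : μ b = 0) : TM M (τ ∘ₗ μ) b := by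
  obtain ⟨g, hg, hgc, hga⟩ := Cfsg.Agent.Lib.Helper23.C3lLeaf.exists_cen_map S hlt hb ha
  have hgM : g ∈ M := hM g hg hgc
  -- `g b = a`; transport `μ` to `a`, use `hall`, transport back with `g⁻¹`
  have hμ' : S.IsEL (conjFn μ g) := isEL_conjFn S hμ hgc
  have hμ'a : conjFn μ g a = 0 := by rw [← hga, conjFn_mulVec, hμb]
  have h1 := hall _ hμ' hμ'a
  have h2 := TM_conjFn S τ h1 (M.inv_mem hgM)
  have hgb : ((g⁻¹ : GL (Fin n) F) : 𝕄) *ᵥ a = b := by rw [← hga, inv_mul_mulVec]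
  rw [hgb] at h2
  refine TM_of_eq ?_ h2
  intro x
  rw [LinearMap.comp_apply, LinearMap.comp_apply, conjFn_apply, conjFn_apply, inv_inv,
    inv_mul_mulVec]

/-- case `ψ a = 0`: a conjugate pair with `ψ'' a'' ≠ 0` -/
lemma exists_TM_ne_zero [FiniteDimensional F E] (S : KL n F E) {M : Subgroup (GL (Fin n) F)}
    (hM : S.CenLe M) (τ : E →ₗ[F] F) (hτ : τ ≠ 0) {ε : E} (hε : Algebra.norm F ε = 1)
    (hεF : ε ∉ Set.range (algebraMap F E)) {ψ : 𝕍 →ₗ[F] E} (hψ : S.IsEL ψ) (hψ0 : ψ ≠ 0) {a : 𝕍}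
    (ha : a ≠ 0) (hc : ψ a = 0) (hT : TM M (τ ∘ₗ ψ) a) :
    ∃ (a' : 𝕍) (ψ' : 𝕍 →ₗ[F] E), S.IsEL ψ' ∧ ψ' a' ≠ 0 ∧ TM M (τ ∘ₗ ψ') a' := by
  -- `a₂` with `ψ a₂ = 1`
  obtain ⟨x₀, hx₀⟩ : ∃ x₀, ψ x₀ ≠ 0 := by
    by_contra hcon
    push Not at hcon
    exact hψ0 (LinearMap.ext hcon)
  set a₂ : 𝕍 := S.act (ψ x₀)⁻¹ x₀ with ha₂
  have hψa₂ : ψ a₂ = 1 := by rw [ha₂, hψ, inv_mul_cancel₀ hx₀]
  have ha_line : a ∉ S.line a₂ := by
    intro hmem
    obtain ⟨e, he⟩ := S.mem_line.mp hmem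
    have h1 : ψ a = e := by rw [← he, hψ, hψa₂, mul_one]
    rw [hc] at h1
    apply ha
    rw [← he, ← h1, S.act_zero]
  obtain ⟨lam, hlam, hlam₂, hlama⟩ := exists_isEL_line S ha_line
  obtain ⟨γ, hγ⟩ : ∃ γ, τ γ ≠ 0 := by
    by_contra hcon
    push Not at hcon
    exact hτ (LinearMap.ext hcon)
  have hγ0 : γ ≠ 0 := by
    rintro rfl
    exact hγ (map_zero τ)
  have hε0 : ε ≠ 0 := by
    rintro rfl
    exact hεF ⟨0, map_zero _⟩
  -- the `E`-transvection `h₁` and the dilation `D`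
  have hl1 : S.IsEL (KL.cmul γ lam) := hlam.cmul S γ
  have hl1a : KL.cmul γ lam a₂ = 0 := by rw [KL.cmul_apply, hlam₂, mul_zero]
  set h₁ : GL (Fin n) F := S.tv _ a₂ hl1 hl1a with hh₁
  have hh₁M : h₁ ∈ M := S.tv_mem_of hM hl1 hl1a
  have hh₁c : ∀ e : E, (h₁ : 𝕄) * S.ρ e = S.ρ e * (h₁ : 𝕄) := S.tv_comm hl1 hl1a
  set D : GL (Fin n) F := Cfsg.Agent.Lib.Helper23.C3lLeaf.dilGL S hψ hψa₂ hε0 with hD
  have hDc : ∀ e : E, (D : 𝕄) * S.ρ e = S.ρ e * (D : 𝕄) :=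
    Cfsg.Agent.Lib.Helper23.C3lLeaf.dilGL_comm S hψ hψa₂ hε0
  have hDM : D ∈ M := by
    apply hM D _ hDc
    rw [mem_specialLinear, hD, Cfsg.Agent.Lib.Helper23.C3lLeaf.det_dilGL, hε]
  have hDv : ∀ x, (D : 𝕄) *ᵥ x = x + S.act ((ε - 1) * ψ x) a₂ :=
    Cfsg.Agent.Lib.Helper23.C3lLeaf.dilGL_mulVec S hψ hψa₂ hε0
  have hh₁v : ∀ x, (h₁ : 𝕄) *ᵥ x = x + S.act (γ * lam x) a₂ := by
    intro x
    rw [hh₁, S.tv_mulVec, KL.cmul_apply]
  set h : GL (Fin n) F := D * h₁ with hh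
  have hhM : h ∈ M := M.mul_mem hDM hh₁M
  have hhc : ∀ e : E, (h : 𝕄) * S.ρ e = S.ρ e * (h : 𝕄) := by
    intro e
    rw [hh, Units.val_mul, Matrix.mul_assoc, hh₁c e, ← Matrix.mul_assoc, hDc e, Matrix.mul_assoc]
  have hhv : ∀ x, (h : 𝕄) *ᵥ x = (D : 𝕄) *ᵥ ((h₁ : 𝕄) *ᵥ x) := by
    intro x
    rw [hh, Units.val_mul, Matrix.mulVec_mulVec]
  -- the conjugate pair `(ψ', a')`
  set ψ' : 𝕍 →ₗ[F] E := conjFn ψ h with hψ'
  have hψ'EL : S.IsEL ψ' := isEL_conjFn S hψ hhc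
  set a' : 𝕍 := (h : 𝕄) *ᵥ a with ha'
  have hT' : TM M (τ ∘ₗ ψ') a' := TM_conjFn S τ hT hhM
  have ha'eq : a' = a + S.act (ε * γ) a₂ := by
    rw [ha', hhv, hh₁v, hlama, mul_one, hDv, map_add, hc, hψ, hψa₂, mul_one, zero_add, add_assoc,
      ← S.act_add]
    congr 2
    ring
  have hψa' : ψ a' = ε * γ := by
    rw [ha'eq, map_add, hc, hψ, hψa₂, mul_one, zero_add]
  have hψ'a' : ψ' a' = 0 := by rw [hψ', ha', conjFn_mulVec, hc]
  have hψ'a : ψ' a = -γ := by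
    have hz : (h : 𝕄) *ᵥ (a - S.act γ a₂) = a := by
      rw [hhv, hh₁v, map_sub, hlama, hlam, hlam₂, mul_zero, sub_zero, mul_one, sub_add_cancel, hDv,
        hc, mul_zero, S.act_zero, add_zero]
    rw [hψ', ← hz, conjFn_mulVec, map_sub, hc, hψ, hψa₂, mul_one, zero_sub]
  -- conjugate `(ψ, a)` with the transvection of `(ψ', a')`
  obtain ⟨h0', t', ht'M, ht'v⟩ := hT'
  have h2 := TM_conj ht'M hT
  refine ⟨(t' : 𝕄) *ᵥ a, ψ - τ (ε * γ) • ψ', KL.IsEL.sub S hψ (isEL_smul S hψ'EL _), ?_, ?_⟩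
  · rw [ht'v, LinearMap.comp_apply, hψ'a, LinearMap.sub_apply, LinearMap.smul_apply, map_add,
      map_add, map_smul, map_smul, hc, hψ'a, hψa', hψ'a', smul_zero, add_zero, zero_add]
    intro hzero
    apply hεF
    refine ⟨τ (ε * γ) / τ γ, ?_⟩
    have h3 : τ (ε * γ) • γ = τ γ • (ε * γ) := by
      have h4 : τ (-γ) • (ε * γ) - τ (ε * γ) • -γ = 0 := hzero
      rw [map_neg, neg_smul, smul_neg, sub_neg_eq_add, neg_add_eq_zero] at h4
      exact h4.symm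
    rw [Algebra.smul_def, Algebra.smul_def] at h3
    rw [map_div₀]
    have hτγ : algebraMap F E (τ γ) ≠ 0 := by
      intro h5
      exact hγ ((map_eq_zero (algebraMap F E)).mp h5)
    rw [div_eq_iff hτγ]
    have h6 : algebraMap F E (τ (ε * γ)) * γ = (ε * algebraMap F E (τ γ)) * γ := by
      rw [h3]; ring
    exact mul_right_cancel₀ hγ0 h6
  · refine TM_of_eq ?_ h2
    intro x
    rw [LinearMap.comp_apply, Matrix.toLin'_apply, inv_apply_of h0' ht'v, LinearMap.comp_apply,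
      LinearMap.comp_apply, LinearMap.comp_apply, map_sub, map_smul, map_sub, map_smul, hψa',
      LinearMap.sub_apply, LinearMap.smul_apply, map_sub, map_smul, smul_eq_mul, smul_eq_mul,
      mul_comm]

/-- from the `E`-linear functionals to all functionals (a commutator) -/
lemma TM_all_of_EL [FiniteDimensional F E] (S : KL n F E) (hlt : finrank F E < n)
    {M : Subgroup (GL (Fin n) F)} (τ : E →ₗ[F] F) (hτ : τ ≠ 0)
    (hall : ∀ (b : 𝕍) (μ : 𝕍 →ₗ[F] E), S.IsEL μ → μ b = 0 → TM M (τ ∘ₗ μ) b)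
    (b : 𝕍) (s : 𝕍 →ₗ[F] F) (hs : s b = 0) : TM M s b := by
  by_cases hb : b = 0
  · rw [hb]
    exact TM_zero_center M s
  obtain ⟨ψ, hψ, hsψ⟩ := exists_isEL_comp S τ hτ s
  obtain ⟨w, hw⟩ := S.exists_not_mem_line hlt b
  have hbw : b ∉ S.line w := by
    intro hmem
    apply hw
    rw [S.line_eq_of_mem hmem hb]
    exact S.self_mem_line w
  obtain ⟨lam, hlam, hlamw, hlamb⟩ := exists_isEL_line S hbw
  obtain ⟨ψb, hψb, hψbb, hψbw⟩ := exists_isEL_line S hw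
  obtain ⟨γ, hγ⟩ : ∃ γ, τ γ ≠ 0 := by
    by_contra hcon
    push Not at hcon
    exact hτ (LinearMap.ext hcon)
  set κ : E := (τ γ)⁻¹ • γ with hκ
  have hτκ : τ κ = 1 := by rw [hκ, map_smul, smul_eq_mul, inv_mul_cancel₀ hγ]
  set c : E := ψ b with hcdef
  have hτc : τ c = 0 := by rw [hcdef, ← hsψ, hs]
  have T1 : TM M (τ ∘ₗ (ψ - KL.cmul c lam)) b := by
    apply hall b _ (KL.IsEL.sub S hψ (hlam.cmul S c))
    rw [LinearMap.sub_apply, KL.cmul_apply, hlamb, mul_one, sub_self]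
  have T2 : TM M (τ ∘ₗ KL.cmul c lam) w := by
    apply hall w _ (hlam.cmul S c)
    rw [KL.cmul_apply, hlamw, mul_zero]
  have T3 : TM M (τ ∘ₗ KL.cmul κ ψb) b := by
    apply hall b _ (hψb.cmul S κ)
    rw [KL.cmul_apply, hψbb, mul_zero]
  have hsa : (τ ∘ₗ KL.cmul c lam) b = 0 := by
    rw [LinearMap.comp_apply, KL.cmul_apply, hlamb, mul_one, hτc]
  have T4 := TM_comm T3 T2 hsa
  have h1 : (τ ∘ₗ KL.cmul κ ψb) w = 1 := by
    rw [LinearMap.comp_apply, KL.cmul_apply, hψbw, mul_one, hτκ]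
  rw [h1, one_smul] at T4
  refine TM_of_eq ?_ (TM_add T1 T4)
  intro x
  rw [LinearMap.add_apply, LinearMap.comp_apply, LinearMap.comp_apply, LinearMap.sub_apply,
    map_sub, sub_add_cancel, hsψ]

/-- **Leaf E** (core form): `M ⊇ C_SL(E)` with a non-trivial `F`-transvection contains `SL_n(F)` -/
theorem specialLinear_le_of_hasTv_core [FiniteDimensional F E] (S : KL n F E)
    (hlt : finrank F E < n) {ε : E} (hε : Algebra.norm F ε = 1)
    (hεF : ε ∉ Set.range (algebraMap F E)) (M : Subgroup (GL (Fin n) F)) (hM : S.CenLe M)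
    (h : HasTv M) : Cfsg.Geo.specialLinear (Fin n) F ≤ M := by
  obtain ⟨p, χ, hχp, hp, hχ, hmem⟩ := h
  have hT0 : TM M χ p := ⟨hχp, ftv p χ hχp, hmem, ftv_mulVec hχp⟩
  -- a non-zero functional `τ`
  obtain ⟨τ, hτ1⟩ : ∃ τ : E →ₗ[F] F, τ 1 ≠ 0 := by
    by_contra hcon
    push Not at hcon
    exact one_ne_zero ((Module.forall_dual_apply_eq_zero_iff F (1 : E)).mp hcon)
  have hτ : τ ≠ 0 := by
    rintro rfl
    exact hτ1 rfl
  obtain ⟨ψ, hψ, hχψ⟩ := exists_isEL_comp S τ hτ χ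
  have hT1 : TM M (τ ∘ₗ ψ) p := TM_of_eq (fun v => by rw [LinearMap.comp_apply, hχψ]) hT0
  have hψ0 : ψ ≠ 0 := by
    rintro rfl
    apply hχ
    apply LinearMap.ext
    intro x
    rw [hχψ]
    simp
  -- a pair with `ψ' a' ≠ 0`
  obtain ⟨a', ψ', hψ', hne, hT2⟩ : ∃ (a' : 𝕍) (ψ' : 𝕍 →ₗ[F] E),
      S.IsEL ψ' ∧ ψ' a' ≠ 0 ∧ TM M (τ ∘ₗ ψ') a' := by
    by_cases hc : ψ p = 0
    · exact exists_TM_ne_zero S hM τ hτ hε hεF hψ hψ0 hp hc hT1
    · exact ⟨p, ψ, hψ, hc, hT1⟩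
  have ha' : a' ≠ 0 := by
    rintro rfl
    exact hne (map_zero ψ')
  have hall : ∀ (b : 𝕍) (μ : 𝕍 →ₗ[F] E), S.IsEL μ → μ b = 0 → TM M (τ ∘ₗ μ) b := by
    intro b μ hμ hμb
    by_cases hb : b = 0
    · rw [hb]
      exact TM_zero_center M _
    · exact TM_transfer S hlt hM τ ha' hb
        (fun μ' hμ' hμ'a => TM_of_ne_zero S hM τ hψ' hne hT2 hμ' hμ'a) hμ hμb
  have hn : 2 ≤ n := by
    have : 0 < finrank F E := Module.finrank_pos
    omega
  exact le_of_all_TM hn (fun a s hs => TM_all_of_EL S hlt τ hτ hall a s hs)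

/-- an element of norm `1` outside `F` (finite fields, `[E : F] ≥ 2`) -/
lemma exists_norm_one_not_mem_range [Fintype F] [FiniteDimensional F E] (h2 : 2 ≤ finrank F E) :
    ∃ ε : E, Algebra.norm F ε = 1 ∧ ε ∉ Set.range (algebraMap F E) := by
  have : Finite E := Module.finite_of_finite F
  have : Fintype E := Fintype.ofFinite E
  obtain ⟨z, hz, hzF⟩ := Cfsg.Agent.Lib.Helper11.C3lLeaf.exists_pow_not_mem_range (F := F) (E := E) h2
  refine ⟨z ^ (Fintype.card F - 1), ?_, hzF⟩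
  rw [map_pow]
  apply FiniteField.pow_card_sub_one_eq_one
  rw [Algebra.norm_ne_zero_iff]
  exact hz

/-- `finrank F E < n` from the existence of vectors outside every `E`-line -/
lemma finrank_lt_of_forall_exists_not_mem [FiniteDimensional F E] (S : KL n F E)
    (hd : ∀ v : 𝕍, ∃ w, w ∉ S.line v) : finrank F E < n := by
  obtain ⟨w, hw⟩ := hd 0
  have hw0 : w ≠ 0 := by
    rintro rfl
    exact hw (Submodule.zero_mem _)
  obtain ⟨w', hw'⟩ := hd w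
  by_contra hcon
  push Not at hcon
  apply hw'
  have h1 : finrank F (S.line w) = finrank F 𝕍 := by
    apply le_antisymm (Submodule.finrank_le _)
    rw [S.finrank_line hw0, Module.finrank_fin_fun]
    exact hcon
  rw [Submodule.eq_top_of_finrank_eq h1]
  exact Submodule.mem_top

/-- **Leaf E**: `F` finite, `[E : F] ≥ 2`, `[E : F] < n`: a subgroup `M ⊇ C_SL(E)` containing a non-trivial
`F`-transvection contains `SL_n(F)` -/
theorem specialLinear_le_of_hasTv_of_lt [Fintype F] [FiniteDimensional F E] (S : KL n F E)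
    (h2 : 2 ≤ finrank F E) (hlt : finrank F E < n) (M : Subgroup (GL (Fin n) F)) (hM : S.CenLe M)
    (h : HasTv M) : Cfsg.Geo.specialLinear (Fin n) F ≤ M := by
  obtain ⟨ε, hε, hεF⟩ := exists_norm_one_not_mem_range (F := F) (E := E) h2
  exact specialLinear_le_of_hasTv_core S hlt hε hεF M hM h

/-- **Leaf E** (announced wording) -/
theorem specialLinear_le_of_hasTv [Fintype F] (S : KL n F E) (hr : (finrank F E).Prime)
    (hd : ∀ v : 𝕍, ∃ w, w ∉ S.line v) (M : Subgroup (GL (Fin n) F)) (hM : S.CenLe M)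
    (h : HasTv M) : Cfsg.Geo.specialLinear (Fin n) F ≤ M := by
  have : FiniteDimensional F E := Module.finite_of_finrank_pos hr.pos
  exact specialLinear_le_of_hasTv_of_lt S hr.two_le (finrank_lt_of_forall_exists_not_mem S hd) M hM h

end Cfsg.Agent.Lib.Helper9.C3lLeaf
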