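/-
Helper9 library: the normaliser of a field subalgebra of composite degree in `GL_n(F)` is not
maximal (it lies strictly inside the normaliser of the subfield fixed by a power of Frobenius).
-/
import Mathlib
import Cfsg.Prelude.Def_GeometricClasses

set_option autoImplicit false
set_option linter.unusedSectionVars false
set_option linter.style.haveILetI false

namespace Cfsg.Agent.Lib.Helper9.FieldNorm

open Matrix


variable {ι : Type} [Fintype ι] [DecidableEq ι] {F : Type*} [Field F] [Fintype F]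
variable {E : Type*} [Field E] [Algebra F E]

/-- The ring hom `E → End_F(F^ι)` induced by an algebra hom into matrices. -/
noncomputable def endHom (ρ : E →ₐ[F] Matrix ι ι F) : E →+* Module.End F (ι → F) :=
  ((Matrix.toLinAlgEquiv' : Matrix ι ι F ≃ₐ[F] Module.End F (ι → F)).toAlgHom.comp ρ).toRingHom

theorem endHom_apply (ρ : E →ₐ[F] Matrix ι ι F) (x : E) (v : ι → F) :
    endHom ρ x v = (ρ x) *ᵥ v := by
  simp [endHom, Matrix.toLinAlgEquiv'_apply]

/-- The `E`-module structure on `F^ι`. -/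
@[reducible] noncomputable def modOf (ρ : E →ₐ[F] Matrix ι ι F) : Module E (ι → F) :=
  Module.compHom (ι → F) (endHom ρ)

theorem smul_def (ρ : E →ₐ[F] Matrix ι ι F) (x : E) (v : ι → F) :
    (letI := modOf ρ; x • v) = (ρ x) *ᵥ v := by
  letI := modOf ρ
  change endHom ρ x v = _
  exact endHom_apply ρ x v

theorem isScalarTower (ρ : E →ₐ[F] Matrix ι ι F) :
    letI := modOf ρ; IsScalarTower F E (ι → F) := by
  letI := modOf ρ
  refine ⟨fun c x v => ?_⟩
  rw [smul_def, smul_def, map_smul, Matrix.smul_mulVec]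

/-- the `Q`-power map as an `F`-linear map, `Q = (card F)^e`. -/
noncomputable def frobLin (F : Type*) [Field F] [Fintype F] (E : Type*) [Field E] [Algebra F E]
    (e : ℕ) : E →ₗ[F] E where
  toFun x := x ^ (Fintype.card F) ^ e
  map_add' x y := by
    obtain ⟨ℓ, hℓ⟩ := CharP.exists F
    obtain ⟨a, hprime, hcard⟩ := FiniteField.card F ℓ
    haveI : Fact ℓ.Prime := ⟨hprime⟩
    haveI : CharP E ℓ := charP_of_injective_algebraMap (algebraMap F E).injective ℓ
    rw [hcard, ← pow_mul]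
    exact add_pow_char_pow x y ℓ _
  map_smul' c x := by
    simp only [RingHom.id_apply]
    rw [smul_pow, FiniteField.pow_card_pow]

@[simp] theorem frobLin_apply (e : ℕ) (x : E) : frobLin F E e x = x ^ (Fintype.card F) ^ e := rfl

theorem frobLin_mul (e : ℕ) (x y : E) : frobLin F E e (x * y) = frobLin F E e x * frobLin F E e y := by
  simp [mul_pow]

theorem frobLin_algebraMap (e : ℕ) (c : F) :
    frobLin F E e (algebraMap F E c) = algebraMap F E c := by
  rw [frobLin_apply, ← map_pow, FiniteField.pow_card_pow]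

theorem exists_witness (ρ : E →ₐ[F] Matrix ι ι F)
    (hdim : Module.finrank F E < Fintype.card ι) (e : ℕ) (k : E)
    (hk : k ^ (Fintype.card F) ^ e ≠ k) :
    ∃ g : GL ι F, Matrix.GeneralLinearGroup.det g = 1 ∧
      (∀ x : E, x ^ (Fintype.card F) ^ e = x →
        (g : Matrix ι ι F) * ρ x = ρ x * (g : Matrix ι ι F)) ∧
      ∀ y : E, (g : Matrix ι ι F) * ρ k * ((g⁻¹ : GL ι F) : Matrix ι ι F) ≠ ρ y := by
  letI := modOf ρ
  haveI := isScalarTower ρ
  haveI : Module.Finite E (ι → F) := Module.Finite.of_restrictScalars_finite F E (ι → F)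
  have hfr := Module.finrank_mul_finrank F E (ι → F)
  rw [Module.finrank_fintype_fun_eq_card] at hfr
  have hd2 : 2 ≤ Module.finrank E (ι → F) := by
    by_contra hcon
    have : Module.finrank E (ι → F) ≤ 1 := by omega
    have := Nat.mul_le_mul_left (Module.finrank F E) this
    omega
  let b := Module.finBasis E (ι → F)
  let i₁ : Fin (Module.finrank E (ι → F)) := ⟨0, by omega⟩
  let i₂ : Fin (Module.finrank E (ι → F)) := ⟨1, by omega⟩
  have h12 : i₁ ≠ i₂ := by
    intro h
    have := congrArg Fin.val h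
    simp [i₁, i₂] at this
  let N : (ι → F) →ₗ[F] (ι → F) :=
    { toFun := fun v => frobLin F E e (b.repr v i₁) • b i₂
      map_add' := fun v w => by
        simp only [map_add, Finsupp.add_apply, add_smul]
      map_smul' := fun c v => by
        simp only [RingHom.id_apply]
        rw [← algebraMap_smul E c v, map_smul, Finsupp.smul_apply, smul_eq_mul, frobLin_mul,
          mul_smul, frobLin_algebraMap, algebraMap_smul] }
  have hN : ∀ v, N v = frobLin F E e (b.repr v i₁) • b i₂ := fun v => rfl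
  have hrepr2 : b.repr (b i₂) i₁ = 0 := by
    rw [Module.Basis.repr_self, Finsupp.single_apply, if_neg (Ne.symm h12)]
  have hrepr1 : b.repr (b i₁) i₁ = 1 := by
    rw [Module.Basis.repr_self, Finsupp.single_apply, if_pos rfl]
  have hNsmul2 : ∀ x : E, N (x • b i₂) = 0 := by
    intro x
    rw [hN, map_smul, Finsupp.smul_apply, hrepr2, smul_zero, map_zero, zero_smul]
  have hNsmul1 : ∀ x : E, N (x • b i₁) = frobLin F E e x • b i₂ := by
    intro x
    rw [hN, map_smul, Finsupp.smul_apply, hrepr1, smul_eq_mul, mul_one]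
  have hNN : N * N = 0 := by
    apply LinearMap.ext
    intro v
    rw [Module.End.mul_apply, hN v, hNsmul2, LinearMap.zero_apply]
  set M : Matrix ι ι F := LinearMap.toMatrix' N with hMdef
  have hMv : ∀ v, M *ᵥ v = N v := by
    intro v
    rw [← Matrix.toLin'_apply, hMdef, Matrix.toLin'_toMatrix']
  have hMM : M * M = 0 := by
    rw [hMdef, ← LinearMap.toMatrix'_mul, hNN, map_zero]
  have hg1 : (1 + M) * (1 - M) = 1 := by
    rw [mul_sub, mul_one, add_mul, one_mul, hMM]; abel
  have hg2 : (1 - M) * (1 + M) = 1 := by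
    rw [mul_add, mul_one, sub_mul, one_mul, hMM]; abel
  let g : GL ι F := ⟨1 + M, 1 - M, hg1, hg2⟩
  have hgval : (g : Matrix ι ι F) = 1 + M := rfl
  have hginv : ((g⁻¹ : GL ι F) : Matrix ι ι F) = 1 - M := rfl
  have hgv : ∀ v, (g : Matrix ι ι F) *ᵥ v = v + N v := by
    intro v
    rw [hgval, Matrix.add_mulVec, Matrix.one_mulVec, hMv]
  have hsm : ∀ (x : E) (v : ι → F), (ρ x) *ᵥ v = x • v := fun x v => (smul_def ρ x v).symm
  refine ⟨g, ?_, ?_, ?_⟩
  · -- determinant
    obtain ⟨ℓ, hℓ⟩ := CharP.exists F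
    obtain ⟨a, hprime, hcard⟩ := FiniteField.card F ℓ
    haveI : Fact ℓ.Prime := ⟨hprime⟩
    haveI : Nonempty ι := by
      rw [← Fintype.card_pos_iff]; omega
    haveI : CharP (Matrix ι ι F) ℓ := Matrix.charP ℓ
    have hpow : (1 + M) ^ ℓ = 1 := by
      rw [add_pow_char_of_commute ℓ (Commute.one_left M), one_pow]
      have : M ^ ℓ = 0 := by
        have h2 : 2 ≤ ℓ := hprime.two_le
        obtain ⟨j, rfl⟩ := Nat.exists_eq_add_of_le h2
        rw [pow_add, pow_two, hMM, zero_mul]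
      rw [this, add_zero]
    have hdet : (1 + M).det ^ ℓ = 1 := by rw [← Matrix.det_pow, hpow, Matrix.det_one]
    have hdet1 : (1 + M).det = 1 := by
      apply frobenius_inj F ℓ
      rw [frobenius_def, frobenius_def, hdet, one_pow]
    apply Units.ext
    rw [Matrix.GeneralLinearGroup.val_det_apply, Units.val_one]
    exact hdet1
  · intro x hx
    rw [hgval, add_mul, mul_add, one_mul, mul_one]
    congr 1
    apply Matrix.toLin'.injective
    apply LinearMap.ext
    intro v
    rw [Matrix.toLin'_apply, Matrix.toLin'_apply, ← Matrix.mulVec_mulVec, ← Matrix.mulVec_mulVec,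
      hMv, hMv, hsm, hsm, hN, hN, map_smul, Finsupp.smul_apply, smul_eq_mul, frobLin_mul,
      frobLin_apply, hx, mul_smul]
  · intro y hy
    have hcomm : (g : Matrix ι ι F) * ρ k = ρ y * (g : Matrix ι ι F) := by
      have h1 : (g : Matrix ι ι F) * ρ k * ((g⁻¹ : GL ι F) : Matrix ι ι F) * (g : Matrix ι ι F)
          = ρ y * (g : Matrix ι ι F) := by rw [hy]
      rw [mul_assoc, ← Units.val_mul, inv_mul_cancel, Units.val_one, mul_one] at h1
      exact h1
    -- apply to `b i₂`
    have e2 := congrArg (fun A : Matrix ι ι F => A *ᵥ (b i₂)) hcomm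
    simp only [← Matrix.mulVec_mulVec] at e2
    rw [hsm, hgv, hNsmul2, add_zero, hgv] at e2
    have hNb2 : N (b i₂) = 0 := by simpa using hNsmul2 1
    rw [hNb2, add_zero, hsm] at e2
    have hyk : k = y := by
      have h0 : (k - y) • b i₂ = 0 := by rw [sub_smul, e2, sub_self]
      rcases smul_eq_zero.mp h0 with h | h
      · exact sub_eq_zero.mp h
      · exact absurd h (b.ne_zero i₂)
    subst hyk
    -- apply to `b i₁`
    have e1 := congrArg (fun A : Matrix ι ι F => A *ᵥ (b i₁)) hcomm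
    simp only [← Matrix.mulVec_mulVec] at e1
    rw [hsm, hgv, hNsmul1, hgv] at e1
    have hNb1 : N (b i₁) = b i₂ := by
      have := hNsmul1 1
      rw [one_smul, frobLin_apply, one_pow, one_smul] at this
      exact this
    rw [hNb1, Matrix.mulVec_add, hsm, hsm] at e1
    have h0 : (frobLin F E e k - k) • b i₂ = 0 := by
      rw [sub_smul, sub_eq_zero]
      exact add_left_cancel e1
    rcases smul_eq_zero.mp h0 with h | h
    · exact hk (by rw [← frobLin_apply]; exact sub_eq_zero.mp h)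
    · exact absurd h (b.ne_zero i₂)

section Sub

variable (L : Subalgebra F (Matrix ι ι F))

/-- field structure on a field-like subalgebra. -/
@[reducible] noncomputable def fieldOf [Nonempty ι]
    (hc : ∀ x ∈ L, ∀ y ∈ L, x * y = y * x) (hi : ∀ x ∈ L, x ≠ 0 → ∃ y ∈ L, x * y = 1) :
    Field ↥L :=
  IsField.toField
    { exists_pair_ne := ⟨0, 1, fun h => zero_ne_one (congrArg Subtype.val h)⟩
      mul_comm := fun x y => Subtype.ext (hc x.1 x.2 y.1 y.2)
      mul_inv_cancel := fun {x} hx => by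
        obtain ⟨y, hy, hxy⟩ := hi x.1 x.2 (fun h => hx (Subtype.ext h))
        exact ⟨⟨y, hy⟩, Subtype.ext hxy⟩ }

theorem exists_witness_sub
    (hc : ∀ x ∈ L, ∀ y ∈ L, x * y = y * x) (hi : ∀ x ∈ L, x ≠ 0 → ∃ y ∈ L, x * y = 1)
    (hdim : Module.finrank F L < Fintype.card ι) (e : ℕ) (k : Matrix ι ι F) (hkL : k ∈ L)
    (hk : k ^ (Fintype.card F) ^ e ≠ k) :
    ∃ g : GL ι F, g ∈ Cfsg.Geo.specialLinear ι F ∧
      (∀ x ∈ L, x ^ (Fintype.card F) ^ e = x →
        (g : Matrix ι ι F) * x = x * (g : Matrix ι ι F)) ∧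
      g ∉ Cfsg.Geo.subalgebraNormalizer L := by
  haveI : Nonempty ι := by
    rw [← Fintype.card_pos_iff]; omega
  letI := fieldOf L hc hi
  obtain ⟨g, hdet, hcomm, hnot⟩ := exists_witness (E := ↥L) L.val hdim e ⟨k, hkL⟩
    (fun h => hk (by simpa using congrArg Subtype.val h))
  refine ⟨g, hdet, ?_, ?_⟩
  · intro x hx hxQ
    exact hcomm ⟨x, hx⟩ (Subtype.ext (by simpa using hxQ))
  · intro hg
    have := (hg k).mp hkL
    exact hnot ⟨_, this⟩ rfl

end Sub



section Fixed

variable (L : Subalgebra F (Matrix ι ι F))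

theorem add_pow_card_pow [Nonempty ι] (e : ℕ) {x y : Matrix ι ι F} (hxy : Commute x y) :
    (x + y) ^ (Fintype.card F) ^ e = x ^ (Fintype.card F) ^ e + y ^ (Fintype.card F) ^ e := by
  obtain ⟨ℓ, hℓ⟩ := CharP.exists F
  obtain ⟨a, hprime, hcard⟩ := FiniteField.card F ℓ
  haveI : Fact ℓ.Prime := ⟨hprime⟩
  haveI : CharP (Matrix ι ι F) ℓ := Matrix.charP ℓ
  rw [hcard, ← pow_mul]
  exact add_pow_char_pow_of_commute _ _ hxy

/-- The subalgebra of elements of `L` fixed by the `(card F)^e`-power map. -/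
def fixedSub [Nonempty ι] (hc : ∀ x ∈ L, ∀ y ∈ L, x * y = y * x) (e : ℕ) :
    Subalgebra F (Matrix ι ι F) where
  carrier := {x | x ∈ L ∧ x ^ (Fintype.card F) ^ e = x}
  mul_mem' := by
    rintro x y ⟨hx, hx'⟩ ⟨hy, hy'⟩
    refine ⟨L.mul_mem hx hy, ?_⟩
    rw [(show Commute x y from hc x hx y hy).mul_pow, hx', hy']
  add_mem' := by
    rintro x y ⟨hx, hx'⟩ ⟨hy, hy'⟩
    refine ⟨L.add_mem hx hy, ?_⟩
    rw [add_pow_card_pow e (show Commute x y from hc x hx y hy), hx', hy']
  algebraMap_mem' := by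
    intro c
    refine ⟨L.algebraMap_mem c, ?_⟩
    rw [← map_pow, FiniteField.pow_card_pow]

theorem mem_fixedSub [Nonempty ι] (hc : ∀ x ∈ L, ∀ y ∈ L, x * y = y * x) (e : ℕ)
    (x : Matrix ι ι F) : x ∈ fixedSub L hc e ↔ x ∈ L ∧ x ^ (Fintype.card F) ^ e = x := Iff.rfl

theorem fixedSub_le [Nonempty ι] (hc : ∀ x ∈ L, ∀ y ∈ L, x * y = y * x) (e : ℕ) :
    fixedSub L hc e ≤ L := fun _ hx => hx.1

theorem fixedSub_comm [Nonempty ι] (hc : ∀ x ∈ L, ∀ y ∈ L, x * y = y * x) (e : ℕ) :
    ∀ x ∈ fixedSub L hc e, ∀ y ∈ fixedSub L hc e, x * y = y * x :=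
  fun x hx y hy => hc x hx.1 y hy.1

theorem fixedSub_inv [Nonempty ι] (hc : ∀ x ∈ L, ∀ y ∈ L, x * y = y * x)
    (hi : ∀ x ∈ L, x ≠ 0 → ∃ y ∈ L, x * y = 1) (e : ℕ) :
    ∀ x ∈ fixedSub L hc e, x ≠ 0 → ∃ y ∈ fixedSub L hc e, x * y = 1 := by
  rintro x ⟨hx, hx'⟩ hx0
  obtain ⟨y, hy, hxy⟩ := hi x hx hx0
  refine ⟨y, ⟨hy, ?_⟩, hxy⟩
  have hyx : y * x = 1 := by rw [← hc x hx y hy, hxy]
  have h1 : x * y ^ (Fintype.card F) ^ e = 1 := by
    have := congrArg (fun z => z ^ (Fintype.card F) ^ e) hxy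
    simp only [one_pow] at this
    rwa [(show Commute x y from hc x hx y hy).mul_pow, hx'] at this
  calc y ^ (Fintype.card F) ^ e = (y * x) * y ^ (Fintype.card F) ^ e := by rw [hyx, one_mul]
    _ = y * (x * y ^ (Fintype.card F) ^ e) := by rw [mul_assoc]
    _ = y := by rw [h1, mul_one]

theorem finrank_fixedSub_le [Nonempty ι] (hc : ∀ x ∈ L, ∀ y ∈ L, x * y = y * x) (e : ℕ) :
    Module.finrank F (fixedSub L hc e) ≤ Module.finrank F L :=
  Submodule.finrank_mono (show (fixedSub L hc e).toSubmodule ≤ L.toSubmodule from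
    fun _ hx => hx.1)

theorem normalizer_le_fixedSub [Nonempty ι] (hc : ∀ x ∈ L, ∀ y ∈ L, x * y = y * x) (e : ℕ) :
    Cfsg.Geo.subalgebraNormalizer L ≤ Cfsg.Geo.subalgebraNormalizer (fixedSub L hc e) := by
  intro g hg k
  rw [mem_fixedSub, mem_fixedSub, ← hg k, Units.conj_pow]
  constructor
  · rintro ⟨h1, h2⟩
    exact ⟨h1, by rw [h2]⟩
  · rintro ⟨h1, h2⟩
    refine ⟨h1, ?_⟩
    have := congrArg (fun A => ((g⁻¹ : GL ι F) : Matrix ι ι F) * A * (g : Matrix ι ι F)) h2
    simp only [mul_assoc] at this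
    simpa [← mul_assoc] using this

theorem mem_normalizer_of_commute (g : GL ι F)
    (h : ∀ x ∈ L, (g : Matrix ι ι F) * x = x * (g : Matrix ι ι F)) :
    g ∈ Cfsg.Geo.subalgebraNormalizer L := by
  intro k
  constructor
  · intro hk
    rw [h k hk, mul_assoc, ← Units.val_mul, mul_inv_cancel, Units.val_one, mul_one]
    exact hk
  · intro hk
    have h2 := h _ hk
    have : k = (g : Matrix ι ι F) * k * ((g⁻¹ : GL ι F) : Matrix ι ι F) := by
      have h3 : (g : Matrix ι ι F) * ((g : Matrix ι ι F) * k * ((g⁻¹ : GL ι F) : Matrix ι ι F))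
          = (g : Matrix ι ι F) * k := by
        rw [h2, mul_assoc, mul_assoc, ← Units.val_mul, inv_mul_cancel, Units.val_one, mul_one]
      have h4 := congrArg (fun A => ((g⁻¹ : GL ι F) : Matrix ι ι F) * A) h3
      simp only [← mul_assoc, ← Units.val_mul, inv_mul_cancel, Units.val_one, one_mul] at h4
      exact h4.symm
    rw [this]; exact hk

end Fixed


theorem exists_gen_props {E : Type*} [Field E] [Fintype E] {q r p : ℕ} (hq : 2 ≤ q)
    (hcard : Fintype.card E = q ^ r) (hp1 : 1 < p) (hpr : p < r) (hdvd : p ∣ r) :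
    (∃ k : E, k ^ q ^ p ≠ k) ∧ ∃ k : E, k ^ q ^ p = k ∧ k ^ q ^ 1 ≠ k := by
  classical
  obtain ⟨ζ, hζ⟩ := IsCyclic.exists_generator (α := Eˣ)
  have hord : orderOf ζ = q ^ r - 1 := by
    rw [orderOf_eq_card_of_forall_mem_zpowers hζ, Nat.card_eq_fintype_card, Fintype.card_units,
      hcard]
  have hqp : q ^ 1 < q ^ p := Nat.pow_lt_pow_right (by omega) hp1
  have hqr : q ^ p < q ^ r := Nat.pow_lt_pow_right (by omega) hpr
  have hq1 : 2 ≤ q ^ 1 := by simpa using hq
  -- reformulation in units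
  have key : ∀ (u : Eˣ) (m : ℕ), 1 ≤ m → ((u : E) ^ m = u ↔ u ^ (m - 1) = 1) := by
    intro u m hm
    obtain ⟨j, rfl⟩ := Nat.exists_eq_add_of_le hm
    rw [Nat.add_sub_cancel_left, add_comm, pow_succ]
    constructor
    · intro h
      apply Units.ext
      have h2 : (u : E) ^ j * u = 1 * u := by rw [h, one_mul]
      have := mul_right_cancel₀ u.ne_zero h2
      simpa using this
    · intro h
      have : (u : E) ^ j = 1 := by
        have := congrArg Units.val h
        simpa using this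
      rw [this, one_mul]
  constructor
  · refine ⟨(ζ : E), fun h => ?_⟩
    rw [key ζ _ (by omega)] at h
    have := orderOf_dvd_of_pow_eq_one h
    rw [hord] at this
    have := Nat.le_of_dvd (by omega) this
    omega
  · obtain ⟨c, hc⟩ := hdvd
    have hAB : q ^ p - 1 ∣ q ^ r - 1 := by
      have := Nat.sub_one_dvd_pow_sub_one (q ^ p) c
      rwa [← pow_mul, ← hc] at this
    obtain ⟨N, hN⟩ := hAB
    have hNpos : 0 < N := by
      rcases Nat.eq_zero_or_pos N with h | h
      · rw [h, mul_zero] at hN; omega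
      · exact h
    refine ⟨((ζ ^ N : Eˣ) : E), ?_, fun h => ?_⟩
    · rw [key _ _ (by omega), ← pow_mul, mul_comm, ← hN, ← hord, pow_orderOf_eq_one]
    · rw [key _ _ (by omega), ← pow_mul] at h
      have := orderOf_dvd_of_pow_eq_one h
      rw [hord, hN, mul_comm] at this
      have := Nat.dvd_of_mul_dvd_mul_left hNpos this
      have := Nat.le_of_dvd (by omega) this
      omega


section Main

theorem not_maximal (K : Subalgebra F (Matrix ι ι F)) {r : ℕ} (hr1 : 1 < r) (hrp : ¬ r.Prime)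
    (hlt : r < Fintype.card ι) (hK : Cfsg.Geo.IsFieldSubalgebra r K) :
    ¬ IsCoatom (Cfsg.Geo.subalgebraNormalizer K) ∧
      ¬ Cfsg.Geo.IsMaximalIn (Cfsg.Geo.specialLinear ι F)
        (Cfsg.Geo.subalgebraNormalizer K ⊓ Cfsg.Geo.specialLinear ι F) := by
  classical
  haveI : Nonempty ι := by
    rw [← Fintype.card_pos_iff]; omega
  have hp : r.minFac.Prime := Nat.minFac_prime (by omega)
  have hpr : r.minFac ∣ r := Nat.minFac_dvd r
  have hplt : r.minFac < r := by
    rcases lt_or_eq_of_le (Nat.minFac_le (show 0 < r by omega)) with h | h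
    · exact h
    · exact absurd (h ▸ hp) hrp
  have hp1 : 1 < r.minFac := hp.one_lt
  set p := r.minFac with hpdef
  have hq : 2 ≤ Fintype.card F := Fintype.one_lt_card
  letI := fieldOf K hK.comm hK.inv
  haveI : Fintype ↥K := Fintype.ofFinite _
  have hcardK : Fintype.card ↥K = Fintype.card F ^ r := by
    rw [Module.card_eq_pow_finrank (K := F) (V := ↥K), hK.finrank_eq]
  obtain ⟨⟨k₁, hk₁⟩, ⟨k₂, hk₂, hk₂'⟩⟩ := exists_gen_props (E := ↥K) hq hcardK hp1 hplt hpr
  have hdim : Module.finrank F K < Fintype.card ι := by rw [hK.finrank_eq]; exact hlt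
  -- first witness
  obtain ⟨g₁, hg₁SL, hg₁c, hg₁n⟩ := exists_witness_sub K hK.comm hK.inv hdim p k₁.1 k₁.2
    (fun h => hk₁ (Subtype.ext (by simpa using h)))
  have hg₁K₀ : g₁ ∈ Cfsg.Geo.subalgebraNormalizer (fixedSub K hK.comm p) :=
    mem_normalizer_of_commute _ g₁ (fun x hx => hg₁c x hx.1 hx.2)
  -- second witness
  have hdim₀ : Module.finrank F (fixedSub K hK.comm p) < Fintype.card ι :=
    lt_of_le_of_lt (finrank_fixedSub_le K hK.comm p) hdim
  have hk₂mem : k₂.1 ∈ fixedSub K hK.comm p :=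
    ⟨k₂.2, by simpa using congrArg Subtype.val hk₂⟩
  obtain ⟨g₂, hg₂SL, -, hg₂n⟩ := exists_witness_sub (fixedSub K hK.comm p)
    (fixedSub_comm K hK.comm p) (fixedSub_inv K hK.comm hK.inv p) hdim₀ 1 k₂.1 hk₂mem
    (fun h => hk₂' (Subtype.ext (by simpa using h)))
  have hle := normalizer_le_fixedSub K hK.comm p
  constructor
  · intro hco
    have hlt' : Cfsg.Geo.subalgebraNormalizer K
        < Cfsg.Geo.subalgebraNormalizer (fixedSub K hK.comm p) :=
      lt_of_le_of_ne hle (fun h => hg₁n (h ▸ hg₁K₀))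
    have := hco.2 _ hlt'
    exact hg₂n (this ▸ Subgroup.mem_top g₂)
  · rintro ⟨-, hmax⟩
    rcases hmax (Cfsg.Geo.subalgebraNormalizer (fixedSub K hK.comm p) ⊓
        Cfsg.Geo.specialLinear ι F) (inf_le_inf_right _ hle) inf_le_right with h | h
    · have : g₁ ∈ Cfsg.Geo.subalgebraNormalizer K ⊓ Cfsg.Geo.specialLinear ι F :=
        h ▸ ⟨hg₁K₀, hg₁SL⟩
      exact hg₁n this.1
    · have : g₂ ∈ Cfsg.Geo.subalgebraNormalizer (fixedSub K hK.comm p) ⊓
          Cfsg.Geo.specialLinear ι F := by rw [h]; exact hg₂SL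
      exact hg₂n this.1

end Main

end Cfsg.Agent.Lib.Helper9.FieldNorm
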