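import Mathlib
import Cfsg.Prelude.Def_GeometricClasses
import Cfsg.Agent.Lib.Helper18.ReidxDefs

/-!
REINDEX / TRANSPORT block (helper18's market), packet P0b: subspaces.
Exact signatures of `notes/Reidx_leaves.lean`.
-/

set_option autoImplicit false
set_option linter.unusedSectionVars false
set_option linter.unusedVariables false

namespace Cfsg.Agent.Lib.Helper9.ReidxLeaf
open Matrix Cfsg Cfsg.Geo Cfsg.Agent.Lib.Helper18.Reidx
open scoped Kronecker

variable {F : Type*} [Field F] {ι κ : Type} [Fintype ι] [DecidableEq ι] [Fintype κ] [DecidableEq κ]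

/-- auxiliary: `rv e.symm` inverts `rv e` -/
lemma rv_symm_rv' (e : ι ≃ κ) (v : ι → F) : rv e.symm (rv e v) = v := by
  ext i
  simp

lemma rv_rv_symm' (e : ι ≃ κ) (w : κ → F) : rv e (rv e.symm w) = w := by
  ext k
  simp

theorem rs_symm (e : ι ≃ κ) (W : Submodule F (ι → F)) : rs e.symm (rs e W) = W := by
  ext v
  rw [mem_rs]
  constructor
  · rintro ⟨w, hw, rfl⟩
    rw [mem_rs] at hw
    obtain ⟨v', hv', rfl⟩ := hw
    rw [rv_symm_rv']
    exact hv'
  · intro hv
    exact ⟨rv e v, mem_rs.mpr ⟨v, hv, rfl⟩, rv_symm_rv' e v⟩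

theorem rs_mono (e : ι ≃ κ) {W W' : Submodule F (ι → F)} (h : W ≤ W') : rs e W ≤ rs e W' :=
  Submodule.map_mono h

theorem rs_eq_bot_iff (e : ι ≃ κ) (W : Submodule F (ι → F)) : rs e W = ⊥ ↔ W = ⊥ := by
  unfold rs
  rw [Submodule.map_eq_bot_iff]

theorem rs_eq_top_iff (e : ι ≃ κ) (W : Submodule F (ι → F)) : rs e W = ⊤ ↔ W = ⊤ := by
  constructor
  · intro h
    have h1 := rs_symm e W
    rw [h] at h1
    rw [← h1]
    unfold rs
    rw [Submodule.map_top, LinearMap.range_eq_top]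
    exact (rv (F := F) e.symm).surjective
  · intro h
    rw [h]
    unfold rs
    rw [Submodule.map_top, LinearMap.range_eq_top]
    exact (rv (F := F) e).surjective

theorem finrank_rs (e : ι ≃ κ) (W : Submodule F (ι → F)) :
    Module.finrank F (rs e W) = Module.finrank F W := by
  unfold rs
  exact LinearEquiv.finrank_map_eq (rv e) W

theorem rs_iSup (e : ι ≃ κ) {α : Sort*} (D : α → Submodule F (ι → F)) : rs e (⨆ i, D i) = ⨆ i, rs e (D i) := by
  unfold rs
  rw [Submodule.map_iSup]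

theorem rs_map_toLin' (e : ι ≃ κ) (M : Matrix ι ι F) (W : Submodule F (ι → F)) :
    (rs e W).map (Matrix.toLin' (rm e M)) = rs e (W.map (Matrix.toLin' M)) := by
  ext w
  constructor
  · rintro ⟨u, hu, rfl⟩
    obtain ⟨v, hv, rfl⟩ := mem_rs.mp hu
    rw [mem_rs]
    refine ⟨Matrix.toLin' M v, Submodule.mem_map_of_mem hv, ?_⟩
    rw [Matrix.toLin'_apply, Matrix.toLin'_apply, rm_mulVec]
  · intro hw
    rw [mem_rs] at hw
    obtain ⟨u, hu, rfl⟩ := hw
    obtain ⟨v, hv, rfl⟩ := hu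
    refine ⟨rv e v, mem_rs.mpr ⟨v, hv, rfl⟩, ?_⟩
    rw [Matrix.toLin'_apply, Matrix.toLin'_apply, rm_mulVec]

end Cfsg.Agent.Lib.Helper9.ReidxLeaf
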