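import Mathlib
import Cfsg.Prelude.Def_GeometricClasses
import Cfsg.Agent.Lib.Helper18.ReidxDefs

/-!
REINDEX / TRANSPORT block (helper18's market), packet P2: normalisers.
Exact signatures of `notes/Reidx_leaves.lean`.
-/

set_option autoImplicit false
set_option linter.unusedSectionVars false
set_option linter.unusedVariables false

namespace Cfsg.Agent.Lib.Helper9.ReidxLeaf
open Matrix Cfsg Cfsg.Geo Cfsg.Agent.Lib.Helper18.Reidx
open scoped Kronecker

variable {F : Type*} [Field F] {ι κ : Type} [Fintype ι] [DecidableEq ι] [Fintype κ] [DecidableEq κ]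

/-! ### auxiliary facts on `rm` (local copies; packet P0a has the official ones) -/

lemma rm_mul' (e : ι ≃ κ) (M N : Matrix ι ι F) : rm e (M * N) = rm e M * rm e N := by
  unfold rm
  exact (Matrix.reindexAlgEquiv F F e).map_mul M N

lemma rm_one' (e : ι ≃ κ) : rm e (1 : Matrix ι ι F) = 1 := by
  unfold rm
  exact (Matrix.reindexAlgEquiv F F e).map_one

lemma rm_zero' (e : ι ≃ κ) : rm e (0 : Matrix ι ι F) = 0 := by
  unfold rm
  exact (Matrix.reindexAlgEquiv F F e).map_zero

lemma rm_symm_rm' (e : ι ≃ κ) (M : Matrix ι ι F) : rm e.symm (rm e M) = M := by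
  ext i j
  simp

lemma rm_rm_symm' (e : ι ≃ κ) (N : Matrix κ κ F) : rm e (rm e.symm N) = N := by
  ext i j
  simp

lemma rm_injective' (e : ι ≃ κ) : Function.Injective (rm (F := F) e) := by
  intro M N h
  rw [← rm_symm_rm' e M, h, rm_symm_rm']

/-- `ra e K` as a linear image -/
lemma ra_toSubmodule (e : ι ≃ κ) (K : Subalgebra F (Matrix ι ι F)) :
    Subalgebra.toSubmodule (ra e K) =
      (Subalgebra.toSubmodule K).map
        ((Matrix.reindexAlgEquiv F F e).toLinearEquiv : Matrix ι ι F →ₗ[F] Matrix κ κ F) := by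
  ext M
  rw [Subalgebra.mem_toSubmodule, mem_ra, Submodule.mem_map]
  rfl

theorem isFieldSubalgebra_ra (e : ι ≃ κ) {r : ℕ} {K : Subalgebra F (Matrix ι ι F)} (h : IsFieldSubalgebra r K) :
    IsFieldSubalgebra r (ra e K) := by
  refine ⟨?_, ?_, ?_⟩
  · intro x hx y hy
    obtain ⟨x', hx', rfl⟩ := mem_ra.mp hx
    obtain ⟨y', hy', rfl⟩ := mem_ra.mp hy
    rw [← rm_mul', ← rm_mul', h.comm x' hx' y' hy']
  · intro x hx hx0
    obtain ⟨x', hx', rfl⟩ := mem_ra.mp hx
    have hx'0 : x' ≠ 0 := by
      intro h0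
      apply hx0
      rw [h0, rm_zero']
    obtain ⟨y', hy', hxy⟩ := h.inv x' hx' hx'0
    exact ⟨rm e y', mem_ra.mpr ⟨y', hy', rfl⟩, by rw [← rm_mul', hxy, rm_one']⟩
  · rw [← h.finrank_eq]
    show Module.finrank F (Subalgebra.toSubmodule (ra e K)) = Module.finrank F (Subalgebra.toSubmodule K)
    rw [ra_toSubmodule]
    exact LinearEquiv.finrank_map_eq (Matrix.reindexAlgEquiv F F e).toLinearEquiv _

/-- matrix of the inverse of a reindexed unit -/
lemma glReindex_inv_val (e : ι ≃ κ) (g : GL ι F) :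
    (((glReindex e g)⁻¹ : GL κ F) : Matrix κ κ F) = rm e ((g⁻¹ : GL ι F) : Matrix ι ι F) := by
  rw [← map_inv]
  rfl

lemma glReindex_symm' (e : ι ≃ κ) (g : GL κ F) : glReindex e (glReindex e.symm g) = g := by
  apply Units.ext
  rw [glReindex_val, glReindex_val, rm_rm_symm']

theorem rg_subalgebraNormalizer (e : ι ≃ κ) (K : Subalgebra F (Matrix ι ι F)) :
    rg e (subalgebraNormalizer K) = subalgebraNormalizer (ra e K) := by
  ext g
  rw [mem_rg]
  constructor
  · rintro ⟨h, hh, rfl⟩
    intro k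
    rw [glReindex_val, glReindex_inv_val]
    have hk : k = rm e (rm e.symm k) := (rm_rm_symm' e k).symm
    rw [hk, ← rm_mul', ← rm_mul', mem_ra, mem_ra]
    constructor
    · rintro ⟨k', hk', hkk⟩
      have := rm_injective' e hkk
      subst this
      exact ⟨_, (hh _).mp hk', rfl⟩
    · rintro ⟨k', hk', hkk⟩
      have := rm_injective' e hkk
      refine ⟨rm e.symm k, ?_, rfl⟩
      rw [hh, ← this]
      exact hk'
  · intro hg
    refine ⟨glReindex e.symm g, ?_, glReindex_symm' e g⟩
    intro k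
    have h1 := hg (rm e k)
    rw [mem_ra, mem_ra] at h1
    rw [glReindex_val, glReindex_inv_val]
    constructor
    · intro hk
      obtain ⟨k', hk', hkk⟩ := h1.mp ⟨k, hk, rfl⟩
      have e1 : rm e.symm (g : Matrix κ κ F) * k * rm e.symm ((g⁻¹ : GL κ F) : Matrix κ κ F) = k' := by
        apply rm_injective' e
        rw [rm_mul', rm_mul', rm_rm_symm', rm_rm_symm', hkk]
      rw [e1]
      exact hk'
    · intro hk
      have h2 : ∃ k' ∈ K, rm e k' =
          (g : Matrix κ κ F) * rm e k * ((g⁻¹ : GL κ F) : Matrix κ κ F) := by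
        refine ⟨_, hk, ?_⟩
        rw [rm_mul', rm_mul', rm_rm_symm', rm_rm_symm']
      obtain ⟨k', hk', hkk⟩ := h1.mpr h2
      have := rm_injective' e hkk
      rw [← this]
      exact hk'

theorem rg_subgroupNormalizer (e : ι ≃ κ) (R : Subgroup (GL ι F)) :
    rg e (subgroupNormalizer R) = subgroupNormalizer (rg e R) := by
  unfold subgroupNormalizer
  ext g
  rw [mem_rg, Subgroup.mem_normalizer_iff]
  constructor
  · rintro ⟨h, hh, rfl⟩
    rw [Subgroup.mem_normalizer_iff] at hh
    intro x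
    constructor
    · intro hx
      obtain ⟨y, hy, rfl⟩ := mem_rg.mp hx
      refine mem_rg.mpr ⟨h * y * h⁻¹, (hh y).mp hy, ?_⟩
      rw [map_mul, map_mul, map_inv]
    · intro hx
      obtain ⟨y, hy, hyx⟩ := mem_rg.mp hx
      refine mem_rg.mpr ⟨h⁻¹ * y * h, ?_, ?_⟩
      · rw [hh]
        have : h * (h⁻¹ * y * h) * h⁻¹ = y := by group
        rw [this]
        exact hy
      · rw [map_mul, map_mul, map_inv, hyx]
        group
  · intro hg
    refine ⟨glReindex e.symm g, ?_, glReindex_symm' e g⟩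
    rw [Subgroup.mem_normalizer_iff]
    intro x
    have h1 := hg (glReindex e x)
    have key : ∀ y : GL ι F, glReindex e y ∈ rg e R ↔ y ∈ R := by
      intro y
      constructor
      · intro hy
        obtain ⟨y', hy', hyy⟩ := mem_rg.mp hy
        have := (glReindex (F := F) e).injective hyy
        rw [← this]
        exact hy'
      · intro hy
        exact mem_rg.mpr ⟨y, hy, rfl⟩
    have e2 : g * glReindex e x * g⁻¹ =
        glReindex e (glReindex e.symm g * x * (glReindex e.symm g)⁻¹) := by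
      rw [map_mul, map_mul, map_inv, glReindex_symm']
    rw [e2, key, key] at h1
    exact h1

end Cfsg.Agent.Lib.Helper9.ReidxLeaf
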