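import Cfsg.Agent.Lib.Helper25.SpinAll
import Cfsg.Agent.Lib.Helper15.QuadClass
import Cfsg.Prelude.Def_GeometricClasses

set_option autoImplicit false
set_option linter.unusedSectionVars false

/-!
# Stabilisers of hyperbolic planes over the fields with at most three elements

If `|F| ≤ 3` and `W` is a hyperbolic plane of a nondegenerate quadratic space of dimension at least
five, the stabiliser of `W` in `Ω` is properly contained in the stabiliser of a nonsingular line
of `W`, which is a proper subgroup of `Ω`.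
-/

namespace Cfsg.Agent.Lib.Helper9.PlusPlane

open Module QuadraticMap Matrix Cfsg.Agent.Lib.Helper25.CD Cfsg.Agent.Lib.Helper25.Spin

section small
variable {F : Type*} [Field F] [Fintype F]

theorem mul_self_eq_one_of_card_le (hq : Fintype.card F ≤ 3) {x : F} (hx : x ≠ 0) : x * x = 1 := by
  have h1 := FiniteField.pow_card_sub_one_eq_one x hx
  have h2 : 2 ≤ Fintype.card F := by
    have := Fintype.one_lt_card (α := F)
    omega
  interval_cases h : Fintype.card F
  · simp at h1
    rw [h1, mul_one]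
  · rw [← pow_two]
    simpa using h1

end small

section geom

variable {F : Type*} [Field F] {V : Type*} [AddCommGroup V] [Module F V] (Q : QuadraticForm F V)

/-- hyperbolic pair data -/
structure HP (e f : V) : Prop where
  qe : Q e = 0
  qf : Q f = 0
  ef : polar Q e f = 1

/-- the orthogonal complement of the pair `e, f` -/
def perpS (e f : V) : Submodule F V where
  carrier := {x | polar Q x e = 0 ∧ polar Q x f = 0}
  add_mem' {a b} ha hb := by
    refine ⟨?_, ?_⟩
    · rw [polar_add_left, ha.1, hb.1, add_zero]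
    · rw [polar_add_left, ha.2, hb.2, add_zero]
  zero_mem' := by
    refine ⟨?_, ?_⟩ <;> simp
  smul_mem' c x hx := by
    refine ⟨?_, ?_⟩
    · rw [polar_smul_left, hx.1, smul_zero]
    · rw [polar_smul_left, hx.2, smul_zero]

/-- the projection onto the orthogonal complement of the hyperbolic plane -/
def prj (e f x : V) : V := x - polar Q x f • e - polar Q x e • f

variable {Q}

theorem mem_perpS {e f x : V} : x ∈ perpS Q e f ↔ polar Q x e = 0 ∧ polar Q x f = 0 := Iff.rfl

theorem perpS_eq_ker (e f : V) :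
    perpS Q e f = LinearMap.ker (LinearMap.prod ((polarBilin Q).flip e) ((polarBilin Q).flip f)) := by
  ext x
  rw [mem_perpS, LinearMap.mem_ker, LinearMap.prod_apply]
  simp [LinearMap.flip_apply]

theorem finrank_perpS_ge [FiniteDimensional F V] (e f : V) :
    finrank F V ≤ finrank F (perpS Q e f) + 2 := by
  rw [perpS_eq_ker]
  have h1 := LinearMap.finrank_range_add_finrank_ker
    (LinearMap.prod ((polarBilin Q).flip e) ((polarBilin Q).flip f))
  have h2 : finrank F (LinearMap.range
      (LinearMap.prod ((polarBilin Q).flip e) ((polarBilin Q).flip f))) ≤ 2 := by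
    have := Submodule.finrank_le (LinearMap.range
      (LinearMap.prod ((polarBilin Q).flip e) ((polarBilin Q).flip f)))
    rw [finrank_prod, finrank_self] at this
    exact this
  omega

theorem HP.fe {e f : V} (h : HP Q e f) : polar Q f e = 1 := by rw [polar_comm]; exact h.ef

theorem HP.ee {e f : V} (h : HP Q e f) : polar Q e e = 0 := by
  rw [polar_self, h.qe]; simp

theorem HP.ff {e f : V} (h : HP Q e f) : polar Q f f = 0 := by
  rw [polar_self, h.qf]; simp

theorem HP.prj_mem {e f : V} (h : HP Q e f) (x : V) : prj Q e f x ∈ perpS Q e f := by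
  refine ⟨?_, ?_⟩
  · unfold prj
    rw [polar_sub_left, polar_sub_left, polar_smul_left, polar_smul_left, h.ee, h.fe]
    simp
  · unfold prj
    rw [polar_sub_left, polar_sub_left, polar_smul_left, polar_smul_left, h.ff, h.ef]
    simp

theorem HP.q_comb {e f : V} (h : HP Q e f) (x y : F) : Q (x • e + y • f) = x * y := by
  rw [QuadraticMap.map_add (⇑Q), QuadraticMap.map_smul, QuadraticMap.map_smul, h.qe, h.qf,
    polar_smul_left, polar_smul_right, h.ef]
  simp

theorem HP.polar_comb_f {e f : V} (h : HP Q e f) (x y : F) : polar Q (x • e + y • f) f = x := by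
  rw [polar_add_left, polar_smul_left, polar_smul_left, h.ef, h.ff]
  simp

theorem HP.polar_comb_e {e f : V} (h : HP Q e f) (x y : F) : polar Q (x • e + y • f) e = y := by
  rw [polar_add_left, polar_smul_left, polar_smul_left, h.ee, h.fe]
  simp

/-- the plane meets its orthogonal complement trivially -/
theorem HP.inter {e f : V} (h : HP Q e f) {v : V} (hv : v ∈ perpS Q e f) {x y : F}
    (hxy : v = x • e + y • f) : v = 0 := by
  have h1 := hv.1
  have h2 := hv.2
  rw [hxy, h.polar_comb_e] at h1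
  rw [hxy, h.polar_comb_f] at h2
  rw [hxy, h1, h2]
  simp

theorem polar_perp_left {e f w : V} (hw : w ∈ perpS Q e f) : polar Q e w = 0 ∧ polar Q f w = 0 :=
  ⟨by rw [polar_comm]; exact hw.1, by rw [polar_comm]; exact hw.2⟩

/-- A hyperbolic plane has a hyperbolic basis. -/
theorem exists_hp [FiniteDimensional F V] (W : Submodule F V) (hdim : finrank F W = 2)
    (hW : ∀ w ∈ W, w ≠ 0 → ∃ x ∈ W, polar Q x w ≠ 0)
    (U : Submodule F V) (hUW : U ≤ W) (hU : ∀ u ∈ U, Q u = 0) (hUd : finrank F U = 1) :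
    ∃ e f : V, e ∈ W ∧ f ∈ W ∧ HP Q e f ∧ ∀ v ∈ W, ∃ x y : F, v = x • e + y • f := by
  have hUne : U ≠ ⊥ := by
    intro h
    rw [h, finrank_bot] at hUd
    exact absurd hUd (by norm_num)
  obtain ⟨e, heU, he0⟩ := Submodule.exists_mem_ne_zero_of_ne_bot hUne
  have heW := hUW heU
  have hqe := hU e heU
  obtain ⟨x, hxW, hx⟩ := hW e heW he0
  obtain ⟨x₁, hx₁W, hx₁e⟩ : ∃ x₁ ∈ W, polar Q x₁ e = 1 :=
    ⟨(polar Q x e)⁻¹ • x, W.smul_mem _ hxW, by
      rw [polar_smul_left, smul_eq_mul, inv_mul_cancel₀ hx]⟩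
  have hee : polar Q e e = 0 := by rw [polar_self, hqe]; simp
  obtain ⟨f, hf⟩ : ∃ f, f = x₁ - Q x₁ • e := ⟨_, rfl⟩
  have hfW : f ∈ W := by
    rw [hf]
    exact W.sub_mem hx₁W (W.smul_mem _ heW)
  have hef : polar Q e f = 1 := by
    rw [hf, polar_sub_right, polar_smul_right, hee, polar_comm, hx₁e]
    simp
  have hqf : Q f = 0 := by
    rw [hf, sub_eq_add_neg, ← neg_smul, QuadraticMap.map_add (⇑Q), QuadraticMap.map_smul, hqe,
      polar_smul_right, hx₁e]
    simp
  have hp : HP Q e f := ⟨hqe, hqf, hef⟩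
  refine ⟨e, f, heW, hfW, hp, ?_⟩
  have hli : LinearIndependent F ![e, f] := by
    rw [LinearIndependent.pair_iff]
    intro s t hst
    have h1 := hp.polar_comb_f s t
    have h2 := hp.polar_comb_e s t
    rw [hst] at h1 h2
    simp at h1 h2
    exact ⟨h1.symm, h2.symm⟩
  have hspan : Submodule.span F (Set.range ![e, f]) = W := by
    apply Submodule.eq_of_le_of_finrank_eq
    · rw [Submodule.span_le]
      rintro _ ⟨i, rfl⟩
      fin_cases i
      · exact heW
      · exact hfW
    · rw [finrank_span_eq_card hli, hdim]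
      simp
  intro v hv
  rw [← hspan] at hv
  have : Set.range ![e, f] = {e, f} := by
    simp [Matrix.range_cons, Matrix.range_empty]
    exact Set.pair_comm _ _ |>.symm ▸ rfl
  rw [this, Submodule.mem_span_pair] at hv
  obtain ⟨a, b, hab⟩ := hv
  exact ⟨a, b, hab.symm⟩


/-- There is a nonsingular vector orthogonal to a hyperbolic plane. -/
theorem HP.exists_nonsing [FiniteDimensional F V] {e f : V} (h : HP Q e f)
    (hQ : (polarBilin Q).Nondegenerate) (h3 : 3 ≤ finrank F V) :
    ∃ b ∈ perpS Q e f, Q b ≠ 0 := by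
  have hlt : Submodule.span F {e, f} ≠ ⊤ := by
    intro htop
    have h1 : finrank F (Submodule.span F ({e, f} : Set V)) ≤ 2 := by
      classical
      have := finrank_span_finset_le_card (R := F) ({e, f} : Finset V)
      rw [Finset.coe_insert, Finset.coe_singleton] at this
      exact this.trans Finset.card_le_two
    rw [htop, finrank_top] at h1
    omega
  obtain ⟨v, hv⟩ : ∃ v, v ∉ Submodule.span F ({e, f} : Set V) := by
    by_contra hcon
    push Not at hcon
    exact hlt (eq_top_iff.2 fun x _ => hcon x)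
  have hz : prj Q e f v ≠ 0 := by
    intro hz
    apply hv
    rw [Submodule.mem_span_pair]
    refine ⟨polar Q v f, polar Q v e, ?_⟩
    unfold prj at hz
    rw [sub_sub, sub_eq_zero] at hz
    exact hz.symm
  have hzm := h.prj_mem v
  obtain ⟨x, hx⟩ : ∃ x, polar Q (prj Q e f v) x ≠ 0 := by
    by_contra hcon
    push Not at hcon
    exact hz (hQ.1 _ hcon)
  have hxm := h.prj_mem x
  have hzx : polar Q (prj Q e f v) (prj Q e f x) ≠ 0 := by
    have : polar Q (prj Q e f v) (prj Q e f x) = polar Q (prj Q e f v) x := by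
      rw [show prj Q e f x = x - polar Q x f • e - polar Q x e • f from rfl]
      rw [polar_sub_right, polar_sub_right, polar_smul_right, polar_smul_right, hzm.1, hzm.2]
      simp
    rw [this]
    exact hx
  by_cases h1 : Q (prj Q e f v) = 0
  · by_cases h2 : Q (prj Q e f x) = 0
    · refine ⟨prj Q e f v + prj Q e f x, (perpS Q e f).add_mem hzm hxm, ?_⟩
      rw [QuadraticMap.map_add (⇑Q), h1, h2, zero_add, zero_add]
      exact hzx
    · exact ⟨_, hxm, h2⟩
  · exact ⟨_, hzm, h1⟩

/-- There is a nonzero singular vector orthogonal to a hyperbolic plane. -/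
theorem exists_sing [Finite F] [FiniteDimensional F V] (e f : V) (h5 : 5 ≤ finrank F V) :
    ∃ w ∈ perpS Q e f, w ≠ 0 ∧ Q w = 0 := by
  have := finrank_perpS_ge (Q := Q) e f
  exact Cfsg.Agent.Lib.Helper15.exists_singular_in Q (perpS Q e f) (by omega)

/-! ### The two witnesses -/

section witnesses

variable {e f b w : V} {s : F}

/-- the nonsingular vector `a = e - s f` of the plane -/
theorem HP.q_a (h : HP Q e f) (s : F) : Q (e - s • f) = -s := by
  have := h.q_comb 1 (-s)
  rw [one_smul, neg_smul, ← sub_eq_add_neg] at this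
  rw [this]; ring

theorem HP.q_d (h : HP Q e f) (s : F) : Q (e + s • f) = s := by
  have := h.q_comb 1 s
  rw [one_smul] at this
  rw [this]; ring

theorem HP.polar_d_a (h : HP Q e f) (s : F) : polar Q (e + s • f) (e - s • f) = 0 := by
  rw [polar_add_left, polar_sub_right, polar_sub_right, polar_smul_left, polar_smul_left,
    polar_smul_right, polar_smul_right, h.ee, h.ff, h.ef, h.fe]
  simp

theorem HP.q_c1 (h : HP Q e f) (hb : b ∈ perpS Q e f) : Q (b - e) = Q b := by
  rw [sub_eq_add_neg, QuadraticMap.map_add (⇑Q), QuadraticMap.map_neg, h.qe, polar_neg_right, hb.1]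
  simp

theorem HP.polar_c1_a (h : HP Q e f) (hb : b ∈ perpS Q e f) (s : F) :
    polar Q (b - e) (e - s • f) = s := by
  rw [polar_sub_left, polar_sub_right, polar_sub_right, polar_smul_right, polar_smul_right,
    hb.1, hb.2, h.ee, h.ef]
  simp

/-- first witness: moves the line of `a` -/
theorem HP.wit1 (h : HP Q e f) (hb : b ∈ perpS Q e f) (hs : Q b ≠ 0) :
    reflE Q (b - e) (reflE Q (e + Q b • f) (e - Q b • f)) = e - Q b • f - (b - e) := by
  rw [reflE_of_perp Q (h.polar_d_a _), reflE_apply, h.q_c1 hb, h.polar_c1_a hb,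
    inv_mul_cancel₀ hs, one_smul]

theorem HP.wit1_not_mem (h : HP Q e f) (hb : b ∈ perpS Q e f) (hs : Q b ≠ 0) (s : F) :
    e - s • f - (b - e) ∉ Submodule.span F {e - s • f} := by
  intro hmem
  rw [Submodule.mem_span_singleton] at hmem
  obtain ⟨t, ht⟩ := hmem
  have hb0 : b = 0 := by
    apply h.inter hb (x := 2 - t) (y := -(1 - t) * s)
    have : b = (e - s • f) + e - t • (e - s • f) := by
      rw [ht]; abel
    rw [this]
    module
  rw [hb0, QuadraticMap.map_zero] at hs
  exact hs rfl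

theorem HP.q_c2 (h : HP Q e f) (hw : w ∈ perpS Q e f) (hqw : Q w = 0) (s : F) :
    Q (e + s • f + w) = s := by
  have hp := polar_perp_left hw
  rw [QuadraticMap.map_add (⇑Q), h.q_d, hqw, polar_add_left, polar_smul_left, hp.1, hp.2]
  simp

theorem HP.polar_c2_a (h : HP Q e f) (hw : w ∈ perpS Q e f) (s : F) :
    polar Q (e + s • f + w) (e - s • f) = 0 := by
  rw [polar_add_left, h.polar_d_a, polar_sub_right, polar_smul_right, hw.1, hw.2]
  simp

theorem HP.polar_d_e (h : HP Q e f) (s : F) : polar Q (e + s • f) e = s := by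
  rw [polar_add_left, polar_smul_left, h.ee, h.fe]
  simp

theorem HP.polar_c2_f (h : HP Q e f) (hw : w ∈ perpS Q e f) (s : F) :
    polar Q (e + s • f + w) f = 1 := by
  rw [polar_add_left, polar_add_left, polar_smul_left, h.ef, h.ff, hw.2]
  simp

/-- second witness fixes `a` -/
theorem HP.wit2_a (h : HP Q e f) (hw : w ∈ perpS Q e f) (s : F) :
    reflE Q (e + s • f + w) (reflE Q (e + s • f) (e - s • f)) = e - s • f := by
  rw [reflE_of_perp Q (h.polar_d_a _), reflE_of_perp Q (h.polar_c2_a hw _)]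

/-- second witness moves `e` out of the plane -/
theorem HP.wit2_e (h : HP Q e f) (hw : w ∈ perpS Q e f) (hqw : Q w = 0) (hs : s ≠ 0) :
    reflE Q (e + s • f + w) (reflE Q (e + s • f) e) = e + w := by
  have h1 : reflE Q (e + s • f) e = (-s) • f := by
    rw [reflE_apply, h.q_d, h.polar_d_e, inv_mul_cancel₀ hs, one_smul]
    module
  rw [h1, map_smul, reflE_apply, h.q_c2 hw hqw, h.polar_c2_f hw, mul_one, smul_sub, smul_smul,
    neg_mul, mul_inv_cancel₀ hs]
  module

theorem HP.wit2_not_mem (h : HP Q e f) (hw : w ∈ perpS Q e f) (hw0 : w ≠ 0)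
    (W : Submodule F V) (hW : ∀ v ∈ W, ∃ x y : F, v = x • e + y • f) : e + w ∉ W := by
  intro hmem
  obtain ⟨x, y, hxy⟩ := hW _ hmem
  apply hw0
  apply h.inter hw (x := x - 1) (y := y)
  have : w = (e + w) - e := by abel
  rw [this, hxy]
  module

end witnesses

end geom

section matrix

variable {ι : Type} [Fintype ι] [DecidableEq ι] {F : Type*} [Field F] [Fintype F]
  (Q : QuadraticForm F (ι → F))

theorem word2_mulVec (c₁ c₂ x : ι → F) :
    (((wordG Q [c₁, c₂] : ↥(Cfsg.isometryGroup F ⇑Q)) : GL ι F) : Matrix ι ι F) *ᵥ x =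
      reflE Q c₁ (reflE Q c₂ x) := by
  rw [← toOG_apply, toOG_wordG, wordProd_cons, wordProd_cons, wordProd_nil, mul_one,
    LinearEquiv.mul_apply]

theorem word2_mem_omegaGL (hQ : (polarBilin Q).Nondegenerate) (hι : 5 ≤ Fintype.card ι)
    {c₁ c₂ : ι → F} (h1 : Q c₁ ≠ 0) (h2 : Q c₂ ≠ 0) (hsq : IsSquare (Q c₁ * Q c₂)) :
    ((wordG Q [c₁, c₂] : ↥(Cfsg.isometryGroup F ⇑Q)) : GL ι F) ∈ Cfsg.Geo.omegaGL ⇑Q := by
  refine ⟨wordG Q [c₁, c₂], ?_, rfl⟩
  have hvs : ∀ v ∈ [c₁, c₂], Q v ≠ 0 := by
    intro v hv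
    rw [List.mem_cons, List.mem_singleton] at hv
    rcases hv with rfl | rfl
    · exact h1
    · exact h2
  apply (mem_omega_iff' Q hQ (Or.inr (by omega)) hvs).2
  refine ⟨by simp, ?_⟩
  rw [normProd_cons, normProd_cons, normProd_nil, mul_one]
  exact hsq

theorem mem_stab_span {g : GL ι F} {a : ι → F} {c : F} (hc : c ≠ 0)
    (hg : (g : Matrix ι ι F) *ᵥ a = c • a) :
    g ∈ Cfsg.Geo.subspaceStabilizer (Submodule.span F {a}) := by
  intro v
  show v ∈ Submodule.span F {a} ↔ (g : Matrix ι ι F) *ᵥ v ∈ Submodule.span F {a}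
  rw [Submodule.mem_span_singleton, Submodule.mem_span_singleton]
  constructor
  · rintro ⟨t, rfl⟩
    refine ⟨t * c, ?_⟩
    rw [Matrix.mulVec_smul, hg, smul_smul]
  · rintro ⟨t, ht⟩
    refine ⟨t * c⁻¹, ?_⟩
    have hinj : Function.Injective fun v => (g : Matrix ι ι F) *ᵥ v :=
      Matrix.mulVec_injective_of_isUnit (Units.isUnit g)
    apply hinj
    show (g : Matrix ι ι F) *ᵥ ((t * c⁻¹) • a) = (g : Matrix ι ι F) *ᵥ v
    rw [Matrix.mulVec_smul, hg, smul_smul, mul_assoc, inv_mul_cancel₀ hc, mul_one, ht]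

theorem mem_stab_iff {g : GL ι F} {W : Submodule F (ι → F)} :
    g ∈ Cfsg.Geo.subspaceStabilizer W ↔ ∀ v, v ∈ W ↔ (g : Matrix ι ι F) *ᵥ v ∈ W := Iff.rfl

theorem q_of_mem_omegaGL {g : GL ι F} (hg : g ∈ Cfsg.Geo.omegaGL ⇑Q) (v : ι → F) :
    Q ((g : Matrix ι ι F) *ᵥ v) = Q v := by
  obtain ⟨g', -, rfl⟩ := hg
  exact g'.2 v v

/-- The stabiliser in `Ω` of a hyperbolic plane is not maximal when `|F| ≤ 3`. -/
theorem main (hQ : (polarBilin Q).Nondegenerate) (hq : Fintype.card F ≤ 3)
    (hι : 5 ≤ Fintype.card ι) (W : Submodule F (ι → F)) (hdim : finrank F W = 2)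
    (hW : Cfsg.Geo.IsNondegenerateOn (polar ⇑Q) W) (hWp : Cfsg.Geo.IsPlusTypeOn ⇑Q W) :
    ∃ K : Subgroup (GL ι F), Cfsg.Geo.subspaceStabilizer W ⊓ Cfsg.Geo.omegaGL ⇑Q < K ∧
      K < Cfsg.Geo.omegaGL ⇑Q := by
  obtain ⟨U, hUW, hU, hUd⟩ := hWp
  rw [hdim] at hUd
  obtain ⟨e, f, heW, hfW, hp, hspan⟩ := exists_hp (Q := Q) W hdim
    (fun w hw hw0 => (hW w hw hw0).1) U hUW hU (by omega)
  have hfin : finrank F (ι → F) = Fintype.card ι := Module.finrank_fintype_fun_eq_card F
  obtain ⟨b, hb, hs⟩ := hp.exists_nonsing hQ (by omega)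
  obtain ⟨w, hw, hw0, hqw⟩ := exists_sing (Q := Q) e f (by omega)
  obtain ⟨s, hsdef⟩ : ∃ s, s = Q b := ⟨_, rfl⟩
  have hs0 : s ≠ 0 := by rw [hsdef]; exact hs
  have haW : e - s • f ∈ W := W.sub_mem heW (W.smul_mem _ hfW)
  refine ⟨Cfsg.Geo.subspaceStabilizer (Submodule.span F {e - s • f}) ⊓ Cfsg.Geo.omegaGL ⇑Q, ?_, ?_⟩
  · apply lt_of_le_of_ne
    · -- containment
      rintro g ⟨hgW, hgO⟩
      refine ⟨?_, hgO⟩
      obtain ⟨x, y, hxy⟩ := hspan _ ((mem_stab_iff.1 hgW _).1 haW)
      have hqxy : x * y = -s := by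
        rw [← hp.q_comb, ← hxy, q_of_mem_omegaGL Q hgO, hp.q_a]
      have hx0 : x ≠ 0 := by
        intro hx
        rw [hx, zero_mul] at hqxy
        exact hs0 (neg_eq_zero.1 hqxy.symm)
      have hxx := mul_self_eq_one_of_card_le hq hx0
      have hy : y = -s * x := by
        have : x * (x * y) = x * -s := by rw [hqxy]
        rw [← mul_assoc, hxx, one_mul] at this
        rw [this]; ring
      apply mem_stab_span hx0
      rw [hxy, hy]
      module
    · -- strictness via the second witness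
      intro heq
      have hmem : ((wordG Q [e + s • f + w, e + s • f] : ↥(Cfsg.isometryGroup F ⇑Q)) : GL ι F) ∈
          Cfsg.Geo.subspaceStabilizer (Submodule.span F {e - s • f}) ⊓ Cfsg.Geo.omegaGL ⇑Q := by
        refine ⟨?_, ?_⟩
        · apply mem_stab_span (one_ne_zero (α := F))
          rw [word2_mulVec, hp.wit2_a hw, one_smul]
        · apply word2_mem_omegaGL Q hQ hι
          · rw [hp.q_c2 hw hqw]; exact hs0
          · rw [hp.q_d]; exact hs0
          · rw [hp.q_c2 hw hqw, hp.q_d]; exact ⟨s, rfl⟩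
      rw [← heq] at hmem
      have := (mem_stab_iff.1 hmem.1 e).1 heW
      rw [word2_mulVec, hp.wit2_e hw hqw hs0] at this
      exact hp.wit2_not_mem hw hw0 W hspan this
  · apply lt_of_le_of_ne inf_le_right
    intro heq
    have hmem : ((wordG Q [b - e, e + s • f] : ↥(Cfsg.isometryGroup F ⇑Q)) : GL ι F) ∈
        Cfsg.Geo.omegaGL ⇑Q := by
      apply word2_mem_omegaGL Q hQ hι
      · rw [hp.q_c1 hb]; exact hs
      · rw [hp.q_d]; exact hs0
      · rw [hp.q_c1 hb, hp.q_d, ← hsdef]; exact ⟨s, rfl⟩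
    rw [← heq] at hmem
    have := (mem_stab_iff.1 hmem.1 (e - s • f)).1 (Submodule.mem_span_singleton_self _)
    rw [word2_mulVec, hsdef, hp.wit1 hb hs] at this
    exact hp.wit1_not_mem hb hs _ this

end matrix

end Cfsg.Agent.Lib.Helper9.PlusPlane
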