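/-
Helper9 library: groups of characteristic `p`-type, more `p`-local lemmas.
* `F*(X) = O_p(X)` is invariant under isomorphisms;
* if `t ∈ O_p(X)` and `F*(C_X(t)) = O_p(C_X(t))` then `F*(X) = O_p(X)`;
* if `F*(C_G(t)) = O_2(C_G(t))` for all involutions then `F*(N_G(T)) = O_2(N_G(T))` for all
  nontrivial `2`-subgroups `T`.
-/
import Cfsg.Agent.Lib.Helper9.PLocal

set_option autoImplicit false

namespace Cfsg.Agent.Lib.Helper9

universe u

variable {G : Type u} [Group G]

/-- `F*(X) = O_p(X)` is invariant under isomorphisms. -/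
theorem generalizedFittingSubgroup_eq_pCore_of_equiv {A B : Type*} [Group A] [Group B] (p : ℕ)
    (e : A ≃* B) (h : Cfsg.generalizedFittingSubgroup A = Cfsg.pCore p A) :
    Cfsg.generalizedFittingSubgroup B = Cfsg.pCore p B := by
  have h1 : (Cfsg.generalizedFittingSubgroup A).map e.toMonoidHom =
      Cfsg.generalizedFittingSubgroup B := by
    unfold Cfsg.generalizedFittingSubgroup
    rw [Subgroup.map_sup, layer_map_equiv, fittingSubgroup_map_equiv]
  rw [← h1, h, Cfsg.Agent.Lib.Helper12.pCore_map_equiv']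

/-- If `t ∈ O_p(X)` and `F*(C_X(t)) = O_p(C_X(t))` then `F*(X) = O_p(X)`. -/
theorem generalizedFittingSubgroup_eq_pCore_of_centralizer {X : Type*} [Group X] [Finite X]
    {p : ℕ} [Fact p.Prime] {t : X} (ht : t ∈ Cfsg.pCore p X)
    (h : Cfsg.generalizedFittingSubgroup ↥(Subgroup.centralizer ({t} : Set X)) =
      Cfsg.pCore p ↥(Subgroup.centralizer ({t} : Set X))) :
    Cfsg.generalizedFittingSubgroup X = Cfsg.pCore p X := by
  have hlayJ := layer_eq_bot_of_generalizedFittingSubgroup_eq_pCore h
  have hppJ := pPrimeCore_eq_bot_of_generalizedFittingSubgroup_eq_pCore h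
  have hpc_le_fit : Cfsg.pCore p X ≤ Cfsg.fittingSubgroup X :=
    Cfsg.Agent.Lib.Helper1.le_fittingSubgroup inferInstance
      (Cfsg.Agent.Lib.Helper1.pCore_isPGroup p X).isNilpotent
  have hcent : Subgroup.centralizer (Cfsg.pCore p X : Set X) ≤
      Subgroup.centralizer ({t} : Set X) := by
    apply Subgroup.centralizer_le
    intro x hx
    rw [Set.mem_singleton_iff] at hx
    rw [hx]
    exact ht
  -- the layer of `X` is trivial
  have hlay : Cfsg.layer X = ⊥ := by
    have hlayle : Cfsg.layer X ≤ Subgroup.centralizer ({t} : Set X) :=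
      (layer_le_centralizer_fittingSubgroup.trans (Subgroup.centralizer_le hpc_le_fit)).trans hcent
    rw [layer_eq_bot_iff]
    intro K hK
    have hKJ : K ≤ Subgroup.centralizer ({t} : Set X) := (component_le_layer hK).trans hlayle
    exact (layer_eq_bot_iff.mp hlayJ) _ (isComponent_subgroupOf hKJ hK)
  -- `O_{p'}(X)` is trivial
  have hpp : Cfsg.pPrimeCore p X = ⊥ := by
    have hW : Cfsg.pPrimeCore p X ≤ Subgroup.centralizer ({t} : Set X) := by
      have h2 := commutator_pCore_pPrimeCore (G := X) p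
      rw [Subgroup.commutator_comm, Subgroup.commutator_eq_bot_iff_le_centralizer] at h2
      exact h2.trans hcent
    have h3 : (Cfsg.pPrimeCore p X).subgroupOf (Subgroup.centralizer ({t} : Set X)) ≤
        Cfsg.pPrimeCore p ↥(Subgroup.centralizer ({t} : Set X)) := by
      apply Cfsg.Agent.Lib.Helper12.le_pPrimeCore
      · infer_instance
      · apply Nat.Coprime.coprime_dvd_left _
          (Cfsg.Agent.Lib.Helper12.pPrimeCore_coprime (X := X) p)
        rw [← Subgroup.card_map_of_injective (Subgroup.subtype_injective _)]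
        apply Subgroup.card_dvd_of_le
        rw [Subgroup.subgroupOf_map_subtype]
        exact inf_le_left
    rw [hppJ, le_bot_iff, Subgroup.subgroupOf_eq_bot] at h3
    exact Disjoint.eq_bot_of_le h3 hW
  unfold Cfsg.generalizedFittingSubgroup
  rw [hlay, bot_sup_eq]
  exact fittingSubgroup_eq_pCore_of_pPrimeCore_eq_bot p hpp

/-- `C_H(t)` viewed in `G`. -/
theorem map_subtype_centralizer_singleton (H : Subgroup G) (t : ↥H) :
    (Subgroup.centralizer ({t} : Set ↥H)).map H.subtype =
      Subgroup.centralizer ({(t : G)} : Set G) ⊓ H := by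
  ext x
  rw [Subgroup.mem_inf, Subgroup.mem_map]
  constructor
  · rintro ⟨y, hy, rfl⟩
    refine ⟨?_, y.2⟩
    rw [Subgroup.mem_centralizer_singleton_iff] at hy ⊢
    have := congrArg (Subtype.val) hy
    simpa using this
  · rintro ⟨hx1, hx2⟩
    refine ⟨⟨x, hx2⟩, ?_, rfl⟩
    rw [Subgroup.mem_centralizer_singleton_iff] at hx1 ⊢
    exact Subtype.ext hx1

/-- `N_C(T)` viewed in `G`, for `T ≤ C`. -/
theorem map_subtype_normalizer_subgroupOf {T C : Subgroup G} (hTC : T ≤ C) :
    (Subgroup.normalizer ((T.subgroupOf C : Subgroup ↥C) : Set ↥C)).map C.subtype =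
      C ⊓ Subgroup.normalizer (T : Set G) := by
  rw [← Subgroup.subgroupOf_normalizer_eq hTC, Subgroup.subgroupOf_map_subtype, inf_comm]

/-- If `t ∈ T` is central in the `p`-group `T` and `F*(C_G(t)) = O_p(C_G(t))` then
`F*(N_G(T)) = O_p(N_G(T))`. -/
theorem generalizedFittingSubgroup_normalizer_eq_pCore_of_centralizer [Finite G] {p : ℕ}
    [Fact p.Prime] {T : Subgroup G} (hT : IsPGroup p ↥T) {t : G} (htT : t ∈ T)
    (htZ : T ≤ Subgroup.centralizer ({t} : Set G))
    (h : Cfsg.generalizedFittingSubgroup ↥(Subgroup.centralizer ({t} : Set G)) =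
      Cfsg.pCore p ↥(Subgroup.centralizer ({t} : Set G))) :
    Cfsg.generalizedFittingSubgroup ↥(Subgroup.normalizer (T : Set G)) =
      Cfsg.pCore p ↥(Subgroup.normalizer (T : Set G)) := by
  have htH : t ∈ Subgroup.normalizer (T : Set G) := Subgroup.le_normalizer htT
  have h1 := generalizedFittingSubgroup_normalizer_eq_pCore h
    (P := T.subgroupOf (Subgroup.centralizer ({t} : Set G))) hT.comap_subtype
  have e1 := (Subgroup.normalizer ((T.subgroupOf (Subgroup.centralizer ({t} : Set G)) :
    Subgroup ↥(Subgroup.centralizer ({t} : Set G))) :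
      Set ↥(Subgroup.centralizer ({t} : Set G)))).equivMapOfInjective
        (Subgroup.centralizer ({t} : Set G)).subtype (Subgroup.subtype_injective _)
  have e2 := (Subgroup.centralizer ({(⟨t, htH⟩ : ↥(Subgroup.normalizer (T : Set G)))} :
    Set ↥(Subgroup.normalizer (T : Set G)))).equivMapOfInjective
      (Subgroup.normalizer (T : Set G)).subtype (Subgroup.subtype_injective _)
  have e3 := MulEquiv.subgroupCongr ((map_subtype_normalizer_subgroupOf htZ).trans
    (map_subtype_centralizer_singleton (Subgroup.normalizer (T : Set G)) ⟨t, htH⟩).symm)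
  have h2 := generalizedFittingSubgroup_eq_pCore_of_equiv p ((e1.trans e3).trans e2.symm) h1
  apply generalizedFittingSubgroup_eq_pCore_of_centralizer _ h2
  apply Cfsg.Agent.Lib.Helper1.le_pCore (N := T.subgroupOf (Subgroup.normalizer (T : Set G)))
    ((Subgroup.normal_subgroupOf_iff_le_normalizer Subgroup.le_normalizer).mpr le_rfl)
    hT.comap_subtype
  exact htT

end Cfsg.Agent.Lib.Helper9
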