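import Mathlib
import Cfsg.Prelude.Def_ClassicalGeometry
import Cfsg.Prelude.Def_GeometricClasses
import Cfsg.Agent.Lib.Helper2.SOTDefs
import Cfsg.Agent.Lib.Helper2.SOTGDefs

/-!
S5666 (GA) leaf (A1) `Lx_action`: every `l ∈ L_x = ⟨X_x, g X_{x'} g⁻¹⟩` is `1` modulo `R_x + R''` and
fixes `Y = R_x^⊥ ∩ R''^⊥` pointwise.  By-products on the nilpotent `NA x`:
`NA_mulVec` (`NA x v = x ⊗ cA x v`), `NA_mulVec_mem_Rs`, `NA_mulVec_eq_zero_of_perp`,
`fV_right_pt`, `mem_perpV_Rs_iff`, `mv_inv_mem_perpV`.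
-/

set_option autoImplicit false
set_option linter.unusedSectionVars false
set_option linter.unusedVariables false

namespace Cfsg.Agent.Lib.Helper9.SOTLeaf
open Matrix Module
open Cfsg.Agent.Lib.Helper25.Tens Cfsg.Agent.Lib.Helper25.SpT Cfsg.Agent.Lib.Helper19.OSub
open Cfsg.Agent.Lib.Helper2.SOT
open scoped Kronecker

variable {F : Type*} [Field F] [Fintype F] {a b : ℕ} {G : Matrix (Fin b) (Fin b) F}
  {M : Subgroup (GL (Idx a b) F)}

/-- contraction of `v ∈ A ⊗ B` with the functional `sf · x` of `A` -/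
def cA (x : Fin a → F) (v : Idx a b → F) : Fin b → F := fun l => ∑ i, sfv x i * v (i, l)

/-- the nilpotent `NA x` is `v ↦ x ⊗ cA x v` -/
lemma NA_mulVec (x : Fin a → F) (v : Idx a b → F) :
    (NA x : Matrix (Idx a b) (Idx a b) F) *ᵥ v = pt x (cA x v) := by
  ext ⟨i, l⟩
  unfold NA
  simp only [Matrix.mulVec, dotProduct, Matrix.kroneckerMap_apply, Fintype.sum_prod_type,
    Matrix.vecMulVec_apply, Matrix.one_apply, pt, cA]
  rw [Finset.mul_sum]
  apply Finset.sum_congr rfl; intro i' _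
  rw [Finset.sum_eq_single l]
  · simp only [if_true]; ring
  · intro l' _ hl'
    rw [if_neg (Ne.symm hl')]; ring
  · intro hl; exact absurd (Finset.mem_univ l) hl

lemma NA_mulVec_mem_Rs (x : Fin a → F) (v : Idx a b → F) :
    (NA x : Matrix (Idx a b) (Idx a b) F) *ᵥ v ∈ Rs x := by
  rw [NA_mulVec]
  exact mem_Rs.2 ⟨_, rfl⟩

/-- the form against a pure tensor on the right -/
lemma fV_right_pt (G : Matrix (Fin b) (Fin b) F) (v : Idx a b → F) (x : Fin a → F)
    (y : Fin b → F) : fV G v (pt x y) = fB G (cA x v) y := by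
  unfold fV fB
  rw [kron_mulVec_pt]
  simp only [dotProduct, pt, Fintype.sum_prod_type, cA, sfv]
  rw [Finset.sum_comm]
  apply Finset.sum_congr rfl; intro l _
  rw [Finset.sum_mul]
  apply Finset.sum_congr rfl; intro i _
  ring

lemma cA_eq_zero_of_perp (hG : G.det ≠ 0) (x : Fin a → F) (v : Idx a b → F)
    (hv : v ∈ perpV G (Rs x)) : cA x v = 0 := by
  apply Matrix.eq_zero_of_vecMul_eq_zero hG
  rw [← dotProduct_eq_zero_iff]
  intro y
  rw [← Matrix.dotProduct_mulVec]
  have := fV_right_pt G v x y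
  unfold fB at this
  rw [← this]
  exact hv _ (mem_Rs.2 ⟨y, rfl⟩)

/-- `v ∈ R_x^⊥ ↔ cA x v = 0` (`G` invertible) -/
lemma mem_perpV_Rs_iff (hG : G.det ≠ 0) (x : Fin a → F) (v : Idx a b → F) :
    v ∈ perpV G (Rs x) ↔ cA x v = 0 := by
  constructor
  · exact cA_eq_zero_of_perp hG x v
  · intro h0 w hw
    obtain ⟨y, rfl⟩ := mem_Rs.1 hw
    rw [fV_right_pt, h0]
    simp [fB]

/-- the kernel of `NA x` contains `R_x^⊥` -/
lemma NA_mulVec_eq_zero_of_perp (hG : G.det ≠ 0) (x : Fin a → F) (v : Idx a b → F)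
    (hv : v ∈ perpV G (Rs x)) : (NA x : Matrix (Idx a b) (Idx a b) F) *ᵥ v = 0 := by
  rw [NA_mulVec, cA_eq_zero_of_perp hG x v hv, pt_zero_right]

/-- `g ∈ SpV G` maps `(g W)^⊥` back into `W^⊥` -/
lemma mv_inv_mem_perpV {g : GL (Idx a b) F} (hg : g ∈ SpV G) (W : Submodule F (Idx a b → F))
    (v : Idx a b → F) (hv : v ∈ perpV G (gim g W)) : mv g⁻¹ v ∈ perpV G W := by
  intro w hw
  rw [← mem_SpV.1 hg, mv_mv_inv]
  exact hv _ (mem_gim.2 ⟨w, hw, rfl⟩)

/-- the action of a root element on any vector -/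
lemma mv_kA (x : Fin a → F) (c : F) (v : Idx a b → F) :
    mv (kA x c : GL (Idx a b) F) v = v + c • ((NA x : Matrix (Idx a b) (Idx a b) F) *ᵥ v) := by
  change ((kA x c : GL (Idx a b) F) : Matrix (Idx a b) (Idx a b) F) *ᵥ v = _
  rw [kA_val, Matrix.add_mulVec, Matrix.one_mulVec, Matrix.smul_mulVec]

/-- the action of a conjugate root element on any vector -/
lemma mv_conj_kA (g : GL (Idx a b) F) (x : Fin a → F) (c : F) (v : Idx a b → F) :
    mv (g * (kA x c : GL (Idx a b) F) * g⁻¹) v =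
      v + c • mv g ((NA x : Matrix (Idx a b) (Idx a b) F) *ᵥ mv g⁻¹ v) := by
  rw [mv_mul, mv_mul, mv_kA, mv_add, mv_mv_inv, mv_smul]

/-- (A1) plan (GL): every `l ∈ L_x` is `1` modulo `R_x + R''` and fixes `Y = R_x^⊥ ∩ R''^⊥` pointwise. -/
theorem Lx_action (h : MCtx a b G M) (x x' : Fin a → F) (g : GL (Idx a b) F) (hg : g ∈ M)
    (l : GL (Idx a b) F) (hl : l ∈ Lx x g x') :
    (∀ v, mv l v - v ∈ Rs x ⊔ Rpp g x') ∧ (∀ v ∈ Yp G x g x', mv l v = v) := by
  have hgS : g ∈ SpV G := h.le_sp hg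
  unfold Lx XA XAc at hl
  rw [← Subgroup.closure_union] at hl
  induction hl using Subgroup.closure_induction with
  | mem t ht =>
    rcases ht with ⟨c, rfl⟩ | ⟨c, rfl⟩
    · constructor
      · intro v
        rw [mv_kA, add_sub_cancel_left]
        exact Submodule.mem_sup_left (Submodule.smul_mem _ _ (NA_mulVec_mem_Rs x v))
      · intro v hv
        rw [mv_kA, NA_mulVec_eq_zero_of_perp h.nd x v hv.1, smul_zero, add_zero]
    · constructor
      · intro v
        rw [mv_conj_kA, add_sub_cancel_left]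
        apply Submodule.mem_sup_right
        apply Submodule.smul_mem
        exact mem_gim.2 ⟨_, NA_mulVec_mem_Rs x' _, rfl⟩
      · intro v hv
        rw [mv_conj_kA, NA_mulVec_eq_zero_of_perp h.nd x' _
          (mv_inv_mem_perpV hgS (Rs x') v hv.2), mv_zero, smul_zero, add_zero]
  | one =>
    constructor
    · intro v; rw [mv_one, sub_self]; exact Submodule.zero_mem _
    · intro v _; exact mv_one v
  | mul s t _ _ ihs iht =>
    constructor
    · intro v
      have : mv (s * t) v - v = (mv s (mv t v) - mv t v) + (mv t v - v) := by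
        rw [mv_mul]; abel
      rw [this]
      exact Submodule.add_mem _ (ihs.1 _) (iht.1 v)
    · intro v hv
      rw [mv_mul, iht.2 v hv, ihs.2 v hv]
  | inv s _ ihs =>
    constructor
    · intro v
      have : mv s⁻¹ v - v = -(mv s (mv s⁻¹ v) - mv s⁻¹ v) := by
        rw [mv_mv_inv]; abel
      rw [this]
      exact Submodule.neg_mem _ (ihs.1 _)
    · intro v hv
      conv_lhs => rw [← ihs.2 v hv]
      rw [mv_inv_mv]

end Cfsg.Agent.Lib.Helper9.SOTLeaf
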