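import Mathlib
import Cfsg.Prelude.Def_ClassicalGeometry
import Cfsg.Prelude.Def_GeometricClasses
import Cfsg.Agent.Lib.Helper2.SOTDefs
import Cfsg.Agent.Lib.Helper2.SOTGDefs
import Cfsg.Agent.Lib.Helper9.SOTA1

/-!
S5666 (GA) leaves (X1): the root groups `X_x = {kA x c}` and their conjugates:
`kA_mul`, `kA_zero`, `mem_XA`, `mem_XAc`, `isPGroup_XA`, `isPGroup_XAc`, `kA_mem_SpV`
(+ by-products `kA_inv`, `kA_pow`, `NA_mulVec_NA`, `pt_ind`).
-/

set_option autoImplicit false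
set_option linter.unusedSectionVars false
set_option linter.unusedVariables false

namespace Cfsg.Agent.Lib.Helper9.SOTLeaf
open Matrix Module
open Cfsg.Agent.Lib.Helper25.Tens Cfsg.Agent.Lib.Helper25.SpT Cfsg.Agent.Lib.Helper19.OSub
open Cfsg.Agent.Lib.Helper2.SOT
open scoped Kronecker

variable {F : Type*} [Field F] [Fintype F] {a b : ℕ} {G : Matrix (Fin b) (Fin b) F}
  {M : Subgroup (GL (Idx a b) F)}

/-- induction over sums of pure tensors -/
theorem pt_ind {p : (Idx a b → F) → Prop} (h0 : p 0)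
    (hadd : ∀ v w, p v → p w → p (v + w)) (hpt : ∀ (x : Fin a → F) (y : Fin b → F), p (pt x y)) :
    ∀ v, p v := by
  intro v
  rw [eq_sum_pt v]
  apply Finset.sum_induction _ p hadd h0
  intro i _
  apply Finset.sum_induction _ p hadd h0
  intro l _
  rw [← pt_smul_left]
  exact hpt _ _

/-- `NA x` squares to zero -/
lemma NA_mulVec_NA (x : Fin a → F) (v : Idx a b → F) :
    (NA x : Matrix (Idx a b) (Idx a b) F) *ᵥ ((NA x : Matrix (Idx a b) (Idx a b) F) *ᵥ v) = 0 := by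
  rw [NA_mulVec x v, NA_mulVec_pt, sf_self, zero_smul]

/-- (X1a) -/
theorem kA_mul (x : Fin a → F) (c c' : F) :
    (kA x c : GL (Idx a b) F) * kA x c' = kA x (c + c') := by
  apply gl_ext; intro v
  rw [mv_mul, mv_kA x c, mv_kA x c', mv_kA x (c + c'), Matrix.mulVec_add, Matrix.mulVec_smul,
    NA_mulVec_NA, smul_zero, add_zero, add_smul]
  abel

/-- (X1b) -/
theorem kA_zero (x : Fin a → F) : (kA x 0 : GL (Idx a b) F) = 1 := by
  apply gl_ext; intro v
  rw [mv_kA, zero_smul, add_zero, mv_one]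

theorem kA_inv (x : Fin a → F) (c : F) : (kA x c : GL (Idx a b) F)⁻¹ = kA x (-c) := by
  apply inv_eq_of_mul_eq_one_right
  rw [kA_mul, add_neg_cancel, kA_zero]

theorem kA_pow (x : Fin a → F) (c : F) (n : ℕ) :
    (kA x c : GL (Idx a b) F) ^ n = kA x ((n : F) * c) := by
  induction n with
  | zero => rw [pow_zero, Nat.cast_zero, zero_mul, kA_zero]
  | succ n ih =>
    rw [pow_succ, ih, kA_mul, Nat.cast_succ]
    congr 1; ring

/-- (X1c) -/
theorem mem_XA (x : Fin a → F) (t : GL (Idx a b) F) :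
    t ∈ XA x ↔ ∃ c : F, t = (kA x c : GL (Idx a b) F) := by
  constructor
  · intro ht
    unfold XA at ht
    induction ht using Subgroup.closure_induction with
    | mem t ht => exact ht
    | one => exact ⟨0, (kA_zero x).symm⟩
    | mul s t _ _ ihs iht =>
      obtain ⟨c, rfl⟩ := ihs
      obtain ⟨c', rfl⟩ := iht
      exact ⟨c + c', kA_mul x c c'⟩
    | inv s _ ihs =>
      obtain ⟨c, rfl⟩ := ihs
      exact ⟨-c, kA_inv x c⟩
  · rintro ⟨c, rfl⟩
    exact Subgroup.subset_closure ⟨c, rfl⟩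

/-- (X1d) -/
theorem mem_XAc (g : GL (Idx a b) F) (x' : Fin a → F) (t : GL (Idx a b) F) :
    t ∈ XAc g x' ↔ ∃ c : F, t = g * (kA x' c : GL (Idx a b) F) * g⁻¹ := by
  constructor
  · intro ht
    unfold XAc at ht
    induction ht using Subgroup.closure_induction with
    | mem t ht => exact ht
    | one => exact ⟨0, by rw [kA_zero, mul_one, mul_inv_cancel]⟩
    | mul s t _ _ ihs iht =>
      obtain ⟨c, rfl⟩ := ihs
      obtain ⟨c', rfl⟩ := iht
      refine ⟨c + c', ?_⟩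
      rw [← kA_mul]
      group
    | inv s _ ihs =>
      obtain ⟨c, rfl⟩ := ihs
      refine ⟨-c, ?_⟩
      rw [← kA_inv]
      group
  · rintro ⟨c, rfl⟩
    exact Subgroup.subset_closure ⟨c, rfl⟩

/-- (X1e) `X_x` is a `p`-group, `p = char F`. -/
theorem isPGroup_XA (p : ℕ) [Fact p.Prime] [CharP F p] (x : Fin a → F) :
    IsPGroup p (XA x : Subgroup (GL (Idx a b) F)) := by
  rintro ⟨t, ht⟩
  obtain ⟨c, rfl⟩ := (mem_XA x t).1 ht
  refine ⟨1, ?_⟩
  apply Subtype.ext
  rw [pow_one, Subgroup.coe_pow, Subgroup.coe_one]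
  change (kA x c : GL (Idx a b) F) ^ p = 1
  rw [kA_pow, CharP.cast_eq_zero, zero_mul, kA_zero]

/-- (X1f) -/
theorem isPGroup_XAc (p : ℕ) [Fact p.Prime] [CharP F p] (g : GL (Idx a b) F) (x' : Fin a → F) :
    IsPGroup p (XAc g x' : Subgroup (GL (Idx a b) F)) := by
  rintro ⟨t, ht⟩
  obtain ⟨c, rfl⟩ := (mem_XAc g x' t).1 ht
  refine ⟨1, ?_⟩
  apply Subtype.ext
  rw [pow_one, Subgroup.coe_pow, Subgroup.coe_one]
  change (g * (kA x' c : GL (Idx a b) F) * g⁻¹) ^ p = 1
  rw [conj_pow, kA_pow, CharP.cast_eq_zero, zero_mul, kA_zero, mul_one, mul_inv_cancel]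

/-- (X1g) `τ_{x,c} ⊗ 1` is an isometry of `fV G` (any `G`). -/
theorem kA_mem_SpV (G : Matrix (Fin b) (Fin b) F) (x : Fin a → F) (c : F) :
    (kA x c : GL (Idx a b) F) ∈ SpV G := by
  rw [mem_SpV]
  apply pt_ind
  · intro w
    rw [mv_zero]
    simp [fV]
  · intro v v' hv hv' w
    rw [mv_add, fV_add_left, fV_add_left, hv, hv']
  · intro x₁ y₁
    apply pt_ind
    · rw [mv_zero]
      simp [fV]
    · intro w w' hw hw'
      rw [mv_add, fV_add_right, fV_add_right, hw, hw']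
    · intro x₂ y₂
      rw [mv_kA_pt, mv_kA_pt, fV_pt, fV_pt, sf_add_left, sf_add_right, sf_add_right,
        sf_smul_left, sf_smul_left, sf_smul_right, sf_smul_right, sf_self, sf_skew x x₂]
      ring

end Cfsg.Agent.Lib.Helper9.SOTLeaf
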