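import Mathlib
import Cfsg.Prelude.Def_ClassicalGeometry
import Cfsg.Prelude.Def_GeometricClasses
import Cfsg.Agent.Lib.Helper2.SOTDefs
import Cfsg.Agent.Lib.Helper2.SOTGDefs

/-!
S5666 (GA) leaf (A3-abs): the abstract form of plan Steps 3-4 (`exists_b0_abstract`):
pure linear algebra + closure induction on pairs of words `(l, l~)`, `l~` = the same word with all
parameters negated.
-/

set_option autoImplicit false
set_option linter.unusedSectionVars false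
set_option linter.unusedVariables false

namespace Cfsg.Agent.Lib.Helper9.SOTLeaf
open Matrix Module
open Cfsg.Agent.Lib.Helper25.Tens Cfsg.Agent.Lib.Helper25.SpT Cfsg.Agent.Lib.Helper19.OSub
open Cfsg.Agent.Lib.Helper2.SOT
open scoped Kronecker

variable {F : Type*} [Field F] [Fintype F] {a b : ℕ} {G : Matrix (Fin b) (Fin b) F}
  {M : Subgroup (GL (Idx a b) F)}

section abs
variable {ι : Type} [Fintype ι] [DecidableEq ι]

/-- the invariant on pairs `(l, l~)`: both fix `Y` pointwise and `l~ = σ l σ` modulo `K`, `σ` the sign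
`+1` on `R`, `−1` on `R'' ⊔ Y` -/
def PairInv (R R'' Y K : Submodule F (ι → F)) (l lt : GL ι F) : Prop :=
  (∀ v ∈ Y, mv l v = v) ∧ (∀ v ∈ Y, mv lt v = v) ∧
  (∀ v ∈ R, ∃ r₁ ∈ R, ∃ r₂ ∈ R'' ⊔ Y, ∃ k ∈ K, mv l v = r₁ + r₂ ∧ mv lt v = r₁ - r₂ + k) ∧
  (∀ v ∈ R'' ⊔ Y, ∃ r₁ ∈ R, ∃ r₂ ∈ R'' ⊔ Y, ∃ k ∈ K, mv l v = r₁ + r₂ ∧ mv lt v = -r₁ + r₂ + k)

lemma PairInv.one (R R'' Y K : Submodule F (ι → F)) : PairInv R R'' Y K 1 1 := by
  refine ⟨fun v _ => mv_one v, fun v _ => mv_one v, ?_, ?_⟩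
  · intro v hv
    refine ⟨v, hv, 0, Submodule.zero_mem _, 0, Submodule.zero_mem _, ?_, ?_⟩
    · rw [mv_one, add_zero]
    · rw [mv_one, sub_zero, add_zero]
  · intro v hv
    refine ⟨0, Submodule.zero_mem _, v, hv, 0, Submodule.zero_mem _, ?_, ?_⟩
    · rw [mv_one, zero_add]
    · rw [mv_one, neg_zero, zero_add, add_zero]

lemma PairInv.mul {R R'' Y K : Submodule F (ι → F)} (hKY : K ≤ Y) {l lt m mt : GL ι F}
    (h1 : PairInv R R'' Y K l lt) (h2 : PairInv R R'' Y K m mt) :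
    PairInv R R'' Y K (l * m) (lt * mt) := by
  obtain ⟨l1, l2, l3, l4⟩ := h1
  obtain ⟨m1, m2, m3, m4⟩ := h2
  refine ⟨?_, ?_, ?_, ?_⟩
  · intro v hv; rw [mv_mul, m1 v hv, l1 v hv]
  · intro v hv; rw [mv_mul, m2 v hv, l2 v hv]
  · intro v hv
    obtain ⟨r₁, hr₁, r₂, hr₂, k, hk, e1, e1'⟩ := m3 v hv
    obtain ⟨s₁, hs₁, s₂, hs₂, k', hk', e2, e2'⟩ := l3 r₁ hr₁
    obtain ⟨t₁, ht₁, t₂, ht₂, k'', hk'', e3, e3'⟩ := l4 r₂ hr₂
    refine ⟨s₁ + t₁, R.add_mem hs₁ ht₁, s₂ + t₂, (R'' ⊔ Y).add_mem hs₂ ht₂,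
      k' - k'' + k, K.add_mem (K.sub_mem hk' hk'') hk, ?_, ?_⟩
    · rw [mv_mul, e1, mv_add, e2, e3]; abel
    · rw [mv_mul, e1', mv_add, mv_sub, e2', e3', l2 k (hKY hk)]; abel
  · intro v hv
    obtain ⟨r₁, hr₁, r₂, hr₂, k, hk, e1, e1'⟩ := m4 v hv
    obtain ⟨s₁, hs₁, s₂, hs₂, k', hk', e2, e2'⟩ := l3 r₁ hr₁
    obtain ⟨t₁, ht₁, t₂, ht₂, k'', hk'', e3, e3'⟩ := l4 r₂ hr₂
    refine ⟨s₁ + t₁, R.add_mem hs₁ ht₁, s₂ + t₂, (R'' ⊔ Y).add_mem hs₂ ht₂,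
      -k' + k'' + k, K.add_mem (K.add_mem (K.neg_mem hk') hk'') hk, ?_, ?_⟩
    · rw [mv_mul, e1, mv_add, e2, e3]; abel
    · rw [mv_mul, e1', mv_add, mv_add, mv_neg, e2', e3', l2 k (hKY hk)]; abel

end abs

/-- (A3-abs) ABSTRACT form of plan Steps 3-4 (no forms, no tensors). -/
theorem exists_b0_abstract {ι : Type} [Fintype ι] [DecidableEq ι] (N N'' : Matrix ι ι F)
    (R R'' Y K : Submodule F (ι → F))
    (hNR : ∀ v, N *ᵥ v ∈ R) (hN''R : ∀ v, N'' *ᵥ v ∈ R'')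
    (hN0 : ∀ v ∈ R ⊔ Y, N *ᵥ v = 0) (hN''0 : ∀ v ∈ R'' ⊔ Y, N'' *ᵥ v = 0)
    (hKR : K ≤ R) (hKR'' : K ≤ R'') (hKY : K ≤ Y) (hRK : R ⊓ (R'' ⊔ Y) ≤ K)
    (uN uN'' : F → GL ι F) (huN : ∀ c, ((uN c : GL ι F) : Matrix ι ι F) = 1 + c • N)
    (huN'' : ∀ c, ((uN'' c : GL ι F) : Matrix ι ι F) = 1 + c • N'')
    (x₀ : GL ι F)
    (hx₀ : x₀ ∈ Subgroup.closure ({t | ∃ c, t = uN c} ∪ {t | ∃ c, t = uN'' c}))
    (hmap : ∀ v ∈ R, mv x₀ v ∈ R'') :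
    ∃ b₀ ∈ Subgroup.closure ({t | ∃ c, t = uN c} ∪ {t | ∃ c, t = uN'' c}),
      (∀ v ∈ Y, mv b₀ v = v) ∧ ∀ v ∈ R, mv b₀ v + v ∈ K := by
  have hRle : R ≤ R ⊔ Y := le_sup_left
  have hYle : Y ≤ R ⊔ Y := le_sup_right
  have hR''le : R'' ≤ R'' ⊔ Y := le_sup_left
  have hYle'' : Y ≤ R'' ⊔ Y := le_sup_right
  have mvN : ∀ c v, mv (uN c) v = v + c • (N *ᵥ v) := by
    intro c v
    change ((uN c : GL ι F) : Matrix ι ι F) *ᵥ v = _
    rw [huN, Matrix.add_mulVec, Matrix.one_mulVec, Matrix.smul_mulVec]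
  have mvN'' : ∀ c v, mv (uN'' c) v = v + c • (N'' *ᵥ v) := by
    intro c v
    change ((uN'' c : GL ι F) : Matrix ι ι F) *ᵥ v = _
    rw [huN'', Matrix.add_mulVec, Matrix.one_mulVec, Matrix.smul_mulVec]
  have invN : ∀ c, (uN c)⁻¹ = uN (-c) := by
    intro c
    apply inv_eq_of_mul_eq_one_right
    apply gl_ext; intro v
    rw [mv_mul, mv_one, mvN c, mvN (-c), Matrix.mulVec_add, Matrix.mulVec_smul,
      hN0 _ (hRle (hNR v)), smul_zero, add_zero, neg_smul]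
    abel
  have invN'' : ∀ c, (uN'' c)⁻¹ = uN'' (-c) := by
    intro c
    apply inv_eq_of_mul_eq_one_right
    apply gl_ext; intro v
    rw [mv_mul, mv_one, mvN'' c, mvN'' (-c), Matrix.mulVec_add, Matrix.mulVec_smul,
      hN''0 _ (hR''le (hN''R v)), smul_zero, add_zero, neg_smul]
    abel
  set S : Set (GL ι F) := {t | ∃ c, t = uN c} ∪ {t | ∃ c, t = uN'' c} with hS
  have Sinv : ∀ x ∈ S, x⁻¹ ∈ S := by
    rintro x (⟨c, rfl⟩ | ⟨c, rfl⟩)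
    · exact Or.inl ⟨-c, invN c⟩
    · exact Or.inr ⟨-c, invN'' c⟩
  have gen : ∀ x ∈ S, ∃ xt ∈ Subgroup.closure S, PairInv R R'' Y K x xt := by
    rintro x (⟨c, rfl⟩ | ⟨c, rfl⟩)
    · refine ⟨uN (-c), Subgroup.subset_closure (Or.inl ⟨-c, rfl⟩), ?_, ?_, ?_, ?_⟩
      · intro v hv; rw [mvN, hN0 v (hYle hv), smul_zero, add_zero]
      · intro v hv; rw [mvN, hN0 v (hYle hv), smul_zero, add_zero]
      · intro v hv
        refine ⟨v, hv, 0, Submodule.zero_mem _, 0, Submodule.zero_mem _, ?_, ?_⟩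
        · rw [mvN, hN0 v (hRle hv), smul_zero]
        · rw [mvN, hN0 v (hRle hv), smul_zero, sub_zero]
      · intro v hv
        refine ⟨c • (N *ᵥ v), R.smul_mem c (hNR v), v, hv, 0, Submodule.zero_mem _, ?_, ?_⟩
        · rw [mvN, add_comm]
        · rw [mvN, neg_smul, add_zero, add_comm]
    · refine ⟨uN'' (-c), Subgroup.subset_closure (Or.inr ⟨-c, rfl⟩), ?_, ?_, ?_, ?_⟩
      · intro v hv; rw [mvN'', hN''0 v (hYle'' hv), smul_zero, add_zero]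
      · intro v hv; rw [mvN'', hN''0 v (hYle'' hv), smul_zero, add_zero]
      · intro v hv
        refine ⟨v, hv, c • (N'' *ᵥ v), hR''le (R''.smul_mem c (hN''R v)), 0,
          Submodule.zero_mem _, ?_, ?_⟩
        · rw [mvN'']
        · rw [mvN'', neg_smul, add_zero, sub_eq_add_neg]
      · intro v hv
        refine ⟨0, Submodule.zero_mem _, v, hv, 0, Submodule.zero_mem _, ?_, ?_⟩
        · rw [mvN'', hN''0 v hv, smul_zero, add_zero, zero_add]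
        · rw [mvN'', hN''0 v hv, smul_zero, add_zero, neg_zero, zero_add, add_zero]
  have key : ∀ x ∈ Subgroup.closure S, ∃ xt ∈ Subgroup.closure S, PairInv R R'' Y K x xt := by
    intro x hx
    induction hx using Subgroup.closure_induction'' with
    | mem x hx => exact gen x hx
    | inv_mem x hx => exact gen x⁻¹ (Sinv x hx)
    | one => exact ⟨1, Subgroup.one_mem _, PairInv.one R R'' Y K⟩
    | mul x y hx hy ihx ihy =>
      obtain ⟨xt, hxt, px⟩ := ihx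
      obtain ⟨yt, hyt, py⟩ := ihy
      exact ⟨xt * yt, Subgroup.mul_mem _ hxt hyt, px.mul hKY py⟩
  obtain ⟨xt, hxt, p1, p2, p3, p4⟩ := key x₀ hx₀
  have hinvfix : ∀ v ∈ Y, mv x₀⁻¹ v = v := by
    intro v hv
    conv_lhs => rw [← p1 v hv]
    rw [mv_inv_mv]
  refine ⟨x₀⁻¹ * xt, Subgroup.mul_mem _ (Subgroup.inv_mem _ hx₀) hxt, ?_, ?_⟩
  · intro v hv
    rw [mv_mul, p2 v hv, hinvfix v hv]
  · intro v hv
    obtain ⟨r₁, hr₁, r₂, hr₂, k, hk, e1, e2⟩ := p3 v hv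
    have hr₁K : r₁ ∈ K := by
      apply hRK
      refine ⟨hr₁, ?_⟩
      have : r₁ = mv x₀ v - r₂ := by rw [e1]; abel
      rw [this]
      exact (R'' ⊔ Y).sub_mem (hR''le (hmap v hv)) hr₂
    have hk' : (2 : F) • r₁ + k ∈ K := K.add_mem (K.smul_mem _ hr₁K) hk
    have e3 : mv xt v = - mv x₀ v + ((2 : F) • r₁ + k) := by
      rw [e2, e1, two_smul]; abel
    rw [mv_mul, e3, mv_add, mv_neg, mv_inv_mv, hinvfix _ (hKY hk')]
    have : -v + ((2 : F) • r₁ + k) + v = (2 : F) • r₁ + k := by abel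
    rw [this]
    exact hk'

end Cfsg.Agent.Lib.Helper9.SOTLeaf
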