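import Mathlib
import Cfsg.Prelude.Def_ClassicalGeometry
import Cfsg.Prelude.Def_GeometricClasses
import Cfsg.Agent.Lib.Helper5.SpMax
import Cfsg.Agent.Lib.Helper2.SpSubDefs
import Cfsg.Agent.Lib.Helper2.SpSubBasic

/-!
helper9: S5650 leaves T1, T2 (transitivity of the rational symplectic group on rational vectors and on
rational orthogonal independent pairs), for helper2's market `notes/S5650_plan.md`.
-/

set_option autoImplicit false
set_option linter.unusedSectionVars false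
set_option linter.unusedVariables false

open Cfsg Matrix Cfsg.Agent.Lib.Helper5 Cfsg.Agent.Lib.Helper5.SpMax Cfsg.Agent.Lib.Helper2.SpSub

namespace Cfsg.Agent.Lib.Helper9.SpSubLeaf

variable {F : Type*} [Field F] {m : ℕ}

/-- the rational symplectic group: symplectic, and it and its inverse preserve rational vectors -/
def Rg (m : ℕ) (F₀ : Subfield F) : Subgroup (GL (Fin m ⊕ Fin m) F) where
  carrier := {h | h ∈ spGL m F ∧ (∀ x, RatV F₀ x → RatV F₀ (mv h x)) ∧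
    (∀ x, RatV F₀ x → RatV F₀ (mv h⁻¹ x))}
  mul_mem' := by
    rintro a b ⟨ha, ha1, ha2⟩ ⟨hb, hb1, hb2⟩
    refine ⟨(spGL m F).mul_mem ha hb, fun x hx => ?_, fun x hx => ?_⟩
    · rw [mv_mul]; exact ha1 _ (hb1 _ hx)
    · rw [_root_.mul_inv_rev, mv_mul]; exact hb2 _ (ha2 _ hx)
  one_mem' := by
    refine ⟨(spGL m F).one_mem, fun x hx => ?_, fun x hx => ?_⟩
    · rw [mv_one]; exact hx
    · rw [inv_one, mv_one]; exact hx
  inv_mem' := by
    rintro a ⟨ha, ha1, ha2⟩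
    refine ⟨(spGL m F).inv_mem ha, ha2, fun x hx => ?_⟩
    rw [inv_inv]; exact ha1 x hx

lemma mem_Rg {F₀ : Subfield F} {h : GL (Fin m ⊕ Fin m) F} :
    h ∈ Rg m F₀ ↔ h ∈ spGL m F ∧ (∀ x, RatV F₀ x → RatV F₀ (mv h x)) ∧
      (∀ x, RatV F₀ x → RatV F₀ (mv h⁻¹ x)) := Iff.rfl

lemma Rg_le_H0 (F₀ : Subfield F) : Rg m F₀ ≤ H0 m F₀ := fun h hh =>
  mem_H0_of_maps F₀ hh.1 hh.2.1

lemma tvc_mem_Rg {F₀ : Subfield F} {a : Fin m ⊕ Fin m → F} (ha : RatV F₀ a) {c : F}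
    (hc : c ∈ F₀) : tvc a c ∈ Rg m F₀ := by
  refine ⟨tvc_mem a c, fun x hx => ?_, fun x hx => ?_⟩
  · rw [tvc_mv]
    exact ratV_add hx (ratV_smul (F₀.mul_mem hc (ratV_sympForm hx ha)) ha)
  · rw [tvc_inv, tvc_mv]
    exact ratV_add hx (ratV_smul (F₀.mul_mem (F₀.neg_mem hc) (ratV_sympForm hx ha)) ha)

lemma sympForm_zero_right' (x : Fin m ⊕ Fin m → F) : sympForm m F x 0 = 0 := by
  rw [sympForm_swap, sympForm_zero_left, neg_zero]

/-- one transvection step -/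
lemma step {F₀ : Subfield F} {p u v : Fin m ⊕ Fin m → F} (hu : RatV F₀ u) (hv : RatV F₀ v)
    (hup : sympForm m F u p = 0) (hvp : sympForm m F v p = 0) (huv : sympForm m F u v ≠ 0) :
    ∃ h ∈ Rg m F₀, mv h p = p ∧ mv h u = v := by
  refine ⟨tvc (u - v) (sympForm m F u v)⁻¹,
    tvc_mem_Rg (ratV_sub hu hv) (F₀.inv_mem (ratV_sympForm hu hv)), ?_, ?_⟩
  · rw [tvc_mv]
    have : sympForm m F p (u - v) = 0 := by
      rw [sympForm_sub_right, sympForm_swap (m := m) p u, sympForm_swap (m := m) p v, hup, hvp]; ring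
    rw [this, mul_zero, zero_smul, add_zero]
  · rw [tvc_mv]
    have : sympForm m F u (u - v) = - sympForm m F u v := by
      rw [sympForm_sub_right, sympForm_self]; ring
    rw [this, mul_neg, inv_mul_cancel₀ huv, neg_one_smul]
    abel

/-- general two-step transitivity inside the stabiliser of `p` -/
lemma two_step {F₀ : Subfield F} {p u v w₁ w₂ : Fin m ⊕ Fin m → F} (hu : RatV F₀ u)
    (hv : RatV F₀ v) (hw₁ : RatV F₀ w₁) (hw₂ : RatV F₀ w₂)
    (hup : sympForm m F u p = 0) (hvp : sympForm m F v p = 0)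
    (hw₁p : sympForm m F w₁ p = 0) (hw₂p : sympForm m F w₂ p = 0)
    (huw : sympForm m F u w₁ ≠ 0) (hvw : sympForm m F v w₂ ≠ 0) :
    ∃ h ∈ Rg m F₀, mv h p = p ∧ mv h u = v := by
  by_cases huv : sympForm m F u v = 0
  · -- find w with B(u,w) ≠ 0 ≠ B(v,w), w ⊥ p
    obtain ⟨w, hw, hwp, h1, h2⟩ : ∃ w, RatV F₀ w ∧ sympForm m F w p = 0 ∧
        sympForm m F u w ≠ 0 ∧ sympForm m F v w ≠ 0 := by
      by_cases a1 : sympForm m F v w₁ = 0
      · by_cases a2 : sympForm m F u w₂ = 0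
        · refine ⟨w₁ + w₂, ratV_add hw₁ hw₂, ?_, ?_, ?_⟩
          · rw [sympForm_add_left, hw₁p, hw₂p, add_zero]
          · rw [sympForm_add_right, a2, add_zero]; exact huw
          · rw [sympForm_add_right, a1, zero_add]; exact hvw
        · exact ⟨w₂, hw₂, hw₂p, a2, hvw⟩
      · exact ⟨w₁, hw₁, hw₁p, huw, a1⟩
    obtain ⟨g₁, hg₁, hg₁p, hg₁u⟩ := step (F₀ := F₀) (p := p) hu hw hup hwp h1
    have h2' : sympForm m F w v ≠ 0 := by
      rw [sympForm_swap]; exact neg_ne_zero.mpr h2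
    obtain ⟨g₂, hg₂, hg₂p, hg₂w⟩ := step (F₀ := F₀) (p := p) hw hv hwp hvp h2'
    refine ⟨g₂ * g₁, (Rg m F₀).mul_mem hg₂ hg₁, ?_, ?_⟩
    · rw [mv_mul, hg₁p, hg₂p]
    · rw [mv_mul, hg₁u, hg₂w]
  · exact step hu hv hup hvp huv

/-- every nonzero vector pairs nontrivially with a rational basis vector; the version relative to
`ee i`: if `x ⊥ ee i` is not a multiple of `ee i` the partner can be taken `⊥ ee i`. -/
lemma exists_partner (F₀ : Subfield F) {x : Fin m ⊕ Fin m → F} (hx : x ≠ 0) :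
    ∃ w, RatV F₀ w ∧ sympForm m F x w ≠ 0 := by
  obtain ⟨k, hk⟩ : ∃ k, x k ≠ 0 := by
    by_contra h
    push Not at h
    exact hx (funext h)
  rcases k with k | k
  · exact ⟨ff k, ratV_ff k, by rw [B_right_ff]; exact neg_ne_zero.mpr hk⟩
  · exact ⟨ee k, ratV_ee k, by rw [B_right_ee]; exact hk⟩

lemma ee_ne_zero (i : Fin m) : (ee i : Fin m ⊕ Fin m → F) ≠ 0 := by
  intro h
  have := congrFun h (Sum.inl i)
  simp [ee] at this

/-- transitivity of the rational symplectic group on nonzero rational vectors -/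
lemma exists_Rg_map (F₀ : Subfield F) {u v : Fin m ⊕ Fin m → F} (hu : RatV F₀ u)
    (hv : RatV F₀ v) (hu0 : u ≠ 0) (hv0 : v ≠ 0) : ∃ h ∈ Rg m F₀, mv h u = v := by
  obtain ⟨w₁, hw₁, h1⟩ := exists_partner F₀ hu0
  obtain ⟨w₂, hw₂, h2⟩ := exists_partner F₀ hv0
  obtain ⟨h, hh, -, hhu⟩ := two_step (F₀ := F₀) (p := 0) hu hv hw₁ hw₂
    (sympForm_zero_right' _) (sympForm_zero_right' _) (sympForm_zero_right' _)
    (sympForm_zero_right' _) h1 h2
  exact ⟨h, hh, hhu⟩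

/-- (T1), strong form: the element preserves rationality in both directions -/
theorem exists_Rg_map_ee (F₀ : Subfield F) (i : Fin m) {a : Fin m ⊕ Fin m → F}
    (ha : RatV F₀ a) (ha0 : a ≠ 0) : ∃ h ∈ Rg m F₀, mv h (ee i) = a :=
  exists_Rg_map F₀ (ratV_ee i) ha (ee_ne_zero i) ha0

/-- (T1) -/
theorem exists_H0_map_ee (F₀ : Subfield F) (hm : 2 ≤ m) (i : Fin m) {a : Fin m ⊕ Fin m → F}
    (ha : RatV F₀ a) (ha0 : a ≠ 0) : ∃ h ∈ H0 m F₀, mv h (ee i) = a := by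
  obtain ⟨h, hh, hha⟩ := exists_Rg_map_ee F₀ i ha ha0
  exact ⟨h, Rg_le_H0 F₀ hh, hha⟩

/-- (T2), strong form -/
theorem exists_Rg_map_pair (F₀ : Subfield F) {i j : Fin m} (hij : i ≠ j)
    {a d : Fin m ⊕ Fin m → F} (ha : RatV F₀ a) (hd : RatV F₀ d) (had : sympForm m F a d = 0)
    (hind : ∀ s t : F, s • a + t • d = 0 → s = 0 ∧ t = 0) :
    ∃ h ∈ Rg m F₀, mv h (ee i) = a ∧ mv h (ee j) = d := by
  have ha0 : a ≠ 0 := by
    intro h
    have := (hind 1 0 (by rw [h, smul_zero, zero_smul, add_zero])).1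
    exact one_ne_zero this
  obtain ⟨h₁, hh₁, hh₁a⟩ := exists_Rg_map_ee F₀ i ha ha0
  set d₁ := mv h₁⁻¹ d with hd₁
  have hd₁r : RatV F₀ d₁ := hh₁.2.2 d hd
  have hh₁d : mv h₁ d₁ = d := mv_mv_inv h₁ d
  have hperp : sympForm m F d₁ (ee i) = 0 := by
    rw [← sp_form hh₁.1, hh₁d, hh₁a, sympForm_swap, had, neg_zero]
  have hind₁ : ∀ s t : F, s • (ee i : Fin m ⊕ Fin m → F) + t • d₁ = 0 → s = 0 ∧ t = 0 := by
    intro s t hst
    apply hind s t
    have := congrArg (mv h₁) hst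
    rwa [mv_add, mv_smul, mv_smul, hh₁a, hh₁d, mv_zero] at this
  -- a coordinate of d₁ away from `inl i`
  have hdi : d₁ (Sum.inr i) = 0 := by rw [← B_right_ee d₁ i]; exact hperp
  obtain ⟨k, hk, hki⟩ : ∃ k, d₁ k ≠ 0 ∧ k ≠ Sum.inl i := by
    by_contra hcon
    push Not at hcon
    have e : d₁ = d₁ (Sum.inl i) • (ee i : Fin m ⊕ Fin m → F) := by
      funext k
      by_cases hk : k = Sum.inl i
      · subst hk; simp [ee]
      · have h0 : d₁ k = 0 := by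
          by_contra h0
          exact hk (hcon k h0)
        rw [h0]
        simp [ee, Pi.single_eq_of_ne hk]
    have := (hind₁ (d₁ (Sum.inl i)) (-1) (by rw [neg_one_smul, ← e, add_neg_cancel])).2
    exact one_ne_zero (neg_eq_zero.mp this)
  obtain ⟨w₂, hw₂, hw₂p, hw₂d⟩ : ∃ w₂, RatV F₀ w₂ ∧ sympForm m F w₂ (ee i) = 0 ∧
      sympForm m F d₁ w₂ ≠ 0 := by
    rcases k with k | k
    · have hki' : k ≠ i := fun h => hki (by rw [h])
      refine ⟨ff k, ratV_ff k, ?_, ?_⟩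
      · rw [B_ff_ee, if_neg hki']
      · rw [B_right_ff]; exact neg_ne_zero.mpr hk
    · refine ⟨ee k, ratV_ee k, B_ee_ee k i, ?_⟩
      rw [B_right_ee]; exact hk
  have hji : j ≠ i := fun h => hij h.symm
  obtain ⟨h₂, hh₂, hh₂p, hh₂u⟩ := two_step (F₀ := F₀) (p := ee i) (u := ee j) (v := d₁)
    (w₁ := ff j) (w₂ := w₂) (ratV_ee j) hd₁r (ratV_ff j) hw₂ (B_ee_ee j i) hperp
    (by rw [B_ff_ee, if_neg hji]) hw₂p (by rw [B_ee_ff, if_pos rfl]; exact neg_ne_zero.mpr one_ne_zero)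
    hw₂d
  refine ⟨h₁ * h₂, (Rg m F₀).mul_mem hh₁ hh₂, ?_, ?_⟩
  · rw [mv_mul, hh₂p, hh₁a]
  · rw [mv_mul, hh₂u, hh₁d]

/-- (T2) -/
theorem exists_H0_map_pair (F₀ : Subfield F) (hm : 3 ≤ m) {i j : Fin m} (hij : i ≠ j)
    {a d : Fin m ⊕ Fin m → F} (ha : RatV F₀ a) (hd : RatV F₀ d) (had : sympForm m F a d = 0)
    (hind : ∀ s t : F, s • a + t • d = 0 → s = 0 ∧ t = 0) :
    ∃ h ∈ H0 m F₀, mv h (ee i) = a ∧ mv h (ee j) = d := by
  obtain ⟨h, hh, h1, h2⟩ := exists_Rg_map_pair F₀ hij ha hd had hind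
  exact ⟨h, Rg_le_H0 F₀ hh, h1, h2⟩

end Cfsg.Agent.Lib.Helper9.SpSubLeaf
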