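/-
helper9: S5813 (helper20's Om7S market) leaf K1b `k1b_dickson`: Dickson's generation lemma inside the subfield
generated by `δ` (helper13's `Dk` library applied to the field `↥(Subfield.closure {δ})`, then
`Matrix.SpecialLinearGroup.map`).
-/
import Mathlib
import Cfsg.Agent.Lib.Helper13.DkGen

set_option autoImplicit false
set_option linter.unusedSectionVars false
set_option linter.unusedVariables false

namespace Cfsg.Agent.Lib.Helper9.Om7SLeaf

open Subgroup Matrix Cfsg.Agent.Lib.Helper13 Cfsg.Agent.Lib.Helper13.Dk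

/-- the case distinction of S0801 in `genSL` form -/
theorem genSL_cases {F : Type*} [Field F] [Fintype F] (h2 : (2 : F) ≠ 0) (lam : F) (hlam : lam ≠ 0)
    (hgen : Subfield.closure ({lam} : Set F) = ⊤) :
    genSL lam = ⊤ ∨ (Fintype.card F = 9 ∧ lam ^ 2 = -1 ∧ Nat.card (genSL lam) = 120) := by
  classical
  by_cases hexc : Fintype.card F = 9 ∧ lam ^ 2 = -1
  · exact Or.inr ⟨hexc.1, hexc.2, card_genSL_exc lam hexc.1 hexc.2⟩
  · refine Or.inl ?_
    obtain ⟨p, hp⟩ := CharP.exists F
    have hpp : Fact p.Prime := ⟨CharP.char_is_prime F p⟩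
    have hp2 : p ≠ 2 := by
      intro h
      subst h
      exact h2 CharTwo.two_eq_zero
    rcases (subEmb (genSL lam)).dickson_refined p with hss | ⟨Θ, hB⟩ | hD | ⟨hsm, h5, hp3⟩ | hsub
    · exact absurd hss (not_hss lam hlam)
    · exact (not_borel lam hlam Θ hB).elim
    · exact absurd hD (not_dih lam p hp2)
    · subst hp3
      exact absurd (nine_of_alt5 lam hlam hgen hsm h5) hexc
    · exact genSL_eq_top_of_subfield lam h2 hgen hsub

variable {F : Type*} [Field F]

lemma map_lSL (K : Subfield F) (c : K) :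
    Matrix.SpecialLinearGroup.map K.subtype (lSL c) = lSL (c : F) := by
  apply Subtype.ext
  rw [Matrix.SpecialLinearGroup.map_apply_coe]
  ext i j
  fin_cases i <;> fin_cases j <;> simp [lSL, RingHom.mapMatrix_apply]

lemma map_tSL (K : Subfield F) (c : K) :
    Matrix.SpecialLinearGroup.map K.subtype (tSL c) = tSL (c : F) := by
  apply Subtype.ext
  rw [Matrix.SpecialLinearGroup.map_apply_coe]
  ext i j
  fin_cases i <;> fin_cases j <;> simp [tSL, RingHom.mapMatrix_apply]

lemma map_zSL (K : Subfield F) :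
    Matrix.SpecialLinearGroup.map K.subtype (zSL K) = zSL F := by
  apply Subtype.ext
  rw [Matrix.SpecialLinearGroup.map_apply_coe]
  ext i j
  fin_cases i <;> fin_cases j <;> simp [zSL, RingHom.mapMatrix_apply]

/-- **K1b** -/
theorem k1b_dickson [Fintype F] (h2 : (2 : F) ≠ 0) {δ : F} (hδ : δ ≠ 0) :
    (∀ c ∈ Subfield.closure ({δ} : Set F),
      Cfsg.Agent.Lib.Helper13.lSL c ∈ Subgroup.closure
        ({Cfsg.Agent.Lib.Helper13.lSL 1, Cfsg.Agent.Lib.Helper13.tSL δ} :
          Set (Matrix.SpecialLinearGroup (Fin 2) F))) ∨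
    (δ ^ 2 = -1 ∧ Cfsg.Agent.Lib.Helper13.zSL F ∈ Subgroup.closure
        ({Cfsg.Agent.Lib.Helper13.lSL 1, Cfsg.Agent.Lib.Helper13.tSL δ} :
          Set (Matrix.SpecialLinearGroup (Fin 2) F))) := by
  classical
  set K : Subfield F := Subfield.closure ({δ} : Set F) with hK
  let _ : Fintype K := Fintype.ofFinite K
  have hδK : δ ∈ K := Subfield.subset_closure rfl
  set lam : K := ⟨δ, hδK⟩ with hlam
  have hlam0 : lam ≠ 0 := by
    intro h
    exact hδ (congrArg Subtype.val h)
  have h2K : (2 : K) ≠ 0 := by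
    intro h
    apply h2
    have h' : ((2 : K) : F) = ((0 : K) : F) := congrArg Subtype.val h
    push_cast at h'
    exact h'
  have hgen : Subfield.closure ({lam} : Set K) = ⊤ := by
    rw [eq_top_iff]
    intro x _
    have hle : K ≤ (Subfield.closure ({lam} : Set K)).map K.subtype := by
      change Subfield.closure ({δ} : Set F) ≤ _
      rw [Subfield.closure_le]
      intro y hy
      rw [Set.mem_singleton_iff] at hy
      subst hy
      exact ⟨lam, Subfield.subset_closure rfl, rfl⟩
    obtain ⟨y, hy, hyx⟩ := hle x.2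
    have : y = x := Subtype.ext hyx
    rwa [← this]
  -- the image of `genSL lam` under the inclusion
  have himg : (genSL lam).map (Matrix.SpecialLinearGroup.map K.subtype) =
      Subgroup.closure ({lSL 1, tSL δ} : Set (Matrix.SpecialLinearGroup (Fin 2) F)) := by
    unfold genSL
    rw [MonoidHom.map_closure]
    congr 1
    rw [Set.image_pair, map_lSL, map_tSL]
    simp [hlam]
  rcases genSL_cases h2K lam hlam0 hgen with htop | ⟨-, hsq, hcard⟩
  · left
    intro c hc
    rw [← himg]
    refine ⟨lSL (⟨c, hc⟩ : K), ?_, map_lSL K _⟩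
    rw [htop]
    exact Subgroup.mem_top _
  · right
    refine ⟨?_, ?_⟩
    · have := congrArg Subtype.val hsq
      simpa [hlam] using this
    · rw [← himg]
      refine ⟨zSL K, ?_, map_zSL K⟩
      apply zSL_mem_of_even h2K
      rw [hcard]
      norm_num

end Cfsg.Agent.Lib.Helper9.Om7SLeaf
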