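import Mathlib
import Cfsg.Agent.Lib.Helper25.SpTNDefs

/-!
S5704 leaves, part (N2) (owner helper25): the U-form block calculus `UF_one`, `UF_mul`, `UF_inv`,
`UF_conj_kel` (exact signatures of `notes/S5704_N2_leaves.lean`).
-/

set_option autoImplicit false
set_option linter.unusedSectionVars false
set_option linter.unusedVariables false

namespace Cfsg.Agent.Lib.Helper9.SpTNLeaf
open Matrix QuadraticMap
open Cfsg.Agent.Lib.Helper25.Tens Cfsg.Agent.Lib.Helper25.TensLeaves Cfsg.Agent.Lib.Helper19.OSub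
open Cfsg.Agent.Lib.Helper25.SpT
open scoped Kronecker

variable {F : Type*} [Field F] [Fintype F] {a b : ℕ} {Q : QuadraticForm F (Idx a b → F)}
  {M : Subgroup (GL (Idx a b) F)}

/-- a sum supported on two points -/
lemma sum_eq_two {β : Type*} [AddCommMonoid β] {n : ℕ} (f : Fin n → β) (m₀ m₁ : Fin n)
    (hne : m₀ ≠ m₁) (h : ∀ m, m ≠ m₀ → m ≠ m₁ → f m = 0) : ∑ m, f m = f m₀ + f m₁ := by
  rw [← Finset.add_sum_erase _ _ (Finset.mem_univ m₀)]
  congr 1
  apply Finset.sum_eq_single m₁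
  · intro m hm hm1
    exact h m (Finset.ne_of_mem_erase hm) hm1
  · intro hm
    exact absurd (Finset.mem_erase.mpr ⟨hne.symm, Finset.mem_univ _⟩) hm

/-- a sum supported on one point -/
lemma sum_eq_one' {β : Type*} [AddCommMonoid β] {n : ℕ} (f : Fin n → β) (m₀ : Fin n)
    (h : ∀ m, m ≠ m₀ → f m = 0) : ∑ m, f m = f m₀ := by
  apply Finset.sum_eq_single m₀
  · intro m _ hm
    exact h m hm
  · intro hm
    exact absurd (Finset.mem_univ _) hm

/-- (U1) -/
theorem UF_one (o o' : Fin b) : UF o o' (1 : Matrix (Idx a b) (Idx a b) F) := by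
  refine ⟨fun k l _ _ => blk_one k l, ?_, ?_⟩
  · rw [blk_one, if_pos rfl]
  · rw [blk_one, if_pos rfl]

/-- (U2) -/
theorem UF_mul (o o' : Fin b) (hne : o ≠ o') (g g' : Matrix (Idx a b) (Idx a b) F)
    (hg : UF o o' g) (hg' : UF o o' g') :
    UF o o' (g * g') ∧ ∀ l : Fin b, l ≠ o → l ≠ o' → blk (g * g') o l = blk g o l + blk g' o l := by
  obtain ⟨hg1, hg2, hg3⟩ := hg
  obtain ⟨hg'1, hg'2, hg'3⟩ := hg'
  refine ⟨⟨?_, ?_, ?_⟩, ?_⟩
  · intro k l hk hl
    rw [blk_mul, sum_eq_one' _ k]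
    · by_cases hko' : k = o'
      · rw [hko', hg'1 o' l hne.symm hl, if_neg (Ne.symm hl), mul_zero]
      · rw [hg1 k k hk hko', if_pos rfl, one_mul, hg'1 k l hk hl]
    · intro m hm
      by_cases hmo' : m = o'
      · rw [hmo', hg'1 o' l hne.symm hl, if_neg (Ne.symm hl), mul_zero]
      · rw [hg1 k m hk hmo', if_neg (Ne.symm hm), zero_mul]
  · rw [blk_mul, sum_eq_one' _ o]
    · rw [hg2, hg'2, one_mul]
    · intro m hm
      rw [hg'1 m o hm hne, if_neg hm, mul_zero]
  · rw [blk_mul, sum_eq_one' _ o']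
    · rw [hg3, hg'3, one_mul]
    · intro m hm
      rw [hg1 o' m hne.symm hm, if_neg (Ne.symm hm), zero_mul]
  · intro l hlo hlo'
    rw [blk_mul, sum_eq_two _ o l (Ne.symm hlo)]
    · rw [hg2, one_mul, hg'1 l l hlo hlo', if_pos rfl, mul_one, add_comm]
    · intro m hmo hml
      rw [hg'1 m l hmo hlo', if_neg hml, mul_zero]

/-- (U3) -/
theorem UF_inv (o o' : Fin b) (hne : o ≠ o') (g : GL (Idx a b) F)
    (hg : UF o o' (g : Matrix (Idx a b) (Idx a b) F)) :
    UF o o' ((g⁻¹ : GL (Idx a b) F) : Matrix (Idx a b) (Idx a b) F) ∧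
      ∀ l : Fin b, l ≠ o → l ≠ o' →
        blk ((g⁻¹ : GL (Idx a b) F) : Matrix (Idx a b) (Idx a b) F) o l =
          - blk (g : Matrix (Idx a b) (Idx a b) F) o l := by
  obtain ⟨hg1, hg2, hg3⟩ := hg
  set G : Matrix (Idx a b) (Idx a b) F := (g : Matrix (Idx a b) (Idx a b) F) with hG
  set H : Matrix (Idx a b) (Idx a b) F := ((g⁻¹ : GL (Idx a b) F) : Matrix (Idx a b) (Idx a b) F)
    with hH
  have hGH : G * H = 1 := by rw [hG, hH, ← Units.val_mul, mul_inv_cancel, Units.val_one]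
  have hHG : H * G = 1 := by rw [hG, hH, ← Units.val_mul, inv_mul_cancel, Units.val_one]
  have bGH : ∀ k l, ∑ m, blk G k m * blk H m l = if k = l then 1 else 0 := by
    intro k l
    rw [← blk_mul, hGH, blk_one]
  have bHG : ∀ k l, ∑ m, blk H k m * blk G m l = if k = l then 1 else 0 := by
    intro k l
    rw [← blk_mul, hHG, blk_one]
  -- row `o'` of `G` is that of `1`
  have hGo' : ∀ m, blk G o' m = if o' = m then 1 else 0 := by
    intro m
    by_cases hm : m = o'
    · rw [hm, hg3, if_pos rfl]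
    · exact hg1 o' m hne.symm hm
  -- column `o` of `G` is that of `1`
  have hGo : ∀ m, blk G m o = if m = o then 1 else 0 := by
    intro m
    by_cases hm : m = o
    · rw [hm, hg2, if_pos rfl]
    · exact hg1 m o hm hne
  -- step 1: column `o` of `H`
  have s1' : blk H o' o = 0 := by
    have h1 := bGH o' o
    rw [sum_eq_one' _ o', hGo' o', if_pos rfl, one_mul, if_neg hne.symm] at h1
    · exact h1
    · intro m hm
      rw [hGo' m, if_neg (Ne.symm hm), zero_mul]
  have s1 : ∀ k, k ≠ o → blk H k o = 0 := by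
    intro k hk
    by_cases hko' : k = o'
    · rw [hko']
      exact s1'
    have h1 := bGH k o
    rw [sum_eq_two _ k o' hko', hg1 k k hk hko', if_pos rfl, one_mul, s1', mul_zero, add_zero,
      if_neg hk] at h1
    · exact h1
    · intro m hmk hmo'
      rw [hg1 k m hk hmo', if_neg (Ne.symm hmk), zero_mul]
  -- step 2: row `o'` of `H`
  have s2 : ∀ l, l ≠ o' → blk H o' l = 0 := by
    intro l hl
    by_cases hlo : l = o
    · rw [hlo]
      exact s1'
    have h1 := bHG o' l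
    rw [sum_eq_one' _ l, hg1 l l hlo hl, if_pos rfl, mul_one, if_neg (Ne.symm hl)] at h1
    · exact h1
    · intro m hm
      by_cases hmo : m = o
      · rw [hmo, s1', zero_mul]
      · rw [hg1 m l hmo hl, if_neg hm, mul_zero]
  refine ⟨⟨?_, ?_, ?_⟩, ?_⟩
  · intro k l hk hl
    by_cases hko' : k = o'
    · rw [hko', s2 l hl, if_neg (Ne.symm hl)]
    have h1 := bGH k l
    rw [sum_eq_two _ k o' hko', hg1 k k hk hko', if_pos rfl, one_mul, s2 l hl, mul_zero,
      add_zero] at h1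
    · exact h1
    · intro m hmk hmo'
      rw [hg1 k m hk hmo', if_neg (Ne.symm hmk), zero_mul]
  · have h1 := bHG o o
    rw [sum_eq_one' _ o, hg2, mul_one, if_pos rfl] at h1
    · exact h1
    · intro m hm
      rw [hGo m, if_neg hm, mul_zero]
  · have h1 := bGH o' o'
    rw [sum_eq_one' _ o', hg3, one_mul, if_pos rfl] at h1
    · exact h1
    · intro m hm
      rw [hGo' m, if_neg (Ne.symm hm), zero_mul]
  · intro l hlo hlo'
    have h1 := bHG o l
    have hHoo : blk H o o = 1 := by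
      have h2 := bHG o o
      rw [sum_eq_one' _ o, hg2, mul_one, if_pos rfl] at h2
      · exact h2
      · intro m hm
        rw [hGo m, if_neg hm, mul_zero]
    rw [sum_eq_two _ o l (Ne.symm hlo), hHoo, one_mul, hg1 l l hlo hlo', if_pos rfl, mul_one,
      if_neg (Ne.symm hlo)] at h1
    · exact eq_neg_of_add_eq_zero_right h1
    · intro m hmo hml
      rw [hg1 m l hmo hlo', if_neg hml, mul_zero]

/-- blocks of `(α ⊗ 1) * X` -/
lemma blk_kron_one_mul (α : Matrix (Fin a) (Fin a) F) (X : Matrix (Idx a b) (Idx a b) F)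
    (k l : Fin b) : blk ((α ⊗ₖ (1 : Matrix (Fin b) (Fin b) F)) * X) k l = α * blk X k l := by
  rw [blk_mul, sum_eq_one' _ k]
  · rw [blk_kron, Matrix.one_apply_eq, one_smul]
  · intro m hm
    rw [blk_kron, Matrix.one_apply_ne (Ne.symm hm), zero_smul, zero_mul]

/-- blocks of `X * (α ⊗ 1)` -/
lemma blk_mul_kron_one (α : Matrix (Fin a) (Fin a) F) (X : Matrix (Idx a b) (Idx a b) F)
    (k l : Fin b) : blk (X * (α ⊗ₖ (1 : Matrix (Fin b) (Fin b) F))) k l = blk X k l * α := by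
  rw [blk_mul, sum_eq_one' _ l]
  · rw [blk_kron, Matrix.one_apply_eq, one_smul]
  · intro m hm
    rw [blk_kron, Matrix.one_apply_ne hm, zero_smul, mul_zero]

/-- (U4) conjugation by `α ⊗ 1` -/
theorem UF_conj_kel (o o' : Fin b) (α : GL (Fin a) F) (g : GL (Idx a b) F)
    (hg : UF o o' (g : Matrix (Idx a b) (Idx a b) F)) :
    UF o o' ((kel α (1 : GL (Fin b) F) * g * (kel α (1 : GL (Fin b) F))⁻¹ : GL (Idx a b) F) :
      Matrix (Idx a b) (Idx a b) F) ∧
    ∀ l : Fin b, blk ((kel α (1 : GL (Fin b) F) * g * (kel α (1 : GL (Fin b) F))⁻¹ :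
        GL (Idx a b) F) : Matrix (Idx a b) (Idx a b) F) o l =
      (α : Matrix (Fin a) (Fin a) F) * blk (g : Matrix (Idx a b) (Idx a b) F) o l *
        ((α⁻¹ : GL (Fin a) F) : Matrix (Fin a) (Fin a) F) := by
  have hval : ((kel α (1 : GL (Fin b) F) * g * (kel α (1 : GL (Fin b) F))⁻¹ : GL (Idx a b) F) :
      Matrix (Idx a b) (Idx a b) F) =
      ((α : Matrix (Fin a) (Fin a) F) ⊗ₖ (1 : Matrix (Fin b) (Fin b) F)) *
        (g : Matrix (Idx a b) (Idx a b) F) *
        (((α⁻¹ : GL (Fin a) F) : Matrix (Fin a) (Fin a) F) ⊗ₖ (1 : Matrix (Fin b) (Fin b) F)) := by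
    rw [Units.val_mul, Units.val_mul, kel_val, Units.val_one]
    congr 1
  have hblk : ∀ k l : Fin b,
      blk ((kel α (1 : GL (Fin b) F) * g * (kel α (1 : GL (Fin b) F))⁻¹ : GL (Idx a b) F) :
        Matrix (Idx a b) (Idx a b) F) k l =
      (α : Matrix (Fin a) (Fin a) F) * blk (g : Matrix (Idx a b) (Idx a b) F) k l *
        ((α⁻¹ : GL (Fin a) F) : Matrix (Fin a) (Fin a) F) := by
    intro k l
    rw [hval, blk_mul_kron_one, blk_kron_one_mul]
  have hαα : (α : Matrix (Fin a) (Fin a) F) * ((α⁻¹ : GL (Fin a) F) : Matrix (Fin a) (Fin a) F) = 1 := by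
    rw [← Units.val_mul, mul_inv_cancel, Units.val_one]
  obtain ⟨hg1, hg2, hg3⟩ := hg
  refine ⟨⟨?_, ?_, ?_⟩, fun l => hblk o l⟩
  · intro k l hk hl
    rw [hblk, hg1 k l hk hl]
    split_ifs
    · rw [mul_one, hαα]
    · rw [mul_zero, zero_mul]
  · rw [hblk, hg2, mul_one, hαα]
  · rw [hblk, hg3, mul_one, hαα]

end Cfsg.Agent.Lib.Helper9.SpTNLeaf
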