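import Mathlib
import Cfsg.Agent.Lib.Helper5.TWS.Defs
import Cfsg.Agent.Lib.Helper26.TWFibA
import Cfsg.Agent.Lib.Helper16.TWRootB
import Cfsg.Agent.Lib.Helper16.TWImg

/-!
S5668 (C7 symplectic, owner helper5): FORM-LEVEL symplectic toolkit in the layer `Helper5.TWS` (helper9) =
port of `Helper23.TWUT` (`hv q` -> `sfT` / `sf`, `perpU` -> `perpT`, `dag q y` -> `sfv y`, `Sk q` -> all `c`).

* `sfT_pt`            : `sfT (pt v) (pt w) = ∏ j, sf (v j) (w j)`;
* `sg`, `prT`, `sgT`, `Jm_eq`, `JT_eq` : the Gram matrices are "signed involution matrices";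
* `adjA`, `adjT`, `sf_mulVec_left/right`, `sfT_mulVec_left/right`, `adjT_adjT`, `adjA_adjA` : the adjoint for `sf` / `sfT`;
* `adjT_slot`         : `adjT (slot i A) = slot i (adjA A)`;  `adjA_vecMulVec_sfv`, `adjT_rootN_sfv` (`rootN i y (sfv y)` is SKEW);
* `sfT_swap`, `sf`-level `sfT_single_right`, `sfT_nondeg_left/right`;
* `elt_mem_GSV`, `elt_mem_HS` : the admissible root elements (ALL `c : F`) are in `HS`;
* `perpT_Wf` : `perpT (Wf i y) = Cf i (sfv y)`;   `perpT_Cf` : `perpT (Cf i (sfv y)) = Wf i y`;  `TIT_Wf`, `Wf_le_Cf_sfv`;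
* `img_perpT`         : similitudes commute with `perpT`.
-/

set_option autoImplicit false
set_option linter.unusedSectionVars false
set_option linter.unusedVariables false

namespace Cfsg.Agent.Lib.Helper9.TWST
open Matrix Cfsg.Geo Cfsg.Agent.Lib.Helper18.AschA89 Cfsg.Agent.Lib.Helper8.TW
open Cfsg.Agent.Lib.Helper25.SpT (sf Jm sfv pr)
open Cfsg.Agent.Lib.Helper5.TWS

variable {F : Type*} [Field F] {t k : ℕ}

/-! ### pure tensors -/

/-- the tensor power form on pure tensors -/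
theorem sfT_pt (v w : Fin t → Fin k → F) : sfT (pt v) (pt w) = ∏ j, sf (v j) (w j) := by
  rw [sfT_eq_sum]
  simp only [Cfsg.Agent.Lib.Helper25.SpT.sf_eq_sum]
  rw [Finset.prod_univ_sum, Fintype.piFinset_univ]
  apply Finset.sum_congr rfl
  intro a _
  rw [Finset.prod_univ_sum, Fintype.piFinset_univ]
  apply Finset.sum_congr rfl
  intro b _
  unfold pt
  rw [JT_apply, ← Finset.prod_mul_distrib, ← Finset.prod_mul_distrib]

/-! ### generic "signed involution" Gram matrices -/

section generic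
variable {κ : Type} [Fintype κ] [DecidableEq κ]

/-- the adjoint for a Gram matrix `J a b = if b = p a then s a else 0` -/
def adjG (p : κ → κ) (s : κ → F) (A : Matrix κ κ F) : Matrix κ κ F := fun a c => s a * s c * A (p c) (p a)

lemma adjG_apply (p : κ → κ) (s : κ → F) (A : Matrix κ κ F) (a c : κ) :
    adjG p s A a c = s a * s c * A (p c) (p a) := rfl

lemma gram_mulVec (p : κ → κ) (s : κ → F) (J : Matrix κ κ F)
    (hJ : ∀ a b, J a b = if b = p a then s a else 0) (w : κ → F) (a : κ) :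
    (J *ᵥ w) a = s a * w (p a) := by
  simp only [Matrix.mulVec, dotProduct, hJ]
  rw [Finset.sum_eq_single (p a)]
  · rw [if_pos rfl]
  · intro b _ hb
    rw [if_neg hb, zero_mul]
  · intro h; exact absurd (Finset.mem_univ _) h

lemma form_eq_sum (p : κ → κ) (s : κ → F) (J : Matrix κ κ F)
    (hJ : ∀ a b, J a b = if b = p a then s a else 0) (u w : κ → F) :
    u ⬝ᵥ (J *ᵥ w) = ∑ a, u a * (s a * w (p a)) := by
  simp only [dotProduct, gram_mulVec p s J hJ]

/-- `b(A u, w) = b(u, A^♯ w)` -/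
theorem form_mulVec_left (p : κ → κ) (hp : Function.Involutive p) (s : κ → F) (ε : F) (hε : ε * ε = 1)
    (hs : ∀ a, s a * s a = 1) (hsp : ∀ a, s (p a) = ε * s a)
    (J : Matrix κ κ F) (hJ : ∀ a b, J a b = if b = p a then s a else 0)
    (A : Matrix κ κ F) (u w : κ → F) :
    (A *ᵥ u) ⬝ᵥ (J *ᵥ w) = u ⬝ᵥ (J *ᵥ (adjG p s A *ᵥ w)) := by
  rw [form_eq_sum p s J hJ, form_eq_sum p s J hJ]
  have h1 : ∀ y : κ, (adjG p s A *ᵥ w) (p y) = ∑ x, ε * s y * (ε * s x) * A x y * w (p x) := by
    intro y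
    simp only [Matrix.mulVec, dotProduct, adjG_apply]
    rw [← Equiv.sum_comp hp.toPerm]
    apply Finset.sum_congr rfl
    intro x _
    simp only [Function.Involutive.coe_toPerm]
    rw [hp x, hp y, hsp x, hsp y]
  have h2 : ∀ x : κ, (A *ᵥ u) x = ∑ y, A x y * u y := fun x => rfl
  simp only [h1, h2, Finset.sum_mul, Finset.mul_sum]
  rw [Finset.sum_comm]
  apply Finset.sum_congr rfl
  intro y _
  apply Finset.sum_congr rfl
  intro x _
  calc A x y * u y * (s x * w (p x))
      = (ε * ε) * (s y * s y) * (A x y * u y * (s x * w (p x))) := by rw [hε, hs y]; ring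
    _ = u y * (s y * (ε * s y * (ε * s x) * A x y * w (p x))) := by ring

/-- `b(u, w) = ε b(w, u)` -/
theorem form_swap (p : κ → κ) (hp : Function.Involutive p) (s : κ → F) (ε : F)
    (hsp : ∀ a, s (p a) = ε * s a)
    (J : Matrix κ κ F) (hJ : ∀ a b, J a b = if b = p a then s a else 0) (u w : κ → F) :
    u ⬝ᵥ (J *ᵥ w) = ε * (w ⬝ᵥ (J *ᵥ u)) := by
  rw [form_eq_sum p s J hJ, form_eq_sum p s J hJ, Finset.mul_sum, ← Equiv.sum_comp hp.toPerm]
  apply Finset.sum_congr rfl
  intro a _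
  simp only [Function.Involutive.coe_toPerm]
  rw [hp a, hsp a]
  ring

lemma adjG_adjG (p : κ → κ) (hp : Function.Involutive p) (s : κ → F) (ε : F) (hε : ε * ε = 1)
    (hs : ∀ a, s a * s a = 1) (hsp : ∀ a, s (p a) = ε * s a) (A : Matrix κ κ F) :
    adjG p s (adjG p s A) = A := by
  funext a c
  simp only [adjG_apply]
  rw [hp a, hp c, hsp a, hsp c]
  calc s a * s c * (ε * s c * (ε * s a) * A a c)
      = (ε * ε) * (s a * s a) * (s c * s c) * A a c := by ring
    _ = A a c := by rw [hε, hs a, hs c]; ring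

lemma adjG_mul (p : κ → κ) (hp : Function.Involutive p) (s : κ → F)
    (hs : ∀ a, s a * s a = 1) (A B : Matrix κ κ F) :
    adjG p s (A * B) = adjG p s B * adjG p s A := by
  funext a c
  simp only [adjG_apply, Matrix.mul_apply]
  rw [← Equiv.sum_comp hp.toPerm, Finset.mul_sum]
  apply Finset.sum_congr rfl
  intro b _
  simp only [Function.Involutive.coe_toPerm]
  calc s a * s c * (A (p c) (p b) * B (p b) (p a))
      = (s b * s b) * (s a * s c * (A (p c) (p b) * B (p b) (p a))) := by rw [hs]; ring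
    _ = s a * s b * B (p b) (p a) * (s b * s c * A (p c) (p b)) := by ring

lemma adjG_add (p : κ → κ) (s : κ → F) (A B : Matrix κ κ F) :
    adjG p s (A + B) = adjG p s A + adjG p s B := by
  funext a c
  simp only [adjG_apply, Matrix.add_apply]
  ring

lemma adjG_smul (p : κ → κ) (s : κ → F) (c : F) (A : Matrix κ κ F) :
    adjG p s (c • A) = c • adjG p s A := by
  funext a b
  simp only [adjG_apply, Matrix.smul_apply, smul_eq_mul]
  ring

lemma adjG_neg (p : κ → κ) (s : κ → F) (A : Matrix κ κ F) :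
    adjG p s (-A) = - adjG p s A := by
  funext a b
  simp only [adjG_apply, Matrix.neg_apply]
  ring

lemma adjG_zero (p : κ → κ) (s : κ → F) : adjG p s (0 : Matrix κ κ F) = 0 := by
  funext a b
  simp only [adjG_apply, Matrix.zero_apply, mul_zero]

lemma adjG_one (p : κ → κ) (hp : Function.Involutive p) (s : κ → F) (hs : ∀ a, s a * s a = 1) :
    adjG p s (1 : Matrix κ κ F) = 1 := by
  funext a c
  simp only [adjG_apply, Matrix.one_apply]
  by_cases h : a = c
  · subst h
    rw [if_pos rfl, if_pos rfl, mul_one, hs]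
  · rw [if_neg h, if_neg (fun h' => h (hp.injective h').symm), mul_zero]

end generic

/-! ### the signs of `Jm` and `JT` -/

/-- the sign `Jm a (pr a) = ±1` -/
def sg (hk : Even k) (a : Fin k) : F := (Jm k : Matrix (Fin k) (Fin k) F) a (pr hk a)

lemma Jm_eq (hk : Even k) (a b : Fin k) :
    (Jm k : Matrix (Fin k) (Fin k) F) a b = if b = pr hk a then sg hk a else 0 := by
  by_cases h : b = pr hk a
  · subst h
    rw [if_pos rfl]
    rfl
  · rw [if_neg h, Cfsg.Agent.Lib.Helper25.SpT.Jm_eq_zero_of_ne hk a b h]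

lemma sg_sq (hk : Even k) (a : Fin k) : (sg hk a : F) * sg hk a = 1 := by
  unfold sg
  rw [Cfsg.Agent.Lib.Helper25.SpT.Jm_pr]
  split_ifs <;> simp

lemma sg_pr (hk : Even k) (a : Fin k) : (sg hk (pr hk a) : F) = -1 * sg hk a := by
  unfold sg
  rw [Cfsg.Agent.Lib.Helper25.SpT.pr_pr, Cfsg.Agent.Lib.Helper25.SpT.Jm_swap k a (pr hk a)]
  ring

lemma pr_involutive (hk : Even k) : Function.Involutive (pr hk) := Cfsg.Agent.Lib.Helper25.SpT.pr_pr hk

/-- the partner multi-index -/
def prT (hk : Even k) (x : Idx t k) : Idx t k := fun j => pr hk (x j)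

/-- the sign of a multi-index -/
def sgT (hk : Even k) (x : Idx t k) : F := ∏ j, sg hk (x j)

lemma prT_involutive (hk : Even k) : Function.Involutive (prT (t := t) hk) := by
  intro x
  funext j
  exact Cfsg.Agent.Lib.Helper25.SpT.pr_pr hk (x j)

lemma JT_eq (hk : Even k) (x z : Idx t k) :
    JT t k F x z = if z = prT hk x then sgT hk x else 0 := by
  rw [JT_apply]
  by_cases h : z = prT hk x
  · subst h
    rw [if_pos rfl]
    rfl
  · rw [if_neg h]
    obtain ⟨j, hj⟩ := Function.ne_iff.mp h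
    apply Finset.prod_eq_zero (Finset.mem_univ j)
    exact Cfsg.Agent.Lib.Helper25.SpT.Jm_eq_zero_of_ne hk _ _ hj

lemma sgT_sq (hk : Even k) (x : Idx t k) : (sgT hk x : F) * sgT hk x = 1 := by
  unfold sgT
  rw [← Finset.prod_mul_distrib]
  apply Finset.prod_eq_one
  intro j _
  exact sg_sq hk (x j)

lemma sgT_ne_zero (hk : Even k) (x : Idx t k) : (sgT hk x : F) ≠ 0 := by
  intro h
  have := sgT_sq (F := F) hk x
  rw [h, mul_zero] at this
  exact zero_ne_one this

lemma sgT_prT (hk : Even k) (x : Idx t k) : (sgT hk (prT hk x) : F) = (-1) ^ t * sgT hk x := by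
  unfold sgT prT
  simp only [sg_pr]
  rw [Finset.prod_mul_distrib, Finset.prod_const, Finset.card_univ, Fintype.card_fin]

lemma neg_one_pow_sq (t : ℕ) : ((-1 : F) ^ t) * ((-1) ^ t) = 1 := by
  rw [← mul_pow]
  simp

/-! ### adjoints -/

/-- the adjoint of a matrix on `A = F^k` for `sf` -/
def adjA (hk : Even k) (A : Matrix (Fin k) (Fin k) F) : Matrix (Fin k) (Fin k) F := adjG (pr hk) (sg hk) A

/-- the adjoint of a matrix on `V = F^(Idx t k)` for `sfT` -/
def adjT (hk : Even k) (A : Matrix (Idx t k) (Idx t k) F) : Matrix (Idx t k) (Idx t k) F :=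
  adjG (prT hk) (sgT hk) A

lemma adjA_apply (hk : Even k) (A : Matrix (Fin k) (Fin k) F) (a c : Fin k) :
    adjA hk A a c = sg hk a * sg hk c * A (pr hk c) (pr hk a) := rfl

lemma adjT_apply (hk : Even k) (A : Matrix (Idx t k) (Idx t k) F) (x z : Idx t k) :
    adjT hk A x z = sgT hk x * sgT hk z * A (prT hk z) (prT hk x) := rfl

/-- `sf (A a) b = sf a (A^♯ b)` -/
theorem sf_mulVec_left (hk : Even k) (A : Matrix (Fin k) (Fin k) F) (a b : Fin k → F) :
    sf (A *ᵥ a) b = sf a (adjA hk A *ᵥ b) :=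
  form_mulVec_left (pr hk) (pr_involutive hk) (sg hk) (-1) (by ring) (sg_sq hk) (sg_pr hk)
    (Jm k) (Jm_eq hk) A a b

lemma adjA_adjA (hk : Even k) (A : Matrix (Fin k) (Fin k) F) : adjA hk (adjA hk A) = A :=
  adjG_adjG (pr hk) (pr_involutive hk) (sg hk) (-1) (by ring) (sg_sq hk) (sg_pr hk) A

/-- `sf a (A b) = sf (A^♯ a) b` -/
theorem sf_mulVec_right (hk : Even k) (A : Matrix (Fin k) (Fin k) F) (a b : Fin k → F) :
    sf a (A *ᵥ b) = sf (adjA hk A *ᵥ a) b := by
  rw [sf_mulVec_left hk, adjA_adjA hk]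

/-- `sfT (A u) w = sfT u (A^♯ w)` -/
theorem sfT_mulVec_left (hk : Even k) (A : Matrix (Idx t k) (Idx t k) F) (u w : Idx t k → F) :
    sfT (A *ᵥ u) w = sfT u (adjT hk A *ᵥ w) :=
  form_mulVec_left (prT hk) (prT_involutive hk) (sgT hk) ((-1) ^ t) (neg_one_pow_sq t) (sgT_sq hk) (sgT_prT hk)
    (JT t k F) (JT_eq hk) A u w

lemma adjT_adjT (hk : Even k) (A : Matrix (Idx t k) (Idx t k) F) : adjT hk (adjT hk A) = A :=
  adjG_adjG (prT hk) (prT_involutive hk) (sgT hk) ((-1) ^ t) (neg_one_pow_sq t) (sgT_sq hk) (sgT_prT hk) A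

/-- `sfT u (A w) = sfT (A^♯ u) w` -/
theorem sfT_mulVec_right (hk : Even k) (A : Matrix (Idx t k) (Idx t k) F) (u w : Idx t k → F) :
    sfT u (A *ᵥ w) = sfT (adjT hk A *ᵥ u) w := by
  rw [sfT_mulVec_left hk, adjT_adjT hk]

lemma adjT_mul (hk : Even k) (A B : Matrix (Idx t k) (Idx t k) F) :
    adjT hk (A * B) = adjT hk B * adjT hk A :=
  adjG_mul (prT hk) (prT_involutive hk) (sgT hk) (sgT_sq hk) A B

lemma adjT_add (hk : Even k) (A B : Matrix (Idx t k) (Idx t k) F) :
    adjT hk (A + B) = adjT hk A + adjT hk B := adjG_add _ _ A B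

lemma adjT_smul (hk : Even k) (c : F) (A : Matrix (Idx t k) (Idx t k) F) :
    adjT hk (c • A) = c • adjT hk A := adjG_smul _ _ c A

lemma adjT_neg (hk : Even k) (A : Matrix (Idx t k) (Idx t k) F) :
    adjT hk (-A) = - adjT hk A := adjG_neg _ _ A

lemma adjT_zero (hk : Even k) : adjT hk (0 : Matrix (Idx t k) (Idx t k) F) = 0 := adjG_zero _ _

lemma adjT_one (hk : Even k) : adjT hk (1 : Matrix (Idx t k) (Idx t k) F) = 1 :=
  adjG_one (prT hk) (prT_involutive hk) (sgT hk) (sgT_sq hk)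

lemma adjA_mul (hk : Even k) (A B : Matrix (Fin k) (Fin k) F) :
    adjA hk (A * B) = adjA hk B * adjA hk A :=
  adjG_mul (pr hk) (pr_involutive hk) (sg hk) (sg_sq hk) A B

lemma adjA_add (hk : Even k) (A B : Matrix (Fin k) (Fin k) F) :
    adjA hk (A + B) = adjA hk A + adjA hk B := adjG_add _ _ A B

lemma adjA_smul (hk : Even k) (c : F) (A : Matrix (Fin k) (Fin k) F) :
    adjA hk (c • A) = c • adjA hk A := adjG_smul _ _ c A

lemma adjA_neg (hk : Even k) (A : Matrix (Fin k) (Fin k) F) :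
    adjA hk (-A) = - adjA hk A := adjG_neg _ _ A

lemma adjA_zero (hk : Even k) : adjA hk (0 : Matrix (Fin k) (Fin k) F) = 0 := adjG_zero _ _

lemma adjA_one (hk : Even k) : adjA hk (1 : Matrix (Fin k) (Fin k) F) = 1 :=
  adjG_one (pr hk) (pr_involutive hk) (sg hk) (sg_sq hk)

/-- the adjoint commutes with `slot` -/
theorem adjT_slot (hk : Even k) (i : Fin t) (A : Matrix (Fin k) (Fin k) F) :
    adjT hk (slot k t i A) = slot k t i (adjA hk A) := by
  funext x z
  rw [adjT_apply, slot_apply, slot_apply, adjA_apply]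
  by_cases h : ∀ j, j ≠ i → x j = z j
  · have h' : ∀ j, j ≠ i → prT hk z j = prT hk x j := by
      intro j hj
      unfold prT
      rw [h j hj]
    rw [if_pos h, if_pos h']
    have hs : (sgT hk x : F) * sgT hk z = sg hk (x i) * sg hk (z i) := by
      unfold sgT
      rw [← Finset.prod_mul_distrib, ← Finset.mul_prod_erase Finset.univ _ (Finset.mem_univ i)]
      have : ∏ j ∈ Finset.univ.erase i, (sg hk (x j) : F) * sg hk (z j) = 1 := by
        apply Finset.prod_eq_one
        intro j hj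
        rw [← h j (Finset.ne_of_mem_erase hj)]
        exact sg_sq hk (x j)
      rw [this, mul_one]
    rw [hs]
    rfl
  · have h' : ¬ ∀ j, j ≠ i → prT hk z j = prT hk x j := by
      intro h'
      apply h
      intro j hj
      have := h' j hj
      unfold prT at this
      exact ((pr_involutive hk).injective this).symm
    rw [if_neg h, if_neg h', mul_zero]

lemma slot_neg' (i : Fin t) (B : Matrix (Fin k) (Fin k) F) : slot k t i (-B) = - slot k t i B := by
  funext x z
  simp only [slot_apply, Matrix.neg_apply]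
  split_ifs <;> simp

/-- the adjoint of `y z†` is `- z y†` -/
lemma adjA_vecMulVec_sfv (hk : Even k) (y z : Fin k → F) :
    adjA hk (Matrix.vecMulVec y (sfv z)) = - Matrix.vecMulVec z (sfv y) := by
  funext a c
  rw [adjA_apply, Matrix.neg_apply, Matrix.vecMulVec_apply, Matrix.vecMulVec_apply]
  unfold sfv
  rw [gram_mulVec (pr hk) (sg hk) (Jm k) (Jm_eq hk), gram_mulVec (pr hk) (sg hk) (Jm k) (Jm_eq hk),
    (pr_involutive hk) a, sg_pr]
  calc sg hk a * sg hk c * (y (pr hk c) * (-1 * sg hk a * z a))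
      = -((sg hk a * sg hk a) * (z a * (sg hk c * y (pr hk c)))) := by ring
    _ = -(z a * (sg hk c * y (pr hk c))) := by rw [sg_sq, one_mul]

/-- the admissible root nilpotent `N(i,y) = slot i (y y†)` is SKEW for `sfT` -/
theorem adjT_rootN_sfv (hk : Even k) (i : Fin t) (y : Fin k → F) :
    adjT hk (rootN i y (sfv y)) = - rootN i y (sfv y) := by
  unfold rootN
  rw [adjT_slot hk, adjA_vecMulVec_sfv hk, slot_neg']

/-- skewness of the admissible root nilpotent, in terms of the form -/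
theorem sfT_rootN (hk : Even k) (i : Fin t) (y : Fin k → F) (u w : Idx t k → F) :
    sfT (rootN i y (sfv y) *ᵥ u) w = - sfT u (rootN i y (sfv y) *ᵥ w) := by
  rw [sfT_mulVec_left hk, adjT_rootN_sfv hk, Matrix.neg_mulVec, sfT_neg_right]

/-! ### symmetry, nondegeneracy -/

/-- `sfT` is `(-1)^t`-symmetric -/
theorem sfT_swap (hk : Even k) (u w : Idx t k → F) : sfT u w = (-1) ^ t * sfT w u :=
  form_swap (prT hk) (prT_involutive hk) (sgT hk) ((-1) ^ t) (sgT_prT hk) (JT t k F) (JT_eq hk) u w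

lemma sfT_symm_zero (hk : Even k) {u w : Idx t k → F} (h : sfT u w = 0) : sfT w u = 0 := by
  rw [sfT_swap hk, h, mul_zero]

lemma sfT_single_right (hk : Even k) (v : Idx t k → F) (a : Idx t k) :
    sfT v (Pi.single a 1) = sgT hk (prT hk a) * v (prT hk a) := by
  unfold sfT
  rw [form_eq_sum (prT hk) (sgT hk) (JT t k F) (JT_eq hk)]
  rw [Finset.sum_eq_single (prT hk a)]
  · rw [prT_involutive hk a, Pi.single_eq_same, mul_one, mul_comm]
  · intro b _ hb
    have : prT hk b ≠ a := by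
      intro h
      apply hb
      rw [← h, prT_involutive hk b]
    rw [Pi.single_eq_of_ne this, mul_zero, mul_zero]
  · intro h; exact absurd (Finset.mem_univ _) h

/-- nondegeneracy (left radical) -/
theorem sfT_nondeg_left (hk : Even k) {v : Idx t k → F} (h : ∀ w, sfT v w = 0) : v = 0 := by
  funext a
  have := h (Pi.single (prT hk a) 1)
  rw [sfT_single_right hk, prT_involutive hk a] at this
  rcases mul_eq_zero.1 this with h0 | h0
  · exact absurd h0 (sgT_ne_zero hk a)
  · exact h0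

/-- nondegeneracy (right radical) -/
theorem sfT_nondeg_right (hk : Even k) {w : Idx t k → F} (h : ∀ v, sfT v w = 0) : w = 0 := by
  apply sfT_nondeg_left hk
  intro v
  exact sfT_symm_zero hk (h v)

/-! ### general facts on `perpT` -/

theorem perpT_anti {W W' : Submodule F (Idx t k → F)} (h : W ≤ W') : perpT W' ≤ perpT W :=
  fun v hv' w hw => hv' w (h hw)

theorem perpT_sup (W W' : Submodule F (Idx t k → F)) :
    perpT (W ⊔ W') = perpT W ⊓ perpT W' := by
  apply le_antisymm
  · exact le_inf (perpT_anti le_sup_left) (perpT_anti le_sup_right)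
  · rintro v ⟨h1, h2⟩ w hw
    obtain ⟨a, ha, b, hb, rfl⟩ := Submodule.mem_sup.1 hw
    rw [sfT_add_right, h1 a ha, h2 b hb, add_zero]

/-! ### the admissible root elements are isometries -/

lemma RD_N_eq {r : RD t k F} (hr : RS r) : r.N = rootN r.i r.y (sfv r.y) := by
  unfold RD.N
  rw [hr]

lemma mv_elt (r : RD t k F) (c : F) (x : Idx t k → F) : mv (r.elt c) x = x + c • (r.N *ᵥ x) := by
  unfold mv RD.elt
  rw [unip_val, Matrix.add_mulVec, Matrix.one_mulVec, Matrix.smul_mulVec]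

/-- `sfT ((1 + cN) u) ((1 + cN) w) = sfT u w` for admissible `r` and ALL `c` -/
theorem elt_mem_GSV (hk : Even k) {r : RD t k F} (hr : RS r) (c : F) :
    r.elt c ∈ GSV t k F := by
  rw [mem_GSV]
  intro u w
  have hN : r.N = rootN r.i r.y (sfv r.y) := RD_N_eq hr
  rw [mv_elt, mv_elt]
  rw [sfT_add_left, sfT_add_right, sfT_add_right, sfT_smul_left, sfT_smul_left, sfT_smul_right,
    sfT_smul_right]
  have h1 : sfT (r.N *ᵥ u) (r.N *ᵥ w) = 0 := by
    rw [hN, sfT_rootN hk, Matrix.mulVec_mulVec, ← hN, r.N_sq, Matrix.zero_mulVec, sfT_zero_right, neg_zero]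
  have h2 : sfT (r.N *ᵥ u) w = - sfT u (r.N *ᵥ w) := by
    rw [hN, sfT_rootN hk]
  rw [h1, h2]
  ring

/-- the admissible root elements lie in `H = G ∩ GSV` -/
theorem elt_mem_HS (hk : Even k) {r : RD t k F} (hr : RS r) (c : F) :
    r.elt c ∈ HS t k F :=
  ⟨(Cfsg.Agent.Lib.Helper16.TWLeaf.RD_elt_mem_H r c).1, elt_mem_GSV hk hr c⟩

/-- the whole root group lies in `HS` -/
theorem grp_le_HS (hk : Even k) {r : RD t k F} (hr : RS r) : r.grp ≤ HS t k F := by
  rintro g ⟨c, rfl⟩
  exact elt_mem_HS hk hr c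

/-! ### perps of fibres -/

/-- `W(i,y)^⊥ = C(i,y†)` -/
theorem perpT_Wf (hk : Even k) (i : Fin t) (y : Fin k → F) (hy : y ≠ 0) :
    perpT (Wf i y) = Cf i (sfv y) := by
  have hη : sfv y ≠ 0 := sfv_ne_zero hk hy
  ext v
  rw [mem_perpT, ← Cfsg.Agent.Lib.Helper26.TWLeaf.ker_rootN i y (sfv y) hy, LinearMap.mem_ker,
    Matrix.toLin'_apply]
  constructor
  · intro h
    apply sfT_nondeg_left hk
    intro w
    rw [sfT_rootN hk, neg_eq_zero]
    apply h
    rw [← Cfsg.Agent.Lib.Helper26.TWLeaf.range_rootN i y (sfv y) hη]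
    exact ⟨w, by rw [Matrix.toLin'_apply]⟩
  · intro h w hw
    rw [← Cfsg.Agent.Lib.Helper26.TWLeaf.range_rootN i y (sfv y) hη] at hw
    obtain ⟨w', rfl⟩ := hw
    rw [Matrix.toLin'_apply]
    have := sfT_rootN hk i y v w'
    rw [h, sfT_zero_left] at this
    exact neg_eq_zero.1 this.symm

/-- a fibre is totally isotropic -/
theorem TIT_Wf (hk : Even k) (i : Fin t) (y : Fin k → F) (hy : y ≠ 0) : TIT (Wf i y) := by
  have hη : sfv y ≠ 0 := sfv_ne_zero hk hy
  intro u hu w hw
  rw [← Cfsg.Agent.Lib.Helper26.TWLeaf.range_rootN i y (sfv y) hη] at hu hw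
  obtain ⟨u', rfl⟩ := hu
  obtain ⟨w', rfl⟩ := hw
  rw [Matrix.toLin'_apply, Matrix.toLin'_apply, sfT_rootN hk, Matrix.mulVec_mulVec]
  have : rootN i y (sfv y) * rootN i y (sfv y) = 0 :=
    rootN_mul_self i y (sfv y) (by rw [Cfsg.Agent.Lib.Helper25.SpT.sfv_dot]; exact Cfsg.Agent.Lib.Helper25.SpT.sf_self y)
  rw [this, Matrix.zero_mulVec, sfT_zero_right, neg_zero]

/-- `W ≤ W^⊥ = C` for every fibre -/
theorem Wf_le_Cf_sfv (hk : Even k) (i : Fin t) (y : Fin k → F) (hy : y ≠ 0) :
    Wf i y ≤ Cf i (sfv y) := by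
  rw [← perpT_Wf hk i y hy]
  intro u hu w hw
  exact TIT_Wf hk i y hy u hu w hw

/-- `C(i,y†)^⊥ = W(i,y)` -/
theorem perpT_Cf (hk : Even k) (i : Fin t) (y : Fin k → F) (hy : y ≠ 0) :
    perpT (Cf i (sfv y)) = Wf i y := by
  have hη : sfv y ≠ 0 := sfv_ne_zero hk hy
  apply le_antisymm
  · intro v hv'
    rw [mem_perpT] at hv'
    obtain ⟨a₀, ha₀⟩ := Cfsg.Agent.Lib.Helper26.TWLeaf.exists_dot_one26 (sfv y) hη
    have ha₀0 : a₀ ≠ 0 := by
      rintro rfl
      rw [dotProduct_zero] at ha₀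
      exact zero_ne_one ha₀
    set P : Matrix (Idx t k) (Idx t k) F := slot k t i (Matrix.vecMulVec a₀ (sfv y)) with hP
    have hNP : rootN i y (sfv y) * P = rootN i y (sfv y) := by
      rw [hP]
      unfold rootN
      rw [slot_mul, Matrix.vecMulVec_mul_vecMulVec, ha₀, one_smul]
    have hker : ∀ w : Idx t k → F, w - P *ᵥ w ∈ Cf i (sfv y) := by
      intro w
      rw [← Cfsg.Agent.Lib.Helper26.TWLeaf.ker_rootN i y (sfv y) hy, LinearMap.mem_ker, Matrix.toLin'_apply,
        Matrix.mulVec_sub, Matrix.mulVec_mulVec, hNP, sub_self]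
    have hadj : adjT hk P = - rootN i y (sfv a₀) := by
      rw [hP, adjT_slot hk, adjA_vecMulVec_sfv hk, slot_neg']
      rfl
    have hfix : v - adjT hk P *ᵥ v = 0 := by
      apply sfT_nondeg_left hk
      intro w
      rw [sfT_sub_left, ← sfT_mulVec_right hk, sub_eq_zero]
      have := hv' _ (hker w)
      rw [sfT_sub_right, sub_eq_zero] at this
      exact this
    have hv2 : v = rootN i y (sfv a₀) *ᵥ (-v) := by
      have := sub_eq_zero.1 hfix
      rw [hadj, Matrix.neg_mulVec] at this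
      rw [Matrix.mulVec_neg]
      exact this
    rw [← Cfsg.Agent.Lib.Helper26.TWLeaf.range_rootN i y (sfv a₀) (sfv_ne_zero hk ha₀0)]
    exact ⟨-v, by rw [Matrix.toLin'_apply]; exact hv2.symm⟩
  · intro v hvW
    rw [mem_perpT]
    intro w hw
    have hw' : w ∈ perpT (Wf i y) := by rw [perpT_Wf hk i y hy]; exact hw
    exact sfT_symm_zero hk (hw' v hvW)

/-! ### similitudes and perps -/

/-- similitudes commute with `perpT` -/
theorem img_perpT {g : GL (Idx t k) F} (hg : g ∈ DSV t k F) (W : Submodule F (Idx t k → F)) :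
    img g (perpT W) = perpT (img g W) := by
  obtain ⟨c, hc⟩ := mem_DSV.1 hg
  ext v
  rw [Cfsg.Agent.Lib.Helper16.TWLeaf.mem_img_iff, mem_perpT, mem_perpT]
  constructor
  · intro h w hw
    rw [Cfsg.Agent.Lib.Helper16.TWLeaf.mem_img_iff] at hw
    have := hc (mv g⁻¹ v) (mv g⁻¹ w)
    rw [h _ hw, mul_zero] at this
    have e1 : mv g (mv g⁻¹ v) = v := by
      unfold mv; rw [Matrix.mulVec_mulVec, ← Units.val_mul, mul_inv_cancel, Units.val_one, Matrix.one_mulVec]
    have e2 : mv g (mv g⁻¹ w) = w := by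
      unfold mv; rw [Matrix.mulVec_mulVec, ← Units.val_mul, mul_inv_cancel, Units.val_one, Matrix.one_mulVec]
    rwa [e1, e2] at this
  · intro h w hw
    have hgw : mv g w ∈ img g W := ⟨w, hw, rfl⟩
    have := hc (mv g⁻¹ v) w
    have e1 : mv g (mv g⁻¹ v) = v := by
      unfold mv; rw [Matrix.mulVec_mulVec, ← Units.val_mul, mul_inv_cancel, Units.val_one, Matrix.one_mulVec]
    rw [e1, h _ hgw] at this
    rcases mul_eq_zero.1 this.symm with h0 | h0
    · exact absurd h0 c.ne_zero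
    · exact h0

end Cfsg.Agent.Lib.Helper9.TWST
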