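import Mathlib
import Cfsg.Agent.Lib.Helper9.TWST

/-!
S5668 (C7 symplectic, owner helper5): form-level symplectic toolkit, part 2 (helper9) = port of `Helper23.TWUT2`:

* `finrank_perpT` : `finrank (perpT W) + finrank W = card (Idx t k)` (`card_Idx : = k ^ t`);
* `perpT_perpT`   : `perpT (perpT W) = W`;   `perpT_inf`, `perpT_le_iff`, `perpT_top`, `perpT_bot`;
* `TIT_iff_le_perpT`, `finrank_le_of_TIT` : a totally isotropic subspace has `2 * finrank ≤ card (Idx t k)`;
* the same on `A = F^k` for `sf` / `perpA`: `finrank_perpA`, `perpA_perpA`, `perpA_anti`, `perpA_sup`, `perpA_inf`,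
  `perpA_le_iff`, `perpA_bot`, `perpA_top`, `sf_symm_zero`.
-/

set_option autoImplicit false
set_option linter.unusedSectionVars false
set_option linter.unusedVariables false

namespace Cfsg.Agent.Lib.Helper9.TWST
open Matrix Cfsg.Geo Cfsg.Agent.Lib.Helper18.AschA89 Cfsg.Agent.Lib.Helper8.TW
open Cfsg.Agent.Lib.Helper25.SpT (sf Jm sfv pr)
open Cfsg.Agent.Lib.Helper5.TWS

variable {F : Type*} [Field F] {t k : ℕ}

/-! ### generic: the perp for an injective Gram matrix -/

section generic2
variable {κ : Type} [Fintype κ] [DecidableEq κ]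

lemma gram_injective (p : κ → κ) (hp : Function.Involutive p) (s : κ → F) (hs : ∀ a, s a * s a = 1)
    (J : Matrix κ κ F) (hJ : ∀ a b, J a b = if b = p a then s a else 0) :
    Function.Injective (fun w : κ → F => J *ᵥ w) := by
  intro w w' h
  funext a
  have := congrFun h (p a)
  simp only at this
  rw [gram_mulVec p s J hJ, gram_mulVec p s J hJ, hp a] at this
  have hne : s (p a) ≠ 0 := by
    intro h0
    have := hs (p a)
    rw [h0, mul_zero] at this
    exact zero_ne_one this
  exact mul_left_cancel₀ hne this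

theorem finrank_perp_generic (J : Matrix κ κ F) (hinj : Function.Injective (fun w : κ → F => J *ᵥ w))
    (W P : Submodule F (κ → F)) (hP : ∀ v, v ∈ P ↔ ∀ w ∈ W, v ⬝ᵥ (J *ᵥ w) = 0) :
    Module.finrank F P + Module.finrank F W = Fintype.card κ := by
  have hinj' : Function.Injective (Matrix.toLin' J) := by
    intro a b h
    apply hinj
    simpa [Matrix.toLin'_apply] using h
  have hmap : P.map (dotProductEquiv F κ).toLinearMap = (W.map (Matrix.toLin' J)).dualAnnihilator := by
    ext φ
    rw [Submodule.mem_map, Submodule.mem_dualAnnihilator]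
    constructor
    · rintro ⟨v, hv', rfl⟩ x hx
      obtain ⟨w, hw, rfl⟩ := Submodule.mem_map.1 hx
      rw [LinearEquiv.coe_coe, dotProductEquiv_apply_apply, Matrix.toLin'_apply]
      exact (hP v).1 hv' w hw
    · intro h
      refine ⟨(dotProductEquiv F κ).symm φ, ?_, by simp⟩
      rw [hP]
      intro w hw
      have := h _ (Submodule.mem_map_of_mem hw)
      have e : φ = dotProductEquiv F κ ((dotProductEquiv F κ).symm φ) := by simp
      rw [e, dotProductEquiv_apply_apply, Matrix.toLin'_apply] at this
      exact this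
  have h1 : Module.finrank F (P.map (dotProductEquiv F κ).toLinearMap) = Module.finrank F P :=
    LinearEquiv.finrank_map_eq (dotProductEquiv F κ) P
  rw [hmap] at h1
  have h2 := Subspace.finrank_add_finrank_dualAnnihilator_eq (W.map (Matrix.toLin' J))
  have h3 : Module.finrank F (W.map (Matrix.toLin' J)) = Module.finrank F W :=
    (Submodule.equivMapOfInjective _ hinj' W).finrank_eq.symm
  rw [h3, h1, Module.finrank_pi] at h2
  omega

end generic2

/-! ### the model `V` -/

lemma card_Idx : Fintype.card (Idx t k) = k ^ t := by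
  unfold Idx
  rw [Fintype.card_fun, Fintype.card_fin, Fintype.card_fin]

/-- **dimension of the perp** -/
theorem finrank_perpT (hk : Even k) (W : Submodule F (Idx t k → F)) :
    Module.finrank F (perpT W) + Module.finrank F W = Fintype.card (Idx t k) :=
  finrank_perp_generic (JT t k F)
    (gram_injective (prT hk) (prT_involutive hk) (sgT hk) (sgT_sq hk) (JT t k F) (JT_eq hk)) W (perpT W)
    (fun v => Iff.rfl)

lemma le_perpT_perpT (hk : Even k) (W : Submodule F (Idx t k → F)) : W ≤ perpT (perpT W) := by
  intro w hw v hv'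
  exact sfT_symm_zero hk (hv' w hw)

/-- **double perp** -/
theorem perpT_perpT (hk : Even k) (W : Submodule F (Idx t k → F)) : perpT (perpT W) = W := by
  symm
  apply Submodule.eq_of_le_of_finrank_eq (le_perpT_perpT hk W)
  have h1 := finrank_perpT hk W
  have h2 := finrank_perpT hk (perpT W)
  omega

theorem perpT_le_iff (hk : Even k) (W W' : Submodule F (Idx t k → F)) :
    perpT W ≤ perpT W' ↔ W' ≤ W := by
  constructor
  · intro h
    have := perpT_anti h
    rwa [perpT_perpT hk, perpT_perpT hk] at this
  · exact perpT_anti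

theorem perpT_inf (hk : Even k) (W W' : Submodule F (Idx t k → F)) :
    perpT (W ⊓ W') = perpT W ⊔ perpT W' := by
  have h := perpT_sup (perpT W) (perpT W')
  rw [perpT_perpT hk, perpT_perpT hk] at h
  rw [← h, perpT_perpT hk]

theorem perpT_bot : perpT (⊥ : Submodule F (Idx t k → F)) = ⊤ := by
  rw [eq_top_iff]
  intro v _ w hw
  rw [Submodule.mem_bot] at hw
  subst hw
  exact sfT_zero_right v

theorem perpT_top (hk : Even k) : perpT (⊤ : Submodule F (Idx t k → F)) = ⊥ := by
  rw [← perpT_bot, perpT_perpT hk]

/-- totally isotropic = contained in its perp -/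
theorem TIT_iff_le_perpT (W : Submodule F (Idx t k → F)) : TIT W ↔ W ≤ perpT W :=
  ⟨fun h v hv' w hw => h v hv' w hw, fun h v hv' w hw => h hv' w hw⟩

/-- a totally isotropic subspace has dimension at most half -/
theorem finrank_le_of_TIT (hk : Even k) {W : Submodule F (Idx t k → F)} (h : TIT W) :
    2 * Module.finrank F W ≤ Fintype.card (Idx t k) := by
  have h1 := finrank_perpT hk W
  have h2 := Submodule.finrank_mono ((TIT_iff_le_perpT W).1 h)
  omega

/-! ### the same on `A = F^k` -/

lemma sf_symm_zero {a b : Fin k → F} (h : sf a b = 0) : sf b a = 0 := by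
  rw [Cfsg.Agent.Lib.Helper25.SpT.sf_skew, h, neg_zero]

theorem perpA_anti {S S' : Submodule F (Fin k → F)} (h : S ≤ S') : perpA S' ≤ perpA S :=
  fun v hv' w hw => hv' w (h hw)

theorem perpA_sup (S S' : Submodule F (Fin k → F)) :
    perpA (S ⊔ S') = perpA S ⊓ perpA S' := by
  apply le_antisymm
  · exact le_inf (perpA_anti le_sup_left) (perpA_anti le_sup_right)
  · rintro v ⟨h1, h2⟩ w hw
    obtain ⟨a, ha, b, hb, rfl⟩ := Submodule.mem_sup.1 hw
    rw [Cfsg.Agent.Lib.Helper25.SpT.sf_add_right, h1 a ha, h2 b hb, add_zero]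

theorem finrank_perpA (hk : Even k) (S : Submodule F (Fin k → F)) :
    Module.finrank F (perpA S) + Module.finrank F S = k := by
  have := finrank_perp_generic (Jm k : Matrix (Fin k) (Fin k) F)
    (gram_injective (pr hk) (pr_involutive hk) (sg hk) (sg_sq hk) (Jm k) (Jm_eq hk)) S (perpA S)
    (fun v => Iff.rfl)
  rwa [Fintype.card_fin] at this

lemma le_perpA_perpA (S : Submodule F (Fin k → F)) : S ≤ perpA (perpA S) := by
  intro w hw v hv'
  exact sf_symm_zero (hv' w hw)

theorem perpA_perpA (hk : Even k) (S : Submodule F (Fin k → F)) : perpA (perpA S) = S := by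
  symm
  apply Submodule.eq_of_le_of_finrank_eq (le_perpA_perpA S)
  have h1 := finrank_perpA hk S
  have h2 := finrank_perpA hk (perpA S)
  omega

theorem perpA_le_iff (hk : Even k) (S S' : Submodule F (Fin k → F)) :
    perpA S ≤ perpA S' ↔ S' ≤ S := by
  constructor
  · intro h
    have := perpA_anti h
    rwa [perpA_perpA hk, perpA_perpA hk] at this
  · exact perpA_anti

theorem perpA_inf (hk : Even k) (S S' : Submodule F (Fin k → F)) :
    perpA (S ⊓ S') = perpA S ⊔ perpA S' := by
  have h := perpA_sup (perpA S) (perpA S')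
  rw [perpA_perpA hk, perpA_perpA hk] at h
  rw [← h, perpA_perpA hk]

theorem perpA_bot : perpA (⊥ : Submodule F (Fin k → F)) = ⊤ := by
  rw [eq_top_iff]
  intro v _ w hw
  rw [Submodule.mem_bot] at hw
  subst hw
  exact Cfsg.Agent.Lib.Helper25.SpT.sf_zero_right v

theorem perpA_top (hk : Even k) : perpA (⊤ : Submodule F (Fin k → F)) = ⊥ := by
  rw [← perpA_bot, perpA_perpA hk]

end Cfsg.Agent.Lib.Helper9.TWST
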