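import Mathlib
import Cfsg.Agent.Lib.Helper9.TWST2
import Cfsg.Agent.Lib.Helper22.TWQStab

/-!
S5668 (C7 symplectic, owner helper5): form-level symplectic toolkit, part 3 (helper9) = port of `Helper23.TWUT3`:
the ADJOINT CRITERION and the standard elements of `G` which are isometries / similitudes.

* `simT_iff_adjT`  : `(∀ u v, sfT (A u) (A v) = c * sfT u v) ↔ adjT hk A * A = c • 1`;  `simA_iff_adjA` (for `sf`);
* `mem_GSV_iff`, `mem_DSV_iff`, `mem_GSA_iff`, `mem_DSA_iff` : the groups by the adjoint;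
* `adjT_ptens`, `adjT_fperm`;
* `slotGL_mem_GSV`, `slotGL_mem_DSV`, `ptensGL_mem_GSV`, `wrFpermGL_mem_GSV`, `mem_GSV_of_val_fperm`.
-/

set_option autoImplicit false
set_option linter.unusedSectionVars false
set_option linter.unusedVariables false

namespace Cfsg.Agent.Lib.Helper9.TWST
open Matrix Cfsg.Geo Cfsg.Agent.Lib.Helper18.AschA89 Cfsg.Agent.Lib.Helper20.AschLeaf Cfsg.Agent.Lib.Helper8.TW
open Cfsg.Agent.Lib.Helper25.SpT (sf Jm sfv pr)
open Cfsg.Agent.Lib.Helper5.TWS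

variable {F : Type*} [Field F] {t k : ℕ}

section generic3
variable {κ : Type} [Fintype κ] [DecidableEq κ]

lemma form_nondeg_right (J : Matrix κ κ F) (hinj : Function.Injective (fun w : κ → F => J *ᵥ w))
    {w : κ → F} (h : ∀ u : κ → F, u ⬝ᵥ (J *ᵥ w) = 0) : w = 0 := by
  apply hinj
  simp only
  rw [Matrix.mulVec_zero]
  funext a
  have := h (Pi.single a 1)
  rw [single_dotProduct, one_mul] at this
  exact this

/-- **the adjoint criterion** for similitudes -/
theorem sim_iff_adjG (p : κ → κ) (hp : Function.Involutive p) (s : κ → F) (ε : F) (hε : ε * ε = 1)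
    (hs : ∀ a, s a * s a = 1) (hsp : ∀ a, s (p a) = ε * s a)
    (J : Matrix κ κ F) (hJ : ∀ a b, J a b = if b = p a then s a else 0)
    (A : Matrix κ κ F) (c : F) :
    (∀ u v : κ → F, (A *ᵥ u) ⬝ᵥ (J *ᵥ (A *ᵥ v)) = c * (u ⬝ᵥ (J *ᵥ v))) ↔ adjG p s A * A = c • 1 := by
  constructor
  · intro h
    have h1 : ∀ v : κ → F, (adjG p s A * A) *ᵥ v = (c • (1 : Matrix κ κ F)) *ᵥ v := by
      intro v
      rw [← sub_eq_zero]
      apply form_nondeg_right J (gram_injective p hp s hs J hJ)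
      intro u
      rw [Matrix.mulVec_sub, dotProduct_sub, sub_eq_zero, ← Matrix.mulVec_mulVec,
        ← form_mulVec_left p hp s ε hε hs hsp J hJ, h, Matrix.smul_mulVec, Matrix.one_mulVec,
        Matrix.mulVec_smul, dotProduct_smul, smul_eq_mul]
    apply Matrix.toLin'.injective
    apply LinearMap.ext
    intro v
    rw [Matrix.toLin'_apply, Matrix.toLin'_apply]
    exact h1 v
  · intro h u v
    have e : adjG p s A *ᵥ (A *ᵥ v) = c • v := by
      rw [Matrix.mulVec_mulVec, h, Matrix.smul_mulVec, Matrix.one_mulVec]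
    rw [form_mulVec_left p hp s ε hε hs hsp J hJ, e, Matrix.mulVec_smul, dotProduct_smul, smul_eq_mul]

end generic3

/-- the adjoint criterion on `V` -/
theorem simT_iff_adjT (hk : Even k) (A : Matrix (Idx t k) (Idx t k) F) (c : F) :
    (∀ u v, sfT (A *ᵥ u) (A *ᵥ v) = c * sfT u v) ↔ adjT hk A * A = c • 1 :=
  sim_iff_adjG (prT hk) (prT_involutive hk) (sgT hk) ((-1) ^ t) (neg_one_pow_sq t) (sgT_sq hk) (sgT_prT hk)
    (JT t k F) (JT_eq hk) A c

theorem isomT_iff_adjT (hk : Even k) (A : Matrix (Idx t k) (Idx t k) F) :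
    (∀ u v, sfT (A *ᵥ u) (A *ᵥ v) = sfT u v) ↔ adjT hk A * A = 1 := by
  have := simT_iff_adjT hk A 1
  simp only [one_mul, one_smul] at this
  exact this

/-- the adjoint criterion on `A = F^k` -/
theorem simA_iff_adjA (hk : Even k) (A : Matrix (Fin k) (Fin k) F) (c : F) :
    (∀ u v, sf (A *ᵥ u) (A *ᵥ v) = c * sf u v) ↔ adjA hk A * A = c • 1 :=
  sim_iff_adjG (pr hk) (pr_involutive hk) (sg hk) (-1) (by ring) (sg_sq hk) (sg_pr hk)
    (Jm k) (Jm_eq hk) A c

theorem isomA_iff_adjA (hk : Even k) (A : Matrix (Fin k) (Fin k) F) :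
    (∀ u v, sf (A *ᵥ u) (A *ᵥ v) = sf u v) ↔ adjA hk A * A = 1 := by
  have := simA_iff_adjA hk A 1
  simp only [one_mul, one_smul] at this
  exact this

/-! ### the groups by the adjoint -/

theorem mem_GSV_iff (hk : Even k) (g : GL (Idx t k) F) :
    g ∈ GSV t k F ↔ adjT hk (g : Matrix (Idx t k) (Idx t k) F) * (g : Matrix (Idx t k) (Idx t k) F) = 1 := by
  rw [mem_GSV]
  exact isomT_iff_adjT hk _

theorem mem_DSV_iff (hk : Even k) (g : GL (Idx t k) F) :
    g ∈ DSV t k F ↔ ∃ c : Fˣ, adjT hk (g : Matrix (Idx t k) (Idx t k) F) * (g : Matrix (Idx t k) (Idx t k) F) =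
      (c : F) • 1 := by
  rw [mem_DSV]
  constructor
  · rintro ⟨c, hc⟩
    exact ⟨c, (simT_iff_adjT hk _ _).1 hc⟩
  · rintro ⟨c, hc⟩
    exact ⟨c, (simT_iff_adjT hk _ _).2 hc⟩

theorem mem_GSA_iff (hk : Even k) (g : GL (Fin k) F) :
    g ∈ GSA k F ↔ adjA hk (g : Matrix (Fin k) (Fin k) F) * (g : Matrix (Fin k) (Fin k) F) = 1 := by
  rw [mem_GSA]
  exact isomA_iff_adjA hk _

theorem mem_DSA_iff (hk : Even k) (g : GL (Fin k) F) :
    g ∈ DSA k F ↔ ∃ c : Fˣ, adjA hk (g : Matrix (Fin k) (Fin k) F) * (g : Matrix (Fin k) (Fin k) F) =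
      (c : F) • 1 := by
  rw [mem_DSA]
  constructor
  · rintro ⟨c, hc⟩
    exact ⟨c, (simA_iff_adjA hk _ _).1 hc⟩
  · rintro ⟨c, hc⟩
    exact ⟨c, (simA_iff_adjA hk _ _).2 hc⟩

/-! ### standard elements -/

lemma adjT_ptens (hk : Even k) (gs : Fin t → Matrix (Fin k) (Fin k) F) :
    adjT hk (ptens k t gs) = ptens k t (fun j => adjA hk (gs j)) := by
  funext x x'
  simp only [adjT_apply, ptens_apply, adjA_apply]
  unfold sgT prT
  rw [← Finset.prod_mul_distrib, ← Finset.prod_mul_distrib]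

lemma sgT_comp_perm (hk : Even k) (σ : Equiv.Perm (Fin t)) (x : Idx t k) :
    (sgT hk (x ∘ σ) : F) = sgT hk x := by
  unfold sgT
  exact Equiv.prod_comp σ (fun j => (sg hk (x j) : F))

lemma adjT_fperm (hk : Even k) (σ : Equiv.Perm (Fin t)) :
    adjT hk (fperm (F := F) k t σ) = fperm k t σ⁻¹ := by
  funext x x'
  simp only [adjT_apply, fperm_apply]
  have e1 : (prT hk x = prT hk x' ∘ σ) ↔ (x = x' ∘ σ) := by
    constructor
    · intro h
      funext j
      have := congrFun h j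
      unfold prT at this
      exact (pr_involutive hk).injective this
    · rintro rfl
      rfl
  have e2 : (x = x' ∘ σ) ↔ (x' = x ∘ ((σ⁻¹ : Equiv.Perm (Fin t)) : Fin t → Fin t)) := by
    constructor
    · rintro rfl
      funext j
      simp
    · intro h
      rw [h]
      funext j
      simp
  by_cases h : x = x' ∘ σ
  · rw [if_pos (e1.2 h), if_pos (e2.1 h), mul_one, h, sgT_comp_perm, sgT_sq]
  · rw [if_neg (fun h' => h (e1.1 h')), if_neg (fun h' => h (e2.2 h')), mul_zero]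

theorem slotGL_mem_GSV (hk : Even k) (i : Fin t) {α : GL (Fin k) F} (hα : α ∈ GSA k F) :
    slotGL i α ∈ GSV t k F := by
  rw [mem_GSV_iff hk, slotGL_val, adjT_slot hk, slot_mul, (mem_GSA_iff hk α).1 hα, slot_one]

theorem slotGL_mem_DSV (hk : Even k) (i : Fin t) {α : GL (Fin k) F} (hα : α ∈ DSA k F) :
    slotGL i α ∈ DSV t k F := by
  obtain ⟨c, hc⟩ := (mem_DSA_iff hk α).1 hα
  rw [mem_DSV_iff hk]
  refine ⟨c, ?_⟩
  rw [slotGL_val, adjT_slot hk, slot_mul, hc, slot_smul, slot_one]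

theorem ptensGL_mem_GSV (hk : Even k) {gs : Fin t → GL (Fin k) F} (h : ∀ j, gs j ∈ GSA k F) :
    Cfsg.Agent.Lib.Helper22.TWQLeaf.ptensGL gs ∈ GSV t k F := by
  rw [mem_GSV_iff hk, Cfsg.Agent.Lib.Helper22.TWQLeaf.ptensGL_val, adjT_ptens hk, ptens_mul]
  have : (fun i => adjA hk ((gs i : GL (Fin k) F) : Matrix (Fin k) (Fin k) F) *
      ((gs i : GL (Fin k) F) : Matrix (Fin k) (Fin k) F)) = fun _ => (1 : Matrix (Fin k) (Fin k) F) := by
    funext i
    exact (mem_GSA_iff hk (gs i)).1 (h i)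
  rw [this, ptens_one]

theorem wrFpermGL_mem_GSV (hk : Even k) (σ : Equiv.Perm (Fin t)) :
    (wrFpermGL k t σ : GL (Idx t k) F) ∈ GSV t k F := by
  rw [mem_GSV_iff hk]
  show adjT hk (fperm k t σ) * fperm k t σ = 1
  rw [adjT_fperm hk, wr_fperm_inv_mul]

/-- any unit whose matrix is a factor permutation is an isometry -/
theorem mem_GSV_of_val_fperm (hk : Even k) (σ : Equiv.Perm (Fin t)) {g : GL (Idx t k) F}
    (hg : (g : Matrix (Idx t k) (Idx t k) F) = fperm k t σ) : g ∈ GSV t k F := by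
  rw [mem_GSV_iff hk, hg, adjT_fperm hk, wr_fperm_inv_mul]

end Cfsg.Agent.Lib.Helper9.TWST
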