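/-
helper9: S4540 leaf (Z) `two_pow_succ_dvd_rsum` (planner helper1, statement frozen in
`notes/S4540_Z.lean`).  A real element `u = ∑ A i j * eps i j` of `ℤ[ω]`, `ω` a `2`-power root of
unity, with `u / 2^h` in the local ideal at a prime over `2`, has rational coordinate divisible by
`2^(h+1)`.
-/
import Mathlib
import Cfsg.Agent.Lib.Helper23.SubsecG

set_option autoImplicit false

namespace Cfsg.Agent.Lib.Helper9.TwoMajZ

open Cfsg Cfsg.Agent.CharLib Cfsg.Agent.Lib.Helper24 Cfsg.Agent.Lib.Helper6 Cfsg.Agent.Lib.Helper23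
open Cfsg.Agent.Lib.Helper23.Subsec
open scoped ComplexConjugate
open Polynomial

variable {M : Ideal AlgInt}

/-! ### generalities -/

theorem isIntegral_aeval {ω : ℂ} (hω : IsIntegral ℤ ω) (g : ℤ[X]) : IsIntegral ℤ (aeval ω g) := by
  have h1 : aeval ω g ∈ Algebra.adjoin ℤ ({ω} : Set ℂ) := aeval_mem_adjoin_singleton ℤ ω
  have h2 : Algebra.adjoin ℤ ({ω} : Set ℂ) ≤ integralClosure ℤ ℂ := by
    apply Algebra.adjoin_le
    intro x hx
    rw [Set.mem_singleton_iff] at hx
    rw [hx]
    exact hω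
  exact h2 h1

theorem memLocalRing_aeval [hp : M.IsPrime] {ω : ℂ} (hω : IsIntegral ℤ ω) (g : ℤ[X]) :
    MemLocalRing M (aeval ω g) :=
  memLocalRing_of_algInt (M := M) ⟨_, isIntegral_aeval hω g⟩ hp.one_notMem

theorem memLocalIdeal_natCast_prime' {p : ℕ} (hM : IsPModular p M) : MemLocalIdeal M (p : ℂ) := by
  have hprime : M.IsPrime := isPrime_of_isPModular hM
  have h : MemLocalIdeal M (((p : AlgInt) : ℂ)) := (memLocalIdeal_coe_iff _).mpr hM.2.2
  simpa using h

theorem memLocalIdeal_two (hM : IsPModular 2 M) : MemLocalIdeal M (2 : ℂ) := by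
  have h := memLocalIdeal_natCast_prime' hM
  have h2 : (((2 : ℕ)) : ℂ) = 2 := by norm_num
  rw [h2] at h
  exact h

theorem memLocalIdeal_intCast_iff (hM : IsPModular 2 M) (k : ℤ) :
    MemLocalIdeal M (k : ℂ) ↔ (2 : ℤ) ∣ k := by
  have hprime : M.IsPrime := isPrime_of_isPModular hM
  have hint : ∀ j : ℤ, MemLocalRing M (j : ℂ) := fun j =>
    memLocalRing_of_algInt (M := M) ⟨(j : ℂ), isIntegral_algebraMap (R := ℤ) (A := ℂ) (x := j)⟩
      hprime.one_notMem
  constructor
  · intro h
    by_contra hodd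
    have h1 : Odd k := by
      rw [← Int.not_even_iff_odd, even_iff_two_dvd]; exact hodd
    obtain ⟨j, hj⟩ := h1
    apply not_memLocalIdeal_one (M := M)
    have h2 : (1 : ℂ) = (k : ℂ) - (2 : ℂ) * (j : ℂ) := by
      rw [hj]; push_cast; ring
    rw [h2]
    exact memLocalIdeal_sub h (memLocalIdeal_mul_right (memLocalIdeal_two hM) (hint j))
  · rintro ⟨j, rfl⟩
    push_cast
    exact memLocalIdeal_mul_right (memLocalIdeal_two hM) (hint j)

theorem memLocalIdeal_of_pow' [hp : M.IsPrime] {z : ℂ} (hz : MemLocalRing M z) (k : ℕ)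
    (h : MemLocalIdeal M (z ^ k)) : MemLocalIdeal M z := by
  induction k with
  | zero => rw [pow_zero] at h; exact absurd h not_memLocalIdeal_one
  | succ k ih =>
    rw [pow_succ] at h
    have hk : MemLocalRing M (z ^ k) := by
      clear ih h
      induction k with
      | zero => rw [pow_zero]; exact memLocalRing_one
      | succ k ih => rw [pow_succ]; exact memLocalRing_mul ih hz
    rcases memLocalIdeal_or_of_mul hk hz h with h1 | h1
    · exact ih h1
    · exact h1

/-- a polynomial over `ℤ` which vanishes modulo `2` is divisible by `2` -/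
theorem C_two_dvd_of_map_eq_zero (D : ℤ[X]) (h : D.map (Int.castRingHom (ZMod 2)) = 0) :
    C (2 : ℤ) ∣ D := by
  rw [C_dvd_iff_dvd_coeff]
  intro i
  have h1 : (D.map (Int.castRingHom (ZMod 2))).coeff i = 0 := by rw [h, coeff_zero]
  rw [coeff_map] at h1
  have h2 : ((D.coeff i : ℤ) : ZMod 2) = 0 := by simpa using h1
  have := (ZMod.intCast_zmod_eq_zero_iff_dvd (D.coeff i) 2).mp h2
  exact_mod_cast this

/-- the freshman's dream: `(X - 1)^(2^s) = X^(2^s) + 1 + 2 G` with `G(1) = -1` -/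
theorem exists_freshman (s : ℕ) : ∃ G : ℤ[X],
    (X - C 1) ^ (2 ^ s) = X ^ (2 ^ s) + 1 + C (2 : ℤ) * G ∧ G.eval 1 = -1 := by
  have h0 : (((X - C 1) ^ (2 ^ s) - (X ^ (2 ^ s) + 1) : ℤ[X])).map (Int.castRingHom (ZMod 2)) = 0 := by
    have : Fact (Nat.Prime 2) := ⟨Nat.prime_two⟩
    rw [Polynomial.map_sub, Polynomial.map_pow, Polynomial.map_sub, Polynomial.map_add,
      Polynomial.map_pow, map_X, map_C, map_one, Polynomial.map_one, sub_pow_char_pow, C_1,
      one_pow]
    have h2 : (2 : (ZMod 2)[X]) = 0 := CharTwo.two_eq_zero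
    linear_combination (-1 : (ZMod 2)[X]) * h2
  obtain ⟨G, hG⟩ := C_two_dvd_of_map_eq_zero _ h0
  refine ⟨G, ?_, ?_⟩
  · rw [← hG]; ring
  · have h1 := congrArg (eval 1) hG
    have hpos : 2 ^ s ≠ 0 := pow_ne_zero _ two_ne_zero
    simp only [eval_sub, eval_pow, eval_X, eval_C, eval_add, eval_one, eval_mul, sub_self,
      one_pow, zero_pow hpos] at h1
    omega

/-! ### the arithmetic of `ℤ[ω]` at the prime over `2` -/

section core

variable {ω : ℂ} {s : ℕ}

theorem isIntegral_of_pow_eq_neg_one (hωn : ω ^ (2 ^ s) = -1) : IsIntegral ℤ ω := by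
  refine ⟨X ^ (2 ^ s) + 1, ?_, ?_⟩
  · have : (X ^ (2 ^ s) + 1 : ℤ[X]) = X ^ (2 ^ s) + C 1 := by simp
    rw [this]
    exact monic_X_pow_add_C 1 (pow_ne_zero _ two_ne_zero)
  · simp [hωn]

theorem memLocalIdeal_sub_one (hM : IsPModular 2 M) (hωn : ω ^ (2 ^ s) = -1) :
    MemLocalIdeal M (ω - 1) := by
  have hprime : M.IsPrime := isPrime_of_isPModular hM
  have hω : IsIntegral ℤ ω := isIntegral_of_pow_eq_neg_one hωn
  obtain ⟨G, hG, -⟩ := exists_freshman s
  have h1 := congrArg (aeval ω) hG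
  simp only [map_pow, map_sub, aeval_X, aeval_C, map_add, map_one, map_mul] at h1
  simp only [algebraMap_int_eq, eq_intCast, Int.cast_one, Int.cast_ofNat] at h1
  have h2 : (ω - 1) ^ (2 ^ s) = 2 * aeval ω G := by
    rw [h1, hωn]; ring
  have hR : MemLocalRing M (ω - 1) := by
    have : IsIntegral ℤ (ω - 1) := hω.sub isIntegral_one
    exact memLocalRing_of_algInt (M := M) ⟨_, this⟩ hprime.one_notMem
  apply memLocalIdeal_of_pow' hR (2 ^ s)
  rw [h2]
  exact memLocalIdeal_mul_right (memLocalIdeal_two hM) (memLocalRing_aeval hω G)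

/-- (1) `g(ω) ∈ M ⇔ g(1)` even -/
theorem memLocalIdeal_aeval_iff (hM : IsPModular 2 M) (hωn : ω ^ (2 ^ s) = -1) (g : ℤ[X]) :
    MemLocalIdeal M (aeval ω g) ↔ (2 : ℤ) ∣ g.eval 1 := by
  have hprime : M.IsPrime := isPrime_of_isPModular hM
  have hω : IsIntegral ℤ ω := isIntegral_of_pow_eq_neg_one hωn
  obtain ⟨q, hq⟩ := X_sub_C_dvd_sub_C_eval (a := (1 : ℤ)) (p := g)
  have h1 := congrArg (aeval ω) hq
  simp only [map_sub, aeval_C, map_mul, aeval_X] at h1
  simp only [algebraMap_int_eq, eq_intCast, Int.cast_one] at h1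
  have h2 : aeval ω g = ((g.eval 1 : ℤ) : ℂ) + (ω - 1) * aeval ω q := by
    linear_combination h1
  have h3 : MemLocalIdeal M ((ω - 1) * aeval ω q) :=
    memLocalIdeal_mul_right (memLocalIdeal_sub_one hM hωn) (memLocalRing_aeval hω q)
  rw [← memLocalIdeal_intCast_iff hM]
  constructor
  · intro h
    have : ((g.eval 1 : ℤ) : ℂ) = aeval ω g - (ω - 1) * aeval ω q := by rw [h2]; ring
    rw [this]
    exact memLocalIdeal_sub h h3
  · intro h
    rw [h2]
    exact memLocalIdeal_add h h3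

/-- (2), one step: `f(ω) / 2` a local integer, `deg f < 2^s` ⇒ `2 ∣ f` -/
theorem C_two_dvd_of_memLocalRing (hM : IsPModular 2 M) (hωn : ω ^ (2 ^ s) = -1) (f : ℤ[X])
    (hdeg : f.natDegree < 2 ^ s) (hloc : MemLocalRing M (aeval ω f / 2)) : C (2 : ℤ) ∣ f := by
  classical
  have hprime : M.IsPrime := isPrime_of_isPModular hM
  have hω : IsIntegral ℤ ω := isIntegral_of_pow_eq_neg_one hωn
  by_cases hf0 : f.map (Int.castRingHom (ZMod 2)) = 0
  · exact C_two_dvd_of_map_eq_zero f hf0
  exfalso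
  set fb := f.map (Int.castRingHom (ZMod 2)) with hfb
  set m := fb.rootMultiplicity 1 with hm
  obtain ⟨qb, hqb, hndvd⟩ := exists_eq_pow_rootMultiplicity_mul_and_not_dvd fb hf0 1
  rw [← hm] at hqb
  have hqb0 : qb ≠ 0 := by
    intro h0
    apply hf0
    rw [hqb, h0, mul_zero]
  have hm_lt : m < 2 ^ s := by
    have h1 : fb.natDegree = m + qb.natDegree := by
      conv_lhs => rw [hqb]
      rw [natDegree_mul (pow_ne_zero _ (X_sub_C_ne_zero 1)) hqb0, natDegree_pow,
        natDegree_X_sub_C, mul_one]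
    have h2 : fb.natDegree ≤ f.natDegree := natDegree_map_le
    omega
  obtain ⟨q, hq⟩ := map_surjective (Int.castRingHom (ZMod 2)) ZMod.intCast_surjective qb
  have hD : ((f - (X - C 1) ^ m * q : ℤ[X])).map (Int.castRingHom (ZMod 2)) = 0 := by
    rw [Polynomial.map_sub, Polynomial.map_mul, Polynomial.map_pow, Polynomial.map_sub, map_X,
      map_C, map_one, hq, ← hfb, ← hqb, sub_self]
  obtain ⟨r, hr⟩ := C_two_dvd_of_map_eq_zero _ hD
  have hq1 : ¬ (2 : ℤ) ∣ q.eval 1 := by
    intro h2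
    apply hndvd
    rw [dvd_iff_isRoot, IsRoot.def, ← hq, eval_one_map]
    have := (ZMod.intCast_zmod_eq_zero_iff_dvd (q.eval 1) 2).mpr (by exact_mod_cast h2)
    simpa using this
  have h1 := congrArg (aeval ω) hr
  simp only [map_sub, map_mul, map_pow, aeval_X, aeval_C] at h1
  simp only [algebraMap_int_eq, eq_intCast, Int.cast_one, Int.cast_ofNat] at h1
  have hev : aeval ω f = (ω - 1) ^ m * aeval ω q + 2 * aeval ω r := by
    linear_combination h1
  have hqunit : ¬ MemLocalIdeal M (aeval ω q) := (memLocalIdeal_aeval_iff hM hωn q).not.mpr hq1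
  have hqR : MemLocalRing M (aeval ω q) := memLocalRing_aeval hω q
  have hqinv := memLocalRing_inv hqR hqunit
  have hq0 : aeval ω q ≠ 0 := by
    intro h0
    apply hqunit
    rw [h0]
    exact memLocalIdeal_zero hprime.one_notMem
  have hπR : MemLocalRing M (ω - 1) :=
    memLocalRing_of_memLocalIdeal (memLocalIdeal_sub_one hM hωn)
  have h3 : MemLocalRing M ((ω - 1) ^ m / 2) := by
    have : (ω - 1) ^ m / 2 = (aeval ω f / 2 - aeval ω r) * (aeval ω q)⁻¹ := by
      rw [hev, eq_mul_inv_iff_mul_eq₀ hq0]; ring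
    rw [this]
    exact memLocalRing_mul (memLocalRing_sub hloc (memLocalRing_aeval hω r)) hqinv
  have hpowR : ∀ k : ℕ, MemLocalRing M ((ω - 1) ^ k) := by
    intro k
    induction k with
    | zero => rw [pow_zero]; exact memLocalRing_one
    | succ k ih => rw [pow_succ]; exact memLocalRing_mul ih hπR
  have h4 : MemLocalIdeal M ((ω - 1) ^ (2 ^ s) / 2) := by
    have hn : 2 ^ s = 1 + (2 ^ s - 1 - m) + m := by omega
    have : (ω - 1) ^ (2 ^ s) / 2 = (ω - 1) * ((ω - 1) ^ (2 ^ s - 1 - m) * ((ω - 1) ^ m / 2)) := by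
      conv_lhs => rw [hn, pow_add, pow_add, pow_one]
      ring
    rw [this]
    exact memLocalIdeal_mul_right (memLocalIdeal_sub_one hM hωn) (memLocalRing_mul (hpowR _) h3)
  obtain ⟨G, hG, hG1⟩ := exists_freshman s
  have h5 := congrArg (aeval ω) hG
  simp only [map_pow, map_sub, aeval_X, aeval_C, map_add, map_one, map_mul] at h5
  simp only [algebraMap_int_eq, eq_intCast, Int.cast_one, Int.cast_ofNat] at h5
  have h6 : (ω - 1) ^ (2 ^ s) / 2 = aeval ω G := by
    rw [h5, hωn]; ring
  rw [h6] at h4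
  have h7 := (memLocalIdeal_aeval_iff hM hωn G).mp h4
  rw [hG1] at h7
  omega

/-- (2): `f(ω) / 2^h` a local integer, `deg f < 2^s` ⇒ `2^h ∣ f` -/
theorem C_two_pow_dvd_of_memLocalRing (hM : IsPModular 2 M) (hωn : ω ^ (2 ^ s) = -1) :
    ∀ (h : ℕ) (f : ℤ[X]), f.natDegree < 2 ^ s → MemLocalRing M (aeval ω f / (2 : ℂ) ^ h) →
      C ((2 : ℤ) ^ h) ∣ f := by
  have hprime : M.IsPrime := isPrime_of_isPModular hM
  intro h
  induction h with
  | zero =>
    intro f _ _
    rw [pow_zero, C_1]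
    exact one_dvd f
  | succ h ih =>
    intro f hdeg hloc
    have h2R : MemLocalRing M (2 : ℂ) := memLocalRing_of_memLocalIdeal (memLocalIdeal_two hM)
    have h1 : MemLocalRing M (aeval ω f / (2 : ℂ) ^ h) := by
      have : aeval ω f / (2 : ℂ) ^ h = 2 * (aeval ω f / (2 : ℂ) ^ (h + 1)) := by
        rw [pow_succ]; field_simp
      rw [this]
      exact memLocalRing_mul h2R hloc
    obtain ⟨f', hf'⟩ := ih f hdeg h1
    have h20 : ((2 : ℤ) ^ h) ≠ 0 := pow_ne_zero _ two_ne_zero
    have hdeg' : f'.natDegree < 2 ^ s := by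
      rw [hf', natDegree_C_mul h20] at hdeg
      exact hdeg
    have hev' : aeval ω f = (2 : ℂ) ^ h * aeval ω f' := by
      have h5 := congrArg (aeval ω) hf'
      rw [map_mul, aeval_C] at h5
      rw [h5]
      simp
    have h3 : MemLocalRing M (aeval ω f' / 2) := by
      have : aeval ω f' / 2 = aeval ω f / (2 : ℂ) ^ (h + 1) := by
        rw [hev', pow_succ]
        field_simp
      rw [this]
      exact hloc
    obtain ⟨f'', hf''⟩ := C_two_dvd_of_memLocalRing hM hωn f' hdeg' h3
    refine ⟨f'', ?_⟩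
    rw [hf', hf'', pow_succ, C_mul]
    ring

end core

/-! ### the leaf -/

theorem sum_antisymm {ι : Type*} [Fintype ι] (g : ι → ι → ℤ) (h : ∀ i j, g j i = - g i j) :
    ∑ i, ∑ j, g i j = 0 := by
  have h1 : ∑ i, ∑ j, g i j = ∑ i, ∑ j, g j i := Finset.sum_comm
  have h2 : ∑ i, ∑ j, g j i = - ∑ i, ∑ j, g i j := by
    rw [← Finset.sum_neg_distrib]
    apply Finset.sum_congr rfl
    intro i _
    rw [← Finset.sum_neg_distrib]
    apply Finset.sum_congr rfl
    intro j _
    exact h i j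
  omega

/-- (Z) -/
theorem two_pow_succ_dvd_rsum {M : Ideal AlgInt} (hM : IsPModular 2 M) {ι : Type*} [Fintype ι]
    (A : ι → ι → ℤ) (eps : ι → ι → ℂ) (hA : ∀ i j, A i j = A j i)
    (heps : ∀ i j, eps j i = conj (eps i j)) (t : ℕ) (heps2 : ∀ i j, eps i j ^ (2 ^ t) = 1)
    (h : ℕ) (hloc : MemLocalIdeal M ((∑ i, ∑ j, (A i j : ℂ) * eps i j) / (2 : ℂ) ^ h)) :
    (2 : ℤ) ^ (h + 1) ∣ ∑ i, ∑ j, A i j * rVal (eps i j) := by
  classical
  have hprime : M.IsPrime := isPrime_of_isPModular hM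
  set n : ℕ := 2 ^ t with hn
  have hnpos : 0 < n := pow_pos (by norm_num) t
  have hN : 2 * n ≠ 0 := by omega
  have : NeZero (2 * n) := ⟨hN⟩
  set ω : ℂ := Complex.exp (2 * Real.pi * Complex.I / ((2 * n : ℕ) : ℂ)) with hωdef
  have hω : IsPrimitiveRoot ω (2 * n) := Complex.isPrimitiveRoot_exp (2 * n) hN
  have hωn : ω ^ (2 ^ t) = -1 := by
    rw [← hn]
    have h1 : (ω ^ n - 1) * (ω ^ n + 1) = 0 := by
      have : (ω ^ n) ^ 2 = 1 := by rw [← pow_mul, mul_comm]; exact hω.pow_eq_one
      linear_combination this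
    rcases mul_eq_zero.mp h1 with h2 | h2
    · exfalso
      exact hω.pow_ne_one_of_pos_of_lt hnpos.ne' (by omega) (sub_eq_zero.mp h2)
    · exact eq_neg_of_add_eq_zero_left h2
  have hωint : IsIntegral ℤ ω := isIntegral_of_pow_eq_neg_one hωn
  -- exponents
  have hex : ∀ i j, ∃ e < 2 * n, ω ^ e = eps i j := by
    intro i j
    apply hω.eq_pow_of_pow_eq_one
    rw [mul_comm, pow_mul, hn, heps2, one_pow]
  choose e he_lt he using hex
  -- the relation between `e i j` and `e j i`
  have hsum : ∀ i j, e i j + e j i = 0 ∨ e i j + e j i = 2 * n := by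
    intro i j
    have h1 : ‖eps i j‖ = 1 :=
      Complex.norm_eq_one_of_pow_eq_one (heps2 i j) (pow_ne_zero _ two_ne_zero)
    have h2 : eps i j * eps j i = 1 := by
      rw [heps i j, Complex.mul_conj, Complex.normSq_eq_norm_sq, h1]
      norm_num
    rw [← he i j, ← he j i, ← pow_add] at h2
    have h3 := (hω.pow_eq_one_iff_dvd _).mp h2
    obtain ⟨c, hc⟩ := h3
    have h4 := he_lt i j
    have h5 := he_lt j i
    rcases Nat.lt_or_ge c 1 with hc1 | hc1
    · left
      have : c = 0 := by omega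
      rw [hc, this, mul_zero]
    · right
      rcases Nat.lt_or_ge c 2 with hc2 | hc2
      · have : c = 1 := by omega
        rw [hc, this, mul_one]
      · exfalso
        have : 2 * n * 2 ≤ 2 * n * c := Nat.mul_le_mul_left _ hc2
        omega
  -- `rVal` in terms of the exponent
  have hrv : ∀ i j, rVal (eps i j) = if e i j = 0 then 1 else if e i j = n then -1 else 0 := by
    intro i j
    unfold rVal
    have h1 : eps i j = 1 ↔ e i j = 0 := by
      rw [← he i j]
      constructor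
      · intro h1
        have := hω.pow_inj (he_lt i j) (by omega : 0 < 2 * n) (by rw [h1, pow_zero])
        exact this
      · intro h1; rw [h1, pow_zero]
    have h2 : eps i j = -1 ↔ e i j = n := by
      rw [← he i j]
      constructor
      · intro h1
        have := hω.pow_inj (he_lt i j) (by omega : n < 2 * n) (by rw [h1, hn, hωn])
        exact this
      · intro h1; rw [h1, hn, hωn]
    simp only [h1, h2]
  -- the polynomial
  set sg : ℕ → ℤ := fun k => if k < n then 1 else -1 with hsg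
  set f : ℤ[X] := ∑ i, ∑ j, C (A i j * sg (e i j)) * X ^ (e i j % n) with hf
  have hfdeg : f.natDegree < 2 ^ t := by
    rw [← hn]
    have h1 : f.natDegree ≤ n - 1 := by
      apply natDegree_sum_le_of_forall_le
      intro i _
      apply natDegree_sum_le_of_forall_le
      intro j _
      refine le_trans (natDegree_C_mul_X_pow_le _ _) ?_
      have := Nat.mod_lt (e i j) hnpos
      omega
    omega
  have hfev : aeval ω f = ∑ i, ∑ j, (A i j : ℂ) * eps i j := by
    rw [hf, map_sum]
    apply Finset.sum_congr rfl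
    intro i _
    rw [map_sum]
    apply Finset.sum_congr rfl
    intro j _
    rw [map_mul, aeval_C, map_pow, aeval_X, eq_intCast, ← he i j]
    by_cases hlt : e i j < n
    · rw [hsg]
      simp only [if_pos hlt]
      rw [Nat.mod_eq_of_lt hlt]
      push_cast
      ring
    · rw [hsg]
      simp only [if_neg hlt]
      have h1 : e i j % n = e i j - n := by
        rw [Nat.mod_eq_sub_mod (by omega), Nat.mod_eq_of_lt (by have := he_lt i j; omega)]
      have h2 : ω ^ (e i j) = ω ^ (e i j - n) * ω ^ n := by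
        rw [← pow_add]; congr 1; omega
      rw [h1, h2, hn, hωn]
      push_cast
      ring
  have hf1 : f.eval 1 = ∑ i, ∑ j, A i j * sg (e i j) := by
    rw [hf, eval_finsetSum]
    apply Finset.sum_congr rfl
    intro i _
    rw [eval_finsetSum]
    apply Finset.sum_congr rfl
    intro j _
    rw [eval_mul, eval_C, eval_pow, eval_X, one_pow, mul_one]
  -- the antisymmetric difference
  have hdiff : ∑ i, ∑ j, A i j * sg (e i j) = ∑ i, ∑ j, A i j * rVal (eps i j) := by
    have h1 : ∑ i, ∑ j, (A i j * sg (e i j) - A i j * rVal (eps i j)) = 0 := by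
      apply sum_antisymm
      intro i j
      rw [hrv i j, hrv j i, hA j i, hsg]
      have h2 := hsum i j
      have h3 := he_lt i j
      have h4 := he_lt j i
      simp only []
      split_ifs <;> omega
    have h2 : ∑ i, ∑ j, (A i j * sg (e i j) - A i j * rVal (eps i j)) =
        ∑ i, ∑ j, A i j * sg (e i j) - ∑ i, ∑ j, A i j * rVal (eps i j) := by
      simp_rw [Finset.sum_sub_distrib]
    omega
  -- the arithmetic
  rw [← hdiff, ← hf1]
  rw [← hfev] at hloc
  obtain ⟨f', hf'⟩ := C_two_pow_dvd_of_memLocalRing hM hωn h f hfdeg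
    (memLocalRing_of_memLocalIdeal hloc)
  have h1 : aeval ω f' = aeval ω f / (2 : ℂ) ^ h := by
    have h5 := congrArg (aeval ω) hf'
    rw [map_mul, aeval_C] at h5
    rw [h5]
    simp
  rw [← h1] at hloc
  obtain ⟨k, hk⟩ := (memLocalIdeal_aeval_iff hM hωn f').mp hloc
  refine ⟨k, ?_⟩
  rw [hf', eval_mul, eval_C, hk, pow_succ]
  ring

end Cfsg.Agent.Lib.Helper9.TwoMajZ
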