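import Mathlib
import Cfsg.Prelude.Def_GeometricClasses
import Cfsg.Agent.Lib.Helper25.C3O2Defs
import Cfsg.Agent.Lib.Helper27.C3u2CW0
import Cfsg.Agent.Lib.Helper25.OEFsaH1
import Cfsg.Agent.Lib.Helper22.C3O2Tools

/-!
C3O2 market (planner helper25, S5825 conjunct (7)), leaf **MOVE** `move`: a totally singular `F`-plane `⟨x, y⟩`
which is not an `E`-line: some `E`-Siegel map fixes a vector `x₂ = α x + β y` of it and moves
`y₂ = β δ x + α y` off `y₂^⊥`.  Plan: notes/C3O2_plan.md §MOVE.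
-/

set_option autoImplicit false
set_option linter.unusedSectionVars false
set_option linter.unusedVariables false

namespace Cfsg.Agent.Lib.Helper9.C3O2Leaf
open Matrix Module QuadraticMap Cfsg Cfsg.Geo Cfsg.Agent.Lib.Helper25.OEFsa
  Cfsg.Agent.Lib.Helper25.CD Cfsg.Agent.Lib.Helper25.Siegel
  Cfsg.Agent.Lib.Helper5.NSMax Cfsg.Agent.Lib.Helper5.TSMax Cfsg.Agent.Lib.Helper25.AutO
  Cfsg.Agent.Lib.Helper25.C3O2

variable {F : Type*} [Field F] [Fintype F] {E : Type*} [Field E] [Algebra F E] [FiniteDimensional F E]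
  {ι : Type} [Fintype ι] [DecidableEq ι]
  {ρ : E →ₐ[F] Matrix ι ι F} {Q : QuadraticForm F (ι → F)} {B : (ι → F) → (ι → F) → E} {QE : (ι → F) → E}
  {κ : E} {δ : F}

/-! ### `F`-scalars through `ρ` -/

theorem smulF_rho (ρ : E →ₐ[F] Matrix ι ι F) (c : F) (y : ι → F) : c • y = ρ (algebraMap F E c) *ᵥ y := by
  rw [Algebra.algebraMap_eq_smul_one, map_smul, map_one, Matrix.smul_mulVec, Matrix.one_mulVec]

theorem B_fsmul_right (h : Forms ρ Q B QE) (c : F) (u v : ι → F) : B u (c • v) = algebraMap F E c * B u v := by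
  rw [smulF_rho ρ, h.B_smul_right]

theorem rho_sub_mulVec' (ρ : E →ₐ[F] Matrix ι ι F) (a b : E) (v : ι → F) :
    ρ (a - b) *ᵥ v = ρ a *ᵥ v - ρ b *ᵥ v := by
  rw [map_sub, Matrix.sub_mulVec]

theorem B_sub_right (h : Forms ρ Q B QE) (u v v' : ι → F) : B u (v - v') = B u v - B u v' := by
  rw [sub_eq_add_neg, h.B_add_right, h.B_neg_right, sub_eq_add_neg]

theorem B_sub_left (h : Forms ρ Q B QE) (u u' v : ι → F) : B (u - u') v = B u v - B u' v := by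
  rw [sub_eq_add_neg, h.B_add_left, h.B_neg_left, sub_eq_add_neg]

/-- a non-zero vector `E`-orthogonal to three given vectors -/
theorem exists_perp3 (h : Forms ρ Q B QE) (hE : finrank F E = 2) (hcard : 7 ≤ Fintype.card ι)
    (u v w : ι → F) : ∃ z : ι → F, z ≠ 0 ∧ B u z = 0 ∧ B v z = 0 ∧ B w z = 0 := by
  let L : (ι → F) →ₗ[F] (E × E × E) :=
    { toFun := fun z => (B u z, B v z, B w z)
      map_add' := by
        intro z z'
        rw [h.B_add_right, h.B_add_right, h.B_add_right]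
        rfl
      map_smul' := by
        intro c z
        rw [B_fsmul_right h, B_fsmul_right h, B_fsmul_right h, RingHom.id_apply, Prod.smul_mk,
          Prod.smul_mk, Algebra.smul_def, Algebra.smul_def, Algebra.smul_def] }
  have hlt : finrank F (E × E × E) < finrank F (ι → F) := by
    rw [Module.finrank_prod, Module.finrank_prod, hE, Module.finrank_fintype_fun_eq_card]
    omega
  obtain ⟨z, hz, hz0⟩ := Submodule.exists_mem_ne_zero_of_ne_bot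
    (LinearMap.ker_ne_bot_of_finrank_lt (f := L) hlt)
  have hLz : L z = 0 := LinearMap.mem_ker.mp hz
  have h3 : (B u z, B v z, B w z) = ((0 : E), (0 : E), (0 : E)) := hLz
  simp only [Prod.mk.injEq] at h3
  exact ⟨z, hz0, h3.1, h3.2.1, h3.2.2⟩

/-! ### the basic formula -/

/-- `f(y, T_{a,b} y) = - tr (QE b * B(a,y)^2)` for singular `y` -/
theorem polar_esF (h : Forms ρ Q B QE) (a b y : ι → F) (hy : Q y = 0) :
    polar Q y (esF h a b y) = - Algebra.trace F E (QE b * B a y * B a y) := by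
  rw [esF_apply, polar_sub_right, polar_sub_right, polar_add_right, polar_J_right h, polar_J_right h,
    polar_J_right h, polar_self, hy, h.B_symm y b, h.B_symm y a, mul_comm (B a y) (B b y)]
  rw [smul_zero, zero_add, sub_self, zero_sub]

theorem two_ne_zero_E (h2 : (2 : F) ≠ 0) : (2 : E) ≠ 0 := by
  rw [← map_ofNat (algebraMap F E) 2]
  exact (map_ne_zero (algebraMap F E)).mpr h2

/-- rescaling `b` (TRSQ) -/
theorem core (h : Forms ρ Q B QE) (h2 : (2 : F) ≠ 0) {x₂ y₂ a b : ι → F} (hy₂ : Q y₂ = 0)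
    (hab : B a b = 0) (hax : B a x₂ = 0) (hbx : B b x₂ = 0) (hay : B a y₂ ≠ 0) (hb : QE b ≠ 0) :
    ∃ b' : ι → F, B a b' = 0 ∧ esF h a b' x₂ = x₂ ∧ polar Q y₂ (esF h a b' y₂) ≠ 0 := by
  obtain ⟨l, hl⟩ := Cfsg.Agent.Lib.Helper22.C3O2Leaf.exists_sq_trace_ne (F := F) h2 (QE b * B a y₂ * B a y₂)
    (mul_ne_zero (mul_ne_zero hb hay) hay)
  refine ⟨ρ l *ᵥ b, ?_, ?_, ?_⟩
  · rw [h.B_smul_right, hab, mul_zero]
  · apply esF_fix h hax
    rw [h.B_smul_left, hbx, mul_zero]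
  · rw [polar_esF h _ _ _ hy₂, h.QE_smul, neg_ne_zero]
    have e : l * l * QE b * B a y₂ * B a y₂ = l * l * (QE b * B a y₂ * B a y₂) := by ring
    rw [e]
    exact hl

/-- a non-singular `b` orthogonal to the singular `a` and to `x₂` -/
theorem exists_b (h : Forms ρ Q B QE) (hE : finrank F E = 2) (hcard : 7 ≤ Fintype.card ι)
    (hw1 : W1 ρ B QE) {a : ι → F} (ha0 : a ≠ 0) (ha : QE a = 0) (x₂ : ι → F) :
    ∃ b : ι → F, B a b = 0 ∧ B b x₂ = 0 ∧ QE b ≠ 0 := by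
  obtain ⟨a', ha', haa'⟩ := Cfsg.Agent.Lib.Helper22.C3O2Leaf.exists_partner h ha0 ha
  obtain ⟨b, hb0, hb1, hb2, hb3⟩ := exists_perp3 h hE hcard x₂ a a'
  refine ⟨b, hb2, by rw [h.B_symm]; exact hb1, ?_⟩
  intro hQb
  obtain ⟨c, hc⟩ := hw1 a b ha0 ha hQb hb2
  apply hb0
  have h1 : B a' b = c := by
    rw [hc, h.B_smul_right, h.B_symm a' a, haa', mul_one]
  rw [hb3] at h1
  rw [hc, ← h1, rho_zero_mulVec]

/-- a singular `a` orthogonal to the non-singular `x₂` and not to `yz ∈ x₂^⊥` -/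
theorem exists_a (h : Forms ρ Q B QE) (h2 : (2 : F) ≠ 0) (hE : finrank F E = 2)
    (hcard : 7 ≤ Fintype.card ι) (hw1 : W1 ρ B QE) {x₂ yz : ι → F} (hx₂ : QE x₂ ≠ 0) (hy0 : yz ≠ 0)
    (hxy : B x₂ yz = 0) : ∃ a : ι → F, a ≠ 0 ∧ QE a = 0 ∧ B a x₂ = 0 ∧ B a yz ≠ 0 := by
  have h2E : (2 : E) ≠ 0 := two_ne_zero_E h2
  have hBxx : B x₂ x₂ ≠ 0 := by
    rw [h.B_self]
    exact mul_ne_zero h2E hx₂
  obtain ⟨a₁, ha₁0, ha₁, hxa₁⟩ := Cfsg.Agent.Lib.Helper22.C3O2Leaf.exists_esing_perp h h2 hE hcard x₂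
  have ha₁x : B a₁ x₂ = 0 := by rw [h.B_symm]; exact hxa₁
  by_cases h1 : B a₁ yz = 0
  swap
  · exact ⟨a₁, ha₁0, ha₁, ha₁x, h1⟩
  obtain ⟨a'', ha'', haa''⟩ := Cfsg.Agent.Lib.Helper22.C3O2Leaf.exists_partner h ha₁0 ha₁
  -- the projection `v` of `a''` into `x₂^⊥`
  obtain ⟨v, hvdef⟩ : ∃ v : ι → F, v = a'' - ρ (B x₂ a'' * (B x₂ x₂)⁻¹) *ᵥ x₂ := ⟨_, rfl⟩
  have hxv : B x₂ v = 0 := by
    rw [hvdef, B_sub_right h, h.B_smul_right, inv_mul_cancel_right₀ hBxx, sub_self]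
  have ha₁v : B a₁ v = 1 := by
    rw [hvdef, B_sub_right h, h.B_smul_right, ha₁x, mul_zero, sub_zero, haa'']
  -- the partner `a'` of `a₁` inside `x₂^⊥`
  obtain ⟨a', ha'def⟩ : ∃ a' : ι → F, a' = v - ρ (QE v) *ᵥ a₁ := ⟨_, rfl⟩
  have hQa' : QE a' = 0 := by
    rw [ha'def, QE_sub_smul h, ha₁, ha₁v]
    ring
  have hxa' : B x₂ a' = 0 := by
    rw [ha'def, B_sub_right h, h.B_smul_right, hxa₁, hxv, mul_zero, sub_zero]
  have ha₁a' : B a₁ a' = 1 := by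
    rw [ha'def, B_sub_right h, h.B_smul_right, h.B_self, ha₁, ha₁v]
    ring
  have ha'0 : a' ≠ 0 := by
    rintro rfl
    rw [h.B_zero_right] at ha₁a'
    exact zero_ne_one ha₁a'
  by_cases h1' : B a' yz = 0
  swap
  · exact ⟨a', ha'0, hQa', by rw [h.B_symm]; exact hxa', h1'⟩
  -- `yz` is orthogonal to `a₁`, `a'`: it is non-singular
  have hs : QE yz ≠ 0 := by
    intro hs
    obtain ⟨c, hc⟩ := hw1 a₁ yz ha₁0 ha₁ hs h1
    apply hy0
    have h3 : B a' yz = c := by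
      rw [hc, h.B_smul_right, h.B_symm a' a₁, ha₁a', mul_one]
    rw [h1'] at h3
    rw [hc, ← h3, rho_zero_mulVec]
  have hy0x : B yz x₂ = 0 := by rw [h.B_symm]; exact hxy
  have ha'a₁ : B a' a₁ = 1 := by rw [h.B_symm]; exact ha₁a'
  have ha'x : B a' x₂ = 0 := by rw [h.B_symm]; exact hxa'
  have hQ : QE (a₁ - ρ (QE yz) *ᵥ a' + yz) = 0 := by
    rw [h.QE_add, QE_sub_smul h, B_sub_left h, h.B_smul_left, ha₁, hQa', ha'a₁, h1, h1']
    ring
  have hBy : B (a₁ - ρ (QE yz) *ᵥ a' + yz) yz ≠ 0 := by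
    rw [h.B_add_left, B_sub_left h, h.B_smul_left, h1, h1', h.B_self, mul_zero, sub_zero, zero_add]
    exact mul_ne_zero h2E hs
  refine ⟨a₁ - ρ (QE yz) *ᵥ a' + yz, ?_, hQ, ?_, hBy⟩
  · intro h0
    rw [h0, h.B_zero_left] at hBy
    exact hBy rfl
  · rw [h.B_add_left, B_sub_left h, h.B_smul_left, ha₁x, ha'x, hy0x, mul_zero, sub_zero, zero_add]

/-- the case of a non-singular `x₂` -/
theorem caseB (h : Forms ρ Q B QE) (h2 : (2 : F) ≠ 0) (hE : finrank F E = 2)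
    (hcard : 7 ≤ Fintype.card ι) (hw1 : W1 ρ B QE) {x₂ y₂ : ι → F} (hx₂ : QE x₂ ≠ 0)
    (hy₂ : Q y₂ = 0) (hne : ∀ e : E, y₂ ≠ ρ e *ᵥ x₂) :
    ∃ a b : ι → F, QE a = 0 ∧ B a b = 0 ∧ esF h a b x₂ = x₂ ∧ polar Q y₂ (esF h a b y₂) ≠ 0 := by
  have h2E : (2 : E) ≠ 0 := two_ne_zero_E h2
  have hBxx : B x₂ x₂ ≠ 0 := by
    rw [h.B_self]
    exact mul_ne_zero h2E hx₂
  have hy0 : y₂ - ρ (B x₂ y₂ * (B x₂ x₂)⁻¹) *ᵥ x₂ ≠ 0 := fun h0 => hne _ (sub_eq_zero.mp h0)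
  have hxy0 : B x₂ (y₂ - ρ (B x₂ y₂ * (B x₂ x₂)⁻¹) *ᵥ x₂) = 0 := by
    rw [B_sub_right h, h.B_smul_right, inv_mul_cancel_right₀ hBxx, sub_self]
  obtain ⟨a, ha0, ha, hax, hay0⟩ := exists_a h h2 hE hcard hw1 hx₂ hy0 hxy0
  have hay : B a y₂ ≠ 0 := by
    have e : B a (y₂ - ρ (B x₂ y₂ * (B x₂ x₂)⁻¹) *ᵥ x₂) = B a y₂ := by
      rw [B_sub_right h, h.B_smul_right, hax, mul_zero, sub_zero]
    rwa [e] at hay0
  obtain ⟨b, hab, hbx, hb⟩ := exists_b h hE hcard hw1 ha0 ha x₂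
  obtain ⟨b', hab', hfix, hmove⟩ := core h h2 hy₂ hab hax hbx hay hb
  exact ⟨a, b', ha, hab', hfix, hmove⟩

/-- MOVE [M-L]: a totally singular `F`-plane `⟨x, y⟩` which is not an `E`-line: some `E`-Siegel map fixes a vector
`x₂ = α x + β y` of it and moves `y₂ = β δ x + α y` off `y₂^⊥`. Plan §MOVE (cases A, A', B). -/
theorem move (h : Forms ρ Q B QE) (hκ : Kap κ δ) (h2 : (2 : F) ≠ 0) (hE : finrank F E = 2)
    (hcard : 7 ≤ Fintype.card ι) (hw1 : W1 ρ B QE) (x y : ι → F) (hQx : Q x = 0) (hQy : Q y = 0)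
    (hxy : polar Q x y = 0) (hind : ∀ c : F, y ≠ c • x) (hJ : ∀ a b : F, ρ κ *ᵥ x ≠ a • x + b • y) :
    ∃ (α β : F) (a b : ι → F), (α ≠ 0 ∨ β ≠ 0) ∧ QE a = 0 ∧ B a b = 0 ∧
      esF h a b (α • x + β • y) = α • x + β • y ∧
      polar Q ((β * δ) • x + α • y) (esF h a b ((β * δ) • x + α • y)) ≠ 0 := by
  have hx0 : x ≠ 0 := by
    rintro rfl
    apply hJ 0 0
    rw [Matrix.mulVec_zero, zero_smul, zero_smul, add_zero]
  have hδ := hκ.delta_ne
  -- `y ∉ E x`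
  have hNE : ∀ e : E, y ≠ ρ e *ᵥ x := by
    intro e hye
    obtain ⟨a, b, rfl⟩ := hκ.span e
    rw [rho_add_mulVec, rho_mul_mulVec, ← smulF_rho, ← smulF_rho] at hye
    by_cases hb : b = 0
    · rw [hb, zero_smul, add_zero] at hye
      exact hind a hye
    · apply hJ (-(b⁻¹ * a)) b⁻¹
      rw [hye, smul_add, smul_smul, smul_smul, inv_mul_cancel₀ hb, one_smul, neg_smul]
      abel
  by_cases hQEx : QE x = 0
  · by_cases hBxy : B x y = 0
    · -- case (A')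
      have hQEy : QE y ≠ 0 := by
        intro hQEy
        obtain ⟨c, hc⟩ := hw1 x y hx0 hQEx hQEy hBxy
        exact hNE c hc
      have hne' : ∀ e : E, δ • x ≠ ρ e *ᵥ y := by
        intro e he
        have he0 : e ≠ 0 := by
          rintro rfl
          rw [rho_zero_mulVec] at he
          exact hx0 ((smul_eq_zero.mp he).resolve_left hδ)
        apply hNE (e⁻¹ * algebraMap F E δ)
        rw [rho_mul_mulVec, ← smulF_rho, he, ← rho_mul_mulVec, inv_mul_cancel₀ he0, rho_one_mulVec]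
      have hQδx : Q (δ • x) = 0 := by
        rw [QuadraticMap.map_smul, hQx, smul_zero]
      obtain ⟨a, b, ha, hab, hfix, hmove⟩ := caseB h h2 hE hcard hw1 hQEy hQδx hne'
      refine ⟨0, 1, a, b, Or.inr one_ne_zero, ha, hab, ?_, ?_⟩
      · rw [zero_smul, one_smul, zero_add]
        exact hfix
      · rw [one_mul, zero_smul, add_zero]
        exact hmove
    · -- case (A)
      have hxx : B x x = 0 := by rw [h.B_self, hQEx, mul_zero]
      obtain ⟨b, hab, hbx, hb⟩ := exists_b h hE hcard hw1 hx0 hQEx x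
      obtain ⟨b', hab', hfix, hmove⟩ := core h h2 hQy hab hxx hbx hBxy hb
      refine ⟨1, 0, x, b', Or.inl one_ne_zero, hQEx, hab', ?_, ?_⟩
      · rw [one_smul, zero_smul, add_zero]
        exact hfix
      · rw [zero_mul, zero_smul, one_smul, zero_add]
        exact hmove
  · -- case (B)
    obtain ⟨a, b, ha, hab, hfix, hmove⟩ := caseB h h2 hE hcard hw1 hQEx hQy hNE
    refine ⟨1, 0, a, b, Or.inl one_ne_zero, ha, hab, ?_, ?_⟩
    · rw [one_smul, zero_smul, add_zero]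
      exact hfix
    · rw [zero_mul, zero_smul, one_smul, zero_add]
      exact hmove

end Cfsg.Agent.Lib.Helper9.C3O2Leaf
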