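import Mathlib
import Cfsg.Prelude.Def_GeometricClasses
import Cfsg.Agent.Lib.Helper25.C3O2Defs
import Cfsg.Agent.Lib.Helper27.C3u2CW0
import Cfsg.Agent.Lib.Helper25.OEFsaH1
import Cfsg.Agent.Lib.Helper9.C3O2MOVE
import Cfsg.Agent.Lib.Helper6.C3O2S4C

/-!
C3O2 market (planner helper25, S5825 conjunct (7)), leaf **S4D** `h_exists`: `k = t⁻¹ s t` (`s = RC u₀ c` from S4C)
fixes `p` and `J p` and is not `E`-linear modulo `E p`.  Plan: notes/C3O2_plan.md §S4D.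
-/

set_option autoImplicit false
set_option linter.unusedSectionVars false
set_option linter.unusedVariables false

namespace Cfsg.Agent.Lib.Helper9.C3O2Leaf
open Matrix Module QuadraticMap Cfsg Cfsg.Geo Cfsg.Agent.Lib.Helper25.OEFsa
  Cfsg.Agent.Lib.Helper25.CD Cfsg.Agent.Lib.Helper25.Siegel
  Cfsg.Agent.Lib.Helper5.NSMax Cfsg.Agent.Lib.Helper5.TSMax Cfsg.Agent.Lib.Helper25.AutO
  Cfsg.Agent.Lib.Helper25.C3O2

variable {F : Type*} [Field F] [Fintype F] {E : Type*} [Field E] [Algebra F E] [FiniteDimensional F E]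
  {ι : Type} [Fintype ι] [DecidableEq ι]
  {ρ : E →ₐ[F] Matrix ι ι F} {Q : QuadraticForm F (ι → F)} {B : (ι → F) → (ι → F) → E} {QE : (ι → F) → E}
  {κ : E} {δ : F}

/-! ### the rotation `s = R_u R_c R_u R_c` -/

/-- `R_u R_c R_u R_c` -/
noncomputable def sF (h : Forms ρ Q B QE) (u c x : ι → F) : ι → F := erF h u (erF h c (erF h u (erF h c x)))

theorem sF_def (h : Forms ρ Q B QE) (u c x : ι → F) :
    sF h u c x = erF h u (erF h c (erF h u (erF h c x))) := rfl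

theorem sF_add (h : Forms ρ Q B QE) (u c x y : ι → F) : sF h u c (x + y) = sF h u c x + sF h u c y := by
  rw [sF_def, sF_def, sF_def, erF_x_add, erF_x_add, erF_x_add, erF_x_add]

theorem sF_fsmul (h : Forms ρ Q B QE) (u c : ι → F) (a : F) (x : ι → F) :
    sF h u c (a • x) = a • sF h u c x := by
  rw [sF_def, sF_def, erF_x_smul, erF_x_smul, erF_x_smul, erF_x_smul]

theorem sF_rho (h : Forms ρ Q B QE) (u c : ι → F) (a : E) (x : ι → F) :
    sF h u c (ρ a *ᵥ x) = ρ a *ᵥ sF h u c x := by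
  rw [sF_def, sF_def, erF_rho, erF_rho, erF_rho, erF_rho]

theorem sF_fix (h : Forms ρ Q B QE) {u c x : ι → F} (hux : B u x = 0) (hcx : B c x = 0) : sF h u c x = x := by
  rw [sF_def, erF_fix h hcx, erF_fix h hux, erF_fix h hcx, erF_fix h hux]

theorem B_erF_of_perp (h : Forms ρ Q B QE) {q b : ι → F} (hqb : B q b = 0) (x : ι → F) :
    B q (erF h b x) = B q x := by
  rw [erF_apply, B_sub_right h, h.B_smul_right, hqb, mul_zero, sub_zero]

theorem B_sF_of_perp (h : Forms ρ Q B QE) {q u c : ι → F} (hqu : B q u = 0) (hqc : B q c = 0) (x : ι → F) :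
    B q (sF h u c x) = B q x := by
  rw [sF_def, B_erF_of_perp h hqu, B_erF_of_perp h hqc, B_erF_of_perp h hqu, B_erF_of_perp h hqc]

/-! ### the `F`-reflection `r` in `u` -/

/-- `φ(x) = f(u,x)/Q(u)` -/
noncomputable def phi (Q : QuadraticForm F (ι → F)) (u x : ι → F) : F := polar Q u x / Q u

/-- `r x = x - φ(x) u` -/
noncomputable def rF (Q : QuadraticForm F (ι → F)) (u x : ι → F) : ι → F := x - phi Q u x • u

theorem rF_def (Q : QuadraticForm F (ι → F)) (u x : ι → F) : rF Q u x = x - phi Q u x • u := rfl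

theorem phi_add (Q : QuadraticForm F (ι → F)) (u x y : ι → F) : phi Q u (x + y) = phi Q u x + phi Q u y := by
  unfold phi
  rw [polar_add_right, add_div]

theorem phi_smul (Q : QuadraticForm F (ι → F)) (u : ι → F) (a : F) (x : ι → F) :
    phi Q u (a • x) = a * phi Q u x := by
  unfold phi
  rw [polar_smul_right, smul_eq_mul, mul_div_assoc]

theorem phi_self (Q : QuadraticForm F (ι → F)) {u : ι → F} (hu : Q u ≠ 0) : phi Q u u = 2 := by
  unfold phi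
  rw [polar_self, two_nsmul, ← two_mul, mul_div_assoc, div_self hu, mul_one]

theorem phi_rF (Q : QuadraticForm F (ι → F)) {u : ι → F} (hu : Q u ≠ 0) (x : ι → F) :
    phi Q u (rF Q u x) = - phi Q u x := by
  rw [rF_def, sub_eq_add_neg, ← neg_smul, phi_add, phi_smul, phi_self Q hu]
  ring

theorem rF_rF (Q : QuadraticForm F (ι → F)) {u : ι → F} (hu : Q u ≠ 0) (x : ι → F) :
    rF Q u (rF Q u x) = x := by
  rw [rF_def Q u (rF Q u x), phi_rF Q hu, rF_def, neg_smul, sub_neg_eq_add, sub_add_cancel]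

theorem B_rF_of_perp (h : Forms ρ Q B QE) {q u : ι → F} (hqu : B q u = 0) (x : ι → F) :
    B q (rF Q u x) = B q x := by
  rw [rF_def, B_sub_right h, B_fsmul_right h, hqu, mul_zero, sub_zero]

/-- S4D [M-L]: `k = t⁻¹ s t` (`s = RC u₀ c` from S4C) fixes `p` and `J p` and is not `E`-linear modulo `E p`:
for `w = ρ (κ / (2 QE u₀)) u₀`, `k J w - J k w ∉ E p`. Plan §S4D. -/
theorem h_exists (h : Forms ρ Q B QE) (hκ : Kap κ δ) {M : Subgroup ↥(Cfsg.Omega F ⇑Q)} (C : Ctx h M) {p : ι → F}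
    (hp0 : p ≠ 0) (hp : QE p = 0) (t : ↥(Cfsg.Omega F ⇑Q)) (ht : t ∈ M) (htp : act Q t p = p) (u₀ : ι → F)
    (hη : polar Q (ρ κ *ᵥ p) (act Q t (ρ κ *ᵥ p)) ≠ 0) (hpu : B p u₀ = 0)
    (hvu : B (act Q t (ρ κ *ᵥ p)) u₀ = 0) (hQu : Q u₀ ≠ 0)
    (htw : ∀ w, B p w = 0 → B (act Q t (ρ κ *ᵥ p)) w = 0 →
      ∃ c : F, act Q t w = w - (polar Q u₀ w / Q u₀) • u₀ +
        (2 * polar Q u₀ w / Q u₀) • act Q t (ρ κ *ᵥ p) + c • p) :
    ∃ k ∈ M, act Q k p = p ∧ act Q k (ρ κ *ᵥ p) = ρ κ *ᵥ p ∧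
      ∃ w, B p w = 0 ∧ ∀ a : E, act Q k (ρ κ *ᵥ w) - ρ κ *ᵥ (act Q k w) ≠ ρ a *ᵥ p := by
  have h2 := C.two
  have hE := C.rank
  have hδ := hκ.delta_ne
  obtain ⟨v, hvdef⟩ : ∃ v : ι → F, v = act Q t (ρ κ *ᵥ p) := ⟨_, rfl⟩
  rw [← hvdef] at hη hvu
  have htw' : ∀ w, B p w = 0 → B v w = 0 →
      ∃ c : F, act Q t w = rF Q u₀ w + (2 * phi Q u₀ w) • v + c • p := by
    intro w h1 h2'
    rw [hvdef] at h2'
    obtain ⟨c, hc⟩ := htw w h1 h2'
    refine ⟨c, ?_⟩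
    rw [hc, hvdef, rF_def]
    unfold phi
    rw [mul_div_assoc]
  have hQEu : QE u₀ ≠ 0 := by
    intro h0
    apply hQu
    rw [h.Q_eq, h0, map_zero]
  have hpv : B p v ≠ 0 := by
    intro h0
    apply hη
    rw [polar_J h, h0, mul_zero, map_zero]
  have hvp : B v p ≠ 0 := by rw [h.B_symm]; exact hpv
  obtain ⟨c, hc, hpc, hvc, hsu⟩ := Cfsg.Agent.Lib.Helper6.C3O2Leaf.s_exists h h2 hE C.card C.w1 hp0 hp hpv hQEu hpu hvu
  have hsu' : ∀ a : E, sF h u₀ c u₀ ≠ ρ a *ᵥ u₀ := hsu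
  have hSM : RC h u₀ c hQEu hc ∈ M := C.rc u₀ c hQEu hc
  have hSact : ∀ x, act Q (RC h u₀ c hQEu hc) x = sF h u₀ c x := fun x => act_RC h u₀ c hQEu hc x
  have hup : B u₀ p = 0 := by rw [h.B_symm]; exact hpu
  have huv : B u₀ v = 0 := by rw [h.B_symm]; exact hvu
  have hcp : B c p = 0 := by rw [h.B_symm]; exact hpc
  have hcv : B c v = 0 := by rw [h.B_symm]; exact hvc
  have hsp : sF h u₀ c p = p := sF_fix h hup hcp
  have hsv : sF h u₀ c v = v := sF_fix h huv hcv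
  have hte : act Q t (ρ κ *ᵥ p) = v := hvdef.symm
  -- the element `k`
  obtain ⟨k, hkdef⟩ : ∃ k : ↥(Cfsg.Omega F ⇑Q), k = t⁻¹ * RC h u₀ c hQEu hc * t := ⟨_, rfl⟩
  have hkM : k ∈ M := by
    rw [hkdef]
    exact M.mul_mem (M.mul_mem (M.inv_mem ht) hSM) ht
  have hk : ∀ x y, act Q t y = sF h u₀ c (act Q t x) → act Q k x = y := by
    intro x y hxy
    rw [hkdef, act_mul, act_mul, hSact, ← hxy, act_inv_act]
  have hkp : act Q k p = p := hk p p (by rw [htp, hsp])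
  have hke : act Q k (ρ κ *ᵥ p) = ρ κ *ᵥ p := hk _ _ (by rw [hte, hsv])
  -- `k` on `W = {p, v}^⊥`
  have hKW : ∀ w, B p w = 0 → B v w = 0 →
      ∃ (c' : F) (a : E), act Q k w = sF h u₀ c (rF Q u₀ w) + c' • u₀ + ρ a *ᵥ p := by
    intro w hpw hvw
    obtain ⟨c1, h1⟩ := htw' w hpw hvw
    obtain ⟨y, hy⟩ : ∃ y : ι → F, y = sF h u₀ c (rF Q u₀ w) := ⟨_, rfl⟩
    have hpy : B p y = 0 := by
      rw [hy, B_sF_of_perp h hpu hpc, B_rF_of_perp h hpu, hpw]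
    have hvy : B v y = 0 := by
      rw [hy, B_sF_of_perp h hvu hvc, B_rF_of_perp h hvu, hvw]
    have hpw'' : B p (rF Q u₀ y) = 0 := by rw [B_rF_of_perp h hpu, hpy]
    have hvw'' : B v (rF Q u₀ y) = 0 := by rw [B_rF_of_perp h hvu, hvy]
    obtain ⟨c2, h2'⟩ := htw' _ hpw'' hvw''
    rw [rF_rF Q hQu] at h2'
    rw [← hy]
    refine ⟨- phi Q u₀ y, algebraMap F E (c1 - c2) +
      algebraMap F E (2 * phi Q u₀ w - 2 * phi Q u₀ (rF Q u₀ y)) * κ, ?_⟩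
    apply hk
    rw [h1, sF_add, sF_add, sF_fsmul, sF_fsmul, hsv, hsp, ← hy]
    have e1 : y + -phi Q u₀ y • u₀ = rF Q u₀ y := by rw [rF_def, neg_smul, sub_eq_add_neg]
    rw [e1, rho_add_mulVec, rho_mul_mulVec, ← smulF_rho, ← smulF_rho, map_add, map_add, map_smul,
      map_smul, h2', htp, hte]
    module
  -- the vector `w₀`
  obtain ⟨w₀, hw₀def⟩ : ∃ w₀ : ι → F, w₀ = ρ (κ * (2 * QE u₀)⁻¹) *ᵥ u₀ := ⟨_, rfl⟩
  have h2E : (2 : E) ≠ 0 := two_ne_zero_E h2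
  have hBuw : B u₀ w₀ = κ := by
    rw [hw₀def, h.B_smul_right, h.B_self, inv_mul_cancel_right₀ (mul_ne_zero h2E hQEu)]
  have hpw₀ : B p w₀ = 0 := by rw [hw₀def, h.B_smul_right, hpu, mul_zero]
  have hvw₀ : B v w₀ = 0 := by rw [hw₀def, h.B_smul_right, hvu, mul_zero]
  have hpJw₀ : B p (ρ κ *ᵥ w₀) = 0 := by rw [h.B_smul_right, hpw₀, mul_zero]
  have hvJw₀ : B v (ρ κ *ᵥ w₀) = 0 := by rw [h.B_smul_right, hvw₀, mul_zero]
  have hφw₀ : phi Q u₀ w₀ = 0 := by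
    unfold phi
    rw [← h.tr_B, hBuw, hκ.tr0, zero_div]
  obtain ⟨φ₁, hφ₁def⟩ : ∃ φ₁ : F, φ₁ = phi Q u₀ (ρ κ *ᵥ w₀) := ⟨_, rfl⟩
  have hφ₁ : φ₁ ≠ 0 := by
    have e : φ₁ = 2 * δ / Q u₀ := by
      rw [hφ₁def]
      unfold phi
      rw [polar_J_right h, hBuw, hκ.sq, Algebra.algebraMap_eq_smul_one, map_smul, hκ.tr1, smul_eq_mul,
        mul_comm]
    rw [e]
    exact div_ne_zero (mul_ne_zero h2 hδ) hQu
  have hrw₀ : rF Q u₀ w₀ = w₀ := by rw [rF_def, hφw₀, zero_smul, sub_zero]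
  obtain ⟨c₁, a₁, hk1⟩ := hKW w₀ hpw₀ hvw₀
  obtain ⟨c₂, a₂, hk2⟩ := hKW _ hpJw₀ hvJw₀
  rw [hrw₀] at hk1
  rw [rF_def, ← hφ₁def, sub_eq_add_neg, ← neg_smul, sF_add, sF_fsmul, sF_rho] at hk2
  refine ⟨k, hkM, hkp, hke, w₀, hpw₀, ?_⟩
  intro a hD
  rw [hk1, hk2, Matrix.mulVec_add, Matrix.mulVec_add, Matrix.mulVec_smul] at hD
  have hEq : φ₁ • sF h u₀ c u₀ = ρ (algebraMap F E c₂ - algebraMap F E c₁ * κ) *ᵥ u₀ +
      ρ (a₂ - κ * a₁ - a) *ᵥ p := by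
    rw [rho_sub_mulVec', rho_sub_mulVec', rho_sub_mulVec', rho_mul_mulVec, rho_mul_mulVec, ← smulF_rho,
      ← smulF_rho]
    linear_combination (norm := module) -hD
  have hBv : B v (φ₁ • sF h u₀ c u₀) = 0 := by
    rw [B_fsmul_right h, B_sF_of_perp h hvu hvc, hvu, mul_zero]
  rw [hEq, h.B_add_right, h.B_smul_right, h.B_smul_right, hvu, mul_zero, zero_add] at hBv
  have hb0 : a₂ - κ * a₁ - a = 0 := (mul_eq_zero.mp hBv).resolve_right hvp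
  rw [hb0, rho_zero_mulVec, add_zero] at hEq
  apply hsu' (algebraMap F E φ₁⁻¹ * (algebraMap F E c₂ - algebraMap F E c₁ * κ))
  rw [rho_mul_mulVec, ← hEq, ← smulF_rho, smul_smul, inv_mul_cancel₀ hφ₁, one_smul]

end Cfsg.Agent.Lib.Helper9.C3O2Leaf
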