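import Mathlib

/-! Helper9 library (S2143, market OQ): the abstract setting for an orthogonal group `Ω(V)` over an
arbitrary field (in the applications a finite field with `q ≥ 4` elements).

A group `G` acting faithfully and linearly on a vector space `V` over a field `F`, by isometries of a
quadratic form `Q` with nondegenerate polar form `B`, containing
* the Siegel elements `sg x w : z ↦ z + B z w • x - B z x • w - (Q w * B z x) • x`
  (`x` singular, `w ⊥ x`),
* the torus elements `hh x x' a : x ↦ a² x, x' ↦ a⁻² x'`, identity on `<x,x'>^⊥`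
  (`(x,x')` a hyperbolic pair),
* the torus elements `tt x x' y y' a : x ↦ a x, x' ↦ a⁻¹ x', y ↦ a y, y' ↦ a⁻¹ y'`, identity on
  `<x,x',y,y'>^⊥` (two perpendicular hyperbolic pairs),
and generated by the long root elements `sg x y` (`x, y` singular, `x ⊥ y`).
Definitions only; the calculus is in `OqCalc`.  (Generalises helper11's `Om3.Setting`.) -/

set_option autoImplicit false

namespace Cfsg.Agent.Lib.Helper9.Oq

/-- Orthogonal setting over a general field. -/
structure Setting (F V G : Type*) [Field F] [AddCommGroup V] [Module F V] [Group G]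
    [DistribMulAction G V] where
  /-- the polar form -/
  B : LinearMap.BilinForm F V
  /-- the quadratic form -/
  Q : V → F
  /-- the Siegel element `ρ_{x,w}` (meaningful for `Q x = 0`, `B x w = 0`) -/
  sg : V → V → G
  /-- the torus element `x ↦ a² x`, `x' ↦ a⁻² x'` (meaningful for a hyperbolic pair `x, x'`) -/
  hh : V → V → Fˣ → G
  /-- the torus element `x ↦ a x`, `x' ↦ a⁻¹ x'`, `y ↦ a y`, `y' ↦ a⁻¹ y'` (meaningful for two
  perpendicular hyperbolic pairs) -/
  tt : V → V → V → V → Fˣ → G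
  Q_add : ∀ x y, Q (x + y) = Q x + Q y + B x y
  Q_smul : ∀ (a : F) (x : V), Q (a • x) = a * a * Q x
  nondeg : ∀ x, (∀ y, B x y = 0) → x = 0
  isoQ : ∀ (g : G) (x : V), Q (g • x) = Q x
  lin : ∀ (g : G) (a : F) (x : V), g • (a • x) = a • (g • x)
  sg_smul : ∀ x w, Q x = 0 → B x w = 0 → ∀ z,
    sg x w • z = z + B z w • x - B z x • w - (Q w * B z x) • x
  hh_smul : ∀ x x' (a : Fˣ), Q x = 0 → Q x' = 0 → B x x' = 1 → ∀ z,
    hh x x' a • z = z + (((a : F) * a - 1) * B z x') • x
      + ((((a⁻¹ : Fˣ) : F) * ((a⁻¹ : Fˣ) : F) - 1) * B z x) • x'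
  tt_smul : ∀ x x' y y' (a : Fˣ), Q x = 0 → Q x' = 0 → B x x' = 1 → Q y = 0 → Q y' = 0 →
    B y y' = 1 → B x y = 0 → B x y' = 0 → B x' y = 0 → B x' y' = 0 → ∀ z,
    tt x x' y y' a • z = z + (((a : F) - 1) * B z x') • x + ((((a⁻¹ : Fˣ) : F) - 1) * B z x) • x'
      + (((a : F) - 1) * B z y') • y + ((((a⁻¹ : Fˣ) : F) - 1) * B z y) • y'
  gen : ∀ H : Subgroup G, (∀ x y, Q x = 0 → Q y = 0 → B x y = 0 → sg x y ∈ H) → H = ⊤
  faithful : ∀ g : G, (∀ z : V, g • z = z) → g = 1

variable {F V G : Type*} [Field F] [AddCommGroup V] [Module F V] [Group G] [DistribMulAction G V]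

/-- the set underlying `Q_x = {sg x w | w ⊥ x}` (a subgroup for singular `x`: `Setting.Qs`) -/
def Setting.QsSet (S : Setting F V G) (x : V) : Set G :=
  {g | ∃ w, S.B x w = 0 ∧ g = S.sg x w}

/-- `D̃_x(H)`: the vectors `w ⊥ x` with `sg x w ∈ H` (an additive subgroup containing `F x` for
singular `x`: `Setting.Dt`). -/
def Setting.DtSet (S : Setting F V G) (H : Subgroup G) (x : V) : Set V :=
  {w | S.B x w = 0 ∧ S.sg x w ∈ H}

/-- the set underlying the stabiliser `P_x` of the POINT `F x` -/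
def Setting.PPSet (_S : Setting F V G) (x : V) : Set G :=
  {g | ∃ a : Fˣ, g • x = (a : F) • x}

end Cfsg.Agent.Lib.Helper9.Oq
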