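import Mathlib
import Cfsg.Agent.Lib.Helper9.OqDefs

/-! Helper9 library (S2143, market OQ): calculus in the abstract general-field orthogonal setting
(port of helper11's `Om3Calc` to an arbitrary field, plus the torus elements). -/

set_option autoImplicit false
set_option linter.unusedSimpArgs false
set_option linter.unusedVariables false

namespace Cfsg.Agent.Lib.Helper9.Oq

variable {F V G : Type*} [Field F] [AddCommGroup V] [Module F V] [Group G] [DistribMulAction G V]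

namespace Setting

variable (S : Setting F V G)
include S

/-! ### the bilinear form -/

theorem Badd_left (x y z : V) : S.B (x + y) z = S.B x z + S.B y z := by
  rw [map_add, LinearMap.add_apply]

theorem Badd_right (x y z : V) : S.B x (y + z) = S.B x y + S.B x z := map_add _ _ _

theorem Bsub_left (x y z : V) : S.B (x - y) z = S.B x z - S.B y z := by
  rw [map_sub, LinearMap.sub_apply]

theorem Bsub_right (x y z : V) : S.B x (y - z) = S.B x y - S.B x z := map_sub _ _ _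

theorem Bneg_left (x y : V) : S.B (-x) y = -S.B x y := by
  rw [map_neg, LinearMap.neg_apply]

theorem Bneg_right (x y : V) : S.B x (-y) = -S.B x y := map_neg _ _

theorem Bsmul_left (a : F) (x y : V) : S.B (a • x) y = a * S.B x y := by
  rw [map_smul, LinearMap.smul_apply, smul_eq_mul]

theorem Bsmul_right (a : F) (x y : V) : S.B x (a • y) = a * S.B x y := by
  rw [map_smul, smul_eq_mul]

theorem Bzero_left (x : V) : S.B 0 x = 0 := by simp

theorem Bzero_right (x : V) : S.B x 0 = 0 := by simp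

/-! ### the quadratic form -/

theorem Q_zero : S.Q 0 = 0 := by
  have h := S.Q_add 0 0
  rw [add_zero, S.Bzero_left, add_zero] at h
  linear_combination -h

theorem B_symm (x y : V) : S.B x y = S.B y x := by
  have h1 := S.Q_add x y
  have h2 := S.Q_add y x
  rw [add_comm y x] at h2
  linear_combination h2 - h1

theorem Q_neg (x : V) : S.Q (-x) = S.Q x := by
  have h := S.Q_smul (-1) x
  rw [neg_one_smul] at h
  rw [h]; ring

/-- `B x x = 2 Q x` -/
theorem B_self (x : V) : S.B x x = 2 * S.Q x := by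
  have h := S.Q_add x x
  have h2 : x + x = (2 : F) • x := by module
  rw [h2, S.Q_smul] at h
  linear_combination -h

theorem Q_sub (x y : V) : S.Q (x - y) = S.Q x + S.Q y - S.B x y := by
  rw [sub_eq_add_neg, S.Q_add, S.Q_neg, S.Bneg_right]; ring

theorem Q_add_of_perp {x y : V} (h : S.B x y = 0) : S.Q (x + y) = S.Q x + S.Q y := by
  rw [S.Q_add, h, add_zero]

/-- adding a multiple of a singular vector `x ⊥ w` does not change `Q w` -/
theorem Q_add_smul_self {x w : V} (hx : S.Q x = 0) (h : S.B x w = 0) (a : F) :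
    S.Q (w + a • x) = S.Q w := by
  rw [S.Q_add, S.Q_smul, hx, S.Bsmul_right, S.B_symm w x, h]; ring

theorem B_self_of_sing {x : V} (hx : S.Q x = 0) : S.B x x = 0 := by rw [S.B_self, hx, mul_zero]

theorem Q_smul_of_sing {x : V} (hx : S.Q x = 0) (a : F) : S.Q (a • x) = 0 := by
  rw [S.Q_smul, hx, mul_zero]

/-! ### group elements -/

theorem ext_smul {g h : G} (H : ∀ z : V, g • z = h • z) : g = h := by
  have : h⁻¹ * g = 1 := S.faithful _ (fun z => by rw [mul_smul, H z, inv_smul_smul])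
  exact (inv_mul_eq_one.mp this).symm

theorem iso (g : G) (x y : V) : S.B (g • x) (g • y) = S.B x y := by
  have h1 := S.Q_add (g • x) (g • y)
  rw [← smul_add, S.isoQ, S.isoQ, S.isoQ, S.Q_add] at h1
  exact (add_left_cancel h1).symm

theorem B_smul_left (g : G) (x y : V) : S.B (g • x) y = S.B x (g⁻¹ • y) := by
  conv_lhs => rw [← smul_inv_smul g y]
  rw [S.iso]

theorem B_smul_right (g : G) (x y : V) : S.B x (g • y) = S.B (g⁻¹ • x) y := by
  rw [S.B_symm, S.B_smul_left, S.B_symm]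

theorem smul_fsmul (p : G) (a : F) (x : V) : p • (a • x) = a • (p • x) := S.lin p a x

theorem exists_B_ne_zero {v : V} (hv : v ≠ 0) : ∃ z, S.B v z ≠ 0 := by
  by_contra hn
  push Not at hn
  exact hv (S.nondeg v hn)

theorem exists_B_eq_one {v : V} (hv : v ≠ 0) : ∃ z, S.B z v = 1 := by
  obtain ⟨z, hz⟩ := S.exists_B_ne_zero hv
  refine ⟨(S.B v z)⁻¹ • z, ?_⟩
  rw [S.Bsmul_left, S.B_symm z v]
  exact inv_mul_cancel₀ hz

/-- double perp of a point: `(v^⊥)^⊥ = <v>` -/
theorem mem_span_of_perp {v u : V} (h : ∀ z, S.B v z = 0 → S.B z u = 0) : ∃ a : F, u = a • v := by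
  by_cases hv : v = 0
  · subst hv
    refine ⟨0, ?_⟩
    rw [zero_smul]
    apply S.nondeg
    intro y
    rw [S.B_symm]
    exact h y (S.Bzero_left y)
  obtain ⟨y, hy⟩ := S.exists_B_eq_one hv
  refine ⟨S.B y u, ?_⟩
  have : u - S.B y u • v = 0 := by
    apply S.nondeg
    intro z
    have hz : S.B v (z - S.B v z • y) = 0 := by
      rw [S.Bsub_right, S.Bsmul_right, S.B_symm v y, hy]; ring
    have h1 := h _ hz
    rw [S.Bsub_left, S.Bsmul_left] at h1
    rw [S.Bsub_left, S.Bsmul_left, S.B_symm u z]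
    linear_combination h1
  exact sub_eq_zero.mp this

/-! ### Siegel elements -/

theorem sg_smul' {x w : V} (hx : S.Q x = 0) (h : S.B x w = 0) (z : V) :
    S.sg x w • z = z + S.B z w • x - S.B z x • w - (S.Q w * S.B z x) • x :=
  S.sg_smul x w hx h z

theorem sg_smul_self {x w : V} (hx : S.Q x = 0) (h : S.B x w = 0) : S.sg x w • x = x := by
  rw [S.sg_smul' hx h, S.B_self_of_sing hx, h]; simp

theorem sg_smul_of_perp {x w : V} (hx : S.Q x = 0) (h : S.B x w = 0) {z : V} (hz : S.B x z = 0) :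
    S.sg x w • z = z + S.B z w • x := by
  rw [S.sg_smul' hx h, S.B_symm z x, hz]; simp

/-- `sg x w` fixes every vector perpendicular to `x` and `w` -/
theorem sg_smul_of_perp_perp {x w : V} (hx : S.Q x = 0) (h : S.B x w = 0) {z : V}
    (hz : S.B x z = 0) (hzw : S.B w z = 0) : S.sg x w • z = z := by
  rw [S.sg_smul_of_perp hx h hz, S.B_symm z w, hzw]; simp

/-- composition law in `Q_x` -/
theorem sg_mul {x w w' : V} (hx : S.Q x = 0) (h : S.B x w = 0) (h' : S.B x w' = 0) :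
    S.sg x w * S.sg x w' = S.sg x (w + w') := by
  have hwx : S.B w x = 0 := by rw [S.B_symm]; exact h
  have hwx' : S.B w' x = 0 := by rw [S.B_symm]; exact h'
  have hs : S.B x (w + w') = 0 := by rw [S.Badd_right, h, h', add_zero]
  have hxx := S.B_self_of_sing hx
  apply S.ext_smul
  intro z
  rw [mul_smul, S.sg_smul' hx h', S.sg_smul' hx h, S.sg_smul' hx hs]
  simp only [S.Badd_left, S.Badd_right, S.Bsub_left, S.Bsub_right, S.Bsmul_left, S.Bsmul_right,
    h, h', hwx, hwx', hxx, mul_zero, add_zero, zero_add, zero_mul, sub_zero, S.Q_add,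
    S.B_symm w' w]
  module

theorem sg_zero_right {x : V} (hx : S.Q x = 0) : S.sg x 0 = 1 := by
  apply S.faithful
  intro z
  rw [S.sg_smul' hx (S.Bzero_right x)]
  simp [S.Q_zero]

theorem sg_smul_right_self {x : V} (hx : S.Q x = 0) (a : F) : S.sg x (a • x) = 1 := by
  have hxx := S.B_self_of_sing hx
  apply S.faithful
  intro z
  rw [S.sg_smul' hx (by rw [S.Bsmul_right, hxx, mul_zero])]
  simp only [S.Bsmul_right, S.Q_smul, hx, mul_zero, zero_mul, zero_smul, sub_zero]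
  module

theorem sg_add_smul_self {x w : V} (hx : S.Q x = 0) (h : S.B x w = 0) (a : F) :
    S.sg x (w + a • x) = S.sg x w := by
  have hxx := S.B_self_of_sing hx
  rw [← S.sg_mul hx h (by rw [S.Bsmul_right, hxx, mul_zero]), S.sg_smul_right_self hx, mul_one]

theorem sg_inv {x w : V} (hx : S.Q x = 0) (h : S.B x w = 0) : (S.sg x w)⁻¹ = S.sg x (-w) := by
  apply inv_eq_of_mul_eq_one_right
  rw [S.sg_mul hx h (by rw [S.Bneg_right, h, neg_zero]), add_neg_cancel, S.sg_zero_right hx]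

theorem sg_comm {x w w' : V} (hx : S.Q x = 0) (h : S.B x w = 0) (h' : S.B x w' = 0) :
    S.sg x w * S.sg x w' = S.sg x w' * S.sg x w := by
  rw [S.sg_mul hx h h', S.sg_mul hx h' h, add_comm]

/-- long root elements: swapping the two arguments inverts -/
theorem sg_swap {x y : V} (hx : S.Q x = 0) (hy : S.Q y = 0) (h : S.B x y = 0) :
    S.sg y x = S.sg x (-y) := by
  have hyx : S.B y x = 0 := by rw [S.B_symm]; exact h
  apply S.ext_smul
  intro z
  rw [S.sg_smul' hy hyx, S.sg_smul' hx (by rw [S.Bneg_right, h, neg_zero]), hx, S.Q_neg, hy]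
  simp only [zero_mul, zero_smul, sub_zero, S.Bneg_right]
  module

/-- long root elements with a scalar: `sg y (a • x) = sg x (-a • y)` -/
theorem sg_swap_smul {x y : V} (hx : S.Q x = 0) (hy : S.Q y = 0) (h : S.B x y = 0) (a : F) :
    S.sg y (a • x) = S.sg x (-(a • y)) := by
  have hyx : S.B y x = 0 := by rw [S.B_symm]; exact h
  apply S.ext_smul
  intro z
  rw [S.sg_smul' hy (by rw [S.Bsmul_right, hyx, mul_zero]),
    S.sg_smul' hx (by rw [S.Bneg_right, S.Bsmul_right, h, mul_zero, neg_zero]), S.Q_smul, hx,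
    S.Q_neg, S.Q_smul, hy]
  simp only [mul_zero, zero_mul, zero_smul, sub_zero, S.Bneg_right, S.Bsmul_right]
  module

/-- rescaling the centre -/
theorem sg_smul_left {x w : V} (hx : S.Q x = 0) (h : S.B x w = 0) (a : F) :
    S.sg (a • x) w = S.sg x (a • w) := by
  have hax : S.Q (a • x) = 0 := by rw [S.Q_smul, hx, mul_zero]
  have haw : S.B (a • x) w = 0 := by rw [S.Bsmul_left, h, mul_zero]
  have hxa : S.B x (a • w) = 0 := by rw [S.Bsmul_right, h, mul_zero]
  apply S.ext_smul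
  intro z
  rw [S.sg_smul' hax haw, S.sg_smul' hx hxa]
  simp only [S.Bsmul_right, S.Q_smul]
  module

theorem conj_sg (p : G) {x w : V} (hx : S.Q x = 0) (h : S.B x w = 0) :
    p * S.sg x w * p⁻¹ = S.sg (p • x) (p • w) := by
  have hs : S.B (p • x) (p • w) = 0 := by rw [S.iso, h]
  have hpx : S.Q (p • x) = 0 := by rw [S.isoQ, hx]
  apply S.ext_smul
  intro z
  rw [mul_smul, mul_smul, S.sg_smul' hx h, S.sg_smul' hpx hs]
  simp only [smul_add, smul_sub, smul_inv_smul, S.smul_fsmul, S.isoQ]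
  have h1 : S.B (p⁻¹ • z) x = S.B z (p • x) := by rw [S.B_smul_left, inv_inv]
  have h2 : S.B (p⁻¹ • z) w = S.B z (p • w) := by rw [S.B_smul_left, inv_inv]
  rw [h1, h2]

/-- conjugation by an element of the point stabiliser: if `p • x = a • x` then
`p * sg x w * p⁻¹ = sg x (a • p • w)` -/
theorem conj_sg_of_smul_eq (p : G) {x w : V} (hx : S.Q x = 0) (h : S.B x w = 0) {a : F}
    (hp : p • x = a • x) : p * S.sg x w * p⁻¹ = S.sg x (a • (p • w)) := by
  rw [S.conj_sg p hx h, hp]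
  have hxp : S.B x (p • w) = 0 := by
    by_cases ha : a = 0
    · -- then `p • x = 0`, so `x = 0`
      have hx0 : x = 0 := by
        have : p • x = 0 := by rw [hp, ha, zero_smul]
        have h2 : p⁻¹ • (p • x) = p⁻¹ • (0 : V) := by rw [this]
        rwa [inv_smul_smul, smul_zero] at h2
      rw [hx0, S.Bzero_left]
    · have h1 : S.B (p • x) (p • w) = 0 := by rw [S.iso, h]
      rw [hp, S.Bsmul_left] at h1
      rcases mul_eq_zero.mp h1 with h2 | h2
      · exact absurd h2 ha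
      · exact h2
  exact S.sg_smul_left hx hxp a

/-- when a Siegel element is trivial -/
theorem sg_eq_one_iff {x w : V} (hx0 : x ≠ 0) (hx : S.Q x = 0) (h : S.B x w = 0) :
    S.sg x w = 1 ↔ ∃ a : F, w = a • x := by
  constructor
  · intro he
    apply S.mem_span_of_perp
    intro z hz
    have h1 := S.sg_smul_of_perp hx h hz
    rw [he, one_smul] at h1
    by_contra hne
    have h2 : S.B z w • x = 0 := by
      have := h1.symm
      rwa [add_eq_left] at this
    rcases smul_eq_zero.mp h2 with h3 | h3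
    · exact hne h3
    · exact hx0 h3
  · rintro ⟨a, rfl⟩
    exact S.sg_smul_right_self hx a

theorem sg_eq_sg_iff {x w w' : V} (hx0 : x ≠ 0) (hx : S.Q x = 0) (h : S.B x w = 0)
    (h' : S.B x w' = 0) : S.sg x w = S.sg x w' ↔ ∃ a : F, w' = w + a • x := by
  have hn : S.B x (-w) = 0 := by rw [S.Bneg_right, h, neg_zero]
  have hs : S.B x (-w + w') = 0 := by rw [S.Badd_right, hn, h', add_zero]
  have key : S.sg x w = S.sg x w' ↔ S.sg x (-w + w') = 1 := by
    rw [← S.sg_mul hx hn h', ← S.sg_inv hx h, inv_mul_eq_one]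
  rw [key, S.sg_eq_one_iff hx0 hx hs]
  constructor
  · rintro ⟨a, ha⟩
    exact ⟨a, by rw [← ha]; abel⟩
  · rintro ⟨a, ha⟩
    exact ⟨a, by rw [ha]; abel⟩

/-- transitivity tool: if `Q a = Q a'` and the singular vector `u` has `B u a = B u a' = b ≠ 0`, then
`sg u (b⁻¹ • (a - a'))` maps `a` to `a'` (and fixes everything perpendicular to `u` and `a - a'`). -/
theorem sg_trans {u a a' : V} {b : F} (hu : S.Q u = 0) (hQ : S.Q a = S.Q a') (hb : b ≠ 0)
    (h1 : S.B u a = b) (h2 : S.B u a' = b) : S.sg u (b⁻¹ • (a - a')) • a = a' := by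
  have hs : S.B u (b⁻¹ • (a - a')) = 0 := by rw [S.Bsmul_right, S.Bsub_right, h1, h2]; ring
  rw [S.sg_smul' hu hs, S.B_symm a u, h1, S.Q_smul, S.Q_sub, S.Bsmul_right, S.Bsub_right, S.B_self,
    ← hQ]
  have e1 : b⁻¹ * b = 1 := inv_mul_cancel₀ hb
  have e2 : (b⁻¹ * b⁻¹ * (S.Q a + S.Q a - S.B a a') * b) = b⁻¹ * (2 * S.Q a - S.B a a') := by
    linear_combination (b⁻¹ * (2 * S.Q a - S.B a a')) * e1
  rw [e2, smul_smul, mul_comm b b⁻¹, e1]
  module

/-- commutator of Siegel elements at two perpendicular singular vectors `x, y`, with parameters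
perpendicular to both: `sg x a * sg y w = sg y w * sg x a * sg x (-(B a w) • y)`. -/
theorem sg_mul_sg {x y a w : V} (hx : S.Q x = 0) (hy : S.Q y = 0) (hxy : S.B x y = 0)
    (hxa : S.B x a = 0) (hya : S.B y a = 0) (hxw : S.B x w = 0) (hyw : S.B y w = 0) :
    S.sg x a * S.sg y w = S.sg y w * S.sg x a * S.sg x (-(S.B a w) • y) := by
  have hyx : S.B y x = 0 := by rw [S.B_symm]; exact hxy
  have hax : S.B a x = 0 := by rw [S.B_symm]; exact hxa
  have hay : S.B a y = 0 := by rw [S.B_symm]; exact hya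
  have hwx : S.B w x = 0 := by rw [S.B_symm]; exact hxw
  have hwy : S.B w y = 0 := by rw [S.B_symm]; exact hyw
  have hxx := S.B_self_of_sing hx
  have hyy := S.B_self_of_sing hy
  have hxs : S.B x (-(S.B a w) • y) = 0 := by rw [S.Bsmul_right, hxy, mul_zero]
  apply S.ext_smul
  intro z
  rw [mul_smul, mul_smul, mul_smul, S.sg_smul' hx hxs z, S.sg_smul' hy hyw z, S.sg_smul' hx hxa,
    S.sg_smul' hx hxa, S.sg_smul' hy hyw]
  simp only [S.Badd_left, S.Badd_right, S.Bsub_left, S.Bsub_right, S.Bsmul_left, S.Bsmul_right,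
    hxy, hyx, hxa, hya, hxw, hyw, hax, hay, hwx, hwy, hxx, hyy, S.Q_smul, hy, mul_zero, add_zero,
    zero_add, zero_mul, sub_zero, zero_smul, S.B_symm w a]
  module

/-! ### the torus elements -/

theorem hh_smul' {x x' : V} (a : Fˣ) (hx : S.Q x = 0) (hx' : S.Q x' = 0) (h : S.B x x' = 1)
    (z : V) : S.hh x x' a • z = z + (((a : F) * a - 1) * S.B z x') • x
      + ((((a⁻¹ : Fˣ) : F) * ((a⁻¹ : Fˣ) : F) - 1) * S.B z x) • x' :=
  S.hh_smul x x' a hx hx' h z

theorem hh_smul_left {x x' : V} (a : Fˣ) (hx : S.Q x = 0) (hx' : S.Q x' = 0) (h : S.B x x' = 1) :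
    S.hh x x' a • x = ((a : F) * a) • x := by
  rw [S.hh_smul' a hx hx' h, h, S.B_self_of_sing hx]; module

theorem hh_smul_right {x x' : V} (a : Fˣ) (hx : S.Q x = 0) (hx' : S.Q x' = 0) (h : S.B x x' = 1) :
    S.hh x x' a • x' = (((a⁻¹ : Fˣ) : F) * ((a⁻¹ : Fˣ) : F)) • x' := by
  rw [S.hh_smul' a hx hx' h, S.B_symm x' x, h, S.B_self_of_sing hx']; module

theorem hh_smul_of_perp {x x' : V} (a : Fˣ) (hx : S.Q x = 0) (hx' : S.Q x' = 0)
    (h : S.B x x' = 1) {z : V} (hz : S.B z x = 0) (hz' : S.B z x' = 0) : S.hh x x' a • z = z := by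
  rw [S.hh_smul' a hx hx' h, hz, hz']; simp

/-- on `x^⊥` the torus element `hh x x' a` is the identity modulo `x` -/
theorem hh_smul_of_perp_left {x x' : V} (a : Fˣ) (hx : S.Q x = 0) (hx' : S.Q x' = 0)
    (h : S.B x x' = 1) {z : V} (hz : S.B z x = 0) :
    S.hh x x' a • z = z + (((a : F) * a - 1) * S.B z x') • x := by
  rw [S.hh_smul' a hx hx' h, hz]; simp

theorem conj_hh (g : G) {x x' : V} (a : Fˣ) (hx : S.Q x = 0) (hx' : S.Q x' = 0)
    (h : S.B x x' = 1) : g * S.hh x x' a * g⁻¹ = S.hh (g • x) (g • x') a := by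
  have hgx : S.Q (g • x) = 0 := by rw [S.isoQ, hx]
  have hgx' : S.Q (g • x') = 0 := by rw [S.isoQ, hx']
  have hg : S.B (g • x) (g • x') = 1 := by rw [S.iso, h]
  apply S.ext_smul
  intro z
  rw [mul_smul, mul_smul, S.hh_smul' a hx hx' h, S.hh_smul' a hgx hgx' hg]
  simp only [smul_add, smul_inv_smul, S.smul_fsmul]
  have h1 : S.B (g⁻¹ • z) x = S.B z (g • x) := by rw [S.B_smul_left, inv_inv]
  have h2 : S.B (g⁻¹ • z) x' = S.B z (g • x') := by rw [S.B_smul_left, inv_inv]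
  rw [h1, h2]

/-- the torus element only depends on the two points: rescaling `x` by `c` and `x'` by `c⁻¹` -/
theorem hh_smul_smul {x x' : V} (a : Fˣ) (c : Fˣ) (hx : S.Q x = 0) (hx' : S.Q x' = 0)
    (h : S.B x x' = 1) : S.hh ((c : F) • x) (((c⁻¹ : Fˣ) : F) • x') a = S.hh x x' a := by
  have hcx : S.Q ((c : F) • x) = 0 := S.Q_smul_of_sing hx _
  have hcx' : S.Q (((c⁻¹ : Fˣ) : F) • x') = 0 := S.Q_smul_of_sing hx' _
  have hcc : (c : F) * ((c⁻¹ : Fˣ) : F) = 1 := by rw [← Units.val_mul, mul_inv_cancel, Units.val_one]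
  have hc : S.B ((c : F) • x) (((c⁻¹ : Fˣ) : F) • x') = 1 := by
    rw [S.Bsmul_left, S.Bsmul_right, h, mul_one]; exact hcc
  apply S.ext_smul
  intro z
  rw [S.hh_smul' a hcx hcx' hc, S.hh_smul' a hx hx' h]
  simp only [S.Bsmul_right, smul_smul]
  have e1 : ((a : F) * a - 1) * (((c⁻¹ : Fˣ) : F) * S.B z x') * (c : F)
      = ((a : F) * a - 1) * S.B z x' := by
    linear_combination (((a : F) * a - 1) * S.B z x') * hcc
  have e2 : (((a⁻¹ : Fˣ) : F) * ((a⁻¹ : Fˣ) : F) - 1) * ((c : F) * S.B z x) * ((c⁻¹ : Fˣ) : F)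
      = (((a⁻¹ : Fˣ) : F) * ((a⁻¹ : Fˣ) : F) - 1) * S.B z x := by
    linear_combination ((((a⁻¹ : Fˣ) : F) * ((a⁻¹ : Fˣ) : F) - 1) * S.B z x) * hcc
  rw [e1, e2]

theorem tt_smul' {x x' y y' : V} (a : Fˣ) (hx : S.Q x = 0) (hx' : S.Q x' = 0) (h : S.B x x' = 1)
    (hy : S.Q y = 0) (hy' : S.Q y' = 0) (hyy : S.B y y' = 1) (h1 : S.B x y = 0)
    (h2 : S.B x y' = 0) (h3 : S.B x' y = 0) (h4 : S.B x' y' = 0) (z : V) :
    S.tt x x' y y' a • z = z + (((a : F) - 1) * S.B z x') • x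
      + ((((a⁻¹ : Fˣ) : F) - 1) * S.B z x) • x'
      + (((a : F) - 1) * S.B z y') • y + ((((a⁻¹ : Fˣ) : F) - 1) * S.B z y) • y' :=
  S.tt_smul x x' y y' a hx hx' h hy hy' hyy h1 h2 h3 h4 z

theorem conj_tt (g : G) {x x' y y' : V} (a : Fˣ) (hx : S.Q x = 0) (hx' : S.Q x' = 0)
    (h : S.B x x' = 1) (hy : S.Q y = 0) (hy' : S.Q y' = 0) (hyy : S.B y y' = 1)
    (h1 : S.B x y = 0) (h2 : S.B x y' = 0) (h3 : S.B x' y = 0) (h4 : S.B x' y' = 0) :
    g * S.tt x x' y y' a * g⁻¹ = S.tt (g • x) (g • x') (g • y) (g • y') a := by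
  apply S.ext_smul
  intro z
  rw [mul_smul, mul_smul, S.tt_smul' a hx hx' h hy hy' hyy h1 h2 h3 h4,
    S.tt_smul' a (by rw [S.isoQ, hx]) (by rw [S.isoQ, hx']) (by rw [S.iso, h])
      (by rw [S.isoQ, hy]) (by rw [S.isoQ, hy']) (by rw [S.iso, hyy]) (by rw [S.iso, h1])
      (by rw [S.iso, h2]) (by rw [S.iso, h3]) (by rw [S.iso, h4])]
  simp only [smul_add, smul_inv_smul, S.smul_fsmul]
  have e1 : S.B (g⁻¹ • z) x = S.B z (g • x) := by rw [S.B_smul_left, inv_inv]
  have e2 : S.B (g⁻¹ • z) x' = S.B z (g • x') := by rw [S.B_smul_left, inv_inv]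
  have e3 : S.B (g⁻¹ • z) y = S.B z (g • y) := by rw [S.B_smul_left, inv_inv]
  have e4 : S.B (g⁻¹ • z) y' = S.B z (g • y') := by rw [S.B_smul_left, inv_inv]
  rw [e1, e2, e3, e4]

/-! ### the subgroup `Q_x` -/

/-- `Q_x` as a subgroup (for singular `x`) -/
def Qs {x : V} (hx : S.Q x = 0) : Subgroup G where
  carrier := S.QsSet x
  mul_mem' := by
    rintro _ _ ⟨w, h, rfl⟩ ⟨w', h', rfl⟩
    exact ⟨w + w', by rw [S.Badd_right, h, h', add_zero], S.sg_mul hx h h'⟩
  one_mem' := ⟨0, S.Bzero_right x, (S.sg_zero_right hx).symm⟩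
  inv_mem' := by
    rintro _ ⟨w, h, rfl⟩
    exact ⟨-w, by rw [S.Bneg_right, h, neg_zero], S.sg_inv hx h⟩

theorem mem_Qs {x : V} (hx : S.Q x = 0) {g : G} :
    g ∈ S.Qs hx ↔ ∃ w, S.B x w = 0 ∧ g = S.sg x w := Iff.rfl

theorem sg_mem_Qs {x w : V} (hx : S.Q x = 0) (h : S.B x w = 0) : S.sg x w ∈ S.Qs hx := ⟨w, h, rfl⟩

theorem Qs_comm {x : V} (hx : S.Q x = 0) {g h : G} (hg : g ∈ S.Qs hx) (hh : h ∈ S.Qs hx) :
    g * h = h * g := by
  obtain ⟨w, hw, rfl⟩ := hg
  obtain ⟨w', hw', rfl⟩ := hh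
  exact S.sg_comm hx hw hw'

/-! ### the point stabiliser `P_x` -/

/-- the stabiliser of the point `F x` -/
def PP (x : V) : Subgroup G where
  carrier := S.PPSet x
  mul_mem' := by
    rintro g h ⟨a, ha⟩ ⟨b, hb⟩
    refine ⟨a * b, ?_⟩
    rw [mul_smul, hb, S.smul_fsmul, ha, smul_smul, Units.val_mul, mul_comm]
  one_mem' := ⟨1, by rw [one_smul, Units.val_one, one_smul]⟩
  inv_mem' := by
    rintro g ⟨a, ha⟩
    refine ⟨a⁻¹, ?_⟩
    rw [inv_smul_eq_iff, S.smul_fsmul, ha, smul_smul, ← Units.val_mul, inv_mul_cancel,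
      Units.val_one, one_smul]

theorem mem_PP {x : V} {g : G} : g ∈ S.PP x ↔ ∃ a : Fˣ, g • x = (a : F) • x := Iff.rfl

theorem Qs_le_PP {x : V} (hx : S.Q x = 0) : S.Qs hx ≤ S.PP x := by
  rintro _ ⟨w, h, rfl⟩
  exact ⟨1, by rw [S.sg_smul_self hx h, Units.val_one, one_smul]⟩

theorem stabilizer_le_PP (x : V) : MulAction.stabilizer G x ≤ S.PP x := by
  intro g hg
  exact ⟨1, by rw [MulAction.mem_stabilizer_iff.mp hg, Units.val_one, one_smul]⟩

theorem hh_mem_PP {x x' : V} (a : Fˣ) (hx : S.Q x = 0) (hx' : S.Q x' = 0) (h : S.B x x' = 1) :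
    S.hh x x' a ∈ S.PP x :=
  ⟨a * a, by rw [S.hh_smul_left a hx hx' h, Units.val_mul]⟩

theorem PP_le_normalizer_Qs {x : V} (hx : S.Q x = 0) :
    S.PP x ≤ Subgroup.normalizer (S.Qs hx : Set G) := by
  have key : ∀ p : G, p ∈ S.PP x → ∀ g ∈ S.Qs hx, p * g * p⁻¹ ∈ S.Qs hx := by
    rintro p ⟨a, ha⟩ _ ⟨w, h, rfl⟩
    rw [S.conj_sg_of_smul_eq p hx h ha]
    refine S.sg_mem_Qs hx ?_
    rw [S.Bsmul_right]
    have h1 : S.B (p • x) (p • w) = 0 := by rw [S.iso, h]
    rw [ha, S.Bsmul_left] at h1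
    rcases mul_eq_zero.mp h1 with h2 | h2
    · exact absurd h2 a.ne_zero
    · rw [h2, mul_zero]
  intro p hp
  rw [Subgroup.mem_normalizer_iff]
  intro g
  constructor
  · exact key p hp g
  · intro hg
    have := key p⁻¹ ((S.PP x).inv_mem hp) _ hg
    have e : p⁻¹ * (p * g * p⁻¹) * p⁻¹⁻¹ = g := by group
    rwa [e] at this

/-! ### the additive subgroup `D̃_x(H)` -/

/-- `D̃_x(H)` as an additive subgroup (for singular `x`) -/
def Dt (H : Subgroup G) {x : V} (hx : S.Q x = 0) : AddSubgroup V where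
  carrier := S.DtSet H x
  add_mem' := by
    rintro w w' ⟨h, hc⟩ ⟨h', hc'⟩
    refine ⟨by rw [S.Badd_right, h, h', add_zero], ?_⟩
    rw [← S.sg_mul hx h h']
    exact H.mul_mem hc hc'
  zero_mem' := ⟨S.Bzero_right x, by rw [S.sg_zero_right hx]; exact H.one_mem⟩
  neg_mem' := by
    rintro w ⟨h, hc⟩
    refine ⟨by rw [S.Bneg_right, h, neg_zero], ?_⟩
    rw [← S.sg_inv hx h]
    exact H.inv_mem hc

theorem mem_Dt {H : Subgroup G} {x w : V} (hx : S.Q x = 0) :
    w ∈ S.Dt H hx ↔ S.B x w = 0 ∧ S.sg x w ∈ H := Iff.rfl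

theorem smul_self_mem_Dt (H : Subgroup G) {x : V} (hx : S.Q x = 0) (a : F) :
    a • x ∈ S.Dt H hx := by
  refine ⟨by rw [S.Bsmul_right, S.B_self_of_sing hx, mul_zero], ?_⟩
  rw [S.sg_smul_right_self hx]; exact H.one_mem

theorem self_mem_Dt (H : Subgroup G) {x : V} (hx : S.Q x = 0) : x ∈ S.Dt H hx := by
  have := S.smul_self_mem_Dt H hx 1
  rwa [one_smul] at this

theorem add_smul_self_mem_Dt {H : Subgroup G} {x w : V} (hx : S.Q x = 0) (a : F) :
    w + a • x ∈ S.Dt H hx ↔ w ∈ S.Dt H hx := by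
  constructor
  · intro h
    have := (S.Dt H hx).sub_mem h (S.smul_self_mem_Dt H hx a)
    rwa [add_sub_cancel_right] at this
  · intro h
    exact (S.Dt H hx).add_mem h (S.smul_self_mem_Dt H hx a)

/-- `D̃_x(H)` is invariant under `w ↦ a • p • w` for `p ∈ H` with `p • x = a • x` -/
theorem smul_mem_Dt {H : Subgroup G} {x w : V} (hx : S.Q x = 0) {p : G} (hp : p ∈ H) {a : F}
    (hpx : p • x = a • x) (hw : w ∈ S.Dt H hx) : a • (p • w) ∈ S.Dt H hx := by
  obtain ⟨h, hc⟩ := hw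
  have h1 : S.B (p • x) (p • w) = 0 := by rw [S.iso, h]
  refine ⟨?_, ?_⟩
  · rw [S.Bsmul_right, ← S.Bsmul_left, ← hpx, h1]
  · rw [← S.conj_sg_of_smul_eq p hx h hpx]
    exact H.mul_mem (H.mul_mem hp hc) (H.inv_mem hp)

theorem Dt_le_perp {H : Subgroup G} {x : V} (hx : S.Q x = 0) : ∀ u ∈ S.Dt H hx, S.B x u = 0 :=
  fun _ hu => hu.1

end Setting

end Cfsg.Agent.Lib.Helper9.Oq
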