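import Mathlib
import Cfsg.Agent.Lib.Helper9.OqCalc

/-! Helper9 library (S2143, market OQ): the numerical data `Std`, the number `NN q m`, the bridge
to Mathlib's `QuadraticForm` (so that the geometry libraries of helper15/helper25 apply), and the
conjugacy classes `cls`. -/

set_option autoImplicit false

namespace Cfsg.Agent.Lib.Helper9.Oq

/-- the number of singular points of the `(2m+1)`-dimensional orthogonal space over `F_q` -/
def NN (q m : ℕ) : ℕ := (q ^ (2 * m) - 1) / (q - 1)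

theorem NN_mul (q m : ℕ) : NN q m * (q - 1) = q ^ (2 * m) - 1 := by
  unfold NN
  apply Nat.div_mul_cancel
  have h := Nat.sub_dvd_pow_sub_pow q 1 (2 * m)
  rwa [one_pow] at h

theorem NN_succ (q m : ℕ) (hq : 2 ≤ q) : NN q (m + 1) = q ^ (2 * m + 1) + q ^ (2 * m) + NN q m := by
  have h1 := NN_mul q (m + 1)
  have h2 := NN_mul q m
  have hq1 : 0 < q - 1 := by omega
  apply Nat.eq_of_mul_eq_mul_right hq1
  rw [h1, add_mul, h2]
  obtain ⟨r, rfl⟩ : ∃ r, q = r + 2 := ⟨q - 2, by omega⟩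
  have e1 : r + 2 - 1 = r + 1 := by omega
  have hp : 1 ≤ (r + 2) ^ (2 * m) := Nat.one_le_pow _ _ (by omega)
  have hp2 : 1 ≤ (r + 2) ^ (2 * (m + 1)) := Nat.one_le_pow _ _ (by omega)
  rw [e1]
  zify [hp, hp2]
  ring

/-- `N = q^(2m-1) + (q^(2m-1) - 1)/(q-1)`, in the multiplied-out form -/
theorem NN_eq (q m : ℕ) (hq : 2 ≤ q) (hm : 1 ≤ m) :
    NN q m = q ^ (2 * m - 1) + q ^ (2 * m - 2) + NN q (m - 1) := by
  obtain ⟨k, rfl⟩ : ∃ k, m = k + 1 := ⟨m - 1, by omega⟩
  rw [NN_succ q k hq]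
  have e1 : 2 * (k + 1) - 1 = 2 * k + 1 := by omega
  have e2 : 2 * (k + 1) - 2 = 2 * k := by omega
  rw [e1, e2, Nat.add_sub_cancel]

theorem NN_lt (q m : ℕ) (hq : 2 ≤ q) (hm : 1 ≤ m) : NN q m < 2 * q ^ (2 * m - 1) := by
  have h1 := NN_mul q m
  obtain ⟨k, rfl⟩ : ∃ k, m = k + 1 := ⟨m - 1, by omega⟩
  have e1 : 2 * (k + 1) - 1 = 2 * k + 1 := by omega
  have e2 : q ^ (2 * (k + 1)) = q * q ^ (2 * k + 1) := by
    rw [show 2 * (k + 1) = (2 * k + 1) + 1 by ring, pow_succ]; ring
  rw [e1]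
  rw [e2] at h1
  have hpos : 0 < q ^ (2 * k + 1) := Nat.pos_of_ne_zero (pow_ne_zero _ (by omega))
  obtain ⟨r, rfl⟩ : ∃ r, q = r + 2 := ⟨q - 2, by omega⟩
  have e3 : r + 2 - 1 = r + 1 := by omega
  rw [e3] at h1
  by_contra hcon
  push Not at hcon
  have h2 : 2 * (r + 2) ^ (2 * k + 1) * (r + 1) ≤ NN (r + 2) (k + 1) * (r + 1) :=
    Nat.mul_le_mul_right _ hcon
  rw [h1] at h2
  have h3 : (r + 2) * (r + 2) ^ (2 * k + 1) - 1 < (r + 2) * (r + 2) ^ (2 * k + 1) := by
    have : 0 < (r + 2) * (r + 2) ^ (2 * k + 1) := Nat.mul_pos (by omega) hpos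
    omega
  nlinarith [h2, h3, hpos]

variable {F V G : Type*} [Field F] [AddCommGroup V] [Module F V] [Group G] [DistribMulAction G V]

/-- the numerical data of the `(2m+1)`-dimensional orthogonal space over the field with `q`
elements (`q` odd): the number of singular vectors (including `0`) and a lower bound for the
number of vectors of every nonzero norm. -/
structure Setting.Std (S : Setting F V G) (q m : ℕ) : Prop where
  cardF : Nat.card F = q
  two_ne : (2 : F) ≠ 0
  rank : Module.finrank F V = 2 * m + 1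
  sing : Nat.card {v : V // S.Q v = 0} = q ^ (2 * m)
  cls : ∀ a : F, a ≠ 0 → q ^ (2 * m) - q ^ m ≤ Nat.card {v : V // S.Q v = a}

/-- the `P_x`-conjugacy class of `g₀` (`P_x = S.PP x` the stabiliser of the point `F x`) -/
def Setting.cls (S : Setting F V G) (x : V) (g₀ : G) : Set G :=
  {g | ∃ p ∈ S.PP x, g = p * g₀ * p⁻¹}

namespace Setting

variable (S : Setting F V G)

/-- the quadratic form of the setting as a Mathlib `QuadraticForm` -/
def qf : QuadraticForm F V where
  toFun := S.Q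
  toFun_smul a x := by rw [S.Q_smul, smul_eq_mul]
  exists_companion' := ⟨S.B, fun x y => S.Q_add x y⟩

@[simp] theorem qf_apply (v : V) : S.qf v = S.Q v := rfl

theorem polar_qf (x y : V) : QuadraticMap.polar S.qf x y = S.B x y := by
  unfold QuadraticMap.polar
  rw [qf_apply, qf_apply, qf_apply, S.Q_add]
  ring

theorem polarBilin_qf : QuadraticMap.polarBilin S.qf = S.B := by
  ext x y
  rw [QuadraticMap.polarBilin_apply_apply, S.polar_qf]

theorem qf_separatingLeft : (QuadraticMap.polarBilin S.qf).SeparatingLeft := by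
  intro x hx
  apply S.nondeg x
  intro y
  have := hx y
  rwa [QuadraticMap.polarBilin_apply_apply, S.polar_qf] at this

theorem mem_cls {x : V} {g₀ g : G} : g ∈ S.cls x g₀ ↔ ∃ p ∈ S.PP x, g = p * g₀ * p⁻¹ := Iff.rfl

theorem Std.card_V {q m : ℕ} (h : S.Std q m) : Nat.card V = q ^ (2 * m + 1) := by
  have hfin : Module.Finite F V := Module.finite_of_finrank_pos (by rw [h.rank]; omega)
  rw [Module.natCard_eq_pow_finrank (K := F) (V := V), h.cardF, h.rank]

theorem Std.finite_V {q m : ℕ} (h : S.Std q m) (hq : 2 ≤ q) : Finite V := by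
  have h1 := h.card_V
  apply Nat.finite_of_card_ne_zero
  rw [h1]
  exact pow_ne_zero _ (by omega)

theorem Std.finite_F {q m : ℕ} (h : S.Std q m) (hq : 2 ≤ q) : Finite F := by
  apply Nat.finite_of_card_ne_zero
  rw [h.cardF]; omega

theorem Std.moduleFinite {q m : ℕ} (h : S.Std q m) : Module.Finite F V :=
  Module.finite_of_finrank_pos (by rw [h.rank]; omega)

end Setting

end Cfsg.Agent.Lib.Helper9.Oq
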