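/-
Helper9 library: a near-field with commutative addition and multiplication is a field.
-/
import Mathlib
import Cfsg.Prelude.Def_Perm
import Cfsg.Agent.Lib.Helper5.NearField

set_option autoImplicit false

namespace Cfsg.Agent.Lib.Helper9

/-- commutative near-fields are commutative rings -/
@[reducible] def commRingOfNearField (F : Type*) [inst : Cfsg.NearField F]
    (hadd : ∀ a b : F, a + b = b + a) (hmul : ∀ a b : F, a * b = b * a) : CommRing F :=
  { inst.toAddGroup, inst.toMonoid with
    add_comm := hadd
    left_distrib := fun a b c => by
      rw [hmul a (b + c), Cfsg.NearField.right_distrib, hmul b a, hmul c a]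
    right_distrib := Cfsg.NearField.right_distrib
    zero_mul := Cfsg.Agent.Lib.Helper5.NF.zm
    mul_zero := Cfsg.NearField.mul_zero
    mul_comm := hmul }

/-- commutative near-fields are fields -/
@[reducible] noncomputable def fieldOfNearField (F : Type*) [inst : Cfsg.NearField F]
    (hadd : ∀ a b : F, a + b = b + a) (hmul : ∀ a b : F, a * b = b * a) : Field F :=
  letI := commRingOfNearField F hadd hmul
  IsField.toField
    { exists_pair_ne := ⟨0, 1, Cfsg.NearField.zero_ne_one⟩
      mul_comm := hmul
      mul_inv_cancel := fun {a} ha => by
        obtain ⟨b, hb, -⟩ := Cfsg.NearField.exists_inv a ha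
        exact ⟨b, hb⟩ }

end Cfsg.Agent.Lib.Helper9
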