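/-
Helper9 library: recognition of `PGL(2, K)` as a group of Moebius transformations of `K ∪ {∞}`.
The Moebius action of `GL(2, K)` on `Option K` is obtained from Mathlib's action on the projective
line; its kernel is the centre and a group acting faithfully on `Option K ≃ α` with the same
generators (affine maps and inversion) and affine point stabiliser is isomorphic to `PGL(2, K)`.
-/
import Mathlib

set_option autoImplicit false

namespace Cfsg.Agent.Lib.Helper9

open scoped LinearAlgebra.Projectivization MatrixGroups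
open Matrix

namespace Moeb

variable {K : Type*} [Field K]

/-- homogeneous coordinates of a point of `K ∪ {∞}` -/
def vec : Option K → (Fin 2 → K)
  | none => ![1, 0]
  | some x => ![x, 1]

theorem vec_ne_zero (y : Option K) : vec y ≠ 0 := by
  cases y with
  | none => exact fun h => one_ne_zero (congrFun h 0)
  | some x => exact fun h => one_ne_zero (congrFun h 1)

/-- the point of the projective line -/
noncomputable def ptP (y : Option K) : ℙ K (Fin 2 → K) := Projectivization.mk K (vec y) (vec_ne_zero y)

open Classical in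
/-- the affine coordinate of a nonzero vector -/
noncomputable def cls (v : Fin 2 → K) : Option K := if v 1 = 0 then none else some (v 0 / v 1)

theorem mk_eq_ptP_cls (v : Fin 2 → K) (hv : v ≠ 0) : Projectivization.mk K v hv = ptP (cls v) := by
  unfold ptP cls
  by_cases h1 : v 1 = 0
  · have h0 : v 0 ≠ 0 := by
      intro h0
      apply hv
      ext i
      fin_cases i
      · exact h0
      · exact h1
    rw [Projectivization.mk_eq_mk_iff]
    refine ⟨Units.mk0 (v 0) h0, ?_⟩
    ext i
    fin_cases i
    · simp [h1, vec, Units.smul_def]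
    · simp [h1, vec, Units.smul_def]
  · rw [Projectivization.mk_eq_mk_iff]
    refine ⟨Units.mk0 (v 1) h1, ?_⟩
    ext i
    fin_cases i
    · simp [h1, vec, Units.smul_def]
      field_simp
    · simp [h1, vec, Units.smul_def]

theorem cls_vec (y : Option K) : cls (vec y) = y := by
  cases y with
  | none => simp [cls, vec]
  | some x => simp [cls, vec]

theorem ptP_injective : Function.Injective (ptP (K := K)) := by
  intro y z hyz
  unfold ptP at hyz
  rw [Projectivization.mk_eq_mk_iff] at hyz
  obtain ⟨a, ha⟩ := hyz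
  have h0 := congrFun ha 0
  have h1 := congrFun ha 1
  cases y with
  | none =>
    cases z with
    | none => rfl
    | some x =>
      exfalso
      simp [vec, Units.smul_def] at h1
  | some x =>
    cases z with
    | none =>
      exfalso
      simp [vec, Units.smul_def] at h1
    | some x' =>
      simp [vec, Units.smul_def] at h0 h1
      rw [h1] at h0
      simp at h0
      rw [h0]

theorem ptP_surjective : Function.Surjective (ptP (K := K)) := by
  intro p
  induction p using Projectivization.ind with
  | h v hv => exact ⟨cls v, (mk_eq_ptP_cls v hv).symm⟩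

/-- `K ∪ {∞}` is the projective line -/
noncomputable def ptEquiv : Option K ≃ ℙ K (Fin 2 → K) :=
  Equiv.ofBijective ptP ⟨ptP_injective, ptP_surjective⟩

/-- the Moebius action of `GL(2, K)` on `K ∪ {∞}` -/
noncomputable def moebHom : GL (Fin 2) K →* Equiv.Perm (Option K) :=
  ((ptEquiv (K := K)).symm.permCongrHom).toMonoidHom.comp
    (MulAction.toPermHom (GL (Fin 2) K) (ℙ K (Fin 2 → K)))

theorem moebHom_apply (M : GL (Fin 2) K) (y : Option K) :
    moebHom M y = cls (M.1 *ᵥ vec y) := by
  have h1 : moebHom M y = ptEquiv.symm (M • ptEquiv y) := rfl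
  rw [h1]
  have h2 : ptEquiv y = ptP y := rfl
  rw [h2]
  have h3 : M • ptP y = Projectivization.mk K (M.1 *ᵥ vec y)
      ((smul_ne_zero_iff_ne M).mpr (vec_ne_zero y)) := rfl
  rw [h3, mk_eq_ptP_cls]
  exact ptEquiv.symm_apply_apply _

theorem mulVec_none (M : GL (Fin 2) K) : M.1 *ᵥ vec none = ![M.1 0 0, M.1 1 0] := by
  ext i
  fin_cases i <;> simp [Matrix.mulVec, dotProduct, Fin.sum_univ_two, vec]

theorem mulVec_some (M : GL (Fin 2) K) (x : K) :
    M.1 *ᵥ vec (some x) = ![M.1 0 0 * x + M.1 0 1, M.1 1 0 * x + M.1 1 1] := by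
  ext i
  fin_cases i <;> simp [Matrix.mulVec, dotProduct, Fin.sum_univ_two, vec]

theorem det_eq (M : GL (Fin 2) K) : M.1 0 0 * M.1 1 1 - M.1 0 1 * M.1 1 0 ≠ 0 := by
  have h := M.det_ne_zero
  rw [Matrix.det_fin_two] at h
  exact h

/-- upper triangular matrices act as affine maps -/
theorem moeb_upper (M : GL (Fin 2) K) (h : M.1 1 0 = 0) :
    M.1 0 0 ≠ 0 ∧ M.1 1 1 ≠ 0 ∧ moebHom M none = none ∧
      ∀ x : K, moebHom M (some x) = some ((M.1 0 0 * x + M.1 0 1) / M.1 1 1) := by
  have hd := det_eq M
  rw [h] at hd
  simp at hd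
  refine ⟨hd.1, hd.2, ?_, ?_⟩
  · rw [moebHom_apply, mulVec_none]
    simp [cls, h]
  · intro x
    rw [moebHom_apply, mulVec_some]
    simp [cls, h, hd.2]

/-- the Weyl element -/
noncomputable def wMat : GL (Fin 2) K :=
  Matrix.GeneralLinearGroup.mkOfDetNeZero !![0, 1; 1, 0] (by simp [Matrix.det_fin_two])

theorem moeb_w_none : moebHom (wMat (K := K)) none = some 0 := by
  rw [moebHom_apply, mulVec_none]
  simp [cls, wMat, Matrix.GeneralLinearGroup.mkOfDetNeZero]

theorem moeb_w_zero : moebHom (wMat (K := K)) (some 0) = none := by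
  rw [moebHom_apply, mulVec_some]
  simp [cls, wMat, Matrix.GeneralLinearGroup.mkOfDetNeZero]

theorem moeb_w_some (x : K) (hx : x ≠ 0) : moebHom (wMat (K := K)) (some x) = some x⁻¹ := by
  rw [moebHom_apply, mulVec_some]
  simp [cls, wMat, Matrix.GeneralLinearGroup.mkOfDetNeZero, hx]

/-- affine matrices -/
noncomputable def affMat (a b : K) (ha : a ≠ 0) : GL (Fin 2) K :=
  Matrix.GeneralLinearGroup.mkOfDetNeZero !![a, b; 0, 1] (by simp [Matrix.det_fin_two, ha])

theorem moeb_aff_none (a b : K) (ha : a ≠ 0) : moebHom (affMat a b ha) none = none := by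
  rw [moebHom_apply, mulVec_none]
  simp [cls, affMat, Matrix.GeneralLinearGroup.mkOfDetNeZero]

theorem moeb_aff_some (a b : K) (ha : a ≠ 0) (x : K) :
    moebHom (affMat a b ha) (some x) = some (a * x + b) := by
  rw [moebHom_apply, mulVec_some]
  simp [cls, affMat, Matrix.GeneralLinearGroup.mkOfDetNeZero]

/-- Bruhat decomposition of a matrix with nonzero lower left entry -/
theorem bruhat (M : GL (Fin 2) K) (h : M.1 1 0 ≠ 0) :
    ∃ U B : GL (Fin 2) K, U.1 1 0 = 0 ∧ B.1 1 0 = 0 ∧ M = U * wMat * B := by
  have hd := det_eq M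
  set a := M.1 0 0 with ha
  set b := M.1 0 1 with hb
  set c := M.1 1 0 with hc
  set d := M.1 1 1 with hdd
  have hB : (!![c, d; 0, (b * c - a * d) / c] : Matrix (Fin 2) (Fin 2) K).det ≠ 0 := by
    rw [Matrix.det_fin_two]
    simp only [Matrix.of_apply, Matrix.cons_val', Matrix.cons_val_zero, Matrix.cons_val_one,
      Matrix.cons_val_fin_one]
    intro h0
    apply hd
    field_simp at h0
    linear_combination -h0
  refine ⟨Matrix.GeneralLinearGroup.mkOfDetNeZero !![1, a / c; 0, 1] (by simp [Matrix.det_fin_two]),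
    Matrix.GeneralLinearGroup.mkOfDetNeZero !![c, d; 0, (b * c - a * d) / c] hB, ?_, ?_, ?_⟩
  · simp [Matrix.GeneralLinearGroup.mkOfDetNeZero]
  · simp [Matrix.GeneralLinearGroup.mkOfDetNeZero]
  · apply Units.ext
    ext i j
    fin_cases i <;> fin_cases j <;>
      simp [Matrix.GeneralLinearGroup.mkOfDetNeZero, wMat, Matrix.mul_apply, Fin.sum_univ_two,
        ← ha, ← hb, ← hc, ← hdd] <;> field_simp <;> ring

/-- the kernel of the Moebius action is the centre -/
theorem ker_moebHom : (moebHom (K := K)).ker = Subgroup.center (GL (Fin 2) K) := by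
  ext M
  rw [MonoidHom.mem_ker, Matrix.GeneralLinearGroup.center_eq_range_scalar]
  constructor
  · intro hM
    have hnone : moebHom M none = none := by rw [hM]; rfl
    have h10 : M.1 1 0 = 0 := by
      by_contra h10
      rw [moebHom_apply, mulVec_none] at hnone
      simp [cls, h10] at hnone
    obtain ⟨h00, h11, -, hx⟩ := moeb_upper M h10
    have e0 : moebHom M (some 0) = some 0 := by rw [hM]; rfl
    have e1 : moebHom M (some 1) = some 1 := by rw [hM]; rfl
    rw [hx] at e0 e1
    simp only [mul_zero, zero_add, Option.some.injEq, mul_one] at e0 e1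
    have h01 : M.1 0 1 = 0 := by
      rcases div_eq_zero_iff.mp e0 with h | h
      · exact h
      · exact absurd h h11
    rw [h01, add_zero, div_eq_one_iff_eq h11] at e1
    refine ⟨Units.mk0 (M.1 0 0) h00, ?_⟩
    apply Units.ext
    ext i j
    fin_cases i <;> fin_cases j <;> simp [Matrix.GeneralLinearGroup.scalar, h10, h01, e1]
  · rintro ⟨u, rfl⟩
    apply Equiv.ext
    intro y
    rw [moebHom_apply]
    have : (Matrix.GeneralLinearGroup.scalar (Fin 2) u).1 *ᵥ vec y = (u : K) • vec y := by
      ext i
      fin_cases i <;> cases y <;>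
        simp [Matrix.GeneralLinearGroup.scalar, Matrix.mulVec, dotProduct, Fin.sum_univ_two, vec]
    rw [this]
    cases y with
    | none => simp [cls, vec]
    | some x => simp [cls, vec, mul_div_mul_left]

end Moeb

end Cfsg.Agent.Lib.Helper9
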