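/-
Helper9 library: recognition theorem for `PGL(2, K)` (continuation of `PGL2Recog`).
-/
import Mathlib
import Cfsg.Agent.Lib.Helper9.PGL2Recog

set_option autoImplicit false

namespace Cfsg.Agent.Lib.Helper9

open scoped MatrixGroups
open Matrix

namespace Moeb

variable {K : Type*} [Field K] {G α : Type*} [Group G] [MulAction G α] [FaithfulSMul G α]

/-- **Recognition of `PGL(2, K)`**: a group acting faithfully on `α ≃ K ∪ {∞}`, containing all
affine maps and the inversion, and whose stabiliser of `∞` consists of affine maps, is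
isomorphic to `PGL(2, K)`. -/
theorem pgl2_of_moebius (e : Option K ≃ α)
    (haff : ∀ a b : K, a ≠ 0 → ∃ g : G, g • e none = e none ∧
      ∀ x : K, g • e (some x) = e (some (a * x + b)))
    (hinv : ∃ t : G, t • e none = e (some 0) ∧ t • e (some 0) = e none ∧
      ∀ x : K, x ≠ 0 → t • e (some x) = e (some x⁻¹))
    (hstab : ∀ g : G, g • e none = e none → ∃ a b : K, a ≠ 0 ∧
      ∀ x : K, g • e (some x) = e (some (a * x + b))) :
    Nonempty (G ≃* Matrix.ProjGenLinGroup (Fin 2) K) := by
  let Ψ : G →* Equiv.Perm (Option K) :=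
    (e.symm.permCongrHom).toMonoidHom.comp (MulAction.toPermHom G α)
  have hΨ : ∀ (g : G) (y : Option K), Ψ g y = e.symm (g • e y) := fun g y => rfl
  have hΨinj : Function.Injective Ψ := by
    intro g g' hgg
    apply MulAction.toPerm_injective (α := G) (β := α)
    exact (e.symm.permCongrHom).injective hgg
  -- elements fixing ∞
  have h1 : ∀ g : G, g • e none = e none → Ψ g ∈ (moebHom (K := K)).range := by
    intro g hg
    obtain ⟨a, b, ha, hx⟩ := hstab g hg
    refine ⟨affMat a b ha, ?_⟩
    apply Equiv.ext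
    intro y
    cases y with
    | none => rw [moeb_aff_none, hΨ, hg, Equiv.symm_apply_apply]
    | some x => rw [moeb_aff_some, hΨ, hx, Equiv.symm_apply_apply]
  obtain ⟨t, ht1, ht2, ht3⟩ := hinv
  have h2 : Ψ t ∈ (moebHom (K := K)).range := by
    refine ⟨wMat, ?_⟩
    apply Equiv.ext
    intro y
    cases y with
    | none => rw [moeb_w_none, hΨ, ht1, Equiv.symm_apply_apply]
    | some x =>
      by_cases hx : x = 0
      · subst hx
        rw [moeb_w_zero, hΨ, ht2, Equiv.symm_apply_apply]
      · rw [moeb_w_some x hx, hΨ, ht3 x hx, Equiv.symm_apply_apply]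
  have h3 : ∀ g : G, Ψ g ∈ (moebHom (K := K)).range := by
    intro g
    by_cases hg : g • e none = e none
    · exact h1 g hg
    · obtain ⟨y, hy⟩ := e.surjective (g • e none)
      cases y with
      | none => exact absurd hy.symm hg
      | some b =>
        obtain ⟨n, hn1, hn2⟩ := haff 1 b one_ne_zero
        have hn0 : n • e (some 0) = e (some b) := by rw [hn2]; simp
        have hg' : (t * n⁻¹ * g) • e none = e none := by
          rw [mul_smul, mul_smul, ← hy, ← hn0, inv_smul_smul, ht2]
        have e1 : Ψ g = Ψ n * (Ψ t)⁻¹ * Ψ (t * n⁻¹ * g) := by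
          rw [← map_inv, ← map_mul, ← map_mul]
          congr 1
          group
        rw [e1]
        exact Subgroup.mul_mem _ (Subgroup.mul_mem _ (h1 n hn1) (Subgroup.inv_mem _ h2)) (h1 _ hg')
  -- conversely
  have h4 : ∀ M : GL (Fin 2) K, M.1 1 0 = 0 → moebHom M ∈ Ψ.range := by
    intro M hM
    obtain ⟨h00, h11, hnone, hsome⟩ := moeb_upper M hM
    obtain ⟨g, hg1, hg2⟩ := haff (M.1 0 0 / M.1 1 1) (M.1 0 1 / M.1 1 1) (div_ne_zero h00 h11)
    refine ⟨g, ?_⟩
    apply Equiv.ext
    intro y
    cases y with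
    | none => rw [hnone, hΨ, hg1, Equiv.symm_apply_apply]
    | some x =>
      rw [hsome, hΨ, hg2, Equiv.symm_apply_apply]
      congr 1
      field_simp
  have h5 : moebHom (wMat (K := K)) ∈ Ψ.range := by
    obtain ⟨M, hM⟩ := h2
    refine ⟨t, ?_⟩
    apply Equiv.ext
    intro y
    cases y with
    | none => rw [moeb_w_none, hΨ, ht1, Equiv.symm_apply_apply]
    | some x =>
      by_cases hx : x = 0
      · subst hx
        rw [moeb_w_zero, hΨ, ht2, Equiv.symm_apply_apply]
      · rw [moeb_w_some x hx, hΨ, ht3 x hx, Equiv.symm_apply_apply]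
  have h6 : ∀ M : GL (Fin 2) K, moebHom M ∈ Ψ.range := by
    intro M
    by_cases hM : M.1 1 0 = 0
    · exact h4 M hM
    · obtain ⟨U, B, hU, hB, rfl⟩ := bruhat M hM
      rw [map_mul, map_mul]
      exact Subgroup.mul_mem _ (Subgroup.mul_mem _ (h4 U hU) h5) (h4 B hB)
  have hrange : Ψ.range = (moebHom (K := K)).range := by
    apply le_antisymm
    · rintro _ ⟨g, rfl⟩
      exact h3 g
    · rintro _ ⟨M, rfl⟩
      exact h6 M
  have e1 : G ≃* Ψ.range := MonoidHom.ofInjective hΨinj
  have e2 : Ψ.range ≃* (moebHom (K := K)).range := MulEquiv.subgroupCongr hrange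
  have e3 : GL (Fin 2) K ⧸ (moebHom (K := K)).ker ≃* (moebHom (K := K)).range :=
    QuotientGroup.quotientKerEquivRange _
  have e4 : GL (Fin 2) K ⧸ (moebHom (K := K)).ker ≃* GL (Fin 2) K ⧸ Subgroup.center (GL (Fin 2) K) :=
    QuotientGroup.quotientMulEquivOfEq ker_moebHom
  exact ⟨((e1.trans e2).trans e3.symm).trans e4⟩

end Moeb

end Cfsg.Agent.Lib.Helper9
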