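/-
Helper9 library: sharply 2-transitive actions of degree `2 ^ f` have a regular normal
elementary abelian 2-subgroup (elementary proof through counting and Sylow).
-/
import Mathlib
import Cfsg.Agent.Lib.Helper5.FrobCount

set_option autoImplicit false

namespace Cfsg.Agent.Lib.Helper9

/-- A sharply 2-transitive action, in elementary form. -/
structure Sharp2 (K X : Type*) [Group K] [MulAction K X] : Prop where
  ex : ∀ {a b a' b' : X}, a ≠ b → a' ≠ b' → ∃ g : K, g • a = a' ∧ g • b = b'
  uniq : ∀ {g : K} {a b : X}, a ≠ b → g • a = a → g • b = b → g = 1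

namespace Sharp2

variable {K X : Type*} [Group K] [MulAction K X]

theorem finite_group [Finite X] (h : Sharp2 K X) {a b : X} (hab : a ≠ b) : Finite K := by
  have hinj : Function.Injective (MulAction.toPermHom K X) := by
    rw [injective_iff_map_eq_one]
    intro g hg
    have h1 : ∀ x : X, g • x = x := by
      intro x
      have := congrArg (fun σ : Equiv.Perm X => σ x) hg
      simpa using this
    exact h.uniq hab (h1 a) (h1 b)
  exact Finite.of_injective _ hinj

theorem pretransitive (h : Sharp2 K X) {a b : X} (hab : a ≠ b) : MulAction.IsPretransitive K X := by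
  refine ⟨fun x y => ?_⟩
  have hx : ∃ z, x ≠ z := by
    by_cases hxa : x = a
    · exact ⟨b, hxa ▸ hab⟩
    · exact ⟨a, hxa⟩
  have hy : ∃ z, y ≠ z := by
    by_cases hya : y = a
    · exact ⟨b, hya ▸ hab⟩
    · exact ⟨a, hya⟩
  obtain ⟨z, hz⟩ := hx
  obtain ⟨w, hw⟩ := hy
  obtain ⟨g, hg, -⟩ := h.ex hz hw
  exact ⟨g, hg⟩

/-- **Regular normal subgroup** of a sharply 2-transitive group of degree `2 ^ f`. -/
theorem exists_kernel [Finite X] (h : Sharp2 K X) {f : ℕ} (hf : 1 ≤ f) (hX : Nat.card X = 2 ^ f) :
    ∃ N : Subgroup K, N.Normal ∧ (∀ x y : X, ∃ n ∈ N, n • x = y) ∧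
      (∀ n ∈ N, ∀ x : X, n • x = x → n = 1) ∧ (∀ n ∈ N, n * n = 1) := by
  classical
  haveI : Fact (Nat.Prime 2) := ⟨Nat.prime_two⟩
  have h2le : 2 ≤ Nat.card X := by
    rw [hX]
    calc 2 = 2 ^ 1 := by norm_num
      _ ≤ 2 ^ f := Nat.pow_le_pow_right (by norm_num) hf
  haveI : Fintype X := Fintype.ofFinite X
  obtain ⟨a, b, hab⟩ : ∃ a b : X, a ≠ b := by
    have : 1 < Fintype.card X := by rw [← Nat.card_eq_fintype_card]; omega
    exact Fintype.exists_pair_of_one_lt_card this
  haveI : Nonempty X := ⟨a⟩
  haveI := h.finite_group hab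
  haveI := h.pretransitive hab
  -- counting fixed-point-free elements
  have hfix : ∀ k : K, k ≠ 1 → ∀ x y : X, k • x = x → k • y = y → x = y := by
    intro k hk x y hx hy
    by_contra hxy
    exact hk (h.uniq hxy hx hy)
  have hT := Cfsg.Agent.Lib.Helper5.frobenius_kernel_count (K := K) (X := X) hfix
  set T : Set K := {k : K | k = 1 ∨ ∀ x : X, k • x ≠ x} with hTdef
  -- a subgroup of order 2 ^ f
  have hdvd : 2 ^ f ∣ Nat.card K := by
    rw [← hX, ← MulAction.index_stabilizer_of_transitive K a]
    exact Subgroup.index_dvd_card _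
  obtain ⟨P, hP⟩ := Sylow.exists_subgroup_card_pow_prime 2 hdvd
  have hPT : (P : Set K) ⊆ T := by
    intro n hn
    by_cases hn1 : n = 1
    · exact Or.inl hn1
    · right
      intro x hx
      have hPp : IsPGroup 2 P := IsPGroup.of_card hP
      have hZ : IsPGroup 2 (Subgroup.zpowers n) :=
        hPp.to_le (Subgroup.zpowers_le.mpr hn)
      have hmod := hZ.card_modEq_card_fixedPoints X
      have hfp : MulAction.fixedPoints (Subgroup.zpowers n) X = {x} := by
        ext y
        simp only [MulAction.mem_fixedPoints, Set.mem_singleton_iff]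
        constructor
        · intro hy
          have hy' : n • y = y := hy ⟨n, Subgroup.mem_zpowers n⟩
          exact (hfix n hn1 x y hx hy').symm
        · rintro rfl ⟨m, hm⟩
          obtain ⟨i, rfl⟩ := Subgroup.mem_zpowers_iff.mp hm
          show (n ^ i) • y = y
          have hmem : n ∈ MulAction.stabilizer K y := hx
          exact MulAction.mem_stabilizer_iff.mp (Subgroup.zpow_mem _ hmem i)
      rw [hfp, hX] at hmod
      have h1 : Nat.card ({x} : Set X) = 1 := by simp
      rw [h1] at hmod
      have h2 : 2 ^ f % 2 = 0 := by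
        obtain ⟨j, rfl⟩ : ∃ j, f = j + 1 := ⟨f - 1, by omega⟩
        rw [pow_succ]; simp
      have := hmod
      unfold Nat.ModEq at this
      rw [h2] at this
      norm_num at this
  have hTfin : T.Finite := Set.toFinite T
  have hPeq : (P : Set K) = T := by
    apply Set.eq_of_subset_of_ncard_le hPT _ hTfin
    rw [hT, hX, ← hP]
    exact le_of_eq (Nat.card_coe_set_eq (P : Set K)).symm
  have hmemT : ∀ n : K, n ∈ P ↔ (n = 1 ∨ ∀ x : X, n • x ≠ x) := by
    intro n
    have : n ∈ (P : Set K) ↔ n ∈ T := by rw [hPeq]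
    exact this
  have hnormal : P.Normal := by
    refine ⟨fun n hn g => ?_⟩
    rw [hmemT] at hn ⊢
    rcases hn with rfl | hn
    · left; simp
    · right
      intro x hx
      apply hn (g⁻¹ • x)
      have : g • (n • (g⁻¹ • x)) = g • (g⁻¹ • x) := by
        rw [smul_inv_smul]
        rw [mul_smul, mul_smul] at hx
        exact hx
      exact MulAction.injective g this
  have hsemi : ∀ n ∈ P, ∀ x : X, n • x = x → n = 1 := by
    intro n hn x hx
    rcases (hmemT n).mp hn with h1 | h1
    · exact h1
    · exact absurd hx (h1 x)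
  have htrans : ∀ x y : X, ∃ n ∈ P, n • x = y := by
    intro x y
    have hstab : MulAction.stabilizer P x = ⊥ := by
      rw [eq_bot_iff]
      intro n hn
      rw [MulAction.mem_stabilizer_iff] at hn
      rw [Subgroup.mem_bot]
      exact Subtype.ext (hsemi n n.2 x hn)
    have hidx := MulAction.index_stabilizer P x
    rw [hstab, Subgroup.index_bot, hP, ← hX] at hidx
    have horb : MulAction.orbit P x = Set.univ := by
      rw [Set.eq_univ_iff_ncard]
      rw [← hidx]
    have : y ∈ MulAction.orbit P x := by rw [horb]; trivial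
    obtain ⟨n, hn⟩ := this
    exact ⟨n, n.2, hn⟩
  refine ⟨P, hnormal, htrans, hsemi, ?_⟩
  -- all elements are involutions
  have h2P : 2 ∣ Nat.card P := by
    rw [hP]
    exact dvd_pow_self 2 (by omega)
  obtain ⟨z, hz⟩ := exists_prime_orderOf_dvd_card' 2 h2P
  have hz1 : (z : K) ≠ 1 := by
    intro h1
    have : z = 1 := Subtype.ext h1
    rw [this, orderOf_one] at hz
    norm_num at hz
  have hzz : (z : K) * z = 1 := by
    have : z ^ 2 = 1 := by rw [← hz]; exact pow_orderOf_eq_one z
    have := congrArg Subtype.val this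
    simpa [sq] using this
  intro n hn
  by_cases hn1 : n = 1
  · rw [hn1]; simp
  · have hzx : (z : K) • a ≠ a := fun hh => hz1 (hsemi z z.2 a hh)
    have hnx : n • a ≠ a := fun hh => hn1 (hsemi n hn a hh)
    obtain ⟨g, hga, hgy⟩ := h.ex (Ne.symm hzx) (Ne.symm hnx)
    have hconj : g * z * g⁻¹ ∈ P := hnormal.conj_mem z z.2 g
    have heq : n⁻¹ * (g * z * g⁻¹) = 1 := by
      apply hsemi _ (P.mul_mem (P.inv_mem hn) hconj) a
      rw [mul_smul, mul_smul, mul_smul]
      have : g⁻¹ • a = a := by rw [inv_smul_eq_iff, hga]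
      rw [this, hgy, inv_smul_smul]
    have hn_eq : n = g * z * g⁻¹ := by
      have := inv_mul_eq_one.mp heq
      exact this
    rw [hn_eq]
    calc g * z * g⁻¹ * (g * z * g⁻¹) = g * (z * z) * g⁻¹ := by group
      _ = 1 := by rw [hzz]; group

end Sharp2

end Cfsg.Agent.Lib.Helper9
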