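/-
Helper9 library: sharply 3-transitive actions of degree `2 ^ f + 1`.
Basic API, point stabilisers are sharply 2-transitive, every element interchanging two points
is an involution, two-point stabilisers are commutative and inverted by such elements.
-/
import Mathlib
import Cfsg.Agent.Lib.Helper9.Sharp2Kernel

set_option autoImplicit false

namespace Cfsg.Agent.Lib.Helper9

/-- A sharply 3-transitive action, in elementary form. -/
structure Sharp3 (G α : Type*) [Group G] [MulAction G α] : Prop where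
  ex : ∀ {a b c a' b' c' : α}, a ≠ b → a ≠ c → b ≠ c → a' ≠ b' → a' ≠ c' → b' ≠ c' →
    ∃ g : G, g • a = a' ∧ g • b = b' ∧ g • c = c'
  uniq : ∀ {g : G} {a b c : α}, a ≠ b → a ≠ c → b ≠ c → g • a = a → g • b = b → g • c = c →
    g = 1

section Bridge

variable {G α : Type*} [Group G] [MulAction G α]

/-- An embedding `Fin 3 ↪ α` from three distinct points. -/
def embOfD3 {a b c : α} (hab : a ≠ b) (hac : a ≠ c) (hbc : b ≠ c) : Fin 3 ↪ α where
  toFun := ![a, b, c]
  inj' := by
    intro i j hij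
    fin_cases i <;> fin_cases j <;> simp_all

/-- Bridge from Mathlib's formulation. -/
theorem sharp3_of_isMultiplyPretransitive (h3 : MulAction.IsMultiplyPretransitive G α 3)
    (hsharp : ∀ x : Fin 3 ↪ α, MulAction.stabilizer G x = ⊥) : Sharp3 G α := by
  refine ⟨?_, ?_⟩
  · intro a b c a' b' c' hab hac hbc hab' hac' hbc'
    obtain ⟨g, hg⟩ := h3.exists_smul_eq (embOfD3 hab hac hbc) (embOfD3 hab' hac' hbc')
    have key : ∀ i : Fin 3, g • (embOfD3 hab hac hbc) i = (embOfD3 hab' hac' hbc') i := by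
      intro i
      rw [← hg]
      rfl
    exact ⟨g, key 0, key 1, key 2⟩
  · intro g a b c hab hac hbc ha hb hc
    have : g ∈ MulAction.stabilizer G (embOfD3 hab hac hbc) := by
      rw [MulAction.mem_stabilizer_iff]
      ext i
      fin_cases i
      · exact ha
      · exact hb
      · exact hc
    rw [hsharp] at this
    exact Subgroup.mem_bot.mp this

end Bridge

namespace Sharp3

variable {G α : Type*} [Group G] [MulAction G α] (h : Sharp3 G α)
include h

theorem eq_of_three {g g' : G} {a b c : α} (hab : a ≠ b) (hac : a ≠ c) (hbc : b ≠ c)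
    (ha : g • a = g' • a) (hb : g • b = g' • b) (hc : g • c = g' • c) : g = g' := by
  have key : g'⁻¹ * g = 1 := by
    apply h.uniq hab hac hbc
    · rw [mul_smul, ha, inv_smul_smul]
    · rw [mul_smul, hb, inv_smul_smul]
    · rw [mul_smul, hc, inv_smul_smul]
  exact (inv_mul_eq_one.mp key).symm

/-- The point stabiliser is sharply 2-transitive on the remaining points. -/
theorem sharp2_stabilizer (a : α) :
    Sharp2 (MulAction.stabilizer G a) (SubMulAction.ofStabilizer G a) := by
  refine ⟨?_, ?_⟩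
  · intro x y x' y' hxy hxy'
    have hx : (x : α) ≠ a := SubMulAction.neq_of_mem_ofStabilizer G a
    have hy : (y : α) ≠ a := SubMulAction.neq_of_mem_ofStabilizer G a
    have hx' : (x' : α) ≠ a := SubMulAction.neq_of_mem_ofStabilizer G a
    have hy' : (y' : α) ≠ a := SubMulAction.neq_of_mem_ofStabilizer G a
    have h1 : (x : α) ≠ y := fun e => hxy (Subtype.ext e)
    have h2 : (x' : α) ≠ y' := fun e => hxy' (Subtype.ext e)
    obtain ⟨g, hga, hgx, hgy⟩ := h.ex (Ne.symm hx) (Ne.symm hy) h1 (Ne.symm hx') (Ne.symm hy') h2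
    refine ⟨⟨g, hga⟩, Subtype.ext hgx, Subtype.ext hgy⟩
  · intro g x y hxy hgx hgy
    have hx : (x : α) ≠ a := SubMulAction.neq_of_mem_ofStabilizer G a
    have hy : (y : α) ≠ a := SubMulAction.neq_of_mem_ofStabilizer G a
    have h1 : (x : α) ≠ y := fun e => hxy (Subtype.ext e)
    have h2 : (g : G) • (x : α) = x := congrArg Subtype.val hgx
    have h3 : (g : G) • (y : α) = y := congrArg Subtype.val hgy
    exact Subtype.ext (h.uniq (Ne.symm hx) (Ne.symm hy) h1 g.2 h2 h3)

/-- The regular normal elementary abelian 2-subgroup of a point stabiliser, inside `G`. -/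
theorem exists_kernel [Finite α] {f : ℕ} (hf : 1 ≤ f) (hα : Nat.card α = 2 ^ f + 1) (a : α) :
    ∃ N : Subgroup G, (∀ n ∈ N, n • a = a) ∧
      (∀ g : G, g • a = a → ∀ n ∈ N, g * n * g⁻¹ ∈ N) ∧
      (∀ x y : α, x ≠ a → y ≠ a → ∃ n ∈ N, n • x = y) ∧
      (∀ n ∈ N, ∀ x : α, x ≠ a → n • x = x → n = 1) ∧ (∀ n ∈ N, n * n = 1) := by
  have hX : Nat.card (SubMulAction.ofStabilizer G a) = 2 ^ f := by
    have := SubMulAction.nat_card_ofStabilizer_add_one_eq G a
    omega
  obtain ⟨N, hN, htr, hsemi, hinv⟩ := (h.sharp2_stabilizer a).exists_kernel hf hX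
  refine ⟨N.map (MulAction.stabilizer G a).subtype, ?_, ?_, ?_, ?_, ?_⟩
  · rintro n ⟨m, -, rfl⟩
    exact m.2
  · rintro g hg n ⟨m, hm, rfl⟩
    refine ⟨⟨g, hg⟩ * m * ⟨g, hg⟩⁻¹, hN.conj_mem m hm _, ?_⟩
    simp
  · intro x y hx hy
    obtain ⟨n, hn, hnx⟩ := htr ⟨x, hx⟩ ⟨y, hy⟩
    refine ⟨n, ⟨n, hn, rfl⟩, ?_⟩
    exact congrArg Subtype.val hnx
  · rintro n ⟨m, hm, rfl⟩ x hx hfix
    have : m = 1 := hsemi m hm ⟨x, hx⟩ (Subtype.ext hfix)
    rw [this]; rfl
  · rintro n ⟨m, hm, rfl⟩
    have := hinv m hm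
    have := congrArg Subtype.val this
    simpa using this

/-- **Every element interchanging two points is an involution.** -/
theorem mul_self_eq_one_of_swap [Finite α] {f : ℕ} (hf : 1 ≤ f) (hα : Nat.card α = 2 ^ f + 1)
    {a b : α} (hab : a ≠ b) {g : G} (hga : g • a = b) (hgb : g • b = a) : g * g = 1 := by
  classical
  -- a third point
  have h3 : 3 ≤ Nat.card α := by
    rw [hα]
    have : 2 ^ 1 ≤ 2 ^ f := Nat.pow_le_pow_right (by norm_num) hf
    omega
  haveI : Fintype α := Fintype.ofFinite α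
  obtain ⟨c₀, hc₀a, hc₀b⟩ : ∃ c : α, c ≠ a ∧ c ≠ b := by
    by_contra hcon
    push Not at hcon
    have hsub : (Finset.univ : Finset α) ⊆ {a, b} := by
      intro c _
      by_cases hca : c = a
      · simp [hca]
      · simp [hcon c hca]
    have := Finset.card_le_card hsub
    rw [Finset.card_univ, ← Nat.card_eq_fintype_card] at this
    have h2 : ({a, b} : Finset α).card ≤ 2 := Finset.card_le_two
    omega
  -- the involutions `n c`
  have key : ∀ c : α, c ≠ a → c ≠ b → ∃ n : G, n • a = b ∧ n • b = a ∧ n • c = c ∧ n * n = 1 ∧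
      ∀ d : α, d ≠ c → n • d ≠ d := by
    intro c hca hcb
    obtain ⟨N, hfix, -, htr, hsemi, hinv⟩ := h.exists_kernel hf hα c
    obtain ⟨n, hn, hna⟩ := htr a b (Ne.symm hca) (Ne.symm hcb)
    have hnn := hinv n hn
    refine ⟨n, hna, ?_, hfix n hn, hnn, ?_⟩
    · have : n • (n • a) = a := by rw [← mul_smul, hnn, one_smul]
      rw [hna] at this
      exact this
    · intro d hd hdd
      have : n = 1 := hsemi n hn d hd hdd
      rw [this, one_smul] at hna
      exact hab hna
  choose! n hn using key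
  let S := {c : α // c ≠ a ∧ c ≠ b}
  let φ : S → S := fun c => ⟨n c.1 • c₀, by
    obtain ⟨h1, h2, -, -, -⟩ := hn c.1 c.2.1 c.2.2
    constructor
    · intro e
      exact hc₀b (MulAction.injective _ (e.trans h2.symm))
    · intro e
      exact hc₀a (MulAction.injective _ (e.trans h1.symm))⟩
  have hφinj : Function.Injective φ := by
    intro c d hcd
    have hcd' : n c.1 • c₀ = n d.1 • c₀ := congrArg Subtype.val hcd
    obtain ⟨c1, c2, c3, c4, c5⟩ := hn c.1 c.2.1 c.2.2
    obtain ⟨d1, d2, d3, d4, d5⟩ := hn d.1 d.2.1 d.2.2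
    have hnn : n c.1 = n d.1 :=
      h.eq_of_three hab (Ne.symm hc₀a) (Ne.symm hc₀b) (c1.trans d1.symm) (c2.trans d2.symm) hcd'
    by_contra hne
    have hne' : d.1 ≠ c.1 := fun e => hne (Subtype.ext e.symm)
    apply c5 d.1 hne'
    rw [hnn]
    exact d3
  have hφsurj : Function.Surjective φ := Finite.injective_iff_surjective.mp hφinj
  have hgc : g • c₀ ≠ a ∧ g • c₀ ≠ b := by
    constructor
    · intro e
      rw [← hgb] at e
      exact hc₀b (MulAction.injective _ e)
    · intro e
      rw [← hga] at e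
      exact hc₀a (MulAction.injective _ e)
  obtain ⟨c, hc⟩ := hφsurj ⟨g • c₀, hgc⟩
  have hc' : n c.1 • c₀ = g • c₀ := congrArg Subtype.val hc
  obtain ⟨c1, c2, c3, c4, c5⟩ := hn c.1 c.2.1 c.2.2
  have : g = n c.1 :=
    h.eq_of_three hab (Ne.symm hc₀a) (Ne.symm hc₀b) (hga.trans c1.symm) (hgb.trans c2.symm) hc'.symm
  rw [this]
  exact c4

/-- An element interchanging `a` and `b` inverts the stabiliser of `a` and `b`. -/
theorem conj_eq_inv_of_swap [Finite α] {f : ℕ} (hf : 1 ≤ f) (hα : Nat.card α = 2 ^ f + 1)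
    {a b : α} (hab : a ≠ b) {t : G} (hta : t • a = b) (htb : t • b = a)
    {x : G} (hxa : x • a = a) (hxb : x • b = b) : t * x * t⁻¹ = x⁻¹ := by
  have h1 : t * t = 1 := h.mul_self_eq_one_of_swap hf hα hab hta htb
  have h2 : (t * x) * (t * x) = 1 := by
    apply h.mul_self_eq_one_of_swap hf hα hab
    · rw [mul_smul, hxa, hta]
    · rw [mul_smul, hxb, htb]
  have h3 : t⁻¹ = t := inv_eq_of_mul_eq_one_right h1
  rw [h3]
  have h4 : t * x * t * x = 1 := by simpa [mul_assoc] using h2
  exact eq_inv_of_mul_eq_one_left h4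

/-- Two-point stabilisers are commutative. -/
theorem comm_of_fix_two [Finite α] {f : ℕ} (hf : 1 ≤ f) (hα : Nat.card α = 2 ^ f + 1)
    {a b : α} (hab : a ≠ b) {x y : G} (hxa : x • a = a) (hxb : x • b = b)
    (hya : y • a = a) (hyb : y • b = b) : x * y = y * x := by
  classical
  have h3 : 3 ≤ Nat.card α := by
    rw [hα]
    have : 2 ^ 1 ≤ 2 ^ f := Nat.pow_le_pow_right (by norm_num) hf
    omega
  haveI : Fintype α := Fintype.ofFinite α
  obtain ⟨c₀, hc₀a, hc₀b⟩ : ∃ c : α, c ≠ a ∧ c ≠ b := by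
    by_contra hcon
    push Not at hcon
    have hsub : (Finset.univ : Finset α) ⊆ {a, b} := by
      intro c _
      by_cases hca : c = a
      · simp [hca]
      · simp [hcon c hca]
    have := Finset.card_le_card hsub
    rw [Finset.card_univ, ← Nat.card_eq_fintype_card] at this
    have h2 : ({a, b} : Finset α).card ≤ 2 := Finset.card_le_two
    omega
  obtain ⟨t, hta, htb, -⟩ := h.ex hab (Ne.symm hc₀a) (Ne.symm hc₀b) (Ne.symm hab) (Ne.symm hc₀b)
    (Ne.symm hc₀a)
  have e1 := h.conj_eq_inv_of_swap hf hα hab hta htb hxa hxb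
  have e2 := h.conj_eq_inv_of_swap hf hα hab hta htb hya hyb
  have e3 := h.conj_eq_inv_of_swap hf hα hab hta htb (x := x * y)
    (by rw [mul_smul, hya, hxa]) (by rw [mul_smul, hyb, hxb])
  have e4 : t * (x * y) * t⁻¹ = (t * x * t⁻¹) * (t * y * t⁻¹) := by group
  rw [e3, e1, e2, mul_inv_rev] at e4
  have := congrArg (fun z => z⁻¹) e4
  simpa using this

end Sharp3

end Cfsg.Agent.Lib.Helper9
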