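/-
Helper9 library: a sharply 3-transitive group of degree `2 ^ f + 1` is `PGL(2, K)` for a field `K`
with `2 ^ f` elements (Zassenhaus).
-/
import Mathlib
import Cfsg.Agent.Lib.Helper9.Sharp3
import Cfsg.Agent.Lib.Helper9.PGL2Recog2
import Cfsg.Agent.Lib.Helper9.NearFieldComm
import Cfsg.Agent.Lib.Helper5.NearFieldBuild

set_option autoImplicit false

universe u v

namespace Cfsg.Agent.Lib.Helper9

open MulAction Cfsg.Agent.Lib.Helper5.NFBuild

theorem three_points {α : Type*} [Finite α] (h3 : 3 ≤ Nat.card α) :
    ∃ a b c : α, a ≠ b ∧ a ≠ c ∧ b ≠ c := by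
  classical
  haveI : Fintype α := Fintype.ofFinite α
  rw [Nat.card_eq_fintype_card] at h3
  obtain ⟨a, b, hab⟩ := Fintype.exists_pair_of_one_lt_card (α := α) (by omega)
  obtain ⟨c, hca, hcb⟩ : ∃ c : α, c ≠ a ∧ c ≠ b := by
    by_contra hcon
    push Not at hcon
    have hsub : (Finset.univ : Finset α) ⊆ {a, b} := by
      intro c _
      by_cases hca : c = a
      · simp [hca]
      · simp [hcon c hca]
    have := Finset.card_le_card hsub
    rw [Finset.card_univ] at this
    have h2 : ({a, b} : Finset α).card ≤ 2 := Finset.card_le_two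
    omega
  exact ⟨a, b, c, hab, Ne.symm hca, Ne.symm hcb⟩

theorem Sharp3.faithful {G : Type*} {α : Type*} [Group G] [MulAction G α] (h : Sharp3 G α)
    {a b c : α} (hab : a ≠ b) (hac : a ≠ c) (hbc : b ≠ c) : FaithfulSMul G α := by
  refine ⟨fun {g g'} hgg => ?_⟩
  exact h.eq_of_three hab hac hbc (hgg a) (hgg b) (hgg c)

/-- **Zassenhaus**: sharply 3-transitive of degree `2 ^ f + 1` implies `PGL(2, K)`. -/
theorem Sharp3.exists_field_iso {G : Type u} {α : Type v} [Group G] [MulAction G α] [Finite α]
    (h : Sharp3 G α) {f : ℕ} (hf : 1 ≤ f) (hα : Nat.card α = 2 ^ f + 1) :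
    ∃ (K : Type v) (_ : Field K), Nat.card K = 2 ^ f ∧
      Nonempty (G ≃* Matrix.ProjGenLinGroup (Fin 2) K) := by
  classical
  have h3 : 3 ≤ Nat.card α := by
    rw [hα]
    have : 2 ^ 1 ≤ 2 ^ f := Nat.pow_le_pow_right (by norm_num) hf
    omega
  obtain ⟨pI, p0, p1, hI0, hI1, h01⟩ := three_points h3
  haveI : FaithfulSMul G α := h.faithful hI0 hI1 h01
  have h2 := h.sharp2_stabilizer pI
  have hX : Nat.card (SubMulAction.ofStabilizer G pI) = 2 ^ f := by
    have := SubMulAction.nat_card_ofStabilizer_add_one_eq G pI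
    omega
  obtain ⟨N, hNn, htr, hsemi, hinv⟩ := h2.exists_kernel hf hX
  let o : SubMulAction.ofStabilizer G pI := ⟨p0, Ne.symm hI0⟩
  let e : SubMulAction.ofStabilizer G pI := ⟨p1, Ne.symm hI1⟩
  have hoe : o ≠ e := fun he => h01 (congrArg Subtype.val he)
  choose nn hnn_mem hnn_smul using (fun x : SubMulAction.ofStabilizer G pI => htr o x)
  have hhex : ∀ x : SubMulAction.ofStabilizer G pI, ∃ g : stabilizer G pI,
      x ≠ o → (g • o = o ∧ g • e = x) := by
    intro x
    by_cases hx : x = o
    · exact ⟨1, fun hne => absurd hx hne⟩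
    · obtain ⟨g, hg⟩ := h2.ex hoe (Ne.symm hx)
      exact ⟨g, fun _ => hg⟩
  choose hh hhh using hhex
  have S : Spec N o e nn hh :=
    { hoe := hoe
      normal := hNn
      nn_mem := hnn_mem
      nn_smul := hnn_smul
      nn_uniq := by
        intro n hn a hna
        have h1 : (nn a)⁻¹ * n = 1 := by
          apply hsemi _ (N.mul_mem (N.inv_mem (hnn_mem a)) hn) o
          rw [mul_smul, hna, inv_smul_eq_iff, hnn_smul a]
        exact (inv_mul_eq_one.mp h1).symm
      hh_fix := fun a ha => (hhh a ha).1
      hh_smul := fun a ha => (hhh a ha).2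
      hh_uniq := by
        intro k hk a ha hka
        have h1 : (hh a)⁻¹ * k = 1 := by
          apply h2.uniq hoe
          · rw [mul_smul, hk, inv_smul_eq_iff, (hhh a ha).1]
          · rw [mul_smul, hka, inv_smul_eq_iff, (hhh a ha).2]
        exact (inv_mul_eq_one.mp h1).symm }
  -- commutativity
  have hNcomm : ∀ n ∈ N, ∀ m ∈ N, n * m = m * n := by
    intro n hn m hm
    have e1 := hinv n hn
    have e2 := hinv m hm
    have e3 := hinv (n * m) (N.mul_mem hn hm)
    have e4 : n * m = (n * m)⁻¹ := eq_inv_of_mul_eq_one_left e3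
    have e5 : n⁻¹ = n := inv_eq_of_mul_eq_one_right e1
    have e6 : m⁻¹ = m := inv_eq_of_mul_eq_one_right e2
    rw [mul_inv_rev, e5, e6] at e4
    exact e4
  have hHcomm : ∀ a b : SubMulAction.ofStabilizer G pI, a ≠ o → b ≠ o →
      hh a * hh b = hh b * hh a := by
    intro a b ha hb
    apply Subtype.ext
    have ha0 : ((hh a : stabilizer G pI) : G) • p0 = p0 := congrArg Subtype.val (hhh a ha).1
    have hb0 : ((hh b : stabilizer G pI) : G) • p0 = p0 := congrArg Subtype.val (hhh b hb).1
    exact h.comm_of_fix_two hf hα hI0 (hh a).2 ha0 (hh b).2 hb0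
  letI nf : Cfsg.NearField (SubMulAction.ofStabilizer G pI) := S.nearField
  have hadd : ∀ a b : SubMulAction.ofStabilizer G pI, a + b = b + a := by
    intro a b
    show nn b • a = nn a • b
    conv_lhs => rw [← hnn_smul a]
    conv_rhs => rw [← hnn_smul b]
    rw [← mul_smul, ← mul_smul, hNcomm _ (hnn_mem b) _ (hnn_mem a)]
  have hmul : ∀ a b : SubMulAction.ofStabilizer G pI, a * b = b * a := by
    intro a b
    show nfMul o hh a b = nfMul o hh b a
    unfold nfMul
    by_cases ha : a = o
    · by_cases hb : b = o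
      · rw [ha, hb]
      · simp only [ha, hb, if_true, if_false]
        exact (hhh b hb).1
    · by_cases hb : b = o
      · simp only [ha, hb, if_true, if_false]
        exact ((hhh a ha).1).symm
      · simp only [ha, hb, if_false]
        conv_lhs => rw [← (hhh a ha).2]
        conv_rhs => rw [← (hhh b hb).2]
        rw [← mul_smul, ← mul_smul, hHcomm a b ha hb]
  letI fld : Field (SubMulAction.ofStabilizer G pI) :=
    fieldOfNearField (SubMulAction.ofStabilizer G pI) hadd hmul
  refine ⟨SubMulAction.ofStabilizer G pI, fld, hX, ?_⟩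
  -- the bijection
  let e' : Option (SubMulAction.ofStabilizer G pI) ≃ α :=
    { toFun := fun y => y.elim pI (fun x => x.1)
      invFun := fun a => if ha : a = pI then none else some ⟨a, ha⟩
      left_inv := by
        intro y
        cases y with
        | none => simp
        | some x =>
          have hx : (x : α) ≠ pI := SubMulAction.neq_of_mem_ofStabilizer G pI
          simp [hx]
      right_inv := by
        intro a
        by_cases ha : a = pI
        · simp [ha]
        · simp [ha] }
  have he'none : e' none = pI := rfl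
  have he'some : ∀ x : SubMulAction.ofStabilizer G pI, e' (some x) = x.1 := fun x => rfl
  have hzero : (0 : SubMulAction.ofStabilizer G pI) = o := rfl
  have hone : (1 : SubMulAction.ofStabilizer G pI) = e := rfl
  apply Moeb.pgl2_of_moebius e'
  · -- affine maps
    intro a b ha
    refine ⟨((nn b * hh a : stabilizer G pI) : G), ?_, ?_⟩
    · rw [he'none]
      exact (nn b * hh a).2
    · intro x
      rw [he'some, he'some]
      have := S.repr' a b ha x
      have h5 : ((nn b * hh a) • x : SubMulAction.ofStabilizer G pI) = a * x + b := by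
        rw [this, hmul a x]
        rfl
      rw [← h5]
      rfl
  · -- inversion
    obtain ⟨t, htI, ht0, ht1⟩ := h.ex hI0 hI1 h01 (Ne.symm hI0) (fun hh' => h01 hh') hI1
    refine ⟨t, ?_, ?_, ?_⟩
    · rw [he'none]
      exact htI
    · rw [he'none]
      exact ht0
    · intro x hx
      have hxo : x ≠ o := hx
      rw [he'some, he'some]
      have hy : t • (x : α) ≠ pI := by
        intro hh'
        have hh2 : t • (x : α) = t • p0 := hh'.trans ht0.symm
        exact hxo (Subtype.ext (MulAction.injective t hh2))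
      let y' : SubMulAction.ofStabilizer G pI := ⟨t • (x : α), hy⟩
      have hconj := h.conj_eq_inv_of_swap hf hα hI0 htI ht0 (hh x).2
        (congrArg Subtype.val (hhh x hxo).1)
      have hx1 : ((hh x : stabilizer G pI) : G) • p1 = (x : α) :=
        congrArg Subtype.val (hhh x hxo).2
      have hkey : ((hh x : stabilizer G pI) : G) • (t • (x : α)) = p1 := by
        conv_lhs => rw [← hx1]
        rw [← mul_smul, ← mul_smul]
        have : ((hh x : stabilizer G pI) : G) * t * ((hh x : stabilizer G pI) : G) = t := by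
          have e1 : t * ((hh x : stabilizer G pI) : G) = ((hh x : stabilizer G pI) : G)⁻¹ * t := by
            rw [← hconj]; group
          rw [mul_assoc, e1]; group
        rw [this, ht1]
      have hmul1 : y' * x = 1 := by
        show nfMul o hh y' x = e
        unfold nfMul
        simp only [hxo, if_false]
        exact Subtype.ext hkey
      have : y' = x⁻¹ := eq_inv_of_mul_eq_one_left hmul1
      rw [← this]
  · -- the stabiliser is affine
    intro g hg
    rw [he'none] at hg
    obtain ⟨a, b, ha, hx⟩ := S.repr ⟨g, hg⟩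
    refine ⟨a, b, ha, ?_⟩
    intro x
    rw [he'some, he'some]
    have h5 : ((⟨g, hg⟩ : stabilizer G pI) • x : SubMulAction.ofStabilizer G pI) = a * x + b := by
      rw [hx x, hmul a x]
      rfl
    rw [← h5]
    rfl

end Cfsg.Agent.Lib.Helper9

namespace Cfsg.Agent.Lib.Helper9

/-- `PGL(2, K)` only depends on the isomorphism type of the field -/
noncomputable def pglCongr {K K' : Type*} [Field K] [Field K'] (φ : K ≃+* K') :
    Matrix.ProjGenLinGroup (Fin 2) K ≃* Matrix.ProjGenLinGroup (Fin 2) K' :=
  MonoidHom.toMulEquiv (Matrix.ProjGenLinGroup.map φ.toRingHom)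
    (Matrix.ProjGenLinGroup.map φ.symm.toRingHom)
    (by
      rw [← Matrix.ProjGenLinGroup.map_comp]
      have : φ.symm.toRingHom.comp φ.toRingHom = RingHom.id K := by
        ext x; simp
      rw [this, Matrix.ProjGenLinGroup.map_id])
    (by
      rw [← Matrix.ProjGenLinGroup.map_comp]
      have : φ.toRingHom.comp φ.symm.toRingHom = RingHom.id K' := by
        ext x; simp
      rw [this, Matrix.ProjGenLinGroup.map_id])

/-- Zassenhaus' theorem with the field in `Type`. -/
theorem Sharp3.exists_galoisField_iso {G : Type u} {α : Type v} [Group G] [MulAction G α] [Finite α]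
    (h : Sharp3 G α) {f : ℕ} (hf : 1 ≤ f) (hα : Nat.card α = 2 ^ f + 1) :
    ∃ (F : Type) (_ : Field F) (_ : Fintype F), Fintype.card F = 2 ^ f ∧
      Nonempty (G ≃* Matrix.ProjGenLinGroup (Fin 2) F) := by
  obtain ⟨K, fK, hK, ⟨iso⟩⟩ := h.exists_field_iso hf hα
  haveI : Fact (Nat.Prime 2) := ⟨Nat.prime_two⟩
  have hf0 : f ≠ 0 := by omega
  haveI : Finite K := Nat.finite_of_card_ne_zero (by rw [hK]; positivity)
  letI : Fintype K := Fintype.ofFinite K
  haveI : Finite (GaloisField 2 f) := Nat.finite_of_card_ne_zero (by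
    rw [GaloisField.card 2 f hf0]; positivity)
  letI : Fintype (GaloisField 2 f) := Fintype.ofFinite _
  have hc : Fintype.card K = Fintype.card (GaloisField 2 f) := by
    rw [← Nat.card_eq_fintype_card, ← Nat.card_eq_fintype_card, hK, GaloisField.card 2 f hf0]
  refine ⟨GaloisField 2 f, inferInstance, inferInstance, ?_, ⟨iso.trans (pglCongr ?_)⟩⟩
  · rw [← Nat.card_eq_fintype_card, GaloisField.card 2 f hf0]
  · exact FiniteField.ringEquivOfCardEq hc

end Cfsg.Agent.Lib.Helper9
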