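/-
Helper9 library: in characteristic 2, `PGL(2, F) ≃* PSL(2, F)` for finite `F`; the Zassenhaus
theorem with conclusion `PSL(2, GaloisField 2 f)`.
-/
import Mathlib
import Cfsg.Agent.Lib.Helper9.Sharp3PGL

set_option autoImplicit false

universe u v

namespace Cfsg.Agent.Lib.Helper9

/-- In a finite field of characteristic 2 every unit is a square. -/
theorem exists_unit_sq_eq {F : Type*} [Field F] [Finite F] [CharP F 2] (r : Fˣ) :
    ∃ k : Fˣ, k ^ 2 = r := by
  have hinj : Function.Injective (frobenius F 2) := frobenius_inj F 2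
  have hsurj : Function.Surjective (frobenius F 2) := Finite.injective_iff_surjective.mp hinj
  obtain ⟨x, hx⟩ := hsurj (r : F)
  rw [frobenius_def] at hx
  have hx0 : x ≠ 0 := by
    rintro rfl
    simp at hx
    exact r.ne_zero hx.symm
  refine ⟨Units.mk0 x hx0, ?_⟩
  apply Units.ext
  simpa using hx

/-- `PGL(2, F) ≃* PSL(2, F)` for a finite field of characteristic 2. -/
noncomputable def pglEquivPsl {F : Type*} [Field F] [Finite F] [CharP F 2] :
    Matrix.ProjGenLinGroup (Fin 2) F ≃* Matrix.ProjectiveSpecialLinearGroup (Fin 2) F :=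
  (MulEquiv.ofBijective (Matrix.ProjectiveSpecialLinearGroup.toPGL (n := Fin 2) (R := F))
    ⟨Matrix.ProjectiveSpecialLinearGroup.toPGL_injective,
      Matrix.ProjectiveSpecialLinearGroup.toPGL_surj_of_roots (fun r => by
        obtain ⟨k, hk⟩ := exists_unit_sq_eq r
        exact ⟨k, by simpa using hk⟩)⟩).symm

/-- Zassenhaus' theorem with the explicit Galois field. -/
theorem Sharp3.galoisField_iso {G : Type u} {α : Type v} [Group G] [MulAction G α] [Finite α]
    (h : Sharp3 G α) {f : ℕ} (hf : 1 ≤ f) (hα : Nat.card α = 2 ^ f + 1) :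
    haveI : Fact (Nat.Prime 2) := ⟨Nat.prime_two⟩
    Nonempty (G ≃* Matrix.ProjGenLinGroup (Fin 2) (GaloisField 2 f)) := by
  obtain ⟨K, fK, hK, ⟨iso⟩⟩ := h.exists_field_iso hf hα
  haveI : Fact (Nat.Prime 2) := ⟨Nat.prime_two⟩
  have hf0 : f ≠ 0 := by omega
  haveI : Finite K := Nat.finite_of_card_ne_zero (by rw [hK]; positivity)
  letI : Fintype K := Fintype.ofFinite K
  haveI : Finite (GaloisField 2 f) := Nat.finite_of_card_ne_zero (by
    rw [GaloisField.card 2 f hf0]; positivity)
  letI : Fintype (GaloisField 2 f) := Fintype.ofFinite _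
  have hc : Fintype.card K = Fintype.card (GaloisField 2 f) := by
    rw [← Nat.card_eq_fintype_card, ← Nat.card_eq_fintype_card, hK, GaloisField.card 2 f hf0]
  exact ⟨iso.trans (pglCongr (FiniteField.ringEquivOfCardEq hc))⟩

/-- Zassenhaus' theorem, `PSL` form. -/
theorem Sharp3.exists_psl_iso {G : Type u} {α : Type v} [Group G] [MulAction G α] [Finite α]
    (h : Sharp3 G α) {f : ℕ} (hf : 1 ≤ f) (hα : Nat.card α = 2 ^ f + 1) :
    ∃ (F : Type) (_ : Field F) (_ : Fintype F), Fintype.card F = 2 ^ f ∧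
      Nonempty (G ≃* Matrix.ProjectiveSpecialLinearGroup (Fin 2) F) := by
  haveI : Fact (Nat.Prime 2) := ⟨Nat.prime_two⟩
  obtain ⟨iso⟩ := h.galoisField_iso hf hα
  have hf0 : f ≠ 0 := by omega
  haveI : Finite (GaloisField 2 f) := Nat.finite_of_card_ne_zero (by
    rw [GaloisField.card 2 f hf0]; positivity)
  letI : Fintype (GaloisField 2 f) := Fintype.ofFinite _
  refine ⟨GaloisField 2 f, inferInstance, inferInstance, ?_, ⟨iso.trans pglEquivPsl⟩⟩
  rw [← Nat.card_eq_fintype_card, GaloisField.card 2 f hf0]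

end Cfsg.Agent.Lib.Helper9
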