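/-
Helper9 library: sharply 4-transitive group actions (Jordan / Tits).
Part 1: basic API, the Klein four-group `⟨x, y⟩` and its fixed points.
-/
import Mathlib

set_option autoImplicit false

namespace Cfsg.Agent.Lib.Helper9

variable {G Ω : Type*} [Group G] [MulAction G Ω]

/-- Four pairwise distinct points. -/
def D4 (a b c d : Ω) : Prop := a ≠ b ∧ a ≠ c ∧ a ≠ d ∧ b ≠ c ∧ b ≠ d ∧ c ≠ d

theorem D4.smul {a b c d : Ω} (h : D4 a b c d) (g : G) : D4 (g • a) (g • b) (g • c) (g • d) := by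
  unfold D4 at *
  simp only [ne_eq, smul_left_cancel_iff]
  exact h

/-- A sharply 4-transitive action, in elementary form. -/
structure Sharp4 (G Ω : Type*) [Group G] [MulAction G Ω] : Prop where
  ex : ∀ {a b c d a' b' c' d' : Ω}, D4 a b c d → D4 a' b' c' d' →
    ∃ g : G, g • a = a' ∧ g • b = b' ∧ g • c = c' ∧ g • d = d'
  uniq : ∀ {g : G} {a b c d : Ω}, D4 a b c d → g • a = a → g • b = b → g • c = c → g • d = d →
    g = 1

namespace Sharp4

variable (h : Sharp4 G Ω)
include h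

theorem eq_of_four {g g' : G} {a b c d : Ω} (hd : D4 a b c d) (ha : g • a = g' • a)
    (hb : g • b = g' • b) (hc : g • c = g' • c) (hdd : g • d = g' • d) : g = g' := by
  have key : g'⁻¹ * g = 1 := by
    apply h.uniq hd
    · rw [mul_smul, ha, inv_smul_smul]
    · rw [mul_smul, hb, inv_smul_smul]
    · rw [mul_smul, hc, inv_smul_smul]
    · rw [mul_smul, hdd, inv_smul_smul]
  exact (inv_mul_eq_one.mp key).symm

/-- A non-identity element has at most three fixed points (contrapositive form). -/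
theorem ne_one_of_smul_ne {g : G} {a : Ω} (ha : g • a ≠ a) : g ≠ 1 := by
  rintro rfl
  exact ha (one_smul G a)

end Sharp4

/-- The Klein configuration: four points, `x = (p1 p2)(p3)(p4)…`, `y = (p1)(p2)(p3 p4)…`. -/
structure Conf (G Ω : Type*) [Group G] [MulAction G Ω] where
  p1 : Ω
  p2 : Ω
  p3 : Ω
  p4 : Ω
  hd : D4 p1 p2 p3 p4
  x : G
  y : G
  x1 : x • p1 = p2
  x2 : x • p2 = p1
  x3 : x • p3 = p3
  x4 : x • p4 = p4
  y1 : y • p1 = p1
  y2 : y • p2 = p2
  y3 : y • p3 = p4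
  y4 : y • p4 = p3

theorem Sharp4.exists_conf (h : Sharp4 G Ω) {a b c d : Ω} (hd : D4 a b c d) :
    ∃ c0 : Conf G Ω, c0.p1 = a ∧ c0.p2 = b ∧ c0.p3 = c ∧ c0.p4 = d := by
  have hd1 : D4 b a c d := by unfold D4 at *; grind
  have hd2 : D4 a b d c := by unfold D4 at *; grind
  obtain ⟨x, hx1, hx2, hx3, hx4⟩ := h.ex hd hd1
  obtain ⟨y, hy1, hy2, hy3, hy4⟩ := h.ex hd hd2
  exact ⟨⟨a, b, c, d, hd, x, y, hx1, hx2, hx3, hx4, hy1, hy2, hy3, hy4⟩, rfl, rfl, rfl, rfl⟩

namespace Conf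

variable (c : Conf G Ω) (h : Sharp4 G Ω)

/-- the third involution `z = x y = (p1 p2)(p3 p4)…` -/
def z : G := c.x * c.y

include h

theorem xx : c.x * c.x = 1 := by
  apply h.uniq c.hd <;> simp [mul_smul, c.x1, c.x2, c.x3, c.x4]

theorem yy : c.y * c.y = 1 := by
  apply h.uniq c.hd <;> simp [mul_smul, c.y1, c.y2, c.y3, c.y4]

theorem xy_comm : c.x * c.y = c.y * c.x := by
  apply h.eq_of_four c.hd <;>
    simp [mul_smul, c.x1, c.x2, c.x3, c.x4, c.y1, c.y2, c.y3, c.y4]

theorem x_x_smul (q : Ω) : c.x • c.x • q = q := by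
  rw [← mul_smul, c.xx h, one_smul]

theorem y_y_smul (q : Ω) : c.y • c.y • q = q := by
  rw [← mul_smul, c.yy h, one_smul]

theorem y_x_smul (q : Ω) : c.y • c.x • q = c.x • c.y • q := by
  rw [← mul_smul, ← mul_smul, c.xy_comm h]

omit h in
theorem z_smul (q : Ω) : c.z • q = c.x • c.y • q := by
  unfold z; rw [mul_smul]

theorem zz : c.z * c.z = 1 := by
  unfold z
  calc c.x * c.y * (c.x * c.y) = c.x * (c.y * c.x) * c.y := by group
    _ = c.x * (c.x * c.y) * c.y := by rw [c.xy_comm h]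
    _ = (c.x * c.x) * (c.y * c.y) := by group
    _ = 1 := by rw [c.xx h, c.yy h, one_mul]

omit h in
theorem x_ne_one : c.x ≠ 1 := by
  intro hx
  have := c.x1
  rw [hx, one_smul] at this
  exact c.hd.1 this

omit h in
theorem y_ne_one : c.y ≠ 1 := by
  intro hx
  have := c.y3
  rw [hx, one_smul] at this
  exact c.hd.2.2.2.2.2 this

omit h in
theorem z_ne_one : c.z ≠ 1 := by
  intro hx
  have := c.z_smul c.p1
  rw [hx, one_smul, c.y1, c.x1] at this
  exact c.hd.1 this

/-- (F1) a third fixed point of `x` is fixed by `y`. -/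
theorem y_fix_of_x_fix {q : Ω} (hq : c.x • q = q) (h3 : q ≠ c.p3) (h4 : q ≠ c.p4) :
    c.y • q = q := by
  by_contra hy
  apply c.x_ne_one
  have hd := c.hd
  have e1 := c.y_y_smul h q
  have hD : D4 c.p3 c.p4 q (c.y • q) := by
    unfold D4 at *
    refine ⟨hd.2.2.2.2.2, h3.symm, ?_, h4.symm, ?_, Ne.symm hy⟩
    · intro h5
      rw [← h5, c.y3] at e1
      exact h4 e1.symm
    · intro h5
      rw [← h5, c.y4] at e1
      exact h3 e1.symm
  apply h.uniq hD c.x3 c.x4 hq
  rw [← c.y_x_smul h, hq]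

/-- (F1') a third fixed point of `y` is fixed by `x`. -/
theorem x_fix_of_y_fix {q : Ω} (hq : c.y • q = q) (h1 : q ≠ c.p1) (h2 : q ≠ c.p2) :
    c.x • q = q := by
  by_contra hx
  apply c.y_ne_one
  have hd := c.hd
  have e1 := c.x_x_smul h q
  have hD : D4 c.p1 c.p2 q (c.x • q) := by
    unfold D4 at *
    refine ⟨hd.1, h1.symm, ?_, h2.symm, ?_, Ne.symm hx⟩
    · intro h5
      rw [← h5, c.x1] at e1
      exact h2 e1.symm
    · intro h5
      rw [← h5, c.x2] at e1
      exact h1 e1.symm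
  apply h.uniq hD c.y1 c.y2 hq
  rw [c.y_x_smul h, hq]

/-- (F2) `x` has at most one fixed point besides `p3, p4`. -/
theorem x_fix_unique {q q' : Ω} (hq : c.x • q = q) (hq' : c.x • q' = q')
    (h3 : q ≠ c.p3) (h4 : q ≠ c.p4) (h3' : q' ≠ c.p3) (h4' : q' ≠ c.p4) : q = q' := by
  by_contra hne
  apply c.x_ne_one
  have hd := c.hd
  have hD : D4 c.p3 c.p4 q q' := by
    unfold D4 at *
    exact ⟨hd.2.2.2.2.2, h3.symm, h3'.symm, h4.symm, h4'.symm, hne⟩
  exact h.uniq hD c.x3 c.x4 hq hq'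

/-- (F3) the fixed points of `z` not fixed by `x` form at most one `x`-orbit. -/
theorem z_fix_cases {q q' : Ω} (hq : c.z • q = q) (hq' : c.z • q' = q')
    (hx : c.x • q ≠ q) (hx' : c.x • q' ≠ q') : q' = q ∨ q' = c.x • q := by
  by_contra hcon
  rw [not_or] at hcon
  apply c.z_ne_one
  have e1 := c.x_x_smul h q
  have e2 := c.x_x_smul h q'
  have hD : D4 q (c.x • q) q' (c.x • q') := by
    unfold D4
    refine ⟨Ne.symm hx, Ne.symm hcon.1, ?_, Ne.symm hcon.2, ?_, Ne.symm hx'⟩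
    · intro h5
      apply hcon.2
      rw [h5, e2]
    · intro h5
      apply hcon.1
      have := congrArg (fun t => c.x • t) h5
      simp only [e1, e2] at this
      exact this.symm
  have zx : ∀ t : Ω, c.z • c.x • t = c.x • c.z • t := by
    intro t
    rw [c.z_smul, c.z_smul, c.y_x_smul h]
  apply h.uniq hD hq _ hq'
  · rw [zx, hq']
  · rw [zx, hq]

/-- A regular point of the four-group `⟨x, y⟩`. -/
def IsReg (q : Ω) : Prop := c.x • q ≠ q ∧ c.y • q ≠ q ∧ c.x • c.y • q ≠ q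

theorem IsReg.d4 {q : Ω} (hq : c.IsReg q) : D4 q (c.x • q) (c.y • q) (c.x • c.y • q) := by
  obtain ⟨h1, h2, h3⟩ := hq
  have e1 := c.x_x_smul h q
  have e2 := c.y_y_smul h q
  have e3 := c.x_x_smul h (c.y • q)
  refine ⟨Ne.symm h1, Ne.symm h2, Ne.symm h3, ?_, ?_, ?_⟩
  · intro h5
    apply h3
    rw [← h5, e1]
  · intro h5
    apply h2
    have := congrArg (fun t => c.x • t) h5
    simp only [e1, e3] at this
    exact this.symm
  · intro h5
    apply h1
    have := congrArg (fun t => c.y • t) h5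
    simp only [e2] at this
    rw [c.y_x_smul h, c.y_y_smul h] at this
    exact this.symm

/-- (R1) the centralizer of `⟨x, y⟩` is transitive on regular points. -/
theorem exists_centralizing {α β : Ω} (hα : c.IsReg α) (hβ : c.IsReg β) :
    ∃ g : G, g • α = β ∧ g * c.x = c.x * g ∧ g * c.y = c.y * g := by
  obtain ⟨g, g1, g2, g3, g4⟩ := h.ex (hα.d4 c h) (hβ.d4 c h)
  refine ⟨g, g1, ?_, ?_⟩
  · apply h.eq_of_four (hα.d4 c h) <;>
      simp only [mul_smul, c.x_x_smul h, c.y_y_smul h, c.y_x_smul h, g1, g2, g3, g4]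
  · apply h.eq_of_four (hα.d4 c h) <;>
      simp only [mul_smul, c.x_x_smul h, c.y_y_smul h, c.y_x_smul h, g1, g2, g3, g4]

/-- (R2) the centralizer of `⟨x, y⟩` is `{1, x, y, z}`. -/
theorem centralizer_klein {g : G} (gx : g * c.x = c.x * g) (gy : g * c.y = c.y * g) :
    g = 1 ∨ g = c.x ∨ g = c.y ∨ g = c.z := by
  have gx' : ∀ t : Ω, g • c.x • t = c.x • g • t := fun t => by
    rw [← mul_smul, gx, mul_smul]
  have gy' : ∀ t : Ω, g • c.y • t = c.y • g • t := fun t => by
    rw [← mul_smul, gy, mul_smul]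
  have hd := c.hd
  -- g p3 ∈ {p3, p4}
  have h3 : g • c.p3 = c.p3 ∨ g • c.p3 = c.p4 := by
    by_contra hcon
    rw [not_or] at hcon
    have hfix : c.x • (g • c.p3) = g • c.p3 := by rw [← gx', c.x3]
    have := c.y_fix_of_x_fix h hfix hcon.1 hcon.2
    rw [← gy', c.y3, smul_left_cancel_iff] at this
    exact hd.2.2.2.2.2 this.symm
  have h1 : g • c.p1 = c.p1 ∨ g • c.p1 = c.p2 := by
    by_contra hcon
    rw [not_or] at hcon
    have hfix : c.y • (g • c.p1) = g • c.p1 := by rw [← gy', c.y1]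
    have := c.x_fix_of_y_fix h hfix hcon.1 hcon.2
    rw [← gx', c.x1, smul_left_cancel_iff] at this
    exact hd.1 this.symm
  have h4 : g • c.p4 = c.y • g • c.p3 := by rw [← gy', c.y3]
  have h2 : g • c.p2 = c.x • g • c.p1 := by rw [← gx', c.x1]
  rcases h1 with h1 | h1 <;> rcases h3 with h3 | h3
  · left
    apply h.eq_of_four hd <;> simp [h1, h2, h3, h4, c.x1, c.y3]
  · right; right; left
    apply h.eq_of_four hd <;> simp [h1, h2, h3, h4, c.x1, c.y3, c.y1, c.y2, c.y4]
  · right; left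
    apply h.eq_of_four hd <;> simp [h1, h2, h3, h4, c.x1, c.y3, c.x2, c.x3, c.x4]
  · right; right; right
    apply h.eq_of_four hd <;>
      simp [h1, h2, h3, h4, c.z_smul, c.x1, c.y3, c.x2, c.x3, c.x4, c.y1, c.y2, c.y4]

/-- (R3) the regular points form at most one orbit of `⟨x, y⟩`. -/
theorem reg_orbit {α β : Ω} (hα : c.IsReg α) (hβ : c.IsReg β) :
    β = α ∨ β = c.x • α ∨ β = c.y • α ∨ β = c.x • c.y • α := by
  obtain ⟨g, g1, gx, gy⟩ := c.exists_centralizing h hα hβ
  rcases c.centralizer_klein h gx gy with rfl | rfl | rfl | rfl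
  · left; rw [← g1, one_smul]
  · right; left; exact g1.symm
  · right; right; left; exact g1.symm
  · right; right; right; rw [← g1, c.z_smul]

/-- (R4) a regular point gives an element permuting `x, y, z` cyclically. -/
theorem exists_rotation {α : Ω} (hα : c.IsReg α) :
    ∃ s : G, s * c.x = c.y * s ∧ s * c.y = c.z * s := by
  have hD := hα.d4 c h
  have hD' : D4 α (c.y • α) (c.x • c.y • α) (c.x • α) := by
    unfold D4 at *
    obtain ⟨a1, a2, a3, a4, a5, a6⟩ := hD
    exact ⟨a2, a3, a1, a6, Ne.symm a4, Ne.symm a5⟩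
  obtain ⟨s, s1, s2, s3, s4⟩ := h.ex hD hD'
  refine ⟨s, ?_, ?_⟩
  · apply h.eq_of_four hD <;>
      simp only [mul_smul, c.x_x_smul h, c.y_y_smul h, c.y_x_smul h, s1, s2, s3, s4]
  · apply h.eq_of_four hD <;>
      simp only [mul_smul, c.z_smul, c.x_x_smul h, c.y_y_smul h, c.y_x_smul h, s1, s2, s3, s4]

/-- (R5) a regular point forces a fixed point of `z` not fixed by `x`. -/
theorem exists_z_fix_of_reg {α : Ω} (hα : c.IsReg α) :
    ∃ q : Ω, c.z • q = q ∧ c.x • q ≠ q := by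
  obtain ⟨s, sx, sy⟩ := c.exists_rotation h hα
  have sy' : ∀ t : Ω, c.z • s • t = s • c.y • t := fun t => by
    rw [← mul_smul, ← sy, mul_smul]
  have sx' : ∀ t : Ω, c.y • s • t = s • c.x • t := fun t => by
    rw [← mul_smul, ← sx, mul_smul]
  refine ⟨s • c.p1, ?_, ?_⟩
  · rw [sy', c.y1]
  · intro hx
    -- x s p1 = s p1, z s p1 = s p1 ⇒ y s p1 = s p1 ⇒ s x p1 = s p1
    have hz : c.z • s • c.p1 = s • c.p1 := by rw [sy', c.y1]
    rw [c.z_smul] at hz
    have hy : c.y • s • c.p1 = s • c.p1 := by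
      have := congrArg (fun t => c.x • t) hz
      simp only [c.x_x_smul h, hx] at this
      exact this
    rw [sx', c.x1, smul_left_cancel_iff] at hy
    exact c.hd.1 hy.symm

end Conf

end Cfsg.Agent.Lib.Helper9
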