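/-
Helper9 library: sharply 4-transitive group actions (Jordan / Tits).
Part 2: the partition of the point set by fixing pattern, and the resulting count.
-/
import Cfsg.Agent.Lib.Helper9.Sharp4

set_option autoImplicit false

namespace Cfsg.Agent.Lib.Helper9

variable {G Ω : Type*} [Group G] [MulAction G Ω]

theorem ncard_four {a b c d : Ω} (h : D4 a b c d) : ({a, b, c, d} : Set Ω).ncard = 4 := by
  obtain ⟨h1, h2, h3, h4, h5, h6⟩ := h
  have e1 : ({c, d} : Set Ω).ncard = 2 := Set.ncard_pair h6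
  have e2 : ({b, c, d} : Set Ω).ncard = 3 := by
    rw [Set.ncard_insert_of_notMem _ (Set.toFinite _), e1]
    simp only [Set.mem_insert_iff, Set.mem_singleton_iff, not_or]; exact ⟨h4, h5⟩
  rw [Set.ncard_insert_of_notMem _ (Set.toFinite _), e2]
  simp only [Set.mem_insert_iff, Set.mem_singleton_iff, not_or]; exact ⟨h1, h2, h3⟩

namespace Conf

variable (c : Conf G Ω) (h : Sharp4 G Ω)

/-- the four base points -/
def setA : Set Ω := {c.p1, c.p2, c.p3, c.p4}
/-- common fixed points of `x` and `y` -/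
def setE : Set Ω := {q | c.x • q = q ∧ c.y • q = q}
/-- fixed points of `z` not fixed by `x` -/
def setF : Set Ω := {q | c.z • q = q ∧ c.x • q ≠ q}
/-- regular points -/
def setR : Set Ω := {q | c.IsReg q}

theorem setA_ncard : c.setA.ncard = 4 := ncard_four c.hd

theorem setA_finite : c.setA.Finite := by
  unfold setA; exact Set.toFinite _

include h

theorem cover (q : Ω) : q ∈ c.setA ∨ q ∈ c.setE ∨ q ∈ c.setF ∨ q ∈ c.setR := by
  by_cases hx : c.x • q = q
  · by_cases h3 : q = c.p3
    · left; simp [setA, h3]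
    by_cases h4 : q = c.p4
    · left; simp [setA, h4]
    right; left
    exact ⟨hx, c.y_fix_of_x_fix h hx h3 h4⟩
  · by_cases hy : c.y • q = q
    · by_cases h1 : q = c.p1
      · left; simp [setA, h1]
      by_cases h2 : q = c.p2
      · left; simp [setA, h2]
      exact absurd (c.x_fix_of_y_fix h hy h1 h2) hx
    · by_cases hz : c.x • c.y • q = q
      · right; right; left
        exact ⟨by rw [c.z_smul]; exact hz, hx⟩
      · right; right; right
        exact ⟨hx, hy, hz⟩

omit h in
theorem disj_AE : Disjoint c.setA c.setE := by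
  rw [Set.disjoint_left]
  intro q hq hE
  have hd := c.hd
  simp only [setA, Set.mem_insert_iff, Set.mem_singleton_iff] at hq
  obtain ⟨e1, e2⟩ := hE
  rcases hq with rfl | rfl | rfl | rfl
  · rw [c.x1] at e1; exact hd.1 e1.symm
  · rw [c.x2] at e1; exact hd.1 e1
  · rw [c.y3] at e2; exact hd.2.2.2.2.2 e2.symm
  · rw [c.y4] at e2; exact hd.2.2.2.2.2 e2

omit h in
theorem disj_AF : Disjoint c.setA c.setF := by
  rw [Set.disjoint_left]
  intro q hq hF
  have hd := c.hd
  simp only [setA, Set.mem_insert_iff, Set.mem_singleton_iff] at hq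
  obtain ⟨e1, e2⟩ := hF
  rw [c.z_smul] at e1
  rcases hq with rfl | rfl | rfl | rfl
  · rw [c.y1, c.x1] at e1; exact hd.1 e1.symm
  · rw [c.y2, c.x2] at e1; exact hd.1 e1
  · exact e2 c.x3
  · exact e2 c.x4

omit h in
theorem disj_AR : Disjoint c.setA c.setR := by
  rw [Set.disjoint_left]
  intro q hq hR
  simp only [setA, Set.mem_insert_iff, Set.mem_singleton_iff] at hq
  obtain ⟨e1, e2, _⟩ := hR
  rcases hq with rfl | rfl | rfl | rfl
  · exact e2 c.y1
  · exact e2 c.y2
  · exact e1 c.x3
  · exact e1 c.x4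

omit h in
theorem disj_EF : Disjoint c.setE c.setF := by
  rw [Set.disjoint_left]
  intro q hE hF
  exact hF.2 hE.1

omit h in
theorem disj_ER : Disjoint c.setE c.setR := by
  rw [Set.disjoint_left]
  intro q hE hR
  exact hR.1 hE.1

omit h in
theorem disj_FR : Disjoint c.setF c.setR := by
  rw [Set.disjoint_left]
  intro q hF hR
  apply hR.2.2
  rw [← c.z_smul]
  exact hF.1

theorem setE_subsingleton : c.setE.Subsingleton := by
  intro q hq q' hq'
  have hd := c.hd
  apply c.x_fix_unique h hq.1 hq'.1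
  · rintro rfl; have := hq.2; rw [c.y3] at this; exact hd.2.2.2.2.2 this.symm
  · rintro rfl; have := hq.2; rw [c.y4] at this; exact hd.2.2.2.2.2 this
  · rintro rfl; have := hq'.2; rw [c.y3] at this; exact hd.2.2.2.2.2 this.symm
  · rintro rfl; have := hq'.2; rw [c.y4] at this; exact hd.2.2.2.2.2 this

theorem setE_ncard_le : c.setE.ncard ≤ 1 := by
  have hs := c.setE_subsingleton h
  have : Finite ↥c.setE := hs.finite.to_subtype
  exact Set.ncard_le_one_iff_subsingleton.mpr hs

theorem z_x_smul (t : Ω) : c.z • c.x • t = c.x • c.z • t := by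
  rw [c.z_smul, c.z_smul, c.y_x_smul h]

theorem setF_eq {q : Ω} (hq : q ∈ c.setF) : c.setF = {q, c.x • q} := by
  ext t
  simp only [Set.mem_insert_iff, Set.mem_singleton_iff]
  constructor
  · intro ht
    exact c.z_fix_cases h hq.1 ht.1 hq.2 ht.2
  · rintro (rfl | rfl)
    · exact hq
    · refine ⟨by rw [c.z_x_smul h, hq.1], ?_⟩
      rw [c.x_x_smul h]
      exact Ne.symm hq.2

theorem setF_ncard : c.setF.ncard = 0 ∨ c.setF.ncard = 2 := by
  rcases Set.eq_empty_or_nonempty c.setF with h0 | ⟨q, hq⟩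
  · left; rw [h0, Set.ncard_empty]
  · right
    rw [c.setF_eq h hq, Set.ncard_pair (Ne.symm hq.2)]

theorem IsReg.smul_x {q : Ω} (hq : c.IsReg q) : c.IsReg (c.x • q) := by
  obtain ⟨a1, a2, a3, a4, a5, a6⟩ := hq.d4 c h
  refine ⟨?_, ?_, ?_⟩
  · rw [c.x_x_smul h]; exact a1
  · rw [c.y_x_smul h]; exact Ne.symm a5
  · rw [c.y_x_smul h, c.x_x_smul h]; exact Ne.symm a4

theorem IsReg.smul_y {q : Ω} (hq : c.IsReg q) : c.IsReg (c.y • q) := by
  obtain ⟨a1, a2, a3, a4, a5, a6⟩ := hq.d4 c h
  refine ⟨?_, ?_, ?_⟩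
  · exact Ne.symm a6
  · rw [c.y_y_smul h]; exact a2
  · rw [c.y_y_smul h]; exact a4

theorem setR_eq {q : Ω} (hq : q ∈ c.setR) :
    c.setR = {q, c.x • q, c.y • q, c.x • c.y • q} := by
  ext t
  simp only [Set.mem_insert_iff, Set.mem_singleton_iff]
  constructor
  · intro ht
    exact c.reg_orbit h hq ht
  · rintro (rfl | rfl | rfl | rfl)
    · exact hq
    · exact IsReg.smul_x c h hq
    · exact IsReg.smul_y c h hq
    · exact IsReg.smul_x c h (IsReg.smul_y c h hq)

theorem setR_ncard : c.setR.ncard = 0 ∨ (c.setR.ncard = 4 ∧ c.setF.ncard = 2) := by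
  rcases Set.eq_empty_or_nonempty c.setR with h0 | ⟨q, hq⟩
  · left; rw [h0, Set.ncard_empty]
  · right
    refine ⟨?_, ?_⟩
    · rw [c.setR_eq h hq]
      exact ncard_four (IsReg.d4 c h hq)
    · obtain ⟨t, ht1, ht2⟩ := c.exists_z_fix_of_reg h hq
      rcases c.setF_ncard h with h0 | h2
      · exfalso
        have hfin : c.setF.Finite := by
          rw [c.setF_eq h ⟨ht1, ht2⟩]; exact Set.toFinite _
        rw [Set.ncard_eq_zero hfin] at h0
        have : t ∈ c.setF := ⟨ht1, ht2⟩
        rw [h0] at this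
        exact this
      · exact h2

theorem setF_finite : c.setF.Finite := by
  rcases Set.eq_empty_or_nonempty c.setF with h0 | ⟨q, hq⟩
  · rw [h0]; exact Set.finite_empty
  · rw [c.setF_eq h hq]; exact Set.toFinite _

theorem setR_finite : c.setR.Finite := by
  rcases Set.eq_empty_or_nonempty c.setR with h0 | ⟨q, hq⟩
  · rw [h0]; exact Set.finite_empty
  · rw [c.setR_eq h hq]; exact Set.toFinite _

theorem univ_eq : (Set.univ : Set Ω) = c.setA ∪ (c.setE ∪ (c.setF ∪ c.setR)) := by
  ext q
  simp only [Set.mem_univ, Set.mem_union, true_iff]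
  exact c.cover h q

include c in
theorem finite : Finite Ω := by
  rw [← Set.finite_univ_iff, c.univ_eq h]
  exact c.setA_finite.union ((c.setE_subsingleton h).finite.union
    ((c.setF_finite h).union (c.setR_finite h)))

theorem card_eq : Nat.card Ω = 4 + c.setE.ncard + c.setF.ncard + c.setR.ncard := by
  rw [← Set.ncard_univ, c.univ_eq h]
  have hE := (c.setE_subsingleton h).finite
  have hF := c.setF_finite h
  have hR := c.setR_finite h
  rw [Set.ncard_union_eq _ c.setA_finite (hE.union (hF.union hR)),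
    Set.ncard_union_eq _ hE (hF.union hR), Set.ncard_union_eq c.disj_FR hF hR, c.setA_ncard]
  · ring
  · rw [Set.disjoint_union_right]; exact ⟨c.disj_EF, c.disj_ER⟩
  · rw [Set.disjoint_union_right, Set.disjoint_union_right]
    exact ⟨c.disj_AE, c.disj_AF, c.disj_AR⟩

end Conf

end Cfsg.Agent.Lib.Helper9
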