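/-
Helper9 library: sharply 4-transitive group actions (Jordan / Tits).
Part 3: involutions with three fixed points are determined by their fixed points;
exclusion of degree 7.
-/
import Cfsg.Agent.Lib.Helper9.Sharp4Count

set_option autoImplicit false

namespace Cfsg.Agent.Lib.Helper9

variable {G Ω : Type*} [Group G] [MulAction G Ω]

namespace Sharp4

variable (h : Sharp4 G Ω)
include h

/-- The fixed points of a non-identity element with three known fixed points. -/
theorem fix_cases {t : G} {a b c α : Ω} (hab : a ≠ b) (hac : a ≠ c) (hbc : b ≠ c)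
    (ta : t • a = a) (tb : t • b = b) (tc : t • c = c) (hα : t • α ≠ α)
    {q : Ω} (hq : t • q = q) : q = a ∨ q = b ∨ q = c := by
  by_contra hcon
  simp only [not_or] at hcon
  apply hα
  have : t = 1 := h.uniq (a := a) (b := b) (c := c) (d := q)
    ⟨hab, hac, Ne.symm hcon.1, hbc, Ne.symm hcon.2.1, Ne.symm hcon.2.2⟩ ta tb tc hq
  rw [this, one_smul]

/-- The pointwise stabilizer of the three fixed points of an involution centralizes it. -/
theorem commute_of_fix3 {t g : G} {a b c α : Ω} (ht : t * t = 1)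
    (hab : a ≠ b) (hac : a ≠ c) (hbc : b ≠ c)
    (ta : t • a = a) (tb : t • b = b) (tc : t • c = c) (hα : t • α ≠ α)
    (ga : g • a = a) (gb : g • b = b) (gc : g • c = c) : g * t = t * g := by
  have tt : ∀ q : Ω, t • t • q = q := fun q => by rw [← mul_smul, ht, one_smul]
  have hfix := fun {q : Ω} (hq : t • q = q) => h.fix_cases hab hac hbc ta tb tc hα hq
  -- α and its images avoid a, b, c
  have hαa : α ≠ a := by rintro rfl; exact hα ta
  have hαb : α ≠ b := by rintro rfl; exact hα tb
  have hαc : α ≠ c := by rintro rfl; exact hα tc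
  have hβa : t • α ≠ a := by
    intro e; apply hαa; rw [← tt α, e, ta]
  have hβb : t • α ≠ b := by
    intro e; apply hαb; rw [← tt α, e, tb]
  have hα'a : g • α ≠ a := by
    intro e; apply hαa; rw [← ga] at e; exact smul_left_cancel g e
  have hα'b : g • α ≠ b := by
    intro e; apply hαb; rw [← gb] at e; exact smul_left_cancel g e
  have hα'c : g • α ≠ c := by
    intro e; apply hαc; rw [← gc] at e; exact smul_left_cancel g e
  have hα' : t • g • α ≠ g • α := by
    intro e
    rcases hfix e with e1 | e1 | e1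
    · exact hα'a e1
    · exact hα'b e1
    · exact hα'c e1
  have hβ'a : t • g • α ≠ a := by
    intro e; apply hα'a; rw [← tt (g • α), e, ta]
  have hβ'b : t • g • α ≠ b := by
    intro e; apply hα'b; rw [← tt (g • α), e, tb]
  have D1 : D4 α (t • α) a b := ⟨Ne.symm hα, hαa, hαb, hβa, hβb, hab⟩
  have D2 : D4 (g • α) (t • g • α) a b := ⟨Ne.symm hα', hα'a, hα'b, hβ'a, hβ'b, hab⟩
  obtain ⟨c0, c1, c2, c3, c4⟩ := h.ex D1 D2
  have hc0t : c0 * t = t * c0 := by
    apply h.eq_of_four D1 <;> simp only [mul_smul, tt, c1, c2, c3, c4, ta, tb]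
  have hc0c : c0 • c = c := by
    have e : t • c0 • c = c0 • c := by rw [← mul_smul, ← hc0t, mul_smul, tc]
    rcases hfix e with e1 | e1 | e1
    · exfalso; rw [← c3] at e1; exact hac (smul_left_cancel c0 e1).symm
    · exfalso; rw [← c4] at e1; exact hbc (smul_left_cancel c0 e1).symm
    · exact e1
  have hg : g = c0 := by
    apply h.eq_of_four (a := α) (b := a) (c := b) (d := c) ⟨hαa, hαb, hαc, hab, hac, hbc⟩
    · rw [c1]
    · rw [ga, c3]
    · rw [gb, c4]
    · rw [gc, hc0c]
  rw [hg]; exact hc0t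

/-- Two involutions with the same three fixed points are equal. -/
theorem invol_unique {t t' : G} {a b c α α' : Ω} (ht : t * t = 1) (ht' : t' * t' = 1)
    (hab : a ≠ b) (hac : a ≠ c) (hbc : b ≠ c)
    (ta : t • a = a) (tb : t • b = b) (tc : t • c = c) (hα : t • α ≠ α)
    (ta' : t' • a = a) (tb' : t' • b = b) (tc' : t' • c = c) (hα' : t' • α' ≠ α') : t = t' := by
  have tt : ∀ q : Ω, t • t • q = q := fun q => by rw [← mul_smul, ht, one_smul]
  have tt' : ∀ q : Ω, t' • t' • q = q := fun q => by rw [← mul_smul, ht', one_smul]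
  have hαa : α ≠ a := by rintro rfl; exact hα ta
  have hαb : α ≠ b := by rintro rfl; exact hα tb
  have hβa : t • α ≠ a := by
    intro e; apply hαa; rw [← tt α, e, ta]
  have hβb : t • α ≠ b := by
    intro e; apply hαb; rw [← tt α, e, tb]
  have hαa' : α' ≠ a := by rintro rfl; exact hα' ta'
  have hαb' : α' ≠ b := by rintro rfl; exact hα' tb'
  have hβa' : t' • α' ≠ a := by
    intro e; apply hαa'; rw [← tt' α', e, ta']
  have hβb' : t' • α' ≠ b := by
    intro e; apply hαb'; rw [← tt' α', e, tb']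
  have D1 : D4 α (t • α) a b := ⟨Ne.symm hα, hαa, hαb, hβa, hβb, hab⟩
  have D2 : D4 α' (t' • α') a b := ⟨Ne.symm hα', hαa', hαb', hβa', hβb', hab⟩
  obtain ⟨h0, c1, c2, c3, c4⟩ := h.ex D1 D2
  have e0 : h0 * t = t' * h0 := by
    apply h.eq_of_four D1 <;> simp only [mul_smul, tt, tt', c1, c2, c3, c4, ta, tb, ta', tb']
  have hc : h0 • c = c := by
    have e : t' • h0 • c = h0 • c := by rw [← mul_smul, ← e0, mul_smul, tc]
    rcases h.fix_cases hab hac hbc ta' tb' tc' hα' e with e1 | e1 | e1
    · exfalso; rw [← c3] at e1; exact hac (smul_left_cancel h0 e1).symm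
    · exfalso; rw [← c4] at e1; exact hbc (smul_left_cancel h0 e1).symm
    · exact e1
  have e1 := h.commute_of_fix3 ht hab hac hbc ta tb tc hα c3 c4 hc
  rw [e1] at e0
  exact mul_right_cancel e0

end Sharp4

namespace Conf

variable (c : Conf G Ω) (h : Sharp4 G Ω)
include h

/-- Degree 7 does not occur. -/
theorem not_seven {e q : Ω} (he : e ∈ c.setE) (hq : q ∈ c.setF) (hR : c.setR = ∅) : False := by
  have hd := c.hd
  have D1 : D4 c.p1 c.p3 c.p2 c.p4 := by
    obtain ⟨a1, a2, a3, a4, a5, a6⟩ := hd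
    exact ⟨a2, a1, a3, Ne.symm a4, a6, a5⟩
  have D2 : D4 c.p3 c.p4 c.p1 c.p2 := by
    obtain ⟨a1, a2, a3, a4, a5, a6⟩ := hd
    exact ⟨a6, Ne.symm a2, Ne.symm a4, Ne.symm a3, Ne.symm a5, a1⟩
  obtain ⟨g, g1, g2, g3, g4⟩ := h.ex hd D1
  obtain ⟨u, u1, u2, u3, u4⟩ := h.ex hd D2
  have egz : g * c.z = u * g := by
    apply h.eq_of_four hd <;>
      simp only [mul_smul, c.z_smul, c.x1, c.x2, c.x3, c.x4, c.y1, c.y2, c.y3, c.y4,
        g1, g2, g3, g4, u1, u2, u3, u4]
  have uu : u * u = 1 := by
    apply h.uniq hd <;> simp only [mul_smul, u1, u2, u3, u4]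
  -- fixed points of z
  have ze : c.z • e = e := by rw [c.z_smul, he.2, he.1]
  have zq : c.z • q = q := hq.1
  have zxq : c.z • c.x • q = c.x • q := by rw [c.z_x_smul h, hq.1]
  have heq : e ≠ q := by rintro rfl; exact hq.2 he.1
  have hexq : e ≠ c.x • q := by
    intro e1
    have := he.1
    rw [e1, c.x_x_smul h] at this
    exact hq.2 this.symm
  have hqxq : q ≠ c.x • q := Ne.symm hq.2
  -- u fixes the g-images
  have ug : ∀ t : Ω, c.z • t = t → u • g • t = g • t := by
    intro t ht
    rw [← mul_smul, ← egz, mul_smul, ht]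
  -- every fixed point of u is fixed by z
  have hu : ∀ ω : Ω, u • ω = ω → c.z • ω = ω := by
    intro ω hω
    rcases c.cover h ω with hA | hE | hF | hR'
    · exfalso
      simp only [setA, Set.mem_insert_iff, Set.mem_singleton_iff] at hA
      rcases hA with rfl | rfl | rfl | rfl
      · rw [u1] at hω; exact hd.2.1 hω.symm
      · rw [u2] at hω; exact hd.2.2.2.2.1 hω.symm
      · rw [u3] at hω; exact hd.2.1 hω
      · rw [u4] at hω; exact hd.2.2.2.2.1 hω
    · rw [c.z_smul, hE.2, hE.1]
    · exact hF.1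
    · rw [hR] at hR'; exact absurd hR' (Set.notMem_empty ω)
  have hz1 : c.z • c.p1 ≠ c.p1 := by
    rw [c.z_smul, c.y1, c.x1]; exact Ne.symm hd.1
  have hu1 : u • c.p1 ≠ c.p1 := by
    rw [u1]; exact Ne.symm hd.2.1
  have key : c.z = u := by
    apply h.invol_unique (a := g • e) (b := g • q) (c := g • c.x • q) (α := c.p1) (α' := c.p1)
      (c.zz h) uu
    · intro e1; exact heq (smul_left_cancel g e1)
    · intro e1; exact hexq (smul_left_cancel g e1)
    · intro e1; exact hqxq (smul_left_cancel g e1)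
    · exact hu _ (ug e ze)
    · exact hu _ (ug q zq)
    · exact hu _ (ug _ zxq)
    · exact hz1
    · exact ug e ze
    · exact ug q zq
    · exact ug _ zxq
    · exact hu1
  have : c.z • c.p1 = u • c.p1 := by rw [key]
  rw [c.z_smul, c.y1, c.x1, u1] at this
  exact hd.2.2.2.1 this

end Conf

end Cfsg.Agent.Lib.Helper9
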