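/-
Helper9 library: sharply 4-transitive group actions (Jordan / Tits).
Part 4: when `x` has exactly two fixed points, the degree is at most 6.
-/
import Cfsg.Agent.Lib.Helper9.Sharp4Invol
import Cfsg.Agent.Lib.Helper5.FrobCount

set_option autoImplicit false

namespace Cfsg.Agent.Lib.Helper9

variable {G Ω : Type*} [Group G] [MulAction G Ω]

namespace Conf

variable (c : Conf G Ω)

/-- the stabilizer of `p3` and `p4` -/
def H : Subgroup G := MulAction.stabilizer G c.p3 ⊓ MulAction.stabilizer G c.p4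

theorem mem_H {k : G} : k ∈ c.H ↔ k • c.p3 = c.p3 ∧ k • c.p4 = c.p4 := by
  unfold H
  rw [Subgroup.mem_inf, MulAction.mem_stabilizer_iff, MulAction.mem_stabilizer_iff]

/-- the points other than `p3, p4`, with the action of `H` -/
def Delta : SubMulAction ↥c.H Ω where
  carrier := {q | q ≠ c.p3 ∧ q ≠ c.p4}
  smul_mem' := by
    intro k q hq
    obtain ⟨k3, k4⟩ := c.mem_H.mp k.2
    refine ⟨?_, ?_⟩
    · intro e
      apply hq.1
      have : (k : G) • q = (k : G) • c.p3 := by rw [k3]; exact e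
      exact smul_left_cancel _ this
    · intro e
      apply hq.2
      have : (k : G) • q = (k : G) • c.p4 := by rw [k4]; exact e
      exact smul_left_cancel _ this

theorem mem_Delta {q : Ω} : q ∈ c.Delta ↔ q ≠ c.p3 ∧ q ≠ c.p4 := Iff.rfl

/-- membership in `K = C_G(x) ∩ G_{p3 p4}` -/
def InK (k : G) : Prop := k * c.x = c.x * k ∧ k • c.p3 = c.p3 ∧ k • c.p4 = c.p4

variable (h : Sharp4 G Ω) (hE : ∀ q : Ω, c.x • q = q → q = c.p3 ∨ q = c.p4)

theorem inK_one : c.InK 1 := ⟨by rw [one_mul, mul_one], one_smul _ _, one_smul _ _⟩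

theorem inK_x : c.InK c.x := ⟨rfl, c.x3, c.x4⟩

theorem inK_mul {k k' : G} (hk : c.InK k) (hk' : c.InK k') : c.InK (k * k') := by
  refine ⟨?_, ?_, ?_⟩
  · rw [mul_assoc, hk'.1, ← mul_assoc, hk.1, mul_assoc]
  · rw [mul_smul, hk'.2.1, hk.2.1]
  · rw [mul_smul, hk'.2.2, hk.2.2]

theorem InK.smul_x {k : G} (hk : c.InK k) (t : Ω) : k • c.x • t = c.x • k • t := by
  rw [← mul_smul, hk.1, mul_smul]

include h

/-- two elements of `K` agreeing at `p1` are equal -/
theorem inK_eq {k k' : G} (hk : c.InK k) (hk' : c.InK k') (e : k • c.p1 = k' • c.p1) : k = k' := by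
  apply h.eq_of_four c.hd e
  · rw [← c.x1, hk.smul_x, hk'.smul_x, e]
  · rw [hk.2.1, hk'.2.1]
  · rw [hk.2.2, hk'.2.2]

include hE

/-- a point outside `p3, p4` together with its `x`-image -/
theorem d4_of_ne {q : Ω} (h3 : q ≠ c.p3) (h4 : q ≠ c.p4) : D4 q (c.x • q) c.p3 c.p4 := by
  have hx : c.x • q ≠ q := fun e => by
    rcases hE q e with e1 | e1
    · exact h3 e1
    · exact h4 e1
  refine ⟨Ne.symm hx, h3, h4, ?_, ?_, c.hd.2.2.2.2.2⟩
  · intro e; apply h3; rw [← c.x_x_smul h q, e, c.x3]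
  · intro e; apply h4; rw [← c.x_x_smul h q, e, c.x4]

/-- non-identity elements of `K` are fixed-point-free off `p3, p4` -/
theorem inK_fpf {k : G} (hk : c.InK k) (hk1 : k ≠ 1) {q : Ω} (h3 : q ≠ c.p3) (h4 : q ≠ c.p4) :
    k • q ≠ q := by
  intro e
  apply hk1
  apply h.uniq (c.d4_of_ne h hE h3 h4) e _ hk.2.1 hk.2.2
  rw [hk.smul_x, e]

/-- `K` is transitive off `p3, p4` -/
theorem exists_inK {q : Ω} (h3 : q ≠ c.p3) (h4 : q ≠ c.p4) : ∃ k : G, c.InK k ∧ k • c.p1 = q := by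
  obtain ⟨g, g1, g2, g3, g4⟩ := h.ex c.hd (c.d4_of_ne h hE h3 h4)
  refine ⟨g, ⟨?_, g3, g4⟩, g1⟩
  apply h.eq_of_four c.hd <;>
    simp only [mul_smul, c.x1, c.x2, c.x3, c.x4, g1, g2, g3, g4, c.x_x_smul h]

/-- fixed points of an involution with two fixed points -/
theorem invol_fix {j : G} (jj : j * j = 1) {a b γ : Ω} (hab : a ≠ b) (ja : j • a = a)
    (jb : j • b = b) (hγ : j • γ ≠ γ) {ω : Ω} (hω : j • ω = ω) : ω = a ∨ ω = b := by
  have jj' : ∀ q : Ω, j • j • q = q := fun q => by rw [← mul_smul, jj, one_smul]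
  have hγa : γ ≠ a := by rintro rfl; exact hγ ja
  have hγb : γ ≠ b := by rintro rfl; exact hγ jb
  have hjγa : j • γ ≠ a := by intro e; apply hγa; rw [← jj' γ, e, ja]
  have hjγb : j • γ ≠ b := by intro e; apply hγb; rw [← jj' γ, e, jb]
  have D : D4 γ (j • γ) a b := ⟨Ne.symm hγ, hγa, hγb, hjγa, hjγb, hab⟩
  obtain ⟨g, g1, g2, g3, g4⟩ := h.ex c.hd D
  have e0 : g * c.x = j * g := by
    apply h.eq_of_four c.hd <;>
      simp only [mul_smul, c.x1, c.x2, c.x3, c.x4, g1, g2, g3, g4, jj', ja, jb]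
  have e1 : c.x • g⁻¹ • ω = g⁻¹ • ω := by
    apply smul_left_cancel g
    rw [← mul_smul, e0, mul_smul, smul_inv_smul, hω]
  rcases hE _ e1 with e2 | e2
  · left; rw [← g3, ← e2, smul_inv_smul]
  · right; rw [← g4, ← e2, smul_inv_smul]

omit hE in
theorem smul_p1_mem_Delta {k : G} (k3 : k • c.p3 = c.p3) (k4 : k • c.p4 = c.p4) :
    k • c.p1 ∈ c.Delta := by
  refine ⟨?_, ?_⟩
  · intro e
    rw [← k3] at e
    exact c.hd.2.1 (smul_left_cancel k e)
  · intro e
    rw [← k4] at e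
    exact c.hd.2.2.1 (smul_left_cancel k e)

/-- **Frobenius counting**: an element of `G_{p3 p4}` without fixed points off `p3, p4`
lies in `K`. -/
theorem fpf_inK [Finite G] {j : G} (j3 : j • c.p3 = c.p3) (j4 : j • c.p4 = c.p4)
    (hfpf : ∀ q : Ω, q ≠ c.p3 → q ≠ c.p4 → j • q ≠ q) : c.InK j := by
  classical
  have : Finite Ω := c.finite h
  have hne : Nonempty ↥c.Delta := ⟨⟨c.p1, c.hd.2.1, c.hd.2.2.1⟩⟩
  have hval : ∀ (k : ↥c.H) (δ : ↥c.Delta), ((k • δ : ↥c.Delta) : Ω) = (k : G) • (δ : Ω) :=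
    fun k δ => rfl
  have htrans : MulAction.IsPretransitive ↥c.H ↥c.Delta := by
    constructor
    intro δ δ'
    obtain ⟨k, hk, hk1⟩ := c.exists_inK h hE δ.2.1 δ.2.2
    obtain ⟨k', hk', hk1'⟩ := c.exists_inK h hE δ'.2.1 δ'.2.2
    have hmem : k' * k⁻¹ ∈ c.H := by
      rw [c.mem_H]
      refine ⟨?_, ?_⟩
      · rw [mul_smul, inv_smul_eq_iff.mpr hk.2.1.symm, hk'.2.1]
      · rw [mul_smul, inv_smul_eq_iff.mpr hk.2.2.symm, hk'.2.2]
    refine ⟨⟨k' * k⁻¹, hmem⟩, ?_⟩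
    apply Subtype.ext
    rw [hval]
    show (k' * k⁻¹) • (δ : Ω) = δ'
    rw [← hk1, mul_smul, inv_smul_smul, hk1']
  have h1 : ∀ k : ↥c.H, k ≠ 1 → ∀ a b : ↥c.Delta, k • a = a → k • b = b → a = b := by
    intro k hk a b ha hb
    by_contra hab
    apply hk
    obtain ⟨k3, k4⟩ := c.mem_H.mp k.2
    have ha' : (k : G) • (a : Ω) = a := by rw [← hval, ha]
    have hb' : (k : G) • (b : Ω) = b := by rw [← hval, hb]
    have hab' : (a : Ω) ≠ b := fun e => hab (Subtype.ext e)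
    have D : D4 (a : Ω) (b : Ω) c.p3 c.p4 :=
      ⟨hab', a.2.1, a.2.2, b.2.1, b.2.2, c.hd.2.2.2.2.2⟩
    exact Subtype.ext (h.uniq D ha' hb' k3 k4)
  have hcount := Cfsg.Agent.Lib.Helper5.frobenius_kernel_count (K := ↥c.H) (X := ↥c.Delta) h1
  have hsub : {k : ↥c.H | c.InK (k : G)} ⊆ {k : ↥c.H | k = 1 ∨ ∀ δ : ↥c.Delta, k • δ ≠ δ} := by
    intro k hk
    by_cases hk1 : k = 1
    · left; exact hk1
    · right
      intro δ e
      have hk1' : (k : G) ≠ 1 := fun e1 => hk1 (Subtype.ext e1)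
      apply c.inK_fpf h hE hk hk1' δ.2.1 δ.2.2
      rw [← hval, e]
  have hcard : Nat.card ↥c.Delta ≤ {k : ↥c.H | c.InK (k : G)}.ncard := by
    rw [← Nat.card_coe_set_eq]
    let f : ↥{k : ↥c.H | c.InK (k : G)} → ↥c.Delta := fun k =>
      ⟨((k : ↥c.H) : G) • c.p1, c.smul_p1_mem_Delta h k.2.2.1 k.2.2.2⟩
    apply Nat.card_le_card_of_surjective f
    intro δ
    obtain ⟨g, hg, hg1⟩ := c.exists_inK h hE δ.2.1 δ.2.2
    refine ⟨⟨⟨g, c.mem_H.mpr ⟨hg.2.1, hg.2.2⟩⟩, hg⟩, ?_⟩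
    apply Subtype.ext
    exact hg1
  have heq := Set.eq_of_subset_of_ncard_le hsub (by rw [hcount]; exact hcard) (Set.toFinite _)
  have hj : (⟨j, c.mem_H.mpr ⟨j3, j4⟩⟩ : ↥c.H) ∈ {k : ↥c.H | k = 1 ∨ ∀ δ : ↥c.Delta, k • δ ≠ δ} := by
    right
    intro δ e
    apply hfpf δ.1 δ.2.1 δ.2.2
    have := congrArg Subtype.val e
    rw [hval] at this
    exact this
  rw [← heq] at hj
  exact hj

/-- every element of `K` is an involution -/
theorem inK_sq [Finite G] {k : G} (hk : c.InK k) : k * k = 1 := by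
  by_cases hk1 : k = 1
  · rw [hk1, one_mul]
  have hd := c.hd
  have hβ := c.smul_p1_mem_Delta h hk.2.1 hk.2.2
  have hβ1 : k • c.p1 ≠ c.p1 := c.inK_fpf h hE hk hk1 hd.2.1 hd.2.2.1
  have D1 : D4 c.p1 (k • c.p1) c.p3 c.p4 :=
    ⟨Ne.symm hβ1, hd.2.1, hd.2.2.1, hβ.1, hβ.2, hd.2.2.2.2.2⟩
  have D2 : D4 (k • c.p1) c.p1 c.p3 c.p4 :=
    ⟨hβ1, hβ.1, hβ.2, hd.2.1, hd.2.2.1, hd.2.2.2.2.2⟩
  obtain ⟨j, j1, j2, j3, j4⟩ := h.ex D1 D2
  have jj : j * j = 1 := by
    apply h.uniq D1 <;> simp only [mul_smul, j1, j2, j3, j4]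
  have hjK : c.InK j := by
    apply c.fpf_inK h hE j3 j4
    intro q q3 q4 e
    have hγ : j • c.p1 ≠ c.p1 := by rw [j1]; exact hβ1
    rcases c.invol_fix h hE jj hd.2.2.2.2.2 j3 j4 hγ e with e1 | e1
    · exact q3 e1
    · exact q4 e1
  have : j = k := c.inK_eq h hjK hk j1
  rw [← this]; exact jj

/-- `K` is abelian -/
theorem inK_comm [Finite G] {k k' : G} (hk : c.InK k) (hk' : c.InK k') : k * k' = k' * k := by
  have e1 := c.inK_sq h hE hk
  have e2 := c.inK_sq h hE hk'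
  have e3 := c.inK_sq h hE (c.inK_mul hk hk')
  have i1 : k⁻¹ = k := inv_eq_of_mul_eq_one_right e1
  have i2 : k'⁻¹ = k' := inv_eq_of_mul_eq_one_right e2
  have i3 : (k * k')⁻¹ = k * k' := inv_eq_of_mul_eq_one_right e3
  rw [← i3, mul_inv_rev, i1, i2]

omit hE in
/-- `y` normalizes `K` -/
theorem inK_conj_y {k : G} (hk : c.InK k) : c.InK (c.y * k * c.y) := by
  refine ⟨?_, ?_, ?_⟩
  · have e := c.xy_comm h
    calc c.y * k * c.y * c.x = c.y * k * (c.x * c.y) := by rw [mul_assoc, ← e]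
      _ = c.y * (k * c.x) * c.y := by group
      _ = c.y * (c.x * k) * c.y := by rw [hk.1]
      _ = (c.y * c.x) * k * c.y := by group
      _ = (c.x * c.y) * k * c.y := by rw [e]
      _ = c.x * (c.y * k * c.y) := by group
  · rw [mul_smul, mul_smul, c.y3, hk.2.2, c.y4]
  · rw [mul_smul, mul_smul, c.y4, hk.2.1, c.y3]

/-- the centralizer of `y` in `K` is `{1, x}` -/
theorem inK_centralizes_y {k : G} (hk : c.InK k) (e : c.y * k = k * c.y) : k = 1 ∨ k = c.x := by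
  have hd := c.hd
  have hfix : c.y • k • c.p1 = k • c.p1 := by rw [← mul_smul, e, mul_smul, c.y1]
  have hcases : k • c.p1 = c.p1 ∨ k • c.p1 = c.p2 := by
    by_contra hcon
    rw [not_or] at hcon
    have hx := c.x_fix_of_y_fix h hfix hcon.1 hcon.2
    have hm := c.smul_p1_mem_Delta h hk.2.1 hk.2.2
    rcases hE _ hx with e1 | e1
    · exact hm.1 e1
    · exact hm.2 e1
  rcases hcases with e1 | e1
  · left
    apply c.inK_eq h hk c.inK_one
    rw [e1, one_smul]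
  · right
    apply c.inK_eq h hk c.inK_x
    rw [e1, c.x1]

/-- `y` acts on `K ∖ {1, x}` as multiplication by `x` -/
theorem inK_y_conj_eq [Finite G] {k : G} (hk : c.InK k) (hk1 : k ≠ 1) (hkx : k ≠ c.x) :
    c.y * k * c.y = k * c.x := by
  have hyk := c.inK_conj_y h hk
  have hw : c.InK (k * (c.y * k * c.y)) := c.inK_mul hk hyk
  have hcomm := c.inK_comm h hE hk hyk
  have yy := c.yy h
  have kk := c.inK_sq h hE hk
  have ki : k⁻¹ = k := inv_eq_of_mul_eq_one_right kk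
  have e : c.y * (k * (c.y * k * c.y)) = (k * (c.y * k * c.y)) * c.y := by
    calc c.y * (k * (c.y * k * c.y)) = c.y * ((c.y * k * c.y) * k) := by rw [hcomm]
      _ = (c.y * c.y) * k * c.y * k := by group
      _ = k * c.y * k := by rw [yy, one_mul]
      _ = k * c.y * k * (c.y * c.y) := by rw [yy, mul_one]
      _ = (k * (c.y * k * c.y)) * c.y := by group
  rcases c.inK_centralizes_y h hE hw e with e1 | e1
  · exfalso
    -- y k y = k⁻¹ = k, so k commutes with y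
    have e2 : c.y * k * c.y = k := by
      have := eq_inv_of_mul_eq_one_right e1
      rw [ki] at this; exact this
    have e3 : c.y * k = k * c.y := by
      calc c.y * k = c.y * k * (c.y * c.y) := by rw [yy, mul_one]
        _ = (c.y * k * c.y) * c.y := by group
        _ = k * c.y := by rw [e2]
    rcases c.inK_centralizes_y h hE hk e3 with e4 | e4
    · exact hk1 e4
    · exact hkx e4
  · calc c.y * k * c.y = k⁻¹ * (k * (c.y * k * c.y)) := by group
      _ = k * c.x := by rw [e1, ki]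

/-- **The even case**: if `x` fixes only `p3, p4` then there are at most 6 points. -/
theorem card_le_six [Finite G] : Nat.card Ω ≤ 6 := by
  by_contra hcon
  rw [not_le] at hcon
  have : Finite Ω := c.finite h
  have hd := c.hd
  obtain ⟨β1, -, hβ1⟩ := Set.exists_mem_notMem_of_ncard_lt_ncard
    (s := ({c.p1, c.p2, c.p3, c.p4} : Set Ω)) (t := Set.univ)
    (by rw [Set.ncard_univ, ncard_four hd]; omega)
  simp only [Set.mem_insert_iff, Set.mem_singleton_iff, not_or] at hβ1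
  obtain ⟨k1, hk1, e1⟩ := c.exists_inK h hE hβ1.2.2.1 hβ1.2.2.2
  obtain ⟨β2, -, hβ2⟩ := Set.exists_mem_notMem_of_ncard_lt_ncard
    (s := ({β1, c.x • β1, c.p1, c.p2, c.p3, c.p4} : Set Ω)) (t := Set.univ)
    (by
      rw [Set.ncard_univ]
      have a1 := Set.ncard_insert_le β1 ({c.x • β1, c.p1, c.p2, c.p3, c.p4} : Set Ω)
      have a2 := Set.ncard_insert_le (c.x • β1) ({c.p1, c.p2, c.p3, c.p4} : Set Ω)
      have a3 := ncard_four hd
      omega)
  simp only [Set.mem_insert_iff, Set.mem_singleton_iff, not_or] at hβ2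
  obtain ⟨k2, hk2, e2⟩ := c.exists_inK h hE hβ2.2.2.2.2.1 hβ2.2.2.2.2.2
  have k1ne1 : k1 ≠ 1 := by
    rintro rfl; rw [one_smul] at e1; exact hβ1.1 e1.symm
  have k1nex : k1 ≠ c.x := by
    rintro rfl; rw [c.x1] at e1; exact hβ1.2.1 e1.symm
  have k2ne1 : k2 ≠ 1 := by
    rintro rfl; rw [one_smul] at e2; exact hβ2.2.2.1 e2.symm
  have k2nex : k2 ≠ c.x := by
    rintro rfl; rw [c.x1] at e2; exact hβ2.2.2.2.1 e2.symm
  have kk1 := c.inK_sq h hE hk1
  have ki1 : k1⁻¹ = k1 := inv_eq_of_mul_eq_one_right kk1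
  have h12 := c.inK_mul hk1 hk2
  have k12ne1 : k1 * k2 ≠ 1 := by
    intro e
    have : k2 = k1 := by rw [← ki1]; exact (inv_eq_of_mul_eq_one_right e).symm
    rw [this, e1] at e2
    exact hβ2.1 e2.symm
  have k12nex : k1 * k2 ≠ c.x := by
    intro e
    have : k2 = k1 * c.x := by
      calc k2 = k1⁻¹ * (k1 * k2) := by group
        _ = k1 * c.x := by rw [e, ki1]
    rw [this, mul_smul, hk1.smul_x, e1] at e2
    exact hβ2.2.1 e2.symm
  have c1 := c.inK_y_conj_eq h hE hk1 k1ne1 k1nex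
  have c2 := c.inK_y_conj_eq h hE hk2 k2ne1 k2nex
  have c12 := c.inK_y_conj_eq h hE h12 k12ne1 k12nex
  have yy := c.yy h
  have xx := c.xx h
  have e3 : c.y * (k1 * k2) * c.y = k1 * k2 := by
    calc c.y * (k1 * k2) * c.y = c.y * k1 * 1 * k2 * c.y := by group
      _ = c.y * k1 * (c.y * c.y) * k2 * c.y := by rw [yy]
      _ = (c.y * k1 * c.y) * (c.y * k2 * c.y) := by group
      _ = (k1 * c.x) * (k2 * c.x) := by rw [c1, c2]
      _ = k1 * (c.x * k2) * c.x := by group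
      _ = k1 * (k2 * c.x) * c.x := by rw [hk2.1]
      _ = k1 * k2 * (c.x * c.x) := by group
      _ = k1 * k2 := by rw [xx, mul_one]
  rw [e3] at c12
  exact c.x_ne_one (mul_left_cancel (a := k1 * k2) (by rw [mul_one]; exact c12.symm))

end Conf

end Cfsg.Agent.Lib.Helper9
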