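/-
Helper9 library: sharply 4-transitive group actions (Jordan / Tits).
Part 5: the main theorem — a sharply 4-transitive action has degree 4, 5, 6 or 11 —
and the bridge from Mathlib's `IsMultiplyPretransitive`.
-/
import Cfsg.Agent.Lib.Helper9.Sharp4Even

set_option autoImplicit false

namespace Cfsg.Agent.Lib.Helper9

variable {G Ω : Type*} [Group G] [MulAction G Ω]

theorem Sharp4.finite_group (h : Sharp4 G Ω) {a b c d : Ω} (hd : D4 a b c d) [Finite Ω] :
    Finite G := by
  apply Finite.of_injective (fun g : G => (g • a, g • b, g • c, g • d))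
  intro g g' e
  simp only [Prod.mk.injEq] at e
  exact h.eq_of_four hd e.1 e.2.1 e.2.2.1 e.2.2.2

/-- **Jordan–Tits.** A sharply 4-transitive action (on at least 4 points) has degree
4, 5, 6 or 11; in particular the set acted on is finite. -/
theorem Sharp4.finite_and_card (h : Sharp4 G Ω) {a b c d : Ω} (hd : D4 a b c d) :
    Finite Ω ∧ (Nat.card Ω = 4 ∨ Nat.card Ω = 5 ∨ Nat.card Ω = 6 ∨ Nat.card Ω = 11) := by
  obtain ⟨c0, -, -, -, -⟩ := h.exists_conf hd
  have hfin : Finite Ω := c0.finite h
  have hG : Finite G := h.finite_group hd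
  refine ⟨hfin, ?_⟩
  have hcard := c0.card_eq h
  have hE := c0.setE_ncard_le h
  have hF := c0.setF_ncard h
  have hR := c0.setR_ncard h
  have hEfin := (c0.setE_subsingleton h).finite
  by_cases hE0 : c0.setE.ncard = 0
  · -- `x` fixes exactly `p3, p4`
    have hEe : c0.setE = ∅ := (Set.ncard_eq_zero hEfin).mp hE0
    have hEx : ∀ q : Ω, c0.x • q = q → q = c0.p3 ∨ q = c0.p4 := by
      intro q hq
      by_contra hcon
      rw [not_or] at hcon
      have hy := c0.y_fix_of_x_fix h hq hcon.1 hcon.2
      have : q ∈ c0.setE := ⟨hq, hy⟩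
      rw [hEe] at this
      exact this
    have h6 := c0.card_le_six h hEx
    rcases hR with hR | ⟨hR, hF2⟩
    · rcases hF with hF | hF
      · left; omega
      · right; right; left; omega
    · omega
  · have hE1 : c0.setE.ncard = 1 := by omega
    obtain ⟨e, he⟩ : c0.setE.Nonempty := by
      rw [Set.nonempty_iff_ne_empty]
      intro e0
      rw [e0, Set.ncard_empty] at hE1
      exact absurd hE1 (by norm_num)
    rcases hR with hR | ⟨hR, hF2⟩
    · rcases hF with hF | hF
      · right; left; omega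
      · exfalso
        obtain ⟨q, hq⟩ : c0.setF.Nonempty := by
          rw [Set.nonempty_iff_ne_empty]
          intro e0
          rw [e0, Set.ncard_empty] at hF
          exact absurd hF (by norm_num)
        have hRe : c0.setR = ∅ := (Set.ncard_eq_zero (c0.setR_finite h)).mp hR
        exact c0.not_seven h he hq hRe
    · right; right; right; omega

/-- An embedding `Fin 4 ↪ Ω` from four distinct points. -/
def embOfD4 {a b c d : Ω} (hd : D4 a b c d) : Fin 4 ↪ Ω where
  toFun := ![a, b, c, d]
  inj' := by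
    obtain ⟨h1, h2, h3, h4, h5, h6⟩ := hd
    intro i j hij
    fin_cases i <;> fin_cases j <;> simp_all

theorem d4_of_emb (x : Fin 4 ↪ Ω) : D4 (x 0) (x 1) (x 2) (x 3) := by
  refine ⟨?_, ?_, ?_, ?_, ?_, ?_⟩ <;>
  · intro e
    have := x.injective e
    revert this
    decide

/-- Bridge from Mathlib's formulation. -/
theorem sharp4_of_isMultiplyPretransitive (h4 : MulAction.IsMultiplyPretransitive G Ω 4)
    (hsharp : ∀ x : Fin 4 ↪ Ω, MulAction.stabilizer G x = ⊥) : Sharp4 G Ω := by
  refine ⟨?_, ?_⟩
  · intro a b c d a' b' c' d' hd hd'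
    obtain ⟨g, hg⟩ := h4.exists_smul_eq (embOfD4 hd) (embOfD4 hd')
    have key : ∀ i : Fin 4, g • (embOfD4 hd) i = (embOfD4 hd') i := by
      intro i
      rw [← hg]
      rfl
    exact ⟨g, key 0, key 1, key 2, key 3⟩
  · intro g a b c d hd ha hb hc hdd
    have : g ∈ MulAction.stabilizer G (embOfD4 hd) := by
      rw [MulAction.mem_stabilizer_iff]
      ext i
      fin_cases i
      · exact ha
      · exact hb
      · exact hc
      · exact hdd
    rw [hsharp] at this
    exact Subgroup.mem_bot.mp this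

/-- **Jordan–Tits**, Mathlib formulation. -/
theorem sharp4_card (h4 : MulAction.IsMultiplyPretransitive G Ω 4)
    (hsharp : ∀ x : Fin 4 ↪ Ω, MulAction.stabilizer G x = ⊥) (hne : Nonempty (Fin 4 ↪ Ω)) :
    Finite Ω ∧ (Nat.card Ω = 4 ∨ Nat.card Ω = 5 ∨ Nat.card Ω = 6 ∨ Nat.card Ω = 11) := by
  obtain ⟨x⟩ := hne
  exact (sharp4_of_isMultiplyPretransitive h4 hsharp).finite_and_card (d4_of_emb x)

end Cfsg.Agent.Lib.Helper9
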