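import Mathlib
import Cfsg.Agent.Lib.Helper25.WeilDefs

/-! WH leaf for S2347: the induced model attached to an isotropic submodule `Y` has dimension
`|V| / |Y|` (restriction to a set of coset representatives of `V / Y` is a linear equivalence). -/

set_option autoImplicit false

open Cfsg.Agent.Lib.Helper25.Weil Module

namespace Cfsg.Agent.Lib.Helper9.WeilLeaf

variable {F V : Type*} [Field F] [AddCommGroup V] [Module F V] {S : Setting F V}
variable {M : Type*} [AddCommGroup M] [Module ℂ M]

/-! ### WH -/
theorem finrank_model [Finite V] (S : Setting F V) (Y : Submodule F V)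
    (hY : ∀ y ∈ Y, ∀ y' ∈ Y, S.B y y' = 0) :
    finrank ℂ (S.model Y) * Nat.card Y = Nat.card V := by
  classical
  let s : V ⧸ Y → V := fun c => Quotient.out c
  have hs : ∀ c, Submodule.Quotient.mk (s c) = c := fun c => Submodule.Quotient.mk_out c
  have hsub : ∀ v : V, v - s (Submodule.Quotient.mk v) ∈ Y := by
    intro v
    rw [← Submodule.Quotient.eq]
    exact (hs _).symm
  let R : S.model Y →ₗ[ℂ] (V ⧸ Y → ℂ) :=
    { toFun := fun f c => (f : V → ℂ) (s c)
      map_add' := fun f g => rfl
      map_smul' := fun a f => rfl }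
  have R_apply : ∀ (f : S.model Y) (c : V ⧸ Y), R f c = (f : V → ℂ) (s c) := fun f c => rfl
  have hinj : Function.Injective R := by
    rw [injective_iff_map_eq_zero]
    intro f hf
    apply Subtype.ext
    funext v
    have h1 := f.2 (v - s (Submodule.Quotient.mk v)) (hsub v) (s (Submodule.Quotient.mk v))
    rw [sub_add_cancel] at h1
    have h2 : (f : V → ℂ) (s (Submodule.Quotient.mk v)) = 0 := by
      rw [← R_apply, hf]; rfl
    rw [h1, h2, mul_zero]
    rfl
  have hsurj : Function.Surjective R := by
    intro φ
    let f : V → ℂ := fun v =>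
      S.χ (s (Submodule.Quotient.mk v)) (v - s (Submodule.Quotient.mk v)) *
        φ (Submodule.Quotient.mk v)
    have hf : f ∈ S.model Y := by
      intro y hy v
      have hmk : (Submodule.Quotient.mk (y + v) : V ⧸ Y) = Submodule.Quotient.mk v := by
        rw [Submodule.Quotient.eq]
        simpa using hy
      show S.χ (s (Submodule.Quotient.mk (y + v))) (y + v - s (Submodule.Quotient.mk (y + v))) *
          φ (Submodule.Quotient.mk (y + v)) =
        S.χ v y * (S.χ (s (Submodule.Quotient.mk v)) (v - s (Submodule.Quotient.mk v)) *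
          φ (Submodule.Quotient.mk v))
      rw [hmk]
      set t := s (Submodule.Quotient.mk v) with ht
      have e1 : y + v - t = y + (v - t) := by abel
      rw [e1, S.χ_add_right]
      -- χ t y = χ v y since v - t ∈ Y
      have e2 : S.χ v y = S.χ t y := by
        have : v = (v - t) + t := by abel
        conv_lhs => rw [this]
        rw [S.χ_add_left, S.χ_of_B_eq_zero (hY _ (hsub v) _ hy), one_mul]
      rw [e2]
      ring
    refine ⟨⟨f, hf⟩, ?_⟩
    funext c
    rw [R_apply]
    show S.χ (s (Submodule.Quotient.mk (s c))) (s c - s (Submodule.Quotient.mk (s c))) *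
        φ (Submodule.Quotient.mk (s c)) = φ c
    rw [hs c, sub_self, S.χ_zero_right, one_mul]
  let E : S.model Y ≃ₗ[ℂ] (V ⧸ Y → ℂ) := LinearEquiv.ofBijective R ⟨hinj, hsurj⟩
  have hfin : Finite (V ⧸ Y) := Finite.of_surjective _ (Submodule.Quotient.mk_surjective Y)
  have : Fintype (V ⧸ Y) := Fintype.ofFinite _
  rw [E.finrank_eq, Module.finrank_fintype_fun_eq_card, ← Nat.card_eq_fintype_card,
    Submodule.card_eq_card_quotient_mul_card Y, mul_comm]

end Cfsg.Agent.Lib.Helper9.WeilLeaf
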