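import Mathlib
import Cfsg.Agent.Lib.Helper25.WeilDefs

/-! WL leaf for S2347: transport an irreducible invariant subspace of a group of operators to an
irreducible representation on `Fin k → ℂ`. -/

set_option autoImplicit false

open Cfsg.Agent.Lib.Helper25.Weil Module

namespace Cfsg.Agent.Lib.Helper9.WeilLeaf

variable {F V : Type*} [Field F] [AddCommGroup V] [Module F V] {S : Setting F V}
variable {M : Type*} [AddCommGroup M] [Module ℂ M]

/-! ### WL -/
theorem exists_rep_of_invariant {G : Type*} [Group G] (ω : G →* (Module.End ℂ M)ˣ)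
    (U : Submodule ℂ M) (hinv : ∀ g, ∀ x ∈ U, (ω g : Module.End ℂ M) x ∈ U)
    (hirr : ∀ U' : Submodule ℂ M, U' ≤ U → (∀ g, ∀ x ∈ U', (ω g : Module.End ℂ M) x ∈ U') →
      U' = ⊥ ∨ U' = U)
    (k : ℕ) (hk : finrank ℂ U = k) (hk0 : 0 < k) :
    ∃ ρ : Representation ℂ G (Fin k → ℂ), ρ.IsIrreducible := by
  classical
  have : FiniteDimensional ℂ U := Module.finite_of_finrank_pos (by rw [hk]; exact hk0)
  have hfr : finrank ℂ U = finrank ℂ (Fin k → ℂ) := by rw [hk, Module.finrank_fin_fun]
  let e : U ≃ₗ[ℂ] (Fin k → ℂ) := LinearEquiv.ofFinrankEq _ _ hfr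
  let r : G → Module.End ℂ U := fun g => (ω g : Module.End ℂ M).restrict (hinv g)
  have r_apply : ∀ g (x : U), ((r g x : U) : M) = (ω g : Module.End ℂ M) x := fun g x => rfl
  have r_one : r 1 = 1 := by
    apply LinearMap.ext
    intro x
    apply Subtype.ext
    rw [r_apply, map_one]
    rfl
  have r_mul : ∀ g h, r (g * h) = r g * r h := by
    intro g h
    apply LinearMap.ext
    intro x
    apply Subtype.ext
    rw [r_apply, map_mul]
    rfl
  let ρ : Representation ℂ G (Fin k → ℂ) :=
    { toFun := fun g => e.toLinearMap ∘ₗ r g ∘ₗ e.symm.toLinearMap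
      map_one' := by
        apply LinearMap.ext
        intro x
        simp only [r_one, LinearMap.comp_apply, LinearEquiv.coe_coe, Module.End.one_apply,
          LinearEquiv.apply_symm_apply]
      map_mul' := by
        intro g h
        apply LinearMap.ext
        intro x
        simp only [r_mul, LinearMap.comp_apply, LinearEquiv.coe_coe, Module.End.mul_apply,
          LinearEquiv.symm_apply_apply] }
  have ρ_apply : ∀ g x, ρ g x = e (r g (e.symm x)) := fun g x => rfl
  refine ⟨ρ, ?_⟩
  have hUne : ∃ x : U, x ≠ 0 := by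
    have : Nontrivial U := Module.nontrivial_of_finrank_pos (R := ℂ) (by rw [hk]; exact hk0)
    exact exists_ne 0
  refine { exists_pair_ne := ⟨⊥, ⊤, ?_⟩, eq_bot_or_eq_top := ?_ }
  · intro hbt
    have h1 : (⊥ : Subrepresentation ρ).toSubmodule = (⊤ : Subrepresentation ρ).toSubmodule :=
      congrArg _ hbt
    have h2 : (⊥ : Submodule ℂ (Fin k → ℂ)) = ⊤ := h1
    obtain ⟨x, hx⟩ := hUne
    have : e x ∈ (⊤ : Submodule ℂ (Fin k → ℂ)) := Submodule.mem_top
    rw [← h2, Submodule.mem_bot] at this
    exact hx (by simpa using this)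
  · intro W
    -- the corresponding submodule of U
    let U' : Submodule ℂ M := (W.toSubmodule.comap e.toLinearMap).map U.subtype
    have hU'U : U' ≤ U := by
      rintro _ ⟨x, _, rfl⟩
      exact x.2
    have hmem : ∀ x : U, (x : M) ∈ U' ↔ e x ∈ W.toSubmodule := by
      intro x
      constructor
      · rintro ⟨y, hy, hyx⟩
        have : y = x := Subtype.ext hyx
        subst this
        exact hy
      · intro hx
        exact ⟨x, hx, rfl⟩
    have hU'inv : ∀ g, ∀ x ∈ U', (ω g : Module.End ℂ M) x ∈ U' := by
      rintro g _ ⟨x, hx, rfl⟩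
      have h1 : (ω g : Module.End ℂ M) (U.subtype x) = ((r g x : U) : M) := rfl
      rw [h1, hmem]
      have hx' : e x ∈ W.toSubmodule := hx
      have := W.apply_mem_toSubmodule g hx'
      rw [ρ_apply, LinearEquiv.symm_apply_apply] at this
      exact this
    rcases hirr U' hU'U hU'inv with h0 | h1
    · left
      apply Subrepresentation.toSubmodule_injective
      show W.toSubmodule = ⊥
      rw [eq_bot_iff]
      intro y hy
      have hy' : ((e.symm y : U) : M) ∈ U' := by
        rw [hmem, LinearEquiv.apply_symm_apply]; exact hy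
      rw [h0, Submodule.mem_bot] at hy'
      have : e.symm y = 0 := Subtype.ext hy'
      rw [Submodule.mem_bot]
      simpa using this
    · right
      apply Subrepresentation.toSubmodule_injective
      show W.toSubmodule = ⊤
      rw [eq_top_iff]
      intro y _
      have hy' : ((e.symm y : U) : M) ∈ U' := by
        rw [h1]; exact (e.symm y).2
      rw [hmem, LinearEquiv.apply_symm_apply] at hy'
      exact hy'

end Cfsg.Agent.Lib.Helper9.WeilLeaf
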