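import Mathlib
import Cfsg.Agent.Lib.Helper20.UTNDefs
import Cfsg.Agent.Lib.Helper20.UTS
import Cfsg.Agent.Lib.Helper5.SUMax

/-!
S5670 part (N) leaves, NZ-block: the calculus of `IsZ q y g θ` (`g = E_y(θ) : v ↦ v + θ(c_y v) ⊗ y`):
NZ1 `IsZ_kB`, NZ2 `IsZ_mul` + `IsZ_inv`, NZ3 `IsZ_conj_kel`, NZ4 `IsZ_smul_vec`, NZ5 `IsZ_skew`.
By-products: `pt_ind'`, `ct_cj_add_pt_self`, `ct_cj_kel`, `mv_kel_pt`.
-/

set_option autoImplicit false
set_option linter.unusedSectionVars false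
set_option linter.unusedVariables false

namespace Cfsg.Agent.Lib.Helper9.UTNLeaf
open Matrix
open Cfsg.Agent.Lib.Helper25.Tens Cfsg.Agent.Lib.Helper25.TensLeaf Cfsg.Agent.Lib.Helper25.TensLeaves
open Cfsg.Agent.Lib.Helper20.UT Cfsg.Agent.Lib.Helper20.UTLeaf Cfsg.Agent.Lib.Helper20.UTN
open scoped Kronecker

variable {F : Type*} [Field F] [Fintype F] {a b q : ℕ} {M : Subgroup (GL (Idx a b) F)}

/-- induction over sums of pure tensors -/
theorem pt_ind' {p : (Idx a b → F) → Prop} (h0 : p 0)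
    (hadd : ∀ v w, p v → p w → p (v + w)) (hpt : ∀ (x : Fin a → F) (y : Fin b → F), p (pt x y)) :
    ∀ v, p v := by
  intro v
  rw [eq_sum_pt v]
  apply Finset.sum_induction _ p hadd h0
  intro i _
  apply Finset.sum_induction _ p hadd h0
  intro l _
  rw [← pt_smul_left]
  exact hpt _ _

/-- `c_y (v + w ⊗ y) = c_y v` for isotropic `y` -/
lemma ct_cj_add_pt_self {y : Fin b → F} (hy : hv q y y = 0) (v : Idx a b → F) (w : Fin a → F) :
    ct (cj q y) (v + pt w y) = ct (cj q y) v := by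
  rw [ct_add, ct_cj_pt, hy, zero_smul, add_zero]

/-- NZ1 `kB q y c = E_y(c • 1)` (`mv_kB`). -/
theorem IsZ_kB (y : Fin b → F) (c : F) (hy : hv q y y = 0) :
    IsZ q y (kB q y c hy : GL (Idx a b) F) (c • (1 : Matrix (Fin a) (Fin a) F)) := by
  intro v
  rw [mv_kB, Matrix.smul_mulVec, Matrix.one_mulVec, pt_smul_left]

/-- NZ2 `E_y(θ) E_y(θ') = E_y(θ + θ')`. -/
theorem IsZ_mul {y : Fin b → F} (hy : hv q y y = 0) {g g' : GL (Idx a b) F}
    {θ θ' : Matrix (Fin a) (Fin a) F} (h : IsZ q y g θ) (h' : IsZ q y g' θ') :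
    IsZ q y (g * g') (θ + θ') := by
  intro v
  rw [mv_mul, h' v, h _, ct_cj_add_pt_self hy, Matrix.add_mulVec, pt_add_left]
  abel

theorem IsZ_inv {y : Fin b → F} (hy : hv q y y = 0) {g : GL (Idx a b) F}
    {θ : Matrix (Fin a) (Fin a) F} (h : IsZ q y g θ) : IsZ q y g⁻¹ (-θ) := by
  intro v
  have h1 : mv g (v + pt ((-θ) *ᵥ ct (cj q y) v) y) = v := by
    rw [h _, ct_cj_add_pt_self hy, Matrix.neg_mulVec]
    have : pt (-(θ *ᵥ ct (cj q y) v)) y = - pt (θ *ᵥ ct (cj q y) v) y := by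
      rw [← neg_one_smul F (θ *ᵥ ct (cj q y) v), pt_smul_left, neg_one_smul]
    rw [this]
    abel
  conv_lhs => rw [← h1]
  rw [mv_inv_mv]

/-- the action of a Kronecker element on a pure tensor -/
lemma mv_kel_pt (α : GL (Fin a) F) (β : GL (Fin b) F) (x : Fin a → F) (z : Fin b → F) :
    mv (kel α β : GL (Idx a b) F) (pt x z) = pt (mv α x) (mv β z) :=
  kel_mulVec_pt α β x z

/-- `c_{β y} ((α ⊗ β) w) = α (c_y w)` for an isometry `β` -/
lemma ct_cj_kel (hF : Fintype.card F = q ^ 2) (y : Fin b → F) (α : GL (Fin a) F) (β : GL (Fin b) F)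
    (hβ : ∀ u v, hv q (mv β u) (mv β v) = hv q u v) (w : Idx a b → F) :
    ct (cj q (mv β y)) (mv (kel α β : GL (Idx a b) F) w) = mv α (ct (cj q y) w) := by
  revert w
  apply pt_ind'
  · rw [mv_zero]
    have h0 : ct (cj q y) (0 : Idx a b → F) = 0 := by
      ext i; simp [ct]
    have h0' : ct (cj q (mv β y)) (0 : Idx a b → F) = 0 := by
      ext i; simp [ct]
    rw [h0, h0', mv_zero]
  · intro v w hv' hw'
    rw [mv_add, ct_add, ct_add, mv_add, hv', hw']
  · intro x z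
    rw [mv_kel_pt, ct_cj_pt, ct_cj_pt, hβ, mv_smul]

/-- NZ3 `(α ⊗ β) E_y(θ) (α ⊗ β)⁻¹ = E_{β y}(α θ α⁻¹)` for an isometry `β` (`α` arbitrary). -/
theorem IsZ_conj_kel (hF : Fintype.card F = q ^ 2) {y : Fin b → F} {g : GL (Idx a b) F}
    {θ : Matrix (Fin a) (Fin a) F} (h : IsZ q y g θ) (α : GL (Fin a) F) (β : GL (Fin b) F)
    (hβ : ∀ u v, hv q (mv β u) (mv β v) = hv q u v) :
    IsZ q (mv β y) (kel α β * g * (kel α β)⁻¹)
      ((α : Matrix (Fin a) (Fin a) F) * θ * ((α⁻¹ : GL (Fin a) F) : Matrix (Fin a) (Fin a) F)) := by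
  intro v
  have hc : ct (cj q (mv β y)) v = mv α (ct (cj q y) (mv (kel α β : GL (Idx a b) F)⁻¹ v)) := by
    rw [← ct_cj_kel hF y α β hβ, mv_mv_inv]
  rw [mv_mul, mv_mul, h _, mv_add, mv_mv_inv, mv_kel_pt, hc]
  congr 2
  change (α : Matrix (Fin a) (Fin a) F) *ᵥ _ = _
  rw [← Matrix.mulVec_mulVec, ← Matrix.mulVec_mulVec]
  congr 2
  change _ = mv α⁻¹ (mv α _)
  rw [mv_inv_mv]

/-- NZ4 `E_{d y}(θ) = E_y((d * d^q) • θ)`. -/
theorem IsZ_smul_vec {y : Fin b → F} {g : GL (Idx a b) F} {θ : Matrix (Fin a) (Fin a) F} (d : F)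
    (h : IsZ q (d • y) g θ) : IsZ q y g ((d * d ^ q) • θ) := by
  intro v
  rw [h v, cj_smul, ct_smul_left, Matrix.mulVec_smul, pt_smul_left, pt_smul_right, smul_smul,
    Matrix.smul_mulVec, pt_smul_left, mul_comm]

/-- NZ5 an isometry `E_y(θ)` has skew-hermitian `θ`. -/
theorem IsZ_skew (hF : Fintype.card F = q ^ 2) {y : Fin b → F} (hy0 : y ≠ 0) (hy : hv q y y = 0)
    {g : GL (Idx a b) F} (hg : g ∈ GUI a b q F) {θ : Matrix (Fin a) (Fin a) F}
    (h : IsZ q y g θ) : adjM q θ = -θ := by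
  have hq0 : q ≠ 0 := by
    rintro rfl
    have : 2 ≤ Fintype.card F := Fintype.one_lt_card
    rw [hF] at this; omega
  have hf := hv_unitary (n := b) hF
  obtain ⟨ys, -, hysys, hyys⟩ := Cfsg.Agent.Lib.Helper5.UForm.exists_partner hf
    (Cfsg.Agent.Lib.Helper5.UForm.ND_top hf)
    (Submodule.mem_top : y ∈ (⊤ : Submodule F (Fin b → F))) hy0 hy
  have hysy : hv q ys y = 1 := by
    have := hv_conj hF y ys
    rw [hyys, one_pow] at this
    exact this.symm
  -- the action on `x ⊗ ys`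
  have hact : ∀ x : Fin a → F, mv g (pt x ys) = pt x ys + pt (θ *ᵥ x) y := by
    intro x
    rw [h _, ct_cj_pt, hysy, one_smul]
  have key : ∀ x x' : Fin a → F, hv q x ((θ + adjM q θ) *ᵥ x') = 0 := by
    intro x x'
    have h1 := mem_GUI.mp hg (pt x ys) (pt x' ys)
    rw [hact, hact, hv_add_left, hv_add_right hF, hv_add_right hF, hv_pt, hv_pt, hv_pt, hv_pt,
      hysys, hy, hysy, hyys] at h1
    rw [Matrix.add_mulVec, hv_add_right hF, ← hv_adjM hF]
    linear_combination h1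
  have hzero : θ + adjM q θ = 0 := by
    ext i j
    have h1 := key (Pi.single i 1) (Pi.single j 1)
    rw [Matrix.mulVec_single_one] at h1
    have h2 : hv q (Pi.single i (1 : F)) ((θ + adjM q θ).col j) = ((θ + adjM q θ) i j) ^ q := by
      unfold hv
      rw [Finset.sum_eq_single i]
      · simp [Matrix.col_apply]
      · intro k _ hk
        simp [hk]
      · intro hi; exact absurd (Finset.mem_univ i) hi
    rw [h2] at h1
    rw [Matrix.zero_apply]
    exact pow_eq_zero_iff hq0 |>.mp h1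
  exact eq_neg_of_add_eq_zero_right hzero

end Cfsg.Agent.Lib.Helper9.UTNLeaf
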