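import Mathlib
import Cfsg.Prelude.Def_Local
import Cfsg.Agent.Lib.Helper9.FStar
import Cfsg.Agent.Lib.Helper9.PComponent

/-!
S4719 leaf (G8): with `O_{2'}(G) = 1` the centre of a component is a 2-group of order `≤ 2^a`.
-/

set_option autoImplicit false

universe u

namespace Cfsg.Agent.Lib.Helper9.DCG8

/-- the centre of a component (as a subgroup of `G`) lies in `O_2(G)` when `O_{2'}(G) = 1` -/
theorem center_map_le_pCore {G : Type u} [Group G] [Finite G]
    (hO : Cfsg.pPrimeCore 2 G = ⊥) (L : Subgroup G) (hL : Cfsg.IsComponent L) :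
    (Subgroup.center L).map L.subtype ≤ Cfsg.pCore 2 G := by
  have : Fact (Nat.Prime 2) := ⟨Nat.prime_two⟩
  set Z := (Subgroup.center L).map L.subtype with hZ
  have hZsn : Z.IsSubnormal :=
    (Subgroup.Normal.isSubnormal (inferInstance : (Subgroup.center L).Normal)).trans' hL.1
  have e : Subgroup.center L ≃* Z :=
    (Subgroup.center L).equivMapOfInjective L.subtype L.subtype_injective
  have hcn : Group.IsNilpotent (Subgroup.center L) := by
    refine ⟨1, ?_⟩
    rw [Subgroup.upperCentralSeries_one]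
    exact Subgroup.center_eq_top
  have hZnil : Group.IsNilpotent Z := Group.nilpotent_of_mulEquiv e
  have hZF : Z ≤ Cfsg.fittingSubgroup G :=
    Cfsg.Agent.Lib.Helper9.le_fittingSubgroup_of_subnormal_of_isNilpotent hZsn hZnil
  rw [Cfsg.Agent.Lib.Helper9.fittingSubgroup_eq_pCore_of_pPrimeCore_eq_bot 2 hO] at hZF
  exact hZF

/-- LEAF G8 -/
theorem card_center_component_le {G : Type u} [Group G] [Finite G]
    (hO : Cfsg.pPrimeCore 2 G = ⊥) (L : Subgroup G) (hL : Cfsg.IsComponent L) (a : ℕ)
    (ha : (Nat.card G).factorization 2 ≤ a) :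
    Nat.card (Subgroup.center L) ≤ 2 ^ a := by
  have : Fact (Nat.Prime 2) := ⟨Nat.prime_two⟩
  have hZF := center_map_le_pCore hO L hL
  have e : Subgroup.center L ≃* (Subgroup.center L).map L.subtype :=
    (Subgroup.center L).equivMapOfInjective L.subtype L.subtype_injective
  have hcard : Nat.card (Subgroup.center L) = Nat.card ((Subgroup.center L).map L.subtype) :=
    Nat.card_congr e.toEquiv
  have h1 : Nat.card ((Subgroup.center L).map L.subtype) ≤ Nat.card (Cfsg.pCore 2 G) :=
    Subgroup.card_le_of_le hZF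
  obtain ⟨n, hn⟩ := IsPGroup.iff_card.mp (Cfsg.Agent.Lib.Helper1.pCore_isPGroup 2 G)
  have hdvd : 2 ^ n ∣ Nat.card G := by
    rw [← hn]
    exact Subgroup.card_subgroup_dvd_card _
  have hn_le : n ≤ (Nat.card G).factorization 2 :=
    (Nat.Prime.pow_dvd_iff_le_factorization Nat.prime_two Nat.card_pos.ne').mp hdvd
  calc Nat.card (Subgroup.center L) = Nat.card ((Subgroup.center L).map L.subtype) := hcard
    _ ≤ Nat.card (Cfsg.pCore 2 G) := h1
    _ = 2 ^ n := hn
    _ ≤ 2 ^ a := Nat.pow_le_pow_right (by norm_num) (hn_le.trans ha)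

end Cfsg.Agent.Lib.Helper9.DCG8
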