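import Mathlib
import Cfsg.Prelude.Def_Local
import Cfsg.Agent.Lib.Helper9.DCG8

/-!
S4719 leaf (G7): with `O_{2'}(G) = 1` a component has even index over its centre.
-/

set_option autoImplicit false

universe u

namespace Cfsg.Agent.Lib.Helper9.DCG7

/-- LEAF G7 -/
theorem even_index_center_of_component {G : Type u} [Group G] [Finite G]
    (hO : Cfsg.pPrimeCore 2 G = ⊥) (L : Subgroup G) (hL : Cfsg.IsComponent L) :
    2 ∣ (Subgroup.center L).index := by
  have : Fact (Nat.Prime 2) := ⟨Nat.prime_two⟩
  by_contra hodd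
  have hperf : Group.IsPerfect L := hL.2.1
  have hsimple : IsSimpleGroup (L ⧸ Subgroup.center L) := hL.2.2
  -- Z(L) is a 2-group
  have hZF := Cfsg.Agent.Lib.Helper9.DCG8.center_map_le_pCore hO L hL
  have hZ2 : IsPGroup 2 (Subgroup.center L) := by
    have h1 : IsPGroup 2 ((Subgroup.center L).map L.subtype) :=
      (Cfsg.Agent.Lib.Helper1.pCore_isPGroup 2 G).to_le hZF
    have e : Subgroup.center L ≃* (Subgroup.center L).map L.subtype :=
      (Subgroup.center L).equivMapOfInjective L.subtype L.subtype_injective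
    exact h1.of_equiv e.symm
  -- transfer is trivial since L is perfect
  have htriv : ∀ g : L, g ^ (Subgroup.center L).index = 1 := by
    intro g
    have hle : commutator L ≤ (MonoidHom.transferCenterPow L).ker := by
      rw [commutator_def, Subgroup.commutator_le]
      intro a _ b _
      rw [MonoidHom.mem_ker, commutatorElement_def, map_mul, map_mul, map_mul, map_inv, map_inv]
      have hc : (MonoidHom.transferCenterPow L) a * (MonoidHom.transferCenterPow L) b =
          (MonoidHom.transferCenterPow L) b * (MonoidHom.transferCenterPow L) a := mul_comm' _ _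
      rw [hc]
      group
    have h1 : g ∈ (MonoidHom.transferCenterPow L).ker := by
      apply hle
      rw [hperf.commutator_eq_top]
      exact Subgroup.mem_top g
    have h2 := MonoidHom.transferCenterPow_apply (G := L) g
    rw [MonoidHom.mem_ker.mp h1] at h2
    exact h2.symm
  -- so the centre is trivial
  have hZbot : Subgroup.center L = ⊥ := by
    rw [eq_bot_iff]
    intro z hz
    rw [Subgroup.mem_bot]
    obtain ⟨k, hk⟩ := hZ2 ⟨z, hz⟩
    have hk' : z ^ 2 ^ k = 1 := by
      have := congrArg Subtype.val hk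
      simpa using this
    have h1 : orderOf z ∣ 2 ^ k := orderOf_dvd_of_pow_eq_one hk'
    have h2 : orderOf z ∣ (Subgroup.center L).index := orderOf_dvd_of_pow_eq_one (htriv z)
    have hcop : Nat.Coprime (2 ^ k) (Subgroup.center L).index := by
      apply Nat.Coprime.pow_left
      exact (Nat.Prime.coprime_iff_not_dvd Nat.prime_two).mpr hodd
    have : orderOf z = 1 := Nat.eq_one_of_dvd_coprimes hcop h1 h2
    exact orderOf_eq_one_iff.mp this
  -- so |L| is odd
  have hLodd : (Nat.card L).Coprime 2 := by
    have h1 : Nat.card L = (Subgroup.center L).index := by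
      rw [← Subgroup.card_mul_index (Subgroup.center L), hZbot, Subgroup.card_bot, one_mul]
    rw [h1]
    exact ((Nat.Prime.coprime_iff_not_dvd Nat.prime_two).mpr hodd).symm
  have hLle : L ≤ Cfsg.pPrimeCore 2 G :=
    Cfsg.Agent.Lib.Helper9.subnormal_le_pPrimeCore 2 hL.1 hLodd
  rw [hO] at hLle
  have hLbot : L = ⊥ := le_bot_iff.mp hLle
  -- contradiction with simplicity of L / Z(L)
  have hnt : Nontrivial (L ⧸ Subgroup.center L) := hsimple.toNontrivial
  obtain ⟨x, y, hxy⟩ := hnt
  apply hxy
  obtain ⟨x', rfl⟩ := QuotientGroup.mk_surjective x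
  obtain ⟨y', rfl⟩ := QuotientGroup.mk_surjective y
  have hx : x' = 1 := by
    have : (x' : G) ∈ (⊥ : Subgroup G) := hLbot ▸ x'.2
    exact Subtype.ext (Subgroup.mem_bot.mp this)
  have hy : y' = 1 := by
    have : (y' : G) ∈ (⊥ : Subgroup G) := hLbot ▸ y'.2
    exact Subtype.ext (Subgroup.mem_bot.mp this)
  rw [hx, hy]

end Cfsg.Agent.Lib.Helper9.DCG7
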