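import Mathlib

set_option autoImplicit false
set_option linter.unusedSectionVars false

namespace Cfsg.Agent.Lib.Helper9.AltAut

open Equiv Equiv.Perm

section c3
variable {α : Type*} [DecidableEq α]

/-- The three-cycle `a → b → c → a`. -/
def c3 (a b c : α) : Perm α := swap a b * swap b c

theorem c3_apply_fst {a b c : α} (hab : a ≠ b) (hac : a ≠ c) : c3 a b c a = b := by
  unfold c3
  rw [Perm.mul_apply, swap_apply_of_ne_of_ne hab hac, swap_apply_left]

theorem c3_apply_snd {a b c : α} (hac : a ≠ c) (hbc : b ≠ c) : c3 a b c b = c := by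
  unfold c3
  rw [Perm.mul_apply, swap_apply_left, swap_apply_of_ne_of_ne hac.symm hbc.symm]

theorem c3_apply_trd {a b c : α} : c3 a b c c = a := by
  unfold c3
  rw [Perm.mul_apply, swap_apply_right, swap_apply_right]

theorem c3_apply_of_ne {a b c x : α} (ha : x ≠ a) (hb : x ≠ b) (hc : x ≠ c) : c3 a b c x = x := by
  unfold c3
  rw [Perm.mul_apply, swap_apply_of_ne_of_ne hb hc, swap_apply_of_ne_of_ne ha hb]

theorem c3_rot {a b c : α} (hab : a ≠ b) (hac : a ≠ c) (hbc : b ≠ c) : c3 a b c = c3 b c a := by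
  ext x
  by_cases ha : x = a
  · subst ha; rw [c3_apply_fst hab hac, c3_apply_trd]
  by_cases hb : x = b
  · subst hb; rw [c3_apply_snd hac hbc, c3_apply_fst hbc hab.symm]
  by_cases hc : x = c
  · subst hc; rw [c3_apply_trd, c3_apply_snd hab.symm hac.symm]
  rw [c3_apply_of_ne ha hb hc, c3_apply_of_ne hb hc ha]

theorem c3_inv {a b c : α} (hab : a ≠ b) (hac : a ≠ c) (hbc : b ≠ c) :
    (c3 a b c)⁻¹ = c3 c b a := by
  rw [inv_eq_iff_mul_eq_one]
  ext x
  rw [Perm.mul_apply, Perm.one_apply]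
  by_cases ha : x = a
  · subst ha; rw [c3_apply_trd, c3_apply_trd]
  by_cases hb : x = b
  · subst hb; rw [c3_apply_snd hac.symm hab.symm, c3_apply_fst hab hac]
  by_cases hc : x = c
  · subst hc; rw [c3_apply_fst hbc.symm hac.symm, c3_apply_snd hac hbc]
  rw [c3_apply_of_ne hc hb ha, c3_apply_of_ne ha hb hc]

theorem isThreeCycle_c3 [Fintype α] {a b c : α} (hab : a ≠ b) (hac : a ≠ c) (hbc : b ≠ c) :
    (c3 a b c).IsThreeCycle := by
  unfold c3
  rw [swap_comm a b]
  exact isThreeCycle_swap_mul_swap_same hab.symm hbc hac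

theorem conj_c3 (g : Perm α) (a b c : α) : g * c3 a b c * g⁻¹ = c3 (g a) (g b) (g c) := by
  unfold c3
  rw [swap_apply_apply, swap_apply_apply]
  group

/-- Normal form of a three-cycle. -/
theorem eq_c3 [Fintype α] {σ : Perm α} (h : σ.IsThreeCycle) {x : α} (hx : σ x ≠ x) :
    σ = c3 x (σ x) (σ (σ x)) ∧ x ≠ σ x ∧ x ≠ σ (σ x) ∧ σ x ≠ σ (σ x) ∧ σ (σ (σ x)) = x := by
  have hm : x ∈ σ.support := Perm.mem_support.mpr hx
  have h1 := h.eq_swap_mul_swap_iff_mem_support.mpr hm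
  have h2 := h.nodup_iff_mem_support.mpr hm
  simp only [List.nodup_cons, List.mem_cons, List.mem_singleton, List.not_mem_nil, or_false,
    not_or, not_false_eq_true, List.nodup_nil, and_true] at h2
  refine ⟨h1, h2.1.1, h2.1.2, h2.2, ?_⟩
  have : (σ ^ 3) x = x := by
    rw [← h.orderOf, pow_orderOf_eq_one, Perm.one_apply]
  simpa [pow_succ] using this

theorem c3_thd_injective {a b z z' : α} (hz : z ≠ a) (hzb : z ≠ b) (hab : a ≠ b)
    (h : c3 a b z = c3 a b z') : z = z' := by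
  have h1 : c3 a b z b = z := c3_apply_snd hz.symm hzb.symm
  by_cases hz' : b = z'
  · subst hz'
    have h2 := congrArg (fun f : Perm α => f b) h
    simp only [h1] at h2
    rw [c3_apply_trd] at h2
    exact absurd h2 hz
  · by_cases hza : a = z'
    · subst hza
      have h2 := congrArg (fun f : Perm α => f b) h
      simp only [h1] at h2
      unfold c3 at h2
      rw [Perm.mul_apply, swap_apply_left, swap_apply_left] at h2
      exact absurd h2 hzb
    · have h2 := congrArg (fun f : Perm α => f b) h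
      simp only [h1] at h2
      rw [c3_apply_snd hza hz'] at h2
      exact h2

variable [Fintype α]

/-- The relation `(y y')² = 1` pointwise. -/
theorem rel_apply {y y' : Perm α} (h : (y * y') * (y * y') = 1) (x : α) :
    y' (y (y' x)) = y⁻¹ x := by
  have h1 : y * (y' * y * y') = 1 := by rw [← h]; group
  have h2 : y' * y * y' = y⁻¹ := by
    rw [eq_inv_iff_mul_eq_one, ← h1]
    have : y' * y * y' * y = y⁻¹ * (y * (y' * y * y')) * y := by group
    rw [this, h1]; group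
  have := congrArg (fun f : Perm α => f x) h2
  simpa [Perm.mul_apply] using this

/-- If `y'` fixes `c` then `y' = (a b e)`. -/
theorem rel_fix_trd {a b c : α} (hab : a ≠ b) (hac : a ≠ c) (hbc : b ≠ c) {y' : Perm α}
    (h3 : y'.IsThreeCycle) (h : (c3 a b c * y') * (c3 a b c * y') = 1) (hc : y' c = c) :
    ∃ e, e ≠ a ∧ e ≠ b ∧ e ≠ c ∧ y' = c3 a b e := by
  have hinv : (c3 a b c)⁻¹ = c3 c b a := c3_inv hab hac hbc
  -- at `x = c`
  have e1 := rel_apply h c
  rw [hc, c3_apply_trd, hinv, c3_apply_fst hbc.symm hac.symm] at e1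
  -- `y' a = b`
  have hya : y' a ≠ a := by rw [e1]; exact hab.symm
  obtain ⟨hform, n1, n2, n3, hcyc⟩ := eq_c3 h3 hya
  rw [e1] at hform n1 n2 n3 hcyc
  -- at `x = b`
  have e2 := rel_apply h b
  rw [hinv, c3_apply_snd hac.symm hab.symm] at e2
  -- `y' (y (y' b)) = a = y' (y' b)`, so `y (y' b) = y' b`
  have e3 : c3 a b c (y' b) = y' b := by
    apply y'.injective
    rw [e2, hcyc]
  refine ⟨y' b, ?_, ?_, ?_, hform⟩
  · exact n2.symm
  · exact n3.symm
  · intro hcc
    rw [hcc, c3_apply_trd] at e3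
    exact hac e3

/-- `y'` fixes one of `a, b, c`. -/
theorem rel_fix_some {a b c : α} (hab : a ≠ b) (hac : a ≠ c) (hbc : b ≠ c) {y' : Perm α}
    (h3 : y'.IsThreeCycle) (h : (c3 a b c * y') * (c3 a b c * y') = 1)
    (h1 : c3 a b c * y' ≠ 1) : y' a = a ∨ y' b = b ∨ y' c = c := by
  by_contra hcon
  push Not at hcon
  obtain ⟨ha, hb, hc⟩ := hcon
  have hsupp : y'.support = {a, b, c} := by
    symm
    apply Finset.eq_of_subset_of_card_le
    · intro x hx
      simp only [Finset.mem_insert, Finset.mem_singleton] at hx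
      rcases hx with rfl | rfl | rfl
      · exact Perm.mem_support.mpr ha
      · exact Perm.mem_support.mpr hb
      · exact Perm.mem_support.mpr hc
    · rw [h3.card_support]
      rw [Finset.card_insert_of_notMem, Finset.card_insert_of_notMem, Finset.card_singleton]
      · simpa using hbc
      · simp [hab, hac]
  obtain ⟨hform, n1, n2, n3, hcyc⟩ := eq_c3 h3 ha
  have hm1 : y' a ∈ y'.support := Perm.apply_mem_support.mpr (Perm.mem_support.mpr ha)
  have hm2 : y' (y' a) ∈ y'.support := Perm.apply_mem_support.mpr hm1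
  rw [hsupp] at hm1 hm2
  simp only [Finset.mem_insert, Finset.mem_singleton] at hm1 hm2
  rcases hm1 with e | e | e
  · exact n1 e.symm
  · -- `y' a = b`, so `y' b = c` and `y' = y`
    rw [e] at hform n1 n2 n3 hcyc hm2
    rcases hm2 with e' | e' | e'
    · exact n2 e'.symm
    · exact n3 e'.symm
    · rw [e'] at hform
      have e1 := rel_apply h a
      rw [hform, c3_apply_fst hab hac, c3_apply_snd hac hbc, c3_apply_trd,
        c3_inv hab hac hbc, c3_apply_trd] at e1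
      exact hac e1
  · -- `y' a = c`, so `y' c = b` and `y' = y⁻¹`
    rw [e] at hform n1 n2 n3 hcyc hm2
    rcases hm2 with e' | e' | e'
    · exact n2 e'.symm
    · rw [e'] at hform
      apply h1
      rw [hform, c3_rot hac hab hbc.symm, ← c3_inv hab hac hbc, mul_inv_cancel]
    · exact n3 e'.symm

end c3

section pin
variable {α : Type*} [DecidableEq α] [Fintype α]

/-- The product of two generators is the double transposition `(o₁ z)(o₂ w)`. -/
theorem c3_mul_c3 {o₁ o₂ z w : α} (ho : o₁ ≠ o₂) (hz1 : z ≠ o₁) (hz2 : z ≠ o₂)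
    (hw1 : w ≠ o₁) (hw2 : w ≠ o₂) (hzw : z ≠ w) :
    c3 o₁ o₂ z * c3 o₁ o₂ w = swap o₁ z * swap o₂ w := by
  ext x
  rw [Perm.mul_apply, Perm.mul_apply]
  by_cases h1 : x = o₁
  · subst h1
    rw [c3_apply_fst ho hw1.symm, c3_apply_snd hz1.symm hz2.symm,
      swap_apply_of_ne_of_ne ho hw1.symm, swap_apply_left]
  by_cases h2 : x = o₂
  · subst h2
    rw [c3_apply_snd hw1.symm hw2.symm, c3_apply_of_ne hw1 hw2 hzw.symm, swap_apply_left,
      swap_apply_of_ne_of_ne hw1 hzw.symm]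
  by_cases h3 : x = w
  · subst h3
    rw [c3_apply_trd, c3_apply_fst ho hz1.symm, swap_apply_right,
      swap_apply_of_ne_of_ne ho.symm hz2.symm]
  by_cases h4 : x = z
  · subst h4
    rw [c3_apply_of_ne hz1 hz2 hzw, c3_apply_trd, swap_apply_of_ne_of_ne hz2 hzw,
      swap_apply_right]
  rw [c3_apply_of_ne h1 h2 h3, c3_apply_of_ne h1 h2 h4, swap_apply_of_ne_of_ne h2 h3,
    swap_apply_of_ne_of_ne h1 h4]

theorem c3_mul_c3_sq {o₁ o₂ z w : α} (ho : o₁ ≠ o₂) (hz1 : z ≠ o₁) (hz2 : z ≠ o₂)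
    (hw1 : w ≠ o₁) (hw2 : w ≠ o₂) (hzw : z ≠ w) :
    (c3 o₁ o₂ z * c3 o₁ o₂ w) * (c3 o₁ o₂ z * c3 o₁ o₂ w) = 1 := by
  rw [c3_mul_c3 ho hz1 hz2 hw1 hw2 hzw]
  have hd : Disjoint (swap o₁ z) (swap o₂ w) := by
    rw [Perm.disjoint_iff_disjoint_support, support_swap hz1.symm, support_swap hw2.symm]
    simp only [Finset.disjoint_insert_left, Finset.mem_insert, Finset.mem_singleton, not_or,
      Finset.disjoint_singleton_left]
    exact ⟨⟨ho, hw1.symm⟩, hz2, hzw⟩
  rw [hd.commute.symm.mul_mul_mul_comm, swap_mul_self, swap_mul_self, one_mul]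

theorem c3_mul_c3_ne_one {o₁ o₂ z w : α} (ho : o₁ ≠ o₂) (hz1 : z ≠ o₁) (hz2 : z ≠ o₂)
    (hw1 : w ≠ o₁) (hw2 : w ≠ o₂) (hzw : z ≠ w) :
    c3 o₁ o₂ z * c3 o₁ o₂ w ≠ 1 := by
  intro h
  have := congrArg (fun f : Perm α => f o₁) h
  simp only [Perm.mul_apply, Perm.one_apply] at this
  rw [c3_apply_fst ho hw1.symm, c3_apply_snd hz1.symm hz2.symm] at this
  exact hz1 this

/-- Normalising a related pair of three-cycles. -/
theorem exists_rot {y y' : Perm α} (hy : y.IsThreeCycle) (h3 : y'.IsThreeCycle)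
    (h : (y * y') * (y * y') = 1) (h1 : y * y' ≠ 1) :
    ∃ a b c d, a ≠ b ∧ a ≠ c ∧ b ≠ c ∧ d ≠ a ∧ d ≠ b ∧ d ≠ c ∧ y = c3 a b c ∧ y' = c3 a b d := by
  have hne : y ≠ 1 := by
    intro h'
    rw [h'] at hy
    exact Perm.IsThreeCycle.ne_one hy rfl
  obtain ⟨x, hx⟩ : ∃ x, y x ≠ x := by
    by_contra hcon
    push Not at hcon
    exact hne (Perm.ext hcon)
  obtain ⟨hform, n1, n2, n3, -⟩ := eq_c3 hy hx
  set p := x
  set q := y x
  set r := y (y x)
  rw [hform] at h h1
  rcases rel_fix_some n1 n2 n3 h3 h h1 with hf | hf | hf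
  · -- fixes `p`: use `(q r p)`
    have e : c3 p q r = c3 q r p := c3_rot n1 n2 n3
    rw [e] at h
    obtain ⟨d, d1, d2, d3, hd⟩ := rel_fix_trd n3 n1.symm n2.symm h3 h hf
    exact ⟨q, r, p, d, n3, n1.symm, n2.symm, d1, d2, d3, hform.trans e, hd⟩
  · -- fixes `q`: use `(r p q)`
    have e : c3 p q r = c3 r p q := (c3_rot n1 n2 n3).trans (c3_rot n3 n1.symm n2.symm)
    rw [e] at h
    obtain ⟨d, d1, d2, d3, hd⟩ := rel_fix_trd n2.symm n3.symm n1 h3 h hf
    exact ⟨r, p, q, d, n2.symm, n3.symm, n1, d1, d2, d3, hform.trans e, hd⟩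
  · obtain ⟨d, d1, d2, d3, hd⟩ := rel_fix_trd n1 n2 n3 h3 h hf
    exact ⟨p, q, r, d, n1, n2, n3, d1, d2, d3, hform, hd⟩

/-- Pinning: a family of three-cycles satisfying the relations of the generators `(o₁ o₂ z)` is
simultaneously conjugate to that family. -/
theorem exists_perm_of_rel {o₁ o₂ z₁ z₂ : α} (ho : o₁ ≠ o₂)
    (hz1 : z₁ ≠ o₁ ∧ z₁ ≠ o₂) (hz2 : z₂ ≠ o₁ ∧ z₂ ≠ o₂) (hz12 : z₁ ≠ z₂)
    (Y : α → Perm α)
    (h3 : ∀ z, z ≠ o₁ → z ≠ o₂ → (Y z).IsThreeCycle)
    (hrel : ∀ z w, z ≠ o₁ → z ≠ o₂ → w ≠ o₁ → w ≠ o₂ → z ≠ w →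
      (Y z * Y w) * (Y z * Y w) = 1 ∧ Y z * Y w ≠ 1) :
    ∃ g : Perm α, ∀ z, z ≠ o₁ → z ≠ o₂ → Y z = g * c3 o₁ o₂ z * g⁻¹ := by
  obtain ⟨a, b, c, d, hab, hac, hbc, hda, hdb, hdc, e1, e2⟩ :=
    exists_rot (h3 z₁ hz1.1 hz1.2) (h3 z₂ hz2.1 hz2.2)
      (hrel z₁ z₂ hz1.1 hz1.2 hz2.1 hz2.2 hz12).1 (hrel z₁ z₂ hz1.1 hz1.2 hz2.1 hz2.2 hz12).2
  have key : ∀ z, z ≠ o₁ → z ≠ o₂ → ∃ e, e ≠ a ∧ e ≠ b ∧ Y z = c3 a b e := by
    intro z h1 h2
    by_cases hzz1 : z = z₁
    · subst hzz1; exact ⟨c, hac.symm, hbc.symm, e1⟩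
    by_cases hzz2 : z = z₂
    · subst hzz2; exact ⟨d, hda, hdb, e2⟩
    have r1 := hrel z₁ z hz1.1 hz1.2 h1 h2 (Ne.symm hzz1)
    have r2 := hrel z₂ z hz2.1 hz2.2 h1 h2 (Ne.symm hzz2)
    rw [e1] at r1
    rw [e2] at r2
    have t := h3 z h1 h2
    rcases rel_fix_some hab hac hbc t r1.1 r1.2 with hf | hf | hf
    · exfalso
      have r1' := r1.1
      rw [c3_rot hab hac hbc] at r1'
      obtain ⟨u, u1, u2, u3, hu⟩ := rel_fix_trd hbc hab.symm hac.symm t r1' hf
      have r2' := r2.1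
      rw [c3_rot hab hda.symm hdb.symm] at r2'
      obtain ⟨v, v1, v2, v3, hv⟩ := rel_fix_trd hdb.symm hab.symm hda t r2' hf
      have := DFunLike.congr_fun (hu.symm.trans hv) b
      rw [c3_apply_fst hbc u1.symm, c3_apply_fst hdb.symm v1.symm] at this
      exact hdc this.symm
    · exfalso
      have r1' := r1.1
      rw [(c3_rot hab hac hbc).trans (c3_rot hbc hab.symm hac.symm)] at r1'
      obtain ⟨u, u1, u2, u3, hu⟩ := rel_fix_trd hac.symm hbc.symm hab t r1' hf
      have r2' := r2.1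
      rw [(c3_rot hab hda.symm hdb.symm).trans (c3_rot hdb.symm hab.symm hda)] at r2'
      obtain ⟨v, v1, v2, v3, hv⟩ := rel_fix_trd hda hdb hab t r2' hf
      have h1' := DFunLike.congr_fun (hu.symm.trans hv) a
      rw [c3_apply_snd u1.symm u2.symm, c3_apply_snd v1.symm v2.symm] at h1'
      subst h1'
      have h2' := DFunLike.congr_fun (hu.symm.trans hv) u
      rw [c3_apply_trd, c3_apply_trd] at h2'
      exact hdc h2'.symm
    · obtain ⟨e, ea, eb, -, he⟩ := rel_fix_trd hab hac hbc t r1.1 hf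
      exact ⟨e, ea, eb, he⟩
  have key2 : ∀ z, z ≠ o₁ → z ≠ o₂ → Y z b ≠ a ∧ Y z b ≠ b ∧ Y z = c3 a b (Y z b) := by
    intro z h1 h2
    obtain ⟨e, ea, eb, he⟩ := key z h1 h2
    have : Y z b = e := by rw [he, c3_apply_snd ea.symm eb.symm]
    rw [this]; exact ⟨ea, eb, he⟩
  have hinjY : ∀ z w, z ≠ o₁ → z ≠ o₂ → w ≠ o₁ → w ≠ o₂ → Y z b = Y w b → z = w := by
    intro z w hz1' hz2' hw1 hw2 hzw
    by_contra hne
    have r := hrel z w hz1' hz2' hw1 hw2 hne
    have e : Y z = Y w := by rw [(key2 z hz1' hz2').2.2, (key2 w hw1 hw2).2.2, hzw]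
    rw [← e] at r
    have t := h3 z hz1' hz2'
    have h4 : Y z ^ 4 = 1 := by
      rw [← r.1, pow_succ, pow_succ, pow_succ, pow_one, mul_assoc (Y z * Y z)]
    have := orderOf_dvd_of_pow_eq_one h4
    rw [t.orderOf] at this
    omega
  let π : α → α := fun x => if x = o₁ then a else if x = o₂ then b else Y x b
  have π1 : π o₁ = a := by simp only [π, if_pos]
  have π2 : π o₂ = b := by simp only [π, if_neg ho.symm, if_pos]
  have π3 : ∀ z, z ≠ o₁ → z ≠ o₂ → π z = Y z b := by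
    intro z h1 h2
    simp only [π, if_neg h1, if_neg h2]
  have hπ : Function.Injective π := by
    intro x y hxy
    by_cases hx1 : x = o₁
    · by_cases hy1 : y = o₁
      · rw [hx1, hy1]
      · by_cases hy2 : y = o₂
        · rw [hx1, hy2, π1, π2] at hxy; exact absurd hxy hab
        · rw [hx1, π1, π3 y hy1 hy2] at hxy; exact absurd hxy.symm (key2 y hy1 hy2).1
    · by_cases hx2 : x = o₂
      · by_cases hy1 : y = o₁
        · rw [hx2, hy1, π1, π2] at hxy; exact absurd hxy.symm hab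
        · by_cases hy2 : y = o₂
          · rw [hx2, hy2]
          · rw [hx2, π2, π3 y hy1 hy2] at hxy; exact absurd hxy.symm (key2 y hy1 hy2).2.1
      · by_cases hy1 : y = o₁
        · rw [hy1, π1, π3 x hx1 hx2] at hxy; exact absurd hxy (key2 x hx1 hx2).1
        · by_cases hy2 : y = o₂
          · rw [hy2, π2, π3 x hx1 hx2] at hxy; exact absurd hxy (key2 x hx1 hx2).2.1
          · rw [π3 x hx1 hx2, π3 y hy1 hy2] at hxy
            exact hinjY x y hx1 hx2 hy1 hy2 hxy
  refine ⟨Equiv.ofBijective π (Finite.injective_iff_bijective.mp hπ), ?_⟩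
  intro z h1 h2
  rw [conj_c3, Equiv.ofBijective_apply, Equiv.ofBijective_apply, Equiv.ofBijective_apply,
    π1, π2, π3 z h1 h2]
  exact (key2 z h1 h2).2.2

end pin

section gen
variable {α : Type*} [DecidableEq α] [Fintype α]

/-- The generators `(o₁ o₂ z)`. -/
def gens (o₁ o₂ : α) : Set (Perm α) := {σ | ∃ z, z ≠ o₁ ∧ z ≠ o₂ ∧ σ = c3 o₁ o₂ z}

theorem conj_mem_of_mem {K : Subgroup (Perm α)} {g : Perm α} (hg : g ∈ K) {a b c : α}
    (h : c3 a b c ∈ K) : c3 (g a) (g b) (g c) ∈ K := by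
  rw [← conj_c3]
  exact K.mul_mem (K.mul_mem hg h) (K.inv_mem hg)

theorem exists_moved {σ : Perm α} (h : σ.IsThreeCycle) : ∃ x, σ x ≠ x := by
  by_contra hcon
  push Not at hcon
  have : σ = 1 := Perm.ext hcon
  rw [this] at h
  exact Perm.IsThreeCycle.ne_one h rfl

theorem c3_mem_closure_gens {o₁ o₂ : α} (ho : o₁ ≠ o₂) {p q r : α} (hpq : p ≠ q) (hpr : p ≠ r)
    (hqr : q ≠ r) : c3 p q r ∈ Subgroup.closure (gens o₁ o₂) := by
  have x_mem : ∀ z, z ≠ o₁ → z ≠ o₂ → c3 o₁ o₂ z ∈ Subgroup.closure (gens o₁ o₂) :=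
    fun z h1 h2 => Subgroup.subset_closure ⟨z, h1, h2, rfl⟩
  have L1 : ∀ q r, q ≠ o₁ → r ≠ o₁ → q ≠ r → c3 o₁ q r ∈ Subgroup.closure (gens o₁ o₂) := by
    intro q r hq hr hqr
    by_cases hq2 : q = o₂
    · rw [hq2]; exact x_mem r hr (hq2 ▸ hqr.symm)
    by_cases hr2 : r = o₂
    · have : c3 o₁ q r = (c3 o₁ r q)⁻¹ := by
        rw [c3_inv hr.symm hq.symm hqr.symm]
        exact c3_rot hq.symm hr.symm hqr
      rw [this, hr2]
      exact Subgroup.inv_mem _ (x_mem q hq hq2)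
    have hg : (c3 o₁ o₂ r)⁻¹ ∈ Subgroup.closure (gens o₁ o₂) :=
      Subgroup.inv_mem _ (x_mem r hr hr2)
    have := conj_mem_of_mem hg (x_mem q hq hq2)
    rw [c3_inv ho hr.symm (Ne.symm hr2)] at this
    rw [c3_apply_trd, c3_apply_snd hr ho.symm, c3_apply_of_ne hqr hq2 hq] at this
    rw [c3_rot hr hqr.symm hq.symm] at this
    exact this
  have L2 : ∀ q r, q ≠ o₁ → q ≠ o₂ → r ≠ o₁ → r ≠ o₂ → q ≠ r →
      c3 o₂ q r ∈ Subgroup.closure (gens o₁ o₂) := by
    intro q r hq1 hq2 hr1 hr2 hqr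
    have := conj_mem_of_mem (x_mem q hq1 hq2) (x_mem r hr1 hr2)
    rw [c3_apply_fst ho hq1.symm, c3_apply_snd hq1.symm hq2.symm,
      c3_apply_of_ne hr1 hr2 hqr.symm] at this
    exact this
  have L3 : ∀ p q r, p ≠ o₁ → p ≠ o₂ → q ≠ o₁ → q ≠ o₂ → r ≠ o₁ → r ≠ o₂ → p ≠ q → p ≠ r → q ≠ r →
      c3 p q r ∈ Subgroup.closure (gens o₁ o₂) := by
    intro p q r hp1 hp2 hq1 hq2 hr1 hr2 hpq hpr hqr
    have hg : (c3 o₁ o₂ p)⁻¹ ∈ Subgroup.closure (gens o₁ o₂) :=
      Subgroup.inv_mem _ (x_mem p hp1 hp2)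
    have := conj_mem_of_mem hg (L1 q r hq1 hr1 hqr)
    rw [c3_inv ho hp1.symm hp2.symm] at this
    rw [c3_apply_trd, c3_apply_of_ne hpq.symm hq2 hq1, c3_apply_of_ne hpr.symm hr2 hr1] at this
    exact this
  by_cases hp1 : p = o₁
  · rw [hp1]; exact L1 q r (hp1 ▸ hpq.symm) (hp1 ▸ hpr.symm) hqr
  by_cases hq1 : q = o₁
  · rw [c3_rot hpq hpr hqr, hq1]; exact L1 r p (hq1 ▸ hqr.symm) hp1 hpr.symm
  by_cases hr1 : r = o₁
  · rw [c3_rot hpq hpr hqr, c3_rot hqr hpq.symm hpr.symm, hr1]; exact L1 p q hp1 hq1 hpq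
  by_cases hp2 : p = o₂
  · rw [hp2]; exact L2 q r hq1 (hp2 ▸ hpq.symm) hr1 (hp2 ▸ hpr.symm) hqr
  by_cases hq2 : q = o₂
  · rw [c3_rot hpq hpr hqr, hq2]; exact L2 r p hr1 (hq2 ▸ hqr.symm) hp1 hp2 hpr.symm
  by_cases hr2 : r = o₂
  · rw [c3_rot hpq hpr hqr, c3_rot hqr hpq.symm hpr.symm, hr2]; exact L2 p q hp1 hp2 hq1 hq2 hpq
  exact L3 p q r hp1 hp2 hq1 hq2 hr1 hr2 hpq hpr hqr

theorem closure_gens {o₁ o₂ : α} (ho : o₁ ≠ o₂) :
    Subgroup.closure (gens o₁ o₂) = alternatingGroup α := by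
  apply le_antisymm
  · rw [Subgroup.closure_le]
    rintro σ ⟨z, h1, h2, rfl⟩
    exact (isThreeCycle_c3 ho h1.symm h2.symm).mem_alternatingGroup
  · rw [← closure_three_cycles_eq_alternating, Subgroup.closure_le]
    intro σ hσ
    have hσ' : σ.IsThreeCycle := hσ
    obtain ⟨x, hx⟩ := exists_moved hσ'
    obtain ⟨hform, n1, n2, n3, -⟩ := eq_c3 hσ' hx
    rw [hform]
    exact c3_mem_closure_gens ho n1 n2 n3

end gen

section cent
variable {α : Type*} [DecidableEq α] [Fintype α]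

open Subgroup Nat

theorem card_centralizer_le (x : alternatingGroup α) :
    Nat.card (centralizer {x}) ≤ Nat.card (centralizer {(x : Perm α)}) := by
  apply Nat.card_le_card_of_injective
    (fun z : centralizer {x} => (⟨((z : alternatingGroup α) : Perm α), by
      have := mem_centralizer_singleton_iff.mp z.2
      rw [mem_centralizer_singleton_iff]
      exact congrArg Subtype.val this⟩ : centralizer {(x : Perm α)}))
  intro z w h
  have := congrArg (fun t : centralizer {(x : Perm α)} => (t : Perm α)) h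
  exact Subtype.ext (Subtype.ext this)

theorem card_centralizer_le_two_mul [Nontrivial α] (x : alternatingGroup α) :
    Nat.card (centralizer {(x : Perm α)}) ≤ 2 * Nat.card (centralizer {x}) := by
  have h1 := Subgroup.card_mul_index ((alternatingGroup α).subgroupOf (centralizer {(x : Perm α)}))
  have h2 : ((alternatingGroup α).subgroupOf (centralizer {(x : Perm α)})).index ∣ 2 := by
    have := Subgroup.relIndex_dvd_index_of_normal (alternatingGroup α) (centralizer {(x : Perm α)})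
    rwa [alternatingGroup.index_eq_two] at this
  have h3 : Nat.card ((alternatingGroup α).subgroupOf (centralizer {(x : Perm α)})) ≤
      Nat.card (centralizer {x}) := by
    apply Nat.card_le_card_of_injective
      (fun z : (alternatingGroup α).subgroupOf (centralizer {(x : Perm α)}) =>
        (⟨⟨((z : centralizer {(x : Perm α)}) : Perm α), Subgroup.mem_subgroupOf.mp z.2⟩, by
          rw [mem_centralizer_singleton_iff]
          apply Subtype.ext
          exact mem_centralizer_singleton_iff.mp (z : centralizer {(x : Perm α)}).2⟩ :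
          centralizer {x}))
    intro z w h
    apply Subtype.ext; apply Subtype.ext
    exact congrArg (fun t : centralizer {x} => ((t : alternatingGroup α) : Perm α)) h
  have h4 : ((alternatingGroup α).subgroupOf (centralizer {(x : Perm α)})).index ≤ 2 :=
    Nat.le_of_dvd (by norm_num) h2
  calc Nat.card (centralizer {(x : Perm α)})
      = Nat.card ((alternatingGroup α).subgroupOf (centralizer {(x : Perm α)})) *
          ((alternatingGroup α).subgroupOf (centralizer {(x : Perm α)})).index := h1.symm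
    _ ≤ Nat.card (centralizer {x}) * 2 := Nat.mul_le_mul h3 h4
    _ = 2 * Nat.card (centralizer {x}) := mul_comm _ _

theorem card_centralizer_map (f : MulAut (alternatingGroup α)) (x : alternatingGroup α) :
    Nat.card (centralizer {f x}) = Nat.card (centralizer {x}) := by
  symm
  apply Nat.card_congr
  refine Equiv.subtypeEquiv f.toEquiv ?_
  intro z
  show z ∈ centralizer {x} ↔ f z ∈ centralizer {f x}
  rw [mem_centralizer_singleton_iff, mem_centralizer_singleton_iff, ← map_mul, ← map_mul,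
    f.injective.eq_iff]

theorem card_centralizer_of_replicate (σ : Perm α) (m : ℕ) (hm : m ≠ 0)
    (h : σ.cycleType = Multiset.replicate m 3) :
    Nat.card (centralizer {σ}) = (Fintype.card α - 3 * m)! * 3 ^ m * m ! := by
  rw [nat_card_centralizer, h, Multiset.sum_replicate, Multiset.prod_replicate]
  have : (Multiset.replicate m 3).toFinset = {3} := by
    ext x
    simp [hm]
  rw [this, Finset.prod_singleton, Multiset.count_replicate_self, smul_eq_mul, mul_comm m 3]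

theorem numeric_aux (k : ℕ) : 2 * (3 ^ (k + 3) * (k + 3)!) < 3 * (3 * (k + 2))! := by
  induction k with
  | zero => decide
  | succ k ih =>
    have e1 : (k + 1 + 3)! = (k + 4) * (k + 3)! := by
      rw [show k + 1 + 3 = (k + 3) + 1 from rfl, Nat.factorial_succ]
    have e2 : (3 * (k + 1 + 2))! =
        (3 * k + 9) * ((3 * k + 8) * ((3 * k + 7) * (3 * (k + 2))!)) := by
      rw [show 3 * (k + 1 + 2) = (3 * (k + 2)) + 1 + 1 + 1 by ring, Nat.factorial_succ,
        Nat.factorial_succ, Nat.factorial_succ]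
      ring
    rw [e1, e2, pow_succ]
    have hpos : 0 < (3 * (k + 2))! := Nat.factorial_pos _
    have h1 : 3 * (k + 4) ≤ (3 * k + 9) * ((3 * k + 8) * (3 * k + 7)) := by
      calc 3 * (k + 4) ≤ (3 * k + 9) * (2 * 1) := by omega
        _ ≤ (3 * k + 9) * ((3 * k + 8) * (3 * k + 7)) :=
          Nat.mul_le_mul_left _ (Nat.mul_le_mul (by omega) (by omega))
    calc 2 * (3 ^ (k + 3) * 3 * ((k + 4) * (k + 3)!))
        = (2 * (3 ^ (k + 3) * (k + 3)!)) * (3 * (k + 4)) := by ring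
      _ < (3 * (3 * (k + 2))!) * (3 * (k + 4)) := by
          apply Nat.mul_lt_mul_of_pos_right ih (by omega)
      _ ≤ (3 * (3 * (k + 2))!) * ((3 * k + 9) * ((3 * k + 8) * (3 * k + 7))) :=
          Nat.mul_le_mul_left _ h1
      _ = 3 * ((3 * k + 9) * ((3 * k + 8) * ((3 * k + 7) * (3 * (k + 2))!))) := by ring

theorem numeric_one (m : ℕ) : ¬ ((m + 4)! * 3 ≤ 2 * ((m + 1)! * 3 ^ 2 * 2 !)) := by
  intro h
  rw [Nat.factorial_succ (m + 3), Nat.factorial_succ (m + 2), Nat.factorial_succ (m + 1),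
    show (2 : ℕ)! = 2 from rfl] at h
  have hpos : 0 < (m + 1)! := Nat.factorial_pos _
  have h5 : 24 * (m + 1)! ≤ (m + 3 + 1) * ((m + 2 + 1) * ((m + 1 + 1) * (m + 1)!)) := by
    calc 24 * (m + 1)! = 4 * (3 * (2 * (m + 1)!)) := by ring
      _ ≤ (m + 3 + 1) * ((m + 2 + 1) * ((m + 1 + 1) * (m + 1)!)) :=
        Nat.mul_le_mul (by omega) (Nat.mul_le_mul (by omega) (Nat.mul_le_mul (by omega) le_rfl))
  generalize (m + 3 + 1) * ((m + 2 + 1) * ((m + 1 + 1) * (m + 1)!)) = P at h h5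
  omega

theorem numeric {n k : ℕ} (hn : 7 ≤ n) (hk : 3 * (k + 1) ≤ n)
    (h : (n - 3)! * 3 ≤ 2 * ((n - 3 * (k + 1))! * 3 ^ (k + 1) * (k + 1)!)) : k = 0 := by
  by_contra hk0
  by_cases hk1 : k = 1
  · subst hk1
    obtain ⟨m, rfl⟩ := Nat.exists_eq_add_of_le hn
    rw [show 7 + m - 3 = m + 4 by omega, show 7 + m - 3 * (1 + 1) = m + 1 by omega] at h
    exact numeric_one m h
  · obtain ⟨j, rfl⟩ : ∃ j, k = j + 2 := ⟨k - 2, by omega⟩
    have h1 := numeric_aux j
    have h2 : (3 * (j + 2))! * (n - 3 - 3 * (j + 2))! ∣ (n - 3)! :=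
      Nat.factorial_mul_factorial_dvd_factorial (by omega)
    have h3 := Nat.le_of_dvd (Nat.factorial_pos _) h2
    rw [show n - 3 - 3 * (j + 2) = n - 3 * (j + 2 + 1) by omega] at h3
    have hpos : 0 < (n - 3 * (j + 2 + 1))! := Nat.factorial_pos _
    have : 2 * ((n - 3 * (j + 2 + 1))! * 3 ^ (j + 2 + 1) * (j + 2 + 1)!) <
        (n - 3)! * 3 := by
      calc 2 * ((n - 3 * (j + 2 + 1))! * 3 ^ (j + 2 + 1) * (j + 2 + 1)!)
          = (2 * (3 ^ (j + 3) * (j + 3)!)) * (n - 3 * (j + 2 + 1))! := by ring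
        _ < (3 * (3 * (j + 2))!) * (n - 3 * (j + 2 + 1))! :=
            Nat.mul_lt_mul_of_pos_right h1 hpos
        _ = ((3 * (j + 2))! * (n - 3 * (j + 2 + 1))!) * 3 := by ring
        _ ≤ (n - 3)! * 3 := Nat.mul_le_mul_right _ h3
    omega

end cent

section main
variable {α : Type*} [DecidableEq α] [Fintype α]

open Subgroup
open scoped Nat

theorem isThreeCycle_map [Nontrivial α] (hn : Fintype.card α ≤ 5 ∨ 7 ≤ Fintype.card α)
    (f : MulAut (alternatingGroup α)) (c : alternatingGroup α) (hc : (c : Perm α).IsThreeCycle) :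
    ((f c : alternatingGroup α) : Perm α).IsThreeCycle := by
  have ho : orderOf ((f c : alternatingGroup α) : Perm α) = 3 := by
    rw [Subgroup.orderOf_coe, MulEquiv.orderOf_eq, ← Subgroup.orderOf_coe, hc.orderOf]
  have hp : (orderOf ((f c : alternatingGroup α) : Perm α)).Prime := by
    rw [ho]; exact Nat.prime_three
  obtain ⟨k, hk⟩ := cycleType_prime_order hp
  rw [ho] at hk
  have hsum : 3 * (k + 1) ≤ Fintype.card α := by
    have := Perm.sum_cycleType_le ((f c : alternatingGroup α) : Perm α)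
    rw [hk, Multiset.sum_replicate, smul_eq_mul] at this
    omega
  have hk0 : k = 0 := by
    rcases hn with hn | hn
    · omega
    · apply numeric hn hsum
      have e1 := card_centralizer_of_replicate (c : Perm α) 1 one_ne_zero
        (by rw [Multiset.replicate_one]; exact hc)
      have e2 := card_centralizer_of_replicate ((f c : alternatingGroup α) : Perm α) (k + 1)
        (Nat.succ_ne_zero k) hk
      have i1 := card_centralizer_le_two_mul c
      have i2 := card_centralizer_le (f c)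
      have i3 := card_centralizer_map f c
      rw [e1] at i1
      rw [e2, i3] at i2
      simp only [mul_one, pow_one, Nat.factorial_one] at i1
      calc (Fintype.card α - 3)! * 3 ≤ 2 * Nat.card (centralizer {c}) := i1
        _ ≤ 2 * ((Fintype.card α - 3 * (k + 1))! * 3 ^ (k + 1) * (k + 1)!) :=
          Nat.mul_le_mul_left _ i2
  rw [hk0] at hk
  rw [Multiset.replicate_one] at hk
  exact hk

theorem exists_conj_of_preserves (h4 : 4 ≤ Fintype.card α) (f : MulAut (alternatingGroup α))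
    (hf : ∀ c : alternatingGroup α, (c : Perm α).IsThreeCycle →
      ((f c : alternatingGroup α) : Perm α).IsThreeCycle) :
    ∃ g : Perm α, MulAut.conjNormal g = f := by
  obtain ⟨e⟩ : Nonempty (Fin 4 ↪ α) :=
    Function.Embedding.nonempty_of_card_le (by simpa using h4)
  have ho : e 0 ≠ e 1 := e.injective.ne (by decide)
  have hz1 : e 2 ≠ e 0 ∧ e 2 ≠ e 1 := ⟨e.injective.ne (by decide), e.injective.ne (by decide)⟩
  have hz2 : e 3 ≠ e 0 ∧ e 3 ≠ e 1 := ⟨e.injective.ne (by decide), e.injective.ne (by decide)⟩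
  have hz12 : e 2 ≠ e 3 := e.injective.ne (by decide)
  generalize e 0 = o₁ at *
  generalize e 1 = o₂ at *
  generalize e 2 = z₁ at *
  generalize e 3 = z₂ at *
  have tmem : ∀ z, z ≠ o₁ → z ≠ o₂ → c3 o₁ o₂ z ∈ alternatingGroup α := fun z h1 h2 =>
    (isThreeCycle_c3 ho h1.symm h2.symm).mem_alternatingGroup
  let Y : α → Perm α := fun z =>
    if h : z ≠ o₁ ∧ z ≠ o₂ then ((f ⟨c3 o₁ o₂ z, tmem z h.1 h.2⟩ : alternatingGroup α) : Perm α)
    else 1
  have hY : ∀ z (h1 : z ≠ o₁) (h2 : z ≠ o₂),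
      Y z = ((f ⟨c3 o₁ o₂ z, tmem z h1 h2⟩ : alternatingGroup α) : Perm α) := by
    intro z h1 h2
    simp only [Y, dif_pos (And.intro h1 h2)]
  have h3 : ∀ z, z ≠ o₁ → z ≠ o₂ → (Y z).IsThreeCycle := by
    intro z h1 h2
    rw [hY z h1 h2]
    exact hf _ (isThreeCycle_c3 ho h1.symm h2.symm)
  have hrel : ∀ z w, z ≠ o₁ → z ≠ o₂ → w ≠ o₁ → w ≠ o₂ → z ≠ w →
      (Y z * Y w) * (Y z * Y w) = 1 ∧ Y z * Y w ≠ 1 := by
    intro z w hz1' hz2' hw1 hw2 hzw
    rw [hY z hz1' hz2', hY w hw1 hw2]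
    constructor
    · have e' : ((⟨c3 o₁ o₂ z, tmem z hz1' hz2'⟩ : alternatingGroup α) *
          ⟨c3 o₁ o₂ w, tmem w hw1 hw2⟩) *
          ((⟨c3 o₁ o₂ z, tmem z hz1' hz2'⟩ : alternatingGroup α) *
          ⟨c3 o₁ o₂ w, tmem w hw1 hw2⟩) = 1 :=
        Subtype.ext (c3_mul_c3_sq ho hz1' hz2' hw1 hw2 hzw)
      have := congrArg (fun x : alternatingGroup α => ((f x : alternatingGroup α) : Perm α)) e'
      simpa only [map_mul, map_one, Subgroup.coe_mul, Subgroup.coe_one] using this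
    · intro h
      have h' : f ((⟨c3 o₁ o₂ z, tmem z hz1' hz2'⟩ : alternatingGroup α) *
          ⟨c3 o₁ o₂ w, tmem w hw1 hw2⟩) = 1 := by
        apply Subtype.ext
        rw [map_mul, Subgroup.coe_mul, Subgroup.coe_one]
        exact h
      have h'' := (EmbeddingLike.map_eq_one_iff (f := f)).mp h'
      exact c3_mul_c3_ne_one ho hz1' hz2' hw1 hw2 hzw (congrArg Subtype.val h'')
  obtain ⟨g, hg⟩ := exists_perm_of_rel ho hz1 hz2 hz12 Y h3 hrel
  have main : ∀ x (_ : x ∈ Subgroup.closure (gens o₁ o₂)), ∃ hx' : x ∈ alternatingGroup α,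
      ((f ⟨x, hx'⟩ : alternatingGroup α) : Perm α) = g * x * g⁻¹ := by
    intro x hx
    induction hx using Subgroup.closure_induction with
    | mem x hx =>
      obtain ⟨z, h1, h2, rfl⟩ := hx
      refine ⟨tmem z h1 h2, ?_⟩
      rw [← hg z h1 h2, hY z h1 h2]
    | one =>
      refine ⟨one_mem _, ?_⟩
      have : (⟨1, one_mem _⟩ : alternatingGroup α) = 1 := rfl
      rw [this, map_one, Subgroup.coe_one, mul_one, mul_inv_cancel]
    | mul x y _ _ hx hy =>
      obtain ⟨hx', ex⟩ := hx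
      obtain ⟨hy', ey⟩ := hy
      refine ⟨mul_mem hx' hy', ?_⟩
      have : (⟨x * y, mul_mem hx' hy'⟩ : alternatingGroup α) = ⟨x, hx'⟩ * ⟨y, hy'⟩ := rfl
      rw [this, map_mul, Subgroup.coe_mul, ex, ey]
      group
    | inv x _ hx =>
      obtain ⟨hx', ex⟩ := hx
      refine ⟨inv_mem hx', ?_⟩
      have : (⟨x⁻¹, inv_mem hx'⟩ : alternatingGroup α) = (⟨x, hx'⟩ : alternatingGroup α)⁻¹ := rfl
      rw [this, map_inv, Subgroup.coe_inv, ex]
      group
  refine ⟨g, ?_⟩
  apply MulEquiv.ext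
  intro σ
  apply Subtype.ext
  obtain ⟨h', e'⟩ := main σ.1 (by rw [closure_gens ho]; exact σ.2)
  rw [MulAut.conjNormal_apply]
  exact e'.symm

theorem conjNormal_injective (h4 : 4 ≤ Fintype.card α) :
    Function.Injective (MulAut.conjNormal : Perm α →* MulAut (alternatingGroup α)) := by
  rw [injective_iff_map_eq_one]
  intro g hg
  by_contra hne
  obtain ⟨a, ha⟩ : ∃ a, g a ≠ a := by
    by_contra hcon
    push Not at hcon
    exact hne (Perm.ext hcon)
  have hcard : 1 < (({a, g a} : Finset α)ᶜ).card := by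
    rw [Finset.card_compl]
    have : ({a, g a} : Finset α).card ≤ 2 := Finset.card_le_two
    omega
  obtain ⟨c, hc, d, hd, hcd⟩ := Finset.one_lt_card.mp hcard
  simp only [Finset.mem_compl, Finset.mem_insert, Finset.mem_singleton, not_or] at hc hd
  have hmem : c3 a c d ∈ alternatingGroup α :=
    (isThreeCycle_c3 (Ne.symm hc.1) (Ne.symm hd.1) hcd).mem_alternatingGroup
  have h1 := congrArg (fun t : MulAut (alternatingGroup α) =>
    ((t ⟨c3 a c d, hmem⟩ : alternatingGroup α) : Perm α)) hg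
  simp only [MulAut.conjNormal_apply, MulAut.one_apply] at h1
  rw [conj_c3] at h1
  have h2 := DFunLike.congr_fun h1 (g a)
  have n1 : g a ≠ g c := fun h => hc.1 (g.injective h).symm
  have n2 : g a ≠ g d := fun h => hd.1 (g.injective h).symm
  rw [c3_apply_fst n1 n2, c3_apply_of_ne ha (Ne.symm hc.2) (Ne.symm hd.2)] at h2
  exact n1 h2.symm

theorem conjNormal_bijective (h4 : 4 ≤ Fintype.card α) (h6 : Fintype.card α ≠ 6) :
    Function.Bijective (MulAut.conjNormal : Perm α →* MulAut (alternatingGroup α)) := by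
  have : Nontrivial α := Fintype.one_lt_card_iff_nontrivial.mp (by omega)
  constructor
  · exact conjNormal_injective h4
  · intro f
    exact exists_conj_of_preserves h4 f (fun c hc => isThreeCycle_map (by omega) f c hc)

end main

end Cfsg.Agent.Lib.Helper9.AltAut
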