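import Cfsg.Agent.Lib.Helper9.PlusPlane
import Cfsg.Agent.Lib.Helper15.QuadOrth

set_option autoImplicit false
set_option linter.unusedSectionVars false

/-!
# Orthogonal decompositions over the field with three elements whose members carry a frame

If every member of a family `D` of pairwise orthogonal subspaces carries an orthogonal frame of
vectors of one norm `c`, and the vectors of norm `c` in the members are exactly the frame vectors
and their negatives, then the stabiliser of `D` in `Ω` lies properly inside the stabiliser of the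
set of frame vectors (up to sign), which is a proper subgroup of `Ω`.
-/

namespace Cfsg.Agent.Lib.Helper9.FrameF3

open Module QuadraticMap Matrix Cfsg.Agent.Lib.Helper25.CD Cfsg.Agent.Lib.Helper25.Spin
open Cfsg.Agent.Lib.Helper9.PlusPlane

section field3
variable {F : Type*} [Field F] [Fintype F]

theorem three_eq_zero (hq : Fintype.card F = 3) : (3 : F) = 0 := by
  have := Nat.cast_card_eq_zero F
  rw [hq] at this
  exact_mod_cast this

theorem two_ne_zero' (hq : Fintype.card F = 3) : (2 : F) ≠ 0 := by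
  intro h
  have h3 := three_eq_zero hq
  have : (1 : F) = 0 := by linear_combination h3 - h
  exact one_ne_zero this

theorem cases3 (hq : Fintype.card F = 3) (y : F) : y = 0 ∨ y = 1 ∨ y = -1 := by
  by_cases hy : y = 0
  · exact Or.inl hy
  · right
    have h := mul_self_eq_one_of_card_le (le_of_eq hq) hy
    have : (y - 1) * (y + 1) = 0 := by linear_combination h
    rcases mul_eq_zero.1 this with h1 | h1
    · exact Or.inl (sub_eq_zero.1 h1)
    · exact Or.inr (eq_neg_of_add_eq_zero_left h1)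

end field3

section refl
variable {F : Type*} [Field F] {V : Type*} [AddCommGroup V] [Module F V] (Q : QuadraticForm F V)

theorem q_sub_of_perp {u u' : V} (h : polar Q u u' = 0) : Q (u - u') = Q u + Q u' := by
  rw [sub_eq_add_neg, QuadraticMap.map_add (⇑Q), QuadraticMap.map_neg, polar_neg_right, h]
  ring

theorem refl_swap_left {u u' : V} {c : F} (hu : Q u = c) (hu' : Q u' = c) (h : polar Q u u' = 0)
    (hc : (2 : F) * c ≠ 0) : reflE Q (u - u') u = u' := by
  apply reflE_swap Q (hu.trans hu'.symm)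
  rw [q_sub_of_perp Q h, hu, hu', ← two_mul]
  exact hc

theorem refl_swap_right {u u' : V} {c : F} (hu : Q u = c) (hu' : Q u' = c) (h : polar Q u u' = 0)
    (hc : (2 : F) * c ≠ 0) : reflE Q (u - u') u' = u := by
  have h1 := refl_swap_left Q hu hu' h hc
  have h2 := reflE_reflE Q (u - u') u
  rw [h1] at h2
  exact h2

theorem refl_fix {u u' x : V} (h1 : polar Q u x = 0) (h2 : polar Q u' x = 0) :
    reflE Q (u - u') x = x := by
  apply reflE_of_perp
  rw [polar_sub_left, h1, h2, sub_zero]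

end refl

section four
variable {F : Type*} [Field F] {V : Type*} [AddCommGroup V] [Module F V] (Q : QuadraticForm F V)

theorem q_four {p q r s : V} {c : F} (hp : Q p = c) (hq : Q q = c) (hr : Q r = c) (hs : Q s = c)
    (hpq : polar Q p q = 0) (hpr : polar Q p r = 0) (hps : polar Q p s = 0)
    (hqr : polar Q q r = 0) (hqs : polar Q q s = 0) (hrs : polar Q r s = 0) :
    Q (p + q + r + s) = 4 * c := by
  rw [QuadraticMap.map_add (⇑Q), QuadraticMap.map_add (⇑Q), QuadraticMap.map_add (⇑Q),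
    polar_add_left, polar_add_left, polar_add_left, hp, hq, hr, hs, hpq, hpr, hps, hqr, hqs, hrs]
  ring

theorem polar_four {p q r s x : V} (hq : polar Q q x = 0) (hr : polar Q r x = 0)
    (hs : polar Q s x = 0) : polar Q (p + q + r + s) x = polar Q p x := by
  rw [polar_add_left, polar_add_left, polar_add_left, hq, hr, hs]
  ring

end four

section main
variable {ι : Type} [Fintype ι] [DecidableEq ι] {F : Type*} [Field F] [Fintype F]
  (Q : QuadraticForm F (ι → F))

/-- the set of frame vectors up to sign -/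
def frameSet {J : Type*} (fr : J → ι → F) : Set (ι → F) := {v | ∃ j, v = fr j ∨ v = -fr j}

theorem reflM_mulVec (c x : ι → F) :
    (((reflM Q c : ↥(Cfsg.isometryGroup F ⇑Q)) : GL ι F) : Matrix ι ι F) *ᵥ x = reflE Q c x := by
  rw [← toOG_apply, toOG_reflM]

theorem mem_stabilizing_of_maps {g : GL ι F} {S : Set (ι → F)}
    (h1 : ∀ v ∈ S, (g : Matrix ι ι F) *ᵥ v ∈ S)
    (h2 : ∀ v ∈ S, ((g⁻¹ : GL ι F) : Matrix ι ι F) *ᵥ v ∈ S) :
    g ∈ Cfsg.stabilizing (Cfsg.glToMat ι F) S := by
  intro v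
  show v ∈ S ↔ (g : Matrix ι ι F) *ᵥ v ∈ S
  refine ⟨h1 v, fun h => ?_⟩
  have := h2 _ h
  rwa [Matrix.mulVec_mulVec, ← Units.val_mul, inv_mul_cancel, Units.val_one, Matrix.one_mulVec]
    at this

theorem mem_stabilizing_iff {g : GL ι F} {S : Set (ι → F)} :
    g ∈ Cfsg.stabilizing (Cfsg.glToMat ι F) S ↔ ∀ v, v ∈ S ↔ (g : Matrix ι ι F) *ᵥ v ∈ S :=
  Iff.rfl

variable {J : Type*} {fr : J → ι → F} {c : F}

theorem refl_mem_stab (hq : ∀ j, Q (fr j) = c) (horth : ∀ j j', j ≠ j' → polar Q (fr j) (fr j') = 0)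
    (hc : (2 : F) * c ≠ 0) {p q : J} (hpq : p ≠ q) :
    ((reflM Q (fr p - fr q) : ↥(Cfsg.isometryGroup F ⇑Q)) : GL ι F) ∈
      Cfsg.stabilizing (Cfsg.glToMat ι F) (frameSet fr) := by
  classical
  have hmaps : ∀ v ∈ frameSet fr, reflE Q (fr p - fr q) v ∈ frameSet fr := by
    have key : ∀ j, reflE Q (fr p - fr q) (fr j) ∈ frameSet fr := by
      intro j
      by_cases hjp : j = p
      · rw [hjp, refl_swap_left Q (hq p) (hq q) (horth p q hpq) hc]
        exact ⟨q, Or.inl rfl⟩
      · by_cases hjq : j = q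
        · rw [hjq, refl_swap_right Q (hq p) (hq q) (horth p q hpq) hc]
          exact ⟨p, Or.inl rfl⟩
        · rw [refl_fix Q (horth p j (Ne.symm hjp)) (horth q j (Ne.symm hjq))]
          exact ⟨j, Or.inl rfl⟩
    rintro v ⟨j, rfl | rfl⟩
    · exact key j
    · rw [map_neg]
      obtain ⟨j', h | h⟩ := key j
      · exact ⟨j', Or.inr (by rw [h])⟩
      · exact ⟨j', Or.inl (by rw [h, neg_neg])⟩
  intro v
  show v ∈ frameSet fr ↔ (((reflM Q (fr p - fr q) : ↥(Cfsg.isometryGroup F ⇑Q)) : GL ι F) :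
    Matrix ι ι F) *ᵥ v ∈ frameSet fr
  rw [reflM_mulVec]
  refine ⟨hmaps v, fun h => ?_⟩
  have := hmaps _ h
  rwa [reflE_reflE] at this

/-- The stabiliser in `Ω` of a framed orthogonal decomposition over `𝔽₃` is not maximal. -/
theorem main (hQ : (polarBilin Q).Nondegenerate) (hF : Fintype.card F = 3)
    (hι : 5 ≤ Fintype.card ι) {t : ℕ} (D : Fin t → Submodule F (ι → F))
    (horthD : ∀ i j, i ≠ j → Cfsg.Geo.AreOrthogonalFor (polar ⇑Q) (D i) (D j))
    (mem : J → Fin t) (hc0 : c ≠ 0) (hmem : ∀ j, fr j ∈ D (mem j)) (hq : ∀ j, Q (fr j) = c)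
    (horth : ∀ j j', j ≠ j' → polar Q (fr j) (fr j') = 0)
    (henum : ∀ i v, v ∈ D i → Q v = c → ∃ j, mem j = i ∧ (v = fr j ∨ v = -fr j))
    (a b a' b' : J) (hab : a ≠ b) (haa' : a ≠ a') (hab' : a ≠ b') (hba' : b ≠ a') (hbb' : b ≠ b')
    (ha'b' : a' ≠ b') (hmab : mem a = mem b) (hmaa' : mem a' ≠ mem a) :
    ∃ K : Subgroup (GL ι F), Cfsg.Geo.decompositionStabilizer D ⊓ Cfsg.Geo.omegaGL ⇑Q < K ∧
      K < Cfsg.Geo.omegaGL ⇑Q := by
  have h3 := three_eq_zero hF
  have h2 := two_ne_zero' hF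
  have hc : (2 : F) * c ≠ 0 := mul_ne_zero h2 hc0
  -- members are determined by a nonsingular vector
  have hidx : ∀ i j v, v ∈ D i → v ∈ D j → Q v ≠ 0 → i = j := by
    intro i j v hi hj hv
    by_contra hij
    have := horthD i j hij v hi v hj
    rw [polar_self] at this
    apply hv
    have h4 : (2 : F) * Q v = 0 := by simpa using this
    rcases mul_eq_zero.1 h4 with h | h
    · exact absurd h h2
    · exact h
  -- the stabiliser of the decomposition maps the frame set into itself
  have hmaps : ∀ g ∈ Cfsg.Geo.decompositionStabilizer D ⊓ Cfsg.Geo.omegaGL ⇑Q,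
      ∀ v ∈ frameSet fr, (g : Matrix ι ι F) *ᵥ v ∈ frameSet fr := by
    rintro g ⟨⟨σ, hσ⟩, hgO⟩ v ⟨j, hv⟩
    have hvD : v ∈ D (mem j) := by
      rcases hv with rfl | rfl
      · exact hmem j
      · exact (D (mem j)).neg_mem (hmem j)
    have hvq : Q v = c := by
      rcases hv with rfl | rfl
      · exact hq j
      · rw [QuadraticMap.map_neg, hq j]
    have hgv : (g : Matrix ι ι F) *ᵥ v ∈ D (σ (mem j)) := by
      rw [← hσ (mem j)]
      exact ⟨v, hvD, by rw [Matrix.toLin'_apply]⟩
    obtain ⟨j', -, hj'⟩ := henum _ _ hgv (by rw [q_of_mem_omegaGL Q hgO, hvq])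
    exact ⟨j', hj'⟩
  refine ⟨Cfsg.stabilizing (Cfsg.glToMat ι F) (frameSet fr) ⊓ Cfsg.Geo.omegaGL ⇑Q, ?_, ?_⟩
  · apply lt_of_le_of_ne
    · intro g hg
      exact ⟨mem_stabilizing_of_maps (hmaps g hg) (hmaps g⁻¹ (inv_mem hg)), hg.2⟩
    · intro heq
      have hq1 : Q (fr a - fr a') = 2 * c := by
        rw [q_sub_of_perp Q (horth a a' haa'), hq, hq, two_mul]
      have hq2 : Q (fr a - fr b) = 2 * c := by
        rw [q_sub_of_perp Q (horth a b hab), hq, hq, two_mul]
      have hmemK : ((wordG Q [fr a - fr a', fr a - fr b] : ↥(Cfsg.isometryGroup F ⇑Q)) : GL ι F) ∈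
          Cfsg.stabilizing (Cfsg.glToMat ι F) (frameSet fr) ⊓ Cfsg.Geo.omegaGL ⇑Q := by
        refine ⟨?_, ?_⟩
        · rw [wordG_cons, wordG_singleton, Subgroup.coe_mul]
          exact mul_mem (refl_mem_stab Q hq horth hc haa') (refl_mem_stab Q hq horth hc hab)
        · apply word2_mem_omegaGL Q hQ hι
          · rw [hq1]; exact hc
          · rw [hq2]; exact hc
          · rw [hq1, hq2]; exact ⟨2 * c, rfl⟩
      rw [← heq] at hmemK
      obtain ⟨σ, hσ⟩ := hmemK.1
      have e1 : (((wordG Q [fr a - fr a', fr a - fr b] : ↥(Cfsg.isometryGroup F ⇑Q)) : GL ι F) :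
          Matrix ι ι F) *ᵥ fr a = fr b := by
        rw [word2_mulVec, refl_swap_left Q (hq a) (hq b) (horth a b hab) hc,
          refl_fix Q (horth a b hab) (horth a' b (Ne.symm hba'))]
      have e2 : (((wordG Q [fr a - fr a', fr a - fr b] : ↥(Cfsg.isometryGroup F ⇑Q)) : GL ι F) :
          Matrix ι ι F) *ᵥ fr b = fr a' := by
        rw [word2_mulVec, refl_swap_right Q (hq a) (hq b) (horth a b hab) hc,
          refl_swap_left Q (hq a) (hq a') (horth a a' haa') hc]
      have m1 : fr b ∈ D (σ (mem a)) := by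
        rw [← hσ (mem a)]
        exact ⟨fr a, hmem a, by rw [Matrix.toLin'_apply]; exact e1⟩
      have m2 : fr a' ∈ D (σ (mem a)) := by
        rw [← hσ (mem a)]
        exact ⟨fr b, hmab ▸ hmem b, by rw [Matrix.toLin'_apply]; exact e2⟩
      have i1 : σ (mem a) = mem b := hidx _ _ _ m1 (hmem b) (by rw [hq]; exact hc0)
      have i2 : σ (mem a) = mem a' := hidx _ _ _ m2 (hmem a') (by rw [hq]; exact hc0)
      exact hmaa' (by rw [← i2, i1, hmab])
  · apply lt_of_le_of_ne inf_le_right
    intro heq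
    have hq1 : Q (fr a + fr b + fr a' + fr b') = 4 * c :=
      q_four Q (hq a) (hq b) (hq a') (hq b') (horth a b hab) (horth a a' haa') (horth a b' hab')
        (horth b a' hba') (horth b b' hbb') (horth a' b' ha'b')
    have h4 : (4 : F) * c ≠ 0 := by
      have : (4 : F) = 2 * 2 := by norm_num
      rw [this]
      exact mul_ne_zero (mul_ne_zero h2 h2) hc0
    have hmemO : ((wordG Q [fr a + fr b + fr a' + fr b', fr a] :
        ↥(Cfsg.isometryGroup F ⇑Q)) : GL ι F) ∈ Cfsg.Geo.omegaGL ⇑Q := by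
      apply word2_mem_omegaGL Q hQ hι
      · rw [hq1]; exact h4
      · rw [hq]; exact hc0
      · rw [hq1, hq]
        exact ⟨2 * c, by ring⟩
    rw [← heq] at hmemO
    have hS := (mem_stabilizing_iff.1 hmemO.1 (fr a)).1 ⟨a, Or.inl rfl⟩
    have hval : (((wordG Q [fr a + fr b + fr a' + fr b', fr a] :
        ↥(Cfsg.isometryGroup F ⇑Q)) : GL ι F) : Matrix ι ι F) *ᵥ fr a =
        fr a - fr b - fr a' - fr b' := by
      have hpa : polar Q (fr a) (fr a) = 2 * c := by
        rw [polar_self, hq]; simp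
      have hself : reflE Q (fr a) (fr a) = -fr a := by
        rw [reflE_apply, hpa, hq]
        have : (c⁻¹ * (2 * c)) = 2 := by
          field_simp
        rw [this, two_smul]; abel
      have hpol : polar Q (fr a + fr b + fr a' + fr b') (fr a) = 2 * c := by
        rw [polar_four Q (horth b a (Ne.symm hab)) (horth a' a (Ne.symm haa'))
          (horth b' a (Ne.symm hab')), polar_self, hq]
        simp
      rw [word2_mulVec, hself, map_neg, reflE_apply, hq1, hpol]
      have : ((4 * c)⁻¹ * (2 * c)) = -1 := by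
        rw [inv_mul_eq_iff_eq_mul₀ h4]
        linear_combination (2 * c) * h3
      rw [this]
      have h3v : ∀ x : ι → F, (3 : F) • x = 0 := fun x => by rw [h3, zero_smul]
      have := h3v (fr a)
      rw [neg_one_smul, sub_neg_eq_add]
      have e : -(fr a + (fr a + fr b + fr a' + fr b')) =
          fr a - fr b - fr a' - fr b' - (3 : F) • fr a := by module
      rw [e, this, sub_zero]
    rw [hval] at hS
    obtain ⟨j, hj⟩ := hS
    have p1 : polar Q (fr a - fr b - fr a' - fr b') (fr a) = 2 * c := by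
      rw [polar_sub_left, polar_sub_left, polar_sub_left, horth b a (Ne.symm hab),
        horth a' a (Ne.symm haa'), horth b' a (Ne.symm hab'), polar_self, hq]
      simp
    have p2 : polar Q (fr a - fr b - fr a' - fr b') (fr b) = -(2 * c) := by
      rw [polar_sub_left, polar_sub_left, polar_sub_left, horth a b hab,
        horth a' b (Ne.symm hba'), horth b' b (Ne.symm hbb'), polar_self, hq]
      simp
    have hja : j = a := by
      by_contra hne
      rcases hj with h | h
      · rw [h, horth j a hne] at p1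
        exact hc p1.symm
      · rw [h, polar_neg_left, horth j a hne, neg_zero] at p1
        exact hc p1.symm
    have hjb : j = b := by
      by_contra hne
      rcases hj with h | h
      · rw [h, horth j b hne] at p2
        exact hc (neg_eq_zero.1 p2.symm)
      · rw [h, polar_neg_left, horth j b hne, neg_zero] at p2
        exact hc (neg_eq_zero.1 p2.symm)
    exact hab (hja.symm.trans hjb)

end main

section sums
variable {F : Type*} [Field F] [Fintype F]

theorem sq_sum2_zero (hq : Fintype.card F = 3) {y z : F} (h : y * y + z * z = 0) : y = 0 ∧ z = 0 := by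
  have h2 := two_ne_zero' hq
  have hle := le_of_eq hq
  by_cases hy : y = 0
  · refine ⟨hy, ?_⟩
    rw [hy, zero_mul, zero_add] at h
    exact mul_self_eq_zero.1 h
  · exfalso
    rw [mul_self_eq_one_of_card_le hle hy] at h
    by_cases hz : z = 0
    · rw [hz, mul_zero, add_zero] at h
      exact one_ne_zero h
    · rw [mul_self_eq_one_of_card_le hle hz, one_add_one_eq_two] at h
      exact h2 h

theorem sq_sum2_one (hq : Fintype.card F = 3) {y z : F} (h : y * y + z * z = 1) :
    (y * y = 1 ∧ z = 0) ∨ (y = 0 ∧ z * z = 1) := by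
  have hle := le_of_eq hq
  by_cases hy : y = 0
  · right
    refine ⟨hy, ?_⟩
    rw [hy, zero_mul, zero_add] at h
    exact h
  · left
    have hy1 := mul_self_eq_one_of_card_le hle hy
    refine ⟨hy1, ?_⟩
    rw [hy1] at h
    have : z * z = 0 := by linear_combination h
    exact mul_self_eq_zero.1 this

theorem sq_sum3_one (hq : Fintype.card F = 3) {x y z : F} (h : x * x + y * y + z * z = 1) :
    (x * x = 1 ∧ y = 0 ∧ z = 0) ∨ (x = 0 ∧ y * y = 1 ∧ z = 0) ∨ (x = 0 ∧ y = 0 ∧ z * z = 1) := by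
  have hle := le_of_eq hq
  by_cases hx : x = 0
  · right
    rw [hx, zero_mul, zero_add] at h
    rcases sq_sum2_one hq h with ⟨h1, h2⟩ | ⟨h1, h2⟩
    · exact Or.inl ⟨hx, h1, h2⟩
    · exact Or.inr ⟨hx, h1, h2⟩
  · left
    have hx1 := mul_self_eq_one_of_card_le hle hx
    rw [hx1] at h
    have : y * y + z * z = 0 := by linear_combination h
    obtain ⟨h1, h2⟩ := sq_sum2_zero hq this
    exact ⟨hx1, h1, h2⟩

end sums

section frames
variable {F : Type*} [Field F] [Fintype F] {V : Type*} [AddCommGroup V] [Module F V]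
  [FiniteDimensional F V] (Q : QuadraticForm F V)

/-- a frame of a subspace: orthogonal vectors of one nonzero norm `c` such that the vectors of
norm `c` in the subspace are the frame vectors and their negatives -/
structure IsFrame (W : Submodule F V) {k : ℕ} (f : Fin k → V) (c : F) : Prop where
  ne : c ≠ 0
  mem : ∀ j, f j ∈ W
  norm : ∀ j, Q (f j) = c
  orth : ∀ j j', j ≠ j' → polar Q (f j) (f j') = 0
  enum : ∀ v ∈ W, Q v = c → ∃ j, v = f j ∨ v = -f j

theorem span_eq_of_orth (h2 : (2 : F) ≠ 0) {W : Submodule F V} {k : ℕ} (hdim : finrank F W = k)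
    {f : Fin k → V} {c : F} (hc : c ≠ 0) (hmem : ∀ j, f j ∈ W) (hnorm : ∀ j, Q (f j) = c)
    (horth : ∀ j j', j ≠ j' → polar Q (f j) (f j') = 0) :
    Submodule.span F (Set.range f) = W := by
  have hli := Cfsg.Agent.Lib.Helper15.orth_linearIndependent h2 Q f horth
    (fun j => by rw [hnorm]; exact hc)
  apply Submodule.eq_of_le_of_finrank_eq
  · rw [Submodule.span_le]
    rintro _ ⟨j, rfl⟩
    exact hmem j
  · rw [finrank_span_eq_card hli, hdim, Fintype.card_fin]

theorem pm_of_sq {x : F} (h : x * x = 1) (v : V) : x • v = v ∨ x • v = -v := by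
  rcases mul_self_eq_one_iff.1 h with h | h
  · left; rw [h, one_smul]
  · right; rw [h, neg_one_smul]

theorem isFrame_three (hq : Fintype.card F = 3) {W : Submodule F V} (hdim : finrank F W = 3)
    {f : Fin 3 → V} {c : F} (hc : c ≠ 0) (hmem : ∀ j, f j ∈ W) (hnorm : ∀ j, Q (f j) = c)
    (horth : ∀ j j', j ≠ j' → polar Q (f j) (f j') = 0) : IsFrame Q W f c := by
  refine ⟨hc, hmem, hnorm, horth, ?_⟩
  intro v hv hqv
  rw [← span_eq_of_orth Q (two_ne_zero' hq) hdim hc hmem hnorm horth,
    Submodule.mem_span_range_iff_exists_fun] at hv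
  obtain ⟨x, rfl⟩ := hv
  rw [Fin.sum_univ_three] at hqv ⊢
  have e : Q (x 0 • f 0 + x 1 • f 1 + x 2 • f 2) = c * (x 0 * x 0 + x 1 * x 1 + x 2 * x 2) := by
    rw [QuadraticMap.map_add (⇑Q), QuadraticMap.map_add (⇑Q), QuadraticMap.map_smul,
      QuadraticMap.map_smul, QuadraticMap.map_smul, polar_add_left, polar_smul_left,
      polar_smul_left, polar_smul_left, polar_smul_right, polar_smul_right, polar_smul_right,
      hnorm, hnorm, hnorm, horth 0 1 (by decide), horth 0 2 (by decide), horth 1 2 (by decide)]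
    simp only [smul_eq_mul]
    ring
  rw [e] at hqv
  have hsum : x 0 * x 0 + x 1 * x 1 + x 2 * x 2 = 1 := by
    apply mul_left_cancel₀ hc
    rw [hqv, mul_one]
  rcases sq_sum3_one hq hsum with ⟨h0, h1, h2⟩ | ⟨h0, h1, h2⟩ | ⟨h0, h1, h2⟩
  · refine ⟨0, ?_⟩
    rw [h1, h2, zero_smul, zero_smul, add_zero, add_zero]
    exact pm_of_sq h0 _
  · refine ⟨1, ?_⟩
    rw [h0, h2, zero_smul, zero_smul, add_zero, zero_add]
    exact pm_of_sq h1 _
  · refine ⟨2, ?_⟩
    rw [h0, h1, zero_smul, zero_smul, zero_add, zero_add]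
    exact pm_of_sq h2 _

theorem isFrame_two (hq : Fintype.card F = 3) {W : Submodule F V} (hdim : finrank F W = 2)
    {f : Fin 2 → V} {c : F} (hc : c ≠ 0) (hmem : ∀ j, f j ∈ W) (hnorm : ∀ j, Q (f j) = c)
    (horth : ∀ j j', j ≠ j' → polar Q (f j) (f j') = 0) : IsFrame Q W f c := by
  refine ⟨hc, hmem, hnorm, horth, ?_⟩
  intro v hv hqv
  rw [← span_eq_of_orth Q (two_ne_zero' hq) hdim hc hmem hnorm horth,
    Submodule.mem_span_range_iff_exists_fun] at hv
  obtain ⟨x, rfl⟩ := hv
  rw [Fin.sum_univ_two] at hqv ⊢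
  have e : Q (x 0 • f 0 + x 1 • f 1) = c * (x 0 * x 0 + x 1 * x 1) := by
    rw [QuadraticMap.map_add (⇑Q), QuadraticMap.map_smul,
      QuadraticMap.map_smul, polar_smul_left, polar_smul_right,
      hnorm, hnorm, horth 0 1 (by decide)]
    simp only [smul_eq_mul]
    ring
  rw [e] at hqv
  have hsum : x 0 * x 0 + x 1 * x 1 = 1 := by
    apply mul_left_cancel₀ hc
    rw [hqv, mul_one]
  rcases sq_sum2_one hq hsum with ⟨h0, h1⟩ | ⟨h0, h1⟩
  · refine ⟨0, ?_⟩
    rw [h1, zero_smul, add_zero]
    exact pm_of_sq h0 _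
  · refine ⟨1, ?_⟩
    rw [h0, zero_smul, zero_add]
    exact pm_of_sq h1 _

open Cfsg.Agent.Lib.Helper15 in
/-- Every nondegenerate three-dimensional quadratic space over `𝔽₃` has a frame. -/
theorem exists_frame_three (hq : Fintype.card F = 3) {W : Submodule F V} (hW : NdOn Q W)
    (hdim : finrank F W = 3) : ∃ (f : Fin 3 → V) (c : F), IsFrame Q W f c := by
  have h2 := two_ne_zero' hq
  obtain ⟨v, hvW, hvo, hv1, hva⟩ := orth_family h2 Q 2 W hW hdim
  have h0 : Q (v 0) = 1 := hv1 0 (by decide)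
  have h1 : Q (v 1) = 1 := hv1 1 (by decide)
  have h2' : Q (v 2) ≠ 0 := hva
  rcases cases3 hq (Q (v 2)) with ha | ha | ha
  · exact absurd ha h2'
  · refine ⟨v, 1, isFrame_three Q hq hdim one_ne_zero hvW ?_ hvo⟩
    intro j
    fin_cases j
    · exact h0
    · exact h1
    · exact ha
  · refine ⟨![v 0 + v 1, v 0 - v 1, v 2], -1,
      isFrame_three Q hq hdim (neg_ne_zero.2 one_ne_zero) ?_ ?_ ?_⟩
    · intro j
      fin_cases j
      · exact W.add_mem (hvW 0) (hvW 1)
      · exact W.sub_mem (hvW 0) (hvW 1)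
      · exact hvW 2
    · have h3 := three_eq_zero hq
      intro j
      fin_cases j
      · show Q (v 0 + v 1) = -1
        rw [QuadraticMap.map_add (⇑Q), h0, h1, hvo 0 1 (by decide)]
        linear_combination h3
      · show Q (v 0 - v 1) = -1
        rw [q_sub_of_perp Q (hvo 0 1 (by decide)), h0, h1]
        linear_combination h3
      · exact ha
    · have p01 : polar Q (v 0 + v 1) (v 0 - v 1) = 0 := by
        rw [polar_add_left, polar_sub_right, polar_sub_right, polar_self, polar_self, h0, h1,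
          hvo 0 1 (by decide), hvo 1 0 (by decide)]
        simp
      have p02 : polar Q (v 0 + v 1) (v 2) = 0 := by
        rw [polar_add_left, hvo 0 2 (by decide), hvo 1 2 (by decide), add_zero]
      have p12 : polar Q (v 0 - v 1) (v 2) = 0 := by
        rw [polar_sub_left, hvo 0 2 (by decide), hvo 1 2 (by decide), sub_zero]
      intro j j' hjj'
      fin_cases j <;> fin_cases j'
      · exact absurd rfl hjj'
      · exact p01
      · exact p02
      · show polar Q (v 0 - v 1) (v 0 + v 1) = 0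
        rw [polar_comm]; exact p01
      · exact absurd rfl hjj'
      · exact p12
      · show polar Q (v 2) (v 0 + v 1) = 0
        rw [polar_comm]; exact p02
      · show polar Q (v 2) (v 0 - v 1) = 0
        rw [polar_comm]; exact p12
      · exact absurd rfl hjj'

open Cfsg.Agent.Lib.Helper15 in
/-- Every anisotropic nondegenerate plane over `𝔽₃` has a frame. -/
theorem exists_frame_two (hq : Fintype.card F = 3) {W : Submodule F V} (hW : NdOn Q W)
    (hdim : finrank F W = 2) (han : ∀ u ∈ W, Q u = 0 → u = 0) :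
    ∃ (f : Fin 2 → V) (c : F), IsFrame Q W f c := by
  have h2 := two_ne_zero' hq
  obtain ⟨v, hvW, hvo, hv1, hva⟩ := orth_family h2 Q 1 W hW hdim
  have h0 : Q (v 0) = 1 := hv1 0 (by decide)
  have h1' : Q (v 1) ≠ 0 := hva
  rcases cases3 hq (Q (v 1)) with ha | ha | ha
  · exact absurd ha h1'
  · refine ⟨v, 1, isFrame_two Q hq hdim one_ne_zero hvW ?_ hvo⟩
    intro j
    fin_cases j
    · exact h0
    · exact ha
  · exfalso
    have hs : Q (v 0 + v 1) = 0 := by
      rw [QuadraticMap.map_add (⇑Q), h0, ha, hvo 0 1 (by decide)]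
      ring
    have h01 := han _ (W.add_mem (hvW 0) (hvW 1)) hs
    have : v 1 = -v 0 := by
      rw [eq_neg_iff_add_eq_zero, add_comm]; exact h01
    rw [this, QuadraticMap.map_neg, h0] at ha
    have h3 := three_eq_zero hq
    have : (2 : F) = 0 := by linear_combination ha
    exact h2 this

end frames

section assemble
variable {ι : Type} [Fintype ι] [DecidableEq ι] {F : Type*} [Field F] [Fintype F]
  (Q : QuadraticForm F (ι → F))

/-- Pairwise orthogonal, pairwise isometric members one of which has a frame with at least two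
vectors: the stabiliser of the decomposition in `Ω` is not maximal (over `𝔽₃`). -/
theorem main_of_frame (hQ : (polarBilin Q).Nondegenerate) (hF : Fintype.card F = 3)
    (hι : 5 ≤ Fintype.card ι) {t : ℕ} (D : Fin t → Submodule F (ι → F)) (ht : 2 ≤ t)
    (horthD : ∀ i j, i ≠ j → Cfsg.Geo.AreOrthogonalFor (polar ⇑Q) (D i) (D j))
    (hiso : ∀ i j, Cfsg.Geo.AreIsometricFor ⇑Q (D i) (D j))
    {k : ℕ} (hk : 2 ≤ k) (i₀ : Fin t) (f : Fin k → ι → F) (c : F) (hf : IsFrame Q (D i₀) f c) :
    ∃ K : Subgroup (GL ι F), Cfsg.Geo.decompositionStabilizer D ⊓ Cfsg.Geo.omegaGL ⇑Q < K ∧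
      K < Cfsg.Geo.omegaGL ⇑Q := by
  classical
  choose e he using fun i => hiso i₀ i
  have hpol : ∀ i (w w' : D i₀), polar Q ((e i w : D i) : ι → F) ((e i w' : D i) : ι → F) =
      polar Q (w : ι → F) (w' : ι → F) := by
    intro i w w'
    unfold polar
    have h1 : ((e i w : D i) : ι → F) + ((e i w' : D i) : ι → F) =
        ((e i (w + w') : D i) : ι → F) := by
      rw [map_add]; rfl
    rw [h1, he, he, he]
    rfl
  obtain ⟨i₁, hi₁⟩ : ∃ i₁ : Fin t, i₁ ≠ i₀ := by
    by_cases h : i₀ = ⟨0, by omega⟩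
    · exact ⟨⟨1, by omega⟩, by rw [h]; intro h'; simp [Fin.ext_iff] at h'⟩
    · exact ⟨⟨0, by omega⟩, fun h' => h h'.symm⟩
  let fr : Fin t × Fin k → ι → F := fun p => ((e p.1 ⟨f p.2, hf.mem p.2⟩ : D p.1) : ι → F)
  have j0 : Fin k := ⟨0, by omega⟩
  have j1 : Fin k := ⟨1, by omega⟩
  refine main Q hQ hF hι D horthD (J := Fin t × Fin k) (fr := fr) (c := c) Prod.fst hf.ne
    (fun p => (e p.1 _).2) (fun p => ?_) ?_ ?_
    (i₀, ⟨0, by omega⟩) (i₀, ⟨1, by omega⟩) (i₁, ⟨0, by omega⟩) (i₁, ⟨1, by omega⟩)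
    ?_ ?_ ?_ ?_ ?_ ?_ rfl hi₁
  · show Q ((e p.1 ⟨f p.2, hf.mem p.2⟩ : D p.1) : ι → F) = c
    rw [he]
    exact hf.norm p.2
  · rintro ⟨i, j⟩ ⟨i', j'⟩ hne
    by_cases hii' : i = i'
    · subst hii'
      have hjj' : j ≠ j' := fun h => hne (by rw [h])
      show polar Q ((e i ⟨f j, hf.mem j⟩ : D i) : ι → F) ((e i ⟨f j', hf.mem j'⟩ : D i) : ι → F) = 0
      rw [hpol]
      exact hf.orth j j' hjj'
    · exact horthD i i' hii' _ (e i _).2 _ (e i' _).2
  · intro i v hv hqv
    have hw : Q (((e i).symm ⟨v, hv⟩ : D i₀) : ι → F) = c := by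
      rw [← he i, LinearEquiv.apply_symm_apply]
      exact hqv
    obtain ⟨j, hj⟩ := hf.enum _ ((e i).symm ⟨v, hv⟩).2 hw
    refine ⟨(i, j), rfl, ?_⟩
    have hv' : v = ((e i ((e i).symm ⟨v, hv⟩) : D i) : ι → F) := by
      rw [LinearEquiv.apply_symm_apply]
    rcases hj with hj | hj
    · left
      rw [hv']
      show _ = ((e i ⟨f j, hf.mem j⟩ : D i) : ι → F)
      congr 2
      exact Subtype.ext hj
    · right
      rw [hv']
      show _ = -((e i ⟨f j, hf.mem j⟩ : D i) : ι → F)
      rw [← Submodule.coe_neg, ← map_neg]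
      congr 2
      exact Subtype.ext hj
  · intro h
    simp [Prod.ext_iff, Fin.ext_iff] at h
  · intro h
    exact hi₁ (congrArg Prod.fst h).symm
  · intro h
    exact hi₁ (congrArg Prod.fst h).symm
  · intro h
    exact hi₁ (congrArg Prod.fst h).symm
  · intro h
    exact hi₁ (congrArg Prod.fst h).symm
  · intro h
    simp [Prod.ext_iff, Fin.ext_iff] at h

end assemble

section decomp
variable {ι : Type} [Fintype ι] [DecidableEq ι] {F : Type*} [Field F] [Fintype F]
  (Q : QuadraticForm F (ι → F))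

theorem ndOn_of_nondegenerateOn {W : Submodule F (ι → F)}
    (h : Cfsg.Geo.IsNondegenerateOn (polar ⇑Q) W) : Cfsg.Agent.Lib.Helper15.NdOn Q W := by
  intro w hw hall
  by_contra hne
  obtain ⟨x, hx, hwx⟩ := (h w hw hne).2
  exact hwx (hall x hx)

/-- Orthogonal decompositions into isometric members of dimension 2 (anisotropic) or 3 over
`𝔽₃`: the stabiliser in `Ω` is not maximal. -/
theorem main_of_decomp (hQ : (polarBilin Q).Nondegenerate) (hF : Fintype.card F = 3)
    (hι : 5 ≤ Fintype.card ι) {t : ℕ} (D : Fin t → Submodule F (ι → F)) (k : ℕ)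
    (hk : k = 2 ∨ k = 3) (hD : Cfsg.Geo.IsOrthogonalMDecomposition ⇑Q k D)
    (han : k = 2 → ∀ i, ¬ Cfsg.Geo.IsPlusTypeOn ⇑Q (D i)) :
    ∃ K : Subgroup (GL ι F), Cfsg.Geo.decompositionStabilizer D ⊓ Cfsg.Geo.omegaGL ⇑Q < K ∧
      K < Cfsg.Geo.omegaGL ⇑Q := by
  have ht := hD.decomp.decomp.two_le
  let i₀ : Fin t := ⟨0, by omega⟩
  have hnd := ndOn_of_nondegenerateOn Q (hD.decomp.nondegenerate i₀)
  have hdim := hD.decomp.decomp.finrank_eq i₀
  rcases hk with rfl | rfl
  · have hani : ∀ u ∈ D i₀, Q u = 0 → u = 0 := by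
      intro u hu hqu
      by_contra hne
      apply han rfl i₀
      refine ⟨Submodule.span F {u}, ?_, ?_, ?_⟩
      · rw [Submodule.span_singleton_le_iff_mem]; exact hu
      · intro w hw
        obtain ⟨a, rfl⟩ := Submodule.mem_span_singleton.1 hw
        show Q (a • u) = 0
        rw [QuadraticMap.map_smul, hqu, smul_zero]
      · rw [finrank_span_singleton hne, hdim]
    obtain ⟨f, c, hf⟩ := exists_frame_two Q hF hnd hdim hani
    exact main_of_frame Q hQ hF hι D ht hD.decomp.orthogonal hD.isometric (le_refl 2) i₀ f c hf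
  · obtain ⟨f, c, hf⟩ := exists_frame_three Q hF hnd hdim
    exact main_of_frame Q hQ hF hι D ht hD.decomp.orthogonal hD.isometric (by norm_num) i₀ f c hf

end decomp

end Cfsg.Agent.Lib.Helper9.FrameF3
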