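import Mathlib
import Cfsg.Prelude.Def_GeometricClasses

set_option autoImplicit false
set_option linter.unusedSectionVars false

/-!
# From `Cfsg.Geo.IsNondegenerateQuadraticForm` to a bundled `QuadraticForm`
-/

namespace Cfsg.Agent.Lib.Helper9.QuadBridge

open QuadraticMap

variable {ι : Type} [Fintype ι] [DecidableEq ι] {F : Type*} [Field F]

/-- The bundled quadratic form of a quadratic function in the sense of
`Cfsg.Geo.IsNondegenerateQuadraticForm`. -/
def ofFun (Q : (ι → F) → F) (hQ : Cfsg.Geo.IsNondegenerateQuadraticForm Q) :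
    QuadraticForm F (ι → F) where
  toFun := Q
  toFun_smul a x := by rw [hQ.smul, pow_two, smul_eq_mul]
  exists_companion' :=
    ⟨LinearMap.mk₂ F (polar Q) hQ.polar_bilinear.add_left
      (fun c x v => by rw [hQ.polar_bilinear.smul_left, smul_eq_mul])
      hQ.polar_bilinear.add_right
      (fun c v x => by rw [hQ.polar_bilinear.smul_right, smul_eq_mul]),
      fun x y => by
        rw [LinearMap.mk₂_apply, polar]
        ring⟩

theorem coe_ofFun (Q : (ι → F) → F) (hQ : Cfsg.Geo.IsNondegenerateQuadraticForm Q) :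
    ⇑(ofFun Q hQ) = Q := rfl

theorem ofFun_nondeg (Q : (ι → F) → F) (hQ : Cfsg.Geo.IsNondegenerateQuadraticForm Q) :
    (polarBilin (ofFun Q hQ)).Nondegenerate := by
  refine ⟨?_, ?_⟩
  · intro x hx
    by_contra h
    obtain ⟨y, hy⟩ := (hQ.nondegenerate x h).2
    exact hy (hx y)
  · intro y hy
    by_contra h
    obtain ⟨x, hx⟩ := (hQ.nondegenerate y h).1
    exact hx (hy x)

end Cfsg.Agent.Lib.Helper9.QuadBridge
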