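import Mathlib
import Cfsg.Agent.Lib.Helper2.SOTDefs
import Cfsg.Agent.Lib.Helper13.SOTGDefs
import Cfsg.Agent.Lib.Helper9.SOTGG3
import Cfsg.Agent.Lib.Helper24.SOTGOT

/-!
S5666 part (G) leaf (G3b) `diam_PS`, exact signature (core `diam_PS_core` + helper24's (B3)).
-/

set_option autoImplicit false
set_option linter.unusedSectionVars false
set_option linter.unusedVariables false

namespace Cfsg.Agent.Lib.Helper9.SOTGLeaf
open Matrix
open Cfsg.Agent.Lib.Helper25.Tens Cfsg.Agent.Lib.Helper25.SpT Cfsg.Agent.Lib.Helper19.OSub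
open Cfsg.Agent.Lib.Helper2.SOT Cfsg.Agent.Lib.Helper13.SOTG
open scoped Kronecker

variable {F : Type*} [Field F] [Fintype F] {a b : ℕ} {G : Matrix (Fin b) (Fin b) F}
  {M : Subgroup (GL (Idx a b) F)}

/-- (G3b) diameter `≤ 2` -/
theorem diam_PS (h : Ctx a b G) : Diam2 (JG a G) (PS a G) :=
  diam_PS_core h (fun hz hz' hzz hz'z' =>
    Cfsg.Agent.Lib.Helper24.SOTGLeaf.exists_singular_nonperp h hz hz' hzz hz'z')

end Cfsg.Agent.Lib.Helper9.SOTGLeaf
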