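import Mathlib
import Cfsg.Agent.Lib.Helper5.TWU.IB0abs

/-!
The abstract twist lemma (generalises `Helper9.SOTLeaf.exists_b0_abstract` (`ν = -1`) and helper5's `exists_b0_nu`):
for `x₀` in the group generated by two "root groups" `1 + c N`, `1 + c N''` (`c ∈ S`, `S` stable under `-1`, `ν`, `ν⁻¹`) with
`x₀ R ≤ R''`, the element `b₀ = x₀⁻¹ x₀~` (`x₀~` = the same word with parameters multiplied by `ν` resp. `ν⁻¹`) satisfies
(a) `b₀ = 1` on `Y`; (b) `b₀ v ≡ ν⁻¹ v (mod K)` on `R`; (c) for `v ∈ R'' ⊔ Y` and ANY decomposition `x₀ v = p + p''`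
(`p ∈ R`, `p'' ∈ R'' ⊔ Y`): `x₀ (b₀ v) ≡ ν p + p'' (mod K)`.
-/

set_option autoImplicit false
set_option linter.unusedSectionVars false
set_option linter.unusedVariables false

namespace Cfsg.Agent.Lib.Helper9.TwistNu
open Matrix Cfsg.Geo Cfsg.Agent.Lib.Helper18.AschA89 Cfsg.Agent.Lib.Helper8.TW Cfsg.Agent.Lib.Helper5.TWULeaf

variable {F : Type*} [Field F] [Fintype F]

/-- every word in the two root groups has a twisted companion -/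
theorem pairNu_of_mem_closure {ι : Type} [Fintype ι] [DecidableEq ι] (N N'' : Matrix ι ι F)
    (R R'' Y K : Submodule F (ι → F))
    (hNR : ∀ v, N *ᵥ v ∈ R) (hN''R : ∀ v, N'' *ᵥ v ∈ R'')
    (hN0 : ∀ v ∈ R ⊔ Y, N *ᵥ v = 0) (hN''0 : ∀ v ∈ R'' ⊔ Y, N'' *ᵥ v = 0)
    (hKY : K ≤ Y)
    (S : Set F) (hSneg : ∀ c ∈ S, -c ∈ S) (ν : F) (hν : ν ≠ 0) (hSν : ∀ c ∈ S, ν * c ∈ S)
    (hSν' : ∀ c ∈ S, ν⁻¹ * c ∈ S)
    (uN uN'' : F → GL ι F) (huN : ∀ c, ((uN c : GL ι F) : Matrix ι ι F) = 1 + c • N)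
    (huN'' : ∀ c, ((uN'' c : GL ι F) : Matrix ι ι F) = 1 + c • N'') :
    ∀ x ∈ Subgroup.closure ({t | ∃ c ∈ S, t = uN c} ∪ {t | ∃ c ∈ S, t = uN'' c}),
      ∃ xt ∈ Subgroup.closure ({t | ∃ c ∈ S, t = uN c} ∪ {t | ∃ c ∈ S, t = uN'' c}),
        PairNu ν R R'' Y K x xt := by
  have hRle : R ≤ R ⊔ Y := le_sup_left
  have hYle : Y ≤ R ⊔ Y := le_sup_right
  have hR''le : R'' ≤ R'' ⊔ Y := le_sup_left
  have hYle'' : Y ≤ R'' ⊔ Y := le_sup_right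
  have mvN : ∀ c v, mv (uN c) v = v + c • (N *ᵥ v) := by
    intro c v
    change ((uN c : GL ι F) : Matrix ι ι F) *ᵥ v = _
    rw [huN, Matrix.add_mulVec, Matrix.one_mulVec, Matrix.smul_mulVec]
  have mvN'' : ∀ c v, mv (uN'' c) v = v + c • (N'' *ᵥ v) := by
    intro c v
    change ((uN'' c : GL ι F) : Matrix ι ι F) *ᵥ v = _
    rw [huN'', Matrix.add_mulVec, Matrix.one_mulVec, Matrix.smul_mulVec]
  have invN : ∀ c, (uN c)⁻¹ = uN (-c) := by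
    intro c
    apply inv_eq_of_mul_eq_one_right
    apply b0_gl_ext; intro v
    rw [b0_mv_mul, b0_mv_one, mvN c, mvN (-c), Matrix.mulVec_add, Matrix.mulVec_smul,
      hN0 _ (hRle (hNR v)), smul_zero, add_zero, neg_smul]
    abel
  have invN'' : ∀ c, (uN'' c)⁻¹ = uN'' (-c) := by
    intro c
    apply inv_eq_of_mul_eq_one_right
    apply b0_gl_ext; intro v
    rw [b0_mv_mul, b0_mv_one, mvN'' c, mvN'' (-c), Matrix.mulVec_add, Matrix.mulVec_smul,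
      hN''0 _ (hR''le (hN''R v)), smul_zero, add_zero, neg_smul]
    abel
  set T : Set (GL ι F) := {t | ∃ c ∈ S, t = uN c} ∪ {t | ∃ c ∈ S, t = uN'' c} with hT
  have Tinv : ∀ x ∈ T, x⁻¹ ∈ T := by
    rintro x (⟨c, hc, rfl⟩ | ⟨c, hc, rfl⟩)
    · exact Or.inl ⟨-c, hSneg c hc, invN c⟩
    · exact Or.inr ⟨-c, hSneg c hc, invN'' c⟩
  have gen : ∀ x ∈ T, ∃ xt ∈ Subgroup.closure T, PairNu ν R R'' Y K x xt := by
    rintro x (⟨c, hc, rfl⟩ | ⟨c, hc, rfl⟩)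
    · refine ⟨uN (ν * c), Subgroup.subset_closure (Or.inl ⟨ν * c, hSν c hc, rfl⟩), ?_, ?_, ?_, ?_⟩
      · intro v hv; rw [mvN, hN0 v (hYle hv), smul_zero, add_zero]
      · intro v hv; rw [mvN, hN0 v (hYle hv), smul_zero, add_zero]
      · intro v hv
        refine ⟨v, hv, 0, Submodule.zero_mem _, 0, Submodule.zero_mem _, ?_, ?_⟩
        · rw [mvN, hN0 v (hRle hv), smul_zero]
        · rw [mvN, hN0 v (hRle hv)]; simp only [smul_zero, add_zero]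
      · intro v hv
        refine ⟨c • (N *ᵥ v), R.smul_mem c (hNR v), v, hv, 0, Submodule.zero_mem _, ?_, ?_⟩
        · rw [mvN, add_comm]
        · rw [mvN, add_zero, smul_smul, add_comm]
    · refine ⟨uN'' (ν⁻¹ * c), Subgroup.subset_closure (Or.inr ⟨ν⁻¹ * c, hSν' c hc, rfl⟩), ?_, ?_, ?_, ?_⟩
      · intro v hv; rw [mvN'', hN''0 v (hYle'' hv), smul_zero, add_zero]
      · intro v hv; rw [mvN'', hN''0 v (hYle'' hv), smul_zero, add_zero]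
      · intro v hv
        refine ⟨v, hv, c • (N'' *ᵥ v), hR''le (R''.smul_mem c (hN''R v)), 0,
          Submodule.zero_mem _, ?_, ?_⟩
        · rw [mvN'']
        · rw [mvN'', add_zero, smul_smul]
      · intro v hv
        refine ⟨0, Submodule.zero_mem _, v, hv, 0, Submodule.zero_mem _, ?_, ?_⟩
        · rw [mvN'', hN''0 v hv, smul_zero, add_zero, zero_add]
        · rw [mvN'', hN''0 v hv, smul_zero, add_zero, smul_zero, zero_add, add_zero]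
  intro x hx
  induction hx using Subgroup.closure_induction'' with
  | mem x hx => exact gen x hx
  | inv_mem x hx => exact gen x⁻¹ (Tinv x hx)
  | one => exact ⟨1, Subgroup.one_mem _, PairNu.one ν R R'' Y K⟩
  | mul x y hx hy ihx ihy =>
    obtain ⟨xt, hxt, px⟩ := ihx
    obtain ⟨yt, hyt, py⟩ := ihy
    exact ⟨xt * yt, Subgroup.mul_mem _ hxt hyt, px.mul hν hKY py⟩

/-- the twist lemma, with the three conclusions (a), (b), (c) -/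
theorem exists_twist {ι : Type} [Fintype ι] [DecidableEq ι] (N N'' : Matrix ι ι F)
    (R R'' Y K : Submodule F (ι → F))
    (hNR : ∀ v, N *ᵥ v ∈ R) (hN''R : ∀ v, N'' *ᵥ v ∈ R'')
    (hN0 : ∀ v ∈ R ⊔ Y, N *ᵥ v = 0) (hN''0 : ∀ v ∈ R'' ⊔ Y, N'' *ᵥ v = 0)
    (hKR : K ≤ R) (hKR'' : K ≤ R'') (hKY : K ≤ Y) (hRK : R ⊓ (R'' ⊔ Y) ≤ K)
    (S : Set F) (hSneg : ∀ c ∈ S, -c ∈ S) (ν : F) (hν : ν ≠ 0) (hSν : ∀ c ∈ S, ν * c ∈ S)
    (hSν' : ∀ c ∈ S, ν⁻¹ * c ∈ S)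
    (uN uN'' : F → GL ι F) (huN : ∀ c, ((uN c : GL ι F) : Matrix ι ι F) = 1 + c • N)
    (huN'' : ∀ c, ((uN'' c : GL ι F) : Matrix ι ι F) = 1 + c • N'')
    (x₀ : GL ι F)
    (hx₀ : x₀ ∈ Subgroup.closure ({t | ∃ c ∈ S, t = uN c} ∪ {t | ∃ c ∈ S, t = uN'' c}))
    (hmap : ∀ v ∈ R, mv x₀ v ∈ R'') :
    ∃ b₀ ∈ Subgroup.closure ({t | ∃ c ∈ S, t = uN c} ∪ {t | ∃ c ∈ S, t = uN'' c}),
      (∀ v ∈ Y, mv b₀ v = v) ∧ (∀ v ∈ R, mv b₀ v - ν⁻¹ • v ∈ K) ∧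
      (∀ v ∈ R'' ⊔ Y, ∀ p ∈ R, ∀ p'' ∈ R'' ⊔ Y, mv x₀ v = p + p'' →
        mv x₀ (mv b₀ v) - (ν • p + p'') ∈ K) := by
  have hR''le : R'' ≤ R'' ⊔ Y := le_sup_left
  obtain ⟨xt, hxt, p1, p2, p3, p4⟩ := pairNu_of_mem_closure N N'' R R'' Y K hNR hN''R hN0 hN''0 hKY S hSneg
    ν hν hSν hSν' uN uN'' huN huN'' x₀ hx₀
  have hinvfix : ∀ v ∈ Y, mv x₀⁻¹ v = v := by
    intro v hv
    conv_lhs => rw [← p1 v hv]
    rw [b0_mv_inv_mv]
  have hmvx : ∀ v, mv x₀ (mv (x₀⁻¹ * xt) v) = mv xt v := by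
    intro v
    rw [← b0_mv_mul, mul_inv_cancel_left]
  refine ⟨x₀⁻¹ * xt, Subgroup.mul_mem _ (Subgroup.inv_mem _ hx₀) hxt, ?_, ?_, ?_⟩
  · intro v hv
    rw [b0_mv_mul, p2 v hv, hinvfix v hv]
  · intro v hv
    obtain ⟨r₁, hr₁, r₂, hr₂, k, hk, e1, e2⟩ := p3 v hv
    have hr₁K : r₁ ∈ K := by
      apply hRK
      refine ⟨hr₁, ?_⟩
      have : r₁ = mv x₀ v - r₂ := by rw [e1]; abel
      rw [this]
      exact (R'' ⊔ Y).sub_mem (hR''le (hmap v hv)) hr₂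
    have hk' : (1 - ν⁻¹) • r₁ + k ∈ K := K.add_mem (K.smul_mem _ hr₁K) hk
    have e3 : mv xt v = ν⁻¹ • mv x₀ v + ((1 - ν⁻¹) • r₁ + k) := by
      rw [e2, e1, smul_add, sub_smul, one_smul]; abel
    rw [b0_mv_mul, e3, b0_mv_add, b0_mv_smul, b0_mv_inv_mv, hinvfix _ (hKY hk')]
    have : ν⁻¹ • v + ((1 - ν⁻¹) • r₁ + k) - ν⁻¹ • v = (1 - ν⁻¹) • r₁ + k := by abel
    rw [this]
    exact hk'
  · intro v hv p hp p'' hp'' hdec
    obtain ⟨r₁, hr₁, r₂, hr₂, k, hk, e1, e2⟩ := p4 v hv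
    rw [hmvx, e2]
    -- `r₁ - p = p'' - r₂ ∈ R ⊓ (R'' ⊔ Y) ≤ K`
    have hd : r₁ - p ∈ K := by
      apply hRK
      refine ⟨R.sub_mem hr₁ hp, ?_⟩
      have : r₁ - p = p'' - r₂ := by
        have h1 : r₁ + r₂ = p + p'' := by rw [← e1, hdec]
        have h2 : r₁ = p + p'' - r₂ := eq_sub_of_add_eq h1
        rw [h2]; abel
      rw [this]
      exact (R'' ⊔ Y).sub_mem hp'' hr₂
    have hd' : r₂ - p'' ∈ K := by
      have : r₂ - p'' = -(r₁ - p) := by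
        have h1 : r₁ + r₂ = p + p'' := by rw [← e1, hdec]
        have h2 : r₁ = p + p'' - r₂ := eq_sub_of_add_eq h1
        rw [h2]; abel
      rw [this]
      exact K.neg_mem hd
    have : ν • r₁ + r₂ + k - (ν • p + p'') = ν • (r₁ - p) + (r₂ - p'') + k := by
      rw [smul_sub]; abel
    rw [this]
    exact K.add_mem (K.add_mem (K.smul_mem _ hd) hd') hk

end Cfsg.Agent.Lib.Helper9.TwistNu
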