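import Mathlib
import Cfsg.Prelude.Def_GeometricClasses
import Cfsg.Agent.Lib.Helper5.TMCalc
import Cfsg.Agent.Lib.Helper18.C2Defs
import Cfsg.Agent.Lib.Helper18.C2Ex

/-!
helper9: S5634 C2A leaf L2 (`exists_nonpure`), helper18's market,
exact signature of notes/S5634_C2A_leaves.lean.
-/

set_option autoImplicit false
set_option linter.unusedSectionVars false
set_option linter.unusedVariables false

namespace Cfsg.Agent.Lib.Helper9.C2Leaf
open Cfsg Matrix Cfsg.Agent.Lib.Helper5.TMCalc Cfsg.Agent.Lib.Helper18.C2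

variable {F : Type*} [Field F] {n t m : ℕ} {D : Fin t → Submodule F (Fin n → F)}

lemma gl_mulVec_ne_zero (g : GL (Fin n) F) {x : Fin n → F} (hx : x ≠ 0) :
    (g : Matrix (Fin n) (Fin n) F) *ᵥ x ≠ 0 := by
  intro h
  apply hx
  have := congrArg (fun z => ((g⁻¹ : GL (Fin n) F) : Matrix (Fin n) (Fin n) F) *ᵥ z) h
  simpa [Matrix.mulVec_mulVec, ← Units.val_mul] using this

/-- if `g` maps every vector of the block `D a` to a pure vector, it maps `D a` into one block -/
lemma exists_block_of_pure (hD : Cfsg.Geo.IsMDecomposition m D) (g : GL (Fin n) F) (a : Fin t)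
    (hp : ∀ x ∈ D a, Pure D ((g : Matrix (Fin n) (Fin n) F) *ᵥ x)) :
    ∃ j, ∀ x ∈ D a, (g : Matrix (Fin n) (Fin n) F) *ᵥ x ∈ D j := by
  obtain ⟨x₀, hx₀, hx₀0⟩ := exists_mem_ne_zero hD a
  have hgx₀ := gl_mulVec_ne_zero g hx₀0
  obtain ⟨j, hj⟩ := hp x₀ hx₀
  refine ⟨j, fun x hx => ?_⟩
  obtain ⟨j', hj'⟩ := hp x hx
  by_cases hjj : j' = j
  · rw [← hjj]; exact hj'
  by_cases hgx : (g : Matrix (Fin n) (Fin n) F) *ᵥ x = 0
  · rw [hgx]; exact (D j).zero_mem
  exfalso
  obtain ⟨j'', hj''⟩ := hp (x + x₀) ((D a).add_mem hx hx₀)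
  rw [Matrix.mulVec_add] at hj''
  have hj''j : j'' = j := by
    by_contra hne
    have h1 := pr_ne hD hne hj''
    rw [map_add, pr_ne hD hjj hj', pr_same hD hj, zero_add] at h1
    exact hgx₀ h1
  rw [hj''j] at hj''
  have h2 := pr_ne hD (Ne.symm hjj) hj''
  rw [map_add, pr_same hD hj', pr_ne hD (Ne.symm hjj) hj, add_zero] at h2
  exact hgx h2

/-- L2: an element outside the stabiliser maps some block vector to a non-pure vector. -/
theorem exists_nonpure (hD : Cfsg.Geo.IsMDecomposition m D) (g : GL (Fin n) F)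
    (hg : g ∉ Cfsg.Geo.decompositionStabilizer D) :
    ∃ a, ∃ x ∈ D a, ¬ Pure D ((g : Matrix (Fin n) (Fin n) F) *ᵥ x) := by
  by_contra hcon
  have hp : ∀ a, ∀ x ∈ D a, Pure D ((g : Matrix (Fin n) (Fin n) F) *ᵥ x) := by
    intro a x hx
    by_contra hne
    exact hcon ⟨a, x, hx, hne⟩
  have hex : ∀ a, ∃ j, ∀ x ∈ D a, (g : Matrix (Fin n) (Fin n) F) *ᵥ x ∈ D j :=
    fun a => exists_block_of_pure hD g a (hp a)
  choose σ hσ using hex
  have hsurj : Function.Surjective σ := by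
    intro j
    by_contra hno
    have hne : ∀ a, σ a ≠ j := by
      intro a h
      exact hno ⟨a, h⟩
    obtain ⟨z, hz, hz0⟩ := exists_mem_ne_zero hD j
    set v : Fin n → F := ((g⁻¹ : GL (Fin n) F) : Matrix (Fin n) (Fin n) F) *ᵥ z with hv
    have hgv : (g : Matrix (Fin n) (Fin n) F) *ᵥ v = z := by
      rw [hv, Matrix.mulVec_mulVec, ← Units.val_mul, mul_inv_cancel, Units.val_one,
        Matrix.one_mulVec]
    have hzco : z ∈ co D j := by
      rw [← hgv, ← sum_pr hD v, Matrix.mulVec_sum]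
      apply Submodule.sum_mem
      intro a _
      exact le_co (hne a) (hσ a _ (pr_mem hD a v))
    have h1 := pr_same hD hz
    rw [pr_of_mem_co hD hzco] at h1
    exact hz0 h1.symm
  have hinj : Function.Injective σ := Finite.injective_iff_surjective.mpr hsurj
  exact hg (mem_stab_of_mapsTo hD (Equiv.ofBijective σ ⟨hinj, hsurj⟩) g
    (fun i v hv => hσ i v hv))

end Cfsg.Agent.Lib.Helper9.C2Leaf
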