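import Mathlib
import Cfsg.Prelude.Def_GeometricClasses
import Cfsg.Agent.Lib.Helper5.SUMax
import Cfsg.Agent.Lib.Helper18.C2Defs
import Cfsg.Agent.Lib.Helper9.C2L2
import Cfsg.Agent.Lib.Helper6.UADefs

/-!
S5655 part A (helper6's sub-market), leaves A1 `block_iso_mem`, A2 `exists_mixed`, A6 `exists_zeta`
(exact signatures of `notes/S5655_A_leaves.lean`).
-/

set_option autoImplicit false
set_option linter.unusedSectionVars false
set_option linter.unusedVariables false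

namespace Cfsg.Agent.Lib.Helper9.UALeaf
open Cfsg Matrix Cfsg.Agent.Lib.Helper5.UForm Cfsg.Agent.Lib.Helper5.HermBridge
  Cfsg.Agent.Lib.Helper5.SUGen Cfsg.Agent.Lib.Helper5.SUMax Cfsg.Agent.Lib.Helper18.C2
  Cfsg.Agent.Lib.Helper6.UA

variable {F : Type*} [Field F] [Fintype F] {q n t k : ℕ} (hF : Fintype.card F = q ^ 2)
  {D : Fin t → Submodule F (Fin n → F)}
  (hD : Cfsg.Geo.IsNondegenerateMDecomposition (Cfsg.hermForm n F q) k D)
  {M : Subgroup (GL (Fin n) F)}
include hF hD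

/-! ## A1 (small): isotropic block vectors are centres -/
theorem block_iso_mem (hH : HU D q ≤ M) {i : Fin t} {u : Fin n → F} (hu : u ∈ D i)
    (huu : Cfsg.hermForm n F q u u = 0) : u ∈ Sset hF M := by
  intro c hc g hg
  apply hH
  refine ⟨?_, tv_mem_G hF huu hc hg⟩
  apply mem_stab_of_mapsTo hD.decomp 1 g
  intro l v hv
  rw [hg, Equiv.Perm.one_apply]
  by_cases hli : l = i
  · rw [hli] at hv ⊢
    exact (D i).add_mem hv ((D i).smul_mem _ hu)
  · rw [hD.orthogonal l i hli v hv u hu, mul_zero, zero_smul, add_zero]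
    exact hv

/-! ## A2 (medium) -/
theorem exists_mixed (hk : 2 ≤ k) {g : GL (Fin n) F} (hgU : g ∈ Cfsg.GU n F q)
    (hg : g ∉ Cfsg.Geo.decompositionStabilizer D) :
    ∃ i, ∃ u ∈ D i, Cfsg.hermForm n F q u u = 0 ∧
      ¬ Pure D ((g : Matrix (Fin n) (Fin n) F) *ᵥ u) := by
  have hf := herm_unitary (n := n) hF
  by_contra hcon
  have hp : ∀ i, ∀ u ∈ D i, Cfsg.hermForm n F q u u = 0 →
      Pure D ((g : Matrix (Fin n) (Fin n) F) *ᵥ u) := by
    intro i u hu huu
    by_contra hne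
    exact hcon ⟨i, u, hu, huu, hne⟩
  obtain ⟨a, x, hx, hnp⟩ := Cfsg.Agent.Lib.Helper9.C2Leaf.exists_nonpure hD.decomp g hg
  apply hnp
  have hND := ND_block hD a
  have hfin : 2 ≤ Module.finrank F (D a) := by
    rw [hD.decomp.finrank_eq]
    exact hk
  obtain ⟨u₀, hu₀, e', he', hu₀u₀, he'e', h1⟩ := exists_hyp hf hND hfin
  obtain ⟨j₀, hj₀⟩ := hp a u₀ hu₀ hu₀u₀
  -- an isotropic vector not orthogonal to a vector mapped into `D j₀` is mapped into `D j₀`
  have H : ∀ v ∈ D a, Cfsg.hermForm n F q v v = 0 → ∀ r ∈ D a,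
      (g : Matrix (Fin n) (Fin n) F) *ᵥ r ∈ D j₀ → Cfsg.hermForm n F q v r ≠ 0 →
      (g : Matrix (Fin n) (Fin n) F) *ᵥ v ∈ D j₀ := by
    intro v hv hvv r hr hgr hvr
    obtain ⟨j', hj'⟩ := hp a v hv hvv
    by_cases hjj : j' = j₀
    · rw [← hjj]
      exact hj'
    · exfalso
      apply hvr
      rw [← mem_GU.mp hgU v r]
      exact hD.orthogonal j' j₀ hjj _ hj' _ hgr
  have he'u₀ : Cfsg.hermForm n F q e' u₀ ≠ 0 := by
    apply u_symm_ne hf
    rw [h1]
    exact one_ne_zero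
  have hge' : (g : Matrix (Fin n) (Fin n) F) *ᵥ e' ∈ D j₀ := H e' he' he'e' u₀ hu₀ hj₀ he'u₀
  -- all isotropic vectors of the block
  have Hiso : ∀ v ∈ D a, Cfsg.hermForm n F q v v = 0 →
      (g : Matrix (Fin n) (Fin n) F) *ᵥ v ∈ D j₀ := by
    intro v hv hvv
    by_cases h1' : Cfsg.hermForm n F q v u₀ ≠ 0
    · exact H v hv hvv u₀ hu₀ hj₀ h1'
    rw [not_not] at h1'
    by_cases h2' : Cfsg.hermForm n F q v e' ≠ 0
    · exact H v hv hvv e' he' hge' h2'
    rw [not_not] at h2'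
    have hiso : Cfsg.hermForm n F q (u₀ + v) (u₀ + v) = 0 := by
      rw [hf.add_left, u_add_right hf, u_add_right hf, hu₀u₀, hvv, h1', u_symm_zero hf h1']
      ring
    have hne : Cfsg.hermForm n F q (u₀ + v) e' ≠ 0 := by
      rw [hf.add_left, h1, h2', add_zero]
      exact one_ne_zero
    have h3 := H (u₀ + v) ((D a).add_mem hu₀ hv) hiso e' he' hge' hne
    rw [Matrix.mulVec_add] at h3
    have := (D j₀).sub_mem h3 hj₀
    rwa [add_sub_cancel_left] at this
  -- all vectors of the block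
  have key : ∀ y ∈ D a, ∀ r ∈ D a, Cfsg.hermForm n F q r r = 0 →
      Cfsg.hermForm n F q y r ≠ 0 → (g : Matrix (Fin n) (Fin n) F) *ᵥ y ∈ D j₀ := by
    intro y hy r hr hrr hyr
    obtain ⟨l, hl⟩ := exists_iso_add hf hrr hyr 0 (map_zero _)
    have h3 := Hiso (y + l • r) ((D a).add_mem hy ((D a).smul_mem _ hr)) hl
    rw [Matrix.mulVec_add, Matrix.mulVec_smul] at h3
    have h4 := (D j₀).smul_mem l (Hiso r hr hrr)
    have := (D j₀).sub_mem h3 h4
    rwa [add_sub_cancel_right] at this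
  refine ⟨j₀, ?_⟩
  by_cases h1' : Cfsg.hermForm n F q x u₀ ≠ 0
  · exact key x hx u₀ hu₀ hu₀u₀ h1'
  rw [not_not] at h1'
  by_cases h2' : Cfsg.hermForm n F q x e' ≠ 0
  · exact key x hx e' he' he'e' h2'
  rw [not_not] at h2'
  have hne : Cfsg.hermForm n F q (u₀ + x) e' ≠ 0 := by
    rw [hf.add_left, h1, h2', add_zero]
    exact one_ne_zero
  have h3 := key (u₀ + x) ((D a).add_mem hu₀ hx) e' he' he'e' hne
  rw [Matrix.mulVec_add] at h3
  have := (D j₀).sub_mem h3 hj₀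
  rwa [add_sub_cancel_left] at this

/-! ## A6 (small): an element of norm one outside the fixed field -/
theorem exists_zeta : ∃ ζ : F, ζ * frobQ hF ζ = 1 ∧ frobQ hF ζ ≠ ζ := by
  have hf := herm_unitary (n := n) hF
  -- `θ` neither fixed nor skew
  obtain ⟨θ, hθ1, hθ2⟩ : ∃ θ : F, frobQ hF θ ≠ θ ∧ θ + frobQ hF θ ≠ 0 := by
    obtain ⟨θ, hθ⟩ := exists_moved (σ := frobQ hF) hf.ne_refl
    by_cases h2 : θ + frobQ hF θ ≠ 0
    · exact ⟨θ, hθ, h2⟩
    rw [not_not] at h2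
    have hs : frobQ hF θ = -θ := by linear_combination h2
    have h2θ : (2 : F) * θ ≠ 0 := by
      intro h0
      apply hθ
      rw [hs]
      linear_combination -h0
    have h2ne : (2 : F) ≠ 0 := left_ne_zero_of_mul h2θ
    refine ⟨1 + θ, ?_, ?_⟩
    · rw [map_add, map_one, hs]
      intro h0
      apply h2θ
      linear_combination -h0
    · rw [map_add, map_one, hs]
      intro h0
      apply h2ne
      linear_combination h0
  have hθ0 : θ ≠ 0 := by
    rintro rfl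
    exact hθ1 (map_zero _)
  have hσθ0 : frobQ hF θ ≠ 0 := by rwa [Ne, map_eq_zero]
  refine ⟨θ / frobQ hF θ, ?_, ?_⟩
  · rw [map_div₀, hf.involutive]
    field_simp
  · rw [map_div₀, hf.involutive]
    intro h0
    rw [div_eq_div_iff hθ0 hσθ0] at h0
    have h3 : (frobQ hF θ - θ) * (θ + frobQ hF θ) = 0 := by linear_combination h0
    rcases mul_eq_zero.mp h3 with h4 | h4
    · exact hθ1 (sub_eq_zero.mp h4)
    · exact hθ2 h4

end Cfsg.Agent.Lib.Helper9.UALeaf
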