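/-
helper9: DEFECT-ONE cluster, Part O (planner helper27): shared lemmas for the abstract-side value/degree leaves
VALX, DEGX, GALY, DEGY (generalized decomposition numbers `D χ (x0^k)` via the unit sums of helper6's `Def1AbsMain`).
-/
import Mathlib
import Cfsg.Prelude.Def_BlockRank
import Cfsg.Agent.Lib.Helper27.DODefs
import Cfsg.Agent.Lib.Helper27.BlkAlgDefs2
import Cfsg.Agent.Lib.Helper6.Def1AbsMain
import Cfsg.Agent.Lib.Helper6.DefectOrder
import Cfsg.Agent.Lib.Helper24.IrrFacts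

set_option autoImplicit false

namespace Cfsg.Agent.Lib.Helper9.DOBase

open Cfsg Cfsg.Agent.Lib.Helper8.DOM Cfsg.Agent.Lib.Helper27.DO Cfsg.Agent.Lib.Helper27.BlkAlg
open scoped ComplexConjugate

universe u

section data

variable {G : Type u} [Group G] [Finite G] {p : ℕ} [Fact p.Prime] {M : Ideal AlgInt}
  {P : Subgroup G} {B : Set (IrrCharacter G)} {θ : IrrCharacter (Cz P)} {T : Subgroup G} {x0 : G}
  {E : Subgroup (ZMod p)ˣ} {μ : IrrCharacter G → ZMod p → ℤ} {D : IrrCharacter G → G → ℂ}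

omit [Finite G] in
theorem zetaP_prim : IsPrimitiveRoot (zetaP p) p :=
  Complex.isPrimitiveRoot_exp p (Fact.out : p.Prime).ne_zero

omit [Finite G] in
theorem orderOf_x0 (d : GSData p P B θ T x0 E μ D) (hP : Nat.card P = p) : orderOf x0 = p := by
  rw [← hP, d.gen, Nat.card_zpowers]

/-- a non-identity element of `P` is `x0 ^ k` with `p ∤ k` -/
theorem exists_pow (d : GSData p P B θ T x0 E μ D) (hP : Nat.card P = p) (x : G) (hx : x ∈ P)
    (hx1 : x ≠ 1) : ∃ k : ℕ, ¬ p ∣ k ∧ x = x0 ^ k := by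
  classical
  have ho := orderOf_x0 d hP
  rw [d.gen, mem_zpowers_iff_mem_range_orderOf] at hx
  obtain ⟨k, hk, rfl⟩ := Finset.mem_image.mp hx
  refine ⟨k, ?_, rfl⟩
  intro hdvd
  apply hx1
  rw [← ho] at hdvd
  exact orderOf_dvd_iff_pow_eq_one.mp hdvd

omit [Finite G] in
/-- `x0 ^ k ≠ 1` for `p ∤ k` -/
theorem pow_ne_one (d : GSData p P B θ T x0 E μ D) (hP : Nat.card P = p) (k : ℕ) (hk : ¬ p ∣ k) :
    x0 ^ k ≠ 1 := by
  intro h
  apply hk
  rw [← orderOf_x0 d hP]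
  exact orderOf_dvd_iff_pow_eq_one.mpr h

/-- the unit of `ZMod p` attached to `k` with `p ∤ k` -/
noncomputable def unitOf (p : ℕ) [Fact p.Prime] (k : ℕ) (hk : ¬ p ∣ k) : (ZMod p)ˣ :=
  Units.mk0 (k : ZMod p) (by
    intro h
    exact hk ((ZMod.natCast_eq_zero_iff k p).mp h))

theorem unitOf_coe (k : ℕ) (hk : ¬ p ∣ k) : ((unitOf p k hk : (ZMod p)ˣ) : ZMod p) = (k : ZMod p) := rfl

omit [Finite G] in
/-- the generalized decomposition numbers as sums over the units -/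
theorem D_pow (d : GSData p P B θ T x0 E μ D) (χ : IrrCharacter G) (k : ℕ) (hk : ¬ p ∣ k) :
    D χ (x0 ^ k) = ∑ u : (ZMod p)ˣ, ((μ χ u - μ χ 0 : ℤ) : ℂ) *
      zetaP p ^ ((u : ZMod p) * (k : ZMod p)).val := by
  have hζ : IsPrimitiveRoot (zetaP p) p := zetaP_prim
  have h1 := Cfsg.Agent.Lib.Helper6.Def1AbsMain.D_eq_sum_units (B := Unit) hζ (fun _ => μ χ)
    (fun _ a => ∑ i : ZMod p, (μ χ i : ℂ) * zetaP p ^ (i * (a : ZMod p)).val) (fun _ _ => rfl) ()
    (unitOf p k hk)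
  simp only [unitOf_coe] at h1
  rw [← h1, d.D_eq χ k, finsum_eq_sum_of_fintype]
  apply Finset.sum_congr rfl
  intro i _
  congr 1
  rw [pow_eq_pow_mod (i.val * k) hζ.pow_eq_one, ZMod.val_mul, ZMod.val_natCast]
  congr 1
  exact (Nat.mul_mod_mod _ _ _).symm

omit [Finite G] in
/-- conjugates of non-identity elements of `P` by elements of `N_G(P)` -/
theorem conj_mem (n : G) (hn : n ∈ Nz P) (x : G) (hx : x ∈ P) (hx1 : x ≠ 1) :
    n * x * n⁻¹ ∈ P ∧ n * x * n⁻¹ ≠ 1 := by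
  refine ⟨(Subgroup.mem_normalizer_iff.mp hn x).mp hx, ?_⟩
  intro h
  apply hx1
  have : x = n⁻¹ * (n * x * n⁻¹) * n := by group
  rw [this, h]
  group

end data

end Cfsg.Agent.Lib.Helper9.DOBase
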