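/-
helper9: DEFECT-ONE cluster, Part O (planner helper27): shared lemmas for the degree leaves DEGX, DEGY
(sum of a character of the block over `P`, values on `P \ 1` through `d.val` at `y = 1`).
-/
import Mathlib
import Cfsg.Prelude.Def_BlockRank
import Cfsg.Agent.Lib.Helper27.DODefs
import Cfsg.Agent.Lib.Helper27.BlkAlgDefs2
import Cfsg.Agent.Lib.Helper9.DOBase
import Cfsg.Agent.Lib.Helper16.DOINERT

set_option autoImplicit false

namespace Cfsg.Agent.Lib.Helper9.DODEG

open Cfsg Cfsg.Agent.Lib.Helper8.DOM Cfsg.Agent.Lib.Helper27.DO Cfsg.Agent.Lib.Helper27.BlkAlg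
open scoped ComplexConjugate
open Cfsg.Agent.Lib.Helper9.DOBase

universe u

section data

variable {G : Type u} [Group G] [Finite G] {p : ℕ} [Fact p.Prime] {M : Ideal AlgInt}
  {P : Subgroup G} {B : Set (IrrCharacter G)} {θ : IrrCharacter (Cz P)} {T : Subgroup G} {x0 : G}
  {E : Subgroup (ZMod p)ˣ} {μ : IrrCharacter G → ZMod p → ℤ} {D : IrrCharacter G → G → ℂ}

omit [Finite G] in
theorem extendByZero_one (H : Subgroup G) (φ : H → ℂ) : extendByZero H φ 1 = φ 1 := by
  have : (1 : G) = ((1 : H) : G) := rfl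
  rw [extendByZero, this, Subtype.val_injective.extend_apply]

/-- the value of `χ ∈ B` at `1 ≠ x ∈ P` -/
theorem apply_of_mem (d : GSData p P B θ T x0 E μ D) (χ : IrrCharacter G) (hχ : χ ∈ B)
    (x : G) (hx : x ∈ P) (hx1 : x ≠ 1) [Fintype (Nz P)] :
    (χ : G → ℂ) x = (Nat.card T : ℂ)⁻¹ * ((charDegree (θ : Cz P → ℂ) : ℂ) *
      ∑ n : Nz P, D χ ((n : G) * x * (n : G)⁻¹)) := by
  have h1 : (1 : G) ∈ Cz P := (Cz P).one_mem
  have h2 : ¬ p ∣ orderOf (1 : G) := by
    rw [orderOf_one]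
    exact (Fact.out : p.Prime).one_lt.ne' ∘ Nat.dvd_one.mp
  have h := d.val χ hχ x hx hx1 1 h1 h2
  rw [mul_one] at h
  rw [h, finsum_eq_sum_of_fintype]
  congr 1
  rw [Finset.mul_sum]
  apply Finset.sum_congr rfl
  intro n _
  rw [mul_one, mul_inv_cancel, extendByZero_one, Cfsg.Agent.Lib.Helper24.irr_apply_one]
  ring

/-- the elements of `P` as a finset of `G` -/
noncomputable def Pf (P : Subgroup G) : Finset G := (Set.toFinite (P : Set G)).toFinset

theorem mem_Pf {P : Subgroup G} {x : G} : x ∈ Pf P ↔ x ∈ P := by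
  unfold Pf
  rw [Set.Finite.mem_toFinset]
  rfl


omit [Fact p.Prime] in
theorem card_Pf (P : Subgroup G) : (Pf P).card = Nat.card P :=
  (Nat.card_eq_card_finite_toFinset (Set.toFinite (P : Set G))).symm

omit [Fact p.Prime] in
/-- `|K| = |K : H| |H|` for `H ≤ K` -/
theorem card_eq_relIndex_mul {H K : Subgroup G} (h : H ≤ K) :
    Nat.card K = H.relIndex K * Nat.card H := by
  have h1 := Subgroup.card_mul_index (H.subgroupOf K)
  rw [Nat.card_congr (Subgroup.subgroupOfEquivOfLe h).toEquiv] at h1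
  rw [Subgroup.relIndex, ← h1, mul_comm]

omit [Fact p.Prime] in
theorem relIndex_ne_zero' (H K : Subgroup G) : H.relIndex K ≠ 0 := by
  unfold Subgroup.relIndex
  exact Subgroup.index_ne_zero_of_finite

/-- `∑_{x ∈ P} χ(x) = p m` -/
theorem exists_sum_eq (hP : Nat.card P = p) (χ : IrrCharacter G) :
    ∃ m : ℕ, ∑ x ∈ Pf P, (χ : G → ℂ) x = (p : ℂ) * (m : ℂ) := by
  classical
  haveI : Fintype G := Fintype.ofFinite _
  haveI : Fintype P := Fintype.ofFinite _
  obtain ⟨m, hm⟩ := Cfsg.Agent.Lib.Helper6.exists_sum_subgroup_eq (χ : G → ℂ)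
    (Cfsg.Agent.CharLib.IsIrrCharacter.isCharacter χ.2) P
  refine ⟨m, ?_⟩
  rw [← hP, ← hm]
  symm
  apply Finset.sum_bij (fun (u : P) _ => (u : G))
  · intro u _
    exact mem_Pf.mpr u.2
  · intro a _ b _ h
    exact Subtype.ext h
  · intro b hb
    exact ⟨⟨b, mem_Pf.mp hb⟩, Finset.mem_univ _, rfl⟩
  · intro u _
    rfl

open Classical in
/-- parametrization of `P \ 1` by the units of `ZMod p` -/
theorem sum_erase_eq (d : GSData p P B θ T x0 E μ D) (hP : Nat.card P = p) (g : G → ℂ) :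
    ∑ x ∈ (Pf P).erase 1, g x = ∑ u : (ZMod p)ˣ, g (x0 ^ (u : ZMod p).val) := by
  classical
  have ho := orderOf_x0 d hP
  have hx0P : x0 ∈ P := by rw [d.gen]; exact Subgroup.mem_zpowers x0
  symm
  apply Finset.sum_bij (fun (u : (ZMod p)ˣ) _ => x0 ^ (u : ZMod p).val)
  · intro u _
    rw [Finset.mem_erase]
    refine ⟨?_, mem_Pf.mpr (P.pow_mem hx0P _)⟩
    apply pow_ne_one d hP
    intro h
    have h0 : (((u : ZMod p).val : ℕ) : ZMod p) = 0 := (ZMod.natCast_eq_zero_iff _ p).mpr h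
    rw [ZMod.natCast_zmod_val] at h0
    exact Units.ne_zero u h0
  · intro a _ b _ h
    have ha : (a : ZMod p).val < orderOf x0 := by rw [ho]; exact ZMod.val_lt _
    have hb : (b : ZMod p).val < orderOf x0 := by rw [ho]; exact ZMod.val_lt _
    have := pow_injOn_Iio_orderOf (Set.mem_Iio.mpr ha) (Set.mem_Iio.mpr hb) h
    exact Units.ext (ZMod.val_injective p this)
  · intro x hx
    rw [Finset.mem_erase] at hx
    obtain ⟨k, hk, rfl⟩ := exists_pow d hP x (mem_Pf.mp hx.2) hx.1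
    refine ⟨unitOf p k hk, Finset.mem_univ _, ?_⟩
    show x0 ^ ((k : ZMod p)).val = x0 ^ k
    rw [ZMod.val_natCast, ← ho, pow_mod_orderOf]
  · intro u _
    rfl

end data

end Cfsg.Agent.Lib.Helper9.DODEG
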