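/-
helper9: DEFECT-ONE cluster, Part O (planner helper27), leaf VALX `valX_of_data`.
-/
import Mathlib
import Cfsg.Prelude.Def_BlockRank
import Cfsg.Agent.Lib.Helper27.DODefs
import Cfsg.Agent.Lib.Helper27.BlkAlgDefs2
import Cfsg.Agent.Lib.Helper9.DOBase

set_option autoImplicit false

namespace Cfsg.Agent.Lib.Helper9.DOVALX

open Cfsg Cfsg.Agent.Lib.Helper8.DOM Cfsg.Agent.Lib.Helper27.DO Cfsg.Agent.Lib.Helper27.BlkAlg
open scoped ComplexConjugate
open Cfsg.Agent.Lib.Helper9.DOBase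

universe u

section data

variable {G : Type u} [Group G] [Finite G] {p : ℕ} [Fact p.Prime] {M : Ideal AlgInt}
  {P : Subgroup G} {B : Set (IrrCharacter G)} {θ : IrrCharacter (Cz P)} {T : Subgroup G} {x0 : G}
  {E : Subgroup (ZMod p)ˣ} {μ : IrrCharacter G → ZMod p → ℤ} {D : IrrCharacter G → G → ℂ}

/-- a constant row has `D χ = v` on `P \ 1` -/
theorem D_const (d : GSData p P B θ T x0 E μ D) (hP : Nat.card P = p)
    (χ : IrrCharacter G) (v : ℤ) (hv : ∀ k : (ZMod p)ˣ, μ χ k - μ χ 0 = - v)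
    (x : G) (hx : x ∈ P) (hx1 : x ≠ 1) : D χ x = (v : ℂ) := by
  obtain ⟨k, hk, rfl⟩ := exists_pow d hP x hx hx1
  rw [D_pow d χ k hk]
  simp only [hv]
  rw [← Finset.mul_sum]
  have h := Cfsg.Agent.Lib.Helper6.Def1AbsMain.sum_units_zeta (zetaP_prim (p := p)) (unitOf p k hk)
  simp only [unitOf_coe] at h
  rw [h]
  push_cast
  ring

/-- VALX -/
theorem valX_of_data (d : GSData p P B θ T x0 E μ D) (hP : Nat.card P = p)
    (χ : IrrCharacter G) (hχ : χ ∈ B) (v : ℤ) (hv : ∀ k : (ZMod p)ˣ, μ χ k - μ χ 0 = - v) :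
    ∀ x ∈ P, x ≠ 1 → ∀ y ∈ Cz P, ¬ p ∣ orderOf y →
      (χ : G → ℂ) (x * y) = (v : ℂ) * thetaSum P (θ : Cz P → ℂ) T y := by
  intro x hx hx1 y hy hyp
  rw [d.val χ hχ x hx hx1 y hy hyp, thetaSum]
  have : ∀ n : Nz P, D χ ((n : G) * x * (n : G)⁻¹) = (v : ℂ) := by
    intro n
    obtain ⟨h1, h2⟩ := conj_mem (n : G) n.2 x hx hx1
    exact D_const d hP χ v hv _ h1 h2
  simp only [this]
  rw [← mul_finsum]
  ring

end data

end Cfsg.Agent.Lib.Helper9.DOVALX
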