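/-
helper9: DEFECT-ONE cluster, Part O (planner helper27), leaf DEGX `degX_of_data`.
-/
import Mathlib
import Cfsg.Prelude.Def_BlockRank
import Cfsg.Agent.Lib.Helper27.DODefs
import Cfsg.Agent.Lib.Helper27.BlkAlgDefs2
import Cfsg.Agent.Lib.Helper9.DODEG
import Cfsg.Agent.Lib.Helper9.DOVALX

set_option autoImplicit false

namespace Cfsg.Agent.Lib.Helper9.DODEGX

open Cfsg Cfsg.Agent.Lib.Helper8.DOM Cfsg.Agent.Lib.Helper27.DO Cfsg.Agent.Lib.Helper27.BlkAlg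
open scoped ComplexConjugate
open Cfsg.Agent.Lib.Helper9.DOBase Cfsg.Agent.Lib.Helper9.DODEG

universe u

section data

variable {G : Type u} [Group G] [Finite G] {p : ℕ} [Fact p.Prime] {M : Ideal AlgInt}
  {P : Subgroup G} {B : Set (IrrCharacter G)} {θ : IrrCharacter (Cz P)} {T : Subgroup G} {x0 : G}
  {E : Subgroup (ZMod p)ˣ} {μ : IrrCharacter G → ZMod p → ℤ} {D : IrrCharacter G → G → ℂ}

/-- DEGX -/
theorem degX_of_data (d : GSData p P B θ T x0 E μ D) (hP : Nat.card P = p)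
    (hT : IsInertia P (θ : Cz P → ℂ) T)
    (χ : IrrCharacter G) (hχ : χ ∈ B) (v : ℤ) (hv : ∀ k : (ZMod p)ˣ, μ χ k - μ χ 0 = - v) :
    (charDegree (χ : G → ℂ) : ℤ) ≡
      v * (((Cz P).relIndex (Nz P) / (Cz P).relIndex T * charDegree (θ : Cz P → ℂ) : ℕ) : ℤ)
        [ZMOD p] := by
  classical
  haveI : Fintype (Nz P) := Fintype.ofFinite _
  have hp : p.Prime := Fact.out
  obtain ⟨hCT, hTN⟩ := Cfsg.Agent.Lib.Helper16.DOINERT.le_of_isInertia P θ T hT
  set r := T.relIndex (Nz P) with hr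
  have hcard : Nat.card (Nz P) = r * Nat.card T := card_eq_relIndex_mul hTN
  have hquot : (Cz P).relIndex (Nz P) / (Cz P).relIndex T = r := by
    rw [← Subgroup.relIndex_mul_relIndex (Cz P) T (Nz P) hCT hTN]
    exact Nat.mul_div_cancel_left _ (Nat.pos_of_ne_zero (relIndex_ne_zero' _ _))
  rw [hquot]
  have hT0 : (Nat.card T : ℂ) ≠ 0 := Nat.cast_ne_zero.mpr Nat.card_pos.ne'
  -- values on `P \ 1`
  have hval : ∀ x ∈ (Pf P).erase 1, (χ : G → ℂ) x =
      (v : ℂ) * (r : ℂ) * (charDegree (θ : Cz P → ℂ) : ℂ) := by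
    intro x hx
    rw [Finset.mem_erase] at hx
    have hxP := mem_Pf.mp hx.2
    rw [apply_of_mem d χ hχ x hxP hx.1]
    have : ∀ n : Nz P, D χ ((n : G) * x * (n : G)⁻¹) = (v : ℂ) := by
      intro n
      obtain ⟨h1, h2⟩ := conj_mem (n : G) n.2 x hxP hx.1
      exact Cfsg.Agent.Lib.Helper9.DOVALX.D_const d hP χ v hv _ h1 h2
    simp only [this, Finset.sum_const, Finset.card_univ, nsmul_eq_mul]
    rw [← Nat.card_eq_fintype_card, hcard]
    push_cast
    field_simp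
  obtain ⟨m, hm⟩ := exists_sum_eq hP χ
  have h1P : (1 : G) ∈ Pf P := mem_Pf.mpr P.one_mem
  rw [← Finset.add_sum_erase _ _ h1P, Finset.sum_congr rfl hval, Finset.sum_const,
    Cfsg.Agent.Lib.Helper24.irr_apply_one] at hm
  have hcardP : ((Pf P).erase 1).card = p - 1 := by
    rw [Finset.card_erase_of_mem h1P, card_Pf, hP]
  rw [hcardP, nsmul_eq_mul] at hm
  have hp1 : ((p - 1 : ℕ) : ℂ) = (p : ℂ) - 1 := by
    rw [Nat.cast_sub hp.one_lt.le]; simp
  rw [hp1] at hm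
  have hmZ : (charDegree (χ : G → ℂ) : ℤ) + ((p : ℤ) - 1) * (v * (r : ℤ) * (charDegree (θ : Cz P → ℂ) : ℤ)) =
      (p : ℤ) * (m : ℤ) := by
    exact_mod_cast hm
  rw [Int.modEq_iff_dvd]
  refine ⟨v * (r : ℤ) * (charDegree (θ : Cz P → ℂ) : ℤ) - m, ?_⟩
  push_cast
  linear_combination (-1 : ℤ) * hmZ

end data

end Cfsg.Agent.Lib.Helper9.DODEGX
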