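/-
Helper9 library: the preimage of `E(N / O_{p'}(N))` in `N = N_G(P)` centralizes `O_p(G)`.
-/
import Cfsg.Agent.Lib.Helper9.NormalizerChain2
import Cfsg.Agent.Lib.Helper9.PComponent2

set_option autoImplicit false

namespace Cfsg.Agent.Lib.Helper9

universe u

variable {Y : Type u} [Group Y]

/-- `O_p(Y)` commutes with every `p`-component of `Y`. -/
theorem commutator_pCore_pComponent [Finite Y] {p : ℕ} [Fact p.Prime] {K : Subgroup Y}
    (hK : Cfsg.IsPComponent p K) : ⁅Cfsg.pCore p Y, K⁆ = ⊥ := by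
  set π := QuotientGroup.mk' (Cfsg.pPrimeCore p Y) with hπ
  have hF : Cfsg.fittingSubgroup (Y ⧸ Cfsg.pPrimeCore p Y) =
      Cfsg.pCore p (Y ⧸ Cfsg.pPrimeCore p Y) :=
    fittingSubgroup_eq_pCore_of_pPrimeCore_eq_bot p (pPrimeCore_quotient_eq_bot p)
  have h1 : (Cfsg.pCore p Y).map π ≤ Cfsg.pCore p (Y ⧸ Cfsg.pPrimeCore p Y) := by
    apply Cfsg.Agent.Lib.Helper1.le_pCore
      ((Cfsg.pCore_normal p Y).map π (QuotientGroup.mk'_surjective _))
    exact (Cfsg.Agent.Lib.Helper1.pCore_isPGroup p Y).map π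
  have h2 : ⁅(Cfsg.pCore p Y).map π, K.map π⁆ = ⊥ := by
    rw [Subgroup.commutator_comm, Subgroup.commutator_eq_bot_iff_le_centralizer]
    refine ((component_le_layer hK.2.1).trans layer_le_centralizer_fittingSubgroup).trans ?_
    rw [hF]
    exact Subgroup.centralizer_le h1
  rw [← Subgroup.map_commutator] at h2
  have h3 : ⁅Cfsg.pCore p Y, K⁆ ≤ Cfsg.pPrimeCore p Y := by
    intro x hx
    have : π x ∈ (⁅Cfsg.pCore p Y, K⁆).map π := Subgroup.mem_map_of_mem π hx
    rw [h2, Subgroup.mem_bot] at this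
    exact (QuotientGroup.eq_one_iff x).mp this
  have h4 : ⁅Cfsg.pCore p Y, K⁆ ≤ Cfsg.pCore p Y := Subgroup.commutator_le_left _ _
  have h5 : Cfsg.pCore p Y ⊓ Cfsg.pPrimeCore p Y = ⊥ := by
    apply Disjoint.eq_bot
    apply Subgroup.disjoint_of_coprime_natCard
    obtain ⟨k, hk⟩ := IsPGroup.iff_card.mp (Cfsg.Agent.Lib.Helper1.pCore_isPGroup p Y)
    rw [hk]
    exact Nat.Coprime.pow_left k (Cfsg.Agent.Lib.Helper12.pPrimeCore_coprime p).symm
  rw [eq_bot_iff, ← h5]
  exact le_inf h4 h3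

/-- `O_p(Y)` commutes with `L_{p'}(Y) O_{p'}(Y)`. -/
theorem commutator_pCore_pLayer_sup_pPrimeCore [Finite Y] (p : ℕ) [Fact p.Prime] :
    ⁅Cfsg.pCore p Y, Cfsg.pLayer p Y ⊔ Cfsg.pPrimeCore p Y⁆ = ⊥ := by
  rw [Subgroup.commutator_comm, Subgroup.commutator_eq_bot_iff_le_centralizer]
  apply sup_le
  · apply sSup_le
    intro K hK
    rw [← Subgroup.commutator_eq_bot_iff_le_centralizer, Subgroup.commutator_comm]
    exact commutator_pCore_pComponent hK
  · rw [← Subgroup.commutator_eq_bot_iff_le_centralizer, Subgroup.commutator_comm]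
    exact commutator_pCore_pPrimeCore p

/-- The full preimage of `E(Y / O_{p'}(Y))` is `L_{p'}(Y) O_{p'}(Y)`. -/
theorem comap_layer_quotient_eq [Finite Y] (p : ℕ) [Fact p.Prime] :
    (Cfsg.layer (Y ⧸ Cfsg.pPrimeCore p Y)).comap (QuotientGroup.mk' (Cfsg.pPrimeCore p Y)) =
      Cfsg.pLayer p Y ⊔ Cfsg.pPrimeCore p Y := by
  have h : (Cfsg.pLayer p Y).map (QuotientGroup.mk' (Cfsg.pPrimeCore p Y)) =
      Cfsg.layer (Y ⧸ Cfsg.pPrimeCore p Y) := by
    apply le_antisymm
    · rw [Subgroup.map_le_iff_le_comap]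
      apply sSup_le
      intro K hK
      rw [← Subgroup.map_le_iff_le_comap]
      exact component_le_layer hK.2.1
    · apply layer_le_of_forall_component_le
      intro Kbar hKbar
      obtain ⟨K, hK, hKimg⟩ := exists_isPComponent_map_eq p hKbar
      rw [← hKimg]
      exact Subgroup.map_mono (le_sSup hK)
  rw [← h, Subgroup.comap_map_eq, QuotientGroup.ker_mk']

variable {G : Type u} [Group G]

/-- `p`-stability of the image of `L_{p'}(H) O_{p'}(H)` in `G`. -/
theorem pStable_map_pLayer_sup_pPrimeCore [Finite G] (p : ℕ) [Fact p.Prime] (H : Subgroup G) :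
    PStable p ((Cfsg.pLayer p ↥H ⊔ Cfsg.pPrimeCore p ↥H).map H.subtype) := by
  rw [Subgroup.map_sup]
  apply pStable_sup
  · -- the `p`-layer
    intro R₁ R₂ hR₂ hle h1 h2
    rw [Subgroup.commutator_comm, Subgroup.commutator_eq_bot_iff_le_centralizer,
      Subgroup.map_le_iff_le_comap]
    apply sSup_le
    intro K hK
    rw [← Subgroup.map_le_iff_le_comap, ← Subgroup.commutator_eq_bot_iff_le_centralizer,
      Subgroup.commutator_comm]
    have hperf : ⁅K.map H.subtype, K.map H.subtype⁆ = K.map H.subtype := by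
      rw [← Subgroup.map_commutator, IsPComponent_commutator_eq hK]
    have hKle : K.map H.subtype ≤ (Cfsg.pLayer p ↥H).map H.subtype :=
      Subgroup.map_mono (le_sSup hK)
    apply pStable_of_perfect p hperf R₁ R₂ hR₂ hle
    · rw [eq_bot_iff, ← h1]
      exact Subgroup.commutator_mono le_rfl hKle
    · exact (Subgroup.commutator_mono le_rfl hKle).trans h2
  · exact pStable_of_coprime p (pPrimeCoreIn_coprime p H)

/-- **The preimage of `E(N / O_{p'}(N))` in `N = N_G(P)` centralizes `O_p(G)`.** -/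
theorem map_comap_layer_quotient_normalizer_le_centralizer_pCore [Finite G] {p : ℕ}
    [Fact p.Prime] {P : Subgroup G} (hP : IsPGroup p ↥P) :
    ((Cfsg.layer (↥(Subgroup.normalizer (P : Set G)) ⧸
        Cfsg.pPrimeCore p ↥(Subgroup.normalizer (P : Set G)))).comap
      (QuotientGroup.mk' (Cfsg.pPrimeCore p ↥(Subgroup.normalizer (P : Set G))))).map
        (Subgroup.normalizer (P : Set G)).subtype ≤
      Subgroup.centralizer (Cfsg.pCore p G : Set G) := by
  rw [comap_layer_quotient_eq]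
  rw [← Subgroup.commutator_eq_bot_iff_le_centralizer, Subgroup.commutator_comm]
  apply commutator_pCore_eq_bot_of_pStable hP (Subgroup.map_subtype_le _) _
    (pStable_map_pLayer_sup_pPrimeCore p _)
  unfold pCoreIn
  rw [← Subgroup.map_commutator, commutator_pCore_pLayer_sup_pPrimeCore, Subgroup.map_bot]

end Cfsg.Agent.Lib.Helper9
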