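/-
Market FRB (S4427): common definitions.  helper9.
`avg H` = averaging idempotent of the subgroup `H` in the real group algebra,
`ctr g w` = class-trace functional `∑ h, w (h⁻¹ g h)`, `tot` = sum of all group elements,
`rev w` = the anti-involution `g ↦ g⁻¹`.
-/
import Mathlib
import Cfsg.Prelude.Def_Blocks
import Cfsg.Agent.Lib.Helper24.LocalRing

set_option autoImplicit false

namespace Cfsg.Agent.Lib.Helper9.FRB

open Cfsg

variable {G : Type*} [Group G]

open Classical in
/-- The averaging element `|H|⁻¹ ∑_{h ∈ H} h` of a subgroup of a finite group. -/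
noncomputable def avg [Finite G] (H : Subgroup G) : MonoidAlgebra ℝ G :=
  MonoidAlgebra.ofCoeff
    (Finsupp.equivFunOnFinite.symm (fun g : G => if g ∈ H then ((Nat.card H : ℝ))⁻¹ else 0))

open Classical in
theorem avg_coeff [Finite G] (H : Subgroup G) (g : G) :
    (avg H).coeff g = if g ∈ H then ((Nat.card H : ℝ))⁻¹ else 0 := by
  simp [avg]

/-- The class-trace functional `w ↦ ∑ h, w (h⁻¹ g h)`. -/
noncomputable def ctr [Fintype G] (g : G) (w : MonoidAlgebra ℝ G) : ℝ :=
  ∑ h : G, w.coeff (h⁻¹ * g * h)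

/-- The sum of all group elements. -/
noncomputable def tot [Finite G] : MonoidAlgebra ℝ G :=
  MonoidAlgebra.ofCoeff (Finsupp.equivFunOnFinite.symm (fun _ : G => (1 : ℝ)))

omit [Group G] in
theorem tot_coeff [Finite G] (g : G) : (tot : MonoidAlgebra ℝ G).coeff g = 1 := by
  simp [tot]

/-- The anti-involution of the group algebra induced by `g ↦ g⁻¹`. -/
noncomputable def rev [Finite G] (w : MonoidAlgebra ℝ G) : MonoidAlgebra ℝ G :=
  MonoidAlgebra.ofCoeff (Finsupp.equivFunOnFinite.symm (fun g : G => w.coeff g⁻¹))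

theorem rev_coeff [Finite G] (w : MonoidAlgebra ℝ G) (g : G) : (rev w).coeff g = w.coeff g⁻¹ := by
  simp [rev]

end Cfsg.Agent.Lib.Helper9.FRB
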