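import Mathlib
import Cfsg.Prelude.Def_GeometricClasses
import Cfsg.Agent.Lib.Helper5.TMCalc
import Cfsg.Agent.Lib.Helper18.C2Defs
import Cfsg.Agent.Lib.Helper18.C2Ex

/-!
helper9: S5634 C2A leaves L5 (`exists_sl_not_mem`) and L6 (`card_eq_mul`), helper18's market,
exact signatures of notes/S5634_C2A_leaves.lean.
-/

set_option autoImplicit false
set_option linter.unusedSectionVars false
set_option linter.unusedVariables false

namespace Cfsg.Agent.Lib.Helper9.C2Leaf
open Cfsg Matrix Cfsg.Agent.Lib.Helper5.TMCalc Cfsg.Agent.Lib.Helper18.C2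

variable {F : Type*} [Field F] {n t m : ℕ} {D : Fin t → Submodule F (Fin n → F)}

/-- L6: dimension count. -/
theorem card_eq_mul (hD : Cfsg.Geo.IsMDecomposition m D) : n = t * m := by
  classical
  have hint := DirectSum.isInternal_submodule_of_iSupIndep_of_iSup_eq_top hD.indep hD.iSup_eq_top
  have e := LinearEquiv.ofBijective (DirectSum.coeLinearMap D) hint
  have h1 := e.finrank_eq
  rw [Module.finrank_directSum, Module.finrank_fin_fun] at h1
  simp only [hD.finrank_eq] at h1
  rw [Finset.sum_const, Finset.card_univ, Fintype.card_fin, smul_eq_mul] at h1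
  exact h1.symm

/-- L5: the stabiliser does not contain `SL_n`. -/
theorem exists_sl_not_mem (hD : Cfsg.Geo.IsMDecomposition m D) :
    ∃ g ∈ Cfsg.Geo.specialLinear (Fin n) F, g ∉ Cfsg.Geo.decompositionStabilizer D := by
  have ht := hD.two_le
  let k₀ : Fin t := ⟨0, by omega⟩
  let k₁ : Fin t := ⟨1, by omega⟩
  have hk : k₀ ≠ k₁ := by
    intro h
    have := congrArg Fin.val h
    simp [k₀, k₁] at this
  obtain ⟨a, ha, ha0⟩ := exists_mem_ne_zero hD k₀
  obtain ⟨y, hy, hy0⟩ := exists_mem_ne_zero hD k₁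
  obtain ⟨s, hs, hsy⟩ := exists_inBlock_one hD hy hy0
  have hsa : s a = 0 := hs k₀ hk a ha
  obtain ⟨g, hgS, hgv⟩ := exists_rank_one s a hsa
  refine ⟨g, hgS, ?_⟩
  rintro ⟨σ, hσ⟩
  have hmem : (g : Matrix (Fin n) (Fin n) F) *ᵥ y ∈ D (σ k₁) := by
    rw [← hσ k₁]
    exact ⟨y, hy, by rw [Matrix.toLin'_apply]⟩
  rw [hgv, hsy, one_smul] at hmem
  have h0 : σ k₁ = k₀ := by
    by_contra hne
    have h1 := pr_ne hD hne hmem
    rw [map_add, pr_ne hD hk.symm hy, pr_same hD ha, zero_add] at h1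
    exact ha0 h1
  have h1 : σ k₁ = k₁ := by
    by_contra hne
    have h1 := pr_ne hD hne hmem
    rw [map_add, pr_same hD hy, pr_ne hD hk ha, add_zero] at h1
    exact hy0 h1
  exact hk (h0.symm.trans h1)

end Cfsg.Agent.Lib.Helper9.C2Leaf
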