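import Mathlib

/-!
# S4861/2/3 leaves G1a, G1b, G1c (helper9; planner helper12's exact names and binders,
notes/S4861_leaves.lean): minimal normal subgroups.  Mathlib only.
-/

set_option autoImplicit false

namespace Cfsg.Agent.Lib.Helper9.RealP

universe u

variable {G : Type u} [Group G] [Finite G]

/-- G1a: a minimal normal subgroup below a nontrivial normal subgroup. -/
theorem exists_minimal_normal_le (K : Subgroup G) [K.Normal] (hK : K ≠ ⊥) :
    ∃ M : Subgroup G, M.Normal ∧ M ≠ ⊥ ∧ M ≤ K ∧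
      ∀ L : Subgroup G, L.Normal → L ≤ M → L = ⊥ ∨ L = M := by
  classical
  have hex : ∃ n : ℕ, ∃ N : Subgroup G, N.Normal ∧ N ≠ ⊥ ∧ N ≤ K ∧ Nat.card N = n :=
    ⟨_, K, inferInstance, hK, le_rfl, rfl⟩
  obtain ⟨N, hN, hN1, hNK, hNn⟩ := Nat.find_spec hex
  refine ⟨N, hN, hN1, hNK, ?_⟩
  intro L hL hLN
  by_cases hL1 : L = ⊥
  · exact Or.inl hL1
  · right
    have hmin := Nat.find_min' hex ⟨L, hL, hL1, hLN.trans hNK, rfl⟩
    rw [← hNn] at hmin
    exact Subgroup.eq_of_le_of_card_ge hLN hmin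

omit [Finite G] in
/-- G1b: a minimal normal subgroup meets a solvable normal subgroup trivially or is abelian inside
it. -/
theorem minimal_normal_dichotomy (M : Subgroup G) [M.Normal]
    (hmin : ∀ L : Subgroup G, L.Normal → L ≤ M → L = ⊥ ∨ L = M)
    (E : Subgroup G) [E.Normal] (hE : Group.IsSolvable ↥E) :
    M ⊓ E = ⊥ ∨ (M ≤ E ∧ ∀ a ∈ M, ∀ b ∈ M, a * b = b * a) := by
  classical
  by_cases hMbot : M = ⊥
  · left; rw [hMbot, bot_inf_eq]
  rcases hmin (M ⊓ E) inferInstance inf_le_left with h | h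
  · exact Or.inl h
  right
  have hME : M ≤ E := inf_eq_left.mp h
  refine ⟨hME, ?_⟩
  have : Group.IsSolvable ↥M :=
    Group.isSolvable_of_isSolvable_injective (f := Subgroup.inclusion hME) (Subgroup.inclusion_injective hME)
  have : Nontrivial ↥M := (Subgroup.nontrivial_iff_ne_bot M).mpr hMbot
  rcases hmin ⁅M, M⁆ inferInstance (Subgroup.commutator_le_left M M) with h2 | h2
  · have hc := Subgroup.commutator_eq_bot_iff_le_centralizer.mp h2
    intro a ha b hb
    exact ((hc ha) b hb).symm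
  · exfalso
    have hlt := Group.IsSolvable.commutator_lt_top_of_nontrivial ↥M
    apply hlt.ne
    apply Subgroup.map_injective M.subtype_injective
    rw [Subgroup.map_subtype_commutator, h2, ← MonoidHom.range_eq_map, Subgroup.range_subtype]

/-- G1c: an abelian minimal normal subgroup is an `ℓ`-group or an `ℓ'`-group. -/
theorem minimal_normal_abelian_prime (M : Subgroup G) [M.Normal]
    (hmin : ∀ L : Subgroup G, L.Normal → L ≤ M → L = ⊥ ∨ L = M)
    (hab : ∀ a ∈ M, ∀ b ∈ M, a * b = b * a) (ℓ : ℕ) [Fact ℓ.Prime] :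
    IsPGroup ℓ ↥M ∨ ¬ ℓ ∣ Nat.card ↥M := by
  classical
  by_cases hdvd : ℓ ∣ Nat.card ↥M
  swap
  · exact Or.inr hdvd
  left
  have hMn : M.Normal := inferInstance
  -- `L = Ω₁`-like subgroup `{m ∈ M | m^ℓ = 1}`
  let L : Subgroup G :=
    { carrier := {m | m ∈ M ∧ m ^ ℓ = 1}
      mul_mem' := by
        rintro a b ⟨ha, ha1⟩ ⟨hb, hb1⟩
        refine ⟨M.mul_mem ha hb, ?_⟩
        have hc : Commute a b := hab a ha b hb
        rw [hc.mul_pow, ha1, hb1, one_mul]
      one_mem' := ⟨M.one_mem, one_pow _⟩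
      inv_mem' := by
        rintro a ⟨ha, ha1⟩
        exact ⟨M.inv_mem ha, by rw [inv_pow, ha1, inv_one]⟩ }
  have hLn : L.Normal := by
    constructor
    rintro n ⟨hn, hn1⟩ g
    exact ⟨hMn.conj_mem n hn g, by rw [conj_pow, hn1, mul_one, mul_inv_cancel]⟩
  have hLM : L ≤ M := fun x hx => hx.1
  obtain ⟨x, hx⟩ := exists_prime_orderOf_dvd_card' (G := ↥M) ℓ hdvd
  have hxL : (x : G) ∈ L := by
    refine ⟨x.2, ?_⟩
    have : x ^ ℓ = 1 := by rw [← hx]; exact pow_orderOf_eq_one x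
    have h2 := congrArg (fun y : ↥M => (y : G)) this
    simpa using h2
  have hx1 : (x : G) ≠ 1 := by
    intro h
    have hx1 : x = 1 := Subtype.ext h
    rw [hx1, orderOf_one] at hx
    exact (Fact.out : ℓ.Prime).one_lt.ne hx
  have hLbot : L ≠ ⊥ := by
    intro h
    rw [h, Subgroup.mem_bot] at hxL
    exact hx1 hxL
  rcases hmin L hLn hLM with h | h
  · exact absurd h hLbot
  · intro g
    refine ⟨1, ?_⟩
    have hg : (g : G) ∈ L := by rw [h]; exact g.2
    apply Subtype.ext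
    rw [pow_one]
    simpa using hg.2

end Cfsg.Agent.Lib.Helper9.RealP
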