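import Cfsg.Agent.Lib.Helper12.SakDefs

/-!
# S5544 leaf H (planner helper12): the group-theoretic endgame, with the interface lemmas
`pair_unique` (A1) and `pair_conj` (A3) as hypotheses.
-/

set_option autoImplicit false

namespace Cfsg.Agent.Lib.Helper9.SakH

open Cfsg Cfsg.Axial Cfsg.Agent.Lib.Helper12.Sak

section grp

variable {G : Type*} [Group G]

theorem inv_of_sq {a : G} (ha : a * a = 1) : a⁻¹ = a := inv_eq_of_mul_eq_one_right ha

theorem case2 (a b : G) (ha : a * a = 1) (hb : b * b = 1) (h : b * a * b⁻¹ = a) :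
    (a * b) ^ 2 = 1 := by
  rw [inv_of_sq hb] at h
  -- b a b = a, so a b a b = a a = 1
  have h' : b * (a * b) = a := by rw [← mul_assoc]; exact h
  calc (a * b) ^ 2 = a * (b * (a * b)) := by rw [pow_two]; simp only [mul_assoc]
    _ = 1 := by rw [h', ha]

theorem case3 (a b : G) (ha : a * a = 1) (hb : b * b = 1) (h : (b * a) * b * (b * a)⁻¹ = a) :
    (a * b) ^ 3 = 1 := by
  rw [mul_inv_rev, inv_of_sq ha, inv_of_sq hb] at h
  have h' : b * (a * (b * (a * b))) = a := by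
    have := h
    simp only [mul_assoc] at this
    exact this
  calc (a * b) ^ 3 = a * (b * (a * (b * (a * b)))) := by
        rw [pow_succ, pow_two]; simp only [mul_assoc]
    _ = 1 := by rw [h', ha]

theorem case4 (a b : G) (ha : a * a = 1) (hb : b * b = 1)
    (h : a * (b * a * b⁻¹) * a⁻¹ = b * a * b⁻¹) : (a * b) ^ 4 = 1 := by
  rw [inv_of_sq ha, inv_of_sq hb] at h
  -- a b a b a = b a b
  have h' : a * (b * (a * (b * a))) = b * (a * b) := by
    have := h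
    simp only [mul_assoc] at this
    exact this
  calc (a * b) ^ 4 = a * (b * (a * (b * a))) * (b * (a * b)) := by
        rw [pow_succ, pow_succ, pow_two]; simp only [mul_assoc]
    _ = b * (a * b) * (b * (a * b)) := by rw [h']
    _ = b * (a * ((b * b) * (a * b))) := by simp only [mul_assoc]
    _ = b * ((a * a) * b) := by rw [hb, one_mul]; simp only [mul_assoc]
    _ = 1 := by rw [ha, one_mul, hb]

theorem case5 (a b : G) (ha : a * a = 1) (hb : b * b = 1)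
    (h : (a * b) * a * (a * b)⁻¹ = (b * a) * b * (b * a)⁻¹) : (a * b) ^ 5 = 1 := by
  rw [mul_inv_rev, mul_inv_rev, inv_of_sq ha, inv_of_sq hb] at h
  -- a b a b a = b a b a b
  have h' : a * (b * (a * (b * a))) = b * (a * (b * (a * b))) := by
    have := h
    simp only [mul_assoc] at this
    exact this
  calc (a * b) ^ 5 = a * (b * (a * (b * a))) * (b * (a * (b * (a * b)))) := by
        rw [pow_succ, pow_succ, pow_succ, pow_two]; simp only [mul_assoc]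
    _ = b * (a * (b * (a * b))) * (b * (a * (b * (a * b)))) := by rw [h']
    _ = b * (a * (b * (a * ((b * b) * (a * (b * (a * b))))))) := by simp only [mul_assoc]
    _ = b * (a * (b * ((a * a) * (b * (a * b))))) := by rw [hb, one_mul]; simp only [mul_assoc]
    _ = b * (a * ((b * b) * (a * b))) := by rw [ha, one_mul]; simp only [mul_assoc]
    _ = b * ((a * a) * b) := by rw [hb, one_mul]; simp only [mul_assoc]
    _ = 1 := by rw [ha, one_mul, hb]

theorem case6 (a b : G) (ha : a * a = 1) (hb : b * b = 1)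
    (h : a * ((b * a) * b * (b * a)⁻¹) * a⁻¹ = (b * a) * b * (b * a)⁻¹) : (a * b) ^ 6 = 1 := by
  rw [mul_inv_rev, inv_of_sq ha, inv_of_sq hb] at h
  -- a (b a b a b) a = b a b a b
  have h' : a * (b * (a * (b * (a * (b * a))))) = b * (a * (b * (a * b))) := by
    have := h
    simp only [mul_assoc] at this
    exact this
  calc (a * b) ^ 6 = a * (b * (a * (b * (a * (b * a))))) * (b * (a * (b * (a * b)))) := by
        rw [pow_succ, pow_succ, pow_succ, pow_succ, pow_two]; simp only [mul_assoc]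
    _ = b * (a * (b * (a * b))) * (b * (a * (b * (a * b)))) := by rw [h']
    _ = b * (a * (b * (a * ((b * b) * (a * (b * (a * b))))))) := by simp only [mul_assoc]
    _ = b * (a * (b * ((a * a) * (b * (a * b))))) := by rw [hb, one_mul]; simp only [mul_assoc]
    _ = b * (a * ((b * b) * (a * b))) := by rw [ha, one_mul]; simp only [mul_assoc]
    _ = b * ((a * a) * b) := by rw [hb, one_mul]; simp only [mul_assoc]
    _ = 1 := by rw [ha, one_mul, hb]

end grp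

variable {V : Type*} [AddCommGroup V] [Module ℝ V]
variable {mul : V →ₗ[ℝ] V →ₗ[ℝ] V} {B : LinearMap.BilinForm ℝ V}

/-- `g` is an automorphism of `(mul, B)` -/
def IsAut (mul : V →ₗ[ℝ] V →ₗ[ℝ] V) (B : LinearMap.BilinForm ℝ V) (g : V ≃ₗ[ℝ] V) : Prop :=
  (∀ u v : V, g (mul u v) = mul (g u) (g v)) ∧ ∀ u v : V, B (g u) (g v) = B u v

theorem IsAut.comp {g h : V ≃ₗ[ℝ] V} (hg : IsAut mul B g) (hh : IsAut mul B h) :
    IsAut mul B (g * h) := by
  refine ⟨fun u v => ?_, fun u v => ?_⟩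
  · rw [LinearEquiv.mul_apply, LinearEquiv.mul_apply, LinearEquiv.mul_apply, hh.1, hg.1]
  · rw [LinearEquiv.mul_apply, LinearEquiv.mul_apply, hg.2, hh.2]

theorem IsAut.of_pair {μ : V ≃ₗ[ℝ] V} {a : V} (h : IsMajoranaPair mul B μ a) : IsAut mul B μ :=
  ⟨h.1, h.2.1⟩

/-- the inverse of a Majorana involution is a Majorana involution with the same axis -/
theorem pair_inv {μ : V ≃ₗ[ℝ] V} {a : V} (h : IsMajoranaPair mul B μ a) :
    IsMajoranaPair mul B μ⁻¹ a := by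
  obtain ⟨h1, h2, h3, h4, h5⟩ := h
  refine ⟨fun u v => ?_, fun u v => ?_, h3, fun v hv => ?_, fun v hv => ?_⟩
  · apply μ.injective
    rw [h1]
    show μ (μ.symm (mul u v)) = mul (μ (μ.symm u)) (μ (μ.symm v))
    rw [LinearEquiv.apply_symm_apply, LinearEquiv.apply_symm_apply, LinearEquiv.apply_symm_apply]
  · have := h2 (μ.symm u) (μ.symm v)
    rw [LinearEquiv.apply_symm_apply, LinearEquiv.apply_symm_apply] at this
    exact this.symm
  · have hv' : μ v = v := h4 v hv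
    show μ.symm v = v
    rw [LinearEquiv.symm_apply_eq, hv']
  · have hv' : μ v = -v := h5 v hv
    show μ.symm v = -v
    rw [LinearEquiv.symm_apply_eq, map_neg, hv', neg_neg]

/-- LEAF H with the interface lemmas as hypotheses -/
theorem endgame_of
    (hU : ∀ {μ μ' : V ≃ₗ[ℝ] V} {a : V}, IsMajoranaPair mul B μ a → IsMajoranaPair mul B μ' a →
      μ = μ')
    (hC : ∀ {μ : V ≃ₗ[ℝ] V} {a : V}, IsMajoranaPair mul B μ a → ∀ g : V ≃ₗ[ℝ] V,
      (∀ u v : V, g (mul u v) = mul (g u) (g v)) → (∀ u v : V, B (g u) (g v) = B u v) →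
      IsMajoranaPair mul B (g * μ * g⁻¹) (g a))
    {μ₀ μ₁ : V ≃ₗ[ℝ] V} {a₀ a₁ : V}
    (h₀ : IsMajoranaPair mul B μ₀ a₀) (h₁ : IsMajoranaPair mul B μ₁ a₁)
    (hcase : a₁ = a₀ ∨ μ₁ a₀ = a₀ ∨ μ₁ (μ₀ a₁) = a₀ ∨ μ₀ (μ₁ a₀) = μ₁ a₀ ∨
      μ₀ (μ₁ a₀) = μ₁ (μ₀ a₁) ∨ μ₀ (μ₁ (μ₀ a₁)) = μ₁ (μ₀ a₁)) :
    ∃ n : ℕ, 1 ≤ n ∧ n ≤ 6 ∧ (μ₀ * μ₁) ^ n = 1 := by
  have hA0 : IsAut mul B μ₀ := IsAut.of_pair h₀
  have hA1 : IsAut mul B μ₁ := IsAut.of_pair h₁
  have hs0 : μ₀ * μ₀ = 1 := by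
    have : μ₀ = μ₀⁻¹ := hU h₀ (pair_inv h₀)
    calc μ₀ * μ₀ = μ₀ * μ₀⁻¹ := by rw [← this]
      _ = 1 := mul_inv_cancel μ₀
  have hs1 : μ₁ * μ₁ = 1 := by
    have : μ₁ = μ₁⁻¹ := hU h₁ (pair_inv h₁)
    calc μ₁ * μ₁ = μ₁ * μ₁⁻¹ := by rw [← this]
      _ = 1 := mul_inv_cancel μ₁
  -- conjugation of pairs by automorphisms
  have conj : ∀ {μ : V ≃ₗ[ℝ] V} {a : V}, IsMajoranaPair mul B μ a → ∀ g : V ≃ₗ[ℝ] V,
      IsAut mul B g → IsMajoranaPair mul B (g * μ * g⁻¹) (g a) :=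
    fun h g hg => hC h g hg.1 hg.2
  rcases hcase with h | h | h | h | h | h
  · -- a₁ = a₀
    refine ⟨1, le_refl 1, by norm_num, ?_⟩
    subst h
    have : μ₁ = μ₀ := hU h₁ h₀
    rw [pow_one, this, hs0]
  · -- μ₁ a₀ = a₀
    refine ⟨2, by norm_num, by norm_num, ?_⟩
    have hp := conj h₀ μ₁ hA1
    rw [h] at hp
    exact case2 μ₀ μ₁ hs0 hs1 (hU hp h₀)
  · -- μ₁ (μ₀ a₁) = a₀
    refine ⟨3, by norm_num, by norm_num, ?_⟩
    have hp := conj h₁ (μ₁ * μ₀) (hA1.comp hA0)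
    rw [LinearEquiv.mul_apply, h] at hp
    exact case3 μ₀ μ₁ hs0 hs1 (hU hp h₀)
  · -- μ₀ (μ₁ a₀) = μ₁ a₀
    refine ⟨4, by norm_num, by norm_num, ?_⟩
    have hp := conj h₀ μ₁ hA1
    have hp2 := conj hp μ₀ hA0
    rw [h] at hp2
    exact case4 μ₀ μ₁ hs0 hs1 (hU hp2 hp)
  · -- μ₀ (μ₁ a₀) = μ₁ (μ₀ a₁)
    refine ⟨5, by norm_num, by norm_num, ?_⟩
    have hp := conj h₀ (μ₀ * μ₁) (hA0.comp hA1)
    have hq := conj h₁ (μ₁ * μ₀) (hA1.comp hA0)
    rw [LinearEquiv.mul_apply] at hp hq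
    rw [h] at hp
    exact case5 μ₀ μ₁ hs0 hs1 (hU hp hq)
  · -- μ₀ (μ₁ (μ₀ a₁)) = μ₁ (μ₀ a₁)
    refine ⟨6, by norm_num, le_refl 6, ?_⟩
    have hq := conj h₁ (μ₁ * μ₀) (hA1.comp hA0)
    rw [LinearEquiv.mul_apply] at hq
    have hq2 := conj hq μ₀ hA0
    rw [h] at hq2
    exact case6 μ₀ μ₁ hs0 hs1 (hU hq2 hq)

end Cfsg.Agent.Lib.Helper9.SakH
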