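import Cfsg.Agent.Lib.Helper12.SakDefs
import Cfsg.Agent.Lib.Helper9.SakHCore
import Cfsg.Agent.Lib.Helper18.SakA1
import Cfsg.Agent.Lib.Helper22.SakA3

/-!
# S5544 leaf H (planner helper12): the group-theoretic endgame (exact-name wrapper).
-/

set_option autoImplicit false

namespace Cfsg.Agent.Lib.Helper9.SakH

open Cfsg Cfsg.Axial Cfsg.Agent.Lib.Helper12.Sak

variable {V : Type*} [AddCommGroup V] [Module ℝ V]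
variable {mul : V →ₗ[ℝ] V →ₗ[ℝ] V} {B : LinearMap.BilinForm ℝ V} {μ μ' : V ≃ₗ[ℝ] V} {a : V}

/-- LEAF H -/
theorem endgame {μ₀ μ₁ : V ≃ₗ[ℝ] V} {a₀ a₁ : V}
    (h₀ : IsMajoranaPair mul B μ₀ a₀) (h₁ : IsMajoranaPair mul B μ₁ a₁)
    (hcase : a₁ = a₀ ∨ μ₁ a₀ = a₀ ∨ μ₁ (μ₀ a₁) = a₀ ∨ μ₀ (μ₁ a₀) = μ₁ a₀ ∨
      μ₀ (μ₁ a₀) = μ₁ (μ₀ a₁) ∨ μ₀ (μ₁ (μ₀ a₁)) = μ₁ (μ₀ a₁)) :
    ∃ n : ℕ, 1 ≤ n ∧ n ≤ 6 ∧ (μ₀ * μ₁) ^ n = 1 :=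
  endgame_of (fun h h' => Cfsg.Agent.Lib.Helper18.SakA1.pair_unique h h')
    (fun h g hg1 hg2 => Cfsg.Agent.Lib.Helper22.SakA3.pair_conj h g hg1 hg2) h₀ h₁ hcase

end Cfsg.Agent.Lib.Helper9.SakH
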