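import Mathlib
import Cfsg.Agent.Lib.Helper20.UTNDefs
import Cfsg.Agent.Lib.Helper20.UTS
import Cfsg.Agent.Lib.Helper5.SUMax
import Cfsg.Agent.Lib.Helper23.UTGGA
import Cfsg.Agent.Lib.Helper23.UTNNG

/-!
S5670 part (N), shared tools for N5a `lemmaAH` and N3h `scalar_of_conj_tv` (pure matrix algebra on `Fin a → F`):
the conjugation formula `α θ α⁻¹ - θ = c [N, θ] - c² s N` (`α = tvU q x c`, `N = rk1 q x`, `s = hv (θ x) x`),
and `scalar_of_iso_eigen`: a matrix having every isotropic vector as an eigenvector is scalar (`a ≥ 2`).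
-/

set_option autoImplicit false
set_option linter.unusedSectionVars false
set_option linter.unusedVariables false

namespace Cfsg.Agent.Lib.Helper9.UTNLeaf
open Matrix
open Cfsg.Agent.Lib.Helper25.Tens Cfsg.Agent.Lib.Helper25.TensLeaf Cfsg.Agent.Lib.Helper25.TensLeaves
open Cfsg.Agent.Lib.Helper20.UT Cfsg.Agent.Lib.Helper20.UTLeaf Cfsg.Agent.Lib.Helper20.UTN
open Cfsg.Agent.Lib.Helper5
open scoped Kronecker

variable {F : Type*} [Field F] [Fintype F] {a b q : ℕ} {M : Subgroup (GL (Idx a b) F)}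

lemma tvU_mulVec' (x : Fin a → F) (c : F) (hx : hv q x x = 0) (v : Fin a → F) :
    ((tvU q x c hx : GL (Fin a) F) : Matrix (Fin a) (Fin a) F) *ᵥ v = v + (c * hv q v x) • x :=
  tvU_mulVec q x c hx v

lemma tvU_inv_mulVec' (x : Fin a → F) (c : F) (hx : hv q x x = 0) (v : Fin a → F) :
    (((tvU q x c hx)⁻¹ : GL (Fin a) F) : Matrix (Fin a) (Fin a) F) *ᵥ v =
      v - (c * hv q v x) • x := by
  have h1 : mv (tvU q x c hx) (v - (c * hv q v x) • x) = v := by
    rw [tvU_mulVec, hv_sub_left, hv_smul_left, hx, mul_zero, sub_zero]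
    abel
  have h2 : mv (tvU q x c hx)⁻¹ v = v - (c * hv q v x) • x := by
    conv_lhs => rw [← h1]
    rw [mv_inv_mv]
  exact h2

/-- the action of `α θ α⁻¹`, `α = tvU q x c` -/
lemma conj_tvU_mulVec (x : Fin a → F) (c : F) (hx : hv q x x = 0)
    (θ : Matrix (Fin a) (Fin a) F) (v : Fin a → F) :
    (((tvU q x c hx : GL (Fin a) F) : Matrix (Fin a) (Fin a) F) * θ *
      (((tvU q x c hx)⁻¹ : GL (Fin a) F) : Matrix (Fin a) (Fin a) F)) *ᵥ v =
      θ *ᵥ v - (c * hv q v x) • (θ *ᵥ x) +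
        (c * (hv q (θ *ᵥ v) x - c * hv q v x * hv q (θ *ᵥ x) x)) • x := by
  rw [← Matrix.mulVec_mulVec, ← Matrix.mulVec_mulVec, tvU_inv_mulVec', Matrix.mulVec_sub,
    Matrix.mulVec_smul, tvU_mulVec', hv_sub_left, hv_smul_left]

/-- `α θ α⁻¹ - θ = c [N, θ] - c² s N` -/
lemma conj_tvU_sub (x : Fin a → F) (c : F) (hx : hv q x x = 0)
    (θ : Matrix (Fin a) (Fin a) F) :
    ((tvU q x c hx : GL (Fin a) F) : Matrix (Fin a) (Fin a) F) * θ *
      (((tvU q x c hx)⁻¹ : GL (Fin a) F) : Matrix (Fin a) (Fin a) F) - θ =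
      c • (rk1 q x * θ - θ * rk1 q x) - (c ^ 2 * hv q (θ *ᵥ x) x) • rk1 q x := by
  apply Matrix.mulVec_injective
  funext v
  rw [Matrix.sub_mulVec, conj_tvU_mulVec, Matrix.sub_mulVec, Matrix.smul_mulVec, Matrix.sub_mulVec,
    Matrix.smul_mulVec, ← Matrix.mulVec_mulVec, ← Matrix.mulVec_mulVec, rk1_mulVec, rk1_mulVec,
    Matrix.mulVec_smul]
  module

/-- a matrix having every isotropic vector as an eigenvector is scalar (`a ≥ 2`) -/
theorem scalar_of_iso_eigen (hF : Fintype.card F = q ^ 2) (ha : 2 ≤ a)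
    (θ : Matrix (Fin a) (Fin a) F)
    (h : ∀ x : Fin a → F, hv q x x = 0 → ∃ l : F, θ *ᵥ x = l • x) : IsScalarMat θ := by
  have hf := hv_unitary (n := a) hF
  have hd : 2 ≤ Module.finrank F (⊤ : Submodule F (Fin a → F)) := by
    rw [finrank_top, Module.finrank_fin_fun]; exact ha
  obtain ⟨e, -, he0, hee⟩ := UForm.exists_iso hf (UForm.ND_top hf) hd
  obtain ⟨lam, hlam⟩ := h e hee
  -- non-perpendicular isotropic vectors share their eigenvalue
  have step1 : ∀ w₀ w : Fin a → F, ∀ l₀ : F, hv q w₀ w₀ = 0 → hv q w w = 0 → θ *ᵥ w₀ = l₀ • w₀ →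
      hv q w₀ w ≠ 0 → θ *ᵥ w = l₀ • w := by
    intro w₀ w l₀ hw₀ hw hl₀ hne
    obtain ⟨μ, hμ⟩ := h w hw
    obtain ⟨l, hl0, hl⟩ := UForm.exists_iso_comb hf hw₀ hw
    obtain ⟨ν, hν⟩ := h (w₀ + l • w) hl
    have hne' : hv q w w₀ ≠ 0 := UForm.u_symm_ne hf hne
    have hw₀w : hv q w₀ w ≠ 0 := hne
    rw [Matrix.mulVec_add, Matrix.mulVec_smul, hl₀, hμ] at hν
    have e1 := congrArg (fun u => hv q u w) hν
    have e2 := congrArg (fun u => hv q u w₀) hν
    simp only [hv_add_left, hv_smul_left, hw, hw₀, mul_zero, add_zero, zero_add] at e1 e2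
    have h1 : l₀ = ν := mul_right_cancel₀ hw₀w e1
    have h2 : μ = ν := by
      have : l * (μ * hv q w w₀) = l * (ν * hv q w w₀) := by
        rw [e2]; ring
      exact mul_right_cancel₀ hne' (mul_left_cancel₀ hl0 this)
    rw [hμ, h2, ← h1]
  have step2 : ∀ w : Fin a → F, hv q w w = 0 → θ *ᵥ w = lam • w := by
    intro w hw
    by_cases hw0 : w = 0
    · rw [hw0, Matrix.mulVec_zero, smul_zero]
    rcases Cfsg.Agent.Lib.Helper23.UTGLeaf.exists_iso_link hF ha he0 hw0 hee hw with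
      ⟨c, rfl⟩ | hne | ⟨y₂, hy₂, h1, h2⟩
    · rw [Matrix.mulVec_smul, hlam, smul_comm]
    · exact step1 e w lam hee hw hlam hne
    · exact step1 y₂ w lam hy₂ hw (step1 e y₂ lam hee hy₂ hlam h1) h2
  refine ⟨lam, ?_⟩
  apply Matrix.mulVec_injective
  funext v
  rw [Matrix.smul_mulVec, Matrix.one_mulVec]
  by_cases hvv : hv q v v = 0
  · exact step2 v hvv
  · obtain ⟨x₁, x₂, β, h1, h2, -, rfl⟩ :=
      Cfsg.Agent.Lib.Helper23.UTGLeaf.exists_hyp_repr hF ha hvv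
    rw [Matrix.mulVec_add, Matrix.mulVec_smul, step2 x₁ h1, step2 x₂ h2, smul_add, smul_comm]

end Cfsg.Agent.Lib.Helper9.UTNLeaf
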