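import Mathlib
import Cfsg.Agent.Lib.Helper20.UTNDefs
import Cfsg.Agent.Lib.Helper20.UTS
import Cfsg.Agent.Lib.Helper5.SUMax
import Cfsg.Agent.Lib.Helper7.UTNN6
import Cfsg.Agent.Lib.Helper9.UTNConj

/-!
S5670 part (N), pieces of N5b `lemmaAH_two` (`q = 2`): case `(σ, n) = (0, 0)` (`lemmaAH_two_case00`).
-/

set_option autoImplicit false
set_option linter.unusedSectionVars false
set_option linter.unusedVariables false

namespace Cfsg.Agent.Lib.Helper9.UTNLeaf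
open Matrix
open Cfsg.Agent.Lib.Helper25.Tens Cfsg.Agent.Lib.Helper25.TensLeaf Cfsg.Agent.Lib.Helper25.TensLeaves
open Cfsg.Agent.Lib.Helper20.UT Cfsg.Agent.Lib.Helper20.UTLeaf Cfsg.Agent.Lib.Helper20.UTN
open Cfsg.Agent.Lib.Helper5
open scoped Kronecker

variable {F : Type*} [Field F] [Fintype F] {a b q : ℕ} {M : Subgroup (GL (Idx a b) F)}

/-- the action of `x z†` -/
lemma vmv_mulVec (x z t : Fin a → F) : vecMulVec x (cj q z) *ᵥ t = hv q t z • x := by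
  rw [Matrix.vecMulVec_mulVec, ← hv_eq_dot]
  ext i; simp [mul_comm]

/-- the action of `x z† + z x†` -/
lemma rk2_mulVec (x z t : Fin a → F) :
    (vecMulVec x (cj q z) + vecMulVec z (cj q x)) *ᵥ t = hv q t z • x + hv q t x • z := by
  rw [Matrix.add_mulVec, vmv_mulVec, vmv_mulVec]

/-- (C00) the case `(σ, n) = (0, 0)` of `lemmaAH_two`: `γ = x z† + z x†`, `x, z` isotropic, orthogonal,
independent. -/
theorem lemmaAH_two_case00 (hF : Fintype.card F = 2 ^ 2)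
    (S : Set (Matrix (Fin a) (Fin a) F))
    (hconj : ∀ (x : Fin a → F) (c : F) (hx : hv 2 x x = 0), c ^ 2 = -c → ∀ θ, θ ∈ S →
      ((tvU 2 x c hx : GL (Fin a) F) : Matrix (Fin a) (Fin a) F) * θ *
        (((tvU 2 x c hx)⁻¹ : GL (Fin a) F) : Matrix (Fin a) (Fin a) F) ∈ S)
    (hmul : ∀ θ θ', θ ∈ S → θ' ∈ S → ∀ μ : F, μ • (θ * θ') - μ ^ 2 • (θ' * θ) ∈ S)
    {x z : Fin a → F} (hx0 : x ≠ 0) (hx : hv 2 x x = 0) (hz : hv 2 z z = 0) (hzx : hv 2 z x = 0)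
    (hind : ∀ l : F, z ≠ l • x)
    (hγ : vecMulVec x (cj 2 z) + vecMulVec z (cj 2 x) ∈ S) : rk1 2 x ∈ S := by
  have hf := hv_unitary (n := a) hF
  have hxz : hv 2 x z = 0 := hv_symm_zero hF hzx
  have hnot : z ∉ Submodule.span F {x} := by
    rw [Submodule.mem_span_singleton]
    rintro ⟨l, hl⟩
    exact hind l hl.symm
  obtain ⟨p, hp1, hp2⟩ := UForm.exists_sep hf hx0 hnot
  have hpz : hv 2 p z ≠ 0 := UForm.u_symm_ne hf hp2
  obtain ⟨l, hl⟩ := UForm.exists_iso_add hf hz hpz 0 (map_zero _)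
  obtain ⟨v, hvdef⟩ : ∃ v : Fin a → F, v = p + l • z := ⟨_, rfl⟩
  have hvv : hv 2 v v = 0 := by rw [hvdef]; exact hl
  have hxv : hv 2 x v = 0 := by
    rw [hvdef, hv_add_right hF, hv_smul_right, hp1, hxz]; ring
  have hvx : hv 2 v x = 0 := hv_symm_zero hF hxv
  obtain ⟨e, hedef⟩ : ∃ e : F, e = hv 2 z v := ⟨_, rfl⟩
  have he0 : e ≠ 0 := by
    rw [hedef, hvdef, hv_add_right hF, hv_smul_right, hz, mul_zero, add_zero]; exact hp2
  have hvz : hv 2 v z = e ^ 2 := by rw [hedef, hv_conj hF]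
  have hν : e * e ^ 2 = 1 := by
    have h3 := FiniteField.pow_card_sub_one_eq_one e he0
    rw [hF] at h3
    have : e * e ^ 2 = e ^ (2 ^ 2 - 1) := by norm_num; ring
    rw [this, h3]
  obtain ⟨ω, hω, -⟩ := Cfsg.Agent.Lib.Helper23.UTGLeaf.exists_theta hF
  have h1sk : (1 : F) ^ 2 = -1 := Cfsg.Agent.Lib.Helper7.UTNLeaf.one_skew_two hF
  obtain ⟨γ, hγdef⟩ : ∃ γ : Matrix (Fin a) (Fin a) F,
      γ = vecMulVec x (cj 2 z) + vecMulVec z (cj 2 x) := ⟨_, rfl⟩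
  rw [← hγdef] at hγ
  have hg : ∀ t : Fin a → F, γ *ᵥ t = hv 2 t z • x + hv 2 t x • z := by
    intro t; rw [hγdef]; exact rk2_mulVec x z t
  obtain ⟨γ', hγ'def⟩ : ∃ γ' : Matrix (Fin a) (Fin a) F,
      γ' = ((tvU 2 v 1 hvv : GL (Fin a) F) : Matrix (Fin a) (Fin a) F) * γ *
        (((tvU 2 v 1 hvv)⁻¹ : GL (Fin a) F) : Matrix (Fin a) (Fin a) F) := ⟨_, rfl⟩
  have hγ' : γ' ∈ S := by rw [hγ'def]; exact hconj v 1 hvv h1sk _ hγ
  have hg' : ∀ t : Fin a → F, γ' *ᵥ t =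
      hv 2 t z • x + hv 2 t x • z - (hv 2 t v * e ^ 2) • x + (hv 2 t x * e) • v := by
    intro t
    rw [hγ'def, conj_tvU_mulVec, hg, hg]
    simp only [hv_add_left, hv_smul_left, hvx, hxv, hvz, ← hedef, mul_zero, add_zero,
      zero_add, zero_smul, one_mul, sub_zero, smul_smul]
  have hm := hmul _ _ hγ hγ' ω
  convert hm using 1
  apply Matrix.mulVec_injective
  funext t
  rw [rk1_mulVec, Matrix.sub_mulVec, Matrix.smul_mulVec, Matrix.smul_mulVec, ← Matrix.mulVec_mulVec,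
    ← Matrix.mulVec_mulVec]
  simp only [hg, hg']
  simp only [hv_add_left, hv_sub_left, hv_smul_left, hxz, hzx, hx, hz, hvx, hxv, hvz, ← hedef,
    mul_zero, zero_mul, add_zero, zero_add, zero_smul, sub_zero, zero_sub]
  have e1 : hv 2 t x * e * e ^ 2 = hv 2 t x := by rw [mul_assoc, hν, mul_one]
  rw [e1, smul_neg, sub_neg_eq_add, ← add_smul, hω, one_smul]

end Cfsg.Agent.Lib.Helper9.UTNLeaf
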