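import Mathlib
import Cfsg.Agent.Lib.Helper20.UTNDefs
import Cfsg.Agent.Lib.Helper20.UTS
import Cfsg.Agent.Lib.Helper5.SUMax
import Cfsg.Agent.Lib.Helper12.UTNN5bDefs
import Cfsg.Agent.Lib.Helper9.UTNN5b0

/-!
S5670 part (N), N5b sub-leaf `N5b-00` in helper12's exact shape (`SHyp S`, `E2`): the case `(σ, n) = (0, 0)`.
-/

set_option autoImplicit false
set_option linter.unusedSectionVars false
set_option linter.unusedVariables false

namespace Cfsg.Agent.Lib.Helper9.UTNLeaf00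
open Matrix
open Cfsg.Agent.Lib.Helper25.Tens Cfsg.Agent.Lib.Helper25.TensLeaf Cfsg.Agent.Lib.Helper25.TensLeaves
open Cfsg.Agent.Lib.Helper20.UT Cfsg.Agent.Lib.Helper20.UTLeaf Cfsg.Agent.Lib.Helper20.UTN
open Cfsg.Agent.Lib.Helper12.UTNLeaf
open scoped Kronecker

variable {F : Type*} [Field F] [Fintype F] {a b q : ℕ} {M : Subgroup (GL (Idx a b) F)}

theorem lemmaAH_two_case00 (hF : Fintype.card F = 2 ^ 2) {S : Set (Matrix (Fin a) (Fin a) F)}
    (hS : SHyp S) {x z : Fin a → F} (hxx : hv 2 x x = 0) (hzz : hv 2 z z = 0) (hzx : hv 2 z x = 0)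
    (hx0 : x ≠ 0) (hind : ∀ c : F, z ≠ c • x) (hγ : E2 x z + E2 z x ∈ S) : rk1 2 x ∈ S :=
  Cfsg.Agent.Lib.Helper9.UTNLeaf.lemmaAH_two_case00 hF S hS.conj hS.mul hx0 hxx hzz hzx hind hγ

end Cfsg.Agent.Lib.Helper9.UTNLeaf00
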