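import Mathlib

/-!
S2264/S2265 leaf (LB): `(q-1)·lcm_{k∈K}(q^k+1) ≤ q^(ΣK+1)`.
-/

set_option autoImplicit false

namespace Cfsg.Agent.Lib.Helper9.EOrdLB

/-- the `2`-adic valuations occurring in `K` -/
def vs (K : Finset ℕ) : Finset ℕ := K.image (padicValNat 2)

lemma two_pow_val_le (k : ℕ) (hk : 1 ≤ k) : 2 ^ padicValNat 2 k ≤ k :=
  Nat.le_of_dvd hk pow_padicValNat_dvd

lemma base_dvd (q k : ℕ) (hk : 1 ≤ k) : q ^ 2 ^ padicValNat 2 k + 1 ∣ q ^ k + 1 := by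
  obtain ⟨m, hm⟩ : 2 ^ padicValNat 2 k ∣ k := pow_padicValNat_dvd
  have hnd : ¬ 2 ^ (padicValNat 2 k + 1) ∣ k := pow_succ_padicValNat_not_dvd (p := 2) (by omega)
  generalize padicValNat 2 k = v at hm hnd ⊢
  have hmodd : Odd m := by
    by_contra h
    rw [Nat.not_odd_iff_even] at h
    obtain ⟨j, hj⟩ := h
    apply hnd
    refine ⟨j, ?_⟩
    rw [hm, hj, pow_succ]
    ring
  have h3 := Odd.nat_add_dvd_pow_add_pow (q ^ 2 ^ v) 1 hmodd
  rw [one_pow, ← pow_mul, ← hm] at h3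
  exact h3

/-- `q^k+1 = g * c` with `g = q^(2^v)+1` and `c ≤ q^(k - 2^v)` -/
lemma quot_le (q k : ℕ) (hq : 1 ≤ q) (hk : 1 ≤ k) :
    ∃ c, q ^ k + 1 = (q ^ 2 ^ padicValNat 2 k + 1) * c ∧ c * q ^ 2 ^ padicValNat 2 k ≤ q ^ k := by
  obtain ⟨c, hc⟩ := base_dvd q k hk
  refine ⟨c, hc, ?_⟩
  set t := 2 ^ padicValNat 2 k with ht
  have htk : t ≤ k := two_pow_val_le k hk
  obtain ⟨r, hr⟩ := Nat.exists_eq_add_of_le htk
  -- (q^t+1) c = q^k + 1 ≤ q^r (q^t + 1)
  have h1 : (q ^ t + 1) * c ≤ (q ^ t + 1) * q ^ r := by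
    rw [← hc, hr, pow_add]
    have : 1 ≤ q ^ r := Nat.one_le_pow _ _ hq
    nlinarith
  have h2 : c ≤ q ^ r := Nat.le_of_mul_le_mul_left h1 (by positivity)
  calc c * q ^ t ≤ q ^ r * q ^ t := Nat.mul_le_mul_right _ h2
    _ = q ^ k := by rw [hr, pow_add, mul_comm]

/-- (L1) -/
lemma lcm_mul_le (q : ℕ) (hq : 1 ≤ q) (K : Finset ℕ) (hK : ∀ k ∈ K, 1 ≤ k) :
    K.lcm (fun k => q ^ k + 1) * q ^ (∑ v ∈ vs K, 2 ^ v) ≤
      q ^ (K.sum id) * ∏ v ∈ vs K, (q ^ 2 ^ v + 1) := by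
  classical
  induction K using Finset.induction_on with
  | empty => simp [vs]
  | insert k K hkK ih =>
    have hk : 1 ≤ k := hK k (Finset.mem_insert_self k K)
    have ih' := ih (fun x hx => hK x (Finset.mem_insert_of_mem hx))
    obtain ⟨c, hc, hcle⟩ := quot_le q k hq hk
    set v := padicValNat 2 k with hv
    set g := q ^ 2 ^ v + 1 with hg
    set L := K.lcm (fun k => q ^ k + 1) with hL
    have hLpos : 0 < L := by
      rw [hL]
      apply Nat.pos_of_ne_zero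
      rw [Ne, Finset.lcm_eq_zero_iff]
      simp
    have hvs : vs (insert k K) = insert v (vs K) := by
      simp [vs, Finset.image_insert, hv]
    rw [Finset.lcm_insert, Finset.sum_insert hkK, hvs, lcm_eq_nat_lcm]
    simp only [id]
    by_cases hmem : v ∈ vs K
    · rw [Finset.insert_eq_of_mem hmem]
      -- g divides L
      obtain ⟨k', hk'K, hk'v⟩ := Finset.mem_image.mp hmem
      have hk' : 1 ≤ k' := hK k' (Finset.mem_insert_of_mem hk'K)
      have hgL : g ∣ L := by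
        have h1 : q ^ 2 ^ padicValNat 2 k' + 1 ∣ q ^ k' + 1 := base_dvd q k' hk'
        rw [hk'v] at h1
        exact dvd_trans h1 (Finset.dvd_lcm (f := fun k => q ^ k + 1) hk'K)
      obtain ⟨b, hb⟩ := hgL
      have hlcm : Nat.lcm (q ^ k + 1) L ≤ c * L := by
        rw [hc, hb, Nat.lcm_mul_left]
        have hcb : Nat.lcm c b ≤ c * b := by
          apply Nat.le_of_dvd
          · have hc0 : 0 < c := by
              rcases Nat.eq_zero_or_pos c with h0 | h0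
              · rw [h0, mul_zero] at hc; omega
              · exact h0
            have hb0 : 0 < b := by
              rcases Nat.eq_zero_or_pos b with h0 | h0
              · rw [h0, mul_zero] at hb; omega
              · exact h0
            positivity
          · exact Nat.lcm_dvd_mul c b
        calc g * Nat.lcm c b ≤ g * (c * b) := Nat.mul_le_mul_left _ hcb
          _ = c * (g * b) := by ring
      have hcq : c ≤ q ^ k := by
        have : 1 ≤ q ^ 2 ^ v := Nat.one_le_pow _ _ hq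
        nlinarith
      calc Nat.lcm (q ^ k + 1) L * q ^ (∑ v ∈ vs K, 2 ^ v)
          ≤ (c * L) * q ^ (∑ v ∈ vs K, 2 ^ v) := Nat.mul_le_mul_right _ hlcm
        _ = c * (L * q ^ (∑ v ∈ vs K, 2 ^ v)) := by ring
        _ ≤ q ^ k * (q ^ (K.sum id) * ∏ v ∈ vs K, (q ^ 2 ^ v + 1)) :=
            Nat.mul_le_mul hcq ih'
        _ = q ^ (k + K.sum id) * ∏ v ∈ vs K, (q ^ 2 ^ v + 1) := by
            rw [pow_add]; ring
    · rw [Finset.sum_insert hmem, Finset.prod_insert hmem]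
      have hlcm : Nat.lcm (q ^ k + 1) L ≤ (q ^ k + 1) * L := by
        apply Nat.le_of_dvd (by positivity)
        exact Nat.lcm_dvd_mul _ _
      calc Nat.lcm (q ^ k + 1) L * q ^ (2 ^ v + ∑ v ∈ vs K, 2 ^ v)
          ≤ ((q ^ k + 1) * L) * q ^ (2 ^ v + ∑ v ∈ vs K, 2 ^ v) := Nat.mul_le_mul_right _ hlcm
        _ = g * (c * q ^ 2 ^ v) * (L * q ^ (∑ v ∈ vs K, 2 ^ v)) := by
            rw [hc, pow_add]; ring
        _ ≤ g * q ^ k * (q ^ (K.sum id) * ∏ v ∈ vs K, (q ^ 2 ^ v + 1)) :=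
            Nat.mul_le_mul (Nat.mul_le_mul_left _ hcle) ih'
        _ = q ^ (k + K.sum id) * (g * ∏ v ∈ vs K, (q ^ 2 ^ v + 1)) := by
            rw [pow_add]; ring

/-- (L2) -/
lemma prod_base_le (q : ℕ) (hq : 2 ≤ q) (V : Finset ℕ) :
    (q - 1) * ∏ v ∈ V, (q ^ 2 ^ v + 1) + 1 ≤ q ^ (1 + ∑ v ∈ V, 2 ^ v) := by
  classical
  induction V using Finset.induction_on_max with
  | empty =>
    simp
    omega
  | insert t V hlt ih =>
    have htV : t ∉ V := fun h => lt_irrefl t (hlt t h)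
    rw [Finset.prod_insert htV, Finset.sum_insert htV]
    set A := (q - 1) * ∏ v ∈ V, (q ^ 2 ^ v + 1) with hA
    set s := ∑ v ∈ V, 2 ^ v with hs
    have hs_lt : s < 2 ^ t := Nat.geomSum_lt (le_refl 2) hlt
    set Q := q ^ (1 + s) with hQ
    set T := q ^ 2 ^ t with hT
    have hQT : Q ≤ T := by
      rw [hQ, hT]
      exact Nat.pow_le_pow_right (by omega) (by omega)
    have h1 : (q - 1) * ((q ^ 2 ^ t + 1) * ∏ v ∈ V, (q ^ 2 ^ v + 1)) = A * (T + 1) := by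
      rw [hA, hT]; ring
    rw [h1]
    have h2 : q ^ (1 + (2 ^ t + s)) = Q * T := by
      rw [hQ, hT, ← pow_add]; congr 1; ring
    rw [h2]
    -- A + 1 ≤ Q ≤ T ⇒ A (T+1) + 1 ≤ Q T
    calc A * (T + 1) + 1 = A * T + (A + 1) := by ring
      _ ≤ A * T + T := by omega
      _ = (A + 1) * T := by ring
      _ ≤ Q * T := Nat.mul_le_mul_right _ ih

/-- LEAF LB -/
theorem lcm_pow_add_one_le (q : ℕ) (hq : 2 ≤ q) (K : Finset ℕ) (hK : ∀ k ∈ K, 1 ≤ k) :
    (q - 1) * K.lcm (fun k => q ^ k + 1) ≤ q ^ (K.sum id + 1) := by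
  have h1 := lcm_mul_le q (by omega) K hK
  have h2 := prod_base_le q hq (vs K)
  set L := K.lcm (fun k => q ^ k + 1) with hL
  set S := ∑ v ∈ vs K, 2 ^ v with hS
  set P := ∏ v ∈ vs K, (q ^ 2 ^ v + 1) with hP
  have hpos : 0 < q ^ S := by positivity
  have h3 : ((q - 1) * L) * q ^ S ≤ q ^ (K.sum id + 1) * q ^ S := by
    calc ((q - 1) * L) * q ^ S = (q - 1) * (L * q ^ S) := by ring
      _ ≤ (q - 1) * (q ^ (K.sum id) * P) := Nat.mul_le_mul_left _ h1
      _ = q ^ (K.sum id) * ((q - 1) * P) := by ring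
      _ ≤ q ^ (K.sum id) * q ^ (1 + S) := Nat.mul_le_mul_left _ (by omega)
      _ = q ^ (K.sum id + 1) * q ^ S := by rw [← pow_add, ← pow_add]; congr 1; ring
  exact Nat.le_of_mul_le_mul_right h3 hpos

end Cfsg.Agent.Lib.Helper9.EOrdLB
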