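import Mathlib
import Cfsg.Prelude.Def_Blocks
import Cfsg.Prelude.Def_Perm
import Cfsg.Agent.Lib.Helper13.BRPDefs
import Cfsg.Agent.Lib.Helper21.S4503R
import Cfsg.Agent.Lib.Lead.ItoD
import Cfsg.Agent.S0732

/-! S4504 Layer A leaf **BRP-PERM** (helper9): a `p'`-element of `C_G(P)` fixes every Sylow `p`-subgroup when
`|P| = p` and there are `p + 1` Sylow `p`-subgroups. -/

set_option autoImplicit false

namespace Cfsg.Agent.Lib.Helper9.BRPPERM

open Cfsg Cfsg.Agent.Lib.Helper8.DOM Cfsg.Agent.Lib.Helper27.DO Cfsg.Agent.CharLib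
open Cfsg.Agent.Lib.Helper13.BRP Cfsg.Agent.Lib.Helper21.S4503R

universe u

variable {p : ℕ} [Fact p.Prime] {G : Type u} [Group G] [Finite G]

omit [Fact p.Prime] [Finite G] in
/-- a Sylow subgroup normalized by the Sylow subgroup `P` is `P` -/
theorem eq_of_forall_smul (P Q : Sylow p G) (h : ∀ x ∈ (P : Subgroup G), x • Q = Q) : Q = P := by
  have hfix : Q ∈ MulAction.fixedPoints (P : Subgroup G) (Sylow p G) := by
    intro x
    exact h x.1 x.2
  have hle : (P : Subgroup G) ≤ Q := (P.isPGroup'.sylow_mem_fixedPoints_iff).mp hfix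
  exact Sylow.ext (P.is_maximal' Q.isPGroup' hle)

omit [Finite G] in
/-- if a nontrivial element of `P` (of prime order) fixes `Q` then `Q = P` -/
theorem eq_of_smul_of_ne_one (P Q : Sylow p G) (hP : Nat.card (P : Subgroup G) = p) (z : G)
    (hz : z ∈ (P : Subgroup G)) (hz1 : z ≠ 1) (hzQ : z • Q = Q) : Q = P := by
  apply eq_of_forall_smul P Q
  intro x hx
  have htop : Subgroup.zpowers (⟨z, hz⟩ : (P : Subgroup G)) = ⊤ :=
    zpowers_eq_top_of_prime_card hP (fun h => hz1 (congrArg Subtype.val h))
  have hmem : (⟨x, hx⟩ : (P : Subgroup G)) ∈ Subgroup.zpowers (⟨z, hz⟩ : (P : Subgroup G)) := by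
    rw [htop]; exact Subgroup.mem_top _
  obtain ⟨k, hk⟩ := Subgroup.mem_zpowers_iff.mp hmem
  have hxz : x = z ^ k := by
    have := congrArg Subtype.val hk
    simpa using this.symm
  rw [hxz]
  have : ∀ k : ℤ, z ^ k • Q = Q := by
    intro k
    have hzmem : z ∈ MulAction.stabilizer G Q := hzQ
    exact (MulAction.stabilizer G Q).zpow_mem hzmem k
  exact this k

/-- PERM : a `p'`-element of `C_G(P)` fixes every Sylow `p`-subgroup when there are `p + 1` of them. -/
theorem smul_eq_of_mem_Cz (P : Sylow p G)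
    (hP : Nat.card (P : Subgroup G) = p) (hcard : Nat.card (Sylow p G) = p + 1) (y : G)
    (hy : y ∈ Cz (P : Subgroup G)) (hyreg : ¬ p ∣ orderOf y) : ∀ Q : Sylow p G, y • Q = Q := by
  classical
  have hp : p.Prime := Fact.out
  have hcomm : ∀ x ∈ (P : Subgroup G), x * y = y * x := fun x hx => Subgroup.mem_centralizer_iff.mp hy x hx
  -- `y` fixes `P`
  have hyP : y • P = P := by
    rw [Sylow.smul_eq_iff_mem_normalizer]
    exact Subgroup.centralizer_le_normalizer _ hy
  intro Q
  by_cases hQP : Q = P
  · rw [hQP, hyP]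
  -- the orbit of `Q` under `P` is everything except `P`
  have horb : ∀ R : Sylow p G, R ≠ P → ∃ x ∈ (P : Subgroup G), R = x • Q := by
    -- the orbit has `p` elements
    have hstab : MulAction.stabilizer (P : Subgroup G) Q = ⊥ := by
      rw [Subgroup.eq_bot_iff_forall]
      intro x hx
      by_contra hx1
      apply hQP
      exact eq_of_smul_of_ne_one P Q hP x.1 x.2 (fun h => hx1 (Subtype.ext h)) hx
    have hocard : (MulAction.orbit (P : Subgroup G) Q).ncard = p := by
      have h1 := MulAction.index_stabilizer (P : Subgroup G) Q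
      rw [hstab, Subgroup.index_bot, hP] at h1
      exact h1.symm
    -- `P` is not in the orbit
    have hPnot : P ∉ MulAction.orbit (P : Subgroup G) Q := by
      rintro ⟨x, hx⟩
      apply hQP
      have hx' : (x : G) • Q = P := hx
      have : Q = (x : G)⁻¹ • P := eq_inv_smul_iff.mpr hx'
      rw [this, Sylow.smul_eq_iff_mem_normalizer]
      exact Subgroup.le_normalizer (inv_mem x.2)
    -- counting
    by_contra hcon
    push Not at hcon
    obtain ⟨R, hRP, hR⟩ := hcon
    have hRnot : R ∉ MulAction.orbit (P : Subgroup G) Q := by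
      rintro ⟨x, hx⟩
      exact hR x.1 x.2 hx.symm
    have hfin : (MulAction.orbit (P : Subgroup G) Q).Finite := Set.toFinite _
    have h1 : (insert P (insert R (MulAction.orbit (P : Subgroup G) Q))).ncard = p + 2 := by
      rw [Set.ncard_insert_of_notMem _ (hfin.insert R), Set.ncard_insert_of_notMem hRnot hfin, hocard]
      intro h
      rcases Set.mem_insert_iff.mp h with h | h
      · exact hRP h.symm
      · exact hPnot h
    have h2 := Set.ncard_le_card (insert P (insert R (MulAction.orbit (P : Subgroup G) Q)))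
    rw [h1, hcard] at h2
    omega
  -- `y • Q ≠ P`
  have hyQ : y • Q ≠ P := by
    intro h
    apply hQP
    have : Q = y⁻¹ • P := by rw [← h, inv_smul_smul]
    rw [this]
    have : y⁻¹ • P = P := by
      conv_lhs => rw [← hyP]
      rw [inv_smul_smul]
    exact this
  obtain ⟨x, hx, hxQ⟩ := horb (y • Q) hyQ
  -- powers
  have hpow : ∀ m : ℕ, y ^ m • Q = x ^ m • Q := by
    intro m
    induction m with
    | zero => simp
    | succ m ih =>
      have hc : y ^ m * x = x * y ^ m := by
        have : Commute x y := hcomm x hx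
        exact (this.pow_right m).eq.symm
      rw [pow_succ, mul_smul, hxQ, ← mul_smul, hc, mul_smul, ih, ← mul_smul, ← pow_succ']
  have hxm : x ^ orderOf y • Q = Q := by
    rw [← hpow, pow_orderOf_eq_one, one_smul]
  have hx1 : x ^ orderOf y = 1 := by
    by_contra hne
    exact hQP (eq_of_smul_of_ne_one P Q hP _ (pow_mem hx _) hne hxm)
  -- the order of `x` divides `p` and `orderOf y`
  have hox : orderOf x ∣ orderOf y := orderOf_dvd_of_pow_eq_one hx1
  have hoxp : orderOf x ∣ p := by
    have h1 : orderOf (⟨x, hx⟩ : (P : Subgroup G)) ∣ Nat.card (P : Subgroup G) := orderOf_dvd_natCard _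
    rw [hP] at h1
    rwa [Subgroup.orderOf_mk] at h1
  rcases (Nat.dvd_prime hp).mp hoxp with h | h
  · rw [orderOf_eq_one_iff] at h
    rw [hxQ, h, one_smul]
  · exact absurd (h ▸ hox) hyreg

end Cfsg.Agent.Lib.Helper9.BRPPERM
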