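import Mathlib
import Cfsg.Prelude.Def_Classical
import Cfsg.Prelude.Def_ClassicalGeometry
import Cfsg.Prelude.Def_GeometricClasses
import Cfsg.Agent.Lib.Helper5.SUMax
import Cfsg.Agent.Lib.Helper5.UForm
import Cfsg.Agent.Lib.Helper22.C3LDefs
import Cfsg.Agent.Lib.Helper22.C3LTool
import Cfsg.Agent.Lib.Helper16.C3uDefs
import Cfsg.Agent.Lib.Helper13.C3qDefs
import Cfsg.Agent.Lib.Helper12.C3uF
import Cfsg.Agent.Lib.Helper16.C3u2Fin
import Cfsg.Agent.Lib.Helper27.C3qKC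

/-!
S5840 conjunct (7), rank-one unitary `C3` (planner helper13, notes/S5840_C3_plan.md §3), leaf **ADJ**
`exists_sym2`: two adjacent images `L₀`, `W = g L₀` (`dim (L₀ ∩ W) = 4`) of the base line give an element
`c • sym2 S π π'` (`c ≠ 0`, `π, π'` independent over `F`) of `XX`.

Notation of the proof: `hT = τ ∘ fE` (the hermitian form), `Bm e = g A_e g⁻¹` (`A_e = ktMat v₀ e`),
`w₁ ∈ L₀`, `w₂ ∈ W` with `hT w₁ w₂ = 1`; `Ym a b = (1 + B_b) A_a (1 - B_b)`; the polarisation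
`Y_{b+b'} - Y_b - Y_{b'} + A_a = -(B_b A_a B_{b'} + B_{b'} A_a B_b)`.
-/

set_option autoImplicit false
set_option linter.unusedSectionVars false
set_option linter.unusedVariables false

namespace Cfsg.Agent.Lib.Helper9.C3qLeaf
open Cfsg Matrix Module Cfsg.Agent.Lib.Helper5.SpMax Cfsg.Agent.Lib.Helper5.SUMax
  Cfsg.Agent.Lib.Helper22.C3L Cfsg.Agent.Lib.Helper16.C3u Cfsg.Agent.Lib.Helper13.C3q

universe u
variable {F : Type u} [Field F] [Fintype F] {n q : ℕ} {E : Type u} [Field E] [Algebra F E]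

local notation "𝕍" => (Fin n → F)
local notation "𝕄" => Matrix (Fin n) (Fin n) F
local notation "ℍ" => (Cfsg.GU n F q ⊓ Cfsg.Geo.specialLinear (Fin n) F)

/-! ### the hermitian form `hT = τ ∘ fE` -/

/-- the `F`-hermitian form `τ ∘ fE` (equal to `hermForm`) -/
def hT (S : KU n q F E) (x y : 𝕍) : F := S.τ (S.fE x y)

section hT
variable (S : KU n q F E)

lemma hT_def (x y : 𝕍) : hT S x y = S.τ (S.fE x y) := rfl

lemma hT_eq (x y : 𝕍) : hT S x y = Cfsg.hermForm n F q x y := (S.form_eq' x y).symm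

lemma hT_add_left (x y z : 𝕍) : hT S (x + y) z = hT S x z + hT S y z := by
  rw [hT_def, hT_def, hT_def, S.add_left, map_add]

lemma hT_add_right (x y z : 𝕍) : hT S x (y + z) = hT S x y + hT S x z := by
  rw [hT_def, hT_def, hT_def, S.fE_add_right, map_add]

lemma hT_smul_left (c : F) (x y : 𝕍) : hT S (c • x) y = c * hT S x y := by
  rw [hT_def, hT_def, S.fE_fsmul_left, map_smul, smul_eq_mul]

lemma hT_smul_right (c : F) (x y : 𝕍) : hT S x (c • y) = c ^ q * hT S x y := by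
  rw [hT_def, hT_def, S.fE_fsmul_right, map_smul, smul_eq_mul]

lemma hT_neg_left (x y : 𝕍) : hT S (-x) y = - hT S x y := by
  rw [hT_def, hT_def, S.fE_neg_left, map_neg]

lemma hT_neg_right (x y : 𝕍) : hT S x (-y) = - hT S x y := by
  rw [hT_def, hT_def, S.fE_neg_right, map_neg]

lemma hT_symm (x y : 𝕍) : hT S y x = hT S x y ^ q := by
  rw [hT_def, hT_def, S.herm x y, S.τ_st]

lemma hT_act_left (e : E) (x y : 𝕍) : hT S (act S.ρ e x) y = S.τ (e * S.fE x y) := by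
  rw [hT_def, S.fE_act_left]

lemma hT_act_right (e : E) (x y : 𝕍) : hT S x (act S.ρ e y) = S.τ (S.st e * S.fE x y) := by
  rw [hT_def, S.fE_act_right]

/-- the base line is totally isotropic -/
lemma hT_line {v₀ : 𝕍} (hiso : S.fE v₀ v₀ = 0) {x y : 𝕍} (hx : x ∈ line S.ρ v₀)
    (hy : y ∈ line S.ρ v₀) : hT S x y = 0 := by
  obtain ⟨e, rfl⟩ := mem_line.mp hx
  obtain ⟨e', rfl⟩ := mem_line.mp hy
  rw [hT_def, S.fE_act_left, S.fE_act_right, hiso, mul_zero, mul_zero, map_zero]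

/-- `fE` vanishes on the base line against `v₀` -/
lemma fE_line {v₀ : 𝕍} (hiso : S.fE v₀ v₀ = 0) {x : 𝕍} (hx : x ∈ line S.ρ v₀) :
    S.fE x v₀ = 0 := S.mem_hyp.mp (S.line_le_hyp hiso hx)

end hT

/-! ### hyperplane decomposition -/

lemma decomp_of_hyperplane {P Q : Submodule F 𝕍}
    (hfin : finrank F ↥(P ⊓ Q) + 1 = finrank F ↥Q) {w' : 𝕍} (hw' : w' ∈ Q) (hw'P : w' ∉ P) :
    ∀ y ∈ Q, ∃ u ∈ P ⊓ Q, ∃ c : F, y = u + c • w' := by
  have hle : (P ⊓ Q) ⊔ Submodule.span F {w'} ≤ Q :=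
    sup_le inf_le_right ((Submodule.span_singleton_le_iff_mem w' Q).mpr hw')
  have hlt : P ⊓ Q < (P ⊓ Q) ⊔ Submodule.span F {w'} := by
    refine lt_of_le_of_ne le_sup_left ?_
    intro heq
    apply hw'P
    have : w' ∈ P ⊓ Q := by
      rw [heq]
      exact Submodule.mem_sup_right (Submodule.mem_span_singleton_self w')
    exact this.1
  have h1 := Submodule.finrank_lt_finrank_of_lt hlt
  have heq : (P ⊓ Q) ⊔ Submodule.span F {w'} = Q :=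
    Submodule.eq_of_le_of_finrank_le hle (by omega)
  intro y hy
  rw [← heq] at hy
  obtain ⟨u, hu, z, hz, rfl⟩ := Submodule.mem_sup.mp hy
  obtain ⟨c, rfl⟩ := Submodule.mem_span_singleton.mp hz
  exact ⟨u, hu, c, rfl⟩

/-! ### the matrices `A_e = ktMat v₀ e` and `B_e = g A_e g⁻¹` -/

section mats
variable (S : KU n q F E) (v₀ : Fin n → F) (g : GL (Fin n) F)

lemma ktMat_add (a a' : E) : S.ktMat v₀ (a + a') = S.ktMat v₀ a + S.ktMat v₀ a' := by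
  apply mat_eq_of_mulVec
  intro x
  rw [Matrix.add_mulVec, S.ktMat_mulVec, S.ktMat_mulVec, S.ktMat_mulVec, add_mul, act_add]

lemma ktMat_fsmul (c : F) (a : E) : S.ktMat v₀ (c • a) = c • S.ktMat v₀ a := by
  apply mat_eq_of_mulVec
  intro x
  rw [Matrix.smul_mulVec, S.ktMat_mulVec, S.ktMat_mulVec, smul_mul_assoc, act_smul]

/-- `A_a` has image in the base line -/
lemma ktMat_mem_line (a : E) (x : 𝕍) : S.ktMat v₀ a *ᵥ x ∈ line S.ρ v₀ := by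
  rw [S.ktMat_mulVec]
  exact act_mem_line _ _

/-- `A_a` kills the base line -/
lemma ktMat_line {v₀ : 𝕍} (hiso : S.fE v₀ v₀ = 0) (a : E) {x : 𝕍} (hx : x ∈ line S.ρ v₀) :
    S.ktMat v₀ a *ᵥ x = 0 := by
  rw [S.ktMat_mulVec, fE_line S hiso hx, mul_zero, act_zero]

/-- `A_b` is skew for `hT` when `b` is skew -/
lemma hT_ktMat {b : E} (hb : S.st b = -b) (x y : 𝕍) :
    hT S (S.ktMat v₀ b *ᵥ x) y + hT S x (S.ktMat v₀ b *ᵥ y) = 0 := by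
  rw [S.ktMat_mulVec, S.ktMat_mulVec, hT_act_left, hT_act_right, S.st.map_mul, hb, ← S.herm y v₀,
    ← map_add]
  have h : b * S.fE x v₀ * S.fE v₀ y + -b * S.fE v₀ y * S.fE x v₀ = 0 := by ring
  rw [h, map_zero]

/-- `B_e = g A_e g⁻¹` -/
def Bm (e : E) : 𝕄 := (g : 𝕄) * S.ktMat v₀ e * ((g⁻¹ : GL (Fin n) F) : 𝕄)

lemma Bm_mulVec (e : E) (x : 𝕍) :
    Bm S v₀ g e *ᵥ x = (g : 𝕄) *ᵥ (S.ktMat v₀ e *ᵥ (((g⁻¹ : GL (Fin n) F) : 𝕄) *ᵥ x)) := by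
  unfold Bm
  rw [← Matrix.mulVec_mulVec, ← Matrix.mulVec_mulVec]

lemma Bm_add (e e' : E) : Bm S v₀ g (e + e') = Bm S v₀ g e + Bm S v₀ g e' := by
  unfold Bm
  rw [ktMat_add, mul_add, add_mul]

lemma Bm_fsmul (c : F) (e : E) : Bm S v₀ g (c • e) = c • Bm S v₀ g e := by
  unfold Bm
  rw [ktMat_fsmul, Matrix.mul_smul, Matrix.smul_mul]

lemma Bm_mem_img (e : E) (x : 𝕍) : Bm S v₀ g e *ᵥ x ∈ img g (line S.ρ v₀) := by
  rw [Bm_mulVec]
  exact mulVec_mem_img (ktMat_mem_line S v₀ e _)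

lemma Bm_img {v₀ : 𝕍} (hiso : S.fE v₀ v₀ = 0) (e : E) {w : 𝕍} (hw : w ∈ img g (line S.ρ v₀)) :
    Bm S v₀ g e *ᵥ w = 0 := by
  rw [Bm_mulVec, ktMat_line S hiso e (mem_img_iff.mp hw), Matrix.mulVec_zero]

lemma Bm_mul_Bm {v₀ : 𝕍} (hiso : S.fE v₀ v₀ = 0) (e e' : E) :
    Bm S v₀ g e * Bm S v₀ g e' = 0 := by
  apply mat_eq_of_mulVec
  intro x
  rw [← Matrix.mulVec_mulVec, Bm_img S g hiso e (Bm_mem_img S v₀ g e' x), Matrix.zero_mulVec]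

/-- `B_b` is skew for `hT` when `b` is skew and `g` is an isometry -/
lemma hT_Bm (hgU : ∀ x y, hT S ((g : 𝕄) *ᵥ x) ((g : 𝕄) *ᵥ y) = hT S x y) {b : E}
    (hb : S.st b = -b) (x y : 𝕍) :
    hT S (Bm S v₀ g b *ᵥ x) y + hT S x (Bm S v₀ g b *ᵥ y) = 0 := by
  rw [Bm_mulVec, Bm_mulVec]
  have h1 : hT S ((g : 𝕄) *ᵥ (S.ktMat v₀ b *ᵥ (((g⁻¹ : GL (Fin n) F) : 𝕄) *ᵥ x))) y
      = hT S (S.ktMat v₀ b *ᵥ (((g⁻¹ : GL (Fin n) F) : 𝕄) *ᵥ x))
          (((g⁻¹ : GL (Fin n) F) : 𝕄) *ᵥ y) := by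
    conv_lhs => rw [← mul_inv_mulVec g y]
    rw [hgU]
  have h2 : hT S x ((g : 𝕄) *ᵥ (S.ktMat v₀ b *ᵥ (((g⁻¹ : GL (Fin n) F) : 𝕄) *ᵥ y)))
      = hT S (((g⁻¹ : GL (Fin n) F) : 𝕄) *ᵥ x)
          (S.ktMat v₀ b *ᵥ (((g⁻¹ : GL (Fin n) F) : 𝕄) *ᵥ y)) := by
    conv_lhs => rw [← mul_inv_mulVec g x]
    rw [hgU]
  rw [h1, h2]
  exact hT_ktMat S v₀ hb _ _

/-- `1 + B_b ∈ M` -/
lemma InM_one_add_Bm {M : Subgroup (GL (Fin n) F)} (hg : g ∈ M) {v₀ : 𝕍} (hiso : S.fE v₀ v₀ = 0)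
    {b : E} (hb : S.kt v₀ b hiso ∈ M) : InM M (1 + Bm S v₀ g b) := by
  have h := InM_conj (InM_of_mem hb) hg
  have e : (g : 𝕄) * ((S.kt v₀ b hiso : GL (Fin n) F) : 𝕄) * ((g⁻¹ : GL (Fin n) F) : 𝕄)
      = 1 + Bm S v₀ g b := by
    unfold KU.kt Bm
    rw [unip_val, mul_add, mul_one, add_mul, ← Units.val_mul, mul_inv_cancel, Units.val_one]
  rwa [e] at h

end mats

/-! ### matrices with image in `L` and killing `L` -/

/-- `Y V ≤ L ≤ ker Y` -/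
def Nil0 (L : Submodule F 𝕍) (Y : 𝕄) : Prop := (∀ x, Y *ᵥ x ∈ L) ∧ (∀ x ∈ L, Y *ᵥ x = 0)

lemma Nil0.mul_eq_zero {L : Submodule F 𝕍} {Y Y' : 𝕄} (hY : Nil0 L Y) (hY' : Nil0 L Y') :
    Y * Y' = 0 := by
  apply mat_eq_of_mulVec
  intro x
  rw [← Matrix.mulVec_mulVec, hY.2 _ (hY'.1 x), Matrix.zero_mulVec]

lemma Nil0.add {L : Submodule F 𝕍} {Y Y' : 𝕄} (hY : Nil0 L Y) (hY' : Nil0 L Y') :
    Nil0 L (Y + Y') := by
  refine ⟨fun x => ?_, fun x hx => ?_⟩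
  · rw [Matrix.add_mulVec]
    exact L.add_mem (hY.1 x) (hY'.1 x)
  · rw [Matrix.add_mulVec, hY.2 x hx, hY'.2 x hx, add_zero]

lemma Nil0.neg {L : Submodule F 𝕍} {Y : 𝕄} (hY : Nil0 L Y) : Nil0 L (-Y) := by
  refine ⟨fun x => ?_, fun x hx => ?_⟩
  · rw [Matrix.neg_mulVec]
    exact L.neg_mem (hY.1 x)
  · rw [Matrix.neg_mulVec, hY.2 x hx, neg_zero]

lemma InM_add_of_Nil0 {M : Subgroup (GL (Fin n) F)} {L : Submodule F 𝕍} {Y Y' : 𝕄}
    (hY : Nil0 L Y) (hY' : Nil0 L Y') (h : InM M (1 + Y)) (h' : InM M (1 + Y')) :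
    InM M (1 + (Y + Y')) := by
  have h2 := InM_mul h h'
  have e : (1 + Y) * (1 + Y') = 1 + (Y + Y') + Y * Y' := by
    rw [add_mul, one_mul, mul_add, mul_one]
    abel
  rwa [e, hY.mul_eq_zero hY', add_zero] at h2

lemma InM_neg_of_Nil0 {M : Subgroup (GL (Fin n) F)} {L : Submodule F 𝕍} {Y : 𝕄}
    (hY : Nil0 L Y) (h : InM M (1 + Y)) : InM M (1 + -Y) := by
  apply InM_inv h
  have e : (1 + Y) * (1 + -Y) = 1 - Y * Y := by
    rw [add_mul, one_mul, mul_add, mul_one, Matrix.mul_neg]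
    abel
  rw [e, hY.mul_eq_zero hY, sub_zero]

/-! ### the configuration -/

/-- the configuration: `w₁ ∈ L₀`, `w₂ ∈ W = g L₀` and the decompositions of `L₀` and `W` along the common
hyperplane `L₀ ⊓ W` -/
structure Ctx (S : KU n q F E) (v₀ : Fin n → F) (g : GL (Fin n) F) (w₁ w₂ : Fin n → F) : Prop where
  hv₀ : v₀ ≠ 0
  hiso : S.fE v₀ v₀ = 0
  hgU : ∀ x y, hT S ((g : 𝕄) *ᵥ x) ((g : 𝕄) *ᵥ y) = hT S x y
  hw₁ : w₁ ∈ line S.ρ v₀
  hw₂ : w₂ ∈ img g (line S.ρ v₀)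
  hψ : S.fE (((g⁻¹ : GL (Fin n) F) : 𝕄) *ᵥ w₁) v₀ ≠ 0
  dec₁ : ∀ x ∈ line S.ρ v₀, ∃ u ∈ line S.ρ v₀ ⊓ img g (line S.ρ v₀), x = u + hT S x w₂ • w₁
  dec₂ : ∀ y ∈ img g (line S.ρ v₀),
    ∃ u ∈ line S.ρ v₀ ⊓ img g (line S.ρ v₀), y = u + hT S y w₁ • w₂

/-- `Y = (1 + B_b) A_a (1 - B_b)` -/
def Ym (S : KU n q F E) (v₀ : Fin n → F) (g : GL (Fin n) F) (a b : E) : 𝕄 :=
  (1 + Bm S v₀ g b) * S.ktMat v₀ a * (1 - Bm S v₀ g b)

/-- the polarisation identity -/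
lemma polar (S : KU n q F E) (v₀ : Fin n → F) (g : GL (Fin n) F) (a b b' : E) :
    Ym S v₀ g a (b + b') + -(Ym S v₀ g a b) + -(Ym S v₀ g a b') + S.ktMat v₀ a =
      -(Bm S v₀ g b * S.ktMat v₀ a * Bm S v₀ g b' + Bm S v₀ g b' * S.ktMat v₀ a * Bm S v₀ g b) := by
  unfold Ym
  rw [Bm_add]
  noncomm_ring

namespace Ctx
variable {S : KU n q F E} {v₀ : Fin n → F} {g : GL (Fin n) F} {w₁ w₂ : Fin n → F}
  (C : Ctx S v₀ g w₁ w₂)
include C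

lemma Bm_line (e : E) {x : 𝕍} (hx : x ∈ line S.ρ v₀) :
    Bm S v₀ g e *ᵥ x = hT S x w₂ • (Bm S v₀ g e *ᵥ w₁) := by
  obtain ⟨u, hu, hxu⟩ := C.dec₁ x hx
  conv_lhs => rw [hxu]
  rw [Matrix.mulVec_add, Matrix.mulVec_smul, Bm_img S g C.hiso e hu.2, zero_add]

lemma Bm_dec {b : E} (hb : S.st b = -b) (x : 𝕍) :
    ∃ u ∈ line S.ρ v₀ ⊓ img g (line S.ρ v₀),
      Bm S v₀ g b *ᵥ x = u - hT S x (Bm S v₀ g b *ᵥ w₁) • w₂ := by
  obtain ⟨u, hu, h⟩ := C.dec₂ _ (Bm_mem_img S v₀ g b x)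
  refine ⟨u, hu, ?_⟩
  have h1 : hT S (Bm S v₀ g b *ᵥ x) w₁ = - hT S x (Bm S v₀ g b *ᵥ w₁) :=
    eq_neg_of_add_eq_zero_left (hT_Bm S v₀ g C.hgU hb x w₁)
  rw [h1, neg_smul, ← sub_eq_add_neg] at h
  exact h

lemma triple {b' : E} (hb' : S.st b' = -b') (e a : E) (x : 𝕍) :
    Bm S v₀ g e *ᵥ (S.ktMat v₀ a *ᵥ (Bm S v₀ g b' *ᵥ x)) =
      -((hT S x (Bm S v₀ g b' *ᵥ w₁) * hT S (act S.ρ (a * S.fE w₂ v₀) v₀) w₂) •
        (Bm S v₀ g e *ᵥ w₁)) := by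
  obtain ⟨u, hu, h⟩ := C.Bm_dec hb' x
  rw [h, Matrix.mulVec_sub, Matrix.mulVec_smul, ktMat_line S C.hiso a hu.1, zero_sub,
    S.ktMat_mulVec, Matrix.mulVec_neg, Matrix.mulVec_smul, C.Bm_line e (act_mem_line _ _),
    smul_smul]

lemma Bm_w₁_mem {b : E} (hK : hT S (Bm S v₀ g b *ᵥ w₁) w₁ = 0) :
    Bm S v₀ g b *ᵥ w₁ ∈ line S.ρ v₀ ⊓ img g (line S.ρ v₀) := by
  obtain ⟨u, hu, h⟩ := C.dec₂ _ (Bm_mem_img S v₀ g b w₁)
  rw [hK, zero_smul, add_zero] at h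
  rw [h]
  exact hu

lemma Bm_line_mem {b : E} (hK : hT S (Bm S v₀ g b *ᵥ w₁) w₁ = 0) {x : 𝕍}
    (hx : x ∈ line S.ρ v₀) : Bm S v₀ g b *ᵥ x ∈ line S.ρ v₀ := by
  rw [C.Bm_line b hx]
  exact (line S.ρ v₀).smul_mem _ (C.Bm_w₁_mem hK).1

lemma Ym_nil0 (a : E) {b : E} (hK : hT S (Bm S v₀ g b *ᵥ w₁) w₁ = 0) :
    Nil0 (line S.ρ v₀) (Ym S v₀ g a b) := by
  refine ⟨fun x => ?_, fun x hx => ?_⟩
  · unfold Ym
    rw [← Matrix.mulVec_mulVec, ← Matrix.mulVec_mulVec, Matrix.add_mulVec, Matrix.one_mulVec]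
    exact (line S.ρ v₀).add_mem (ktMat_mem_line S v₀ a _)
      (C.Bm_line_mem hK (ktMat_mem_line S v₀ a _))
  · unfold Ym
    rw [← Matrix.mulVec_mulVec, ← Matrix.mulVec_mulVec, Matrix.sub_mulVec, Matrix.one_mulVec,
      ktMat_line S C.hiso a ((line S.ρ v₀).sub_mem hx (C.Bm_line_mem hK hx)),
      Matrix.mulVec_zero]

lemma InM_Ym {M : Subgroup (GL (Fin n) F)} (hg : g ∈ M) {a b : E}
    (ha : S.kt v₀ a C.hiso ∈ M) (hb : S.kt v₀ b C.hiso ∈ M) : InM M (1 + Ym S v₀ g a b) := by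
  have h1 := InM_one_add_Bm S g hg C.hiso hb
  have hBB := Bm_mul_Bm S g C.hiso b b
  have e0 : (1 + Bm S v₀ g b) * (1 - Bm S v₀ g b) = 1 := by
    rw [add_mul, one_mul, mul_sub, mul_one, hBB]
    abel
  have h2 : InM M (1 - Bm S v₀ g b) := InM_inv h1 e0
  have hA : InM M (1 + S.ktMat v₀ a) := InM_of_mem ha
  have h3 := InM_mul (InM_mul h1 hA) h2
  have e : (1 + Bm S v₀ g b) * (1 + S.ktMat v₀ a) * (1 - Bm S v₀ g b) = 1 + Ym S v₀ g a b := by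
    unfold Ym
    rw [mul_add (1 + Bm S v₀ g b) 1 (S.ktMat v₀ a), mul_one, add_mul, e0]
  rwa [e] at h3

lemma Bm_w₁_inj {e : E} (h : Bm S v₀ g e *ᵥ w₁ = 0) : e = 0 := by
  rw [Bm_mulVec, S.ktMat_mulVec] at h
  have h1 : act S.ρ (e * S.fE (((g⁻¹ : GL (Fin n) F) : 𝕄) *ᵥ w₁) v₀) v₀ = 0 :=
    mulVec_inj g (by rw [h, Matrix.mulVec_zero])
  rcases act_eq_zero S.ρ h1 with h2 | h2
  · rcases mul_eq_zero.mp h2 with h3 | h3
    · exact h3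
    · exact absurd h3 C.hψ
  · exact absurd h2 C.hv₀

/-- the polarised element is `uX (c₁ • sym2 π π')` -/
lemma N_eq {b b' : E} (hb : S.st b = -b) (hb' : S.st b' = -b') (a : E) {π π' : E}
    (hπ : act S.ρ π v₀ = Bm S v₀ g b *ᵥ w₁) (hπ' : act S.ρ π' v₀ = Bm S v₀ g b' *ᵥ w₁) :
    -(Bm S v₀ g b * S.ktMat v₀ a * Bm S v₀ g b' + Bm S v₀ g b' * S.ktMat v₀ a * Bm S v₀ g b) =
      uXMat S.ρ (lam S v₀) v₀
        (hT S (act S.ρ (a * S.fE w₂ v₀) v₀) w₂ • sym2 S π π') := by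
  apply mat_eq_of_mulVec
  intro x
  rw [Matrix.neg_mulVec, Matrix.add_mulVec, ← Matrix.mulVec_mulVec, ← Matrix.mulVec_mulVec,
    ← Matrix.mulVec_mulVec, ← Matrix.mulVec_mulVec, C.triple hb' b a x, C.triple hb b' a x,
    uXMat_mulVec, lam_apply, LinearMap.smul_apply, sym2_apply, ← hπ, ← hπ', hT_act_right,
    hT_act_right, act_smul, act_add, act_smul, act_smul, neg_add, neg_neg, neg_neg, smul_add,
    smul_smul, smul_smul, mul_comm (hT S (act S.ρ (a * S.fE w₂ v₀) v₀) w₂),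
    mul_comm (hT S (act S.ρ (a * S.fE w₂ v₀) v₀) w₂)]

end Ctx

/-! ### counting: two independent skew elements in the kernel of an additive map to `F` -/

/-- the additive group of the skew elements -/
def Sk (S : KU n q F E) : AddSubgroup E where
  carrier := {e | S.st e = -e}
  add_mem' := by
    intro a b ha hb
    show S.st (a + b) = -(a + b)
    rw [map_add, ha, hb, neg_add]
  zero_mem' := by
    show S.st 0 = -0
    rw [map_zero, neg_zero]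
  neg_mem' := by
    intro a ha
    show S.st (-a) = - -a
    rw [map_neg, ha]

lemma mem_Sk (S : KU n q F E) (e : E) : e ∈ Sk S ↔ S.st e = -e := Iff.rfl

lemma exists_indep_ker (S : KU n q F E) (hF : Fintype.card F = q ^ 2) [FiniteDimensional F E]
    (hr : 5 ≤ finrank F E) (Θ : E →+ F) :
    ∃ b b' : E, S.st b = -b ∧ S.st b' = -b' ∧ Θ b = 0 ∧ Θ b' = 0 ∧
      ∀ x y : F, x • b + y • b' = 0 → x = 0 ∧ y = 0 := by
  classical
  have : Finite E := Module.finite_of_finite F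
  have hq2 : 2 ≤ q := by
    by_contra hq
    have hq1 : q ≤ 1 := by omega
    have h1 : Fintype.card F ≤ 1 := by
      rw [hF]
      exact pow_le_one' hq1 2
    have h2 := Fintype.one_lt_card (α := F)
    omega
  -- the restriction of `Θ` to the skew elements
  obtain ⟨Θs, hΘs⟩ : ∃ Θs : ↥(Sk S) →+ F, Θs = Θ.comp (Sk S).subtype := ⟨_, rfl⟩
  have hΘs_apply : ∀ k : ↥(Sk S), Θs k = Θ (k : E) := by
    intro k
    rw [hΘs]
    rfl
  have hcard : Nat.card ↥Θs.ker * Nat.card ↥Θs.range = Nat.card ↥(Sk S) := by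
    rw [← AddSubgroup.index_ker]
    exact AddSubgroup.card_mul_index _
  have hSk : Nat.card ↥(Sk S) = q ^ finrank F E :=
    Cfsg.Agent.Lib.Helper27.C3qLeaf.card_skew S hF
  have hrange : Nat.card ↥Θs.range ≤ q ^ 2 := by
    have h1 : Nat.card ↥Θs.range ≤ Nat.card F := Finite.card_subtype_le _
    rwa [Nat.card_eq_fintype_card (α := F), hF] at h1
  have hK3 : q ^ 3 ≤ Nat.card ↥Θs.ker := by
    have h1 : q ^ 5 ≤ q ^ finrank F E := Nat.pow_le_pow_right (by omega) hr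
    have h2 : q ^ 3 * q ^ 2 ≤ Nat.card ↥Θs.ker * q ^ 2 := by
      calc q ^ 3 * q ^ 2 = q ^ 5 := by ring
        _ ≤ q ^ finrank F E := h1
        _ = Nat.card ↥Θs.ker * Nat.card ↥Θs.range := by rw [hcard, hSk]
        _ ≤ Nat.card ↥Θs.ker * q ^ 2 := Nat.mul_le_mul_left _ hrange
    exact Nat.le_of_mul_le_mul_right h2 (by positivity)
  have hq23 : q ^ 2 < q ^ 3 := Nat.pow_lt_pow_right (by omega) (by omega)
  by_contra hcon
  push Not at hcon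
  -- a non-zero element of the kernel
  have hnt : Nontrivial ↥Θs.ker := by
    rw [← Finite.one_lt_card_iff_nontrivial]
    have : 1 < q ^ 3 := Nat.one_lt_pow (by omega) (by omega)
    omega
  obtain ⟨k₀, hk₀⟩ := exists_ne (0 : ↥Θs.ker)
  have hb₀ : ((k₀ : ↥(Sk S)) : E) ≠ 0 := by
    intro h
    apply hk₀
    apply Subtype.ext
    apply Subtype.ext
    exact h
  have hk₀sk : S.st ((k₀ : ↥(Sk S)) : E) = -((k₀ : ↥(Sk S)) : E) := (k₀ : ↥(Sk S)).2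
  have hk₀Θ : Θ ((k₀ : ↥(Sk S)) : E) = 0 := by
    rw [← hΘs_apply]
    exact k₀.2
  -- every element of the kernel is an `F`-multiple of it
  have hmult : ∀ k : ↥Θs.ker, ∃ c : F, ((k : ↥(Sk S)) : E) = c • ((k₀ : ↥(Sk S)) : E) := by
    intro k
    have hkΘ : Θ ((k : ↥(Sk S)) : E) = 0 := by
      rw [← hΘs_apply]
      exact k.2
    obtain ⟨x, y, hxy, hne⟩ := hcon _ _ hk₀sk (k : ↥(Sk S)).2 hk₀Θ hkΘ
    have hy : y ≠ 0 := by
      intro hy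
      rw [hy, zero_smul, add_zero] at hxy
      rcases smul_eq_zero.mp hxy with h | h
      · exact hne h hy
      · exact hb₀ h
    refine ⟨-(y⁻¹ * x), ?_⟩
    have h1 : y • ((k : ↥(Sk S)) : E) = -(x • ((k₀ : ↥(Sk S)) : E)) :=
      eq_neg_of_add_eq_zero_right hxy
    calc ((k : ↥(Sk S)) : E) = y⁻¹ • (y • ((k : ↥(Sk S)) : E)) := by
          rw [smul_smul, inv_mul_cancel₀ hy, one_smul]
      _ = -(y⁻¹ * x) • ((k₀ : ↥(Sk S)) : E) := by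
          rw [h1, smul_neg, smul_smul, neg_smul]
  choose f hf using hmult
  have hinj : Function.Injective f := by
    intro k k' hkk
    apply Subtype.ext
    apply Subtype.ext
    rw [hf k, hf k', hkk]
  have h1 := Nat.card_le_card_of_injective f hinj
  rw [Nat.card_eq_fintype_card (α := F), hF] at h1
  omega

/-! ### the leaf -/

/-- **ADJ** [L] two adjacent lines give a rank-two element `c (⟨·, π'⟩ π + ⟨·, π⟩ π')` of the unipotent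
radical of the stabiliser of the base line -/
theorem exists_sym2 (S : KU n q F E) (hF : Fintype.card F = q ^ 2) [FiniteDimensional F E]
    (hr5 : finrank F E = 5) (hd : n = 10) (M : Subgroup (GL (Fin n) F)) (hMS : M ≤ ℍ)
    (hM : ∀ g ∈ ℍ, (∀ e : E, (g : 𝕄) * S.ρ e = S.ρ e * (g : 𝕄)) → g ∈ M)
    {v₀ : 𝕍} (hv₀ : v₀ ≠ 0) (hiso : S.fE v₀ v₀ = 0) {g : GL (Fin n) F} (hg : g ∈ M)
    (hadj : finrank F ↥(line S.ρ v₀ ⊓ img g (line S.ρ v₀)) = 4) :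
    ∃ (c : F) (π π' : E), c ≠ 0 ∧ (∀ x y : F, x • π + y • π' = 0 → x = 0 ∧ y = 0) ∧
      c • sym2 S π π' ∈ XX S.ρ M (lam S v₀) v₀ (lam_self S hiso) := by
  have hn2 : n = 2 * finrank F E := by omega
  have hn0 : 0 < n := by omega
  have hL : finrank F ↥(line S.ρ v₀) = 5 := by rw [finrank_line hv₀, hr5]
  have hW : finrank F ↥(img g (line S.ρ v₀)) = 5 := by rw [finrank_img, hL]
  have hhyp := Cfsg.Agent.Lib.Helper16.C3u2.hyp_eq_line S hF hn2 hv₀ hiso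
  -- `g` is an isometry
  have hgU : ∀ x y, hT S ((g : 𝕄) *ᵥ x) ((g : 𝕄) *ᵥ y) = hT S x y := by
    intro x y
    rw [hT_eq, hT_eq]
    exact mem_GU.mp (hMS hg).1 x y
  -- `W` is totally isotropic
  have hWti : ∀ x ∈ img g (line S.ρ v₀), ∀ y ∈ img g (line S.ρ v₀), hT S x y = 0 := by
    intro x hx y hy
    obtain ⟨x', hx', rfl⟩ := mem_img.mp hx
    obtain ⟨y', hy', rfl⟩ := mem_img.mp hy
    rw [hgU]
    exact hT_line S hiso hx' hy'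
  -- `w₂ ∈ W \ L₀`
  obtain ⟨w₂, hw₂, hw₂L⟩ : ∃ w₂ ∈ img g (line S.ρ v₀), w₂ ∉ line S.ρ v₀ := by
    by_contra hcon
    push Not at hcon
    have hle : img g (line S.ρ v₀) ≤ line S.ρ v₀ := hcon
    rw [inf_eq_right.mpr hle, hW] at hadj
    omega
  have hφ : S.fE w₂ v₀ ≠ 0 := by
    intro h0
    apply hw₂L
    rw [← hhyp]
    exact S.mem_hyp.mpr h0
  have hφ' : S.st (S.fE w₂ v₀) ≠ 0 := by
    intro h
    exact hφ ((map_eq_zero_iff S.st S.st.injective).mp h)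
  -- `w₁ ∈ L₀` with `hT w₁ w₂ = 1`
  obtain ⟨e, he⟩ := Cfsg.Agent.Lib.Helper12.C3uLeaf.tau_surj S hn0 1
  obtain ⟨w₁, hw₁def⟩ : ∃ w₁ : 𝕍, w₁ = act S.ρ (e * (S.st (S.fE w₂ v₀))⁻¹) v₀ := ⟨_, rfl⟩
  have hw₁ : w₁ ∈ line S.ρ v₀ := by
    rw [hw₁def]
    exact act_mem_line _ _
  have h12 : hT S w₁ w₂ = 1 := by
    rw [hw₁def, hT_act_left, S.herm w₂ v₀, inv_mul_cancel_right₀ hφ', he]
  have h21 : hT S w₂ w₁ = 1 := by
    rw [hT_symm S w₁ w₂, h12, one_pow]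
  have hw₁W : w₁ ∉ img g (line S.ρ v₀) := by
    intro h
    have h0 := hWti w₁ h w₂ hw₂
    rw [h12] at h0
    exact one_ne_zero h0
  have hψ : S.fE (((g⁻¹ : GL (Fin n) F) : 𝕄) *ᵥ w₁) v₀ ≠ 0 := by
    intro h0
    apply hw₁W
    rw [mem_img_iff, ← hhyp]
    exact S.mem_hyp.mpr h0
  -- the two decompositions
  have dec₂ : ∀ y ∈ img g (line S.ρ v₀),
      ∃ u ∈ line S.ρ v₀ ⊓ img g (line S.ρ v₀), y = u + hT S y w₁ • w₂ := by
    intro y hy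
    obtain ⟨u, hu, c, hyc⟩ := decomp_of_hyperplane (P := line S.ρ v₀)
      (Q := img g (line S.ρ v₀)) (by omega) hw₂ hw₂L y hy
    refine ⟨u, hu, ?_⟩
    have hc : hT S y w₁ = c := by
      rw [hyc, hT_add_left, hT_smul_left, h21, mul_one, hT_line S hiso hu.1 hw₁, zero_add]
    rw [hc]
    exact hyc
  have dec₁ : ∀ x ∈ line S.ρ v₀,
      ∃ u ∈ line S.ρ v₀ ⊓ img g (line S.ρ v₀), x = u + hT S x w₂ • w₁ := by
    intro x hx
    obtain ⟨u, hu, c, hxc⟩ := decomp_of_hyperplane (P := img g (line S.ρ v₀))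
      (Q := line S.ρ v₀) (by rw [inf_comm]; omega) hw₁ hw₁W x hx
    refine ⟨u, ⟨hu.2, hu.1⟩, ?_⟩
    have hc : hT S x w₂ = c := by
      rw [hxc, hT_add_left, hT_smul_left, h12, mul_one, hWti u hu.1 w₂ hw₂, zero_add]
    rw [hc]
    exact hxc
  have C : Ctx S v₀ g w₁ w₂ := ⟨hv₀, hiso, hgU, hw₁, hw₂, hψ, dec₁, dec₂⟩
  -- the skew `a` with `c₁ ≠ 0`
  have hfix : S.st (S.fE w₂ v₀ * S.st (S.fE w₂ v₀)) = S.fE w₂ v₀ * S.st (S.fE w₂ v₀) := by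
    rw [map_mul, S.st_st, mul_comm]
  obtain ⟨a, ha, hτa⟩ := Cfsg.Agent.Lib.Helper12.C3uLeaf.exists_skew_tau_ne S hF hn0
    (mul_ne_zero hφ hφ') hfix
  have hc₁ : hT S (act S.ρ (a * S.fE w₂ v₀) v₀) w₂ ≠ 0 := by
    rw [hT_act_left, S.herm w₂ v₀, mul_assoc]
    exact hτa
  -- the root elements are in `M`
  have hkt : ∀ b : E, S.st b = -b → S.kt v₀ b hiso ∈ M :=
    fun b hb => hM _ (S.kt_mem hiso hb) (S.kt_comm hiso b)
  -- two independent skew elements in the kernel of `Θ`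
  obtain ⟨b, b', hb, hb', hΘb, hΘb', hind⟩ := exists_indep_ker S hF (by omega)
    (AddMonoidHom.mk' (fun e => hT S (Bm S v₀ g e *ᵥ w₁) w₁) (by
      intro e e'
      rw [Bm_add, Matrix.add_mulVec, hT_add_left]))
  have hKb : hT S (Bm S v₀ g b *ᵥ w₁) w₁ = 0 := hΘb
  have hKb' : hT S (Bm S v₀ g b' *ᵥ w₁) w₁ = 0 := hΘb'
  have hKbb' : hT S (Bm S v₀ g (b + b') *ᵥ w₁) w₁ = 0 := by
    rw [Bm_add, Matrix.add_mulVec, hT_add_left, hKb, hKb', add_zero]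
  have hbb' : S.st (b + b') = -(b + b') := by
    rw [map_add, hb, hb', neg_add]
  obtain ⟨π, hπ⟩ := mem_line.mp (C.Bm_w₁_mem hKb).1
  obtain ⟨π', hπ'⟩ := mem_line.mp (C.Bm_w₁_mem hKb').1
  refine ⟨hT S (act S.ρ (a * S.fE w₂ v₀) v₀) w₂, π, π', hc₁, ?_, ?_⟩
  · intro x y hxy
    apply hind
    apply C.Bm_w₁_inj
    rw [Bm_add, Bm_fsmul, Bm_fsmul, Matrix.add_mulVec, Matrix.smul_mulVec, Matrix.smul_mulVec,
      ← hπ, ← hπ', ← act_smul, ← act_smul, ← act_add, hxy, act_zero]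
  · rw [mem_XX, ← C.N_eq hb hb' a hπ hπ', ← polar]
    have n1 := C.Ym_nil0 a hKbb'
    have n2 := (C.Ym_nil0 a hKb).neg
    have n3 := (C.Ym_nil0 a hKb').neg
    have nA : Nil0 (line S.ρ v₀) (S.ktMat v₀ a) :=
      ⟨ktMat_mem_line S v₀ a, fun x hx => ktMat_line S hiso a hx⟩
    have i1 := C.InM_Ym hg (hkt a ha) (hkt _ hbb')
    have i2 := InM_neg_of_Nil0 (C.Ym_nil0 a hKb) (C.InM_Ym hg (hkt a ha) (hkt b hb))
    have i3 := InM_neg_of_Nil0 (C.Ym_nil0 a hKb') (C.InM_Ym hg (hkt a ha) (hkt b' hb'))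
    have iA : InM M (1 + S.ktMat v₀ a) := InM_of_mem (hkt a ha)
    exact InM_add_of_Nil0 ((n1.add n2).add n3) nA
      (InM_add_of_Nil0 (n1.add n2) n3 (InM_add_of_Nil0 n1 n2 i1 i2) i3) iA

end Cfsg.Agent.Lib.Helper9.C3qLeaf
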