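/-
helper9: DEFECT-ONE cluster, Part O (planner helper27), leaf DEGY `degY_of_data`.
-/
import Mathlib
import Cfsg.Prelude.Def_BlockRank
import Cfsg.Agent.Lib.Helper27.DODefs
import Cfsg.Agent.Lib.Helper27.BlkAlgDefs2
import Cfsg.Agent.Lib.Helper9.DODEG

set_option autoImplicit false

namespace Cfsg.Agent.Lib.Helper9.DODEGY

open Cfsg Cfsg.Agent.Lib.Helper8.DOM Cfsg.Agent.Lib.Helper27.DO Cfsg.Agent.Lib.Helper27.BlkAlg
open scoped ComplexConjugate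
open Cfsg.Agent.Lib.Helper9.DOBase Cfsg.Agent.Lib.Helper9.DODEG

universe u

section data

variable {G : Type u} [Group G] [Finite G] {p : ℕ} [Fact p.Prime] {M : Ideal AlgInt}
  {P : Subgroup G} {B : Set (IrrCharacter G)} {θ : IrrCharacter (Cz P)} {T : Subgroup G} {x0 : G}
  {E : Subgroup (ZMod p)ˣ} {μ : IrrCharacter G → ZMod p → ℤ} {D : IrrCharacter G → G → ℂ}

omit [Finite G] in
/-- `p ∤ u.val` for a unit `u` -/
theorem not_dvd_val (c : (ZMod p)ˣ) : ¬ p ∣ (c : ZMod p).val := by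
  intro h
  have h0 : ((c : ZMod p).val : ZMod p) = 0 := (ZMod.natCast_eq_zero_iff _ p).mpr h
  rw [ZMod.natCast_zmod_val] at h0
  exact Units.ne_zero c h0

open Classical in
/-- the sum of `D χ` over `P \ 1` for an exceptional row -/
theorem sum_D_erase (d : GSData p P B θ T x0 E μ D) (hP : Nat.card P = p)
    (χ : IrrCharacter G) (i : (ZMod p)ˣ) (ε : ℤ)
    (hψ : ∀ k : (ZMod p)ˣ, (k * i⁻¹ ∈ E → μ χ k - μ χ 0 = ε) ∧ (k * i⁻¹ ∉ E → μ χ k - μ χ 0 = 0)) :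
    ∑ x ∈ (Pf P).erase 1, D χ x = - (ε : ℂ) * (Nat.card E : ℂ) := by
  have hζ : IsPrimitiveRoot (zetaP p) p := zetaP_prim
  rw [sum_erase_eq d hP]
  have h1 : ∀ u : (ZMod p)ˣ, D χ (x0 ^ (u : ZMod p).val) =
      ∑ u' : (ZMod p)ˣ, ((μ χ u' - μ χ 0 : ℤ) : ℂ) * zetaP p ^ ((u : ZMod p) * (u' : ZMod p)).val := by
    intro u
    rw [D_pow d χ _ (not_dvd_val u)]
    apply Finset.sum_congr rfl
    intro u' _
    rw [ZMod.natCast_zmod_val, mul_comm (u' : ZMod p)]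
  simp only [h1]
  rw [Finset.sum_comm]
  have h2 : ∀ u' : (ZMod p)ˣ, ∑ u : (ZMod p)ˣ, ((μ χ u' - μ χ 0 : ℤ) : ℂ) *
      zetaP p ^ ((u : ZMod p) * (u' : ZMod p)).val = - ((μ χ u' - μ χ 0 : ℤ) : ℂ) := by
    intro u'
    rw [← Finset.mul_sum, Cfsg.Agent.Lib.Helper6.Def1AbsMain.sum_units_zeta hζ u']
    ring
  simp only [h2]
  rw [Finset.sum_neg_distrib]
  have h3 : ∀ u' : (ZMod p)ˣ, ((μ χ u' - μ χ 0 : ℤ) : ℂ) =
      (fun w : (ZMod p)ˣ => if w ∈ E then (ε : ℂ) else 0) (Equiv.mulRight i⁻¹ u') := by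
    intro u'
    beta_reduce
    by_cases h : u' * i⁻¹ ∈ E
    · rw [if_pos (show Equiv.mulRight i⁻¹ u' ∈ E from h), (hψ u').1 h]
    · rw [if_neg (show ¬ Equiv.mulRight i⁻¹ u' ∈ E from h), (hψ u').2 h]; simp
  simp only [h3]
  rw [Equiv.sum_comp (Equiv.mulRight i⁻¹) (fun w : (ZMod p)ˣ => if w ∈ E then (ε : ℂ) else 0)]
  rw [Finset.sum_ite, Finset.sum_const, Finset.sum_const_zero, add_zero, nsmul_eq_mul]
  have h4 : (Finset.univ.filter (fun w : (ZMod p)ˣ => w ∈ E)).card = Nat.card E := by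
    rw [Nat.card_eq_fintype_card, Fintype.card_subtype]
  rw [h4]
  ring

/-- DEGY -/
theorem degY_of_data (d : GSData p P B θ T x0 E μ D) (hP : Nat.card P = p)
    (hT : IsInertia P (θ : Cz P → ℂ) T)
    (χ : IrrCharacter G) (hχ : χ ∈ B) (i : (ZMod p)ˣ) (ε : ℤ)
    (hψ : ∀ k : (ZMod p)ˣ, (k * i⁻¹ ∈ E → μ χ k - μ χ 0 = ε) ∧ (k * i⁻¹ ∉ E → μ χ k - μ χ 0 = 0)) :
    (charDegree (χ : G → ℂ) : ℤ) ≡
      ε * (((Cz P).relIndex (Nz P) * charDegree (θ : Cz P → ℂ) : ℕ) : ℤ) [ZMOD p] := by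
  classical
  have : Fintype (Nz P) := Fintype.ofFinite _
  have hp : p.Prime := Fact.out
  obtain ⟨hCT, hTN⟩ := Cfsg.Agent.Lib.Helper16.DOINERT.le_of_isInertia P θ T hT
  set r := T.relIndex (Nz P) with hr
  have hcard : Nat.card (Nz P) = r * Nat.card T := card_eq_relIndex_mul hTN
  have hmul : (Cz P).relIndex (Nz P) = Nat.card E * r := by
    rw [d.cardE, Subgroup.relIndex_mul_relIndex (Cz P) T (Nz P) hCT hTN]
  have hT0 : (Nat.card T : ℂ) ≠ 0 := Nat.cast_ne_zero.mpr Nat.card_pos.ne'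
  -- the sum over `P \ 1`
  have hsum : ∑ x ∈ (Pf P).erase 1, (χ : G → ℂ) x =
      - (ε : ℂ) * ((Cz P).relIndex (Nz P) : ℂ) * (charDegree (θ : Cz P → ℂ) : ℂ) := by
    have h1 : ∀ x ∈ (Pf P).erase 1, (χ : G → ℂ) x = (Nat.card T : ℂ)⁻¹ *
        ((charDegree (θ : Cz P → ℂ) : ℂ) * ∑ n : Nz P, D χ ((n : G) * x * (n : G)⁻¹)) := by
      intro x hx
      rw [Finset.mem_erase] at hx
      exact apply_of_mem d χ hχ x (mem_Pf.mp hx.2) hx.1
    rw [Finset.sum_congr rfl h1, ← Finset.mul_sum, ← Finset.mul_sum, Finset.sum_comm]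
    have h2 : ∀ n : Nz P, ∑ x ∈ (Pf P).erase 1, D χ ((n : G) * x * (n : G)⁻¹) =
        ∑ x ∈ (Pf P).erase 1, D χ x := by
      intro n
      apply Finset.sum_equiv (MulAut.conj (n : G)).toEquiv
      · intro x
        simp only [Finset.mem_erase, mem_Pf, MulEquiv.toEquiv_eq_coe, EquivLike.coe_coe,
          MulAut.conj_apply]
        constructor
        · rintro ⟨h1, h2⟩
          obtain ⟨h3, h4⟩ := conj_mem (n : G) n.2 x h2 h1
          exact ⟨h4, h3⟩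
        · rintro ⟨h1, h2⟩
          have h5 := conj_mem ((n : G)⁻¹) ((Nz P).inv_mem n.2) _ h2 h1
          have e : (n : G)⁻¹ * ((n : G) * x * (n : G)⁻¹) * ((n : G)⁻¹)⁻¹ = x := by group
          rw [e] at h5
          exact ⟨h5.2, h5.1⟩
      · intro x _
        simp [MulAut.conj_apply]
    rw [Finset.sum_congr rfl (fun n _ => h2 n), Finset.sum_const, Finset.card_univ,
      ← Nat.card_eq_fintype_card, hcard, sum_D_erase d hP χ i ε hψ, hmul, nsmul_eq_mul]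
    push_cast
    field_simp
  obtain ⟨m, hm⟩ := exists_sum_eq hP χ
  have h1P : (1 : G) ∈ Pf P := mem_Pf.mpr P.one_mem
  rw [← Finset.add_sum_erase _ _ h1P, hsum, Cfsg.Agent.Lib.Helper24.irr_apply_one] at hm
  have hmZ : (charDegree (χ : G → ℂ) : ℤ) +
      (- ε * ((Cz P).relIndex (Nz P) : ℤ) * (charDegree (θ : Cz P → ℂ) : ℤ)) = (p : ℤ) * (m : ℤ) := by
    exact_mod_cast hm
  rw [Int.modEq_iff_dvd]
  refine ⟨- (m : ℤ), ?_⟩
  push_cast
  linear_combination (-1 : ℤ) * hmZ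

end data

end Cfsg.Agent.Lib.Helper9.DODEGY
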