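/-
helper9: DEFECT-ONE cluster, Part O (planner helper27), leaf GALY `galY_of_data`.
-/
import Mathlib
import Cfsg.Prelude.Def_BlockRank
import Cfsg.Agent.Lib.Helper27.DODefs
import Cfsg.Agent.Lib.Helper27.BlkAlgDefs2
import Cfsg.Agent.Lib.Helper9.DOBase

set_option autoImplicit false

namespace Cfsg.Agent.Lib.Helper9.DOGALY

open Cfsg Cfsg.Agent.Lib.Helper8.DOM Cfsg.Agent.Lib.Helper27.DO Cfsg.Agent.Lib.Helper27.BlkAlg
open scoped ComplexConjugate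
open Cfsg.Agent.Lib.Helper9.DOBase

universe u

section data

variable {G : Type u} [Group G] [Finite G] {p : ℕ} [Fact p.Prime] {M : Ideal AlgInt}
  {P : Subgroup G} {B : Set (IrrCharacter G)} {θ : IrrCharacter (Cz P)} {T : Subgroup G} {x0 : G}
  {E : Subgroup (ZMod p)ˣ} {μ : IrrCharacter G → ZMod p → ℤ} {D : IrrCharacter G → G → ℂ}

omit [Finite G] in
/-- `p ∤ c.val` for a unit `c` -/
theorem not_dvd_val (c : (ZMod p)ˣ) : ¬ p ∣ (c : ZMod p).val := by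
  intro h
  have h0 : ((c : ZMod p).val : ZMod p) = 0 := (ZMod.natCast_eq_zero_iff _ p).mpr h
  rw [ZMod.natCast_zmod_val] at h0
  exact Units.ne_zero c h0

omit [Finite G] in
/-- the exceptional rows are shifted by the units -/
theorem D_shift (d : GSData p P B θ T x0 E μ D)
    (ψ : (ZMod p)ˣ → IrrCharacter G) (ε : ℤ)
    (hψ : ∀ i k : (ZMod p)ˣ, (k * i⁻¹ ∈ E → μ (ψ i) k - μ (ψ i) 0 = ε) ∧
      (k * i⁻¹ ∉ E → μ (ψ i) k - μ (ψ i) 0 = 0)) (i c : (ZMod p)ˣ) (k : ℕ) (hk : ¬ p ∣ k) :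
    D (ψ (i * c)) (x0 ^ k) = D (ψ i) (x0 ^ (k * (c : ZMod p).val)) := by
  have hp : p.Prime := Fact.out
  have hk' : ¬ p ∣ k * (c : ZMod p).val := by
    intro h
    rcases (Nat.Prime.dvd_mul hp).mp h with h | h
    · exact hk h
    · exact not_dvd_val c h
  rw [D_pow d _ k hk, D_pow d _ _ hk']
  have hre := Equiv.sum_comp (Equiv.mulRight c⁻¹) (fun u' : (ZMod p)ˣ =>
    ((μ (ψ i) u' - μ (ψ i) 0 : ℤ) : ℂ) *
      zetaP p ^ ((u' : ZMod p) * ((k * (c : ZMod p).val : ℕ) : ZMod p)).val)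
  rw [← hre]
  apply Finset.sum_congr rfl
  intro u _
  have hrow : μ (ψ (i * c)) u - μ (ψ (i * c)) 0 =
      μ (ψ i) ((u * c⁻¹ : (ZMod p)ˣ) : ZMod p) - μ (ψ i) 0 := by
    have he : u * (i * c)⁻¹ = u * c⁻¹ * i⁻¹ := by
      rw [mul_inv_rev, mul_assoc]
    by_cases h : u * (i * c)⁻¹ ∈ E
    · rw [(hψ (i * c) u).1 h, (hψ i (u * c⁻¹)).1 (he ▸ h)]
    · rw [(hψ (i * c) u).2 h, (hψ i (u * c⁻¹)).2 (he ▸ h)]
  have hexp : ((u * c⁻¹ : (ZMod p)ˣ) : ZMod p) * ((k * (c : ZMod p).val : ℕ) : ZMod p) =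
      (u : ZMod p) * (k : ZMod p) := by
    rw [Units.val_mul, Nat.cast_mul, ZMod.natCast_zmod_val]
    have hc : ((c⁻¹ : (ZMod p)ˣ) : ZMod p) * (c : ZMod p) = 1 := by
      rw [← Units.val_mul, inv_mul_cancel, Units.val_one]
    calc (u : ZMod p) * ((c⁻¹ : (ZMod p)ˣ) : ZMod p) * ((k : ZMod p) * (c : ZMod p))
        = (u : ZMod p) * (k : ZMod p) * (((c⁻¹ : (ZMod p)ˣ) : ZMod p) * (c : ZMod p)) := by ring
      _ = _ := by rw [hc, mul_one]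
  simp only [Equiv.coe_mulRight]
  rw [hrow, hexp]

/-- GALY -/
theorem galY_of_data (d : GSData p P B θ T x0 E μ D) (hP : Nat.card P = p)
    (ψ : (ZMod p)ˣ → IrrCharacter G) (hψB : ∀ i, ψ i ∈ B) (ε : ℤ)
    (hψ : ∀ i k : (ZMod p)ˣ, (k * i⁻¹ ∈ E → μ (ψ i) k - μ (ψ i) 0 = ε) ∧
      (k * i⁻¹ ∉ E → μ (ψ i) k - μ (ψ i) 0 = 0)) (i c : (ZMod p)ˣ) :
    ∀ x ∈ P, x ≠ 1 → ∀ y ∈ Cz P, ¬ p ∣ orderOf y →
      (ψ (i * c) : G → ℂ) (x * y) = (ψ i : G → ℂ) (x ^ (c : ZMod p).val * y) := by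
  intro x hx hx1 y hy hyp
  have hp : p.Prime := Fact.out
  obtain ⟨k, hk, hxk⟩ := exists_pow d hP x hx hx1
  have hxc : x ^ (c : ZMod p).val ∈ P := P.pow_mem hx _
  have hxc1 : x ^ (c : ZMod p).val ≠ 1 := by
    rw [hxk, ← pow_mul]
    apply pow_ne_one d hP
    intro h
    rcases (Nat.Prime.dvd_mul hp).mp h with h | h
    · exact hk h
    · exact not_dvd_val c h
  rw [d.val _ (hψB _) x hx hx1 y hy hyp, d.val _ (hψB _) _ hxc hxc1 y hy hyp]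
  congr 1
  apply finsum_congr
  intro n
  congr 1
  obtain ⟨h1, h2⟩ := conj_mem (n : G) n.2 x hx hx1
  obtain ⟨k', hk', hk'e⟩ := exists_pow d hP _ h1 h2
  have hconj : (n : G) * x ^ (c : ZMod p).val * (n : G)⁻¹ = ((n : G) * x * (n : G)⁻¹) ^ (c : ZMod p).val := by
    rw [conj_pow]
  rw [hconj, hk'e, ← pow_mul]
  exact D_shift d ψ ε hψ i c k' hk'

end data

end Cfsg.Agent.Lib.Helper9.DOGALY
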