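/-
helper9: an abstract "affine group" `V ⋊ C` for a group `C` acting on an additive commutative group
`V` of exponent `3`, and the orders of its elements (used for S3626: groups isospectral to the cube
of a Ree group).
-/
import Mathlib

set_option autoImplicit false

namespace Cfsg.Agent.Lib.Helper9.ReeCube

/-- the semidirect product `V ⋊ C`, written additively on `V` -/
@[ext]
structure Aff (C V : Type*) where
  /-- the translation part -/
  v : V
  /-- the linear part -/
  c : C

namespace Aff

variable {C V : Type*} [Group C] [AddCommGroup V] [DistribMulAction C V]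

instance : Group (Aff C V) where
  mul x y := ⟨x.v + x.c • y.v, x.c * y.c⟩
  one := ⟨0, 1⟩
  inv x := ⟨-(x.c⁻¹ • x.v), x.c⁻¹⟩
  mul_assoc x y z := by
    apply Aff.ext
    · show x.v + x.c • y.v + (x.c * y.c) • z.v = x.v + x.c • (y.v + y.c • z.v)
      rw [smul_add, mul_smul, add_assoc]
    · exact mul_assoc _ _ _
  one_mul x := by
    apply Aff.ext
    · show (0 : V) + (1 : C) • x.v = x.v
      rw [one_smul, zero_add]
    · exact one_mul _
  mul_one x := by
    apply Aff.ext
    · show x.v + x.c • (0 : V) = x.v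
      rw [smul_zero, add_zero]
    · exact mul_one _
  inv_mul_cancel x := by
    apply Aff.ext
    · show -(x.c⁻¹ • x.v) + x.c⁻¹ • x.v = 0
      rw [neg_add_cancel]
    · exact inv_mul_cancel _

theorem mul_v (x y : Aff C V) : (x * y).v = x.v + x.c • y.v := rfl
theorem mul_c (x y : Aff C V) : (x * y).c = x.c * y.c := rfl
theorem one_v : (1 : Aff C V).v = 0 := rfl
theorem one_c : (1 : Aff C V).c = 1 := rfl

/-- the projection onto `C` -/
def proj : Aff C V →* C where
  toFun x := x.c
  map_one' := rfl
  map_mul' _ _ := rfl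

/-- the embedding of `C` -/
def incl : C →* Aff C V where
  toFun c := ⟨0, c⟩
  map_one' := rfl
  map_mul' a b := by
    apply Aff.ext
    · show (0 : V) = 0 + a • (0 : V)
      rw [smul_zero, add_zero]
    · rfl

theorem incl_injective : Function.Injective (incl : C → Aff C V) := by
  intro a b h
  exact congrArg Aff.c h

theorem pow_c (x : Aff C V) (k : ℕ) : (x ^ k).c = x.c ^ k := map_pow proj x k

/-- the underlying equivalence with the product -/
def equivProd : Aff C V ≃ V × C where
  toFun x := (x.v, x.c)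
  invFun p := ⟨p.1, p.2⟩
  left_inv _ := rfl
  right_inv _ := rfl

instance [Finite C] [Finite V] : Finite (Aff C V) := Finite.of_equiv _ equivProd.symm

omit [Group C] [AddCommGroup V] [DistribMulAction C V] in
theorem card_eq : Nat.card (Aff C V) = Nat.card V * Nat.card C := by
  rw [Nat.card_congr equivProd, Nat.card_prod]

/-- powers of a translation -/
theorem pow_of_c_eq_one (y : Aff C V) (hy : y.c = 1) (k : ℕ) : y ^ k = ⟨k • y.v, 1⟩ := by
  induction k with
  | zero =>
    rw [pow_zero, zero_smul]
    rfl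
  | succ k ih =>
    rw [pow_succ, ih]
    apply Aff.ext
    · show k • y.v + (1 : C) • y.v = (k + 1) • y.v
      rw [one_smul, succ_nsmul]
    · show (1 : C) * y.c = 1
      rw [hy, one_mul]

/-- if `c` has no non-zero fixed point, the order of `(v, c)` is `|c|` -/
theorem orderOf_eq_of_fpf (x : Aff C V) (hfpf : ∀ w : V, x.c • w = w → w = 0) :
    orderOf x = orderOf x.c := by
  have h1 : orderOf x.c ∣ orderOf x := orderOf_map_dvd proj x
  refine Nat.dvd_antisymm ?_ h1
  apply orderOf_dvd_of_pow_eq_one
  set y := x ^ orderOf x.c with hy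
  have hyc : y.c = 1 := by rw [hy, pow_c, pow_orderOf_eq_one]
  have hcomm : x * y = y * x := by rw [hy, ← pow_succ', ← pow_succ]
  have hv := congrArg Aff.v hcomm
  rw [mul_v, mul_v, hyc, one_smul, add_comm] at hv
  have hw := hfpf y.v (add_right_cancel hv)
  apply Aff.ext
  · exact hw
  · exact hyc

variable (h3 : ∀ v : V, 3 • v = 0)
include h3

theorem pow_three_of_c_eq_one (y : Aff C V) (hy : y.c = 1) : y ^ 3 = 1 := by
  rw [pow_of_c_eq_one y hy, h3]
  rfl

variable [Finite C]

/-- the order of `(v, c)` is `|c|` or `3|c|` -/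
theorem orderOf_eq_or (x : Aff C V) : orderOf x = orderOf x.c ∨ orderOf x = 3 * orderOf x.c := by
  have hn : 0 < orderOf x.c := orderOf_pos x.c
  have h1 : orderOf x.c ∣ orderOf x := orderOf_map_dvd proj x
  have h2 : orderOf x ∣ 3 * orderOf x.c := by
    apply orderOf_dvd_of_pow_eq_one
    rw [mul_comm, pow_mul]
    apply pow_three_of_c_eq_one h3
    rw [pow_c, pow_orderOf_eq_one]
  obtain ⟨k, hk⟩ := h1
  rw [hk, mul_comm 3] at h2
  have hk3 : k ∣ 3 := Nat.dvd_of_mul_dvd_mul_left hn h2
  rcases (Nat.dvd_prime Nat.prime_three).mp hk3 with rfl | rfl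
  · left
    rw [hk, mul_one]
  · right
    rw [hk, mul_comm]

omit [Finite C] in
/-- an element of order `9` from an element of order `3` with non-zero norm -/
theorem orderOf_eq_nine (v : V) (c : C) (hc : c ^ 3 = 1) (hN : v + c • v + c • c • v ≠ 0) :
    orderOf (⟨v, c⟩ : Aff C V) = 9 := by
  have hx3 : (⟨v, c⟩ : Aff C V) ^ 3 = ⟨v + c • v + c • c • v, 1⟩ := by
    rw [pow_succ, pow_two]
    apply Aff.ext
    · show v + c • v + (c * c) • v = v + c • v + c • c • v
      rw [mul_smul]
    · show c * c * c = 1
      rw [← hc, pow_succ, pow_two]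
  have h9 : (⟨v, c⟩ : Aff C V) ^ (3 ^ 2) = 1 := by
    rw [pow_two, pow_mul, hx3]
    exact pow_three_of_c_eq_one h3 _ rfl
  have hne : (⟨v, c⟩ : Aff C V) ^ (3 ^ 1) ≠ 1 := by
    rw [pow_one, hx3]
    intro h
    exact hN (congrArg Aff.v h)
  have := orderOf_eq_prime_pow (p := 3) (n := 1) hne (by simpa using h9)
  simpa using this

end Aff

end Cfsg.Agent.Lib.Helper9.ReeCube
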