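import Mathlib
import Cfsg.Prelude.Def_ClassicalGeometry
import Cfsg.Prelude.Def_GeometricClasses
import Cfsg.Agent.Lib.Helper5.TSMax
import Cfsg.Agent.Lib.Helper5.LSubC
import Cfsg.Agent.Lib.Helper19.OSubDefs
import Cfsg.Agent.Lib.Helper19.OSubBasic
import Cfsg.Agent.Lib.Helper19.OSubDescent
import Cfsg.Agent.Lib.Helper15.QuadClass
import Cfsg.Agent.Lib.Helper25.OrthGeom
import Cfsg.Agent.Lib.Helper25.SingPts

/-!
helper9: S5683 / S5702 leaves T1 (`exists_H0_map_pt`) and T2 (`exists_H0_map_pair`), helper19's market,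
exact signatures of notes/S5683_leaves.lean: transitivity of the subfield group `H0` on rational singular
points and rational totally singular pairs, by base change of helper25's `omega_trans_ts` /
`exists_omega_pair` for the descended form `Q0 h`.
-/

set_option autoImplicit false
set_option linter.unusedSectionVars false
set_option linter.unusedVariables false

namespace Cfsg.Agent.Lib.Helper9.OSubLeaf19
open Cfsg Matrix QuadraticMap Module Cfsg.Agent.Lib.Helper25.Siegel Cfsg.Agent.Lib.Helper19.OSub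
open scoped commutatorElement

variable {ι : Type} [Fintype ι] [DecidableEq ι] {F : Type*} [Field F] [Fintype F]
  {F₀ : Subfield F} {Q : QuadraticForm F (ι → F)} {M : Subgroup (GL ι F)}

/-- the base change of an element of `Ω(Q0)` as an element of `H0` acting on `up`-vectors -/
theorem mv_map_toOG (h : QCtx F₀ Q) (g : ↥(Cfsg.isometryGroup F₀ ⇑(Q0 h))) (u : ι → F₀) :
    mv (Matrix.GeneralLinearGroup.map (F₀.subtype : F₀ →+* F) (g : GL ι F₀)) (up F₀ u) =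
      up F₀ (Cfsg.Agent.Lib.Helper25.CD.toOG (Q0 h) g u) := by
  rw [mv_map_up]
  rfl

theorem omega_mem_omegaGL (h : QCtx F₀ Q) {g : ↥(Cfsg.isometryGroup F₀ ⇑(Q0 h))}
    (hg : g ∈ Cfsg.Omega F₀ ⇑(Q0 h)) : (g : GL ι F₀) ∈ Cfsg.Geo.omegaGL ⇑(Q0 h) :=
  ⟨g, hg, rfl⟩

/-- T1 -/
theorem exists_H0_map_pt (h : QCtx F₀ Q) {a a' : ι → F} (ha : RatV F₀ a) (ha0 : a ≠ 0)
    (hQa : Q a = 0) (ha' : RatV F₀ a') (ha'0 : a' ≠ 0) (hQa' : Q a' = 0) :
    ∃ g ∈ H0 F₀ Q, (∀ x, RatV F₀ x → RatV F₀ (mv g x)) ∧ (∀ x, RatV F₀ x → RatV F₀ (mv g⁻¹ x)) ∧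
      ∃ s ∈ F₀, s ≠ 0 ∧ mv g a = s • a' := by
  classical
  letI : Fintype ↥F₀ := Fintype.ofFinite _
  obtain ⟨u, rfl⟩ := exists_up ha
  obtain ⟨u', rfl⟩ := exists_up ha'
  have hu0 : u ≠ 0 := fun e => ha0 (up_eq_zero.mpr e)
  have hu'0 : u' ≠ 0 := fun e => ha'0 (up_eq_zero.mpr e)
  have hQu : Q0 h u = 0 := (Q0_eq_zero h u).mpr hQa
  have hQu' : Q0 h u' = 0 := (Q0_eq_zero h u').mpr hQa'
  have hnd := Q0_nondeg h
  have hcard := h.card
  have hU : finrank F₀ ↥(Submodule.span F₀ {u}) = 1 := finrank_span_singleton hu0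
  have hU' : finrank F₀ ↥(Submodule.span F₀ {u'}) = 1 := finrank_span_singleton hu'0
  have hTS : Cfsg.Agent.Lib.Helper25.MaxTS.TS (Q0 h) (Submodule.span F₀ {u}) := by
    intro x hx
    obtain ⟨c, rfl⟩ := Submodule.mem_span_singleton.mp hx
    rw [QuadraticMap.map_smul, hQu, smul_zero]
  have hTS' : Cfsg.Agent.Lib.Helper25.MaxTS.TS (Q0 h) (Submodule.span F₀ {u'}) := by
    intro x hx
    obtain ⟨c, rfl⟩ := Submodule.mem_span_singleton.mp hx
    rw [QuadraticMap.map_smul, hQu', smul_zero]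
  obtain ⟨g, hgΩ, hg⟩ := Cfsg.Agent.Lib.Helper25.Fam.omega_trans_ts (Q0 h) hnd
    (Or.inr (by omega)) (k := 1) (by omega) hU hU' hTS hTS'
  refine ⟨Matrix.GeneralLinearGroup.map (F₀.subtype : F₀ →+* F) (g : GL ι F₀),
    map_mem_H0 h (omega_mem_omegaGL h hgΩ), fun x hx => ratV_mv_map _ hx,
    fun x hx => ratV_mv_map_inv _ hx, ?_⟩
  have hmem : Cfsg.Agent.Lib.Helper25.CD.toOG (Q0 h) g u ∈ Submodule.span F₀ {u'} := by
    rw [← hg]
    exact ⟨u, Submodule.mem_span_singleton_self u, rfl⟩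
  obtain ⟨s, hs⟩ := Submodule.mem_span_singleton.mp hmem
  have hs0 : s ≠ 0 := by
    rintro rfl
    rw [zero_smul] at hs
    have := (LinearEquiv.map_eq_zero_iff _).mp hs.symm
    exact hu0 this
  refine ⟨(s : F), s.2, fun e => hs0 (Subtype.ext e), ?_⟩
  rw [mv_map_toOG, ← hs, up_smul]

/-- T2 -/
theorem exists_H0_map_pair (h : QCtx F₀ Q) {a v a' v' : ι → F} (ha : RatV F₀ a) (hv : RatV F₀ v)
    (ha' : RatV F₀ a') (hv' : RatV F₀ v') (hQa : Q a = 0) (hQv : Q v = 0) (hQa' : Q a' = 0)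
    (hQv' : Q v' = 0) (hav : polar Q a v = 0) (hav' : polar Q a' v' = 0)
    (hi : LinearIndependent F ![a, v]) (hi' : LinearIndependent F ![a', v']) :
    ∃ g ∈ H0 F₀ Q, (∀ x, RatV F₀ x → RatV F₀ (mv g x)) ∧ (∀ x, RatV F₀ x → RatV F₀ (mv g⁻¹ x)) ∧
      (∃ s ∈ F₀, s ≠ 0 ∧ mv g a = s • a') ∧ ∃ s' ∈ F₀, s' ≠ 0 ∧ mv g v = s' • v' := by
  classical
  letI : Fintype ↥F₀ := Fintype.ofFinite _
  have ha0 : a ≠ 0 := by
    have := hi.ne_zero 0
    simpa using this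
  have ha'0 : a' ≠ 0 := by
    have := hi'.ne_zero 0
    simpa using this
  obtain ⟨g₁, hg₁H, hg₁r, hg₁r', s, hsF, hs0, hg₁a⟩ := exists_H0_map_pt h ha ha0 hQa ha' ha'0 hQa'
  have hg₁iso : g₁ ∈ Cfsg.isometryGroup F ⇑Q := omegaGL_le_iso (Subgroup.mem_inf.mp hg₁H).2
  -- the image of `v`
  have hw : RatV F₀ (mv g₁ v) := hg₁r v hv
  have hQw : Q (mv g₁ v) = 0 := by rw [iso_Q hg₁iso, hQv]
  have ha'w : polar Q a' (mv g₁ v) = 0 := by
    have h1 : polar Q (mv g₁ a) (mv g₁ v) = 0 := by rw [iso_polar hg₁iso, hav]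
    rw [hg₁a] at h1
    have h2 : polar Q (s • a') (mv g₁ v) = s * polar Q a' (mv g₁ v) := by
      have := QuadraticMap.polar_smul_left Q s a' (mv g₁ v)
      rw [this, smul_eq_mul]
    rw [h2] at h1
    exact (mul_eq_zero.mp h1).resolve_left hs0
  have hiw : LinearIndependent F ![a', mv g₁ v] := by
    rw [LinearIndependent.pair_iff]
    intro c₁ c₂ hc
    have h1 : mv g₁ ((c₁ * s⁻¹) • a + c₂ • v) = 0 := by
      rw [mv_add, mv_smul, mv_smul, hg₁a, smul_smul, mul_assoc, inv_mul_cancel₀ hs0, mul_one]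
      exact hc
    have h2 : (c₁ * s⁻¹) • a + c₂ • v = 0 := by
      apply mv_injective g₁
      rw [h1, mv_zero]
    obtain ⟨e1, e2⟩ := LinearIndependent.pair_iff.mp hi _ _ h2
    refine ⟨?_, e2⟩
    rcases mul_eq_zero.mp e1 with e | e
    · exact e
    · exact absurd (inv_eq_zero.mp e) hs0
  -- descend
  obtain ⟨u', rfl⟩ := exists_up ha'
  obtain ⟨w₀, hw₀⟩ := exists_up hw
  obtain ⟨v₀', rfl⟩ := exists_up hv'
  have hnd := Q0_nondeg h
  have hcard := h.card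
  have hQu' : Q0 h u' = 0 := (Q0_eq_zero h u').mpr hQa'
  have hQw₀ : Q0 h w₀ = 0 := (Q0_eq_zero h w₀).mpr (by rw [hw₀]; exact hQw)
  have hQv₀' : Q0 h v₀' = 0 := (Q0_eq_zero h v₀').mpr hQv'
  have hind : ∀ {x y : ι → F₀}, LinearIndependent F ![up F₀ x, up F₀ y] →
      LinearIndependent F₀ ![x, y] := by
    intro x y hxy
    rw [LinearIndependent.pair_iff]
    intro c₁ c₂ hc
    have h1 : (c₁ : F) • up F₀ x + (c₂ : F) • up F₀ y = 0 := by
      rw [← up_smul, ← up_smul, ← up_add, hc, up_zero]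
    obtain ⟨e1, e2⟩ := LinearIndependent.pair_iff.mp hxy _ _ h1
    exact ⟨Subtype.ext e1, Subtype.ext e2⟩
  have hp : polar (⇑(Q0 h)) u' w₀ = polar (⇑(Q0 h)) u' v₀' := by
    rw [(polar_Q0_eq_zero h u' w₀).mpr (by rw [hw₀]; exact ha'w),
      (polar_Q0_eq_zero h u' v₀').mpr hav']
  obtain ⟨g₂, hg₂Ω, ⟨t, ht⟩, ⟨t', ht'⟩⟩ := Cfsg.Agent.Lib.Helper25.PS.exists_omega_pair (Q0 h) hnd
    (by omega) hQu' hQw₀ hQv₀' (hind (by rw [hw₀]; exact hiw)) (hind hi') hp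
  have hu'0 : u' ≠ 0 := fun e => ha'0 (up_eq_zero.mpr e)
  have hw₀0 : w₀ ≠ 0 := by
    intro e
    have := hiw.ne_zero 1
    apply this
    show mv g₁ v = 0
    rw [← hw₀, e, up_zero]
  have ht0 : t ≠ 0 := by
    rintro rfl
    rw [zero_smul] at ht
    exact hu'0 ((LinearEquiv.map_eq_zero_iff _).mp ht)
  have ht'0 : t' ≠ 0 := by
    rintro rfl
    rw [zero_smul] at ht'
    exact hw₀0 ((LinearEquiv.map_eq_zero_iff _).mp ht')
  set G₂ : GL ι F := Matrix.GeneralLinearGroup.map (F₀.subtype : F₀ →+* F) (g₂ : GL ι F₀) with hG₂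
  have hG₂H : G₂ ∈ H0 F₀ Q := map_mem_H0 h (omega_mem_omegaGL h hg₂Ω)
  refine ⟨G₂ * g₁, (H0 F₀ Q).mul_mem hG₂H hg₁H, ?_, ?_, ?_, ?_⟩
  · intro x hx
    rw [mv_mul]
    exact ratV_mv_map _ (hg₁r x hx)
  · intro x hx
    rw [_root_.mul_inv_rev, mv_mul]
    exact hg₁r' _ (ratV_mv_map_inv _ hx)
  · refine ⟨s * (t : F), F₀.mul_mem hsF t.2, mul_ne_zero hs0 (fun e => ht0 (Subtype.ext e)), ?_⟩
    rw [mv_mul, hg₁a, mv_smul, hG₂, mv_map_toOG, ht, up_smul, smul_smul]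
  · refine ⟨(t' : F), t'.2, fun e => ht'0 (Subtype.ext e), ?_⟩
    rw [mv_mul, ← hw₀, hG₂, mv_map_toOG, ht', up_smul]

end Cfsg.Agent.Lib.Helper9.OSubLeaf19
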