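import Mathlib
import Cfsg.Prelude.Def_Transfer
import Cfsg.Prelude.Def_Solvable
import Cfsg.Prelude.Def_Local
import Cfsg.Agent.Lib.Helper13.R3Defs

/-!
# S4404 (planner helper13), leaf BLOCK `exists_blk` in `_of` form (helper9)

`exists_blk_of`: the block `b₀` from PAIR and CLOSE given as hypotheses.
-/

set_option autoImplicit false

namespace Cfsg.Agent.Lib.Helper9.R3BLOCK

open Pointwise Cfsg.Agent.Lib.Helper13.R3

universe u

section basic

variable {H : Type*} [Group H] {M : Type*} [CommGroup M] [MulDistribMulAction H M]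

/-- `[M, h y h⁻¹] = h • [M, y]`. -/
theorem cSub_conj' (h y : H) : cSub M (h * y * h⁻¹) = h • cSub M y := by
  ext v
  rw [Subgroup.mem_pointwise_smul_iff_inv_smul_mem, mem_cSub, mem_cSub]
  constructor
  · rintro ⟨m, rfl⟩
    refine ⟨h⁻¹ • m, ?_⟩
    rw [smul_div', mul_smul, mul_smul, inv_smul_smul]
  · rintro ⟨m, hm⟩
    refine ⟨h • m, ?_⟩
    rw [mul_smul, mul_smul, inv_smul_smul]
    have h2 : h • (h⁻¹ • v) = v := smul_inv_smul h v
    rw [← h2, ← hm, smul_div']

/-- conjugates of roots are roots -/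
theorem isRoot_conj' [Finite M] (h y : H) (hy : IsRoot M y) : IsRoot M (h * y * h⁻¹) := by
  refine ⟨?_, ?_⟩
  · intro m
    have h1 : (h * y * h⁻¹) ^ 3 = h * y ^ 3 * h⁻¹ := by
      rw [conj_pow]
    rw [h1, mul_smul, mul_smul, hy.1, smul_inv_smul]
  · rw [cSub_conj', ← hy.2]
    exact (Nat.card_congr (Subgroup.equivSMul h (cSub M y)).toEquiv).symm

/-- `|A ⊔ B| * |A ⊓ B| = |A| * |B|` in a commutative group. -/
theorem card_sup_mul_card_inf (A B : Subgroup M) :
    Nat.card ↥(A ⊔ B) * Nat.card ↥(A ⊓ B) = Nat.card A * Nat.card B := by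
  have key : ∀ X Y : Subgroup M, X ≤ Y → Nat.card X * X.relIndex Y = Nat.card Y := by
    intro X Y hXY
    have h1 := Subgroup.card_mul_index (X.subgroupOf Y)
    rw [← Nat.card_congr (Subgroup.subgroupOfEquivOfLe hXY).toEquiv]
    exact h1
  have h1 := key B (A ⊔ B) le_sup_right
  have h2 := key (A ⊓ B) A inf_le_left
  rw [Subgroup.relIndex_sup_right] at h1
  rw [Subgroup.inf_relIndex_left] at h2
  calc Nat.card ↥(A ⊔ B) * Nat.card ↥(A ⊓ B) = Nat.card B * B.relIndex A * Nat.card ↥(A ⊓ B) := by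
        rw [h1]
    _ = Nat.card B * (Nat.card ↥(A ⊓ B) * B.relIndex A) := by ring
    _ = Nat.card B * Nat.card A := by rw [h2]
    _ = Nat.card A * Nat.card B := by ring

end basic

section blk

variable {H : Type*} [Group H] [Finite H] {M : Type*} [CommGroup M] [Finite M]
  [MulDistribMulAction H M]

/-- the fixed points of `x` form a subgroup -/
theorem fix_sup (x : H) (A B : Subgroup M) (hA : ∀ m ∈ A, x • m = m) (hB : ∀ m ∈ B, x • m = m) :
    ∀ m ∈ A ⊔ B, x • m = m := by
  have hle : A ⊔ B ≤ fSub M x := by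
    apply sup_le
    · intro m hm
      exact mem_fSub.mpr (hA m hm)
    · intro m hm
      exact mem_fSub.mpr (hB m hm)
  intro m hm
  exact mem_fSub.mp (hle hm)

/-- two subgroups of the same finite cardinality with `A ≤ B` are equal -/
theorem eq_of_le_of_card (A B : Subgroup M) (hle : A ≤ B) (hc : Nat.card B ≤ Nat.card A) : A = B := by
  apply SetLike.coe_injective
  apply Set.eq_of_subset_of_ncard_le (fun m hm => hle hm)
  · rw [← Nat.card_coe_set_eq, ← Nat.card_coe_set_eq]
    exact hc

omit [Finite H] [Finite M] in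
theorem card_smul' (h : H) (A : Subgroup M) : Nat.card ↥(h • A) = Nat.card A :=
  (Nat.card_congr (Subgroup.equivSMul h A).toEquiv).symm

/-- BLOCK in `_of` form. -/
theorem exists_blk_of
    (hPAIR : ∀ y y' : H, IsRoot M y → IsRoot M y' → cSub M y ⊓ cSub M y' = ⊥ →
      ∀ m ∈ cSub M y', y • m = m)
    (hCLOSE : ∀ y y' y'' : H, IsRoot M y → IsRoot M y' → IsRoot M y'' → cSub M y ≠ cSub M y' →
      cSub M y ⊓ cSub M y' ≠ ⊥ → cSub M y'' ⊓ (cSub M y ⊔ cSub M y') ≠ ⊥ →
      cSub M y'' ≤ cSub M y ⊔ cSub M y')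
    (x : H) (hx : IsRoot M x) : ∃ b₀ : Subgroup M, Blk x b₀ := by
  classical
  set V : Subgroup M := cSub M x with hV
  have hVcard : Nat.card V = 4 := hx.2
  -- planes
  have hplane : ∀ h : H, h • V = cSub M (h * x * h⁻¹) := fun h => (cSub_conj' h x).symm
  have hroot : ∀ h : H, IsRoot M (h * x * h⁻¹) := fun h => isRoot_conj' h x hx
  have hxV : x • V = V := by
    rw [hplane x]
    have : x * x * x⁻¹ = x := by group
    rw [this]
  by_cases hcase : ∀ h : H, h • V = V ∨ h • V ⊓ V = ⊥
  · -- no plane other than `V` meets `V`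
    refine ⟨V, le_refl _, ?_, hxV, ?_⟩
    · rw [hVcard]; norm_num
    · intro h hne m hm
      have hdisj : h • V ⊓ V = ⊥ := (hcase h).resolve_left hne
      have h1 : cSub M x ⊓ cSub M (h * x * h⁻¹) = ⊥ := by
        rw [← hplane h, inf_comm]
        exact hdisj
      have hm' : m ∈ cSub M (h * x * h⁻¹) := by
        rw [← hplane h]
        exact hm
      exact hPAIR x (h * x * h⁻¹) hx (hroot h) h1 m hm'
  · push Not at hcase
    obtain ⟨h₁, hne₁, hmeet₁⟩ := hcase
    set P₁ : Subgroup M := h₁ • V with hP₁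
    set b₀ : Subgroup M := V ⊔ P₁ with hb₀
    have hP₁card : Nat.card P₁ = 4 := by rw [hP₁, card_smul', hVcard]
    -- the key property
    have hstar : ∀ h : H, h • V ⊓ b₀ ≠ ⊥ → h • V ≤ b₀ := by
      intro h hm
      rw [hplane h] at hm ⊢
      rw [hb₀, hP₁, hplane h₁] at hm ⊢
      refine hCLOSE x (h₁ * x * h₁⁻¹) (h * x * h⁻¹) hx (hroot h₁) (hroot h) ?_ ?_ hm
      · rw [← hplane h₁]
        exact fun h => hne₁ h.symm
      · rw [← hplane h₁, inf_comm]
        exact hmeet₁
    -- cardinality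
    have hb₀card : Nat.card b₀ ≤ 8 := by
      have h1 := card_sup_mul_card_inf V P₁
      rw [hVcard, hP₁card] at h1
      have h2 : 2 ≤ Nat.card ↥(V ⊓ P₁) := by
        by_contra hcon
        push Not at hcon
        have hpos : 0 < Nat.card ↥(V ⊓ P₁) := Nat.card_pos
        have h3 : Nat.card ↥(V ⊓ P₁) = 1 := by omega
        have h4 : V ⊓ P₁ = ⊥ := Subgroup.card_eq_one.mp h3
        apply hmeet₁
        rw [inf_comm]
        exact h4
      by_contra hcon
      push Not at hcon
      have : 9 * 2 ≤ Nat.card ↥(V ⊔ P₁) * Nat.card ↥(V ⊓ P₁) := Nat.mul_le_mul hcon h2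
      omega
    -- a translate of the block inside the block is the block
    have hsub : ∀ h : H, h • b₀ ≤ b₀ → h • b₀ = b₀ := by
      intro h hle
      exact eq_of_le_of_card _ _ hle (by rw [card_smul'])
    -- if one of the two generating planes of `h • b₀` meets `b₀`, then `h • b₀ = b₀`
    have hboth : ∀ h : H, (h • V ⊓ b₀ ≠ ⊥ ∨ h • P₁ ⊓ b₀ ≠ ⊥) → h • b₀ = b₀ := by
      intro h hor
      apply hsub
      have hPh : h • P₁ = (h * h₁) • V := by rw [hP₁, mul_smul]
      have hmeet' : h • V ⊓ h • P₁ ≠ ⊥ := by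
        rw [← Subgroup.smul_inf]
        intro hcon
        apply hmeet₁
        have h5 : h⁻¹ • (h • (V ⊓ P₁)) = h⁻¹ • (⊥ : Subgroup M) := by rw [hcon]
        rw [inv_smul_smul, Subgroup.smul_bot] at h5
        rw [inf_comm]
        exact h5
      have hV_le : h • V ≤ b₀ ∧ h • P₁ ≤ b₀ := by
        rcases hor with h1 | h1
        · have hVle := hstar h h1
          refine ⟨hVle, ?_⟩
          rw [hPh]
          apply hstar
          rw [← hPh]
          intro hcon
          apply hmeet'
          rw [eq_bot_iff] at hcon ⊢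
          intro m hm
          exact hcon ⟨hm.2, hVle hm.1⟩
        · have hPle : h • P₁ ≤ b₀ := by
            rw [hPh]
            apply hstar
            rw [← hPh]
            exact h1
          refine ⟨?_, hPle⟩
          apply hstar
          intro hcon
          apply hmeet'
          rw [eq_bot_iff] at hcon ⊢
          intro m hm
          exact hcon ⟨hm.1, hPle hm.2⟩
      rw [hb₀, Subgroup.smul_sup]
      exact sup_le hV_le.1 hV_le.2
    refine ⟨b₀, le_sup_left, hb₀card, ?_, ?_⟩
    · -- `x • b₀ = b₀`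
      apply hboth x
      left
      rw [hxV]
      intro hcon
      have h6 : V ≤ V ⊓ b₀ := le_inf (le_refl _) le_sup_left
      rw [hcon] at h6
      have h7 : V = ⊥ := le_bot_iff.mp h6
      rw [h7] at hVcard
      simp at hVcard
    · intro h hne m hm
      -- both generating planes of `h • b₀` meet `V` trivially
      have hnot : ¬ (h • V ⊓ b₀ ≠ ⊥ ∨ h • P₁ ⊓ b₀ ≠ ⊥) := fun hor => hne (hboth h hor)
      push Not at hnot
      have hPh : h • P₁ = (h * h₁) • V := by rw [hP₁, mul_smul]
      have hd1 : cSub M x ⊓ cSub M (h * x * h⁻¹) = ⊥ := by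
        rw [← hplane h, eq_bot_iff]
        intro v hv
        have : v ∈ h • V ⊓ b₀ := ⟨hv.2, (le_sup_left : V ≤ b₀) hv.1⟩
        rw [hnot.1] at this
        exact this
      have hd2 : cSub M x ⊓ cSub M ((h * h₁) * x * (h * h₁)⁻¹) = ⊥ := by
        rw [← hplane (h * h₁), ← hPh, eq_bot_iff]
        intro v hv
        have : v ∈ h • P₁ ⊓ b₀ := ⟨hv.2, (le_sup_left : V ≤ b₀) hv.1⟩
        rw [hnot.2] at this
        exact this
      have hf1 : ∀ m ∈ h • V, x • m = m := by
        intro m hm
        rw [hplane h] at hm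
        exact hPAIR x _ hx (hroot h) hd1 m hm
      have hf2 : ∀ m ∈ h • P₁, x • m = m := by
        intro m hm
        rw [hPh, hplane (h * h₁)] at hm
        exact hPAIR x _ hx (hroot (h * h₁)) hd2 m hm
      have hm' : m ∈ h • V ⊔ h • P₁ := by
        rw [← Subgroup.smul_sup]
        exact hm
      exact fix_sup x _ _ hf1 hf2 m hm'

end blk

end Cfsg.Agent.Lib.Helper9.R3BLOCK
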