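import Mathlib

/-!
Abstract "Ree data": a group `G` with a rank one split `(B,N)`-structure whose unipotent
radical has the multiplication law of the Sylow `3`-subgroups of the small Ree groups.  This file
sets up the structure and its elementary consequences (helper9).
-/

set_option autoImplicit false

namespace Cfsg.Agent.Lib.Helper9.ReeOut

/-- the abstract data of a Ree group: unipotent elements `x t u v`, torus `hh l`, Weyl element
`n0`, Borel subgroup `B`, field automorphisms `fa`. -/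
structure ReeAbs (F : Type*) [Field F] (G : Type*) [Group G] where
  sg : F →+* F
  x : F → F → F → G
  hh : Fˣ →* G
  n0 : G
  B : Subgroup G
  fa : (F ≃+* F) → (G ≃* G)
  sg_sg : ∀ t, sg (sg t) = t ^ 3
  three : (3 : F) = 0
  sg_ne : ∃ c : F, sg c ≠ c
  x_inj : ∀ t u v t' u' v', x t u v = x t' u' v' → t = t' ∧ u = u' ∧ v = v'
  x_mul : ∀ t u v t' u' v', x t u v * x t' u' v' =
    x (t + t') (u + u' - sg t' * t) (v + v' - t' * u + sg t' * t * t' - sg t' * t ^ 2)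
  hh_inj : Function.Injective hh
  h_conj : ∀ (l : Fˣ) t u v, hh l * x t u v * (hh l)⁻¹ =
    x (l * t) (l * sg l * u) (l ^ 2 * sg l * v)
  mem_B : ∀ g, g ∈ B ↔ ∃ l t u v, g = hh l * x t u v
  cells : ∀ g, g ∈ B ∨ ∃ b ∈ B, ∃ b' ∈ B, g = b * n0 * b'
  n0_H : ∀ l, ∃ l', n0⁻¹ * hh l * n0 = hh l'
  inf_conj : ∀ b ∈ B, n0⁻¹ * b * n0 ∈ B → ∃ l, b = hh l
  n0_not_mem : n0 ∉ B
  core : B.normalCore = ⊥
  fa_x : ∀ κ t u v, fa κ (x t u v) = x (κ t) (κ u) (κ v)
  fa_n0 : ∀ κ, fa κ n0 = n0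

variable {F : Type*} [Field F] {G : Type*} [Group G] (R : ReeAbs F G)

namespace ReeAbs

include R in
theorem two_mul_two : (2 : F) * 2 = 1 := by
  linear_combination R.three

theorem x_zero : R.x 0 0 0 = 1 := by
  have h := R.x_mul 0 0 0 0 0 0
  simp only [add_zero, map_zero, mul_zero, sub_zero, zero_mul, ne_eq, OfNat.ofNat_ne_zero,
    not_false_eq_true, zero_pow] at h
  exact mul_eq_left.mp h

theorem x_inv (t u v : F) :
    (R.x t u v)⁻¹ = R.x (-t) (-u - R.sg t * t) (-v - t * u + R.sg t * t ^ 2) := by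
  apply inv_eq_of_mul_eq_one_right
  rw [R.x_mul, ← R.x_zero]
  have h3 := R.three
  congr 1
  · ring
  · rw [map_neg]; ring
  · rw [map_neg]
    linear_combination (R.sg t * t ^ 2) * h3

/-- the unipotent radical -/
def U : Subgroup G where
  carrier := {g | ∃ t u v, g = R.x t u v}
  one_mem' := ⟨0, 0, 0, R.x_zero.symm⟩
  mul_mem' := by
    rintro _ _ ⟨t, u, v, rfl⟩ ⟨t', u', v', rfl⟩
    exact ⟨_, _, _, R.x_mul t u v t' u' v'⟩
  inv_mem' := by
    rintro _ ⟨t, u, v, rfl⟩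
    exact ⟨_, _, _, R.x_inv t u v⟩

theorem mem_U (g : G) : g ∈ R.U ↔ ∃ t u v, g = R.x t u v := Iff.rfl

theorem x_mem_U (t u v : F) : R.x t u v ∈ R.U := ⟨t, u, v, rfl⟩

/-- the torus -/
def H : Subgroup G := R.hh.range

theorem hh_mem_B (l : Fˣ) : R.hh l ∈ R.B :=
  (R.mem_B _).mpr ⟨l, 0, 0, 0, by rw [R.x_zero, mul_one]⟩

theorem x_mem_B (t u v : F) : R.x t u v ∈ R.B :=
  (R.mem_B _).mpr ⟨1, t, u, v, by rw [map_one, one_mul]⟩

theorem U_le_B : R.U ≤ R.B := by
  rintro _ ⟨t, u, v, rfl⟩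
  exact R.x_mem_B t u v

/-- splitting off the first coordinate -/
theorem x_split (t u v : F) : R.x t u v = R.x t 0 0 * R.x 0 u 0 * R.x 0 0 v := by
  rw [R.x_mul, R.x_mul]
  congr 1 <;> simp

theorem x_split' (t u v : F) : R.x t u v = R.x t 0 0 * R.x 0 u v := by
  rw [R.x_mul]
  congr 1 <;> simp

theorem x_cube (t u v : F) : R.x t u v ^ 3 = R.x 0 0 (-(t ^ 2 * R.sg t)) := by
  rw [pow_succ, pow_two, R.x_mul, R.x_mul]
  have h3 := R.three
  congr 1
  · linear_combination t * h3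
  · linear_combination (u - R.sg t * t) * h3
  · linear_combination (v - t * u) * h3

theorem x_cube_eq_one_iff (t u v : F) : R.x t u v ^ 3 = 1 ↔ t = 0 := by
  rw [R.x_cube, ← R.x_zero]
  constructor
  · intro h
    have h1 := (R.x_inj _ _ _ _ _ _ h).2.2
    by_contra ht
    have : t ^ 2 * R.sg t ≠ 0 :=
      mul_ne_zero (pow_ne_zero _ ht) (fun h0 => ht ((map_eq_zero _).mp h0))
    exact this (neg_eq_zero.mp h1)
  · rintro rfl
    simp

/-- `l ↦ l² σ(l)` is injective on nonzero elements -/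
theorem w2_eq_one (r : F) (hr : r ≠ 0) (h : r ^ 2 * R.sg r = 1) : r = 1 := by
  have h1 : R.sg r = (r ^ 2)⁻¹ := eq_inv_of_mul_eq_one_right h
  have h2 : R.sg (R.sg r) = ((R.sg r) ^ 2)⁻¹ := by
    rw [h1, map_inv₀, map_pow, h1]
  rw [R.sg_sg, h1] at h2
  have h3 : r ^ 3 = r ^ 4 := by
    rw [h2]
    field_simp
  have h4 : r ^ 3 * (r - 1) = 0 := by linear_combination -h3
  rcases mul_eq_zero.mp h4 with h5 | h5
  · exact absurd (pow_eq_zero_iff (by norm_num) |>.mp h5) hr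
  · exact sub_eq_zero.mp h5

theorem w1_eq_one (r : F) (hr : r ≠ 0) (h : r * R.sg r = 1) : r ^ 2 = 1 := by
  have h1 : R.sg r = r⁻¹ := eq_inv_of_mul_eq_one_right h
  have h2 : R.sg (R.sg r) = (R.sg r)⁻¹ := by
    rw [h1, map_inv₀, h1]
  rw [R.sg_sg, h1, inv_inv] at h2
  have h4 : r * (r ^ 2 - 1) = 0 := by linear_combination h2
  rcases mul_eq_zero.mp h4 with h5 | h5
  · exact absurd h5 hr
  · exact sub_eq_zero.mp h5

theorem w2_injective : Function.Injective (fun t : F => t ^ 2 * R.sg t) := by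
  intro t s h
  simp only at h
  by_cases hs : s = 0
  · subst hs
    simp only [map_zero, mul_zero, mul_eq_zero, pow_eq_zero_iff (two_ne_zero), map_eq_zero,
      or_self] at h
    exact h
  · have hsg : R.sg s ≠ 0 := fun h0 => hs ((map_eq_zero _).mp h0)
    have h1 : (t / s) ^ 2 * R.sg (t / s) = 1 := by
      rw [map_div₀, div_pow, div_mul_div_comm, h]
      field_simp
    have ht : t / s ≠ 0 := by
      intro h0
      rw [h0] at h1
      simp at h1
    have := R.w2_eq_one _ ht h1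
    field_simp at this
    exact this

theorem w2_surjective [Finite F] (v : F) : ∃ t : F, t ^ 2 * R.sg t = v :=
  (Finite.injective_iff_surjective.mp R.w2_injective) v

/-- an element of the torus whose square is not `1` centralises no nontrivial element of `U` -/
theorem cent_good (l : Fˣ) (hl : l ^ 2 ≠ 1) (t u v : F)
    (h : R.hh l * R.x t u v * (R.hh l)⁻¹ = R.x t u v) : t = 0 ∧ u = 0 ∧ v = 0 := by
  rw [R.h_conj] at h
  obtain ⟨h1, h2, h3⟩ := R.x_inj _ _ _ _ _ _ h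
  have hl0 : (l : F) ≠ 0 := l.ne_zero
  have hl1 : (l : F) ≠ 1 := by
    intro h1
    apply hl
    apply Units.ext
    simp [h1]
  have hl2 : (l : F) ^ 2 ≠ 1 := by
    intro h1
    apply hl
    apply Units.ext
    simpa using h1
  refine ⟨?_, ?_, ?_⟩
  · have : ((l : F) - 1) * t = 0 := by linear_combination h1
    rcases mul_eq_zero.mp this with h | h
    · exact absurd (sub_eq_zero.mp h) hl1
    · exact h
  · have : ((l : F) * R.sg l - 1) * u = 0 := by linear_combination h2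
    rcases mul_eq_zero.mp this with h | h
    · exact absurd (R.w1_eq_one _ hl0 (sub_eq_zero.mp h)) hl2
    · exact h
  · have : ((l : F) ^ 2 * R.sg l - 1) * v = 0 := by linear_combination h3
    rcases mul_eq_zero.mp this with h | h
    · exact absurd (R.w2_eq_one _ hl0 (sub_eq_zero.mp h)) hl1
    · exact h

/-- `U ∩ H = 1` -/
theorem U_inf_H (l₁ : Fˣ) (hl₁ : l₁ ^ 2 ≠ 1) (l : Fˣ) (t u v : F) (h : R.hh l = R.x t u v) :
    l = 1 ∧ t = 0 ∧ u = 0 ∧ v = 0 := by
  have hc : R.hh l₁ * R.x t u v * (R.hh l₁)⁻¹ = R.x t u v := by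
    rw [← h, ← map_mul, ← map_inv, ← map_mul, mul_comm, inv_mul_cancel_left]
  obtain ⟨rfl, rfl, rfl⟩ := R.cent_good l₁ hl₁ t u v hc
  refine ⟨?_, rfl, rfl, rfl⟩
  rw [R.x_zero, ← map_one R.hh] at h
  exact R.hh_inj h

/-- `B` normalises `U` -/
theorem conj_mem_U_of_mem_B (b : G) (hb : b ∈ R.B) (y : G) (hy : y ∈ R.U) : b * y * b⁻¹ ∈ R.U := by
  obtain ⟨l, t, u, v, rfl⟩ := (R.mem_B b).mp hb
  obtain ⟨t', u', v', rfl⟩ := hy
  have e : R.hh l * R.x t u v * R.x t' u' v' * (R.hh l * R.x t u v)⁻¹ =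
      R.hh l * (R.x t u v * R.x t' u' v' * (R.x t u v)⁻¹) * (R.hh l)⁻¹ := by group
  rw [e]
  have h1 : R.x t u v * R.x t' u' v' * (R.x t u v)⁻¹ ∈ R.U :=
    R.U.mul_mem (R.U.mul_mem (R.x_mem_U _ _ _) (R.x_mem_U _ _ _)) (R.U.inv_mem (R.x_mem_U _ _ _))
  obtain ⟨a, b, c, habc⟩ := h1
  rw [habc, R.h_conj]
  exact R.x_mem_U _ _ _

theorem conj_mem_U_iff_of_mem_B (b : G) (hb : b ∈ R.B) (y : G) : y ∈ R.U ↔ b * y * b⁻¹ ∈ R.U := by
  constructor
  · exact R.conj_mem_U_of_mem_B b hb y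
  · intro h
    have := R.conj_mem_U_of_mem_B b⁻¹ (R.B.inv_mem hb) _ h
    have e : b⁻¹ * (b * y * b⁻¹) * b⁻¹⁻¹ = y := by group
    rwa [e] at this

/-- elements of `B` in the form `x * h` -/
theorem mem_B' (g : G) : g ∈ R.B ↔ ∃ l t u v, g = R.x t u v * R.hh l := by
  constructor
  · intro hg
    obtain ⟨l, t, u, v, rfl⟩ := (R.mem_B g).mp hg
    refine ⟨l, l * t, l * R.sg l * u, l ^ 2 * R.sg l * v, ?_⟩
    rw [← R.h_conj l t u v]
    group
  · rintro ⟨l, t, u, v, rfl⟩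
    exact R.B.mul_mem (R.x_mem_B _ _ _) (R.hh_mem_B _)

end ReeAbs

end Cfsg.Agent.Lib.Helper9.ReeOut
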