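import Mathlib
import Cfsg.Agent.Lib.Helper9.ReeOutA

/-!
Abstract Ree data: an automorphism which is the identity on the torus and on `U / Ω₁(U)` is the
identity on the Borel subgroup (helper9).
-/

set_option autoImplicit false

namespace Cfsg.Agent.Lib.Helper9.ReeOut

variable {F : Type*} [Field F] {G : Type*} [Group G] (R : ReeAbs F G)

namespace ReeAbs

/-- rigidity on `U` -/
theorem rigid_U [Finite F] (γ : G ≃* G) (hH : ∀ l, γ (R.hh l) = R.hh l)
    (hU : ∀ t u v, ∃ u' v', γ (R.x t u v) = R.x t u' v') :
    ∀ t u v, γ (R.x t u v) = R.x t u v := by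
  have h3 := R.three
  have h22 := R.two_mul_two
  -- the centre of `U`
  have hZ : ∀ v, γ (R.x 0 0 v) = R.x 0 0 v := by
    intro v
    obtain ⟨t, ht⟩ := R.w2_surjective (-v)
    obtain ⟨a, b, hab⟩ := hU t 0 0
    have e1 : R.x 0 0 v = R.x t 0 0 ^ 3 := by
      rw [R.x_cube, ht, neg_neg]
    rw [e1, map_pow, hab, R.x_cube, R.x_cube]
  choose a b hab using fun t => hU t 0 0
  choose p ρ hpρ using fun u => hU 0 u 0
  -- equivariance under the torus
  have hequiv : ∀ (l : Fˣ) (t u v : F), γ (R.x (l * t) (l * R.sg l * u) (l ^ 2 * R.sg l * v)) =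
      R.hh l * γ (R.x t u v) * (R.hh l)⁻¹ := by
    intro l t u v
    rw [← R.h_conj, map_mul, map_mul, map_inv, hH]
  have hm1 : ((-1 : Fˣ) : F) = -1 := by simp
  -- `ρ = 0`
  have hρ : ∀ u, ρ u = 0 := by
    intro u
    have h1 := hequiv (-1) 0 u 0
    rw [hpρ, R.h_conj, hm1, map_neg, map_one] at h1
    have e : (-1 : F) * -1 * u = u := by ring
    rw [mul_zero, mul_zero, e, hpρ] at h1
    have h2 := (R.x_inj _ _ _ _ _ _ h1).2.2
    have : (2 : F) * ρ u = 0 := by linear_combination h2
    have : (2 : F) * 2 * ρ u = 0 := by rw [mul_assoc, this, mul_zero]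
    rwa [h22, one_mul] at this
  -- `a` is even, `b` is odd
  have ha_even : ∀ t, a (-t) = a t := by
    intro t
    have h1 := hequiv (-1) t 0 0
    rw [hab, R.h_conj, hm1, map_neg, map_one, mul_zero, mul_zero] at h1
    have e : (-1 : F) * t = -t := by ring
    rw [e, hab] at h1
    have h2 := (R.x_inj _ _ _ _ _ _ h1).2.1
    rw [h2]; ring
  have hb_equiv : ∀ (l : Fˣ) (t : F), b (l * t) = (l : F) ^ 2 * R.sg l * b t := by
    intro l t
    have h1 := hequiv l t 0 0
    rw [hab, R.h_conj, mul_zero, mul_zero, hab] at h1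
    exact (R.x_inj _ _ _ _ _ _ h1).2.2
  -- general formula
  have hgen : ∀ t u v, γ (R.x t u v) = R.x t (a t + p u) (b t + v) := by
    intro t u v
    rw [R.x_split t u v, map_mul, map_mul, hab, hpρ, hρ, hZ, R.x_mul, R.x_mul]
    congr 1 <;> simp
  -- the product of two elements `x t 0 0`
  have hprod : ∀ t t', a t + a t' - R.sg t' * t = a (t + t') + p (-(R.sg t' * t)) ∧
      b t + b t' - t' * a t = b (t + t') := by
    intro t t'
    have h1 := congrArg γ (R.x_mul t 0 0 t' 0 0)
    rw [map_mul, hab, hab, R.x_mul, hgen] at h1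
    obtain ⟨-, h2, h4⟩ := R.x_inj _ _ _ _ _ _ h1
    constructor
    · rw [h2]; congr 2; ring
    · linear_combination h4
  have ha0 : ∀ t, a t = 0 := by
    have hsymm : ∀ t t', t' * a t = t * a t' := by
      intro t t'
      have h1 := (hprod t t').2
      have h2 := (hprod t' t).2
      rw [add_comm t' t] at h2
      linear_combination h2 - h1
    have ha1 : a 1 = 0 := by
      have h1 := ha_even 1
      have h2 := hsymm 1 (-1)
      rw [h1] at h2
      have : (2 : F) * a 1 = 0 := by linear_combination -h2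
      have : (2 : F) * 2 * a 1 = 0 := by rw [mul_assoc, this, mul_zero]
      rwa [h22, one_mul] at this
    intro t
    have := hsymm t 1
    rw [ha1, mul_zero, one_mul] at this
    exact this
  have hp : ∀ u, p u = u := by
    intro u
    have h1 := (hprod (-u) 1).1
    rw [ha0, ha0, ha0, map_one] at h1
    have e : -(1 * -u) = u := by ring
    rw [e] at h1
    linear_combination -h1
  have hb_add : ∀ t t', b (t + t') = b t + b t' := by
    intro t t'
    have := (hprod t t').2
    rw [ha0, mul_zero, sub_zero] at this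
    exact this.symm
  have hb0 : ∀ t, b t = 0 := by
    by_contra hcon
    push Not at hcon
    obtain ⟨t₀, ht₀⟩ := hcon
    have hb00 : b 0 = 0 := by
      have := hb_add 0 0
      rw [add_zero] at this
      linear_combination -this
    have hb1 : b 1 ≠ 0 := by
      intro h1
      apply ht₀
      by_cases h0 : t₀ = 0
      · rw [h0, hb00]
      · have := hb_equiv (Units.mk0 t₀ h0) 1
        rw [Units.val_mk0, mul_one, h1, mul_zero] at this
        exact this
    have hbt : ∀ t : F, t ≠ 0 → b t = t ^ 2 * R.sg t * b 1 := by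
      intro t ht
      have := hb_equiv (Units.mk0 t ht) 1
      rwa [Units.val_mk0, mul_one] at this
    have hbm1 : b (-1) = -b 1 := by
      have := hb_add 1 (-1)
      rw [add_neg_cancel, hb00] at this
      linear_combination -this
    -- `sg` is the identity
    have hsg : ∀ t : F, R.sg t = t := by
      intro t
      by_cases h0 : t = 0
      · rw [h0, map_zero]
      by_cases h1 : t = 1
      · rw [h1, map_one]
      by_cases hm : t = -1
      · rw [hm, map_neg, map_one]
      have hp1 : t + 1 ≠ 0 := fun h => hm (by linear_combination h)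
      have hm1' : t - 1 ≠ 0 := fun h => h1 (by linear_combination h)
      have eA := hb_add t 1
      rw [hbt t h0, hbt (t + 1) hp1, map_add, map_one] at eA
      have eB := hb_add t (-1)
      rw [hbm1, hbt t h0, ← sub_eq_add_neg, hbt (t - 1) hm1', map_sub, map_one] at eB
      have eA' : (t ^ 2 + 2 * t * R.sg t + 2 * t + R.sg t) * b 1 = 0 := by linear_combination eA
      have eB' : (-t ^ 2 - 2 * t * R.sg t + 2 * t + R.sg t) * b 1 = 0 := by linear_combination eB
      have eC : (4 * t + 2 * R.sg t) * b 1 = 0 := by linear_combination eA' + eB'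
      rcases mul_eq_zero.mp eC with h | h
      · have : (2 : F) * 2 * R.sg t = 2 * 2 * t := by linear_combination 2 * h - (4 * t) * h3
        rwa [h22, one_mul, one_mul] at this
      · exact absurd h hb1
    obtain ⟨c, hc⟩ := R.sg_ne
    exact hc (hsg c)
  intro t u v
  rw [hgen, ha0, hp, hb0, zero_add, zero_add]

/-- rigidity on `B` -/
theorem rigid_B [Finite F] (γ : G ≃* G) (hH : ∀ l, γ (R.hh l) = R.hh l)
    (hU : ∀ t u v, ∃ u' v', γ (R.x t u v) = R.x t u' v') : ∀ g ∈ R.B, γ g = g := by
  intro g hg
  obtain ⟨l, t, u, v, rfl⟩ := (R.mem_B g).mp hg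
  rw [map_mul, hH, R.rigid_U γ hH hU]

end ReeAbs

end Cfsg.Agent.Lib.Helper9.ReeOut
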