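import Mathlib
import Cfsg.Agent.Lib.Helper9.ReeOutB

/-!
Abstract Ree data: the normaliser of `U` is `B`; an automorphism which is the identity on `B` is
the identity (helper9).
-/

set_option autoImplicit false

namespace Cfsg.Agent.Lib.Helper9.ReeOut

variable {F : Type*} [Field F] {G : Type*} [Group G] (R : ReeAbs F G)

namespace ReeAbs

theorem x_one_ne_one : R.x 1 0 0 ≠ 1 := by
  intro h
  rw [← R.x_zero] at h
  exact one_ne_zero (R.x_inj _ _ _ _ _ _ h).1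

/-- an element of `U` which is conjugated into `B` by `n0` is trivial -/
theorem eq_one_of_conj_n0 (l₁ : Fˣ) (hl₁ : l₁ ^ 2 ≠ 1) (y : G) (hy : y ∈ R.U)
    (h : R.n0⁻¹ * y * R.n0 ∈ R.B) : y = 1 := by
  obtain ⟨l, hl⟩ := R.inf_conj y (R.U_le_B hy) h
  obtain ⟨t, u, v, htuv⟩ := hy
  obtain ⟨-, rfl, rfl, rfl⟩ := R.U_inf_H l₁ hl₁ l t u v (hl.symm.trans htuv)
  rw [htuv, R.x_zero]

/-- an element conjugating `U` into itself lies in `B` -/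
theorem mem_B_of_conj_U (l₁ : Fˣ) (hl₁ : l₁ ^ 2 ≠ 1) (g : G)
    (hg : ∀ y ∈ R.U, g * y * g⁻¹ ∈ R.U) : g ∈ R.B := by
  rcases R.cells g with h | ⟨b, hb, b', hb', rfl⟩
  · exact h
  · exfalso
    have h1 : ∀ y ∈ R.U, R.n0 * y * R.n0⁻¹ ∈ R.U := by
      intro y hy
      have hy' : b'⁻¹ * y * b'⁻¹⁻¹ ∈ R.U := R.conj_mem_U_of_mem_B _ (R.B.inv_mem hb') y hy
      have h2 := hg _ hy'
      have e : b * R.n0 * b' * (b'⁻¹ * y * b'⁻¹⁻¹) * (b * R.n0 * b')⁻¹ =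
          b * (R.n0 * y * R.n0⁻¹) * b⁻¹ := by group
      rw [e] at h2
      exact (R.conj_mem_U_iff_of_mem_B b hb _).mpr h2
    have h2 := h1 (R.x 1 0 0) (R.x_mem_U _ _ _)
    have h3 : R.n0⁻¹ * (R.n0 * R.x 1 0 0 * R.n0⁻¹) * R.n0 ∈ R.B := by
      have : R.n0⁻¹ * (R.n0 * R.x 1 0 0 * R.n0⁻¹) * R.n0 = R.x 1 0 0 := by group
      rw [this]
      exact R.x_mem_B _ _ _
    have h4 := R.eq_one_of_conj_n0 l₁ hl₁ _ h2 h3
    apply R.x_one_ne_one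
    have e : R.x 1 0 0 = R.n0⁻¹ * (R.n0 * R.x 1 0 0 * R.n0⁻¹) * R.n0 := by group
    rw [e, h4]
    group

/-- an automorphism preserving `U` preserves `B` -/
theorem map_mem_B (l₁ : Fˣ) (hl₁ : l₁ ^ 2 ≠ 1) (α : G ≃* G) (hU : ∀ g, g ∈ R.U ↔ α g ∈ R.U)
    (g : G) (hg : g ∈ R.B) : α g ∈ R.B := by
  apply R.mem_B_of_conj_U l₁ hl₁
  intro y hy
  have e1 : α g * y * (α g)⁻¹ = α (g * α.symm y * g⁻¹) := by
    rw [map_mul, map_mul, map_inv, α.apply_symm_apply]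
  rw [e1, ← hU]
  apply R.conj_mem_U_of_mem_B g hg
  rw [hU, α.apply_symm_apply]
  exact hy

/-- an element of `B` normalising the torus lies in the torus -/
theorem mem_H_of_normalizes (l₁ : Fˣ) (hl₁ : l₁ ^ 2 ≠ 1) (t u v : F) (l : Fˣ)
    (h : ∀ l' : Fˣ, ∃ l₃ : Fˣ, (R.x t u v * R.hh l)⁻¹ * R.hh l' * (R.x t u v * R.hh l) = R.hh l₃) :
    t = 0 ∧ u = 0 ∧ v = 0 := by
  obtain ⟨l₃, h1⟩ := h l₁
  -- `x⁻¹ * hh l₁ * x = hh l₃`
  have h2 : (R.x t u v)⁻¹ * R.hh l₁ * R.x t u v = R.hh l₃ := by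
    have e : (R.x t u v)⁻¹ * R.hh l₁ * R.x t u v =
        R.hh l * ((R.x t u v * R.hh l)⁻¹ * R.hh l₁ * (R.x t u v * R.hh l)) * (R.hh l)⁻¹ := by group
    rw [e, h1, ← map_mul, ← map_inv, ← map_mul, mul_comm, inv_mul_cancel_left]
  -- the commutator lies in `U ∩ H`
  have h3 : (R.hh l₁)⁻¹ * (R.x t u v)⁻¹ * R.hh l₁ ∈ R.U := by
    have := R.conj_mem_U_of_mem_B (R.hh l₁)⁻¹ (R.B.inv_mem (R.hh_mem_B l₁)) _
      (R.U.inv_mem (R.x_mem_U t u v))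
    rwa [inv_inv] at this
  have h4 : (R.hh l₁)⁻¹ * (R.x t u v)⁻¹ * R.hh l₁ * R.x t u v ∈ R.U :=
    R.U.mul_mem h3 (R.x_mem_U t u v)
  obtain ⟨a, b, c, habc⟩ := h4
  have h5 : R.hh (l₁⁻¹ * l₃) = R.x a b c := by
    rw [map_mul, map_inv, ← h2, ← habc]
    group
  obtain ⟨h6, rfl, rfl, rfl⟩ := R.U_inf_H l₁ hl₁ _ a b c h5
  rw [R.x_zero] at habc
  have h7 : R.hh l₁ * R.x t u v * (R.hh l₁)⁻¹ = R.x t u v := by
    have e : R.hh l₁ * R.x t u v * (R.hh l₁)⁻¹ =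
        R.x t u v * (R.hh l₁ * ((R.hh l₁)⁻¹ * (R.x t u v)⁻¹ * R.hh l₁ * R.x t u v) *
          (R.hh l₁)⁻¹) := by group
    rw [e, habc, mul_one, mul_inv_cancel, mul_one]
  exact R.cent_good l₁ hl₁ t u v h7

/-- an automorphism which is the identity on `B` is the identity -/
theorem rigid_G (l₁ : Fˣ) (hl₁ : l₁ ^ 2 ≠ 1) (γ : G ≃* G) (hB : ∀ g ∈ R.B, γ g = g) :
    ∀ g, γ g = g := by
  -- the image of `n0`
  have hn : ∃ b₀ ∈ R.B, γ R.n0 = R.n0 * b₀ := by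
    rcases R.cells (γ R.n0) with h | ⟨b, hb, b', hb', e⟩
    · exfalso
      have h1 := hB _ h
      have h2 := γ.injective h1
      rw [h2] at h
      exact R.n0_not_mem h
    · obtain ⟨l, t, u, v, rfl⟩ := (R.mem_B' b).mp hb
      have hnorm : ∀ l' : Fˣ, ∃ l₃ : Fˣ,
          (R.x t u v * R.hh l)⁻¹ * R.hh l' * (R.x t u v * R.hh l) = R.hh l₃ := by
        intro l'
        obtain ⟨l'', hl''⟩ := R.n0_H l'
        have h1 : (γ R.n0)⁻¹ * R.hh l' * γ R.n0 = R.hh l'' := by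
          have h2 := congrArg γ hl''
          rw [map_mul, map_mul, map_inv, hB _ (R.hh_mem_B l'), hB _ (R.hh_mem_B l'')] at h2
          exact h2
        rw [e] at h1
        apply R.inf_conj
        · exact R.B.mul_mem (R.B.mul_mem (R.B.inv_mem hb) (R.hh_mem_B l')) hb
        · have e2 : R.n0⁻¹ * ((R.x t u v * R.hh l)⁻¹ * R.hh l' * (R.x t u v * R.hh l)) * R.n0 =
              b' * ((R.x t u v * R.hh l * R.n0 * b')⁻¹ * R.hh l' *
                (R.x t u v * R.hh l * R.n0 * b')) * b'⁻¹ := by group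
          rw [e2, h1]
          exact R.B.mul_mem (R.B.mul_mem hb' (R.hh_mem_B l'')) (R.B.inv_mem hb')
      obtain ⟨rfl, rfl, rfl⟩ := R.mem_H_of_normalizes l₁ hl₁ t u v l hnorm
      obtain ⟨l'', hl''⟩ := R.n0_H l
      refine ⟨R.hh l'' * b', R.B.mul_mem (R.hh_mem_B l'') hb', ?_⟩
      rw [e, R.x_zero, one_mul, ← hl'']
      group
  obtain ⟨b₀, hb₀, hn0⟩ := hn
  -- `g⁻¹ γ(g) ∈ B`
  have hc : ∀ g, g⁻¹ * γ g ∈ R.B := by
    intro g
    rcases R.cells g with h | ⟨b, hb, b', hb', rfl⟩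
    · rw [hB g h, inv_mul_cancel]
      exact R.B.one_mem
    · rw [map_mul, map_mul, hB b hb, hB b' hb', hn0]
      have e : (b * R.n0 * b')⁻¹ * (b * (R.n0 * b₀) * b') = b'⁻¹ * b₀ * b' := by group
      rw [e]
      exact R.B.mul_mem (R.B.mul_mem (R.B.inv_mem hb') hb₀) hb'
  intro g
  have hcore : g⁻¹ * γ g ∈ R.B.normalCore := by
    intro y
    have e : y * (g⁻¹ * γ g) * y⁻¹ = ((g * y⁻¹)⁻¹ * γ (g * y⁻¹)) * (y⁻¹⁻¹ * γ y⁻¹)⁻¹ := by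
      rw [map_mul]
      group
    rw [e]
    exact R.B.mul_mem (hc _) (R.B.inv_mem (hc _))
  rw [R.core, Subgroup.mem_bot] at hcore
  exact (inv_mul_eq_one.mp hcore).symm

end ReeAbs

end Cfsg.Agent.Lib.Helper9.ReeOut
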