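import Mathlib
import Cfsg.Agent.Lib.Helper9.ReeOutC

/-!
Abstract Ree data: normalisation of an automorphism (Sylow, torus), semilinearity on
`U / Ω₁(U)` (helper9).
-/

set_option autoImplicit false

namespace Cfsg.Agent.Lib.Helper9.ReeOut

variable {F : Type*} [Field F] {G : Type*} [Group G] (R : ReeAbs F G)

namespace ReeAbs

/-- field automorphisms preserve `U` -/
theorem fa_mem_U (κ : F ≃+* F) (g : G) : g ∈ R.U ↔ R.fa κ g ∈ R.U := by
  constructor
  · rintro ⟨t, u, v, rfl⟩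
    rw [R.fa_x]
    exact R.x_mem_U _ _ _
  · rintro ⟨t, u, v, h⟩
    have h1 : R.fa κ (R.x (κ.symm t) (κ.symm u) (κ.symm v)) = R.x t u v := by
      rw [R.fa_x, κ.apply_symm_apply, κ.apply_symm_apply, κ.apply_symm_apply]
    rw [← h1] at h
    rw [(R.fa κ).injective h]
    exact R.x_mem_U _ _ _

/-- field automorphisms act on the torus in the natural way -/
theorem fa_hh (l₁ : Fˣ) (hl₁ : l₁ ^ 2 ≠ 1) (κ : F ≃+* F) (l : Fˣ) :
    R.fa κ (R.hh l) = R.hh (Units.map (κ : F →* F) l) := by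
  have hB : ∀ g ∈ R.B, R.fa κ g ∈ R.B := R.map_mem_B l₁ hl₁ (R.fa κ) (R.fa_mem_U κ)
  have h1 : R.fa κ (R.hh l) ∈ R.B := hB _ (R.hh_mem_B l)
  have h2 : R.n0⁻¹ * R.fa κ (R.hh l) * R.n0 ∈ R.B := by
    obtain ⟨l', hl'⟩ := R.n0_H l
    have := congrArg (R.fa κ) hl'
    rw [map_mul, map_mul, map_inv, R.fa_n0] at this
    rw [this]
    exact hB _ (R.hh_mem_B l')
  obtain ⟨l₂, hl₂⟩ := R.inf_conj _ h1 h2
  rw [hl₂]
  congr 1
  have h3 := congrArg (R.fa κ) (R.h_conj l 1 0 0)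
  rw [map_mul, map_mul, map_inv, hl₂, R.fa_x, R.fa_x, R.h_conj] at h3
  have h4 := (R.x_inj _ _ _ _ _ _ h3).1
  apply Units.ext
  rw [map_one, mul_one, mul_one] at h4
  rw [h4]
  rfl

/-- up to an inner automorphism, an automorphism preserves `U` -/
theorem exists_conj_U [Finite G] (hSyl : Nat.card R.U = 3 ^ (Nat.card G).factorization 3)
    (α : G ≃* G) : ∃ y : G, ∀ g, g ∈ R.U ↔ y * α g * y⁻¹ ∈ R.U := by
  haveI : Fact (Nat.Prime 3) := ⟨Nat.prime_three⟩
  have hcard : Nat.card (R.U.map α.toMonoidHom) = 3 ^ (Nat.card G).factorization 3 := by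
    rw [Subgroup.card_map_of_injective α.injective]
    exact hSyl
  obtain ⟨y, hy⟩ := MulAction.exists_smul_eq G (Sylow.ofCard _ hcard) (Sylow.ofCard _ hSyl)
  have hy' : ∀ z : G, z ∈ R.U ↔ y⁻¹ * z * y ∈ R.U.map α.toMonoidHom := by
    intro z
    have h1 : z ∈ ((y • Sylow.ofCard _ hcard : Sylow 3 G) : Subgroup G) ↔ z ∈ R.U := by
      rw [hy]
      rfl
    rw [← h1, Sylow.coe_subgroup_smul, Subgroup.mem_pointwise_smul_iff_inv_smul_mem,
      MulAut.smul_def, MulAut.inv_apply, MulAut.conj_symm_apply]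
    rfl
  refine ⟨y, fun g => ?_⟩
  have e : y⁻¹ * (y * α g * y⁻¹) * y = α g := by group
  rw [hy' (y * α g * y⁻¹), e]
  constructor
  · intro hg
    exact ⟨g, hg, rfl⟩
  · rintro ⟨g', hg', h⟩
    have : g' = g := α.injective h
    rwa [← this]

/-- up to conjugation by an element of `U`, the torus is mapped into itself -/
theorem exists_conj_torus [Finite G] (l₀ : Fˣ) (hgen : ∀ l : Fˣ, l ∈ Subgroup.zpowers l₀)
    (hl₀ : l₀ ^ 2 ≠ 1) (α : G ≃* G) (hU : ∀ g, g ∈ R.U ↔ α g ∈ R.U) :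
    ∃ y ∈ R.U, ∀ l : Fˣ, ∃ l' : Fˣ, y⁻¹ * α (R.hh l) * y = R.hh l' := by
  have hB := R.map_mem_B l₀ hl₀ α hU _ (R.hh_mem_B l₀)
  obtain ⟨l', t, u, v, hb⟩ := (R.mem_B _).mp hB
  set b := α (R.hh l₀) with hbdef
  -- `b` centralises no nontrivial element of `U`
  have hcent : ∀ z ∈ R.U, b * z * b⁻¹ = z → z = 1 := by
    intro z hz hc
    have hz' : α.symm z ∈ R.U := by
      rw [hU, α.apply_symm_apply]
      exact hz
    obtain ⟨t', u', v', htuv⟩ := hz'
    have h1 : R.hh l₀ * α.symm z * (R.hh l₀)⁻¹ = α.symm z := by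
      apply α.injective
      rw [map_mul, map_mul, map_inv, α.apply_symm_apply]
      exact hc
    rw [htuv] at h1
    obtain ⟨rfl, rfl, rfl⟩ := R.cent_good l₀ hl₀ t' u' v' h1
    rw [R.x_zero] at htuv
    have := congrArg α htuv
    rwa [α.apply_symm_apply, map_one] at this
  -- the map `y ↦ y⁻¹ (b y b⁻¹)` is a bijection of `U`
  let ψ : ↥R.U → ↥R.U := fun y => ⟨y.1⁻¹ * (b * y.1 * b⁻¹),
    R.U.mul_mem (R.U.inv_mem y.2) (R.conj_mem_U_of_mem_B b hB y.1 y.2)⟩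
  have hψ : Function.Injective ψ := by
    intro y z hyz
    have h1 : y.1⁻¹ * (b * y.1 * b⁻¹) = z.1⁻¹ * (b * z.1 * b⁻¹) := congrArg Subtype.val hyz
    have h2 : b * (z.1 * y.1⁻¹) * b⁻¹ = z.1 * y.1⁻¹ := by
      have e : b * (z.1 * y.1⁻¹) * b⁻¹ = (b * z.1 * b⁻¹) * (b * y.1 * b⁻¹)⁻¹ := by group
      have e2 : b * y.1 * b⁻¹ = y.1 * (z.1⁻¹ * (b * z.1 * b⁻¹)) := by rw [← h1]; group
      rw [e, e2]
      group
    have h3 := hcent _ (R.U.mul_mem z.2 (R.U.inv_mem y.2)) h2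
    apply Subtype.ext
    exact (mul_inv_eq_one.mp h3).symm
  have hψs : Function.Surjective ψ := Finite.injective_iff_surjective.mp hψ
  have htarget : R.hh l' * (R.x t u v)⁻¹ * (R.hh l')⁻¹ ∈ R.U :=
    R.conj_mem_U_of_mem_B _ (R.hh_mem_B l') _ (R.U.inv_mem (R.x_mem_U t u v))
  obtain ⟨y, hy⟩ := hψs ⟨_, htarget⟩
  have hy1 : y.1⁻¹ * (b * y.1 * b⁻¹) = R.hh l' * (R.x t u v)⁻¹ * (R.hh l')⁻¹ :=
    congrArg Subtype.val hy
  have hy2 : y.1⁻¹ * b * y.1 = R.hh l' := by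
    have e : y.1⁻¹ * b * y.1 = (y.1⁻¹ * (b * y.1 * b⁻¹)) * b := by group
    rw [e, hy1, hb]
    group
  refine ⟨y.1, y.2, ?_⟩
  intro l
  obtain ⟨k, rfl⟩ := Subgroup.mem_zpowers_iff.mp (hgen l)
  refine ⟨l' ^ k, ?_⟩
  have e : y.1⁻¹ * α (R.hh (l₀ ^ k)) * y.1 = (y.1⁻¹ * b * y.1) ^ k := by
    rw [map_zpow, map_zpow, hbdef]
    have := map_zpow (MulAut.conj y.1⁻¹) (α (R.hh l₀)) k
    simp only [MulAut.conj_apply, inv_inv] at this
    exact this
  rw [e, hy2, map_zpow]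

/-- elements of `Ω₁(U)` are mapped into `Ω₁(U)` -/
theorem map_x_zero (α : G ≃* G) (hU : ∀ g, g ∈ R.U ↔ α g ∈ R.U) (u v : F) :
    ∃ u' v', α (R.x 0 u v) = R.x 0 u' v' := by
  obtain ⟨t', u', v', h⟩ := (hU _).mp (R.x_mem_U 0 u v)
  have h1 : R.x 0 u v ^ 3 = 1 := (R.x_cube_eq_one_iff 0 u v).mpr rfl
  have h2 := congrArg α h1
  rw [map_pow, map_one, h] at h2
  have := (R.x_cube_eq_one_iff t' u' v').mp h2
  subst this
  exact ⟨u', v', h⟩

/-- semilinearity on `U / Ω₁(U)` -/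
theorem semilinear [Finite F] (α : G ≃* G) (hU : ∀ g, g ∈ R.U ↔ α g ∈ R.U)
    (hT : ∀ l : Fˣ, ∃ l' : Fˣ, α (R.hh l) = R.hh l') :
    ∃ (κ : F ≃+* F) (c : Fˣ), (∀ t u v, ∃ u' v', α (R.x t u v) = R.x (c * κ t) u' v') ∧
      ∀ l : Fˣ, α (R.hh l) = R.hh (Units.map (κ : F →* F) l) := by
  choose f a b hfab using fun t => (hU _).mp (R.x_mem_U t 0 0)
  choose φ hφ using hT
  -- the first coordinate
  have hfirst : ∀ t u v, ∃ u' v', α (R.x t u v) = R.x (f t) u' v' := by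
    intro t u v
    obtain ⟨u', v', h⟩ := R.map_x_zero α hU u v
    rw [R.x_split' t u v, map_mul, hfab, h, R.x_mul]
    exact ⟨_, _, by rw [add_zero]⟩
  have hadd : ∀ t t', f (t + t') = f t + f t' := by
    intro t t'
    have h1 := congrArg α (R.x_mul t 0 0 t' 0 0)
    obtain ⟨u', v', h2⟩ := hfirst (t + t') (0 + 0 - R.sg t' * t)
      (0 + 0 - t' * 0 + R.sg t' * t * t' - R.sg t' * t ^ 2)
    rw [map_mul, hfab, hfab, R.x_mul, h2] at h1
    exact ((R.x_inj _ _ _ _ _ _ h1).1).symm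
  have hf0 : f 0 = 0 := by
    have := hadd 0 0
    rw [add_zero] at this
    linear_combination -this
  have hmul : ∀ (l : Fˣ) (t : F), f (l * t) = φ l * f t := by
    intro l t
    have h1 := congrArg α (R.h_conj l t 0 0)
    rw [map_mul, map_mul, map_inv, hφ, hfab, R.h_conj, mul_zero, mul_zero, hfab] at h1
    exact ((R.x_inj _ _ _ _ _ _ h1).1).symm
  have hinj : ∀ t, f t = 0 → t = 0 := by
    intro t ht
    have h1 : α (R.x t 0 0) ^ 3 = 1 := by
      rw [hfab, R.x_cube_eq_one_iff]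
      exact ht
    rw [← map_pow, ← map_one α] at h1
    exact (R.x_cube_eq_one_iff t 0 0).mp (α.injective h1)
  have hc : f 1 ≠ 0 := fun h => one_ne_zero (hinj 1 h)
  have hκφ : ∀ l : Fˣ, f l / f 1 = φ l := by
    intro l
    have := hmul l 1
    rw [mul_one] at this
    rw [this]
    field_simp
  let κ₀ : F →+* F :=
    { toFun := fun t => f t / f 1
      map_one' := div_self hc
      map_mul' := by
        intro s t
        by_cases hs : s = 0
        · subst hs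
          simp only [zero_mul, hf0, zero_div]
        · have h1 := hmul (Units.mk0 s hs) t
          have h2 := hκφ (Units.mk0 s hs)
          rw [Units.val_mk0] at h1 h2
          rw [h1, h2]
          ring
      map_zero' := by simp only [hf0, zero_div]
      map_add' := by
        intro s t
        simp only [hadd]
        ring }
  have hκ₀ : ∀ t, κ₀ t = f t / f 1 := fun t => rfl
  have hbij : Function.Bijective κ₀ :=
    ⟨κ₀.injective, Finite.injective_iff_surjective.mp κ₀.injective⟩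
  refine ⟨RingEquiv.ofBijective κ₀ hbij, Units.mk0 (f 1) hc, ?_, ?_⟩
  · intro t u v
    obtain ⟨u', v', h⟩ := hfirst t u v
    refine ⟨u', v', ?_⟩
    rw [h]
    congr 1
    rw [Units.val_mk0, RingEquiv.ofBijective_apply, hκ₀]
    field_simp
  · intro l
    rw [hφ]
    congr 1
    apply Units.ext
    rw [← hκφ l]
    rfl

end ReeAbs

end Cfsg.Agent.Lib.Helper9.ReeOut
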