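import Mathlib
import Cfsg.Agent.Lib.Helper9.ReeOutD
import Cfsg.Prelude.Def_KGroupFacts

/-!
Abstract Ree data: every automorphism is inner times field; the outer automorphism group is
in bijection with the automorphisms of the field (helper9).
-/

set_option autoImplicit false

namespace Cfsg.Agent.Lib.Helper9.ReeOut

variable {F : Type*} [Field F] {G : Type*} [Group G] (R : ReeAbs F G)

namespace ReeAbs

/-- every automorphism is a field automorphism followed by an inner automorphism -/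
theorem aut_decomp [Finite F] [Finite G] (hSyl : Nat.card R.U = 3 ^ (Nat.card G).factorization 3)
    (l₀ : Fˣ) (hgen : ∀ l : Fˣ, l ∈ Subgroup.zpowers l₀) (hl₀ : l₀ ^ 2 ≠ 1) (α : G ≃* G) :
    ∃ (κ : F ≃+* F) (g : G), ∀ y, α y = g * R.fa κ y * g⁻¹ := by
  obtain ⟨y, hy⟩ := R.exists_conj_U hSyl α
  let α₁ : G ≃* G := α.trans (MulAut.conj y)
  have hα₁ : ∀ g, α₁ g = y * α g * y⁻¹ := fun g => rfl
  have hU₁ : ∀ g, g ∈ R.U ↔ α₁ g ∈ R.U := hy
  obtain ⟨u, huU, hu⟩ := R.exists_conj_torus l₀ hgen hl₀ α₁ hU₁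
  let α₂ : G ≃* G := α₁.trans (MulAut.conj u⁻¹)
  have hα₂ : ∀ g, α₂ g = u⁻¹ * α₁ g * u := fun g => by
    show u⁻¹ * α₁ g * u⁻¹⁻¹ = _
    rw [inv_inv]
  have hU₂ : ∀ g, g ∈ R.U ↔ α₂ g ∈ R.U := by
    intro g
    rw [hα₂, hU₁ g]
    have := R.conj_mem_U_iff_of_mem_B u⁻¹ (R.B.inv_mem (R.U_le_B huU)) (α₁ g)
    rwa [inv_inv] at this
  have hT₂ : ∀ l : Fˣ, ∃ l' : Fˣ, α₂ (R.hh l) = R.hh l' := by
    intro l
    obtain ⟨l', hl'⟩ := hu l
    exact ⟨l', by rw [hα₂, hl']⟩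
  obtain ⟨κ, c, hsl, hslT⟩ := R.semilinear α₂ hU₂ hT₂
  let δ : G ≃* G := (R.fa κ).trans (MulAut.conj (R.hh c))
  have hδ : ∀ g, δ g = R.hh c * R.fa κ g * (R.hh c)⁻¹ := fun g => rfl
  have hδx : ∀ t u v, δ (R.x t u v) =
      R.x (c * κ t) (c * R.sg c * κ u) (c ^ 2 * R.sg c * κ v) := by
    intro t u v
    rw [hδ, R.fa_x, R.h_conj]
  have hδH : ∀ l : Fˣ, δ (R.hh l) = R.hh (Units.map (κ : F →* F) l) := by
    intro l
    rw [hδ, R.fa_hh l₀ hl₀, ← map_mul, ← map_inv, ← map_mul, mul_comm, inv_mul_cancel_left]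
  let γ : G ≃* G := α₂.trans δ.symm
  have hγ : ∀ g, γ g = δ.symm (α₂ g) := fun g => rfl
  have hc0 : (c : F) ≠ 0 := c.ne_zero
  have hsc0 : R.sg (c : F) ≠ 0 := fun h => hc0 ((map_eq_zero _).mp h)
  have hγH : ∀ l, γ (R.hh l) = R.hh l := by
    intro l
    rw [hγ, hslT, MulEquiv.symm_apply_eq, hδH]
  have hγU : ∀ t u v, ∃ u' v', γ (R.x t u v) = R.x t u' v' := by
    intro t u v
    obtain ⟨u', v', h⟩ := hsl t u v
    refine ⟨κ.symm (u' / (c * R.sg c)), κ.symm (v' / (c ^ 2 * R.sg c)), ?_⟩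
    rw [hγ, h, MulEquiv.symm_apply_eq, hδx, κ.apply_symm_apply, κ.apply_symm_apply]
    congr 1
    · field_simp
    · field_simp
  have hrig := R.rigid_G l₀ hl₀ γ (R.rigid_B γ hγH hγU)
  have hαδ : ∀ g, α₂ g = δ g := by
    intro g
    have := hrig g
    rw [hγ, MulEquiv.symm_apply_eq] at this
    exact this
  refine ⟨κ, y⁻¹ * u * R.hh c, ?_⟩
  intro g
  have h1 := hαδ g
  rw [hα₂, hα₁, hδ] at h1
  have e1 : α g = y⁻¹ * u * (u⁻¹ * (y * α g * y⁻¹) * u) * u⁻¹ * y := by group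
  rw [e1, h1]
  group

/-- distinct field automorphisms differ modulo inner automorphisms -/
theorem fieldAut_inj (l₁ : Fˣ) (hl₁ : l₁ ^ 2 ≠ 1) (κ κ' : F ≃+* F) (g : G)
    (h : ∀ y, R.fa κ' y = g * R.fa κ y * g⁻¹) : κ' = κ := by
  -- `g` normalises `U`
  have hgB : g ∈ R.B := by
    apply R.mem_B_of_conj_U l₁ hl₁
    intro y hy
    have h1 := h ((R.fa κ).symm y)
    rw [(R.fa κ).apply_symm_apply] at h1
    rw [← h1, ← R.fa_mem_U, R.fa_mem_U κ, (R.fa κ).apply_symm_apply]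
    exact hy
  obtain ⟨l, t, u, v, rfl⟩ := (R.mem_B' g).mp hgB
  have hnorm : ∀ l' : Fˣ, ∃ l₃ : Fˣ,
      (R.x t u v * R.hh l)⁻¹ * R.hh l' * (R.x t u v * R.hh l) = R.hh l₃ := by
    intro l'
    have h1 := h (R.hh (Units.map (κ'.symm : F →* F) l'))
    rw [R.fa_hh l₁ hl₁, R.fa_hh l₁ hl₁] at h1
    have e : Units.map (κ' : F →* F) (Units.map (κ'.symm : F →* F) l') = l' := by
      apply Units.ext
      simp
    rw [e] at h1
    refine ⟨Units.map (κ : F →* F) (Units.map (κ'.symm : F →* F) l'), ?_⟩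
    rw [h1]
    group
  obtain ⟨rfl, rfl, rfl⟩ := R.mem_H_of_normalizes l₁ hl₁ t u v l hnorm
  rw [R.x_zero, one_mul] at h
  have hκ : ∀ l' : Fˣ, κ' l' = κ l' := by
    intro l'
    have h1 := h (R.hh l')
    rw [R.fa_hh l₁ hl₁, R.fa_hh l₁ hl₁, ← map_mul, ← map_inv, ← map_mul, mul_comm,
      inv_mul_cancel_left] at h1
    have := congrArg (fun z : Fˣ => (z : F)) (R.hh_inj h1)
    simpa using this
  ext a
  by_cases ha : a = 0
  · rw [ha, map_zero, map_zero]
  · exact hκ (Units.mk0 a ha)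

/-- **The outer automorphism group** of a group with Ree data is in bijection with the
automorphisms of the field. -/
theorem card_out [Finite F] [Finite G] (hSyl : Nat.card R.U = 3 ^ (Nat.card G).factorization 3)
    (l₀ : Fˣ) (hgen : ∀ l : Fˣ, l ∈ Subgroup.zpowers l₀) (hl₀ : l₀ ^ 2 ≠ 1) :
    Nat.card (Cfsg.Out G) = Nat.card (F ≃+* F) := by
  let Φ : (F ≃+* F) → Cfsg.Out G := fun κ => QuotientGroup.mk (R.fa κ : MulAut G)
  have hinj : Function.Injective Φ := by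
    intro κ κ' hκ
    have h1 : (R.fa κ : MulAut G)⁻¹ * R.fa κ' ∈ Cfsg.Inn G := QuotientGroup.eq.mp hκ
    obtain ⟨g₀, hg₀⟩ := h1
    have h3 : ∀ x, R.fa κ' x = R.fa κ g₀ * R.fa κ x * (R.fa κ g₀)⁻¹ := by
      intro x
      have h4 := congrArg (fun φ : MulAut G => φ x) hg₀
      simp only [MulAut.conj_apply, MulAut.mul_apply, MulAut.inv_apply] at h4
      have h5 := congrArg (R.fa κ) h4
      rw [MulEquiv.apply_symm_apply] at h5
      rw [← h5, map_mul, map_mul, map_inv]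
    exact (R.fieldAut_inj l₀ hl₀ κ κ' _ h3).symm
  have hsurj : Function.Surjective Φ := by
    intro o
    obtain ⟨α, rfl⟩ := QuotientGroup.mk_surjective o
    obtain ⟨κ, c, hc⟩ := R.aut_decomp hSyl l₀ hgen hl₀ α
    refine ⟨κ, ?_⟩
    have hα : α = MulAut.conj c * (R.fa κ : MulAut G) := by
      ext x
      rw [hc x]
      simp [MulAut.conj_apply, MulAut.mul_apply]
    show QuotientGroup.mk (R.fa κ : MulAut G) = QuotientGroup.mk α
    rw [hα, QuotientGroup.mk_mul]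
    have : (QuotientGroup.mk (MulAut.conj c) : Cfsg.Out G) = 1 :=
      (QuotientGroup.eq_one_iff _).mpr ⟨c, rfl⟩
    rw [this, one_mul]
  exact (Nat.card_congr (Equiv.ofBijective Φ ⟨hinj, hsurj⟩)).symm

end ReeAbs

/-- a field with `p ^ k` elements has `k` automorphisms -/
theorem card_ringEquiv_prime_pow {K : Type*} [Field K] [Finite K] (p : ℕ) [Fact p.Prime] [CharP K p]
    {k : ℕ} (hK : Nat.card K = p ^ k) : Nat.card (K ≃+* K) = k := by
  let _ : Algebra (ZMod p) K := ZMod.algebra K p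
  let _ : Fintype K := Fintype.ofFinite K
  have hfin : Module.finrank (ZMod p) K = k := by
    have h3 := Module.card_eq_pow_finrank (K := ZMod p) (V := K)
    rw [← Nat.card_eq_fintype_card, hK, ZMod.card] at h3
    exact (Nat.pow_right_injective (Fact.out : p.Prime).two_le h3).symm
  have e1 : (K ≃+* K) ≃ (K ≃ₐ[ZMod p] K) :=
    { toFun := fun ψ => AlgEquiv.ofRingEquiv (f := ψ) (fun r => by
        have : (ψ : K →+* K).comp (algebraMap (ZMod p) K) = algebraMap (ZMod p) K :=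
          Subsingleton.elim _ _
        exact RingHom.congr_fun this r)
      invFun := fun ψ => ψ.toRingEquiv
      left_inv := fun ψ => by ext; rfl
      right_inv := fun ψ => by ext; rfl }
  rw [Nat.card_congr e1, ← Nat.card_congr (Equiv.ofBijective _
    (FiniteField.bijective_frobeniusAlgEquivOfAlgebraic_pow (ZMod p) K)), Nat.card_fin, hfin]

end Cfsg.Agent.Lib.Helper9.ReeOut
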