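import Mathlib
import Cfsg.Agent.Lib.Helper7.ChevFieldAut
import Cfsg.Agent.Lib.Helper7.G2Tw22

/-!
Field automorphisms of the Ree groups `²G₂(q)` as the fixed points `fixTau` in `G₂(q)`, on top of
helper7's libraries (helper9).
-/

set_option autoImplicit false

namespace Cfsg.Agent.Lib.Helper9.ReeOut

open Cfsg Cfsg.Lie Cfsg.Agent.Lib.Helper7

variable {F : Type*} [Field F]

theorem glMap_xGL (κ : F ≃+* F) (r : ℕ) (t : F) :
    glMapEquiv chevG2.Idx κ (xGL chevG2 mem_G2 F r t) = xGL chevG2 mem_G2 F r (κ t) := by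
  apply Units.ext
  rw [glMapEquiv_val, coe_xGL, coe_xGL]
  exact x_map chevG2 (κ : F →+* F) r t

theorem glMap_wordGL (κ : F ≃+* F) (w : List (ℕ × F)) :
    glMapEquiv chevG2.Idx κ (wordGL chevG2 mem_G2 F w) =
      wordGL chevG2 mem_G2 F (w.map fun p => (p.1, κ p.2)) := by
  unfold wordGL
  rw [map_list_prod, List.map_map, List.map_map]
  congr 1
  apply List.map_congr_left
  intro p _
  exact glMap_xGL κ p.1 p.2

theorem glMap_reeU (κ : F ≃+* F) (θ : ℕ) (t u v : F) :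
    glMapEquiv chevG2.Idx κ (reeU θ t u v) = reeU θ (κ t) (κ u) (κ v) := by
  unfold reeU
  rw [glMap_wordGL]
  congr 1
  simp [reeWordU, map_pow, map_add]

theorem glMap_reeV (κ : F ≃+* F) (θ : ℕ) (t u v : F) :
    glMapEquiv chevG2.Idx κ (reeV θ t u v) = reeV θ (κ t) (κ u) (κ v) := by
  unfold reeV
  rw [glMap_wordGL]
  congr 1
  simp [reeWordV, reeWordU, ChevalleyDatum.negWord, map_pow, map_add, map_neg]

theorem glMap_n0G2 (κ : F ≃+* F) : glMapEquiv chevG2.Idx κ (n0G2 F) = n0G2 F := by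
  rw [n0G2_eq]
  simp only [map_mul, glMap_xGL, map_one, map_neg]

/-- the generators of the Ree group -/
def reeGens (F : Type*) [Field F] (θ : ℕ) : Set (GL chevG2.Idx F) :=
  {g | ∃ t u v : F, g = reeU θ t u v ∨ g = reeV θ t u v}

theorem twistedG2_eq_closure (θ : ℕ) : twistedG2 F θ = Subgroup.closure (reeGens F θ) := by
  unfold twistedG2 ChevalleyDatum.genSubgroup
  congr 1
  ext g
  constructor
  · rintro ⟨w, ⟨t, u, v, hw | hw⟩, hg⟩
    · refine ⟨t, u, v, Or.inl (Units.ext ?_)⟩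
      rw [hg, hw]
      exact (coe_wordGL chevG2 mem_G2 F _).symm
    · refine ⟨t, u, v, Or.inr (Units.ext ?_)⟩
      rw [hg, hw]
      exact (coe_wordGL chevG2 mem_G2 F _).symm
  · rintro ⟨t, u, v, rfl | rfl⟩
    · exact ⟨reeWordU θ t u v, ⟨t, u, v, Or.inl rfl⟩, coe_wordGL chevG2 mem_G2 F _⟩
    · exact ⟨reeWordV θ t u v, ⟨t, u, v, Or.inr rfl⟩, coe_wordGL chevG2 mem_G2 F _⟩

theorem reeGens_image (κ : F ≃+* F) (θ : ℕ) :
    (glMapEquiv chevG2.Idx κ).toMonoidHom '' reeGens F θ = reeGens F θ := by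
  ext g
  constructor
  · rintro ⟨g', ⟨t, u, v, rfl | rfl⟩, rfl⟩
    · exact ⟨κ t, κ u, κ v, Or.inl (glMap_reeU κ θ t u v)⟩
    · exact ⟨κ t, κ u, κ v, Or.inr (glMap_reeV κ θ t u v)⟩
  · rintro ⟨t, u, v, rfl | rfl⟩
    · refine ⟨reeU θ (κ.symm t) (κ.symm u) (κ.symm v), ⟨_, _, _, Or.inl rfl⟩, ?_⟩
      show glMapEquiv chevG2.Idx κ _ = _
      rw [glMap_reeU, κ.apply_symm_apply, κ.apply_symm_apply, κ.apply_symm_apply]
    · refine ⟨reeV θ (κ.symm t) (κ.symm u) (κ.symm v), ⟨_, _, _, Or.inr rfl⟩, ?_⟩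
      show glMapEquiv chevG2.Idx κ _ = _
      rw [glMap_reeV, κ.apply_symm_apply, κ.apply_symm_apply, κ.apply_symm_apply]

theorem twistedG2_map (κ : F ≃+* F) (θ : ℕ) :
    (twistedG2 F θ).map (glMapEquiv chevG2.Idx κ).toMonoidHom = twistedG2 F θ := by
  rw [twistedG2_eq_closure, MonoidHom.map_closure, reeGens_image]

/-- the field automorphism of a subgroup of `GL` stable under the entrywise map -/
noncomputable def fieldAutSub (S : Subgroup (GL chevG2.Idx F)) (κ : F ≃+* F)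
    (h : S.map (glMapEquiv chevG2.Idx κ).toMonoidHom = S) : ↥S ≃* ↥S :=
  ((glMapEquiv chevG2.Idx κ).subgroupMap S).trans (MulEquiv.subgroupCongr h)

theorem fieldAutSub_val (S : Subgroup (GL chevG2.Idx F)) (κ : F ≃+* F)
    (h : S.map (glMapEquiv chevG2.Idx κ).toMonoidHom = S) (g : ↥S) :
    ((fieldAutSub S κ h g : ↥S) : GL chevG2.Idx F) = glMapEquiv chevG2.Idx κ g.1 := rfl

end Cfsg.Agent.Lib.Helper9.ReeOut
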