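import Mathlib
import Cfsg.Agent.Lib.Helper9.ReeOutE
import Cfsg.Agent.Lib.Helper9.ReeOutF
import Cfsg.Agent.Lib.Helper7.G2Tw19

/-!
The Ree groups `²G₂(q)` (as `fixTau` in `G₂(q)`) carry abstract Ree data; hence their outer
automorphism group is in bijection with the automorphisms of the field (helper9, on top of helper7's
libraries).
-/

set_option autoImplicit false

namespace Cfsg.Agent.Lib.Helper9.ReeOut

open Cfsg Cfsg.Lie Cfsg.Agent.Lib.Helper7

section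
variable {F : Type*} [Field F]
variable {τ : ↥(chevG2.group F) ≃* ↥(chevG2.group F)} {θ : ℕ} (hτ : TauData F τ θ)

/-- the field endomorphism `t ↦ t ^ (3θ)` -/
noncomputable def sgHom (hτ : TauData F τ θ) : F →+* F where
  toFun t := (t ^ θ) ^ 3
  map_one' := by simp
  map_mul' a b := by rw [mul_pow, mul_pow]
  map_zero' := by rw [zero_pow (theta_pos hτ).ne', zero_pow three_ne_zero]
  map_add' a b := by
    rw [hτ.add_pow]
    have := hτ.three
    linear_combination ((a ^ θ) ^ 2 * b ^ θ + a ^ θ * (b ^ θ) ^ 2) * this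

theorem sgHom_apply (t : F) : sgHom hτ t = (t ^ θ) ^ 3 := rfl

theorem sgHom_sgHom (t : F) : sgHom hτ (sgHom hτ t) = t ^ 3 := by
  rw [sgHom_apply, sgHom_apply, ← pow_mul, ← pow_mul, ← pow_mul, ← pow_nine hτ]
  congr 1
  ring

/-- the elements of `U¹` -/
noncomputable def xFix (hτ : TauData F τ θ) (t u v : F) : ↥(fixTau F τ) :=
  ⟨reeU θ t u v, reeU_mem_fixTau hτ t u v⟩

theorem xFix_val (t u v : F) : ((xFix hτ t u v : ↥(fixTau F τ)) : GL chevG2.Idx F) = reeU θ t u v := rfl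

theorem xFix_inj (t u v t' u' v' : F) (h : xFix hτ t u v = xFix hτ t' u' v') :
    t = t' ∧ u = u' ∧ v = v' :=
  reeU_inj θ _ _ _ _ _ _ (congrArg Subtype.val h)

theorem xFix_mul (t u v t' u' v' : F) : xFix hτ t u v * xFix hτ t' u' v' =
    xFix hτ (t + t') (u + u' - sgHom hτ t' * t)
      (v + v' - t' * u + sgHom hτ t' * t * t' - sgHom hτ t' * t ^ 2) := by
  apply Subtype.ext
  show reeU θ t u v * reeU θ t' u' v' = _
  rw [reeU_mul hτ]
  rfl

variable (hsq : ∀ x : F, x ≠ 0 → ∃ w : F, x = w ^ 2 ∨ x = -(w ^ 2))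

/-- the auxiliary map `l ↦ (l⁻¹) ^ (3θ+2)` -/
def powInv (θ : ℕ) : Fˣ →* Fˣ := (powMonoidHom (3 * θ + 2) : Fˣ →* Fˣ).comp invMonoidHom

theorem powInv_apply (l : Fˣ) : powInv θ l = (l⁻¹) ^ (3 * θ + 2) := rfl

include hτ in
theorem powInv_injective : Function.Injective (powInv (F := F) θ) := by
  intro a b h
  rw [powInv_apply, powInv_apply] at h
  have h1 : ((a / b : Fˣ) : F) ^ (3 * θ + 2) = 1 := by
    have h2 : (a / b) ^ (3 * θ + 2) = (1 : Fˣ) := by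
      rw [div_pow, div_eq_one]
      have := congrArg (fun z : Fˣ => z⁻¹) h
      simpa using this
    have := congrArg (fun z : Fˣ => (z : F)) h2
    simpa using this
  have h3 := root_unity_trivial hτ _ h1
  have h4 : a / b = 1 := Units.ext h3
  exact div_eq_one.mp h4

/-- the torus, parametrised by the character at the long simple root -/
noncomputable def hhFix (hτ : TauData F τ θ)
    (hsq : ∀ x : F, x ≠ 0 → ∃ w : F, x = w ^ 2 ∨ x = -(w ^ 2)) : Fˣ →* ↥(fixTau F τ) :=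
  (Subgroup.inclusion (inf_le_right : chevG2.diagonalSubgroup F ⊓ fixTau F τ ≤ fixTau F τ)).comp
    ((fixH_equiv hτ hsq).symm.toMonoidHom.comp (powInv θ))

theorem hhFix_val (l : Fˣ) : ((hhFix hτ hsq l : ↥(fixTau F τ)) : GL chevG2.Idx F) =
    (((fixH_equiv hτ hsq).symm (powInv θ l) : ↥(chevG2.diagonalSubgroup F ⊓ fixTau F τ)) :
      GL chevG2.Idx F) := rfl

theorem hhFix_mem (l : Fˣ) :
    ((hhFix hτ hsq l : ↥(fixTau F τ)) : GL chevG2.Idx F) ∈ chevG2.diagonalSubgroup F ⊓ fixTau F τ := by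
  rw [hhFix_val]
  exact ((fixH_equiv hτ hsq).symm (powInv θ l)).2

theorem hhFix_injective : Function.Injective (hhFix hτ hsq) := by
  intro a b h
  have h1 := congrArg Subtype.val h
  rw [hhFix_val, hhFix_val] at h1
  have h2 := Subtype.ext h1
  exact powInv_injective hτ ((fixH_equiv hτ hsq).symm.injective h2)

/-- the character of `hhFix l` at the long simple root is `l` -/
theorem hhFix_char (l : Fˣ) (χ : ℕ → F) (hχ : ChainChar chevG2 F χ)
    (e : (((hhFix hτ hsq l : ↥(fixTau F τ)) : GL chevG2.Idx F) : Matrix chevG2.Idx chevG2.Idx F) =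
      diagChar chevG2 F χ) : χ 6 = l := by
  have hmem := hhFix_mem hτ hsq l
  obtain ⟨-, h11, n11⟩ := torus_chars hτ _ hmem χ hχ e
  have h0 : chi0 ((hhFix hτ hsq l : ↥(fixTau F τ)) : GL chevG2.Idx F) = χ 0 := chi0_diag _ _ e
  have h1 : chi0 ((hhFix hτ hsq l : ↥(fixTau F τ)) : GL chevG2.Idx F) =
      ((powInv θ l : Fˣ) : F) := by
    rw [hhFix_val]
    have := (fixH_equiv hτ hsq).apply_symm_apply (powInv θ l)
    have h2 := congrArg (fun z : Fˣ => (z : F)) this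
    exact h2
  rw [h0, n11, h11, powInv_apply] at h1
  have hl0 : (l : F) ≠ 0 := l.ne_zero
  have h60 : χ 6 ≠ 0 := hχ.ne0 6 (by decide)
  have h2 : (χ 6 / l) ^ (3 * θ + 2) = 1 := by
    rw [div_pow]
    have h3 : ((l⁻¹ ^ (3 * θ + 2) : Fˣ) : F) = ((l : F) ^ (3 * θ + 2))⁻¹ := by
      push_cast
      rw [inv_pow]
    rw [h3] at h1
    have h4 := inv_injective h1
    rw [h4]
    exact div_self (pow_ne_zero _ hl0)
  have h5 := root_unity_trivial hτ _ h2
  field_simp at h5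
  exact h5

theorem hhFix_conj (l : Fˣ) (t u v : F) :
    hhFix hτ hsq l * xFix hτ t u v * (hhFix hτ hsq l)⁻¹ =
      xFix hτ (l * t) (l * sgHom hτ l * u) ((l : F) ^ 2 * sgHom hτ l * v) := by
  have hmem := hhFix_mem hτ hsq l
  obtain ⟨χ, hχ, e⟩ := mem_diagonalSubgroup_char chevG2 mem_G2 F _ (Subgroup.mem_inf.mp hmem).1
  have h6 := hhFix_char hτ hsq l χ hχ e
  obtain ⟨h10, h11, -⟩ := torus_chars hτ _ hmem χ hχ e
  apply Subtype.ext
  show ((hhFix hτ hsq l : ↥(fixTau F τ)) : GL chevG2.Idx F) * reeU θ t u v *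
    ((hhFix hτ hsq l : ↥(fixTau F τ)) : GL chevG2.Idx F)⁻¹ = reeU θ _ _ _
  rw [reeU_conj hτ _ hmem χ hχ e, h10, h11, h6, sgHom_apply]
  congr 1
  · rw [← pow_mul, pow_succ, mul_comm θ 3]
    ring
  · rw [← pow_mul, pow_succ, pow_succ, mul_comm θ 3]
    ring

variable [Finite F]

/-- every element of the fixed torus is some `hhFix l` -/
theorem hhFix_surj (h : GL chevG2.Idx F) (hh : h ∈ chevG2.diagonalSubgroup F ⊓ fixTau F τ) :
    ∃ l : Fˣ, ((hhFix hτ hsq l : ↥(fixTau F τ)) : GL chevG2.Idx F) = h := by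
  have hsurj : Function.Surjective (powInv (F := F) θ) :=
    Finite.injective_iff_surjective.mp (powInv_injective hτ)
  obtain ⟨l, hl⟩ := hsurj (fixH_equiv hτ hsq ⟨h, hh⟩)
  refine ⟨l, ?_⟩
  rw [hhFix_val, hl, MulEquiv.symm_apply_apply]

theorem mem_fixB_iff (g : ↥(fixTau F τ)) :
    g ∈ fixB F τ ↔ ∃ l t u v, g = hhFix hτ hsq l * xFix hτ t u v := by
  constructor
  · intro hg
    have hgB := (mem_fixB g).mp hg
    obtain ⟨h, hh, u, hu, e⟩ := fix_borel hτ g.1 (Subgroup.mem_inf.mpr ⟨hgB, g.2⟩)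
    obtain ⟨l, hl⟩ := hhFix_surj hτ hsq h hh
    obtain ⟨t, u', v, rfl⟩ := (posUnipotent_inf_fixTau hτ u).mp hu
    refine ⟨l, t, u', v, Subtype.ext ?_⟩
    rw [e, ← hl]
    rfl
  · rintro ⟨l, t, u, v, rfl⟩
    rw [mem_fixB]
    show ((hhFix hτ hsq l : ↥(fixTau F τ)) : GL chevG2.Idx F) * reeU θ t u v ∈ _
    exact Subgroup.mul_mem _
      (diagonal_le_borel chevG2 mem_G2 F (Subgroup.mem_inf.mp (hhFix_mem hτ hsq l)).1)
      (posUnipotent_le_borel chevG2 mem_G2 F (reeU_mem_posUnipotent θ t u v))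

theorem n0Fix_conj_hh (l : Fˣ) :
    ∃ l', (n0Fix hτ)⁻¹ * hhFix hτ hsq l * n0Fix hτ = hhFix hτ hsq l' := by
  have hmem := hhFix_mem hτ hsq l
  have h1 : (n0G2 F)⁻¹ * ((hhFix hτ hsq l : ↥(fixTau F τ)) : GL chevG2.Idx F) * (n0G2 F)⁻¹⁻¹ ∈
      chevG2.diagonalSubgroup F :=
    conj_diagonal_mem _ _ (Subgroup.inv_mem _ (n0G2_mem_monomial F)) (Subgroup.mem_inf.mp hmem).1
  rw [inv_inv] at h1
  have h2 : (n0G2 F)⁻¹ * ((hhFix hτ hsq l : ↥(fixTau F τ)) : GL chevG2.Idx F) * n0G2 F ∈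
      fixTau F τ :=
    Subgroup.mul_mem _ (Subgroup.mul_mem _ (Subgroup.inv_mem _ (n0G2_mem_fixTau hτ))
      (Subgroup.mem_inf.mp hmem).2) (n0G2_mem_fixTau hτ)
  obtain ⟨l', hl'⟩ := hhFix_surj hτ hsq _ (Subgroup.mem_inf.mpr ⟨h1, h2⟩)
  exact ⟨l', Subtype.ext hl'.symm⟩

theorem fixB_inf_conj (b : ↥(fixTau F τ)) (hb : b ∈ fixB F τ)
    (hb' : (n0Fix hτ)⁻¹ * b * n0Fix hτ ∈ fixB F τ) : ∃ l, b = hhFix hτ hsq l := by
  have h1 := (mem_fixB b).mp hb
  have h2 := (mem_fixB _).mp hb'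
  have h3 := borel_inf_conj_n0 hτ b.1 h1 h2
  obtain ⟨l, hl⟩ := hhFix_surj hτ hsq b.1 (Subgroup.mem_inf.mpr ⟨h3, b.2⟩)
  exact ⟨l, Subtype.ext hl.symm⟩

omit [Finite F] in
theorem n0Fix_not_mem : n0Fix hτ ∉ fixB F τ := by
  intro h
  exact n0G2_not_mem_borel hτ ((mem_fixB _).mp h)

include hτ hsq in
theorem fixTau_map (κ : F ≃+* F) :
    (fixTau F τ).map (glMapEquiv chevG2.Idx κ).toMonoidHom = fixTau F τ := by
  rw [← twistedG2_eq_fixTau hτ hsq]
  exact twistedG2_map κ θ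

/-- the abstract Ree data of the fixed points -/
noncomputable def reeAbs (hτ : TauData F τ θ)
    (hsq : ∀ x : F, x ≠ 0 → ∃ w : F, x = w ^ 2 ∨ x = -(w ^ 2))
    (hc : ∃ x : F, x ≠ 0 ∧ x ≠ 1 ∧ x ≠ -1) : ReeAbs F ↥(fixTau F τ) where
  sg := sgHom hτ
  x := xFix hτ
  hh := hhFix hτ hsq
  n0 := n0Fix hτ
  B := fixB F τ
  fa := fun κ => fieldAutSub (fixTau F τ) κ (fixTau_map hτ hsq κ)
  sg_sg := sgHom_sgHom hτ
  three := hτ.three
  sg_ne := by
    obtain ⟨c, -, hc'⟩ := exists_not_fixed hτ hc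
    exact ⟨c, hc'⟩
  x_inj := xFix_inj hτ
  x_mul := xFix_mul hτ
  hh_inj := hhFix_injective hτ hsq
  h_conj := hhFix_conj hτ hsq
  mem_B := mem_fixB_iff hτ hsq
  cells := fix_cells hτ
  n0_H := n0Fix_conj_hh hτ hsq
  inf_conj := fixB_inf_conj hτ hsq
  n0_not_mem := n0Fix_not_mem hτ
  core := fixB_core hτ
  fa_x := by
    intro κ t u v
    apply Subtype.ext
    rw [fieldAutSub_val]
    exact glMap_reeU κ θ t u v
  fa_n0 := by
    intro κ
    apply Subtype.ext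
    rw [fieldAutSub_val]
    exact glMap_n0G2 κ

end

end Cfsg.Agent.Lib.Helper9.ReeOut
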