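import Mathlib
import Cfsg.Agent.Lib.Helper9.ReeOutG
import Cfsg.Agent.Lib.Helper7.G2Tw15

/-!
The outer automorphism group of the Ree group `²G₂(3^(2m+1))`, `m ≥ 1`, has order `2m+1`
(helper9, on top of helper7's libraries).
-/

set_option autoImplicit false

namespace Cfsg.Agent.Lib.Helper9.ReeOut

open Cfsg Cfsg.Lie Cfsg.Agent.Lib.Helper7

theorem ReeAbs.card_U {F : Type*} [Field F] {G : Type*} [Group G] (R : ReeAbs F G) :
    Nat.card R.U = Nat.card F ^ 3 := by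
  have e : (F × F × F) ≃ ↥R.U :=
    Equiv.ofBijective (fun p => ⟨R.x p.1 p.2.1 p.2.2, R.x_mem_U _ _ _⟩) ⟨by
      rintro ⟨t, u, v⟩ ⟨t', u', v'⟩ h
      obtain ⟨h1, h2, h3⟩ := R.x_inj _ _ _ _ _ _ (congrArg Subtype.val h)
      simp only at h1 h2 h3
      rw [h1, h2, h3], by
      rintro ⟨g, t, u, v, rfl⟩
      exact ⟨(t, u, v), rfl⟩⟩
  rw [← Nat.card_congr e, Nat.card_prod, Nat.card_prod]
  ring

section
variable {K : Type*} [Field K] [Fintype K] {m : ℕ} (hK : Fintype.card K = 3 ^ (2 * m + 1))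
include hK

theorem card_fixTau_ree {τ : ↥(chevG2.group K) ≃* ↥(chevG2.group K)} (hτ : TauData K τ (3 ^ m)) :
    (Nat.card K) ^ 3 = 3 ^ (Nat.card ↥(fixTau K τ)).factorization 3 := by
  have hsq := sq_dichotomy_of_card hK
  obtain ⟨q, hq⟩ : ∃ q, q = 3 ^ (2 * m + 1) := ⟨_, rfl⟩
  have hq3 : q % 3 = 0 := by
    rw [hq, pow_succ]
    exact Nat.mul_mod_left _ _
  have hqpos : 0 < q := by rw [hq]; positivity
  have hcardG : Nat.card ↥(fixTau K τ) = 3 ^ (3 * (2 * m + 1)) * ((q - 1) * (q ^ 3 + 1)) := by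
    rw [card_fixTau hτ, card_fixBorel hτ, card_fixH hτ hsq, card_posUnipotent_inf_fixTau hτ,
      Nat.card_eq_fintype_card, hK, ← hq]
    have : 3 ^ (3 * (2 * m + 1)) = q ^ 3 := by rw [hq, ← pow_mul, mul_comm]
    rw [this]
    ring
  have hr : ¬ 3 ∣ (q - 1) * (q ^ 3 + 1) := by
    rw [Nat.dvd_iff_mod_eq_zero, Nat.mul_mod]
    have h1 : (q - 1) % 3 = 2 := by omega
    have h2 : (q ^ 3 + 1) % 3 = 1 := by
      rw [Nat.add_mod, Nat.pow_mod, hq3]
    rw [h1, h2]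
    norm_num
  rw [hcardG, factorization_three _ _ hr, Nat.card_eq_fintype_card, hK, ← pow_mul, mul_comm]

/-- **Outer automorphisms of the small Ree groups.** -/
theorem ree_card_out (hm : 1 ≤ m) : Nat.card (Cfsg.Out ↥(twistedG2 K (3 ^ m))) = 2 * m + 1 := by
  obtain ⟨τ, hτ⟩ := exists_tauData hK
  have hsq := sq_dichotomy_of_card hK
  have hc := exists_ne_of_card hK hm
  rw [twistedG2_eq_fixTau hτ hsq]
  have hSyl : Nat.card (reeAbs hτ hsq hc).U = 3 ^ (Nat.card ↥(fixTau K τ)).factorization 3 := by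
    rw [ReeAbs.card_U]
    exact card_fixTau_ree hK hτ
  obtain ⟨l₀, hgen⟩ := IsCyclic.exists_generator (α := Kˣ)
  have hl₀ : l₀ ^ 2 ≠ 1 := by
    intro h
    have h1 : orderOf l₀ ∣ 2 := orderOf_dvd_of_pow_eq_one h
    have h2 : orderOf l₀ = Nat.card Kˣ := orderOf_eq_card_of_forall_mem_zpowers hgen
    rw [h2, Nat.card_units, Nat.card_eq_fintype_card, hK] at h1
    have h3 := Nat.le_of_dvd (by norm_num) h1
    have h4 : 3 ^ 3 ≤ 3 ^ (2 * m + 1) := Nat.pow_le_pow_right (by norm_num) (by omega)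
    omega
  rw [(reeAbs hτ hsq hc).card_out hSyl l₀ hgen hl₀]
  haveI : CharP K 3 := charP3_of_card hK
  haveI : Fact (Nat.Prime 3) := ⟨Nat.prime_three⟩
  exact card_ringEquiv_prime_pow 3 (by rw [Nat.card_eq_fintype_card, hK])

end

end Cfsg.Agent.Lib.Helper9.ReeOut
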