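import Mathlib
import Cfsg.Agent.Lib.Helper25.SpTNDefs
import Cfsg.Agent.Lib.Helper9.SpTNU

/-!
S5704 leaves, part (N2) (owner helper25): the isometry relations in blocks `iso_blocks` (N2a) and
`stab_perp` (N2b) (exact signatures of `notes/S5704_N2_leaves.lean`).
-/

set_option autoImplicit false
set_option linter.unusedSectionVars false
set_option linter.unusedVariables false

namespace Cfsg.Agent.Lib.Helper9.SpTNLeaf
open Matrix QuadraticMap
open Cfsg.Agent.Lib.Helper25.Tens Cfsg.Agent.Lib.Helper25.TensLeaves Cfsg.Agent.Lib.Helper19.OSub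
open Cfsg.Agent.Lib.Helper25.SpT
open scoped Kronecker

variable {F : Type*} [Field F] [Fintype F] {a b : ℕ} {Q : QuadraticForm F (Idx a b → F)}
  {M : Subgroup (GL (Idx a b) F)}

/-- the image of `x ⊗ e_k` in blocks -/
lemma mulVec_pt_single_eq_sum (X : Matrix (Idx a b) (Idx a b) F) (x : Fin a → F) (k : Fin b) :
    X *ᵥ pt x (Pi.single k (1 : F)) = ∑ p : Fin b, pt (blk X p k *ᵥ x) (Pi.single p (1 : F)) := by
  ext ⟨i, l⟩
  rw [Cfsg.Agent.Lib.Helper25.TensLeaf.mulVec_pt_single_right, Finset.sum_apply,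
    Finset.sum_eq_single l]
  · simp [pt]
  · intro p _ hp
    simp [pt, Pi.single_apply, Ne.symm hp]
  · intro hl
    exact absurd (Finset.mem_univ _) hl

lemma polar_sum_left {κ : Type*} (s : Finset κ) (u : κ → (Idx a b → F)) (w : Idx a b → F) :
    polar Q (∑ p ∈ s, u p) w = ∑ p ∈ s, polar Q (u p) w := by
  classical
  induction s using Finset.induction_on with
  | empty => simp
  | insert p s hp ih => rw [Finset.sum_insert hp, Finset.sum_insert hp, polar_add_left, ih]

lemma polar_sum_right {κ : Type*} (s : Finset κ) (u : Idx a b → F) (w : κ → (Idx a b → F)) :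
    polar Q u (∑ p ∈ s, w p) = ∑ p ∈ s, polar Q u (w p) := by
  classical
  induction s using Finset.induction_on with
  | empty => simp
  | insert p s hp ih => rw [Finset.sum_insert hp, Finset.sum_insert hp, polar_add_right, ih]

/-- (N2a) the isometry relations in blocks -/
theorem iso_blocks (h : Ctx a b Q) (g : GL (Idx a b) F) (hg : g ∈ Cfsg.isometryGroup F ⇑Q)
    (k l : Fin b) (x x' : Fin a → F) :
    ∑ p : Fin b, ∑ q : Fin b,
      sf (blk (g : Matrix (Idx a b) (Idx a b) F) p k *ᵥ x)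
        (blk (g : Matrix (Idx a b) (Idx a b) F) q l *ᵥ x') * Jm b p q = sf x x' * Jm b k l := by
  have h1 := iso_polar hg (pt x (Pi.single k (1 : F))) (pt x' (Pi.single l (1 : F)))
  rw [h.pol, sf_single_single] at h1
  rw [← h1]
  change _ = polar Q ((g : Matrix (Idx a b) (Idx a b) F) *ᵥ pt x (Pi.single k (1 : F)))
    ((g : Matrix (Idx a b) (Idx a b) F) *ᵥ pt x' (Pi.single l (1 : F)))
  rw [mulVec_pt_single_eq_sum, mulVec_pt_single_eq_sum, polar_sum_left]
  apply Finset.sum_congr rfl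
  intro p _
  rw [polar_sum_right]
  apply Finset.sum_congr rfl
  intro q _
  rw [h.pol, sf_single_single]

/-- (N2b) an isometry stabilising `W = A ⊗ e_o` stabilises `W^⊥` -/
theorem stab_perp (h : Ctx a b Q) (o o' : Fin b) (ho : o.val = 0) (ho' : o'.val = 1)
    (g : GL (Idx a b) F) (hg : g ∈ Cfsg.isometryGroup F ⇑Q) (h₁ : GL (Fin a) F)
    (hgo : ∀ x : Fin a → F, mv g (pt x (Pi.single o 1)) =
      pt ((h₁ : Matrix (Fin a) (Fin a) F) *ᵥ x) (Pi.single o 1)) :
    (∀ l : Fin b, l ≠ o' → blk (g : Matrix (Idx a b) (Idx a b) F) o' l = 0) ∧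
    (∀ x x' : Fin a → F, sf ((h₁ : Matrix (Fin a) (Fin a) F) *ᵥ x)
      (blk (g : Matrix (Idx a b) (Idx a b) F) o' o' *ᵥ x') = sf x x') := by
  have hb := Cfsg.Agent.Lib.Helper25.TensLeaf.blk_of_stab (g : Matrix (Idx a b) (Idx a b) F)
    (h₁ : Matrix (Fin a) (Fin a) F) o hgo
  have hJoo' : (Jm b : Matrix (Fin b) (Fin b) F) o o' = 1 := by
    rw [Jm_apply, if_pos ⟨by omega, by omega⟩]
  have hJo : ∀ q : Fin b, q ≠ o' → (Jm b : Matrix (Fin b) (Fin b) F) o q = 0 := by
    intro q hq
    have hqv : q.val ≠ 1 := fun e => hq (Fin.ext (by omega))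
    rw [Jm_apply, if_neg (by omega), if_neg (by omega)]
  -- the relation
  have key : ∀ (l : Fin b) (x x' : Fin a → F),
      sf ((h₁ : Matrix (Fin a) (Fin a) F) *ᵥ x)
        (blk (g : Matrix (Idx a b) (Idx a b) F) o' l *ᵥ x') = sf x x' * Jm b o l := by
    intro l x x'
    have h1 := iso_blocks h g hg o l x x'
    rw [sum_eq_one' _ o, sum_eq_one' _ o', hb o, if_pos rfl, hJoo', mul_one] at h1
    · exact h1
    · intro q hq
      rw [hJo q hq, mul_zero]
    · intro p hp
      apply Finset.sum_eq_zero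
      intro q _
      rw [hb p, if_neg hp, Matrix.zero_mulVec, sf_zero_left, zero_mul]
  refine ⟨?_, ?_⟩
  · intro l hl
    -- `blk g o' l *ᵥ x' = 0` for all `x'`
    have hz : ∀ x' : Fin a → F, blk (g : Matrix (Idx a b) (Idx a b) F) o' l *ᵥ x' = 0 := by
      intro x'
      by_contra hne
      obtain ⟨y, hy⟩ := exists_sf_ne_zero h.ea hne
      apply hy
      have h2 := key l (((h₁⁻¹ : GL (Fin a) F) : Matrix (Fin a) (Fin a) F) *ᵥ y) x'
      rw [hJo l hl, mul_zero, Matrix.mulVec_mulVec, ← Units.val_mul, mul_inv_cancel,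
        Units.val_one, Matrix.one_mulVec] at h2
      rw [sf_skew, h2, neg_zero]
    ext i i'
    have := congrFun (hz (Pi.single i' 1)) i
    simpa using this
  · intro x x'
    rw [key o' x x', hJoo', mul_one]

end Cfsg.Agent.Lib.Helper9.SpTNLeaf
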