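import Mathlib
import Cfsg.Agent.Lib.Helper14.SylA.Defs

set_option autoImplicit false
open scoped commutatorElement

namespace Cfsg.Agent.Lib.Helper9.SylALeaf

open Cfsg.Agent.Lib.Helper14.SylA RegularWreathProduct

lemma sigmaCongrRight_mulSingle_swap {ι : Type} [DecidableEq ι] {X : ι → Type}
    [∀ i, DecidableEq (X i)] (i : ι) (x y : X i) :
    Equiv.Perm.sigmaCongrRight (Pi.mulSingle (M := fun j => Equiv.Perm (X j)) i (Equiv.swap x y)) =
      Equiv.swap (⟨i, x⟩ : Σ j, X j) ⟨i, y⟩ := by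
  ext ⟨j, z⟩ : 1
  by_cases h : j = i
  · subst h
    show (⟨j, (Pi.mulSingle (M := fun j => Equiv.Perm (X j)) j (Equiv.swap x y)) j z⟩ : Σ j, X j) = _
    rw [Pi.mulSingle_eq_same]
    simp only [Equiv.swap_apply_def]
    by_cases h1 : z = x
    · subst h1; simp
    · by_cases h2 : z = y
      · subst h2; simp [h1]
      · simp [h1, h2, Sigma.ext_iff]
  · show (⟨j, (Pi.mulSingle (M := fun j => Equiv.Perm (X j)) i (Equiv.swap x y)) j z⟩ : Σ j, X j) = _
    rw [Pi.mulSingle_eq_of_ne h]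
    rw [Equiv.swap_apply_of_ne_of_ne]
    · rfl
    · intro hh; exact h (congrArg Sigma.fst hh)
    · intro hh; exact h (congrArg Sigma.fst hh)

lemma sign_sigmaCongrRight_mulSingle {ι : Type} [Fintype ι] [DecidableEq ι] {X : ι → Type}
    [∀ i, Fintype (X i)] [∀ i, DecidableEq (X i)] (i : ι) (τ : Equiv.Perm (X i)) :
    Equiv.Perm.sign (Equiv.Perm.sigmaCongrRight
      (Pi.mulSingle (M := fun j => Equiv.Perm (X j)) i τ)) = Equiv.Perm.sign τ := by
  set φ : Equiv.Perm (X i) →* ℤˣ :=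
    (Equiv.Perm.sign.comp (Equiv.Perm.sigmaCongrRightHom X)).comp
      (MonoidHom.mulSingle (fun j => Equiv.Perm (X j)) i) with hφ
  have hφa : ∀ τ, φ τ = Equiv.Perm.sign (Equiv.Perm.sigmaCongrRight
      (Pi.mulSingle (M := fun j => Equiv.Perm (X j)) i τ)) := fun τ => rfl
  rw [← hφa]
  induction τ using Equiv.Perm.swap_induction_on with
  | one => simp
  | swap_mul f x y hxy ih =>
    rw [map_mul, ih, Equiv.Perm.sign_mul, Equiv.Perm.sign_swap hxy, hφa,
      sigmaCongrRight_mulSingle_swap, Equiv.Perm.sign_swap]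
    intro hh
    apply hxy
    have := Sigma.mk.inj_iff.mp hh
    exact eq_of_heq this.2

/-- C1: sign of a permutation of a sigma type acting fibrewise. -/
theorem sign_sigmaCongrRight {ι : Type} [Fintype ι] [DecidableEq ι] {X : ι → Type}
    [∀ i, Fintype (X i)] [∀ i, DecidableEq (X i)] (σ : ∀ i, Equiv.Perm (X i)) :
    Equiv.Perm.sign (Equiv.Perm.sigmaCongrRight σ) = ∏ i, Equiv.Perm.sign (σ i) := by
  set ψ : (∀ i, Equiv.Perm (X i)) →* ℤˣ :=
    Equiv.Perm.sign.comp (Equiv.Perm.sigmaCongrRightHom X) with hψ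
  have h1 : Equiv.Perm.sign (Equiv.Perm.sigmaCongrRight σ) = ψ σ := rfl
  rw [h1]
  have h2 := Finset.map_noncommProd (Finset.univ : Finset ι)
    (fun i => Pi.mulSingle (M := fun j => Equiv.Perm (X j)) i (σ i))
    (fun i _ j _ _ => Pi.mulSingle_apply_commute σ i j) ψ
  rw [Finset.noncommProd_mulSingle σ, Finset.noncommProd_eq_prod] at h2
  rw [h2]
  apply Finset.prod_congr rfl
  intro i _
  exact sign_sigmaCongrRight_mulSingle i (σ i)

/-- C2: the embedding of the Pi group in the symmetric group of degree `∑ |X i| + ε`. -/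
theorem exists_embedding {ι : Type} [Fintype ι] [DecidableEq ι] (W X : ι → Type)
    [∀ i, Group (W i)] [∀ i, MulAction (W i) (X i)] [∀ i, Fintype (X i)] [∀ i, DecidableEq (X i)]
    (hf : ∀ i, FaithfulSMul (W i) (X i)) (n ε : ℕ) (hn : n = ∑ i, Fintype.card (X i) + ε) :
    ∃ Φ : (∀ i, W i) →* Equiv.Perm (Fin n), Function.Injective Φ ∧
      ∀ t, Equiv.Perm.sign (Φ t) = piSgn W (fun i => sgnOf (W i) (X i)) t := by
  classical
  -- the index equivalence
  have hcard : Fintype.card ((Σ i, X i) ⊕ Fin ε) = Fintype.card (Fin n) := by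
    rw [Fintype.card_sum, Fintype.card_sigma, Fintype.card_fin, Fintype.card_fin, hn]
  obtain ⟨e⟩ : Nonempty (((Σ i, X i) ⊕ Fin ε) ≃ Fin n) := Fintype.card_eq.mp hcard
  -- the homomorphisms
  let f1 : (∀ i, W i) →* (∀ i, Equiv.Perm (X i)) :=
    MonoidHom.pi (fun i => (MulAction.toPermHom (W i) (X i)).comp (Pi.evalMonoidHom W i))
  let f2 : (∀ i, Equiv.Perm (X i)) →* Equiv.Perm (Σ i, X i) := Equiv.Perm.sigmaCongrRightHom X
  let f3 : Equiv.Perm (Σ i, X i) →* Equiv.Perm ((Σ i, X i) ⊕ Fin ε) :=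
    (Equiv.Perm.sumCongrHom (Σ i, X i) (Fin ε)).comp (MonoidHom.inl _ _)
  let f4 : Equiv.Perm ((Σ i, X i) ⊕ Fin ε) →* Equiv.Perm (Fin n) := e.permCongrHom.toMonoidHom
  refine ⟨f4.comp (f3.comp (f2.comp f1)), ?_, ?_⟩
  · have h1 : Function.Injective f1 := by
      intro a b hab
      funext i
      have hi := congrFun hab i
      have := hf i
      exact MulAction.toPerm_injective hi
    have h2 : Function.Injective f2 := Equiv.Perm.sigmaCongrRightHom_injective
    have h3 : Function.Injective f3 := by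
      intro a b hab
      have := Equiv.Perm.sumCongrHom_injective hab
      exact (Prod.ext_iff.mp this).1
    have h4 : Function.Injective f4 := e.permCongrHom.injective
    exact h4.comp (h3.comp (h2.comp h1))
  · intro t
    show Equiv.Perm.sign (e.permCongr (Equiv.Perm.sumCongr
      (Equiv.Perm.sigmaCongrRight (fun i => MulAction.toPerm (t i))) 1)) = _
    rw [Equiv.Perm.sign_permCongr, Equiv.Perm.sign_sumCongr, sign_sigmaCongrRight,
      Equiv.Perm.sign_one, mul_one, piSgn_apply]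
    rfl

end Cfsg.Agent.Lib.Helper9.SylALeaf
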