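import Mathlib
import Cfsg.Agent.Lib.Helper14.SylA.Defs

set_option autoImplicit false
open scoped commutatorElement

namespace Cfsg.Agent.Lib.Helper9.SylALeaf

open Cfsg.Agent.Lib.Helper14.SylA RegularWreathProduct

/-- the even part of a subgroup of the symmetric group containing an odd permutation has index two -/
lemma two_mul_card_inf_alternating (n : ℕ) (T : Subgroup (Equiv.Perm (Fin n)))
    (hodd : ∃ t ∈ T, Equiv.Perm.sign t = -1) :
    2 * Nat.card ↥(T ⊓ alternatingGroup (Fin n)) = Nat.card T := by
  classical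
  let f : ↥T →* ℤˣ := Equiv.Perm.sign.comp T.subtype
  have hker : f.ker = (T ⊓ alternatingGroup (Fin n)).subgroupOf T := by
    ext t
    rw [MonoidHom.mem_ker, Subgroup.mem_subgroupOf, Subgroup.mem_inf]
    constructor
    · intro h
      exact ⟨t.2, Equiv.Perm.mem_alternatingGroup.mpr h⟩
    · intro h
      exact Equiv.Perm.mem_alternatingGroup.mp h.2
  have hrange : f.range = ⊤ := by
    rw [eq_top_iff]
    intro u _
    obtain ⟨t, htT, ht⟩ := hodd
    rcases Int.units_eq_one_or u with h | h
    · rw [h]; exact f.range.one_mem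
    · rw [h]
      exact ⟨⟨t, htT⟩, ht⟩
  have h1 : f.ker.index = 2 := by
    rw [Subgroup.index_ker, hrange, Subgroup.card_top]
    simp
  have h2 := Subgroup.card_mul_index f.ker
  rw [h1, hker] at h2
  have h3 : Nat.card ↥((T ⊓ alternatingGroup (Fin n)).subgroupOf T) =
      Nat.card ↥(T ⊓ alternatingGroup (Fin n)) :=
    Nat.card_congr (Subgroup.subgroupOfEquivOfLe inf_le_left).toEquiv
  rw [h3] at h2
  omega

/-- C4: a 2-subgroup `T` of the symmetric group of full order containing an odd permutation:
every Sylow 2-subgroup of the alternating group is isomorphic to the even part of `T`. -/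
theorem sylow_alt_equiv_of_card (n : ℕ) (T : Subgroup (Equiv.Perm (Fin n)))
    (hcard : Nat.card T = 2 ^ padicValNat 2 n.factorial)
    (hodd : ∃ t ∈ T, Equiv.Perm.sign t = -1)
    (P : Sylow 2 ↥(alternatingGroup (Fin n))) :
    Nonempty (↥(P : Subgroup ↥(alternatingGroup (Fin n))) ≃*
      ↥(T ⊓ alternatingGroup (Fin n))) := by
  classical
  haveI : Fact (Nat.Prime 2) := ⟨Nat.prime_two⟩
  -- `Fin n` is nontrivial
  have hnt : Nontrivial (Fin n) := by
    by_contra hcon
    rw [not_nontrivial_iff_subsingleton] at hcon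
    obtain ⟨t, -, ht⟩ := hodd
    have : t = 1 := Subsingleton.elim _ _
    rw [this, map_one] at ht
    exact absurd ht (by decide)
  -- orders
  have hA : 2 * Nat.card ↥(alternatingGroup (Fin n)) = n.factorial := by
    rw [two_mul_nat_card_alternatingGroup, Nat.card_perm, Nat.card_eq_fintype_card,
      Fintype.card_fin]
  have hT := two_mul_card_inf_alternating n T hodd
  rw [hcard] at hT
  set v := padicValNat 2 n.factorial with hv
  have hApos : 0 < Nat.card ↥(alternatingGroup (Fin n)) := Nat.card_pos
  have hvpos : 1 ≤ v := by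
    rcases Nat.eq_zero_or_pos v with h0 | h0
    · rw [h0] at hT; omega
    · exact h0
  have hTe : Nat.card ↥(T ⊓ alternatingGroup (Fin n)) = 2 ^ (v - 1) := by
    have : 2 ^ v = 2 * 2 ^ (v - 1) := by
      rw [← pow_succ']; congr 1; omega
    rw [this] at hT
    omega
  have hfac : (Nat.card ↥(alternatingGroup (Fin n))).factorization 2 = v - 1 := by
    have h1 : (2 * Nat.card ↥(alternatingGroup (Fin n))).factorization 2 = v := by
      rw [hA, Nat.factorization_def _ Nat.prime_two]
    rw [Nat.factorization_mul (by norm_num) hApos.ne'] at h1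
    simp only [Finsupp.coe_add, Pi.add_apply] at h1
    rw [Nat.Prime.factorization_self Nat.prime_two] at h1
    omega
  -- the even part as a subgroup of the alternating group
  let T' : Subgroup ↥(alternatingGroup (Fin n)) :=
    (T ⊓ alternatingGroup (Fin n)).subgroupOf (alternatingGroup (Fin n))
  let e' : ↥T' ≃* ↥(T ⊓ alternatingGroup (Fin n)) := Subgroup.subgroupOfEquivOfLe inf_le_right
  have hT' : Nat.card ↥T' = 2 ^ (Nat.card ↥(alternatingGroup (Fin n))).factorization 2 := by
    rw [hfac, ← hTe]
    exact Nat.card_congr e'.toEquiv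
  let Q : Sylow 2 ↥(alternatingGroup (Fin n)) := Sylow.ofCard T' hT'
  have hQ : (Q : Subgroup ↥(alternatingGroup (Fin n))) = T' := Sylow.coe_ofCard T' hT'
  exact ⟨((Sylow.equiv P Q).trans (MulEquiv.subgroupCongr hQ)).trans e'⟩

end Cfsg.Agent.Lib.Helper9.SylALeaf
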