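import Mathlib
import Cfsg.Agent.Lib.Helper14.SylA.Defs

set_option autoImplicit false
open scoped commutatorElement

namespace Cfsg.Agent.Lib.Helper9.SylALeaf

open Cfsg.Agent.Lib.Helper14.SylA RegularWreathProduct

/-- UNI: a Pi group over a one-element index type. -/
theorem ker_piSgn_unique_equiv {ι : Type} [Fintype ι] [Unique ι] (W : ι → Type)
    [∀ i, Group (W i)] (sgn : ∀ i, W i →* ℤˣ) :
    Nonempty (↥(piSgn W sgn).ker ≃* ↥(sgn default).ker) := by
  let e : (∀ i, W i) ≃* W default := MulEquiv.piUnique W
  have key : ∀ t, piSgn W sgn t = sgn default (e t) := by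
    intro t
    rw [piSgn_apply, Fintype.prod_unique]
    rfl
  have hmap : (piSgn W sgn).ker.map e.toMonoidHom = (sgn default).ker := by
    ext w
    simp only [Subgroup.mem_map, MonoidHom.mem_ker]
    constructor
    · rintro ⟨t, ht, rfl⟩
      rw [key] at ht
      exact ht
    · intro hw
      refine ⟨e.symm w, ?_, ?_⟩
      · rw [key]
        simpa using hw
      · simp
  exact ⟨(e.subgroupMap (piSgn W sgn).ker).trans (MulEquiv.subgroupCongr hmap)⟩

/-- OPT: if the factor at `none` has bijective sign, the kernel of the product sign is isomorphic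
to the product of the other factors. -/
theorem ker_piSgn_option_equiv {κ : Type} [Fintype κ] [DecidableEq κ] (W : Option κ → Type)
    [∀ i, Group (W i)] (sgn : ∀ i, W i →* ℤˣ) (hbij : Function.Bijective (sgn none)) :
    Nonempty (↥(piSgn W sgn).ker ≃* (∀ k : κ, W (some k))) := by
  have key : ∀ t : ∀ i, W i,
      piSgn W sgn t = sgn none (t none) * ∏ k : κ, sgn (some k) (t (some k)) := by
    intro t
    rw [piSgn_apply, Fintype.prod_option]
  let f : ↥(piSgn W sgn).ker →* (∀ k : κ, W (some k)) :=
    MonoidHom.pi (fun k => (Pi.evalMonoidHom W (some k)).comp (Subgroup.subtype _))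
  have hf : ∀ (t : ↥(piSgn W sgn).ker) (k : κ), f t k = t.1 (some k) := fun t k => rfl
  have hinj : Function.Injective f := by
    intro a b hab
    apply Subtype.ext
    funext i
    have ha := a.2
    have hb := b.2
    rw [MonoidHom.mem_ker, key] at ha hb
    have hsome : ∀ k, a.1 (some k) = b.1 (some k) := by
      intro k
      have := congrFun hab k
      rwa [hf, hf] at this
    cases i with
    | none =>
      apply hbij.1
      have h1 : ∏ k : κ, sgn (some k) (a.1 (some k)) = ∏ k : κ, sgn (some k) (b.1 (some k)) :=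
        Finset.prod_congr rfl (fun k _ => by rw [hsome k])
      rw [h1] at ha
      exact mul_right_cancel (ha.trans hb.symm)
    | some k => exact hsome k
  have hsurj : Function.Surjective f := by
    intro u
    obtain ⟨a, ha⟩ := hbij.2 ((∏ k : κ, sgn (some k) (u k))⁻¹)
    let t : ∀ i, W i := fun i =>
      match i with
      | none => a
      | some k => u k
    have ht : t ∈ (piSgn W sgn).ker := by
      rw [MonoidHom.mem_ker, key]
      show sgn none a * ∏ k : κ, sgn (some k) (u k) = 1
      rw [ha, inv_mul_cancel]
    exact ⟨⟨t, ht⟩, rfl⟩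
  exact ⟨MulEquiv.ofBijective f ⟨hinj, hsurj⟩⟩

end Cfsg.Agent.Lib.Helper9.SylALeaf
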