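import Mathlib
import Cfsg.Prelude.Def_Blocks
import Cfsg.Prelude.Def_Local
import Cfsg.Agent.Lib.Helper6.Clifford
import Cfsg.Agent.Lib.Helper6.CliffordCorr
import Cfsg.Agent.Lib.Helper6.CharExtra
import Cfsg.Agent.Lib.Helper6.Ramification2
import Cfsg.Agent.Lib.Helper23.Thompson
import Cfsg.Agent.Lib.Helper23.PPrimeKerA
import Cfsg.Agent.Lib.Helper24.IrrFacts
import Cfsg.Agent.Lib.Helper2.BLAux
import Cfsg.Agent.Lib.Helper14.TPDefs

/-!
S4885/S4886 leaf (CA): in a group where `p'`-degree forces `q'`-degree, every `A`-invariant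
irreducible character of a normal `p'`-subgroup `K` (`A` a Sylow `p`-subgroup) has `q'`-degree.
(Adapted from helper6 `ROOD.exists_odd_over_invariant`, general `p`.)
-/

set_option autoImplicit false

namespace Cfsg.Agent.Lib.Helper9.TP

open Cfsg Cfsg.Agent.CharLib Cfsg.Agent.Lib.Helper6 Cfsg.Agent.Lib.Helper2.Glaub
open Cfsg.Agent.Lib.Helper14.TP

universe u

variable {H : Type u} [Group H] [Finite H]

/-- a `p'`-degree irreducible character of `H` over an `A`-invariant irreducible character of the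
normal `p'`-subgroup `K`. -/
theorem exists_pprime_over_invariant (p : ℕ) [hp : Fact p.Prime] (A : Sylow p H)
    (K : Subgroup H) [hK : K.Normal] (hKp : (Nat.card K).Coprime p) (θ : K → ℂ)
    (hθ : IsIrrCharacter K θ) (hinv : ∀ g ∈ (A : Subgroup H), Cfsg.Agent.Lib.Helper6.conjFun K g θ = θ) :
    ∃ χ : IrrCharacter H, ¬ p ∣ charDegree (χ : H → ℂ) ∧
      haveI := Fintype.ofFinite K
      classInner (resFun K (χ : H → ℂ)) θ ≠ 0 := by
  classical
  let _ : Fintype H := Fintype.ofFinite H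
  let _ : Fintype K := Fintype.ofFinite K
  set R : Subgroup H := K ⊔ (A : Subgroup H) with hRdef
  let _ : Fintype R := Fintype.ofFinite R
  have hKR : K ≤ R := le_sup_left
  have hAR : (A : Subgroup H) ≤ R := le_sup_right
  let _ : Fintype (K.subgroupOf R) := Fintype.ofFinite _
  let e : ↥(K.subgroupOf R) ≃* ↥K := Subgroup.subgroupOfEquivOfLe hKR
  have hθ' : IsIrrCharacter ↥(K.subgroupOf R) (θ ∘ e) := isIrrCharacter_comp_mulEquiv' e hθ
  have hθcf : IsClassFunction K θ := IsCharacter.isClassFunction (IsIrrCharacter.isCharacter hθ)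
  have hRT : R ≤ inertiaSubgroup K θ := by
    rw [hRdef]
    apply sup_le
    · intro x hx
      exact (mem_inertiaSubgroup K θ x).mpr (conjFun_of_mem K hθcf hx)
    · intro x hx
      exact (mem_inertiaSubgroup K θ x).mpr (hinv x hx)
  have hinv' : ∀ r : ↥R, Cfsg.Agent.Lib.Helper6.conjFun (K.subgroupOf R) r (θ ∘ e) = θ ∘ e := by
    intro r
    rw [conjFun_subgroupOf hKR r θ, (mem_inertiaSubgroup K θ (r : H)).mp (hRT r.2)]
  obtain ⟨k, hk⟩ : ∃ k : ℕ, (K.subgroupOf R).index = p ^ k := by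
    have h1 : (K.subgroupOf R).index = K.relIndex (A : Subgroup H) := by
      show K.relIndex R = _
      rw [hRdef, Subgroup.relIndex_sup_left]
    have h2 : K.relIndex (A : Subgroup H) ∣ Nat.card (A : Subgroup H) :=
      Subgroup.relIndex_dvd_card _ _
    obtain ⟨n, hn⟩ := (IsPGroup.iff_card).mp A.isPGroup'
    rw [hn] at h2
    obtain ⟨j, _, hj⟩ := (Nat.dvd_prime_pow hp.out).mp h2
    exact ⟨j, by rw [h1, hj]⟩
  have hcardK' : Nat.card ↥(K.subgroupOf R) = Nat.card K := Nat.card_congr e.toEquiv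
  have hhom : ∀ φ : ↥(K.subgroupOf R) →* ℂˣ, (orderOf φ).Coprime p := by
    intro φ
    have h1 : orderOf φ ∣ Nat.card ↥(K.subgroupOf R) := by
      apply orderOf_dvd_of_pow_eq_one
      ext x
      rw [MonoidHom.pow_apply, ← map_pow, pow_card_eq_one', map_one, MonoidHom.one_apply]
    rw [hcardK'] at h1
    exact Nat.Coprime.coprime_dvd_left h1 hKp
  have hdeg : (θ ∘ e) 1 = (charDegree θ : ℂ) := by
    rw [Function.comp_apply, map_one]
    exact Cfsg.Agent.Lib.Helper24.irr_apply_one (⟨θ, hθ⟩ : IrrCharacter K)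
  have hdvd : charDegree θ ∣ Nat.card K :=
    Cfsg.Agent.Lib.Helper24.irr_charDegree_dvd_card (⟨θ, hθ⟩ : IrrCharacter K)
  have hpd : ¬ p ∣ charDegree θ := by
    intro h
    have h2 : p ∣ Nat.card K := dvd_trans h hdvd
    have := Nat.Coprime.eq_one_of_dvd hKp.symm h2
    exact hp.out.one_lt.ne' this
  obtain ⟨η, hη, hηres⟩ := Cfsg.Agent.Lib.Helper23.exists_extension_of_pgroup_quotient
    (p := p) (K.subgroupOf R) hk hhom hθ' hinv' hdeg hpd
  have hη1 : η 1 = (charDegree θ : ℂ) := by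
    have := congrFun hηres 1
    rw [resFun_apply] at this
    rw [← hdeg, ← this]
    rfl
  have hRidx : ¬ p ∣ R.index := by
    intro h
    have h1 : R.index ∣ (A : Subgroup H).index := Subgroup.index_dvd_of_le hAR
    exact A.not_dvd_index (dvd_trans h h1)
  have hηdeg : ¬ p ∣ charDegree ((⟨η, hη⟩ : IrrCharacter R) : R → ℂ) := by
    have : charDegree η = charDegree θ := by
      show ⌊(η 1).re⌋₊ = charDegree θ
      rw [hη1]
      simp
    show ¬ p ∣ charDegree η
    rw [this]; exact hpd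
  obtain ⟨χ, hχp, hχη⟩ := Cfsg.Agent.Lib.Helper23.PPrimeKer.exists_irr_over_not_dvd p hp.out R hRidx
    (⟨η, hη⟩ : IrrCharacter R) hηdeg
  refine ⟨χ, hχp, ?_⟩
  have hχR : IsCharacter ↥R (resFun R (χ : H → ℂ)) :=
    isCharacter_resFun R (IsIrrCharacter.isCharacter χ.2)
  have hμne : classInner (resFun (K.subgroupOf R) η) (θ ∘ e) ≠ 0 := by
    rw [hηres, classInner_irr hθ' hθ', if_pos rfl]
    exact one_ne_zero
  have h4 := Cfsg.Agent.Lib.Helper2.BLAux.classInner_res_ne_zero_of_constituent hχR hη hχη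
    (K.subgroupOf R) (IsIrrCharacter.isCharacter hθ') hμne
  have h5 : resFun (K.subgroupOf R) (resFun R (χ : H → ℂ)) = (resFun K (χ : H → ℂ)) ∘ e := by
    funext x
    rfl
  rw [h5, classInner_comp_mulEquiv] at h4
  exact h4

/-- (CA) -/
theorem navHyp_of_pqDeg (p q : ℕ) [Fact p.Prime] (h : PQDeg p q H) (K : Subgroup H) [K.Normal]
    (hK : (Nat.card K).Coprime p) (A : Sylow p H) : NavHyp q K (A : Subgroup H) := by
  classical
  intro θ hθinv
  let _ : Fintype H := Fintype.ofFinite H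
  let _ : Fintype K := Fintype.ofFinite K
  have hinv : ∀ g ∈ (A : Subgroup H), Cfsg.Agent.Lib.Helper6.conjFun K g (θ : K → ℂ) = θ := by
    intro g hg
    funext x
    rw [Cfsg.Agent.Lib.Helper6.conjFun_apply]
    exact hθinv g hg x ⟨g * x * g⁻¹, _⟩ rfl
  obtain ⟨χ, hχp, hχθ⟩ := exists_pprime_over_invariant p A K hK (θ : K → ℂ) θ.2 hinv
  have hχq : ¬ q ∣ charDegree (χ : H → ℂ) := h χ hχp
  have h1 := (degree_ratio_dvd_index K χ.2 θ.2 (by convert hχθ)
    (Cfsg.Agent.Lib.Helper24.irr_apply_one χ) (Cfsg.Agent.Lib.Helper24.irr_apply_one θ)).1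
  intro hq
  exact hχq (dvd_trans hq h1)

end Cfsg.Agent.Lib.Helper9.TP
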