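import Mathlib
import Cfsg.Prelude.Def_Classical
import Cfsg.Agent.Lib.Helper14.Unitary3

set_option autoImplicit false
set_option linter.unusedSectionVars false
set_option linter.unusedVariables false

namespace Cfsg.Agent.Lib.Helper9.SU3Local

open Cfsg.Agent.Lib.Helper14 Matrix

section geom

variable {F : Type*} [Field F] [Fintype F] [DecidableEq F] {q : ℕ}

local notation "hh" => Cfsg.hermForm 3 F q

/-- nondegeneracy in the second variable -/
theorem herm_nondeg (hF : Fintype.card F = q ^ 2) (w : Fin 3 → F)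
    (hw : ∀ v, hh v w = 0) : w = 0 := by
  have hq := herm_two_le hF
  funext i
  have h1 := hw (Pi.single i 1)
  unfold Cfsg.hermForm at h1
  rw [Finset.sum_eq_single i] at h1
  · rw [Pi.single_eq_same, one_mul] at h1
    exact pow_eq_zero_iff (by omega) |>.mp h1
  · intro j _ hji
    rw [Pi.single_eq_of_ne hji, zero_mul]
  · intro h; exact absurd (Finset.mem_univ i) h

theorem exists_dual (hF : Fintype.card F = q ^ 2) (u : Fin 3 → F) (hu : u ≠ 0) :
    ∃ v₀, hh v₀ u = 1 := by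
  by_contra hcon
  push Not at hcon
  apply hu
  apply herm_nondeg hF
  intro v
  by_contra hv
  apply hcon ((hh v u)⁻¹ • v)
  rw [hermForm_smul_left, inv_mul_cancel₀ hv]

/-- the linear functional `v ↦ h(v, u)` -/
def phi (q : ℕ) (u : Fin 3 → F) : (Fin 3 → F) →ₗ[F] F where
  toFun v := Cfsg.hermForm 3 F q v u
  map_add' a b := hermForm_add_left a b u
  map_smul' a b := by
    rw [hermForm_smul_left]; rfl

theorem phi_apply (u v : Fin 3 → F) : phi q u v = hh v u := rfl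

theorem finrank_ker_phi (hF : Fintype.card F = q ^ 2) (u : Fin 3 → F) (hu : u ≠ 0) :
    Module.finrank F (LinearMap.ker (phi q u)) = 2 := by
  obtain ⟨v₀, hv₀⟩ := exists_dual hF u hu
  have hsurj : Function.Surjective (phi q u) := by
    intro c
    refine ⟨c • v₀, ?_⟩
    rw [map_smul, phi_apply, hv₀, smul_eq_mul, mul_one]
  have h1 := LinearMap.finrank_range_add_finrank_ker (phi q u)
  rw [LinearMap.range_eq_top.mpr hsurj, finrank_top, Module.finrank_self,
    Module.finrank_fin_fun] at h1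
  omega

/-- an adapted frame for a nonzero isotropic vector -/
theorem exists_frame (hF : Fintype.card F = q ^ 2) (u : Fin 3 → F) (hu : u ≠ 0)
    (huu : hh u u = 0) :
    ∃ v₀ w₀ : Fin 3 → F, hh v₀ u = 1 ∧ hh w₀ u = 0 ∧ hh w₀ w₀ ≠ 0 ∧
      (∀ α β : F, α • u + β • w₀ = 0 → α = 0 ∧ β = 0) ∧
      (∀ v, ∃ α β : F, v = hh v u • v₀ + α • u + β • w₀) := by
  have hq := herm_two_le hF
  obtain ⟨v₀, hv₀⟩ := exists_dual hF u hu
  have hfr := finrank_ker_phi hF u hu
  set K := LinearMap.ker (phi q u) with hK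
  have huK : u ∈ K := by rw [hK, LinearMap.mem_ker, phi_apply]; exact huu
  have hne : (⟨u, huK⟩ : K) ≠ 0 := by
    intro h; apply hu; exact congrArg Subtype.val h
  obtain ⟨y, hy⟩ := exists_linearIndependent_pair_of_one_lt_finrank (R := F) (M := K)
    (by rw [hfr]; norm_num) hne
  have hspan := hy.span_eq_top_of_card_eq_finrank' (by rw [hfr]; rfl)
  have hind := LinearIndependent.pair_iff.mp hy
  have hyK : hh (y : Fin 3 → F) u = 0 := by
    have h0 : (y : Fin 3 → F) ∈ LinearMap.ker (phi q u) := y.2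
    rw [LinearMap.mem_ker, phi_apply] at h0
    exact h0
  have hind' : ∀ α β : F, α • u + β • (y : Fin 3 → F) = 0 → α = 0 ∧ β = 0 := by
    intro α β h
    apply hind α β
    apply Subtype.ext
    simpa using h
  have hdec : ∀ v, ∃ α β : F, v = hh v u • v₀ + α • u + β • (y : Fin 3 → F) := by
    intro v
    have hvK : v - hh v u • v₀ ∈ K := by
      rw [hK, LinearMap.mem_ker, phi_apply, hermForm_sub_left, hermForm_smul_left, hv₀, mul_one,
        sub_self]
    have hmem : (⟨v - hh v u • v₀, hvK⟩ : K) ∈ Submodule.span F (Set.range ![⟨u, huK⟩, y]) := by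
      rw [hspan]; trivial
    rw [Submodule.mem_span_range_iff_exists_fun] at hmem
    obtain ⟨c, hc⟩ := hmem
    rw [Fin.sum_univ_two] at hc
    have hc' := congrArg Subtype.val hc
    simp only [Matrix.cons_val_zero, Matrix.cons_val_one, Submodule.coe_add,
      Submodule.coe_smul] at hc'
    refine ⟨c 0, c 1, ?_⟩
    have : v = hh v u • v₀ + (v - hh v u • v₀) := by abel
    rw [add_assoc, hc']
    exact this
  refine ⟨v₀, y, hv₀, hyK, ?_, hind', hdec⟩
  -- `h(w₀, w₀) ≠ 0`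
  intro hww
  have huy : hh u (y : Fin 3 → F) = 0 := hermForm_eq_zero_symm hF _ _ hyK
  set c := hh v₀ (y : Fin 3 → F) with hc
  have hall : ∀ v, hh v ((y : Fin 3 → F) - (c ^ q) • u) = 0 := by
    intro v
    obtain ⟨α, β, hv⟩ := hdec v
    have h1 : hh v (y : Fin 3 → F) = hh v u * c := by
      conv_lhs => rw [hv]
      rw [hermForm_add_left, hermForm_add_left, hermForm_smul_left, hermForm_smul_left,
        hermForm_smul_left, huy, hww, mul_zero, mul_zero, add_zero, add_zero]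
    have h2 : (y : Fin 3 → F) - (c ^ q) • u = (y : Fin 3 → F) + (-(c ^ q)) • u := by
      rw [neg_smul, sub_eq_add_neg]
    rw [h2, hermForm_add_right hF, hermForm_smul_right, h1, herm_neg_pow hF, ← pow_mul, ← pow_two,
      herm_pow_card hF]
    ring
  have h3 := herm_nondeg hF _ hall
  have h4 : (-(c ^ q)) • u + (1 : F) • (y : Fin 3 → F) = 0 := by
    rw [one_smul, neg_smul, add_comm, ← sub_eq_add_neg]
    exact h3
  exact one_ne_zero (hind' _ _ h4).2

end geom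


section mat

variable {F : Type*} [Field F] [Fintype F] [DecidableEq F] {q : ℕ}

local notation "hh" => Cfsg.hermForm 3 F q

theorem pow_mulVec_eigen (M : Matrix (Fin 3) (Fin 3) F) (u : Fin 3 → F) (l : F)
    (h : M *ᵥ u = l • u) (j : ℕ) : (M ^ j) *ᵥ u = l ^ j • u := by
  induction j with
  | zero => simp
  | succ j ih =>
    rw [pow_succ, ← Matrix.mulVec_mulVec, h, Matrix.mulVec_smul, ih, smul_smul, pow_succ, mul_comm]

theorem eq_one_of_pow_char_pow {p : ℕ} [Fact p.Prime] [CharP F p] (l : F) (k : ℕ)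
    (h : l ^ p ^ k = 1) : l = 1 := by
  have h1 : (l - 1) ^ p ^ k = 0 := by
    rw [sub_pow_char_pow, h, one_pow, sub_self]
  have := pow_eq_zero_iff (pow_ne_zero k (Fact.out : p.Prime).ne_zero) |>.mp h1
  exact sub_eq_zero.mp this

theorem eigen_one {p : ℕ} [Fact p.Prime] [CharP F p] (M : Matrix (Fin 3) (Fin 3) F) (k : ℕ)
    (hM : M ^ p ^ k = 1) (u : Fin 3 → F) (hu : u ≠ 0) (l : F) (h : M *ᵥ u = l • u) : l = 1 := by
  have h1 := pow_mulVec_eigen M u l h (p ^ k)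
  rw [hM, Matrix.one_mulVec] at h1
  apply eq_one_of_pow_char_pow (p := p) l k
  by_contra hne
  apply hu
  have h2 : (l ^ p ^ k - 1) • u = 0 := by
    rw [sub_smul, one_smul, ← h1, sub_self]
  rcases smul_eq_zero.mp h2 with h3 | h3
  · exact absurd (sub_eq_zero.mp h3) hne
  · exact h3

/-- the "flag-nilpotent" matrices attached to `u` -/
def TT (q : ℕ) (u : Fin 3 → F) (N : Matrix (Fin 3) (Fin 3) F) : Prop :=
  N *ᵥ u = 0 ∧ (∀ v, Cfsg.hermForm 3 F q (N *ᵥ v) u = 0) ∧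
    (∀ w, Cfsg.hermForm 3 F q w u = 0 → ∃ a : F, N *ᵥ w = a • u)

theorem TT.comb {u : Fin 3 → F} {N₁ N₂ : Matrix (Fin 3) (Fin 3) F} (h₁ : TT q u N₁)
    (h₂ : TT q u N₂) : TT q u (N₁ * N₂ + N₁ + N₂) := by
  obtain ⟨a1, b1, c1⟩ := h₁
  obtain ⟨a2, b2, c2⟩ := h₂
  refine ⟨?_, ?_, ?_⟩
  · rw [Matrix.add_mulVec, Matrix.add_mulVec, ← Matrix.mulVec_mulVec, a2, a1, Matrix.mulVec_zero,
      add_zero, add_zero]
  · intro v
    rw [Matrix.add_mulVec, Matrix.add_mulVec, ← Matrix.mulVec_mulVec, hermForm_add_left,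
      hermForm_add_left, b1, b1, b2, add_zero, add_zero]
  · intro w hw
    obtain ⟨x1, hx1⟩ := c1 w hw
    obtain ⟨x2, hx2⟩ := c2 w hw
    refine ⟨x1 + x2, ?_⟩
    rw [Matrix.add_mulVec, Matrix.add_mulVec, ← Matrix.mulVec_mulVec, hx2, Matrix.mulVec_smul, a1,
      smul_zero, zero_add, hx1, add_smul]

theorem TT.cube {u : Fin 3 → F} {N : Matrix (Fin 3) (Fin 3) F} (h : TT q u N) : N ^ 3 = 0 := by
  obtain ⟨a1, b1, c1⟩ := h
  apply Matrix.toLin'.injective
  apply LinearMap.ext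
  intro v
  rw [Matrix.toLin'_apply, map_zero, LinearMap.zero_apply]
  rw [pow_succ, pow_two, ← Matrix.mulVec_mulVec, ← Matrix.mulVec_mulVec]
  obtain ⟨a, ha⟩ := c1 (N *ᵥ v) (b1 v)
  rw [ha, Matrix.mulVec_smul, a1, smul_zero]

theorem one_add_pow_of_cube {p : ℕ} [Fact p.Prime] [CharP F p] (N : Matrix (Fin 3) (Fin 3) F)
    (hN : N ^ 3 = 0) : (1 + N) ^ p ^ 2 = 1 := by
  have hp : p.Prime := Fact.out
  have : CharP (Matrix (Fin 3) (Fin 3) F) p := Matrix.charP p
  rw [add_pow_char_pow_of_commute (p := p) (n := 2) (Commute.one_left N), one_pow]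
  have h3 : 3 ≤ p ^ 2 := by nlinarith [hp.two_le]
  rw [← Nat.sub_add_cancel h3, pow_add, hN, mul_zero, add_zero]

/-- a unitary `p`-element fixing the isotropic `u` is flag-unipotent -/
theorem sub_one_TT {p : ℕ} [Fact p.Prime] [CharP F p] (hF : Fintype.card F = q ^ 2)
    (u : Fin 3 → F) (hu : u ≠ 0) (huu : hh u u = 0)
    (M : Matrix (Fin 3) (Fin 3) F) (hM : IsUni F q 3 M) (k : ℕ) (hMk : M ^ p ^ k = 1)
    (hMu : M *ᵥ u = u) : TT q u (M - 1) := by
  obtain ⟨v₀, w₀, hv₀, hw₀, hww, hind, hdec⟩ := exists_frame hF u hu huu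
  have hb : ∀ v, hh ((M - 1) *ᵥ v) u = 0 := by
    intro v
    rw [Matrix.sub_mulVec, Matrix.one_mulVec, hermForm_sub_left]
    nth_rewrite 1 [← hMu]
    rw [hM, sub_self]
  refine ⟨by rw [Matrix.sub_mulVec, Matrix.one_mulVec, hMu, sub_self], hb, ?_⟩
  -- image of `w₀`
  have hMw : hh (M *ᵥ w₀) u = 0 := by
    nth_rewrite 1 [← hMu]
    rw [hM, hw₀]
  obtain ⟨α', μ, hαμ⟩ := hdec (M *ᵥ w₀)
  rw [hMw, zero_smul, zero_add] at hαμ
  have hpow : ∀ j : ℕ, ∃ a : F, (M ^ j) *ᵥ w₀ = a • u + μ ^ j • w₀ := by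
    intro j
    induction j with
    | zero => exact ⟨0, by simp⟩
    | succ j ih =>
      obtain ⟨a, ha⟩ := ih
      refine ⟨a + μ ^ j * α', ?_⟩
      rw [pow_succ', ← Matrix.mulVec_mulVec, ha, Matrix.mulVec_add, Matrix.mulVec_smul,
        Matrix.mulVec_smul, hMu, hαμ, smul_add, smul_smul, smul_smul, pow_succ, add_smul]
      abel
  obtain ⟨a, ha⟩ := hpow (p ^ k)
  rw [hMk, Matrix.one_mulVec] at ha
  have h0 : a • u + (μ ^ p ^ k - 1) • w₀ = 0 := by
    rw [sub_smul, one_smul]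
    nth_rewrite 2 [ha]
    abel
  have hμ : μ = 1 := by
    apply eq_one_of_pow_char_pow (p := p) μ k
    exact sub_eq_zero.mp (hind _ _ h0).2
  rw [hμ, one_smul] at hαμ
  intro w hw
  obtain ⟨α, β, hw'⟩ := hdec w
  rw [hw, zero_smul, zero_add] at hw'
  refine ⟨β * α', ?_⟩
  rw [Matrix.sub_mulVec, Matrix.one_mulVec, hw', Matrix.mulVec_add, Matrix.mulVec_smul,
    Matrix.mulVec_smul, hMu, hαμ, smul_add, smul_smul]
  abel

/-- (G3): products of unitary `p`-elements fixing `u` are `p`-elements -/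
theorem mul_pow_eq_one {p : ℕ} [Fact p.Prime] [CharP F p] (hF : Fintype.card F = q ^ 2)
    (u : Fin 3 → F) (hu : u ≠ 0) (huu : hh u u = 0)
    (M₁ M₂ : Matrix (Fin 3) (Fin 3) F) (h₁ : IsUni F q 3 M₁) (h₂ : IsUni F q 3 M₂)
    (k₁ k₂ : ℕ) (hk₁ : M₁ ^ p ^ k₁ = 1) (hk₂ : M₂ ^ p ^ k₂ = 1)
    (hu₁ : M₁ *ᵥ u = u) (hu₂ : M₂ *ᵥ u = u) : (M₁ * M₂) ^ p ^ 2 = 1 := by
  have t1 := sub_one_TT hF u hu huu M₁ h₁ k₁ hk₁ hu₁
  have t2 := sub_one_TT hF u hu huu M₂ h₂ k₂ hk₂ hu₂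
  have t3 := (t1.comb t2).cube
  have h4 : M₁ * M₂ = 1 + ((M₁ - 1) * (M₂ - 1) + (M₁ - 1) + (M₂ - 1)) := by
    noncomm_ring
  rw [h4]
  exact one_add_pow_of_cube _ t3

/-- (G2): a unitary `p`-element fixing `u` and another isotropic point is trivial -/
theorem eq_one_of_two_points {p : ℕ} [Fact p.Prime] [CharP F p] (hF : Fintype.card F = q ^ 2)
    (u : Fin 3 → F) (hu : u ≠ 0) (huu : hh u u = 0)
    (M : Matrix (Fin 3) (Fin 3) F) (hM : IsUni F q 3 M) (k : ℕ) (hMk : M ^ p ^ k = 1)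
    (hMu : M *ᵥ u = u) (u' : Fin 3 → F) (hu'u' : hh u' u' = 0) (hMu' : M *ᵥ u' = u')
    (hnot : ¬ ∃ c : F, u' = c • u) : M = 1 := by
  have hq := herm_two_le hF
  obtain ⟨v₀, w₀, hv₀, hw₀, hww, hind, hdec⟩ := exists_frame hF u hu huu
  obtain ⟨ha, hb, hc⟩ := sub_one_TT hF u hu huu M hM k hMk hMu
  have hb' : ∀ v, hh ((M - 1) *ᵥ v) u' = 0 := by
    intro v
    rw [Matrix.sub_mulVec, Matrix.one_mulVec, hermForm_sub_left]
    nth_rewrite 1 [← hMu']
    rw [hM, sub_self]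
  obtain ⟨α, β, hu'⟩ := hdec u'
  have huw : hh u w₀ = 0 := hermForm_eq_zero_symm hF _ _ hw₀
  have hγ : hh u' u ≠ 0 := by
    intro h0
    rw [h0, zero_smul, zero_add] at hu'
    apply hnot
    refine ⟨α, ?_⟩
    have h1 : hh u' u' = β * β ^ q * hh w₀ w₀ := by
      conv_lhs => rw [hu']
      rw [hermForm_add_left, hermForm_add_right hF, hermForm_add_right hF, hermForm_smul_left,
        hermForm_smul_left, hermForm_smul_right, hermForm_smul_right, hermForm_smul_left,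
        hermForm_smul_left, hermForm_smul_right, hermForm_smul_right, huu, huw, hw₀]
      ring
    rw [hu'u'] at h1
    have h2 : β = 0 := by
      rcases mul_eq_zero.mp h1.symm with h3 | h3
      · rcases mul_eq_zero.mp h3 with h4 | h4
        · exact h4
        · exact pow_eq_zero_iff (by omega) |>.mp h4
      · exact absurd h3 hww
    rw [hu', h2, zero_smul, add_zero]
  have huu' : hh u u' ≠ 0 := by
    intro h0
    exact hγ (hermForm_eq_zero_symm hF _ _ h0)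
  -- `(M - 1) w₀ = 0`
  obtain ⟨a₀, ha₀⟩ := hc w₀ hw₀
  have h5 := hb' w₀
  rw [ha₀, hermForm_smul_left] at h5
  have ha0 : a₀ = 0 := by
    rcases mul_eq_zero.mp h5 with h | h
    · exact h
    · exact absurd h huu'
  rw [ha0, zero_smul] at ha₀
  -- `(M - 1) v₀ = 0`
  have h6 : (M - 1) *ᵥ u' = 0 := by
    rw [Matrix.sub_mulVec, Matrix.one_mulVec, hMu', sub_self]
  have h7 : (M - 1) *ᵥ v₀ = 0 := by
    nth_rewrite 1 [hu'] at h6
    rw [Matrix.mulVec_add, Matrix.mulVec_add, Matrix.mulVec_smul, Matrix.mulVec_smul,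
      Matrix.mulVec_smul, ha, ha₀, smul_zero, smul_zero, add_zero, add_zero] at h6
    rcases smul_eq_zero.mp h6 with h | h
    · exact absurd h hγ
    · exact h
  have h8 : M - 1 = 0 := by
    apply Matrix.toLin'.injective
    apply LinearMap.ext
    intro v
    rw [Matrix.toLin'_apply, map_zero, LinearMap.zero_apply]
    obtain ⟨α₁, β₁, hv⟩ := hdec v
    rw [hv, Matrix.mulVec_add, Matrix.mulVec_add, Matrix.mulVec_smul, Matrix.mulVec_smul,
      Matrix.mulVec_smul, ha, ha₀, h7, smul_zero, smul_zero, smul_zero, add_zero, add_zero]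
  exact sub_eq_zero.mp h8

end mat

section grp

variable {F : Type*} [Field F] [Fintype F] [DecidableEq F] {q : ℕ}

local notation "hh" => Cfsg.hermForm 3 F q

/-- the matrix of an element of `SU_3` -/
def mat (x : ↥(Cfsg.SU 3 F q)) : Matrix (Fin 3) (Fin 3) F :=
  ((x : Matrix.SpecialLinearGroup (Fin 3) F) : Matrix (Fin 3) (Fin 3) F)

theorem mat_mul (x y : ↥(Cfsg.SU 3 F q)) : mat (x * y) = mat x * mat y := rfl

theorem mat_one : mat (1 : ↥(Cfsg.SU 3 F q)) = 1 := rfl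

theorem mat_pow (x : ↥(Cfsg.SU 3 F q)) (j : ℕ) : mat (x ^ j) = mat x ^ j := by
  induction j with
  | zero => rfl
  | succ j ih => rw [pow_succ, mat_mul, ih, pow_succ]

theorem mat_injective : Function.Injective (mat : ↥(Cfsg.SU 3 F q) → _) := by
  intro x y h
  exact Subtype.ext (Subtype.ext h)

theorem mat_isUni (x : ↥(Cfsg.SU 3 F q)) : IsUni F q 3 (mat x) := x.2

theorem mat_inv_mul (x : ↥(Cfsg.SU 3 F q)) : mat x⁻¹ * mat x = 1 := by
  rw [← mat_mul, inv_mul_cancel, mat_one]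

theorem mat_mul_inv (x : ↥(Cfsg.SU 3 F q)) : mat x * mat x⁻¹ = 1 := by
  rw [← mat_mul, mul_inv_cancel, mat_one]

/-- nonzero isotropic vectors -/
def Iso0 (F : Type*) [Field F] (q : ℕ) : Type _ :=
  {v : Fin 3 → F // v ≠ 0 ∧ Cfsg.hermForm 3 F q v v = 0}

instance : Finite (Iso0 F q) := by
  unfold Iso0; infer_instance

/-- the action of a subgroup of `SU_3` on the nonzero isotropic vectors -/
@[instance_reducible]
def isoAct (P : Subgroup ↥(Cfsg.SU 3 F q)) : MulAction P (Iso0 F q) where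
  smul g x := ⟨mat (g : ↥(Cfsg.SU 3 F q)) *ᵥ x.1, by
    constructor
    · intro h0
      apply x.2.1
      have := congrArg (fun t => mat (g : ↥(Cfsg.SU 3 F q))⁻¹ *ᵥ t) h0
      simp only [Matrix.mulVec_mulVec, mat_inv_mul, Matrix.one_mulVec, Matrix.mulVec_zero] at this
      exact this
    · rw [mat_isUni]; exact x.2.2⟩
  one_smul x := by
    apply Subtype.ext
    change mat ((1 : P) : ↥(Cfsg.SU 3 F q)) *ᵥ x.1 = x.1
    rw [Subgroup.coe_one, mat_one, Matrix.one_mulVec]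
  mul_smul g g' x := by
    apply Subtype.ext
    change mat ((g * g' : P) : ↥(Cfsg.SU 3 F q)) *ᵥ x.1 = mat (g : ↥(Cfsg.SU 3 F q)) *ᵥ
      (mat (g' : ↥(Cfsg.SU 3 F q)) *ᵥ x.1)
    rw [Subgroup.coe_mul, mat_mul, Matrix.mulVec_mulVec]

theorem card_iso0 (hF : Fintype.card F = q ^ 2) :
    Nat.card (Iso0 F q) + 1 = hermCount F q 3 (0 : F) := by
  classical
  unfold hermCount Iso0
  rw [Nat.card_eq_fintype_card, Nat.card_eq_fintype_card, Fintype.card_subtype,
    Fintype.card_subtype]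
  have h1 : (Finset.univ.filter (fun v : Fin 3 → F => ∑ i, v i * v i ^ q = 0))
      = insert 0 (Finset.univ.filter (fun v : Fin 3 → F => v ≠ 0 ∧ Cfsg.hermForm 3 F q v v = 0)) := by
    ext v
    simp only [Finset.mem_filter, Finset.mem_univ, true_and, Finset.mem_insert]
    constructor
    · intro h
      by_cases hv : v = 0
      · left; exact hv
      · right; exact ⟨hv, h⟩
    · rintro (h | h)
      · rw [h]
        have hq := herm_two_le hF
        simp [zero_pow (show q ≠ 0 by omega)]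
      · exact h.2
  rw [h1, Finset.card_insert_of_notMem]
  simp

theorem not_dvd_card_iso0 {p n : ℕ} [Fact p.Prime] (hn : 1 ≤ n)
    (hF : Fintype.card F = (p ^ n) ^ 2) : ¬ p ∣ Nat.card (Iso0 F (p ^ n)) := by
  have hp : p.Prime := Fact.out
  have hq : 2 ≤ p ^ n := herm_two_le hF
  have h1 := card_iso0 hF
  rw [hermCount_eq hF 3 0, if_pos rfl] at h1
  have h2 := (hermAB_closed hq 3).1
  set A := (hermAB (p ^ n) 3).1 with hA
  have hq0 : ((p ^ n : ℕ) : ℤ) ≠ 0 := by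
    have : 0 < p ^ n := by omega
    exact_mod_cast this.ne'
  have h3 : (A : ℤ) = ((p ^ n : ℕ) : ℤ) * (((p ^ n : ℕ) : ℤ) ^ 4 - ((p ^ n : ℕ) : ℤ) ^ 2
      + ((p ^ n : ℕ) : ℤ)) := by
    apply mul_left_cancel₀ hq0
    rw [h2]
    ring
  have h4 : (p : ℤ) ∣ ((p ^ n : ℕ) : ℤ) := by
    have : p ∣ p ^ n := dvd_pow_self p (by omega)
    exact_mod_cast this
  have h5 : (p : ℤ) ∣ (A : ℤ) := by
    rw [h3]; exact Dvd.dvd.mul_right h4 _
  have h6 : p ∣ A := by exact_mod_cast h5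
  intro h7
  have h8 : p ∣ 1 := by
    have := (Nat.dvd_add_right h7).mp (h1 ▸ h6)
    exact this
  exact hp.one_lt.ne' (Nat.dvd_one.mp h8)

/-- (G1): a `p`-subgroup of `SU_3(q)` fixes a nonzero isotropic vector -/
theorem exists_fixed_iso {p n : ℕ} [Fact p.Prime] (hn : 1 ≤ n)
    (hF : Fintype.card F = (p ^ n) ^ 2) (P : Subgroup ↥(Cfsg.SU 3 F (p ^ n)))
    (hP : IsPGroup p P) :
    ∃ u : Fin 3 → F, u ≠ 0 ∧ Cfsg.hermForm 3 F (p ^ n) u u = 0 ∧ ∀ g ∈ P, mat g *ᵥ u = u := by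
  let _ := isoAct P
  obtain ⟨a, ha⟩ := hP.nonempty_fixed_point_of_prime_not_dvd_card (Iso0 F (p ^ n))
    (not_dvd_card_iso0 hn hF)
  refine ⟨a.1, a.2.1, a.2.2, ?_⟩
  intro g hg
  have := ha ⟨g, hg⟩
  exact congrArg Subtype.val this

/-- the normalizer of a nontrivial `p`-subgroup of `SU_3(q)` is `p`-closed -/
theorem normalizer_pclosed {p n : ℕ} [Fact p.Prime] [CharP F p] (hn : 1 ≤ n)
    (hF : Fintype.card F = (p ^ n) ^ 2) (P : Subgroup ↥(Cfsg.SU 3 F (p ^ n)))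
    (hP : IsPGroup p P) (hne : P ≠ ⊥) (x y : ↥(Cfsg.SU 3 F (p ^ n)))
    (hx : x ∈ Subgroup.normalizer (P : Set ↥(Cfsg.SU 3 F (p ^ n))))
    (hy : y ∈ Subgroup.normalizer (P : Set ↥(Cfsg.SU 3 F (p ^ n))))
    (kx ky : ℕ) (hxk : x ^ p ^ kx = 1) (hyk : y ^ p ^ ky = 1) : (x * y) ^ p ^ 2 = 1 := by
  obtain ⟨u, hu, huu, hfix⟩ := exists_fixed_iso hn hF P hP
  obtain ⟨g₀, hg₀1⟩ := (Subgroup.ne_bot_iff_exists_ne_one).mp hne
  obtain ⟨k₀, hk₀⟩ := hP g₀
  have hk₀' : mat (g₀ : ↥(Cfsg.SU 3 F (p ^ n))) ^ p ^ k₀ = 1 := by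
    rw [← mat_pow, ← Subgroup.coe_pow, hk₀, Subgroup.coe_one, mat_one]
  have hline : ∀ z : ↥(Cfsg.SU 3 F (p ^ n)),
      z ∈ Subgroup.normalizer (P : Set ↥(Cfsg.SU 3 F (p ^ n))) →
      ∃ c : F, mat z *ᵥ u = c • u := by
    intro z hz
    by_contra hcon
    apply hg₀1
    apply Subtype.ext
    apply mat_injective
    rw [Subgroup.coe_one, mat_one]
    have hconj : z⁻¹ * (g₀ : ↥(Cfsg.SU 3 F (p ^ n))) * z ∈ P :=
      (Subgroup.mem_normalizer_iff''.mp hz _).mp g₀.2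
    have h1 := hfix _ hconj
    rw [mat_mul, mat_mul, ← Matrix.mulVec_mulVec, ← Matrix.mulVec_mulVec] at h1
    have h2 : mat (g₀ : ↥(Cfsg.SU 3 F (p ^ n))) *ᵥ (mat z *ᵥ u) = mat z *ᵥ u := by
      have := congrArg (fun t => mat z *ᵥ t) h1
      simp only [Matrix.mulVec_mulVec] at this
      rw [← mul_assoc, ← mul_assoc, mat_mul_inv, one_mul] at this
      rw [Matrix.mulVec_mulVec]
      exact this
    refine eq_one_of_two_points hF u hu huu _ (mat_isUni _) k₀ hk₀' (hfix _ g₀.2) (mat z *ᵥ u)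
      (by rw [mat_isUni]; exact huu) h2 hcon
  have hxk' : mat x ^ p ^ kx = 1 := by rw [← mat_pow, hxk, mat_one]
  have hyk' : mat y ^ p ^ ky = 1 := by rw [← mat_pow, hyk, mat_one]
  obtain ⟨cx, hcx⟩ := hline x hx
  obtain ⟨cy, hcy⟩ := hline y hy
  have hcx1 := eigen_one (mat x) kx hxk' u hu cx hcx
  have hcy1 := eigen_one (mat y) ky hyk' u hu cy hcy
  rw [hcx1, one_smul] at hcx
  rw [hcy1, one_smul] at hcy
  apply mat_injective
  rw [mat_pow, mat_mul, mat_one]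
  exact mul_pow_eq_one hF u hu huu (mat x) (mat y) (mat_isUni x) (mat_isUni y) kx ky hxk' hyk'
    hcx hcy

end grp

end Cfsg.Agent.Lib.Helper9.SU3Local
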