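import Mathlib
import Cfsg.Prelude.Def_Classical
import Cfsg.Agent.Lib.Helper14.Unitary
import Cfsg.Agent.Lib.Helper14.Unitary2
import Cfsg.Agent.Lib.Helper14.Unitary3
import Cfsg.Agent.Lib.Helper9.SU3Local

/-!
helper9: involutions of `SU_3(q)`, `q` odd.  Every involution is the map `u ↦ 2 h(u,v) v - u`
(`R q v`) attached to a unit vector `v`, determined up to a scalar of norm one.
-/

set_option autoImplicit false
set_option linter.unusedSectionVars false
set_option linter.unusedVariables false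
set_option linter.style.haveILetI false

namespace Cfsg.Agent.Lib.Helper9.SU3Invol

open Cfsg.Agent.Lib.Helper14 Cfsg.Agent.Lib.Helper9.SU3Local Matrix Finset

section basic

variable {F : Type*} [Field F] [Fintype F] [DecidableEq F] {q : ℕ}

local notation "hh" => Cfsg.hermForm 3 F q

theorem two_ne_zero_of_odd (hq : Odd q) (hF : Fintype.card F = q ^ 2) : (2 : F) ≠ 0 := by
  obtain ⟨p, j, hp, hchar, rfl⟩ := herm_exists_char hF
  haveI := hchar
  intro h2
  have h : (p : ℕ) ∣ 2 := by
    have h3 : ((2 : ℕ) : F) = 0 := by exact_mod_cast h2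
    exact (CharP.cast_eq_zero_iff F p 2).mp h3
  have hp2 : p = 2 := (Nat.prime_dvd_prime_iff_eq hp Nat.prime_two).mp h
  subst hp2
  have hq2 := herm_two_le hF
  rcases j with _ | j
  · simp at hq2
  · rw [pow_succ] at hq
    exact (Nat.not_even_iff_odd.mpr hq) (even_two.mul_left _)

theorem two_pow_q (hF : Fintype.card F = q ^ 2) : (2 : F) ^ q = 2 := by
  have := herm_add_pow hF (1 : F) 1
  rw [one_pow, one_add_one_eq_two] at this
  exact this

theorem hh_sub_right (hF : Fintype.card F = q ^ 2) (u v w : Fin 3 → F) :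
    hh u (v - w) = hh u v - hh u w := by
  have := hermForm_add_right hF u (v - w) w
  rw [sub_add_cancel] at this
  rw [this]; ring

theorem hh_neg_right (hF : Fintype.card F = q ^ 2) (u v : Fin 3 → F) :
    hh u (-v) = - hh u v := by
  have := hh_sub_right hF u 0 v
  rw [zero_sub, hermForm_zero_right hF, zero_sub] at this
  exact this

/-- matrices are determined by their action on vectors -/
theorem mat_ext_mulVec {A B : Matrix (Fin 3) (Fin 3) F} (h : ∀ u, A.mulVec u = B.mulVec u) :
    A = B := by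
  ext i j
  have := congrFun (h (Pi.single j 1)) i
  simpa [Matrix.mulVec_single_one] using this

/-- the "reflection" `u ↦ 2 h(u,v) v - u` -/
def R (q : ℕ) (v : Fin 3 → F) : Matrix (Fin 3) (Fin 3) F :=
  Matrix.of fun i j => 2 * v i * (v j) ^ q - (if i = j then 1 else 0)

theorem R_mulVec (v u : Fin 3 → F) : (R q v).mulVec u = (2 * hh u v) • v - u := by
  funext i
  simp only [R, Matrix.mulVec, dotProduct, Cfsg.hermForm, Fin.sum_univ_three, Matrix.of_apply,
    Pi.sub_apply, Pi.smul_apply, smul_eq_mul]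
  fin_cases i <;> simp <;> ring

theorem hh_R_left (hF : Fintype.card F = q ^ 2) (v u w : Fin 3 → F) :
    hh ((R q v).mulVec u) w = 2 * hh u v * hh v w - hh u w := by
  rw [R_mulVec, hermForm_sub_left, hermForm_smul_left]

theorem hh_R_right (hF : Fintype.card F = q ^ 2) (v u w : Fin 3 → F) :
    hh w ((R q v).mulVec u) = 2 * hh v u * hh w v - hh w u := by
  rw [R_mulVec, hh_sub_right hF, hermForm_smul_right, mul_pow, two_pow_q hF, hermForm_conj hF]

theorem R_mul_self (hF : Fintype.card F = q ^ 2) (v : Fin 3 → F) (hv : hh v v = 1) :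
    R q v * R q v = 1 := by
  apply mat_ext_mulVec
  intro u
  rw [← Matrix.mulVec_mulVec, Matrix.one_mulVec, R_mulVec v ((R q v).mulVec u), hh_R_left hF,
    R_mulVec, hv]
  funext i
  simp only [Pi.sub_apply, Pi.smul_apply, smul_eq_mul]
  ring

theorem R_isUni (hF : Fintype.card F = q ^ 2) (v : Fin 3 → F) (hv : hh v v = 1) :
    IsUni F q 3 (R q v) := by
  intro u w
  rw [hh_R_left hF, hh_R_right hF, hh_R_right hF, hv]
  ring

theorem R_det (v : Fin 3 → F) (hv : hh v v = 1) : (R q v).det = 1 := by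
  unfold Cfsg.hermForm at hv
  rw [Fin.sum_univ_three] at hv
  rw [Matrix.det_fin_three]
  simp only [R, Matrix.of_apply]
  simp
  linear_combination (2 : F) * hv

/-- conjugating a reflection by a unitary matrix -/
theorem uni_mul_R {g : Matrix (Fin 3) (Fin 3) F} (hg : IsUni F q 3 g) (v : Fin 3 → F) :
    g * R q v = R q (g.mulVec v) * g := by
  apply mat_ext_mulVec
  intro u
  rw [← Matrix.mulVec_mulVec, ← Matrix.mulVec_mulVec, R_mulVec, R_mulVec, hg, Matrix.mulVec_sub,
    Matrix.mulVec_smul]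

theorem R_smul (v : Fin 3 → F) (l : F) (hl : l * l ^ q = 1) : R q (l • v) = R q v := by
  ext i j
  simp only [R, Matrix.of_apply, Pi.smul_apply, smul_eq_mul, mul_pow]
  have : 2 * (l * v i) * (l ^ q * v j ^ q) = (l * l ^ q) * (2 * v i * v j ^ q) := by ring
  rw [this, hl, one_mul]

theorem R_eq_iff (hq : Odd q) (hF : Fintype.card F = q ^ 2) (v w : Fin 3 → F) (hv : hh v v = 1)
    (hw : hh w w = 1) : R q v = R q w ↔ ∃ l : F, l * l ^ q = 1 ∧ w = l • v := by
  have h2 := two_ne_zero_of_odd hq hF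
  constructor
  · intro h
    have h1 : (R q v).mulVec w = (R q w).mulVec w := by rw [h]
    rw [R_mulVec, R_mulVec, hw] at h1
    have h3 : w = hh w v • v := by
      funext i
      have h4 := congrFun h1 i
      simp only [Pi.sub_apply, Pi.smul_apply, smul_eq_mul, mul_one] at h4
      apply mul_left_cancel₀ h2
      simp only [Pi.smul_apply, smul_eq_mul]
      linear_combination -h4
    refine ⟨hh w v, ?_, h3⟩
    have h5 := hw
    rw [h3, hermForm_smul_left, hermForm_smul_right, hv, mul_one] at h5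
    exact h5
  · rintro ⟨l, hl, rfl⟩
    exact (R_smul v l hl).symm

theorem hermAB_two_snd (q : ℕ) : (hermAB q 2).2 = (q + 1) + (q + 1) * (1 + (q - 2) * (q + 1)) := by
  simp [hermAB]

theorem hermAB_one_snd (q : ℕ) : (hermAB q 1).2 = q + 1 := by
  simp [hermAB]

theorem exists_perp_one (hF : Fintype.card F = q ^ 2) (v : Fin 3 → F) (hv : hh v v = 1) :
    ∃ w : Fin 3 → F, hh w v = 0 ∧ hh w w = 1 := by
  have hO : OrthoN F q (1 + 2) 1 (fun _ => v) := by
    intro i j
    rw [if_pos (Subsingleton.elim i j)]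
    exact hv
  have h1 := perpCount_one hF hO
  have hpos : 0 < perpCount F q (1 + 2) (fun _ : Fin 1 => v) 1 := by
    rw [h1, hermAB_two_snd]; omega
  unfold perpCount at hpos
  obtain ⟨⟨w, hw1, hw2⟩⟩ := (Nat.card_pos_iff.mp hpos).1
  exact ⟨w, hw1 0, hw2⟩

theorem exists_perp_two (hF : Fintype.card F = q ^ 2) (v w : Fin 3 → F) (hv : hh v v = 1)
    (hw : hh w w = 1) (hwv : hh w v = 0) :
    ∃ z : Fin 3 → F, hh z v = 0 ∧ hh z w = 0 ∧ hh z z = 1 := by
  have hO : OrthoN F q (2 + 1) 2 ![v, w] := by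
    intro i j
    fin_cases i <;> fin_cases j
    · simpa using hv
    · simpa using hermForm_eq_zero_symm hF _ _ hwv
    · simpa using hwv
    · simpa using hw
  have h1 := perpCount_one hF hO
  have hpos : 0 < perpCount F q (2 + 1) ![v, w] 1 := by
    rw [h1, hermAB_one_snd]; omega
  unfold perpCount at hpos
  obtain ⟨⟨z, hz1, hz2⟩⟩ := (Nat.card_pos_iff.mp hpos).1
  exact ⟨z, hz1 0, hz1 1, hz2⟩

/-- the matrix with columns `a b c` -/
def colMat (a b c : Fin 3 → F) : Matrix (Fin 3) (Fin 3) F := Matrix.of (fun i j => ![a, b, c] j i)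

theorem colMat_orthoN (hF : Fintype.card F = q ^ 2) (a b c : Fin 3 → F) (haa : hh a a = 1)
    (hbb : hh b b = 1) (hcc : hh c c = 1) (hba : hh b a = 0) (hca : hh c a = 0) (hcb : hh c b = 0) :
    OrthoN F q 3 3 (fun j i => colMat a b c i j) := by
  intro i j
  fin_cases i <;> fin_cases j
  · simpa [colMat] using haa
  · simpa [colMat] using hermForm_eq_zero_symm hF _ _ hba
  · simpa [colMat] using hermForm_eq_zero_symm hF _ _ hca
  · simpa [colMat] using hba
  · simpa [colMat] using hbb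
  · simpa [colMat] using hermForm_eq_zero_symm hF _ _ hcb
  · simpa [colMat] using hca
  · simpa [colMat] using hcb
  · simpa [colMat] using hcc

theorem colMat_mulVec (a b c : Fin 3 → F) (u : Fin 3 → F) :
    (colMat a b c).mulVec u = u 0 • a + u 1 • b + u 2 • c := by
  funext i
  simp only [colMat, Matrix.mulVec, dotProduct, Fin.sum_univ_three, Matrix.of_apply, Pi.add_apply,
    Pi.smul_apply, smul_eq_mul]
  simp
  ring

theorem colMat_det_smul (a b c : Fin 3 → F) (l : F) :
    (colMat a b (l • c)).det = l * (colMat a b c).det := by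
  rw [Matrix.det_fin_three, Matrix.det_fin_three]
  simp [colMat]
  ring

theorem frame_expand (hF : Fintype.card F = q ^ 2) (a b c : Fin 3 → F) (haa : hh a a = 1)
    (hbb : hh b b = 1) (hcc : hh c c = 1) (hba : hh b a = 0) (hca : hh c a = 0) (hcb : hh c b = 0)
    (u : Fin 3 → F) : u = hh u a • a + hh u b • b + hh u c • c := by
  have hO := colMat_orthoN hF a b c haa hbb hcc hba hca hcb
  have hdet := det_ne_zero_of_orthoN hF _ hO
  have hab := hermForm_eq_zero_symm hF _ _ hba
  have hac := hermForm_eq_zero_symm hF _ _ hca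
  have hbc := hermForm_eq_zero_symm hF _ _ hcb
  set U := colMat a b c with hU
  have h1 : U.mulVec (U⁻¹.mulVec u) = u := by
    rw [Matrix.mulVec_mulVec, Matrix.mul_nonsing_inv _ (isUnit_iff_ne_zero.mpr hdet),
      Matrix.one_mulVec]
  rw [hU, colMat_mulVec] at h1
  set x := U⁻¹.mulVec u 0
  set y := U⁻¹.mulVec u 1
  set z := U⁻¹.mulVec u 2
  have ha : hh u a = x := by
    rw [← h1, hermForm_add_left, hermForm_add_left, hermForm_smul_left, hermForm_smul_left,
      hermForm_smul_left, haa, hba, hca]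
    ring
  have hb : hh u b = y := by
    rw [← h1, hermForm_add_left, hermForm_add_left, hermForm_smul_left, hermForm_smul_left,
      hermForm_smul_left, hab, hbb, hcb]
    ring
  have hc : hh u c = z := by
    rw [← h1, hermForm_add_left, hermForm_add_left, hermForm_smul_left, hermForm_smul_left,
      hermForm_smul_left, hac, hbc, hcc]
    ring
  rw [ha, hb, hc, h1]

/-- unit vectors are first columns of special unitary matrices -/
theorem exists_SU_frame (hF : Fintype.card F = q ^ 2) (v : Fin 3 → F) (hv : hh v v = 1) :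
    ∃ g : ↥(Cfsg.SU 3 F q), (mat g).mulVec (Pi.single 0 1) = v := by
  obtain ⟨w, hwv, hww⟩ := exists_perp_one hF v hv
  obtain ⟨z, hzv, hzw, hzz⟩ := exists_perp_two hF v w hv hww hwv
  have hO := colMat_orthoN hF v w z hv hww hzz hwv hzv hzw
  have hdet := det_mul_det_pow_of_orthoN hF _ hO
  set c := (colMat v w z).det ^ q with hc
  have hcc : c * c ^ q = 1 := by
    rw [hc, ← pow_mul, ← pow_two, herm_pow_card hF, mul_comm]
    exact hdet
  have hz' : hh (c • z) (c • z) = 1 := by
    rw [hermForm_smul_left, hermForm_smul_right, hzz, mul_one, hcc]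
  have hO' := colMat_orthoN hF v w (c • z) hv hww hz'  hwv
    (by rw [hermForm_smul_left, hzv, mul_zero]) (by rw [hermForm_smul_left, hzw, mul_zero])
  have hdet' : (colMat v w (c • z)).det = 1 := by
    rw [colMat_det_smul, hc, mul_comm]
    exact hdet
  refine ⟨⟨(⟨colMat v w (c • z), hdet'⟩ : Matrix.SpecialLinearGroup (Fin 3) F), ?_⟩, ?_⟩
  · apply (mem_SU_iff _).mpr
    intro u u'
    exact hermForm_mulVec_of_orthoN hF _ hO' u u'
  · show (colMat v w (c • z)).mulVec (Pi.single 0 1) = v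
    rw [colMat_mulVec]
    simp

end basic

section normalform

variable {F : Type*} [Field F] [Fintype F] [DecidableEq F] {q : ℕ}

local notation "hh" => Cfsg.hermForm 3 F q

theorem exists_unit_smul (hF : Fintype.card F = q ^ 2) (v : Fin 3 → F) (hv : hh v v ≠ 0) :
    ∃ l : F, l ≠ 0 ∧ hh (l • v) (l • v) = 1 := by
  have hq := herm_two_le hF
  have hc : (hh v v)⁻¹ ∈ fixStar F q := by
    rw [mem_fixStar]
    exact ⟨inv_ne_zero hv, by rw [inv_pow, hermForm_self_pow hF]⟩
  have hpos : 0 < normFiber q (hh v v)⁻¹ := by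
    rw [normFiber_of_mem hF _ hc]; omega
  unfold normFiber at hpos
  obtain ⟨l, hl⟩ := Finset.card_pos.mp hpos
  simp only [mem_filter, mem_univ, true_and] at hl
  refine ⟨l, ?_, ?_⟩
  · rintro rfl
    rw [zero_mul] at hl
    exact inv_ne_zero hv hl.symm
  · rw [hermForm_smul_left, hermForm_smul_right, ← mul_assoc, hl, inv_mul_cancel₀ hv]

theorem exists_conj_ne (hF : Fintype.card F = q ^ 2) : ∃ l : F, l ^ q ≠ l := by
  obtain ⟨l, hl1, hl2⟩ := exists_normOne_sq_ne_one hF
  refine ⟨l, ?_⟩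
  intro h
  rw [h] at hl1
  exact hl2 hl1

/-- a Hermitian matrix whose quadratic form vanishes is zero (odd characteristic) -/
theorem herm_mat_eq_zero (hq : Odd q) (hF : Fintype.card F = q ^ 2) (T : Matrix (Fin 3) (Fin 3) F)
    (hT : ∀ u w, hh (T.mulVec u) w = hh u (T.mulVec w)) (h0 : ∀ u, hh u (T.mulVec u) = 0) :
    T = 0 := by
  have h2 := two_ne_zero_of_odd hq hF
  obtain ⟨l, hl⟩ := exists_conj_ne hF
  -- polarization
  have hpol : ∀ u w, hh u (T.mulVec w) + hh u (T.mulVec w) ^ q = 0 := by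
    intro u w
    have h1 := h0 (u + w)
    rw [Matrix.mulVec_add, hermForm_add_left, hermForm_add_right hF, hermForm_add_right hF,
      h0 u, h0 w, zero_add, add_zero] at h1
    rw [hermForm_conj hF, hT w u]
    linear_combination h1
  have hz : ∀ u w, hh u (T.mulVec w) = 0 := by
    intro u w
    have h1 := hpol u w
    have h3 := hpol (l • u) w
    rw [hermForm_smul_left, mul_pow] at h3
    have h4 : (l - l ^ q) * hh u (T.mulVec w) = 0 := by
      linear_combination h3 - l ^ q * h1
    rcases mul_eq_zero.mp h4 with h | h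
    · exact absurd (sub_eq_zero.mp h).symm hl
    · exact h
  apply mat_ext_mulVec
  intro w
  rw [Matrix.zero_mulVec]
  exact herm_nondeg hF _ (fun u => hz u w)

theorem uni_invol_herm {M : Matrix (Fin 3) (Fin 3) F} (hM : IsUni F q 3 M) (hM2 : M * M = 1)
    (u w : Fin 3 → F) : hh (M.mulVec u) w = hh u (M.mulVec w) := by
  have h1 : M.mulVec (M.mulVec w) = w := by
    rw [Matrix.mulVec_mulVec, hM2, Matrix.one_mulVec]
  conv_lhs => rw [← h1]
  exact hM u (M.mulVec w)

/-- an involution of `SU_3` fixes a non-isotropic vector -/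
theorem exists_fixed_nonisotropic (hq : Odd q) (hF : Fintype.card F = q ^ 2)
    {M : Matrix (Fin 3) (Fin 3) F} (hM : IsUni F q 3 M) (hdet : M.det = 1) (hM2 : M * M = 1) :
    ∃ v, M.mulVec v = v ∧ hh v v ≠ 0 := by
  have h2 := two_ne_zero_of_odd hq hF
  by_contra hcon
  push Not at hcon
  have hT : (1 + M) = 0 := by
    apply herm_mat_eq_zero hq hF
    · intro u w
      rw [Matrix.add_mulVec, Matrix.add_mulVec, Matrix.one_mulVec, Matrix.one_mulVec,
        hermForm_add_left, hermForm_add_right hF, uni_invol_herm hM hM2]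
    · intro u
      have hfix : M.mulVec (u + M.mulVec u) = u + M.mulVec u := by
        rw [Matrix.mulVec_add, Matrix.mulVec_mulVec, hM2, Matrix.one_mulVec, add_comm]
      have h1 := hcon _ hfix
      rw [hermForm_add_left, hermForm_add_right hF, hermForm_add_right hF, hM u u,
        uni_invol_herm hM hM2 u u] at h1
      rw [Matrix.add_mulVec, Matrix.one_mulVec, hermForm_add_right hF]
      apply mul_left_cancel₀ h2
      linear_combination h1
  have hM' : M = -1 := eq_neg_of_add_eq_zero_right hT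
  rw [hM'] at hdet
  rw [Matrix.det_neg, Matrix.det_one, Fintype.card_fin] at hdet
  apply h2
  linear_combination -hdet

theorem colMat_mul (M : Matrix (Fin 3) (Fin 3) F) (a b c : Fin 3 → F) :
    M * colMat a b c = colMat (M.mulVec a) (M.mulVec b) (M.mulVec c) := by
  ext i j
  fin_cases j <;> simp [colMat, Matrix.mul_apply, Matrix.mulVec, dotProduct]

theorem colMat_det_comb (a b c : Fin 3 → F) (α β γ δ : F) :
    (colMat a (α • b + β • c) (γ • b + δ • c)).det = (α * δ - β * γ) * (colMat a b c).det := by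
  rw [Matrix.det_fin_three, Matrix.det_fin_three]
  simp [colMat]
  ring

/-- normal form: every involution of `SU_3(q)`, `q` odd, is a reflection `R v` -/
theorem invol_eq_R (hq : Odd q) (hF : Fintype.card F = q ^ 2)
    {M : Matrix (Fin 3) (Fin 3) F} (hM : IsUni F q 3 M) (hdet : M.det = 1) (hM2 : M * M = 1)
    (hM1 : M ≠ 1) : ∃ v, hh v v = 1 ∧ M = R q v := by
  have h2 := two_ne_zero_of_odd hq hF
  obtain ⟨v₀, hv₀, hv₀n⟩ := exists_fixed_nonisotropic hq hF hM hdet hM2
  obtain ⟨l, hl0, hl⟩ := exists_unit_smul hF v₀ hv₀n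
  obtain ⟨v, hvdef⟩ : ∃ v, v = l • v₀ := ⟨_, rfl⟩
  rw [← hvdef] at hl
  have hMv : M.mulVec v = v := by rw [hvdef, Matrix.mulVec_smul, hv₀]
  obtain ⟨w, hwv, hww⟩ := exists_perp_one hF v hl
  obtain ⟨z, hzv, hzw, hzz⟩ := exists_perp_two hF v w hl hww hwv
  have hwz := hermForm_eq_zero_symm hF _ _ hzw
  have hherm := uni_invol_herm hM hM2
  have hexp := frame_expand hF v w z hl hww hzz hwv hzv hzw
  obtain ⟨α, hα⟩ : ∃ α, hh (M.mulVec w) w = α := ⟨_, rfl⟩
  obtain ⟨β, hβ⟩ : ∃ β, hh (M.mulVec w) z = β := ⟨_, rfl⟩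
  obtain ⟨γ, hγ⟩ : ∃ γ, hh (M.mulVec z) w = γ := ⟨_, rfl⟩
  obtain ⟨δ, hδ⟩ : ∃ δ, hh (M.mulVec z) z = δ := ⟨_, rfl⟩
  have hMw : M.mulVec w = α • w + β • z := by
    have := hexp (M.mulVec w)
    rw [hherm w v, hMv, hwv, zero_smul, zero_add, hα, hβ] at this
    exact this
  have hMz : M.mulVec z = γ • w + δ • z := by
    have := hexp (M.mulVec z)
    rw [hherm z v, hMv, hzv, zero_smul, zero_add, hγ, hδ] at this
    exact this
  have hMMw : M.mulVec (M.mulVec w) = w := by rw [Matrix.mulVec_mulVec, hM2, Matrix.one_mulVec]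
  have hMMz : M.mulVec (M.mulVec z) = z := by rw [Matrix.mulVec_mulVec, hM2, Matrix.one_mulVec]
  rw [hMw, Matrix.mulVec_add, Matrix.mulVec_smul, Matrix.mulVec_smul, hMw, hMz] at hMMw
  rw [hMz, Matrix.mulVec_add, Matrix.mulVec_smul, Matrix.mulVec_smul, hMw, hMz] at hMMz
  have e1 : α * α + β * γ = 1 := by
    have := congrArg (fun x => hh x w) hMMw
    simp only [hermForm_add_left, hermForm_smul_left, hww, hzw] at this
    linear_combination this
  have e2 : α * β + β * δ = 0 := by
    have := congrArg (fun x => hh x z) hMMw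
    simp only [hermForm_add_left, hermForm_smul_left, hwz, hzz] at this
    linear_combination this
  have e3 : γ * α + δ * γ = 0 := by
    have := congrArg (fun x => hh x w) hMMz
    simp only [hermForm_add_left, hermForm_smul_left, hww, hzw] at this
    linear_combination this
  have e4 : γ * β + δ * δ = 1 := by
    have := congrArg (fun x => hh x z) hMMz
    simp only [hermForm_add_left, hermForm_smul_left, hwz, hzz] at this
    linear_combination this
  have e5 : α * δ - β * γ = 1 := by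
    have hO := colMat_orthoN hF v w z hl hww hzz hwv hzv hzw
    have hd := det_ne_zero_of_orthoN hF _ hO
    have h1 : (M * colMat v w z).det = (colMat v w z).det := by rw [Matrix.det_mul, hdet, one_mul]
    rw [colMat_mul, hMv, hMw, hMz, colMat_det_comb] at h1
    exact mul_right_cancel₀ hd (by rw [h1, one_mul])
  have hs : α + δ ≠ 0 := by
    intro h
    have hδ' : δ = -α := by linear_combination h
    rw [hδ'] at e5
    apply h2
    linear_combination -e5 - e1
  have hβ0 : β = 0 := by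
    have : β * (α + δ) = 0 := by linear_combination e2
    rcases mul_eq_zero.mp this with h | h
    · exact h
    · exact absurd h hs
  have hγ0 : γ = 0 := by
    have : γ * (α + δ) = 0 := by linear_combination e3
    rcases mul_eq_zero.mp this with h | h
    · exact h
    · exact absurd h hs
  rw [hβ0, hγ0] at e1 e4 e5
  have hαδ : α = δ := by linear_combination (-α) * e4 + δ * e5
  rw [hβ0, zero_smul, add_zero] at hMw
  rw [hγ0, zero_smul, zero_add, ← hαδ] at hMz
  have hα1 : (α - 1) * (α + 1) = 0 := by linear_combination e1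
  rcases mul_eq_zero.mp hα1 with h | h
  · exfalso
    have hα' : α = 1 := by linear_combination h
    rw [hα', one_smul] at hMw hMz
    apply hM1
    apply mat_ext_mulVec
    intro u
    rw [Matrix.one_mulVec]
    conv_lhs => rw [hexp u]
    rw [Matrix.mulVec_add, Matrix.mulVec_add, Matrix.mulVec_smul, Matrix.mulVec_smul,
      Matrix.mulVec_smul, hMv, hMw, hMz]
    exact (hexp u).symm
  · have hα' : α = -1 := by linear_combination h
    rw [hα'] at hMw hMz
    refine ⟨v, hl, ?_⟩
    apply mat_ext_mulVec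
    intro u
    rw [R_mulVec]
    obtain ⟨a, ha⟩ : ∃ a, hh u v = a := ⟨_, rfl⟩
    obtain ⟨b, hb⟩ : ∃ b, hh u w = b := ⟨_, rfl⟩
    obtain ⟨c, hc⟩ : ∃ c, hh u z = c := ⟨_, rfl⟩
    have hu := hexp u
    rw [ha, hb, hc] at hu
    rw [ha, hu, Matrix.mulVec_add, Matrix.mulVec_add, Matrix.mulVec_smul, Matrix.mulVec_smul,
      Matrix.mulVec_smul, hMv, hMw, hMz]
    funext i
    simp only [Pi.add_apply, Pi.smul_apply, Pi.sub_apply, smul_eq_mul]
    ring

end normalform

section grp

variable {F : Type*} [Field F] [Fintype F] [DecidableEq F] {q : ℕ}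

local notation "hh" => Cfsg.hermForm 3 F q

/-- commuting reflections -/
theorem R_commute_iff (hq : Odd q) (hF : Fintype.card F = q ^ 2) (v w : Fin 3 → F)
    (hv : hh v v = 1) (hw : hh w w = 1) :
    R q v * R q w = R q w * R q v ↔ hh w v = 0 ∨ ∃ l : F, w = l • v := by
  have h2 := two_ne_zero_of_odd hq hF
  constructor
  · intro h
    rw [uni_mul_R (R_isUni hF v hv) w] at h
    have h1 : R q ((R q v).mulVec w) = R q w := by
      have := congrArg (fun X => X * R q v) h
      simp only [Matrix.mul_assoc, R_mul_self hF v hv, Matrix.mul_one] at this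
      exact this
    have hu : hh ((R q v).mulVec w) ((R q v).mulVec w) = 1 := by
      rw [R_isUni hF v hv, hw]
    obtain ⟨l, hl, hl2⟩ := (R_eq_iff hq hF w _ hw hu).mp h1.symm
    rw [R_mulVec] at hl2
    by_cases h0 : hh w v = 0
    · left; exact h0
    · right
      have hl1 : l + 1 ≠ 0 := by
        intro hl1
        have h3 : (2 * hh w v) • v = 0 := by
          have : (2 * hh w v) • v = (l + 1) • w := by
            rw [add_smul, one_smul, ← hl2]; abel
          rw [this, hl1, zero_smul]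
        rcases smul_eq_zero.mp h3 with h4 | h4
        · exact (mul_ne_zero h2 h0) h4
        · rw [h4, hermForm_zero_left] at hv
          exact zero_ne_one hv
      refine ⟨(2 * hh w v) / (l + 1), ?_⟩
      have : (2 * hh w v) • v = (l + 1) • w := by
        rw [add_smul, one_smul, ← hl2]; abel
      rw [div_eq_inv_mul, ← smul_smul, this, smul_smul, inv_mul_cancel₀ hl1, one_smul]
  · rintro (h | ⟨l, rfl⟩)
    · have h' := hermForm_eq_zero_symm hF _ _ h
      apply mat_ext_mulVec
      intro u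
      rw [← Matrix.mulVec_mulVec, ← Matrix.mulVec_mulVec]
      simp only [R_mulVec, hermForm_sub_left, hermForm_smul_left, h, h']
      funext i
      simp only [Pi.sub_apply, Pi.smul_apply, smul_eq_mul]
      ring
    · have hl : l * l ^ q = 1 := by
        rw [hermForm_smul_left, hermForm_smul_right, hv, mul_one] at hw
        exact hw
      rw [R_smul v l hl]

variable (q) in
/-- the involution of `SU_3` attached to a unit vector -/
def refl (hF : Fintype.card F = q ^ 2) (v : Fin 3 → F) (hv : hh v v = 1) : ↥(Cfsg.SU 3 F q) :=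
  ⟨(⟨R q v, R_det v hv⟩ : Matrix.SpecialLinearGroup (Fin 3) F),
    (mem_SU_iff _).mpr (R_isUni hF v hv)⟩

theorem mat_refl (hF : Fintype.card F = q ^ 2) (v : Fin 3 → F) (hv : hh v v = 1) :
    mat (refl q hF v hv) = R q v := rfl

theorem refl_mul_self (hF : Fintype.card F = q ^ 2) (v : Fin 3 → F) (hv : hh v v = 1) :
    refl q hF v hv * refl q hF v hv = 1 := by
  apply mat_injective
  rw [mat_mul, mat_refl, mat_one, R_mul_self hF v hv]

theorem refl_ne_one (hq : Odd q) (hF : Fintype.card F = q ^ 2) (v : Fin 3 → F) (hv : hh v v = 1) :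
    refl q hF v hv ≠ 1 := by
  have h2 := two_ne_zero_of_odd hq hF
  intro h
  have h1 : R q v = 1 := by rw [← mat_refl hF v hv, h, mat_one]
  obtain ⟨w, hwv, hww⟩ := exists_perp_one hF v hv
  have h3 := R_mulVec (q := q) v w
  rw [h1, Matrix.one_mulVec, hwv, mul_zero, zero_smul, zero_sub] at h3
  have h4 : (2 : F) • w = 0 := by
    rw [two_smul]
    nth_rewrite 1 [h3]
    exact neg_add_cancel w
  rcases smul_eq_zero.mp h4 with h5 | h5
  · exact h2 h5
  · rw [h5, hermForm_zero_left] at hww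
    exact zero_ne_one hww

theorem exists_refl (hq : Odd q) (hF : Fintype.card F = q ^ 2) (t : ↥(Cfsg.SU 3 F q)) (ht : t ≠ 1)
    (ht2 : t * t = 1) : ∃ v, ∃ hv : hh v v = 1, t = refl q hF v hv := by
  have h1 : mat t * mat t = 1 := by rw [← mat_mul, ht2, mat_one]
  have h2 : mat t ≠ 1 := fun h => ht (mat_injective (by rw [h, mat_one]))
  obtain ⟨v, hv, hM⟩ := invol_eq_R hq hF (mat_isUni t) t.1.2 h1 h2
  exact ⟨v, hv, mat_injective (by rw [hM, mat_refl])⟩

theorem conj_refl (hF : Fintype.card F = q ^ 2) (g : ↥(Cfsg.SU 3 F q)) (v : Fin 3 → F)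
    (hv : hh v v = 1) :
    g * refl q hF v hv * g⁻¹ =
      refl q hF ((mat g).mulVec v) (by rw [mat_isUni g, hv]) := by
  apply mat_injective
  rw [mat_mul, mat_mul, mat_refl, mat_refl, uni_mul_R (mat_isUni g), Matrix.mul_assoc,
    mat_mul_inv, Matrix.mul_one]

theorem refl_eq_iff (hq : Odd q) (hF : Fintype.card F = q ^ 2) (v w : Fin 3 → F)
    (hv : hh v v = 1) (hw : hh w w = 1) :
    refl q hF v hv = refl q hF w hw ↔ ∃ l : F, l * l ^ q = 1 ∧ w = l • v := by
  rw [← R_eq_iff hq hF v w hv hw]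
  constructor
  · intro h
    rw [← mat_refl hF v hv, h, mat_refl]
  · intro h
    apply mat_injective
    rw [mat_refl, mat_refl, h]

theorem refl_commute_iff (hq : Odd q) (hF : Fintype.card F = q ^ 2) (v w : Fin 3 → F)
    (hv : hh v v = 1) (hw : hh w w = 1) :
    Commute (refl q hF v hv) (refl q hF w hw) ↔ hh w v = 0 ∨ ∃ l : F, w = l • v := by
  rw [← R_commute_iff hq hF v w hv hw]
  constructor
  · intro h
    have := congrArg mat h.eq
    rwa [mat_mul, mat_mul, mat_refl, mat_refl] at this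
  · intro h
    apply mat_injective
    rw [mat_mul, mat_mul, mat_refl, mat_refl, h]

/-- all involutions of `SU_3(q)` are conjugate -/
theorem invol_conj (hq : Odd q) (hF : Fintype.card F = q ^ 2) (t x : ↥(Cfsg.SU 3 F q))
    (ht : t ≠ 1) (ht2 : t * t = 1) (hx : x ≠ 1) (hx2 : x * x = 1) :
    ∃ g : ↥(Cfsg.SU 3 F q), g * t * g⁻¹ = x := by
  obtain ⟨v₀, hv₀, rfl⟩ := exists_refl hq hF t ht ht2
  obtain ⟨v₁, hv₁, rfl⟩ := exists_refl hq hF x hx hx2
  obtain ⟨g₀, hg₀⟩ := exists_SU_frame hF v₀ hv₀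
  obtain ⟨g₁, hg₁⟩ := exists_SU_frame hF v₁ hv₁
  refine ⟨g₁ * g₀⁻¹, ?_⟩
  rw [conj_refl]
  congr 1
  rw [mat_mul, ← hg₀, Matrix.mulVec_mulVec, Matrix.mul_assoc, mat_inv_mul, Matrix.mul_one, hg₁]

end grp

section cnt

variable {F : Type*} [Field F] [Fintype F] [DecidableEq F] {q : ℕ}

local notation "hh" => Cfsg.hermForm 3 F q

theorem card_eq_mul_of_fibers {A B : Type*} [Finite A] [Finite B] (f : A → B) (k : ℕ)
    (h : ∀ b, Nat.card {a // f a = b} = k) : Nat.card A = Nat.card B * k := by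
  classical
  haveI := Fintype.ofFinite A
  haveI := Fintype.ofFinite B
  rw [Nat.card_congr (Equiv.sigmaFiberEquiv f).symm, Nat.card_sigma,
    Finset.sum_congr rfl (fun b _ => h b), Finset.sum_const, Finset.card_univ, smul_eq_mul,
    Nat.card_eq_fintype_card]

theorem card_GU3 (hF : Fintype.card F = q ^ 2) :
    Nat.card (Cfsg.GU 3 F q) = q ^ 3 * ((q + 1) * (q ^ 2 - 1) * (q ^ 3 + 1)) := by
  rw [card_GU hF 3]
  have e0 : Even 0 := by decide
  have e1 : ¬ Even 1 := by decide
  have e2 : Even 2 := by decide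
  simp [Finset.prod_range_succ, e0, e1, e2]

theorem card_GU2 (hF : Fintype.card F = q ^ 2) :
    Nat.card (Cfsg.GU 2 F q) = q * ((q + 1) * (q ^ 2 - 1)) := by
  rw [card_GU hF 2]
  have e0 : Even 0 := by decide
  have e1 : ¬ Even 1 := by decide
  simp [Finset.prod_range_succ, e0, e1]

theorem card_unitVec (hF : Fintype.card F = q ^ 2) :
    Nat.card {v : Fin 3 → F // hh v v = 1} = q ^ 2 * (q ^ 3 + 1) := by
  have hq := herm_two_le hF
  have h1 : Nat.card {v : Fin 3 → F // hh v v = 1} = hermCount F q 3 1 := rfl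
  rw [h1, hermCount_eq hF 3 1, if_neg one_ne_zero, if_pos (one_pow q), hermAB_snd_succ hq 2]
  have e2 : Even 2 := by decide
  simp [e2]

theorem card_refl_fiber (hq : Odd q) (hF : Fintype.card F = q ^ 2) (v₀ : Fin 3 → F)
    (hv₀ : hh v₀ v₀ = 1) :
    Nat.card {v : {v : Fin 3 → F // hh v v = 1} // refl q hF v.1 v.2 = refl q hF v₀ hv₀} =
      q + 1 := by
  rw [← card_normOne hF]
  symm
  apply Nat.card_congr
  have hnorm : ∀ l : normOne F q, ((l : Fˣ) : F) * ((l : Fˣ) : F) ^ q = 1 := by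
    intro l
    have h1 := (mem_normOne (l : Fˣ)).mp l.2
    have h2 := congrArg Units.val h1
    rw [Units.val_pow_eq_pow_val, Units.val_one, pow_succ'] at h2
    exact h2
  have hv0 : v₀ ≠ 0 := by
    rintro rfl
    rw [hermForm_zero_left] at hv₀
    exact zero_ne_one hv₀
  have hunit : ∀ l : normOne F q, hh (((l : Fˣ) : F) • v₀) (((l : Fˣ) : F) • v₀) = 1 := by
    intro l
    rw [hermForm_smul_left, hermForm_smul_right, hv₀, mul_one, hnorm l]
  refine Equiv.ofBijective (fun l => ⟨⟨((l : Fˣ) : F) • v₀, hunit l⟩, ?_⟩) ⟨?_, ?_⟩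
  · exact ((refl_eq_iff hq hF v₀ _ hv₀ (hunit l)).mpr ⟨_, hnorm l, rfl⟩).symm
  · intro l l' h
    have h1 : ((l : Fˣ) : F) • v₀ = ((l' : Fˣ) : F) • v₀ := congrArg (fun x => x.1.1) h
    have h2 : (((l : Fˣ) : F) - ((l' : Fˣ) : F)) • v₀ = 0 := by rw [sub_smul, h1, sub_self]
    rcases smul_eq_zero.mp h2 with h3 | h3
    · exact Subtype.ext (Units.ext (sub_eq_zero.mp h3))
    · exact absurd h3 hv0
  · rintro ⟨⟨v, hv⟩, hvx⟩
    obtain ⟨l, hl, hl2⟩ := (refl_eq_iff hq hF v₀ v hv₀ hv).mp hvx.symm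
    have hl0 : l ≠ 0 := by
      rintro rfl
      rw [zero_mul] at hl
      exact zero_ne_one hl
    refine ⟨⟨Units.mk0 l hl0, ?_⟩, ?_⟩
    · rw [mem_normOne]
      apply Units.ext
      rw [Units.val_pow_eq_pow_val, Units.val_one, Units.val_mk0, pow_succ']
      exact hl
    · apply Subtype.ext
      apply Subtype.ext
      exact hl2.symm

/-- `(q+1) · #involutions = #unit vectors` -/
theorem card_invol_mul (hq : Odd q) (hF : Fintype.card F = q ^ 2) :
    Nat.card {x : ↥(Cfsg.SU 3 F q) // x ≠ 1 ∧ x * x = 1} * (q + 1) = q ^ 2 * (q ^ 3 + 1) := by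
  rw [← card_unitVec hF]
  symm
  apply card_eq_mul_of_fibers (fun v : {v : Fin 3 → F // hh v v = 1} =>
    (⟨refl q hF v.1 v.2, refl_ne_one hq hF v.1 v.2, refl_mul_self hF v.1 v.2⟩ :
      {x : ↥(Cfsg.SU 3 F q) // x ≠ 1 ∧ x * x = 1}))
  intro x
  obtain ⟨v₀, hv₀, hx⟩ := exists_refl hq hF x.1 x.2.1 x.2.2
  rw [← card_refl_fiber hq hF v₀ hv₀]
  apply Nat.card_congr
  apply Equiv.subtypeEquivRight
  intro v
  rw [Subtype.ext_iff, hx]

theorem cube_add_one (q : ℕ) : q ^ 3 + 1 = (q + 1) * (q ^ 2 - q + 1) := by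
  have h : q ≤ q ^ 2 := by nlinarith
  obtain ⟨m, hm⟩ := Nat.exists_eq_add_of_le h
  rw [hm, Nat.add_sub_cancel_left]
  have : q ^ 3 = q * q ^ 2 := by ring
  rw [this, hm]
  ring_nf
  linarith

theorem card_invol (hq : Odd q) (hF : Fintype.card F = q ^ 2) :
    Nat.card {x : ↥(Cfsg.SU 3 F q) // x ≠ 1 ∧ x * x = 1} = q ^ 2 * (q ^ 2 - q + 1) := by
  have h1 := card_invol_mul hq hF
  rw [cube_add_one] at h1
  have h2 : q ^ 2 * ((q + 1) * (q ^ 2 - q + 1)) = q ^ 2 * (q ^ 2 - q + 1) * (q + 1) := by ring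
  rw [h2] at h1
  exact Nat.eq_of_mul_eq_mul_right (by omega) h1

/-- Orbit-stabilizer for conjugacy classes. -/
theorem ncard_conj_mul_card_cent {S : Type*} [Group S] [Finite S] (z : S) :
    Set.ncard {x : S | ∃ g : S, g * z * g⁻¹ = x} * Nat.card (Subgroup.centralizer ({z} : Set S))
      = Nat.card S := by
  have h1 := MulAction.index_stabilizer (ConjAct S) z
  have h2 : MulAction.orbit (ConjAct S) z = {x : S | ∃ g : S, g * z * g⁻¹ = x} := by
    ext x
    constructor
    · rintro ⟨g, rfl⟩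
      exact ⟨ConjAct.ofConjAct g, by show _ = g • z; rw [ConjAct.smul_def]⟩
    · rintro ⟨g, rfl⟩
      exact ⟨ConjAct.toConjAct g, by show (ConjAct.toConjAct g) • z = _; rw [ConjAct.smul_def]; simp⟩
  rw [← h2, ← h1, Subgroup.nat_card_centralizer_nat_card_stabilizer, Subgroup.index_mul_card]
  rfl

theorem card_centralizer_invol (hq : Odd q) (hF : Fintype.card F = q ^ 2)
    (t : ↥(Cfsg.SU 3 F q)) (ht : t ≠ 1) (ht2 : t * t = 1) :
    Nat.card (Subgroup.centralizer ({t} : Set ↥(Cfsg.SU 3 F q))) = q * (q + 1) * (q ^ 2 - 1) := by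
  have hq2 := herm_two_le hF
  have h1 := ncard_conj_mul_card_cent t
  have h2 : {x : ↥(Cfsg.SU 3 F q) | ∃ g, g * t * g⁻¹ = x} =
      {x : ↥(Cfsg.SU 3 F q) | x ≠ 1 ∧ x * x = 1} := by
    ext x
    constructor
    · rintro ⟨g, rfl⟩
      refine ⟨?_, ?_⟩
      · intro h
        apply ht
        have : t = g⁻¹ * (g * t * g⁻¹) * g := by group
        rw [this, h]; group
      · have : g * t * g⁻¹ * (g * t * g⁻¹) = g * (t * t) * g⁻¹ := by group
        rw [this, ht2]; group
    · rintro ⟨hx, hx2⟩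
      exact invol_conj hq hF t x ht ht2 hx hx2
  rw [h2, ← Nat.card_coe_set_eq] at h1
  have h3 : Nat.card ↥{x : ↥(Cfsg.SU 3 F q) | x ≠ 1 ∧ x * x = 1} =
      Nat.card {x : ↥(Cfsg.SU 3 F q) // x ≠ 1 ∧ x * x = 1} := rfl
  rw [h3] at h1
  have h4 := card_invol_mul hq hF
  have h5 := card_SU_mul hF 3 (by norm_num)
  rw [card_GU3 hF] at h5
  set A := Nat.card {x : ↥(Cfsg.SU 3 F q) // x ≠ 1 ∧ x * x = 1}
  set C := Nat.card (Subgroup.centralizer ({t} : Set ↥(Cfsg.SU 3 F q)))
  have h6 : (q ^ 2 * (q ^ 3 + 1)) * C = (q ^ 2 * (q ^ 3 + 1)) * (q * (q + 1) * (q ^ 2 - 1)) := by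
    calc (q ^ 2 * (q ^ 3 + 1)) * C = (q + 1) * (A * C) := by rw [← h4]; ring
      _ = q ^ 3 * ((q + 1) * (q ^ 2 - 1) * (q ^ 3 + 1)) := by rw [h1, h5]
      _ = _ := by ring
  exact Nat.eq_of_mul_eq_mul_left (by positivity) h6

end cnt

section common

variable {F : Type*} [Field F] [Fintype F] [DecidableEq F] {q : ℕ}

local notation "hh" => Cfsg.hermForm 3 F q

theorem perp_of_commute_ne (hq : Odd q) (hF : Fintype.card F = q ^ 2) (v w : Fin 3 → F)
    (hv : hh v v = 1) (hw : hh w w = 1) (hc : Commute (refl q hF v hv) (refl q hF w hw))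
    (hne : refl q hF v hv ≠ refl q hF w hw) : hh w v = 0 := by
  rcases (refl_commute_iff hq hF v w hv hw).mp hc with h | ⟨l, hl⟩
  · exact h
  · exfalso
    apply hne
    rw [refl_eq_iff hq hF v w hv hw]
    refine ⟨l, ?_, hl⟩
    have h1 := hw
    rw [hl, hermForm_smul_left, hermForm_smul_right, hv, mul_one] at h1
    exact h1

/-- two distinct commuting involutions have exactly one further common commuting involution -/
theorem card_common (hq : Odd q) (hF : Fintype.card F = q ^ 2) (t x : ↥(Cfsg.SU 3 F q))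
    (ht : t ≠ 1) (ht2 : t * t = 1) (hx : x ≠ 1) (hx2 : x * x = 1) (hxt : x ≠ t)
    (hc : Commute t x) :
    Nat.card {y : ↥(Cfsg.SU 3 F q) // y ≠ 1 ∧ y * y = 1 ∧ y ≠ t ∧ y ≠ x ∧ Commute t y ∧
      Commute x y} = 1 := by
  rw [Nat.card_eq_one_iff_unique]
  constructor
  · constructor
    rintro ⟨y, hy1, hy2, hyt, hyx, hty, hxy⟩ ⟨y', hy1', hy2', hyt', hyx', hty', hxy'⟩
    apply Subtype.ext
    show y = y'
    obtain ⟨v₀, hv₀, rfl⟩ := exists_refl hq hF t ht ht2
    obtain ⟨v₁, hv₁, rfl⟩ := exists_refl hq hF x hx hx2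
    obtain ⟨v₂, hv₂, rfl⟩ := exists_refl hq hF y hy1 hy2
    obtain ⟨v₃, hv₃, rfl⟩ := exists_refl hq hF y' hy1' hy2'
    have h10 := perp_of_commute_ne hq hF v₀ v₁ hv₀ hv₁ hc (Ne.symm hxt)
    have h20 := perp_of_commute_ne hq hF v₀ v₂ hv₀ hv₂ hty (Ne.symm hyt)
    have h21 := perp_of_commute_ne hq hF v₁ v₂ hv₁ hv₂ hxy (Ne.symm hyx)
    have h30 := perp_of_commute_ne hq hF v₀ v₃ hv₀ hv₃ hty' (Ne.symm hyt')
    have h31 := perp_of_commute_ne hq hF v₁ v₃ hv₁ hv₃ hxy' (Ne.symm hyx')
    have he := frame_expand hF v₀ v₁ v₂ hv₀ hv₁ hv₂ h10 h20 h21 v₃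
    rw [h30, h31, zero_smul, zero_smul, zero_add, zero_add] at he
    rw [refl_eq_iff hq hF v₂ v₃ hv₂ hv₃]
    refine ⟨hh v₃ v₂, ?_, he⟩
    have h1 := hv₃
    nth_rewrite 1 [he] at h1
    nth_rewrite 2 [he] at h1
    rw [hermForm_smul_left, hermForm_smul_right, hv₂, mul_one] at h1
    exact h1
  · refine ⟨⟨t * x, ?_, ?_, ?_, ?_, ?_, ?_⟩⟩
    · intro h
      apply hxt
      have : x = t * (t * x) := by rw [← mul_assoc, ht2, one_mul]
      rw [this, h, mul_one]
    · have : t * x * (t * x) = (t * t) * (x * x) := by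
        rw [mul_assoc, ← mul_assoc x t x, ← hc.eq, mul_assoc, ← mul_assoc, ← mul_assoc]
      rw [this, ht2, hx2, one_mul]
    · intro h
      apply hx
      have : x = t * (t * x) := by rw [← mul_assoc, ht2, one_mul]
      rw [this, h, ht2]
    · intro h
      apply ht
      have : t = (t * x) * x := by rw [mul_assoc, hx2, mul_one]
      rw [this, h, hx2]
    · exact (Commute.refl t).mul_right hc
    · exact hc.symm.mul_right (Commute.refl x)

end common

end Cfsg.Agent.Lib.Helper9.SU3Invol
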