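/-
helper9: S2524 leaf SXC `adm1_resY` (planner helper10, notes/S2524_leaves.lean).
For a (W)-module `V` of `Sp_4` every irreducible `C`-submodule of `Ysp` (`C = iota Sp_2`) has its non-zero
weights in one square class.
-/
import Mathlib
import Cfsg.Agent.Lib.Helper10.WGDefs
import Cfsg.Agent.Lib.Helper17.WGWD
import Cfsg.Agent.Lib.Helper17.WGZD
import Cfsg.Agent.Lib.Helper23.WGF1

set_option autoImplicit false

namespace Cfsg.Agent.Lib.Helper9.WGSXC

open Matrix Cfsg.Agent.Lib.Helper11.LS Cfsg.Agent.Lib.Helper10.WG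

universe u

variable {F : Type*} [Field F]

/-! ### block-diagonal algebra -/

section bdalg

variable {n : ℕ}

theorem bd_zero' : bd (0 : F) (0 : Matrix (Fin n) (Fin n) F) = 0 := by
  ext i j
  refine Fin.cases ?_ (fun i' => ?_) i <;> refine Fin.cases ?_ (fun j' => ?_) j <;> simp

theorem single_eq_bd (c : F) :
    (single 0 0 c : Matrix (Fin (n + 1)) (Fin (n + 1)) F) = bd c 0 := by
  ext i j
  refine Fin.cases ?_ (fun i' => ?_) i <;> refine Fin.cases ?_ (fun j' => ?_) j <;>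
    simp [single_apply, Fin.succ_ne_zero, (Fin.succ_ne_zero _).symm]

theorem one_sub_single_eq_bd :
    (1 - single 0 0 1 : Matrix (Fin (n + 1)) (Fin (n + 1)) F) = bd 0 1 := by
  rw [single_eq_bd, ← bd_one, sub_eq_iff_eq_add, bd_add]
  simp

theorem neg_single_eq_bd :
    (- single 0 0 1 : Matrix (Fin (n + 1)) (Fin (n + 1)) F) = bd (-1) 0 := by
  rw [single_eq_bd, neg_eq_iff_add_eq_zero, bd_add]
  simp [bd_zero']

theorem xZ_val (c : F) :
    ((xZ c : SpG F (n + 1)) : Matrix (Fin (n + 1) ⊕ Fin (n + 1)) (Fin (n + 1) ⊕ Fin (n + 1)) F) =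
      fromBlocks (bd 1 1) (bd c 0) (bd 0 0) (bd 1 1) := by
  show fromBlocks 1 (single 0 0 c) 0 1 = _
  rw [bd_one, bd_zero', single_eq_bd]

theorem sw0_val :
    ((sw 0 : SpG F (n + 1)) : Matrix (Fin (n + 1) ⊕ Fin (n + 1)) (Fin (n + 1) ⊕ Fin (n + 1)) F) =
      fromBlocks (bd 0 1) (bd (-1) 0) (bd 1 0) (bd 0 1) := by
  show fromBlocks (1 - single 0 0 1) (- single 0 0 1) (single 0 0 1) (1 - single 0 0 1) = _
  rw [one_sub_single_eq_bd, neg_single_eq_bd, single_eq_bd]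

theorem iota_val (ι : SpG F n →* SpG F (n + 1)) (hι : IsIota ι) (g : SpG F n) :
    ((ι g : SpG F (n + 1)) : Matrix (Fin (n + 1) ⊕ Fin (n + 1)) (Fin (n + 1) ⊕ Fin (n + 1)) F) =
      fromBlocks (bd 1 g.1.toBlocks₁₁) (bd 0 g.1.toBlocks₁₂) (bd 0 g.1.toBlocks₂₁)
        (bd 1 g.1.toBlocks₂₂) := hι g

theorem xZ_comm_iota (ι : SpG F n →* SpG F (n + 1)) (hι : IsIota ι) (c : F) (g : SpG F n) :
    (xZ c : SpG F (n + 1)) * ι g = ι g * xZ c := by
  apply Subtype.ext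
  show (xZ c : SpG F (n + 1)).1 * (ι g).1 = (ι g).1 * (xZ c : SpG F (n + 1)).1
  rw [xZ_val, iota_val ι hι]
  simp only [fromBlocks_multiply, bd_mul, bd_add]
  simp

theorem sw0_comm_iota (ι : SpG F n →* SpG F (n + 1)) (hι : IsIota ι) (g : SpG F n) :
    (sw 0 : SpG F (n + 1)) * ι g = ι g * sw 0 := by
  apply Subtype.ext
  show (sw 0 : SpG F (n + 1)).1 * (ι g).1 = (ι g).1 * (sw 0 : SpG F (n + 1)).1
  rw [sw0_val, iota_val ι hι]
  simp only [fromBlocks_multiply, bd_mul, bd_add]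
  simp

theorem sw0_braid :
    (sw 0 : SpG F (n + 1)) * xZ 1 * sw 0 = xZ (-1) * sw 0 * xZ (-1) := by
  apply Subtype.ext
  show (sw 0 : SpG F (n + 1)).1 * (xZ 1 : SpG F (n + 1)).1 * (sw 0 : SpG F (n + 1)).1 =
    (xZ (-1) : SpG F (n + 1)).1 * (sw 0 : SpG F (n + 1)).1 * (xZ (-1) : SpG F (n + 1)).1
  rw [sw0_val, xZ_val, xZ_val]
  simp only [fromBlocks_multiply, bd_mul, bd_add]
  simp

theorem iota_Xs (ι : SpG F n →* SpG F (n + 1)) (hι : IsIota ι) (S : Matrix (Fin n) (Fin n) F)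
    (hS : Sᵀ = S) : ι (Xs S hS) = Xs (bd 0 S) (by rw [bd_transpose, hS]) := by
  apply Subtype.ext
  rw [iota_val ι hι]
  show fromBlocks (bd 1 (fromBlocks 1 S 0 1 : Matrix (Fin n ⊕ Fin n) (Fin n ⊕ Fin n) F).toBlocks₁₁)
    (bd 0 (fromBlocks 1 S 0 1 : Matrix (Fin n ⊕ Fin n) (Fin n ⊕ Fin n) F).toBlocks₁₂)
    (bd 0 (fromBlocks 1 S 0 1 : Matrix (Fin n ⊕ Fin n) (Fin n ⊕ Fin n) F).toBlocks₂₁)
    (bd 1 (fromBlocks 1 S 0 1 : Matrix (Fin n ⊕ Fin n) (Fin n ⊕ Fin n) F).toBlocks₂₂) =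
    fromBlocks 1 (bd 0 S) 0 1
  rw [toBlocks_fromBlocks₁₁, toBlocks_fromBlocks₁₂, toBlocks_fromBlocks₂₁, toBlocks_fromBlocks₂₂,
    bd_one, bd_zero']

theorem Xs_mul_Xs (S T : Matrix (Fin n) (Fin n) F) (hS : Sᵀ = S) (hT : Tᵀ = T) :
    (Xs S hS : SpG F n) * Xs T hT = Xs (S + T) (by rw [transpose_add, hS, hT]) := by
  apply Subtype.ext
  show fromBlocks 1 S 0 1 * fromBlocks 1 T 0 1 = fromBlocks 1 (S + T) 0 1
  rw [fromBlocks_multiply]
  simp [add_comm]

theorem Xs_comm (S T : Matrix (Fin n) (Fin n) F) (hS : Sᵀ = S) (hT : Tᵀ = T) :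
    (Xs S hS : SpG F n) * Xs T hT = Xs T hT * Xs S hS := by
  rw [Xs_mul_Xs, Xs_mul_Xs]
  apply Subtype.ext
  show fromBlocks 1 (S + T) 0 1 = fromBlocks 1 (T + S) 0 1
  rw [add_comm]

end bdalg

/-! ### explicit identities in `Sp_4` -/

section fin2

theorem tvG_val {n : ℕ} (i j : Fin n) (hij : i ≠ j) (c : F) :
    ((tvG i j hij c : GL (Fin n) F) : Matrix (Fin n) (Fin n) F) = transvection i j c := rfl

theorem tvG_inv {n : ℕ} (i j : Fin n) (hij : i ≠ j) (c : F) :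
    (tvG i j hij c)⁻¹ = tvG i j hij (-c) := by
  apply inv_eq_of_mul_eq_one_right
  apply Units.ext
  rw [Units.val_mul, tvG_val, tvG_val, transvection_mul_transvection_same _ _ hij, add_neg_cancel,
    transvection_zero, Units.val_one]

theorem uPP_val (j : Fin 1) (c : F) :
    ((uPP j c : SpG F 2) : Matrix (Fin 2 ⊕ Fin 2) (Fin 2 ⊕ Fin 2) F) =
      fromBlocks (transvection 1 0 c) 0 0 (transvection 1 0 (-c))ᵀ := by
  have hj : j = 0 := Subsingleton.elim _ _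
  subst hj
  show fromBlocks _ 0 0 _ = _
  rw [tvG_inv]
  rfl

theorem xA_val (j : Fin 1) (c : F) :
    ((xA j c : SpG F 2) : Matrix (Fin 2 ⊕ Fin 2) (Fin 2 ⊕ Fin 2) F) =
      fromBlocks 1 (single 0 1 c + single 1 0 c) 0 1 := by
  have hj : j = 0 := Subsingleton.elim _ _
  subst hj
  rfl

theorem bd_single_fin2 (t : F) :
    (bd 0 (single 0 0 t : Matrix (Fin 1) (Fin 1) F) : Matrix (Fin 2) (Fin 2) F) = single 1 1 t := by
  ext a b
  refine Fin.cases ?_ (fun a' => ?_) a <;> refine Fin.cases ?_ (fun b' => ?_) b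
  · simp
  · simp
  · simp
  · have ha : a' = 0 := Subsingleton.elim _ _
    have hb : b' = 0 := Subsingleton.elim _ _
    rw [bd_succ_succ]
    subst ha; subst hb
    simp [single_apply]

/-- (I2) -/
theorem sw0_mul_xA (j : Fin 1) (c : F) :
    (sw 0 : SpG F 2) * xA j c = uPP j (-c) * sw 0 := by
  apply Subtype.ext
  show (sw 0 : SpG F 2).1 * (xA j c : SpG F 2).1 = (uPP j (-c) : SpG F 2).1 * (sw 0 : SpG F 2).1
  rw [uPP_val, xA_val]
  show fromBlocks (1 - single 0 0 1) (- single 0 0 1) (single 0 0 1) (1 - single 0 0 1) * _ =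
    _ * fromBlocks (1 - single 0 0 1) (- single 0 0 1) (single 0 0 1) (1 - single 0 0 1)
  rw [fromBlocks_multiply, fromBlocks_multiply]
  congr 1 <;> ext a b <;> fin_cases a <;> fin_cases b <;>
    simp [transvection, Matrix.mul_apply, Fin.sum_univ_two, single_apply, Matrix.one_apply]

theorem Xs_congr {n : ℕ} {S T : Matrix (Fin n) (Fin n) F} (h : S = T) (hS : Sᵀ = S) (hT : Tᵀ = T) :
    (Xs S hS : SpG F n) = Xs T hT := by
  subst h
  rfl

/-- (I4) -/
theorem uPP_mul_xA (j : Fin 1) (c : F) :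
    (uPP j c : SpG F 2) * xA j 1 =
      xA j 1 * Xs (single 1 1 (2 * c)) (by simp) * uPP j c := by
  apply Subtype.ext
  show (uPP j c : SpG F 2).1 * (xA j 1 : SpG F 2).1 =
    (xA j 1 : SpG F 2).1 * fromBlocks 1 (single 1 1 (2 * c)) 0 1 * (uPP j c : SpG F 2).1
  rw [uPP_val, xA_val]
  rw [fromBlocks_multiply, fromBlocks_multiply, fromBlocks_multiply]
  congr 1 <;> ext a b <;> fin_cases a <;> fin_cases b <;>
    simp [transvection, Matrix.mul_apply, Fin.sum_univ_two, single_apply, Matrix.one_apply] <;> ring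

end fin2

/-! ### representations -/

section rep

variable [Fintype F] [DecidableEq F] {V : Type u} [AddCommGroup V] [Module ℂ V]

theorem prim_inj (ψ : AddChar F ℂ) (hψ : ψ.IsPrimitive) {a b : F}
    (h : ∀ c : F, ψ (a * c) = ψ (b * c)) : a = b := by
  by_contra hab
  have h1 : a - b ≠ 0 := sub_ne_zero.mpr hab
  apply hψ h1
  apply DFunLike.ext
  intro c
  rw [AddChar.mulShift_apply, AddChar.one_apply, sub_mul, sub_eq_add_neg, AddChar.map_add_eq_mul,
    h c, ← AddChar.map_add_eq_mul, add_neg_cancel, AddChar.map_zero_eq_one]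

theorem prim_exists (ψ : AddChar F ℂ) (hψ : ψ.IsPrimitive) {a : F} (ha : a ≠ 0) :
    ∃ c : F, ψ (a * c) ≠ 1 := by
  have h := hψ ha
  rw [AddChar.ne_one_iff] at h
  obtain ⟨c, hc⟩ := h
  exact ⟨c, by rwa [AddChar.mulShift_apply] at hc⟩

theorem zProj_comm_iota {n : ℕ} (ψ : AddChar F ℂ) (ρ : Representation ℂ (SpG F (n + 1)) V)
    (ι : SpG F n →* SpG F (n + 1)) (hι : IsIota ι) (a : F) (g : SpG F n) (v : V) :
    zProj ψ ρ a (ρ (ι g) v) = ρ (ι g) (zProj ψ ρ a v) := by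
  simp only [zProj, LinearMap.smul_apply, LinearMap.sum_apply, map_smul, map_sum]
  congr 1
  refine Finset.sum_congr rfl (fun c _ => ?_)
  congr 1
  rw [← Module.End.mul_apply, ← map_mul, xZ_comm_iota ι hι, map_mul, Module.End.mul_apply]

theorem rho_Xs_comm {n : ℕ} (ρ : Representation ℂ (SpG F n) V) (S T : Matrix (Fin n) (Fin n) F)
    (hS : Sᵀ = S) (hT : Tᵀ = T) (v : V) :
    ρ (Xs S hS) (ρ (Xs T hT) v) = ρ (Xs T hT) (ρ (Xs S hS) v) := by
  rw [← Module.End.mul_apply, ← map_mul, Xs_comm, map_mul, Module.End.mul_apply]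

theorem trace_mul_single00 (B : Matrix (Fin 2) (Fin 2) F) (c : F) :
    trace (B * single 0 0 c) = B 0 0 * c := by
  simp [trace, Matrix.mul_apply, Fin.sum_univ_two, single_apply]

theorem trace_mul_single11 (B : Matrix (Fin 2) (Fin 2) F) (c : F) :
    trace (B * single 1 1 c) = B 1 1 * c := by
  simp [trace, Matrix.mul_apply, Fin.sum_univ_two, single_apply]

/-- a non-zero vector with `Z`-eigenvalue `a` and `Q'`-weight `d` forces `a d` to be a square -/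
theorem square_of_weights (h2 : (2 : F) ≠ 0) (ψ : AddChar F ℂ) (hψ : ψ.IsPrimitive)
    (ρ : Representation ℂ (SpG F 2) V) (hW : IsW ψ ρ) (a d : F) (z : V) (hz0 : z ≠ 0)
    (hza : z ∈ zsp ψ ρ a)
    (hzd : ∀ c : F, ρ (Xs (single 1 1 c) (by simp)) z = ψ (d * c) • z) :
    IsSquare (a * d) := by
  have hsum := Cfsg.Agent.Lib.Helper17.WGWD.sum_wtProj h2 ψ hψ ρ z
  have hex : ∃ B : SymM F 2, wtProj ψ ρ B.1 z ≠ 0 := by
    by_contra hcon
    push_neg at hcon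
    apply hz0
    rw [← hsum]
    exact Finset.sum_eq_zero (fun B _ => hcon B)
  obtain ⟨B, hB⟩ := hex
  set zB := wtProj ψ ρ B.1 z with hzB
  have hmem : zB ∈ wt ψ ρ B.1 := Cfsg.Agent.Lib.Helper17.WGWD.wtProj_mem ψ ρ B.1 z
  have hcomm : ∀ (S : Matrix (Fin 2) (Fin 2) F) (hS : Sᵀ = S),
      ρ (Xs S hS) zB = wtProj ψ ρ B.1 (ρ (Xs S hS) z) := by
    intro S hS
    exact Cfsg.Agent.Lib.Helper17.WGWD.wtProj_comm ψ ρ ρ (ρ (Xs S hS)) (fun T hT v => rho_Xs_comm ρ S T hS hT v) B.1 z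
  -- first diagonal entry
  have ha : a = B.1 0 0 := by
    apply prim_inj ψ hψ
    intro c
    have e1 : ρ (Xs (single 0 0 c) (by simp)) zB = ψ (a * c) • zB := by
      rw [hcomm]
      have : ρ (Xs (single 0 0 c) (by simp)) z = ψ (a * c) • z := hza c
      rw [this, map_smul]
    have e2 : ρ (Xs (single 0 0 c) (by simp)) zB = ψ (B.1 0 0 * c) • zB := by
      rw [hmem _ _, trace_mul_single00]
    rw [e1] at e2
    by_contra hne
    apply hB
    have : (ψ (a * c) - ψ (B.1 0 0 * c)) • zB = 0 := by rw [sub_smul, e2, sub_self]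
    rcases smul_eq_zero.mp this with h | h
    · exact absurd (sub_eq_zero.mp h) hne
    · exact h
  have hd : d = B.1 1 1 := by
    apply prim_inj ψ hψ
    intro c
    have e1 : ρ (Xs (single 1 1 c) (by simp)) zB = ψ (d * c) • zB := by
      rw [hcomm, hzd c, map_smul]
    have e2 : ρ (Xs (single 1 1 c) (by simp)) zB = ψ (B.1 1 1 * c) • zB := by
      rw [hmem _ _, trace_mul_single11]
    rw [e1] at e2
    by_contra hne
    apply hB
    have : (ψ (d * c) - ψ (B.1 1 1 * c)) • zB = 0 := by rw [sub_smul, e2, sub_self]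
    rcases smul_eq_zero.mp this with h | h
    · exact absurd (sub_eq_zero.mp h) hne
    · exact h
  have hne : wt ψ ρ B.1 ≠ ⊥ := by
    intro h
    apply hB
    have : zB ∈ (⊥ : Submodule ℂ V) := h ▸ hmem
    simpa using this
  obtain ⟨α, v, hBv⟩ := hW B.1 B.2 hne
  refine ⟨α * v 0 * v 1, ?_⟩
  rw [ha, hd, hBv]
  simp only [Matrix.smul_apply, vecMulVec_apply, smul_eq_mul]
  ring

end rep

/-! ### the leaf -/

section main

variable [Fintype F] [DecidableEq F] {V : Type u} [AddCommGroup V] [Module ℂ V]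

/-- part B: a vector of `Ysp` of non-zero `Q'`-weight `d` whose image under `(sw 0)⁻¹` is again in `Ysp`
vanishes. -/
theorem fixed_zero (h2 : (2 : F) ≠ 0) (ψ : AddChar F ℂ) (hψ : ψ.IsPrimitive)
    (ρ : Representation ℂ (SpG F 2) V) (hW : IsW ψ ρ) (d : F) (hd : d ≠ 0) (x : V)
    (hx1 : x ∈ Ysp ρ) (hx2 : ρ ((sw 0)⁻¹) x ∈ Ysp ρ)
    (hxd : ∀ c : F, ρ (Xs (single 1 1 c) (by simp)) x = ψ (d * c) • x) : x = 0 := by
  set y := ρ ((sw 0)⁻¹) x with hy
  have hsy : ρ (sw 0) y = x := by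
    rw [hy, ← Module.End.mul_apply, ← map_mul, mul_inv_cancel, map_one, Module.End.one_apply]
  have hbr : ∀ v : V, ρ (sw 0) (ρ (xZ 1) (ρ (sw 0) v)) = ρ (xZ (-1)) (ρ (sw 0) (ρ (xZ (-1)) v)) := by
    intro v
    have h := congrArg (fun g => ρ g v) (sw0_braid (F := F) (n := 1))
    simpa only [map_mul, Module.End.mul_apply] using h
  have hsx : ρ (sw 0) x = x := by
    have h := hbr y
    rw [hsy, hx1 1, hx2 (-1), hsy, hx1 (-1)] at h
    exact h
  have hxA : ∀ (j : Fin 1) (c : F), ρ (xA j c) x = x := (Cfsg.Agent.Lib.Helper23.WGF1.Ysp_fixed h2 ψ hψ ρ hW x hx1).1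
  have hxU : ∀ (j : Fin 1) (c : F), ρ (uPP j c) x = x := by
    intro j c
    have h := congrArg (fun g => ρ g x) (sw0_mul_xA (F := F) j (-c))
    simp only [map_mul, Module.End.mul_apply, neg_neg] at h
    rw [hxA, hsx] at h
    exact h.symm
  obtain ⟨c, hc⟩ := prim_exists ψ hψ (mul_ne_zero hd h2)
  have h := congrArg (fun g => ρ g x) (uPP_mul_xA (F := F) 0 c)
  simp only [map_mul, Module.End.mul_apply] at h
  rw [hxA, hxU, hxd, map_smul, hxA] at h
  have h' : (1 - ψ (d * 2 * c)) • x = 0 := by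
    rw [sub_smul, one_smul, mul_assoc, ← h, sub_self]
  rcases smul_eq_zero.mp h' with h'' | h''
  · exact absurd (sub_eq_zero.mp h'').symm hc
  · exact h''

/-- (SXC) -/
theorem adm1_resY (h2 : (2 : F) ≠ 0) (ψ : AddChar F ℂ) (hψ : ψ.IsPrimitive)
    (ι : SpG F 1 →* SpG F 2) (hι : IsIota ι) [FiniteDimensional ℂ V]
    (ρ : Representation ℂ (SpG F 2) V) (hW : IsW ψ ρ)
    (hinv : ∀ g, ∀ v ∈ Ysp ρ, ρ (ι g) v ∈ Ysp ρ) : Adm1 ψ (resY ρ ι hinv) := by
  intro N hNinv hNirr d d' hd hd' hNd hNd'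
  obtain ⟨x, hx, hx0⟩ := (Submodule.ne_bot_iff _).mp hNd
  obtain ⟨x', hx', hx'0⟩ := (Submodule.ne_bot_iff _).mp hNd'
  have hxN : x ∈ N := hx.1
  have hx'N : x' ∈ N := hx'.1
  -- `Q'`-weights inside `V`
  have hQ : ∀ (e : F) (u : ↥(Ysp ρ)), u ∈ wt ψ (resY ρ ι hinv) (single 0 0 e) →
      ∀ c : F, ρ (Xs (single 1 1 c) (by simp)) (u : V) = ψ (e * c) • (u : V) := by
    intro e u hu c
    have h := congrArg Subtype.val (hu (single 0 0 c) (by simp))
    rw [resY_apply, iota_Xs ι hι] at h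
    rw [Xs_congr (bd_single_fin2 c) _ (by simp)] at h
    rw [h]
    have ht : trace ((single 0 0 e : Matrix (Fin 1) (Fin 1) F) * single 0 0 c) = e * c := by
      simp [trace, Matrix.mul_apply]
    rw [ht]
    rfl
  have hιQ : ∀ c : F, (Xs (single 1 1 c) (by simp) : SpG F 2) =
      ι (Xs (single 0 0 c) (by simp)) := by
    intro c
    rw [iota_Xs ι hι]
    exact (Xs_congr (bd_single_fin2 c) _ _).symm
  by_cases hcase : ∃ a : F, a ≠ 0 ∧ zProj ψ ρ a (ρ ((sw 0)⁻¹) (x : V)) ≠ 0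
  · obtain ⟨a, ha, hTx⟩ := hcase
    set T : V →ₗ[ℂ] V := zProj ψ ρ a ∘ₗ ρ ((sw 0)⁻¹) with hT
    have hTc : ∀ (g : SpG F 1) (v : V), T (ρ (ι g) v) = ρ (ι g) (T v) := by
      intro g v
      have hc : Commute ((sw 0 : SpG F 2))⁻¹ (ι g) :=
        (show Commute (sw 0 : SpG F 2) (ι g) from sw0_comm_iota ι hι g).inv_left
      show zProj ψ ρ a (ρ ((sw 0)⁻¹) (ρ (ι g) v)) = ρ (ι g) (zProj ψ ρ a (ρ ((sw 0)⁻¹) v))
      have e : ρ ((sw 0)⁻¹) (ρ (ι g) v) = ρ (ι g) (ρ ((sw 0)⁻¹) v) := by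
        rw [← Module.End.mul_apply, ← map_mul, hc.eq, map_mul, Module.End.mul_apply]
      rw [e, zProj_comm_iota ψ ρ ι hι]
    have key : ∀ u : ↥(Ysp ρ), u ∈ N → u ≠ 0 → T (u : V) ≠ 0 := by
      intro u huN hu0 hTu
      let N' : Submodule ℂ ↥(Ysp ρ) := N ⊓ Submodule.comap (Ysp ρ).subtype (LinearMap.ker T)
      have hN'le : N' ≤ N := inf_le_left
      have hN'inv : ∀ g, ∀ v ∈ N', (resY ρ ι hinv) g v ∈ N' := by
        intro g v hv
        refine ⟨hNinv g v hv.1, ?_⟩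
        show T ((resY ρ ι hinv g v : ↥(Ysp ρ)) : V) = 0
        rw [resY_apply, hTc]
        have : T (v : V) = 0 := hv.2
        rw [this, map_zero]
      rcases hNirr N' hN'le hN'inv with h | h
      · have hu : u ∈ N' := ⟨huN, hTu⟩
        rw [h] at hu
        exact hu0 ((Submodule.mem_bot ℂ).mp hu)
      · have hxN' : x ∈ N' := h ▸ hxN
        exact hTx hxN'.2
    have hTw : ∀ (e : F) (u : ↥(Ysp ρ)), u ∈ wt ψ (resY ρ ι hinv) (single 0 0 e) →
        ∀ c : F, ρ (Xs (single 1 1 c) (by simp)) (T (u : V)) = ψ (e * c) • T (u : V) := by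
      intro e u hu c
      rw [hιQ c, ← hTc, ← hιQ c, hQ e u hu c, map_smul]
    have sq1 : IsSquare (a * d) :=
      square_of_weights h2 ψ hψ ρ hW a d (T (x : V)) (key x hxN hx0) (Cfsg.Agent.Lib.Helper17.WGZD.zProj_mem ψ ρ a _)
        (hTw d x hx.2)
    have sq2 : IsSquare (a * d') :=
      square_of_weights h2 ψ hψ ρ hW a d' (T (x' : V)) (key x' hx'N hx'0) (Cfsg.Agent.Lib.Helper17.WGZD.zProj_mem ψ ρ a _)
        (hTw d' x' hx'.2)
    obtain ⟨r, hr⟩ := sq1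
    obtain ⟨r', hr'⟩ := sq2
    refine ⟨r * r' * a⁻¹, ?_⟩
    apply mul_left_cancel₀ (mul_ne_zero ha ha)
    calc a * a * (d * d') = (a * d) * (a * d') := by ring
      _ = (r * r) * (r' * r') := by rw [hr, hr']
      _ = a * a * (r * r' * a⁻¹ * (r * r' * a⁻¹)) := by field_simp
  · push_neg at hcase
    exfalso
    apply hx0
    apply Subtype.ext
    show (x : V) = 0
    have hy : ρ ((sw 0)⁻¹) (x : V) ∈ Ysp ρ := by
      have hs := Cfsg.Agent.Lib.Helper17.WGZD.sum_zProj ψ hψ ρ (ρ ((sw 0)⁻¹) (x : V))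
      rw [Finset.sum_eq_single 0 (fun l _ hl => hcase l hl) (by simp)] at hs
      rw [← hs]
      exact zProj_zero_mem_Ysp ψ ρ _
    exact fixed_zero h2 ψ hψ ρ hW d hd (x : V) x.2 hy (hQ d x hx.2)

end main

end Cfsg.Agent.Lib.Helper9.WGSXC
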