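/-
helper9: S4481 leaf GRAM `gram` (planner helper6, notes/S4481_leaves.lean).
-/
import Mathlib
import Cfsg.Prelude.Def_Blocks
import Cfsg.Agent.Lib.Helper6.DihBlkDefs

set_option autoImplicit false

namespace Cfsg.Agent.Lib.Helper9.DIHGRAM

open Cfsg
open Cfsg.Agent.Lib.Helper6.DihBlk
open scoped ComplexConjugate

section roots

variable {N : ℕ} {ζ : ℂ}

theorem conj_mul_self_pow (hN : N ≠ 0) (hζ : IsPrimitiveRoot ζ N) (m : ℕ) :
    conj (ζ ^ m) * ζ ^ m = 1 := by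
  rw [Complex.conj_mul', norm_pow, hζ.norm'_eq_one hN]
  simp

/-- `Σ_{k<N} ζ^(m k) = N [N ∣ m]` -/
theorem sum_pow_mul (hN : N ≠ 0) (hζ : IsPrimitiveRoot ζ N) (m : ℕ) :
    ∑ k ∈ Finset.range N, ζ ^ (m * k) = if N ∣ m then (N : ℂ) else 0 := by
  have h1 : ∀ k, ζ ^ (m * k) = (ζ ^ m) ^ k := fun k => pow_mul ζ m k
  simp only [h1]
  split_ifs with hd
  · rw [(hζ.pow_eq_one_iff_dvd m).mpr hd]
    simp
  · have hne : ζ ^ m ≠ 1 := fun h => hd ((hζ.pow_eq_one_iff_dvd m).mp h)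
    rw [geom_sum_eq hne, ← pow_mul, mul_comm, pow_mul, hζ.pow_eq_one, one_pow, sub_self, zero_div]

/-- `Σ_{k<N} ζ^(i' k) conj (ζ^(i k)) = N [i' = i]` -/
theorem sum_pow_conj (hN : N ≠ 0) (hζ : IsPrimitiveRoot ζ N) (i i' : ℕ) (hi : i < N) (hi' : i' < N) :
    ∑ k ∈ Finset.range N, ζ ^ (i' * k) * conj (ζ ^ (i * k)) = if i' = i then (N : ℂ) else 0 := by
  have h1 : ∀ k, ζ ^ (i' * k) * conj (ζ ^ (i * k)) = (ζ ^ i' * conj (ζ ^ i)) ^ k := by
    intro k
    rw [mul_pow, ← pow_mul, ← map_pow, ← pow_mul]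
  simp only [h1]
  split_ifs with hd
  · subst hd
    rw [mul_comm, conj_mul_self_pow hN hζ]
    simp
  · have hne : ζ ^ i' * conj (ζ ^ i) ≠ 1 := by
      intro h
      apply hd
      apply hζ.pow_inj hi' hi
      have := congrArg (· * ζ ^ i) h
      simp only [mul_assoc, conj_mul_self_pow hN hζ, mul_one, one_mul] at this
      exact this
    have hpow : (ζ ^ i' * conj (ζ ^ i)) ^ N = 1 := by
      rw [mul_pow, ← map_pow, ← pow_mul, ← pow_mul, mul_comm i' N, mul_comm i N, pow_mul, pow_mul,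
        hζ.pow_eq_one]
      simp
    rw [geom_sum_eq hne, hpow, sub_self, zero_div]

/-- `conj (ζ^(i (N - l))) = ζ^(i l)` for `l ≤ N` -/
theorem conj_pow_sub (hN : N ≠ 0) (hζ : IsPrimitiveRoot ζ N) (i l : ℕ) (hl : l ≤ N) :
    conj (ζ ^ (i * (N - l))) = ζ ^ (i * l) := by
  have h1 : ζ ^ (i * (N - l)) * ζ ^ (i * l) = 1 := by
    rw [← pow_add, ← mul_add, Nat.sub_add_cancel hl, mul_comm, pow_mul, hζ.pow_eq_one, one_pow]
  have h2 := conj_mul_self_pow hN hζ (i * (N - l))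
  calc conj (ζ ^ (i * (N - l))) = conj (ζ ^ (i * (N - l))) * (ζ ^ (i * (N - l)) * ζ ^ (i * l)) := by
        rw [h1, mul_one]
    _ = ζ ^ (i * l) := by rw [← mul_assoc, h2, one_mul]

end roots

section data

variable {B : Type*} [Fintype B] [DecidableEq B] {h : ℕ} {ζ : ℂ}

/-- Fourier inversion: `Σ_k X χ k conj (ζ^(i k)) = 2h * mu χ i` -/
theorem inv_formula (hh : 2 ≤ h) (hζ : IsPrimitiveRoot ζ (2 * h)) (D : DihData B h ζ) (χ : B) (i : ℕ)
    (hi : i < 2 * h) :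
    ∑ k ∈ Finset.range (2 * h), D.X χ k * conj (ζ ^ (i * k)) = ((2 * h : ℕ) : ℂ) * (D.mu χ i : ℂ) := by
  have hN : 2 * h ≠ 0 := by omega
  simp only [D.hexp, Finset.sum_mul]
  rw [Finset.sum_comm]
  have h1 : ∀ i' ∈ Finset.range (2 * h),
      ∑ k ∈ Finset.range (2 * h), (D.mu χ i' : ℂ) * ζ ^ (i' * k) * conj (ζ ^ (i * k)) =
        (D.mu χ i' : ℂ) * (if i' = i then ((2 * h : ℕ) : ℂ) else 0) := by
    intro i' hi'
    rw [← sum_pow_conj hN hζ i i' hi (Finset.mem_range.mp hi'), Finset.mul_sum]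
    exact Finset.sum_congr rfl (fun k _ => by ring)
  rw [Finset.sum_congr rfl h1, Finset.sum_eq_single i]
  · rw [if_pos rfl, mul_comm]
  · intro b _ hb
    rw [if_neg hb, mul_zero]
  · intro hni
    exact absurd (Finset.mem_range.mpr hi) hni

/-- the conjugate form -/
theorem inv_formula' (hh : 2 ≤ h) (hζ : IsPrimitiveRoot ζ (2 * h)) (D : DihData B h ζ) (χ : B) (j : ℕ)
    (hj : j < 2 * h) :
    ∑ l ∈ Finset.range (2 * h), conj (D.X χ l) * ζ ^ (j * l) = ((2 * h : ℕ) : ℂ) * (D.mu χ j : ℂ) := by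
  have h1 := congrArg conj (inv_formula hh hζ D χ j hj)
  rw [map_sum, map_mul, Complex.conj_natCast, Complex.conj_natCast] at h1
  rw [← h1]
  exact Finset.sum_congr rfl (fun l _ => by rw [map_mul, Complex.conj_conj])

/-- the column relations in uniform shape -/
theorem col_rel (hh : 2 ≤ h) (D : DihData B h ζ) (k l : ℕ) (hk : k < 2 * h) (hl0 : 0 < l)
    (hl : l < 2 * h) :
    ∑ χ, D.X χ k * conj (D.X χ l) =
      (if k = l then ((2 * h : ℕ) : ℂ) else 0) + (if k + l = 2 * h then ((2 * h : ℕ) : ℂ) else 0) := by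
  rcases Nat.eq_zero_or_pos k with hk0 | hk0
  · subst hk0
    rw [D.horth0 l hl0 hl, if_neg (by omega), if_neg (by omega), add_zero]
  · rw [D.horth k l hk0 hk hl0 hl]
    by_cases h1 : k = h
    · rw [if_pos h1]
      by_cases h2 : l = h
      · rw [if_pos h2, if_pos (by omega), if_pos (by omega)]
        push_cast
        ring
      · rw [if_neg h2, if_neg (by omega), if_neg (by omega), add_zero]
    · rw [if_neg h1]
      by_cases h3 : l = k
      · rw [if_pos (Or.inl h3), if_pos h3.symm, if_neg (by omega), add_zero]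
      · by_cases h4 : l + k = 2 * h
        · rw [if_pos (Or.inr h4), if_neg (fun e => h3 e.symm), if_pos (by omega), zero_add]
        · rw [if_neg (by tauto), if_neg (fun e => h3 e.symm), if_neg (by omega), add_zero]

theorem col_rel_zero (D : DihData B h ζ) (k : ℕ) (hk0 : 0 < k) (hk : k < 2 * h) :
    ∑ χ, D.X χ k * conj (D.X χ 0) = 0 := by
  have h1 := congrArg conj (D.horth0 k hk0 hk)
  rw [map_sum, map_zero] at h1
  rw [← h1]
  exact Finset.sum_congr rfl (fun χ _ => by rw [map_mul, Complex.conj_conj, mul_comm])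

/-- stage 1 -/
theorem stage1 (hh : 2 ≤ h) (hζ : IsPrimitiveRoot ζ (2 * h)) (D : DihData B h ζ) (i l : ℕ)
    (hi : i < 2 * h) (hl0 : 0 < l) (hl : l < 2 * h) :
    ((2 * h : ℕ) : ℂ) * ∑ χ, (D.mu χ i : ℂ) * conj (D.X χ l) =
      ((2 * h : ℕ) : ℂ) * (conj (ζ ^ (i * l)) + ζ ^ (i * l)) := by
  have hN : 2 * h ≠ 0 := by omega
  rw [Finset.mul_sum]
  have h1 : ∀ χ, ((2 * h : ℕ) : ℂ) * ((D.mu χ i : ℂ) * conj (D.X χ l)) =
      ∑ k ∈ Finset.range (2 * h), conj (ζ ^ (i * k)) * (D.X χ k * conj (D.X χ l)) := by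
    intro χ
    rw [← mul_assoc, ← inv_formula hh hζ D χ i hi, Finset.sum_mul]
    exact Finset.sum_congr rfl (fun k _ => by ring)
  rw [Finset.sum_congr rfl (fun χ _ => h1 χ), Finset.sum_comm]
  have h2 : ∀ k ∈ Finset.range (2 * h),
      ∑ χ, conj (ζ ^ (i * k)) * (D.X χ k * conj (D.X χ l)) =
        conj (ζ ^ (i * k)) * (if k = l then ((2 * h : ℕ) : ℂ) else 0) +
        conj (ζ ^ (i * k)) * (if k = 2 * h - l then ((2 * h : ℕ) : ℂ) else 0) := by
    intro k hk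
    rw [← Finset.mul_sum, col_rel hh D k l (Finset.mem_range.mp hk) hl0 hl, mul_add]
    congr 2
    by_cases h3 : k + l = 2 * h
    · rw [if_pos h3, if_pos (by omega)]
    · rw [if_neg h3, if_neg (by omega)]
  rw [Finset.sum_congr rfl h2, Finset.sum_add_distrib]
  rw [Finset.sum_eq_single l, Finset.sum_eq_single (2 * h - l)]
  · rw [if_pos rfl, if_pos rfl, conj_pow_sub hN hζ i l hl.le]
    ring
  · intro b _ hb
    rw [if_neg hb, mul_zero]
  · intro hn
    exact absurd (Finset.mem_range.mpr (by omega)) hn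
  · intro b _ hb
    rw [if_neg hb, mul_zero]
  · intro hn
    exact absurd (Finset.mem_range.mpr hl) hn

/-- stage 1 at the degree column -/
theorem stage1_zero (hh : 2 ≤ h) (hζ : IsPrimitiveRoot ζ (2 * h)) (D : DihData B h ζ) (i : ℕ)
    (hi : i < 2 * h) :
    ((2 * h : ℕ) : ℂ) * ∑ χ, (D.mu χ i : ℂ) * conj (D.X χ 0) = ∑ χ, D.X χ 0 * conj (D.X χ 0) := by
  rw [Finset.mul_sum]
  have h1 : ∀ χ, ((2 * h : ℕ) : ℂ) * ((D.mu χ i : ℂ) * conj (D.X χ 0)) =
      ∑ k ∈ Finset.range (2 * h), conj (ζ ^ (i * k)) * (D.X χ k * conj (D.X χ 0)) := by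
    intro χ
    rw [← mul_assoc, ← inv_formula hh hζ D χ i hi, Finset.sum_mul]
    exact Finset.sum_congr rfl (fun k _ => by ring)
  rw [Finset.sum_congr rfl (fun χ _ => h1 χ), Finset.sum_comm, Finset.sum_eq_single 0]
  · simp
  · intro k hk hk0
    rw [← Finset.mul_sum, col_rel_zero D k (Nat.pos_of_ne_zero hk0) (Finset.mem_range.mp hk), mul_zero]
  · intro hn
    exact absurd (Finset.mem_range.mpr (by omega)) hn

/-- the Gram matrix over `ℂ` -/
theorem gram_complex (hh : 2 ≤ h) (hζ : IsPrimitiveRoot ζ (2 * h)) (D : DihData B h ζ) (i j : ℕ)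
    (hi : i < 2 * h) (hj : j < 2 * h) :
    ((2 * h : ℕ) : ℂ) * ((2 * h : ℕ) : ℂ) * ∑ χ, (D.mu χ i : ℂ) * (D.mu χ j : ℂ) =
      (∑ χ, D.X χ 0 * conj (D.X χ 0)) - 2 * ((2 * h : ℕ) : ℂ) +
      ((2 * h : ℕ) : ℂ) * ((2 * h : ℕ) : ℂ) *
        ((if i = j then 1 else 0) + (if (i + j) % (2 * h) = 0 then 1 else 0)) := by
  have hN : 2 * h ≠ 0 := by omega
  set Nc : ℂ := ((2 * h : ℕ) : ℂ) with hNc
  set S : ℂ := ∑ χ, D.X χ 0 * conj (D.X χ 0) with hS
  -- expand the second factor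
  have h1 : Nc * Nc * ∑ χ, (D.mu χ i : ℂ) * (D.mu χ j : ℂ) =
      ∑ l ∈ Finset.range (2 * h), ζ ^ (j * l) * (Nc * ∑ χ, (D.mu χ i : ℂ) * conj (D.X χ l)) := by
    have e1 : ∀ χ, Nc * Nc * ((D.mu χ i : ℂ) * (D.mu χ j : ℂ)) =
        ∑ l ∈ Finset.range (2 * h), ζ ^ (j * l) * (Nc * ((D.mu χ i : ℂ) * conj (D.X χ l))) := by
      intro χ
      have := inv_formula' hh hζ D χ j hj
      calc Nc * Nc * ((D.mu χ i : ℂ) * (D.mu χ j : ℂ))
          = Nc * (D.mu χ i : ℂ) * (Nc * (D.mu χ j : ℂ)) := by ring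
        _ = Nc * (D.mu χ i : ℂ) * ∑ l ∈ Finset.range (2 * h), conj (D.X χ l) * ζ ^ (j * l) := by
            rw [this]
        _ = _ := by
            rw [Finset.mul_sum]
            exact Finset.sum_congr rfl (fun l _ => by ring)
    rw [Finset.mul_sum, Finset.sum_congr rfl (fun χ _ => e1 χ), Finset.sum_comm]
    refine Finset.sum_congr rfl (fun l _ => ?_)
    rw [Finset.mul_sum, Finset.mul_sum]
  -- the values of stage 1, uniformly
  have h2 : ∀ l ∈ Finset.range (2 * h),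
      ζ ^ (j * l) * (Nc * ∑ χ, (D.mu χ i : ℂ) * conj (D.X χ l)) =
        Nc * (ζ ^ (j * l) * conj (ζ ^ (i * l))) + Nc * ζ ^ ((i + j) * l) +
          (if l = 0 then S - 2 * Nc else 0) := by
    intro l hl
    rcases Nat.eq_zero_or_pos l with hl0 | hl0
    · subst hl0
      rw [stage1_zero hh hζ D i hi, if_pos rfl]
      simp
      ring
    · rw [stage1 hh hζ D i l hi hl0 (Finset.mem_range.mp hl), if_neg (by omega), add_zero, add_mul,
        pow_add]
      ring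
  rw [h1, Finset.sum_congr rfl h2, Finset.sum_add_distrib, Finset.sum_add_distrib, ← Finset.mul_sum,
    ← Finset.mul_sum, sum_pow_conj hN hζ i j hi hj, sum_pow_mul hN hζ (i + j),
    Finset.sum_ite_eq' (Finset.range (2 * h)) 0, if_pos (Finset.mem_range.mpr (by omega))]
  have e2 : (if j = i then Nc else 0) = Nc * (if i = j then 1 else 0) := by
    by_cases hij : i = j
    · rw [if_pos hij, if_pos hij.symm, mul_one]
    · rw [if_neg hij, if_neg (fun e => hij e.symm), mul_zero]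
  have e3 : (if 2 * h ∣ i + j then Nc else 0) = Nc * (if (i + j) % (2 * h) = 0 then 1 else 0) := by
    by_cases hd : 2 * h ∣ i + j
    · rw [if_pos hd, if_pos (Nat.mod_eq_zero_of_dvd hd), mul_one]
    · rw [if_neg hd, if_neg (fun e => hd (Nat.dvd_of_mod_eq_zero e)), mul_zero]
  rw [e2, e3]
  ring

end data

/-- **GRAM** the Gram matrix of the multiplicity vectors. -/
theorem gram {B : Type*} [Fintype B] [DecidableEq B] {h : ℕ} {ζ : ℂ}
    (hh : 2 ≤ h) (hζ : IsPrimitiveRoot ζ (2 * h)) (D : DihData B h ζ) :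
    ∃ t : ℤ, ∀ i j, i < 2 * h → j < 2 * h →
      ∑ χ, (D.mu χ i : ℤ) * (D.mu χ j : ℤ) =
        t + (if i = j then 1 else 0) + (if (i + j) % (2 * h) = 0 then 1 else 0) := by
  refine ⟨∑ χ, (D.mu χ 0 : ℤ) * (D.mu χ 1 : ℤ), ?_⟩
  intro i j hi hj
  have hNc : ((2 * h : ℕ) : ℂ) ≠ 0 := by exact_mod_cast (by omega : 2 * h ≠ 0)
  have h01 := gram_complex hh hζ D 0 1 (by omega) (by omega)
  have hij := gram_complex hh hζ D i j hi hj
  have hmod : (0 + 1) % (2 * h) ≠ 0 := by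
    rw [Nat.mod_eq_of_lt (by omega)]
    omega
  rw [if_neg (by omega : (0 : ℕ) ≠ 1), if_neg hmod, add_zero, mul_zero, add_zero] at h01
  have key : (∑ χ, (D.mu χ i : ℂ) * (D.mu χ j : ℂ)) =
      (∑ χ, (D.mu χ 0 : ℂ) * (D.mu χ 1 : ℂ)) + (if i = j then 1 else 0) +
        (if (i + j) % (2 * h) = 0 then 1 else 0) := by
    apply mul_left_cancel₀ (mul_ne_zero hNc hNc)
    linear_combination hij - h01
  exact_mod_cast key

end Cfsg.Agent.Lib.Helper9.DIHGRAM
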