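import Mathlib

/-!
S2082 (Out(HN) = 2, owner helper15): LEAF A1 `inner_of_index_two` (helper9), exact signature of `notes/S2082_leaves.lean`.
A finite group `Γ` with trivial centre and a simple non-abelian normal subgroup `S` of index two with `|Aut S| = |Γ|`
has only inner automorphisms.
Proof: `Γ → Aut S` (conjugation) has kernel `C_Γ(S)`, which is trivial (it meets `S` in `Z(S) = 1`, and an element of
`C_Γ(S)` outside `S` would be central in `Γ = S ∪ S g`); so it is a bijection.  `S` is characteristic (another simple normal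
subgroup of index 2 meets `S` trivially only if all squares of `S` vanish).  So `β|S = conj m|S`, and an automorphism
that is the identity on `S` is the identity (`g⁻¹ γ(g) ∈ C_Γ(S)`).
-/

set_option autoImplicit false

namespace Cfsg.Agent.Lib.Helper9.HnO

/-- the centraliser of a simple non-abelian normal subgroup of index two in a group with trivial centre is trivial -/
lemma conjNormal_injective_of_index_two {Γ : Type*} [Group Γ] (S : Subgroup Γ) [S.Normal]
    (hS2 : S.index = 2) (hSs : IsSimpleGroup S) (hSnc : ∃ u v : S, u * v ≠ v * u)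
    (hZ : Subgroup.center Γ = ⊥) : Function.Injective (MulAut.conjNormal (H := S)) := by
  rw [← MonoidHom.ker_eq_bot_iff, Subgroup.eq_bot_iff_forall]
  intro g hg
  rw [MonoidHom.mem_ker] at hg
  -- `g` commutes with `S`
  have hcomm : ∀ s : Γ, s ∈ S → g * s = s * g := by
    intro s hs
    have h1 := MulAut.conjNormal_apply (H := S) g ⟨s, hs⟩
    rw [hg] at h1
    have h2 : s = g * s * g⁻¹ := h1
    calc g * s = g * s * g⁻¹ * g := by group
      _ = s * g := by rw [← h2]
  have hZS : Subgroup.center S = ⊥ := by
    rcases (Subgroup.Normal.eq_bot_or_eq_top (H := Subgroup.center S) inferInstance) with h | h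
    · exact h
    · exfalso
      obtain ⟨u, v, huv⟩ := hSnc
      apply huv
      have hu : u ∈ Subgroup.center S := by rw [h]; exact Subgroup.mem_top u
      exact ((Subgroup.mem_center_iff.1 hu) v).symm
  by_cases hgS : g ∈ S
  · have : (⟨g, hgS⟩ : S) ∈ Subgroup.center S := by
      rw [Subgroup.mem_center_iff]
      intro s
      apply Subtype.ext
      exact (hcomm s s.2).symm
    rw [hZS, Subgroup.mem_bot] at this
    exact congrArg Subtype.val this
  · exfalso
    have hc : g ∈ Subgroup.center Γ := by
      rw [Subgroup.mem_center_iff]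
      intro h
      by_cases hh : h ∈ S
      · exact (hcomm h hh).symm
      · have hs : h * g ∈ S := (Subgroup.mul_mem_iff_of_index_two hS2).2 ⟨fun x => absurd x hh, fun x => absurd x hgS⟩
        have h1 := hcomm (h * g) hs
        -- g * (h * g) = h * g * g
        have h2 : g * h = h * g := by
          have : g * h * g = h * g * g := by rw [mul_assoc, h1]
          exact mul_right_cancel this
        exact h2.symm
    rw [hZ, Subgroup.mem_bot] at hc
    exact hgS (hc ▸ S.one_mem)

/-- **LEAF A1**: a finite group with trivial centre and a simple non-abelian normal subgroup `S` of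
index two with `|Aut S| = |Γ|` has only inner automorphisms. -/
theorem inner_of_index_two {Γ : Type*} [Group Γ] [Finite Γ] (S : Subgroup Γ) [S.Normal]
    (hS2 : S.index = 2) (hSs : IsSimpleGroup S) (hSnc : ∃ u v : S, u * v ≠ v * u)
    (hZ : Subgroup.center Γ = ⊥) (hAutS : Nat.card (MulAut S) = Nat.card Γ) :
    ∀ β : MulAut Γ, ∃ m : Γ, β = MulAut.conj m := by
  intro β
  have hinj := conjNormal_injective_of_index_two S hS2 hSs hSnc hZ
  have hbij : Function.Bijective (MulAut.conjNormal (H := S)) :=
    hinj.bijective_of_nat_card_le (le_of_eq hAutS)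
  -- `S` is characteristic
  have hβS : S.map (β : Γ →* Γ) = S := by
    have hN : (S.map (β : Γ →* Γ)).Normal :=
      Subgroup.Normal.map inferInstance (β : Γ →* Γ) β.surjective
    have hcard : Nat.card (S.map (β : Γ →* Γ)) = Nat.card S :=
      Subgroup.card_map_of_injective (f := (β : Γ →* Γ)) β.injective
    have hN' : ((S.map (β : Γ →* Γ)).subgroupOf S).Normal := Subgroup.normal_subgroupOf
    rcases (Subgroup.Normal.eq_bot_or_eq_top hN') with h | h
    · exfalso
      rw [Subgroup.subgroupOf_eq_bot] at h
      -- all squares of `S` are trivial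
      have hsq : ∀ u : Γ, u ∈ S → u * u = 1 := by
        intro u hu
        have h1 : β (u * u) ∈ S := by
          rw [map_mul, ← pow_two]
          exact Subgroup.sq_mem_of_index_two hS2 _
        have h2 : β (u * u) ∈ S.map (β : Γ →* Γ) := ⟨u * u, S.mul_mem hu hu, rfl⟩
        have h3 : β (u * u) = 1 := by
          have := (Subgroup.disjoint_def.1 h) h2 h1
          exact this
        exact β.injective (by rw [h3, map_one])
      obtain ⟨u, v, huv⟩ := hSnc
      apply huv
      apply Subtype.ext
      show (u : Γ) * v = v * u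
      have hu := hsq u u.2
      have hv := hsq v v.2
      have huv' : ((u : Γ) * v) * (u * v) = 1 := hsq (u * v) (S.mul_mem u.2 v.2)
      symm
      calc (v : Γ) * u = v * u * ((u * v) * (u * v)) := by rw [huv', mul_one]
        _ = v * (u * u) * v * (u * v) := by group
        _ = u * v := by rw [hu, mul_one, hv, one_mul]
    · rw [Subgroup.subgroupOf_eq_top] at h
      exact (Subgroup.eq_of_le_of_card_ge h (le_of_eq hcard)).symm
  -- `β|S`
  let βS : MulAut S := (β.subgroupMap S).trans (MulEquiv.subgroupCongr hβS)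
  have hβS_apply : ∀ s : S, ((βS s : S) : Γ) = β s := fun s => rfl
  obtain ⟨m, hm⟩ := hbij.2 βS
  have hms : ∀ s : Γ, s ∈ S → β s = m * s * m⁻¹ := by
    intro s hs
    have h1 := MulAut.conjNormal_apply (H := S) m ⟨s, hs⟩
    rw [hm, hβS_apply] at h1
    exact h1
  refine ⟨m, ?_⟩
  ext g
  rw [MulAut.conj_apply]
  -- `d := g⁻¹ * (m⁻¹ * β g * m)` centralises `S`
  set d : Γ := g⁻¹ * (m⁻¹ * β g * m) with hd
  have hd1 : MulAut.conjNormal (H := S) d = 1 := by
    ext s
    rw [MulAut.conjNormal_apply, MulAut.one_apply]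
    have hgs : g * s * g⁻¹ ∈ S := ‹S.Normal›.conj_mem s s.2 g
    have h1 : β (g * s * g⁻¹) = m * (g * s * g⁻¹) * m⁻¹ := hms _ hgs
    have h2 : β (g * s * g⁻¹) = β g * (m * s * m⁻¹) * (β g)⁻¹ := by
      rw [map_mul, map_mul, map_inv, hms s s.2]
    rw [h2] at h1
    -- β g * m * s * m⁻¹ * (β g)⁻¹ = m * g * s * g⁻¹ * m⁻¹
    rw [hd]
    calc g⁻¹ * (m⁻¹ * β g * m) * ↑s * (g⁻¹ * (m⁻¹ * β g * m))⁻¹
        = g⁻¹ * m⁻¹ * (β g * (m * ↑s * m⁻¹) * (β g)⁻¹) * m * g := by group
      _ = g⁻¹ * m⁻¹ * (m * (g * ↑s * g⁻¹) * m⁻¹) * m * g := by rw [h1]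
      _ = ↑s := by group
  have hd2 : d = 1 := hinj (by rw [hd1, map_one])
  have : g = m⁻¹ * β g * m := by
    have := hd2
    rw [hd] at this
    exact (inv_mul_eq_one.1 this)
  calc β g = m * (m⁻¹ * β g * m) * m⁻¹ := by group
    _ = m * g * m⁻¹ := by rw [← this]

end Cfsg.Agent.Lib.Helper9.HnO
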