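import Mathlib
import Cfsg.Prelude.Def_KGroupFacts

/-!
S2082 (Out(HN) = 2, owner helper15): LEAF NI `sigma_not_inner` (helper9), exact signature of `notes/S2082_leaves.lean`.
`σ = conj g` ⟹ `g` commutes with `φ x`, hence with `a = φ x * φ x`, so `g = φ g'`; `g'` commutes with `x, y` and
`g' z g'⁻¹ = z c`; so `π g'` is central in `Γ`, `g' ∈ {1, c}` is central in `P`, `z = z c`, `a = 1`: contradiction.
-/

set_option autoImplicit false

namespace Cfsg.Agent.Lib.Helper9.HnO

open Cfsg

/-- **LEAF NI**: `σ` is not inner. -/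
theorem sigma_not_inner {G : Type*} [Group G] (N : Subgroup G) (a : G) (σ : MulAut G)
    (ha1 : a ≠ 1) (hCa : ∀ g : G, g * a = a * g → g ∈ N)
    {P : Type*} [Group P] (φ : P →* G) (hφ : Function.Injective φ) (hrange : φ.range = N)
    {Γ : Type*} [Group Γ] (π : P →* Γ) (hπ : Function.Surjective π)
    (c : P) (hker : ∀ r ∈ π.ker, r = 1 ∨ r = c) (hcker : π c = 1)
    (hcc : ∀ g : P, g * c = c * g) (hφc : φ c = a)
    (hZ : Subgroup.center Γ = ⊥)
    (x y z : P) (hgen : Subgroup.closure ({x, y, z} : Set P) = ⊤) (hxa : φ x * φ x = a)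
    (hσx : σ (φ x) = φ x) (hσy : σ (φ y) = φ y) (hσz : σ (φ z) = φ z * a) :
    σ ∉ Cfsg.Inn G := by
  rintro ⟨g, hg⟩
  have hσ : ∀ u : G, σ u = g * u * g⁻¹ := by
    intro u
    rw [← hg, MulAut.conj_apply]
  -- `g` commutes with `φ x`, hence with `a`
  have hgx : g * φ x = φ x * g := by
    have h1 := hσ (φ x)
    rw [hσx] at h1
    calc g * φ x = g * φ x * g⁻¹ * g := by group
      _ = φ x * g := by rw [← h1]
  have hga : g * a = a * g := by
    rw [← hxa, ← mul_assoc, hgx, mul_assoc, hgx, mul_assoc]
  have hgN : g ∈ φ.range := by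
    rw [hrange]
    exact hCa g hga
  obtain ⟨g', rfl⟩ := hgN
  -- pull back to `P`
  have hx' : g' * x * g'⁻¹ = x := by
    apply hφ
    rw [map_mul, map_mul, map_inv, ← hσ, hσx]
  have hy' : g' * y * g'⁻¹ = y := by
    apply hφ
    rw [map_mul, map_mul, map_inv, ← hσ, hσy]
  have hz' : g' * z * g'⁻¹ = z * c := by
    apply hφ
    rw [map_mul, map_mul, map_inv, ← hσ, hσz, map_mul, hφc]
  -- `π g'` is central
  have hcent : ∀ p : P, p ∈ (Subgroup.centralizer ({π g'} : Set Γ)).comap π := by
    have hle : Subgroup.closure ({x, y, z} : Set P) ≤ (Subgroup.centralizer ({π g'} : Set Γ)).comap π := by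
      rw [Subgroup.closure_le]
      intro p hp
      rw [SetLike.mem_coe, Subgroup.mem_comap, Subgroup.mem_centralizer_iff]
      intro h hh
      rw [Set.mem_singleton_iff] at hh
      subst hh
      rcases hp with rfl | rfl | rfl
      · rw [← map_mul, ← map_mul]
        congr 1
        calc g' * p = g' * p * g'⁻¹ * g' := by group
          _ = p * g' := by rw [hx']
      · rw [← map_mul, ← map_mul]
        congr 1
        calc g' * p = g' * p * g'⁻¹ * g' := by group
          _ = p * g' := by rw [hy']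
      · have : π (g' * p * g'⁻¹) = π p := by rw [hz', map_mul, hcker, mul_one]
        rw [map_mul, map_mul, map_inv] at this
        calc π g' * π p = π g' * π p * (π g')⁻¹ * π g' := by group
          _ = π p * π g' := by rw [this]
    intro p
    apply hle
    rw [hgen]
    exact Subgroup.mem_top p
  have hπg : π g' ∈ Subgroup.center Γ := by
    rw [Subgroup.mem_center_iff]
    intro h
    obtain ⟨p, rfl⟩ := hπ h
    have := hcent p
    rw [Subgroup.mem_comap, Subgroup.mem_centralizer_iff] at this
    exact (this (π g') rfl).symm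
  rw [hZ, Subgroup.mem_bot] at hπg
  have hg'c : ∀ p : P, g' * p = p * g' := by
    rcases hker g' (MonoidHom.mem_ker.2 hπg) with h | h
    · intro p; rw [h, one_mul, mul_one]
    · intro p; rw [h]; exact (hcc p).symm
  have hzc : z * c = z := by
    rw [← hz', hg'c z, mul_assoc, mul_inv_cancel, mul_one]
  have hc1 : c = 1 := by
    have := hzc
    exact mul_eq_left.1 this
  apply ha1
  rw [← hφc, hc1, map_one]

end Cfsg.Agent.Lib.Helper9.HnO
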