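import Mathlib

/-!
S2082 (Out(HN) = 2, owner helper15): LEAF R `rigid_of_data` (helper9), exact signature of `notes/S2082_leaves.lean`.
An automorphism `α` that is the identity on `N` is `1` or conjugation by `a`:
`t' := α t` centralises `y` and `y^x`, so `t' • o` is a common fixed point, `t' • o = t^j • o`, `n := t^-j t' ∈ N`
centralises `y, y^x`, so `n ∈ {1, a}`; `n = a` makes `t'` an involution; `n = 1`: `(z t^j)^3 = 1` forces `j = 1, 4`.
-/

set_option autoImplicit false

namespace Cfsg.Agent.Lib.Helper9.HnO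

/-- **LEAF R** (rigidity): an automorphism that is the identity on `N` is `1` or conjugation by `a`. -/
theorem rigid_of_data {G : Type*} [Group G] (N : Subgroup G) (a x y z t : G)
    (hgen : Subgroup.closure ({x, y, z, t} : Set G) = ⊤)
    (hx : x ∈ N) (hy : y ∈ N) (hz : z ∈ N) (haN : a ∈ N) (htN : t ∉ N)
    (ha2 : a * a = 1) (hat : a * t * a⁻¹ = t⁻¹) (hNa : ∀ n ∈ N, n * a = a * n)
    (ht5 : t ^ 5 = 1) (hty : t * y = y * t) (htx : x⁻¹ * t * x = (t ^ 2)⁻¹) (hzt : (z * t) ^ 3 = 1)
    (hzt2 : (z * t ^ 2) ^ 3 ≠ 1) (hzt3 : (z * t ^ 3) ^ 3 ≠ 1)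
    {Ω : Type*} [MulAction G Ω] (o : Ω) (hstab : ∀ g : G, g ∈ N ↔ g • o = o)
    (hfix : ∀ q : Ω, y • q = q → (x⁻¹ * y * x) • q = q → ∃ j : ℕ, q = t ^ j • o)
    (hK : ∀ g ∈ N, g * y = y * g → g * (x⁻¹ * y * x) = (x⁻¹ * y * x) * g → g = 1 ∨ g = a) :
    ∀ α : MulAut G, (∀ n ∈ N, α n = n) → α = 1 ∨ α = MulAut.conj a := by
  intro α hα
  set w : G := x⁻¹ * y * x with hw
  have hwN : w ∈ N := N.mul_mem (N.mul_mem (N.inv_mem hx) hy) hx
  have ht1 : t ≠ 1 := fun h => htN (h ▸ N.one_mem)
  -- `t` commutes with `w = y^x`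
  have hxt : x⁻¹ * t ^ 2 * x = t := by
    have h1 : x⁻¹ * t ^ 2 * x = (x⁻¹ * t * x) * (x⁻¹ * t * x) := by rw [pow_two]; group
    rw [h1, htx]
    have h2 : t ^ 2 * t ^ 2 * t = 1 := by rw [← ht5]; group
    calc (t ^ 2)⁻¹ * (t ^ 2)⁻¹ = (t ^ 2)⁻¹ * (t ^ 2)⁻¹ * (t ^ 2 * t ^ 2 * t) := by rw [h2, mul_one]
      _ = t := by group
  have hxt' : x * t * x⁻¹ = t ^ 2 := by
    calc x * t * x⁻¹ = x * (x⁻¹ * t ^ 2 * x) * x⁻¹ := by rw [hxt]
      _ = t ^ 2 := by group
  have ht2y : t ^ 2 * y = y * t ^ 2 := by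
    rw [pow_two, mul_assoc, hty, ← mul_assoc, hty, mul_assoc]
  have htw : t * w = w * t := by
    calc t * w = x⁻¹ * ((x * t * x⁻¹) * y) * x := by rw [hw]; group
      _ = x⁻¹ * (y * (x * t * x⁻¹)) * x := by rw [hxt', ht2y]
      _ = w * t := by rw [hw]; group
  -- the image `t'`
  set t' : G := α t with ht'
  have ht'y : t' * y = y * t' := by
    have := congrArg α hty
    rw [map_mul, map_mul, hα y hy] at this
    exact this
  have ht'w : t' * w = w * t' := by
    have := congrArg α htw
    rw [map_mul α t w, map_mul α w t, hα w hwN] at this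
    exact this
  have hyo : y • o = o := (hstab y).1 hy
  have hwo : w • o = o := (hstab w).1 hwN
  obtain ⟨j0, hj0⟩ := hfix (t' • o) (by rw [← mul_smul, ← ht'y, mul_smul, hyo])
    (by rw [← mul_smul, ← ht'w, mul_smul, hwo])
  -- reduce `j` mod 5
  set j : ℕ := j0 % 5 with hj
  have hjlt : j < 5 := Nat.mod_lt _ (by norm_num)
  have hjo : t' • o = t ^ j • o := by rw [hj0, pow_eq_pow_mod j0 ht5]
  set n : G := (t ^ j)⁻¹ * t' with hn
  have hnN : n ∈ N := by
    rw [hstab, hn, mul_smul, hjo, ← mul_smul, inv_mul_cancel, one_smul]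
  have htjy : t ^ j * y = y * t ^ j := (Commute.pow_left (show Commute t y from hty) j)
  have htjw : t ^ j * w = w * t ^ j := (Commute.pow_left (show Commute t w from htw) j)
  have hny : n * y = y * n := by
    have h1 : Commute (t ^ j)⁻¹ y := (show Commute (t ^ j) y from htjy).inv_left
    exact (h1.mul_left (show Commute t' y from ht'y))
  have hnw : n * w = w * n := by
    have h1 : Commute (t ^ j)⁻¹ w := (show Commute (t ^ j) w from htjw).inv_left
    exact (h1.mul_left (show Commute t' w from ht'w))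
  have ht'eq : t' = t ^ j * n := by rw [hn]; group
  have hainv : a⁻¹ = a := (eq_inv_of_mul_eq_one_left ha2).symm
  have hgenext : ∀ β : MulAut G, α x = β x → α y = β y → α z = β z → α t = β t → α = β := by
    intro β h1 h2 h3 h4
    have : (α : G →* G) = (β : G →* G) := by
      apply MonoidHom.eq_of_eqOn_dense hgen
      intro g hg
      rcases hg with rfl | rfl | rfl | hg
      · exact h1
      · exact h2
      · exact h3
      · rw [Set.mem_singleton_iff] at hg
        subst hg
        exact h4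
    exact MulEquiv.ext fun g => DFunLike.congr_fun this g
  rcases hK n hnN hny hnw with h | h
  · -- `t' = t^j`
    rw [h, mul_one] at ht'eq
    have hzj : (z * t ^ j) ^ 3 = 1 := by
      have := congrArg α hzt
      rw [map_pow, map_mul, hα z hz, map_one, ← ht', ht'eq] at this
      exact this
    interval_cases j
    · exfalso
      rw [pow_zero] at ht'eq
      apply ht1
      apply α.injective
      rw [← ht', ht'eq, map_one]
    · left
      apply hgenext 1 (hα x hx) (hα y hy) (hα z hz)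
      rw [← ht', ht'eq, pow_one]
      rfl
    · exact absurd hzj hzt2
    · exact absurd hzj hzt3
    · right
      have hc : ∀ n ∈ N, α n = MulAut.conj a n := by
        intro n hn
        rw [hα n hn, MulAut.conj_apply, ← hNa n hn, mul_assoc, hainv, ha2, mul_one]
      apply hgenext (MulAut.conj a) (hc x hx) (hc y hy) (hc z hz)
      rw [← ht', ht'eq, MulAut.conj_apply, hat]
      have : t ^ 4 * t = 1 := by rw [← ht5]; group
      exact eq_inv_of_mul_eq_one_left this
  · -- `t' = t^j a` is an involution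
    exfalso
    rw [h] at ht'eq
    have hconj : a * t ^ j * a⁻¹ = (t ^ j)⁻¹ := by
      have : a * t ^ j * a⁻¹ = (a * t * a⁻¹) ^ j := by
        rw [conj_pow]
      rw [this, hat, inv_pow]
    have hsq : t' * t' = 1 := by
      rw [ht'eq]
      calc t ^ j * a * (t ^ j * a) = t ^ j * (a * t ^ j * a⁻¹) * (a * a) := by group
        _ = 1 := by rw [hconj, ha2, mul_inv_cancel, mul_one]
    have htt : t * t = 1 := by
      apply α.injective
      rw [map_mul, map_one]
      exact hsq
    apply ht1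
    calc t = t ^ 5 * ((t * t)⁻¹ * (t * t)⁻¹) := by group
      _ = 1 := by rw [ht5, htt]; group

end Cfsg.Agent.Lib.Helper9.HnO
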