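import Mathlib
import Cfsg.Prelude.Def_Solvable
import Cfsg.Agent.Lib.Helper1.Fitting
import Cfsg.Agent.Lib.Helper1.QBW
import Cfsg.Agent.Lib.Helper24.QBS

/-! QBB1 leaf for S4125 (q-Baer groups): if some `q`-element has nontrivial `q`-power index, then
the Sylow `q`-subgroups are normal. -/

set_option autoImplicit false
open Cfsg

namespace Cfsg.Agent.Lib.Helper9.QBLeaf

variable {G : Type*} [Group G] [Finite G]

local notation "C(" x ")" => Subgroup.centralizer ({x} : Set G)

omit [Finite G] in
/-- elements of a Sylow `q`-subgroup are `q`-elements. -/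
theorem exists_orderOf_eq_of_mem_sylow' (q : ℕ) [Fact q.Prime] (Q : Sylow q G) (x : G)
    (hx : x ∈ (Q : Subgroup G)) : ∃ k : ℕ, orderOf x = q ^ k := by
  obtain ⟨k, hk⟩ := (IsPGroup.iff_orderOf.mp Q.isPGroup') ⟨x, hx⟩
  exact ⟨k, by rw [← hk, Subgroup.orderOf_mk]⟩

/-- QBB1. -/
theorem sylow_normal_of_mixed (q : ℕ) [Fact q.Prime]
    (hBaer : ∀ x : G, (∃ k : ℕ, orderOf x = q ^ k) →
      ∃ (r : ℕ) (a : ℕ), r.Prime ∧ (C(x)).index = r ^ a)
    (a : ℕ) (ha : 1 ≤ a) (x : G) (hx : ∃ k : ℕ, orderOf x = q ^ k)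
    (hxi : (C(x)).index = q ^ a) (Q : Sylow q G) : (Q : Subgroup G).Normal := by
  classical
  have hqp : q.Prime := Fact.out
  set U := Cfsg.pCore q G with hU
  have hUn : U.Normal := Helper1.pCore_normal q G
  have hUQ : U ≤ (Q : Subgroup G) := Helper1.pCore_le_sylow Q
  by_cases hQU : (Q : Subgroup G) ≤ U
  · have : (Q : Subgroup G) = U := le_antisymm hQU hUQ
    rw [this]; exact hUn
  exfalso
  -- elements of Q outside U centralise U
  have hout : ∀ u ∈ (Q : Subgroup G), u ∉ U → u ∈ Subgroup.centralizer (U : Set G) := by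
    intro u hu huU
    have hu' := exists_orderOf_eq_of_mem_sylow' q Q u hu
    obtain ⟨r, b, hr, hb⟩ := hBaer u hu'
    have hrq : r ≠ q := by
      rintro rfl
      exact huU (Helper1.QBLeaf.mem_pCore_of_index_pow r u hu' b hb)
    have hcop : (C(u)).index.Coprime q := by
      rw [hb]
      exact Nat.Coprime.pow_left b ((Nat.coprime_primes hr hqp).mpr hrq)
    obtain ⟨S, hSC, _⟩ := Helper24.QBLeaf.exists_sylow_le_centralizer q u hu' hcop
    rw [Subgroup.mem_centralizer_iff]
    intro w hw
    have hwS : w ∈ (S : Subgroup G) := Helper1.pCore_le_sylow S hw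
    have := hSC hwS
    rw [Subgroup.mem_centralizer_iff] at this
    exact (this u (Set.mem_singleton u)).symm
  -- hence all of Q centralises U
  obtain ⟨w, hwQ, hwU⟩ := SetLike.not_le_iff_exists.mp hQU
  have hall : (Q : Subgroup G) ≤ Subgroup.centralizer (U : Set G) := by
    intro v hv
    by_cases hvU : v ∈ U
    · have hvw : v * w ∉ U := by
        intro hvw
        apply hwU
        have := U.mul_mem (U.inv_mem hvU) hvw
        simpa using this
      have h1 := hout (v * w) ((Q : Subgroup G).mul_mem hv hwQ) hvw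
      have h2 := hout w hwQ hwU
      have := (Subgroup.centralizer (U : Set G)).mul_mem h1
        ((Subgroup.centralizer (U : Set G)).inv_mem h2)
      simpa using this
    · exact hout v hv hvU
  -- x ∈ U, so Q centralises x
  have hxU : x ∈ U := Helper1.QBLeaf.mem_pCore_of_index_pow q x hx a hxi
  have hQC : (Q : Subgroup G) ≤ C(x) := by
    intro v hv
    rw [Subgroup.mem_centralizer_iff]
    intro y hy
    rw [Set.mem_singleton_iff] at hy
    subst hy
    have := hall hv
    rw [Subgroup.mem_centralizer_iff] at this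
    exact this y hxU
  have hdvd : (C(x)).index ∣ (Q : Subgroup G).index := Subgroup.index_dvd_of_le hQC
  rw [hxi] at hdvd
  have hq : q ∣ (Q : Subgroup G).index :=
    (dvd_pow_self q (by omega : a ≠ 0)).trans hdvd
  exact Q.not_dvd_index hq

end Cfsg.Agent.Lib.Helper9.QBLeaf
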