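import Mathlib
import Cfsg.Agent.Lib.Helper15.AschUCtx
import Cfsg.Agent.Lib.Helper18.AschA89Defs
import Cfsg.Agent.Lib.Helper17.UAE3Defs
import Cfsg.Agent.Lib.Helper24.AschUNIL
import Cfsg.Agent.Lib.Helper17.UAE3W
import Cfsg.Agent.Lib.Helper23.UAE3R1

/-!
# S5663 sub-block E3 (sub-planner helper17), packet E3-I (helper9): `single_eq_sum_T`, `absIrr_Rstd`.
Exact signatures of `notes/S5663_E3_leaves.lean`.  On helper17's E3-W (`wp_add`, `wp_zero`, `sum_wp`) and helper23's E3-R1
(`T_mul`, `T_one`, `mem_Rstd_iff`).  By-products: `absIrred_of_span9` (a spanning set of matrices acts absolutely irreducibly, any finite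
index type), `TGL9 hω c a b : GL` with value `T ω c a b`, `TGL9_mem`.
-/

set_option autoImplicit false
set_option linter.unusedSectionVars false
set_option linter.unusedVariables false

namespace Cfsg.Agent.Lib.Helper9.UAE3Leaf
open Matrix Cfsg Cfsg.Geo Cfsg.Agent.Lib.Helper20.Asch
open Cfsg.Agent.Lib.Helper15.AschU Cfsg.Agent.Lib.Helper15.AschForm Cfsg.Agent.Lib.Helper18.AschA89
open Cfsg.Agent.Lib.Helper17.E3
open Cfsg.Agent.Lib.Helper17.UAE3Leaf Cfsg.Agent.Lib.Helper23.UAE3Leaf


section gen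
variable {F : Type*} [Field F]

/-- Generic (any finite index type): a set of matrices spanning `M_κ(F)` acts absolutely irreducibly. -/
theorem absIrred_of_span9 {κ : Type} [Fintype κ] [DecidableEq κ] (S : Set (Matrix κ κ F))
    (h : Submodule.span F S = ⊤) : ActsAbsolutelyIrreducibly S := by
  refine ⟨?_, ?_⟩
  · intro W hW
    have hall : ∀ M : Matrix κ κ F, ∀ w ∈ W, M *ᵥ w ∈ W := by
      intro M
      have hM : M ∈ Submodule.span F S := by rw [h]; trivial
      refine Submodule.span_induction (p := fun M _ => ∀ w ∈ W, M *ᵥ w ∈ W) ?_ ?_ ?_ ?_ hM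
      · intro s hs w hw
        have := hW s hs
        have h1 : Matrix.toLin' s w ∈ W.map (Matrix.toLin' s) := Submodule.mem_map_of_mem hw
        have h2 := this h1
        rwa [Matrix.toLin'_apply] at h2
      · intro w hw
        rw [Matrix.zero_mulVec]
        exact W.zero_mem
      · intro A B _ _ hA hB w hw
        rw [Matrix.add_mulVec]
        exact W.add_mem (hA w hw) (hB w hw)
      · intro c A _ hA w hw
        rw [Matrix.smul_mulVec]
        exact W.smul_mem c (hA w hw)
    by_cases hbot : W = ⊥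
    · left; exact hbot
    · right
      obtain ⟨w, hw, hw0⟩ := (Submodule.ne_bot_iff W).mp hbot
      have hj : ∃ j, w j ≠ 0 := by
        by_contra hcon
        push Not at hcon
        exact hw0 (funext hcon)
      obtain ⟨j, hj⟩ := hj
      rw [eq_top_iff]
      intro v _
      have e1 : Matrix.vecMulVec v ((w j)⁻¹ • Pi.single j (1 : F)) *ᵥ w = v := by
        rw [Matrix.vecMulVec_mulVec]
        simp only [smul_dotProduct, single_dotProduct, one_mul, smul_eq_mul]
        rw [inv_mul_cancel₀ hj]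
        ext k
        simp [MulOpposite.op_one]
      rw [← e1]
      exact hall _ w hw
  · intro M hM
    have hall : ∀ N : Matrix κ κ F, M * N = N * M := by
      intro N
      have hN : N ∈ Submodule.span F S := by rw [h]; trivial
      refine Submodule.span_induction (p := fun N _ => M * N = N * M) ?_ ?_ ?_ ?_ hN
      · intro s hs
        exact hM s hs
      · rw [Matrix.mul_zero, Matrix.zero_mul]
      · intro A B _ _ hA hB
        rw [Matrix.mul_add, Matrix.add_mul, hA, hB]
      · intro c A _ hA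
        rw [Matrix.mul_smul, Matrix.smul_mul, hA]
    have hsc : M ∈ Set.range (Matrix.scalar κ) := by
      apply Matrix.mem_range_scalar_of_commute_single
      intro a b _
      exact (hall (Matrix.single a b 1)).symm
    obtain ⟨c, hc⟩ := hsc
    refine ⟨c, ?_⟩
    rw [← hc, Matrix.smul_one_eq_diagonal]
    rfl

end gen


variable {F : Type*} [Field F] [Fintype F]

lemma fin3_a9 : ∀ k x u : Fin 3, -(k * x) + k * u = k * (u - x) := by decide
lemma fin3_b9 : ∀ x y u v : Fin 3, u = v + (x - y) → u = x → v = y := by decide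
lemma fin3_c9 : ∀ x y : Fin 3, x = y + (x - y) := by decide

/-- the one-slot identity behind I1 -/
lemma slot_sum9 (hF : Fintype.card F = 2 ^ 2) {ω : F} (hω : ω ^ 2 + ω + 1 = 0) (x y u v : Fin 3) :
    ∑ k : Fin 3, wp ω (-(k * x)) * (if u = v + (x - y) then wp ω (k * u) else 0) =
      if u = x ∧ v = y then 1 else 0 := by
  by_cases h : u = v + (x - y)
  · simp only [if_pos h]
    have h1 : ∀ k : Fin 3, wp ω (-(k * x)) * wp ω (k * u) = wp ω (k * (u - x)) := by
      intro k
      rw [← wp_add hω, fin3_a9]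
    rw [Finset.sum_congr rfl (fun k _ => h1 k), sum_wp hF hω]
    by_cases h2 : u = x
    · rw [if_pos (sub_eq_zero.2 h2), if_pos ⟨h2, fin3_b9 x y u v h h2⟩]
    · rw [if_neg (fun h' => h2 (sub_eq_zero.1 h')), if_neg (fun h' => h2 h'.1)]
  · simp only [if_neg h, mul_zero, Finset.sum_const_zero]
    rw [if_neg]
    rintro ⟨rfl, rfl⟩
    exact h (fin3_c9 u v)

/-- I1 -/
theorem single_eq_sum_T (hF : Fintype.card F = 2 ^ 2) {ω : F} (hω : ω ^ 2 + ω + 1 = 0) {t : ℕ}
    (x y : Fin t → Fin 3) :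
    Matrix.single x y (1 : F) = ∑ a : Fin t → Fin 3, (∏ i, wp ω (-(a i * x i))) • T ω 0 a (x - y) := by
  ext u v
  rw [Matrix.sum_apply]
  have h1 : ∀ a : Fin t → Fin 3, ((∏ i, wp ω (-(a i * x i))) • T ω 0 a (x - y)) u v =
      ∏ i, (wp ω (-(a i * x i)) * (if u i = v i + (x i - y i) then wp ω (a i * u i) else 0)) := by
    intro a
    rw [Matrix.smul_apply, T, Matrix.smul_apply, ptens_apply, wp_zero, smul_eq_mul, smul_eq_mul, one_mul,
      ← Finset.prod_mul_distrib]
    rfl
  rw [Finset.sum_congr rfl (fun a _ => h1 a),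
    ← Fintype.prod_sum (fun i (k : Fin 3) => wp ω (-(k * x i)) * (if u i = v i + (x i - y i) then wp ω (k * u i) else 0)),
    Finset.prod_congr rfl (fun i _ => slot_sum9 hF hω (x i) (y i) (u i) (v i))]
  rw [Matrix.single_apply]
  by_cases hxy : x = u ∧ y = v
  · rw [if_pos hxy]
    obtain ⟨rfl, rfl⟩ := hxy
    simp
  · rw [if_neg hxy]
    have : ∃ i, ¬ (u i = x i ∧ v i = y i) := by
      by_contra hcon
      push Not at hcon
      exact hxy ⟨funext fun i => (hcon i).1.symm, funext fun i => (hcon i).2.symm⟩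
    obtain ⟨i, hi⟩ := this
    exact (Finset.prod_eq_zero (Finset.mem_univ i) (if_neg hi)).symm




/-- the inverse of `T c a b` -/
lemma T_mul_inv9 {ω : F} (hω : ω ^ 2 + ω + 1 = 0) {t : ℕ} (c : Fin 3) (a b : Fin t → Fin 3) :
    T ω c a b * T ω (-c - ∑ i, a i * b i) (-a) (-b) = 1 := by
  rw [T_mul hω, ← T_one ω]
  congr 1
  · have : ∑ i, (-a) i * b i = - ∑ i, a i * b i := by
      rw [← Finset.sum_neg_distrib]
      apply Finset.sum_congr rfl
      intro i _
      simp only [Pi.neg_apply]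
      exact (by decide : ∀ p q : Fin 3, -p * q = -(p * q)) _ _
    rw [this]
    generalize ∑ i, a i * b i = s
    revert c s
    decide
  · exact add_neg_cancel a
  · exact add_neg_cancel b

/-- every `T c a b` is the matrix of an element of `GL` -/
noncomputable def TGL9 {ω : F} (hω : ω ^ 2 + ω + 1 = 0) {t : ℕ} (c : Fin 3) (a b : Fin t → Fin 3) :
    GL (Fin t → Fin 3) F :=
  ⟨T ω c a b, T ω (-c - ∑ i, a i * b i) (-a) (-b), T_mul_inv9 hω c a b,
    mul_eq_one_comm.1 (T_mul_inv9 hω c a b)⟩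

lemma TGL9_val {ω : F} (hω : ω ^ 2 + ω + 1 = 0) {t : ℕ} (c : Fin 3) (a b : Fin t → Fin 3) :
    ((TGL9 hω c a b : GL (Fin t → Fin 3) F) : Matrix (Fin t → Fin 3) (Fin t → Fin 3) F) = T ω c a b := rfl

lemma TGL9_mem (hF : Fintype.card F = 2 ^ 2) {ω : F} (hω : ω ^ 2 + ω + 1 = 0) {t : ℕ} (ht : 1 ≤ t) (c : Fin 3)
    (a b : Fin t → Fin 3) : TGL9 hω c a b ∈ Rstd ω t :=
  (mem_Rstd_iff hF hω ht _).2 ⟨c, a, b, rfl⟩

/-- I2 -/
theorem absIrr_Rstd (hF : Fintype.card F = 2 ^ 2) {ω : F} (hω : ω ^ 2 + ω + 1 = 0) {t : ℕ} (ht : 1 ≤ t) :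
    ActsAbsolutelyIrreducibly (matrixSet (Rstd ω t)) := by
  apply absIrred_of_span9
  rw [eq_top_iff]
  intro M _
  have hT : ∀ a b : Fin t → Fin 3, T ω 0 a b ∈ Submodule.span F (matrixSet (Rstd ω t)) := by
    intro a b
    apply Submodule.subset_span
    exact ⟨TGL9 hω 0 a b, TGL9_mem hF hω ht 0 a b, rfl⟩
  have hsingle : ∀ x y : Fin t → Fin 3, Matrix.single x y (1 : F) ∈ Submodule.span F (matrixSet (Rstd ω t)) := by
    intro x y
    rw [single_eq_sum_T hF hω x y]
    exact Submodule.sum_mem _ (fun a _ => Submodule.smul_mem _ _ (hT a _))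
  rw [Matrix.matrix_eq_sum_single M]
  refine Submodule.sum_mem _ (fun x _ => Submodule.sum_mem _ (fun y _ => ?_))
  have : Matrix.single x y (M x y) = M x y • Matrix.single x y (1 : F) := by
    rw [Matrix.smul_single, smul_eq_mul, mul_one]
  rw [this]
  exact Submodule.smul_mem _ _ (hsingle x y)

end Cfsg.Agent.Lib.Helper9.UAE3Leaf
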