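import Cfsg.Agent.Lib.Helper9.UAE3I

/-!
# S5663 sub-block E3 (sub-planner helper17), packet E3-R2 (helper9): `card_Rstd`, `mem_center_Rstd_iff`, `card_center_Rstd`.
Exact signatures of `notes/S5663_E3_leaves.lean`.  On helper17's E3-W (`wp_eq_one_iff`, `wp_zero`) and helper23's E3-R1
(`T_comm`, `T_inj`, `mem_Rstd_iff`).
-/

set_option autoImplicit false
set_option linter.unusedSectionVars false
set_option linter.unusedVariables false

namespace Cfsg.Agent.Lib.Helper9.UAE3Leaf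
open Matrix Cfsg Cfsg.Geo Cfsg.Agent.Lib.Helper20.Asch
open Cfsg.Agent.Lib.Helper15.AschU Cfsg.Agent.Lib.Helper15.AschForm Cfsg.Agent.Lib.Helper18.AschA89
open Cfsg.Agent.Lib.Helper17.E3
open Cfsg.Agent.Lib.Helper17.UAE3Leaf Cfsg.Agent.Lib.Helper23.UAE3Leaf

variable {F : Type*} [Field F] [Fintype F]

/-- R2a -/
theorem card_Rstd (hF : Fintype.card F = 2 ^ 2) {ω : F} (hω : ω ^ 2 + ω + 1 = 0) {t : ℕ} (ht : 1 ≤ t) :
    Nat.card (Rstd ω t) = 3 ^ (1 + 2 * t) := by
  have hbij : Function.Bijective (fun p : Fin 3 × (Fin t → Fin 3) × (Fin t → Fin 3) =>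
      (⟨TGL9 hω p.1 p.2.1 p.2.2, TGL9_mem hF hω ht _ _ _⟩ : Rstd ω t)) := by
    constructor
    · rintro ⟨c, a, b⟩ ⟨c', a', b'⟩ h
      have h1 : T ω c a b = T ω c' a' b' :=
        congrArg (fun g : Rstd ω t => ((g : GL (Fin t → Fin 3) F) : Matrix (Fin t → Fin 3) (Fin t → Fin 3) F)) h
      obtain ⟨rfl, rfl, rfl⟩ := T_inj hF hω h1
      rfl
    · rintro ⟨g, hg⟩
      obtain ⟨c, a, b, h⟩ := (mem_Rstd_iff hF hω ht g).1 hg
      exact ⟨(c, a, b), Subtype.ext (Units.ext h.symm)⟩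
  rw [← Nat.card_congr (Equiv.ofBijective _ hbij)]
  simp only [Nat.card_prod, Nat.card_fun, Nat.card_fin]
  ring

lemma smul_unit_eq9 {κ : Type} [Fintype κ] [DecidableEq κ] [Nonempty κ] (g : GL κ F) (k : F)
    (h : (g : Matrix κ κ F) = k • (g : Matrix κ κ F)) : k = 1 := by
  have h1 := congrArg (fun M => M * ((g⁻¹ : GL κ F) : Matrix κ κ F)) h
  simp only [Matrix.smul_mul, Units.mul_inv] at h1
  obtain ⟨x⟩ := ‹Nonempty κ›
  have h2 := congrFun (congrFun h1 x) x
  simpa using h2.symm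

/-- R2b -/
theorem mem_center_Rstd_iff (hF : Fintype.card F = 2 ^ 2) {ω : F} (hω : ω ^ 2 + ω + 1 = 0) {t : ℕ} (ht : 1 ≤ t)
    (g : Rstd ω t) :
    g ∈ Subgroup.center (Rstd ω t) ↔
      ∃ c : Fin 3, ((g : GL (Fin t → Fin 3) F) : Matrix (Fin t → Fin 3) (Fin t → Fin 3) F) = T ω c 0 0 := by
  obtain ⟨c, a, b, h⟩ := (mem_Rstd_iff hF hω ht g).1 g.2
  constructor
  · intro hc
    rw [Subgroup.mem_center_iff] at hc
    have hcomm : ∀ a' b' : Fin t → Fin 3, T ω 0 a' b' * T ω c a b = T ω c a b * T ω 0 a' b' := by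
      intro a' b'
      have h1 := hc ⟨TGL9 hω 0 a' b', TGL9_mem hF hω ht _ _ _⟩
      have h2 := congrArg (fun x : Rstd ω t =>
        ((x : GL (Fin t → Fin 3) F) : Matrix (Fin t → Fin 3) (Fin t → Fin 3) F)) h1
      simp only [Subgroup.coe_mul, Units.val_mul, TGL9_val, h] at h2
      exact h2
    have hs : ∀ a' b' : Fin t → Fin 3, ∑ i, (a i * b' i - a' i * b i) = 0 := by
      intro a' b'
      have h1 := T_comm hω c 0 a b a' b'
      rw [← hcomm a' b'] at h1
      have h2 : ((TGL9 hω 0 a' b' * TGL9 hω c a b : GL (Fin t → Fin 3) F) :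
            Matrix (Fin t → Fin 3) (Fin t → Fin 3) F) =
          wp ω (∑ i, (a i * b' i - a' i * b i)) •
            ((TGL9 hω 0 a' b' * TGL9 hω c a b : GL (Fin t → Fin 3) F) :
              Matrix (Fin t → Fin 3) (Fin t → Fin 3) F) := by
        rw [Units.val_mul, TGL9_val, TGL9_val]
        exact h1
      exact (wp_eq_one_iff hF hω _).1 (smul_unit_eq9 _ _ h2)
    have ha : a = 0 := by
      funext i
      have h1 := hs 0 (Pi.single i 1)
      rw [Finset.sum_eq_single i] at h1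
      · simp only [Pi.single_eq_same, Pi.zero_apply] at h1
        exact (by decide : ∀ p q : Fin 3, p * 1 - 0 * q = 0 → p = 0) _ _ h1
      · intro j _ hj
        simp only [Pi.single_eq_of_ne hj, Pi.zero_apply]
        exact (by decide : ∀ p q : Fin 3, p * 0 - 0 * q = 0) _ _
      · intro h'; exact absurd (Finset.mem_univ _) h'
    have hb : b = 0 := by
      funext i
      have h1 := hs (Pi.single i 1) 0
      rw [Finset.sum_eq_single i] at h1
      · simp only [Pi.single_eq_same, Pi.zero_apply] at h1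
        exact (by decide : ∀ p q : Fin 3, p * 0 - 1 * q = 0 → q = 0) _ _ h1
      · intro j _ hj
        simp only [Pi.single_eq_of_ne hj, Pi.zero_apply]
        exact (by decide : ∀ p q : Fin 3, p * 0 - 0 * q = 0) _ _
      · intro h'; exact absurd (Finset.mem_univ _) h'
    exact ⟨c, by rw [h, ha, hb]⟩
  · rintro ⟨c', h'⟩
    rw [Subgroup.mem_center_iff]
    intro x
    obtain ⟨c₂, a₂, b₂, hx⟩ := (mem_Rstd_iff hF hω ht x).1 x.2
    apply Subtype.ext
    apply Units.ext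
    simp only [Subgroup.coe_mul, Units.val_mul]
    rw [hx, h', T_comm hω c₂ c' a₂ b₂ 0 0]
    have : ∑ i : Fin t, (a₂ i * (0 : Fin t → Fin 3) i - (0 : Fin t → Fin 3) i * b₂ i) = 0 := by
      apply Finset.sum_eq_zero
      intro i _
      simp only [Pi.zero_apply]
      exact (by decide : ∀ p q : Fin 3, p * 0 - 0 * q = 0) _ _
    rw [this, wp_zero, one_smul]

/-- R2c -/
theorem card_center_Rstd (hF : Fintype.card F = 2 ^ 2) {ω : F} (hω : ω ^ 2 + ω + 1 = 0) {t : ℕ} (ht : 1 ≤ t) :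
    Nat.card (Subgroup.center (Rstd ω t)) = 3 := by
  have hmem : ∀ c : Fin 3, (⟨TGL9 hω c 0 0, TGL9_mem hF hω ht _ _ _⟩ : Rstd ω t) ∈ Subgroup.center (Rstd ω t) :=
    fun c => (mem_center_Rstd_iff hF hω ht _).2 ⟨c, rfl⟩
  have hbij : Function.Bijective (fun c : Fin 3 =>
      (⟨⟨TGL9 hω c 0 0, TGL9_mem hF hω ht _ _ _⟩, hmem c⟩ : Subgroup.center (Rstd ω t))) := by
    constructor
    · intro c c' h
      have h1 : T ω c (0 : Fin t → Fin 3) 0 = T ω c' 0 0 :=
        congrArg (fun g : Subgroup.center (Rstd ω t) =>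
          (((g : Rstd ω t) : GL (Fin t → Fin 3) F) : Matrix (Fin t → Fin 3) (Fin t → Fin 3) F)) h
      exact (T_inj hF hω h1).1
    · rintro ⟨g, hg⟩
      obtain ⟨c, h⟩ := (mem_center_Rstd_iff hF hω ht g).1 hg
      exact ⟨c, Subtype.ext (Subtype.ext (Units.ext h.symm))⟩
  rw [← Nat.card_congr (Equiv.ofBijective _ hbij), Nat.card_fin]

end Cfsg.Agent.Lib.Helper9.UAE3Leaf
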