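import Mathlib
import Cfsg.Agent.Lib.Helper9.BG144B
import Cfsg.Agent.S1404

/-!
# B & G Theorem 14.4(a) (helper9): the regular action of `R(x)`; the shape of frozen S1374

For `x ∈ M_σ^#` and a conjugate `M^g ∋ x` there is `r ∈ C_G(x)` with `M^g = M^r`, and `r` may be
taken in `N_σ` for a maximal subgroup `N ⊇ C_G(x)` with `N_σ ∩ M = 1` (or `r = 1`).
`s1374_of`: verbatim the conclusion of frozen S1374 from `SP G` and `H1428 G`.
-/

set_option autoImplicit false
set_option linter.style.haveILetI false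
open scoped commutatorElement

namespace Cfsg.Agent.Lib.Helper9.BG144

open Cfsg Cfsg.Agent.Lib.Helper1.BGX
open Cfsg.Agent.Lib.Helper8 (mem_map_conj conj_mem_map_conj map_conj_map_conj map_conj_one
  map_conj_le_iff map_conj_eq_iff card_map_conj mem_normalizer_iff_map_conj)
open Cfsg.Agent.Lib.Helper2.BGCor (sigmaCore_le primes_card_sigmaCore)
open Cfsg.Agent.Lib.Helper23.BGY (le_normalizer_sigmaCore not_mem_sigma_of_dvd_compl)
open Cfsg.Agent.Lib.Helper17.BGR2 (H1428)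

variable {G : Type*} [Group G]

theorem map_conj_of_mem {M : Subgroup G} {m : G} (hm : m ∈ M) :
    M.map (MulAut.conj m).toMonoidHom = M :=
  mem_normalizer_iff_map_conj.mp (Subgroup.le_normalizer hm)

/-- `M^(a b) = M^a` for `b ∈ M`. -/
theorem map_conj_mul_of_mem {M : Subgroup G} (a : G) {b : G} (hb : b ∈ M) :
    M.map (MulAut.conj (a * b)).toMonoidHom = M.map (MulAut.conj a).toMonoidHom := by
  rw [← map_conj_map_conj, map_conj_of_mem hb]

/-- **B & G 14.4(a)**, transitivity. -/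
theorem exists_conj_eq [Finite G] (hG : Cfsg.IsMinSimpleOddOrder G) (hSP : SP G) (h28 : H1428 G)
    {M : Subgroup G} (hM : IsCoatom M) {x : G} (hx : x ∈ Cfsg.sigmaCore M) (hx1 : x ≠ 1)
    {g : G} (hxg : x ∈ M.map (MulAut.conj g).toMonoidHom) :
    ∃ r : G, r * x = x * r ∧
      M.map (MulAut.conj g).toMonoidHom = M.map (MulAut.conj r).toMonoidHom ∧
      (r = 1 ∨ ∃ N : Subgroup G, IsCoatom N ∧ Subgroup.centralizer ({x} : Set G) ≤ N ∧
        Cfsg.sigmaCore N ⊓ M = ⊥ ∧ r ∈ Cfsg.sigmaCore N) := by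
  have hxMM : x ∈ M := sigmaCore_le M hx
  have ho1 : orderOf x ≠ 1 := fun h => hx1 (orderOf_eq_one_iff.mp h)
  have hopos : 0 < orderOf x := orderOf_pos x
  obtain ⟨p, hpp, hpx⟩ := Nat.exists_prime_and_dvd ho1
  haveI : Fact p.Prime := ⟨hpp⟩
  obtain ⟨y, hydef⟩ : ∃ y : G, y = x ^ (orderOf x / p) := ⟨_, rfl⟩
  have hyo : orderOf y = p := by
    rw [hydef]; exact orderOf_pow_orderOf_div hopos.ne' hpx
  have hy1 : y ≠ 1 := by
    intro h
    rw [h, orderOf_one] at hyo
    exact hpp.one_lt.ne hyo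
  obtain ⟨X, hXdef⟩ : ∃ X : Subgroup G, X = Subgroup.zpowers y := ⟨_, rfl⟩
  have hXc : Nat.card X = p := by rw [hXdef, Nat.card_zpowers, hyo]
  have hyσ : y ∈ Cfsg.sigmaCore M := hydef ▸ Subgroup.pow_mem _ hx _
  have hXσ : X ≤ Cfsg.sigmaCore M := hXdef ▸ Subgroup.zpowers_le.mpr hyσ
  have hXM : X ≤ M := hXσ.trans (sigmaCore_le M)
  have hXp : IsPGroup p X := IsPGroup.of_card (n := 1) (by rw [hXc, pow_one])
  have hX1 : X ≠ ⊥ := by
    intro h
    rw [h, Subgroup.card_bot] at hXc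
    exact hpp.one_lt.ne hXc
  have hpM : p ∈ Cfsg.sigma M :=
    primes_card_sigmaCore M p hpp (hXc ▸ Subgroup.card_dvd_of_le hXσ)
  -- `X^(g⁻¹) ≤ M`
  have hXg : X.map (MulAut.conj g⁻¹).toMonoidHom ≤ M := by
    rw [map_conj_le_iff, inv_inv, hXdef]
    apply Subgroup.zpowers_le.mpr
    rw [hydef]
    exact Subgroup.pow_mem _ hxg _
  obtain ⟨m, hm, c, hc, hgmc⟩ := (Cfsg.Agent.S1404.result hG M hM p hpM X hXp hX1 hXM).1 g⁻¹ hXg
  have hgeq : g = c⁻¹ * m⁻¹ := by
    have : g = (g⁻¹)⁻¹ := (inv_inv g).symm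
    rw [this, hgmc]; group
  have hMg : M.map (MulAut.conj g).toMonoidHom = M.map (MulAut.conj c⁻¹).toMonoidHom := by
    rw [hgeq]; exact map_conj_mul_of_mem _ (M.inv_mem hm)
  -- `c ∈ C_G(y)`, and `C_G(x) ≤ C_G(y)`
  have hcy : c ∈ Subgroup.centralizer ({y} : Set G) := by
    rw [Subgroup.mem_centralizer_iff]
    intro z hz
    rw [Set.mem_singleton_iff.mp hz]
    exact Subgroup.mem_centralizer_iff.mp hc y (hXdef ▸ Subgroup.mem_zpowers y)
  have hCxy : Subgroup.centralizer ({x} : Set G) ≤ Subgroup.centralizer ({y} : Set G) := by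
    intro d hd
    have hdx : x * d = d * x := Subgroup.mem_centralizer_iff.mp hd x rfl
    rw [Subgroup.mem_centralizer_iff]
    intro z hz
    rw [Set.mem_singleton_iff.mp hz, hydef]
    exact (comm_pow_of_comm hdx.symm _).symm
  by_cases hCy : Subgroup.centralizer ({y} : Set G) ≤ M
  · refine ⟨1, by simp, ?_, Or.inl rfl⟩
    rw [hMg, map_conj_one, map_conj_of_mem (M.inv_mem (hCy hcy))]
  · obtain ⟨N, hN, hNM, hCyN, -, -, hNσM, hcompl, -, -⟩ := thm14_4 hG hSP h28 hM hyσ hy1 hCy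
    obtain ⟨a, ha, b, hb, hcab⟩ := hcompl.2.2.2 c (hCyN hcy)
    have hMg' : M.map (MulAut.conj g).toMonoidHom = M.map (MulAut.conj b⁻¹).toMonoidHom := by
      rw [hMg, hcab]
      have : (a * b)⁻¹ = b⁻¹ * a⁻¹ := by group
      rw [this]
      exact map_conj_mul_of_mem _ (M.inv_mem ha.1)
    have hxN : x ∈ N := hCyN (hCxy (Subgroup.mem_centralizer_iff.mpr (fun z hz => by
      rw [Set.mem_singleton_iff.mp hz])))
    have hbN : b ∈ N := sigmaCore_le N hb
    -- `b x b⁻¹ ∈ M ∩ N`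
    have h1 : b * x * b⁻¹ ∈ M := by
      have h2 : x ∈ M.map (MulAut.conj b⁻¹).toMonoidHom := hMg' ▸ hxg
      rw [mem_map_conj, inv_inv] at h2
      exact h2
    have hxn : x ∈ Subgroup.normalizer ((Cfsg.sigmaCore N : Subgroup G) : Set G) :=
      le_normalizer_sigmaCore N hxN
    have h3 : x⁻¹ * (b * x * b⁻¹) ∈ (M ⊓ N) ⊓ Cfsg.sigmaCore N := by
      refine ⟨⟨M.mul_mem (M.inv_mem hxMM) h1,
        N.mul_mem (N.inv_mem hxN) (N.mul_mem (N.mul_mem hbN hxN) (N.inv_mem hbN))⟩, ?_⟩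
      have e : x⁻¹ * (b * x * b⁻¹) = (x⁻¹ * b * x⁻¹⁻¹) * b⁻¹ := by group
      rw [e]
      refine Subgroup.mul_mem _ ?_ (Subgroup.inv_mem _ hb)
      exact (Subgroup.mem_normalizer_iff.mp (Subgroup.inv_mem _ hxn) b).mp hb
    rw [hcompl.2.2.1, Subgroup.mem_bot] at h3
    have h4 : b * x = x * b := by
      have : b * x * b⁻¹ = x := by
        calc b * x * b⁻¹ = x * (x⁻¹ * (b * x * b⁻¹)) := by group
          _ = x := by rw [h3, mul_one]
      calc b * x = (b * x * b⁻¹) * b := by group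
        _ = x * b := by rw [this]
    refine ⟨b⁻¹, ?_, hMg', Or.inr ⟨N, hN, hCxy.trans hCyN, hNσM, Subgroup.inv_mem _ hb⟩⟩
    calc b⁻¹ * x = b⁻¹ * (x * b) * b⁻¹ := by group
      _ = b⁻¹ * (b * x) * b⁻¹ := by rw [h4]
      _ = x * b⁻¹ := by group

/-- **S1374** from the `σ`-partition and S1428. -/
theorem s1374_of [Finite G] (hG : Cfsg.IsMinSimpleOddOrder G) (hSP : SP G) (h28 : H1428 G)
    (M : Subgroup G) (hM : IsCoatom M) (x : G) (hx : x ∈ Cfsg.sigmaCore M) (hx1 : x ≠ 1) :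
    (Nat.card ↥(M ⊓ Subgroup.centralizer ({x} : Set G))).Coprime
        ((M ⊓ Subgroup.centralizer ({x} : Set G)).relIndex
          (Subgroup.centralizer ({x} : Set G))) ∧
      ∃ R : Subgroup G, Subgroup.centralizer ({x} : Set G) ≤ Subgroup.normalizer (R : Set G) ∧
        Cfsg.IsComplIn (M ⊓ Subgroup.centralizer ({x} : Set G)) R
          (Subgroup.centralizer ({x} : Set G)) ∧
        ∀ g : G, x ∈ M.map (MulAut.conj g).toMonoidHom →
          ∃! r : G, r ∈ R ∧
            M.map (MulAut.conj r).toMonoidHom = M.map (MulAut.conj g).toMonoidHom := by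
  have hxMM : x ∈ M := sigmaCore_le M hx
  by_cases hxM : Subgroup.centralizer ({x} : Set G) ≤ M
  · -- `C_G(x) ≤ M`
    have hinf : M ⊓ Subgroup.centralizer ({x} : Set G) = Subgroup.centralizer ({x} : Set G) :=
      inf_eq_right.mpr hxM
    refine ⟨?_, ⊥, ?_, ?_, ?_⟩
    · rw [hinf, Subgroup.relIndex_self]
      exact Nat.coprime_one_right _
    · intro c _
      rw [Subgroup.mem_normalizer_iff]
      intro z
      simp only [Subgroup.mem_bot]
      constructor
      · intro h; rw [h]; group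
      · intro h
        calc z = c⁻¹ * (c * z * c⁻¹) * c := by group
          _ = 1 := by rw [h]; group
    · refine ⟨inf_le_right, bot_le, inf_bot_eq _, fun c hc => ?_⟩
      exact ⟨c, ⟨hxM hc, hc⟩, 1, Subgroup.mem_bot.mpr rfl, (mul_one c).symm⟩
    · intro g hxg
      obtain ⟨r, hrx, hMg, hr⟩ := exists_conj_eq hG hSP h28 hM hx hx1 hxg
      have hr1 : r = 1 := by
        rcases hr with hr | ⟨N, -, -, hNσM, hrN⟩
        · exact hr
        · have hrM : r ∈ M := hxM (Subgroup.mem_centralizer_iff.mpr (fun z hz => by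
            rw [Set.mem_singleton_iff.mp hz]; exact hrx.symm))
          have : r ∈ Cfsg.sigmaCore N ⊓ M := ⟨hrN, hrM⟩
          rwa [hNσM, Subgroup.mem_bot] at this
      refine ⟨1, ⟨Subgroup.mem_bot.mpr rfl, ?_⟩, fun r' hr' => Subgroup.mem_bot.mp hr'.1⟩
      rw [hMg, hr1]
  · -- `C_G(x) ⊄ M`
    obtain ⟨N, hN, hNM, hCxN, hu, hnil, hNσM, hcompl, hτ2, hR1⟩ :=
      thm14_4 hG hSP h28 hM hx hx1 hxM
    obtain ⟨N', ⟨hN', hCxN'⟩, -, -, hnorm, hcomplC, -, -⟩ := s1375_of hG hSP h28 M hM x hx hx1 hxM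
    have hNN' : N' = N := hu N' hN' hCxN'
    rw [hNN'] at hnorm hcomplC
    have hcard := Cfsg.Agent.Lib.Helper9.isComplIn_card_mul_card hcomplC
    refine ⟨?_, Cfsg.sigmaCore N ⊓ Subgroup.centralizer ({x} : Set G), hnorm, hcomplC, ?_⟩
    · -- coprimality
      have h1 := Cfsg.Agent.Lib.Helper9.card_eq_card_mul_relIndex
        (inf_le_right : M ⊓ Subgroup.centralizer ({x} : Set G) ≤ Subgroup.centralizer ({x} : Set G))
      have h2 : (M ⊓ Subgroup.centralizer ({x} : Set G)).relIndex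
          (Subgroup.centralizer ({x} : Set G)) =
          Nat.card ↥(Cfsg.sigmaCore N ⊓ Subgroup.centralizer ({x} : Set G)) := by
        rw [← hcard] at h1
        exact (Nat.eq_of_mul_eq_mul_left Nat.card_pos h1).symm
      rw [h2]
      apply Nat.coprime_of_dvd
      intro r hr hr1 hr2
      have h3 : r ∣ Nat.card ↥(M ⊓ N) :=
        hr1.trans (Subgroup.card_dvd_of_le (inf_le_inf_left M hCxN))
      have h4 : r ∈ Cfsg.sigma N :=
        primes_card_sigmaCore N r hr (hr2.trans (Subgroup.card_dvd_of_le inf_le_left))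
      exact not_mem_sigma_of_dvd_compl hG hN hcompl hr h3 h4
    · intro g hxg
      obtain ⟨r, hrx, hMg, hr⟩ := exists_conj_eq hG hSP h28 hM hx hx1 hxg
      have hrC : r ∈ Subgroup.centralizer ({x} : Set G) :=
        Subgroup.mem_centralizer_iff.mpr (fun z hz => by
          rw [Set.mem_singleton_iff.mp hz]; exact hrx.symm)
      have hrR : r ∈ Cfsg.sigmaCore N ⊓ Subgroup.centralizer ({x} : Set G) := by
        rcases hr with hr | ⟨L, hL, hCxL, -, hrL⟩
        · rw [hr]; exact Subgroup.one_mem _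
        · rw [hu L hL hCxL] at hrL
          exact ⟨hrL, hrC⟩
      refine ⟨r, ⟨hrR, hMg.symm⟩, fun r' hr' => ?_⟩
      -- uniqueness
      have hM1 : M ≠ ⊥ := fun h => hx1 (by rw [h] at hxMM; exact Subgroup.mem_bot.mp hxMM)
      have h1 : M.map (MulAut.conj r').toMonoidHom = M.map (MulAut.conj r).toMonoidHom :=
        hr'.2.trans hMg
      have h2 : M.map (MulAut.conj (r⁻¹ * r')).toMonoidHom = M := by
        rw [← map_conj_map_conj, h1, map_conj_map_conj, inv_mul_cancel, map_conj_one]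
      have h3 : r⁻¹ * r' ∈ M := by
        have := mem_normalizer_iff_map_conj.mpr h2
        rwa [normalizer_coatom hG hM hM1] at this
      have h4 : r⁻¹ * r' ∈ Cfsg.sigmaCore N ⊓ M :=
        ⟨Subgroup.mul_mem _ (Subgroup.inv_mem _ hrR.1) hr'.1.1, h3⟩
      rw [hNσM, Subgroup.mem_bot] at h4
      calc r' = r * (r⁻¹ * r') := by group
        _ = r := by rw [h4, mul_one]

end Cfsg.Agent.Lib.Helper9.BG144
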