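import Mathlib
import Cfsg.Agent.Lib.Helper9.BG144C
import Cfsg.Agent.Lib.Helper11.TwoGroupE8

/-!
# B & G 14.5 (helper9): the cosets `x R(x)` are pairwise disjoint (frozen S1433)

Hypothesis form: `SP G` (conclusion of S1378) and helper17's `H1428 G`.

* `mem_sigmaCore_iff`, `sigmaCore_map_conj`: `M_σ` is the set of `σ(M)`-elements of `M`;
* `RData M x N`: the data of B & G 14.4 for `x ∈ M_σ^#` with `C_G(x) ⊄ M`;
* `supportR_of_le`, `supportR_eq`: the value of `Cfsg.supportR M x`;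
* `decomp_unique`: uniqueness of the decomposition into commuting `π`- and `π'`-parts;
* `s1433_of`: verbatim the conclusion of frozen S1433.
-/

set_option autoImplicit false
set_option linter.style.haveILetI false
open scoped commutatorElement

namespace Cfsg.Agent.Lib.Helper9.BG144

open Cfsg Cfsg.Agent.Lib.Helper1.BGX
open Cfsg.Agent.Lib.Helper8 (mem_map_conj conj_mem_map_conj map_conj_map_conj map_conj_one
  map_conj_le_iff map_conj_eq_iff card_map_conj mem_normalizer_iff_map_conj)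
open Cfsg.Agent.Lib.Helper2.BGCor (sigmaCore_le primes_card_sigmaCore)
open Cfsg.Agent.Lib.Helper16.BGPrim (sigma_map_conj)
open Cfsg.Agent.Lib.Helper23.BGY (le_normalizer_sigmaCore le_of_coprime_index_normal)
open Cfsg.Agent.Lib.Helper17.BGR2 (H1428)

variable {G : Type*} [Group G]

/-! ### `M_σ` as the set of `σ(M)`-elements of `M` -/

theorem mem_sigmaCore_iff [Finite G] (hG : Cfsg.IsMinSimpleOddOrder G) {M : Subgroup G}
    (hM : IsCoatom M) {x : G} :
    x ∈ Cfsg.sigmaCore M ↔ x ∈ M ∧ ∀ p : ℕ, p.Prime → p ∣ orderOf x → p ∈ Cfsg.sigma M := by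
  constructor
  · intro hx
    refine ⟨sigmaCore_le M hx, fun p hp hd => ?_⟩
    exact primes_card_sigmaCore M p hp (hd.trans (Subgroup.orderOf_dvd_natCard _ hx))
  · rintro ⟨hxM, hpr⟩
    obtain ⟨⟨hle, -, hidx⟩, -, -⟩ := Cfsg.Agent.S1350.result hG M hM
    haveI hn : ((Cfsg.sigmaCore M).subgroupOf M).Normal :=
      Subgroup.normal_subgroupOf_of_le_normalizer (le_normalizer_sigmaCore M)
    have h1 : Subgroup.zpowers (⟨x, hxM⟩ : ↥M) ≤ (Cfsg.sigmaCore M).subgroupOf M := by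
      apply le_of_coprime_index_normal
      rw [Nat.card_zpowers, Subgroup.orderOf_mk]
      apply Nat.coprime_of_dvd
      intro r hr h1 h2
      exact hidx r hr (hpr r hr h1) h2
    exact Subgroup.mem_subgroupOf.mp (h1 (Subgroup.mem_zpowers _))

theorem sigma_map_conj_iff [Finite G] {M : Subgroup G} {p : ℕ} (g : G) :
    p ∈ Cfsg.sigma (M.map (MulAut.conj g).toMonoidHom) ↔ p ∈ Cfsg.sigma M := by
  constructor
  · intro h
    have := sigma_map_conj h g⁻¹
    rwa [map_conj_map_conj, inv_mul_cancel, map_conj_one] at this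
  · intro h
    exact sigma_map_conj h g

theorem orderOf_conj_inv (g x : G) : orderOf (g⁻¹ * x * g) = orderOf x := by
  have : g⁻¹ * x * g = (MulAut.conj g⁻¹) x := by rw [MulAut.conj_apply, inv_inv]
  rw [this]
  exact MulEquiv.orderOf_eq (MulAut.conj g⁻¹) x

theorem mem_sigmaCore_map_conj [Finite G] (hG : Cfsg.IsMinSimpleOddOrder G) {M : Subgroup G}
    (hM : IsCoatom M) {g x : G} :
    x ∈ Cfsg.sigmaCore (M.map (MulAut.conj g).toMonoidHom) ↔
      g⁻¹ * x * g ∈ Cfsg.sigmaCore M := by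
  rw [mem_sigmaCore_iff hG (Cfsg.Agent.Lib.Helper17.BGU.isCoatom_map_conj g hM),
    mem_sigmaCore_iff hG hM, mem_map_conj, orderOf_conj_inv]
  simp only [sigma_map_conj_iff]

theorem sigmaCore_map_conj [Finite G] (hG : Cfsg.IsMinSimpleOddOrder G) {M : Subgroup G}
    (hM : IsCoatom M) (g : G) :
    Cfsg.sigmaCore (M.map (MulAut.conj g).toMonoidHom) =
      (Cfsg.sigmaCore M).map (MulAut.conj g).toMonoidHom := by
  ext x
  rw [mem_sigmaCore_map_conj hG hM, mem_map_conj]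

/-! ### the data of Theorem 14.4 -/

/-- The conclusion of B & G 14.4 for `x ∈ M_σ^#` with `C_G(x) ⊄ M`. -/
structure RData (M : Subgroup G) (x : G) (N : Subgroup G) : Prop where
  coatom : IsCoatom N
  ne : N ≠ M
  cent_le : Subgroup.centralizer ({x} : Set G) ≤ N
  uniq : ∀ L : Subgroup G, IsCoatom L → Subgroup.centralizer ({x} : Set G) ≤ L → L = N
  nil : Group.IsNilpotent (Cfsg.sigmaCore N)
  inf_bot : Cfsg.sigmaCore N ⊓ M = ⊥
  compl : Cfsg.IsComplIn (M ⊓ N) (Cfsg.sigmaCore N) N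
  tau2 : ∀ p : ℕ, p.Prime → p ∣ orderOf x → p ∈ Cfsg.tau2 N
  ne_bot : Cfsg.sigmaCore N ⊓ Subgroup.centralizer ({x} : Set G) ≠ ⊥

theorem exists_rdata [Finite G] (hG : Cfsg.IsMinSimpleOddOrder G) (hSP : SP G) (h28 : H1428 G)
    {M : Subgroup G} (hM : IsCoatom M) {x : G} (hx : x ∈ Cfsg.sigmaCore M) (hx1 : x ≠ 1)
    (hxM : ¬ Subgroup.centralizer ({x} : Set G) ≤ M) : ∃ N : Subgroup G, RData M x N := by
  obtain ⟨N, h1, h2, h3, h4, h5, h6, h7, h8, h9⟩ := thm14_4 hG hSP h28 hM hx hx1 hxM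
  exact ⟨N, ⟨h1, h2, h3, h4, h5, h6, h7, h8, h9⟩⟩

theorem self_mem_centralizer (x : G) : x ∈ Subgroup.centralizer ({x} : Set G) :=
  Subgroup.mem_centralizer_iff.mpr (fun z hz => by rw [Set.mem_singleton_iff.mp hz])

/-- `σ(N) ∩ σ(M) = ∅` in the situation of 14.4. -/
theorem RData.sigma_disjoint [Finite G] (hSP : SP G) {M N : Subgroup G} {x : G}
    (h : RData M x N) (hM : IsCoatom M) (hx : x ∈ Cfsg.sigmaCore M) (hx1 : x ≠ 1) {q : ℕ}
    (hqN : q ∈ Cfsg.sigma N) : q ∉ Cfsg.sigma M := by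
  intro hqM
  obtain ⟨g, hg⟩ := hSP M N hM h.coatom ⟨q, hqM, hqN⟩
  have ho1 : orderOf x ≠ 1 := fun h => hx1 (orderOf_eq_one_iff.mp h)
  obtain ⟨p, hpp, hpx⟩ := Nat.exists_prime_and_dvd ho1
  have hpM : p ∈ Cfsg.sigma M :=
    primes_card_sigmaCore M p hpp (hpx.trans (Subgroup.orderOf_dvd_natCard _ hx))
  have hpN : p ∈ Cfsg.sigma N := hg ▸ sigma_map_conj hpM g
  exact (h.tau2 p hpp hpx).2.1 hpN

/-! ### the value of `supportR` -/

theorem supportR_of_le {M : Subgroup G} {x : G}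
    (h : Subgroup.centralizer ({x} : Set G) ≤ M) : Cfsg.supportR M x = ⊥ := by
  unfold Cfsg.supportR
  rw [dif_neg]
  exact fun h' => h'.1 h

theorem supportR_of_unique {M N : Subgroup G} {x : G}
    (h1 : ¬ Subgroup.centralizer ({x} : Set G) ≤ M) (hN : IsCoatom N)
    (hCN : Subgroup.centralizer ({x} : Set G) ≤ N)
    (hu : ∀ L : Subgroup G, IsCoatom L → Subgroup.centralizer ({x} : Set G) ≤ L → L = N) :
    Cfsg.supportR M x = Cfsg.fittingHallOf N ⊓ Subgroup.centralizer ({x} : Set G) := by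
  have h : ¬ Subgroup.centralizer ({x} : Set G) ≤ M ∧
      ∃! L : Subgroup G, IsCoatom L ∧ Subgroup.centralizer ({x} : Set G) ≤ L :=
    ⟨h1, N, ⟨hN, hCN⟩, fun L hL => hu L hL.1 hL.2⟩
  unfold Cfsg.supportR
  rw [dif_pos h]
  have h2 := Classical.choose_spec h.2.exists
  rw [hu _ h2.1 h2.2]

theorem RData.supportR_eq [Finite G] (hG : Cfsg.IsMinSimpleOddOrder G) {M N : Subgroup G}
    {x : G} (h : RData M x N) (hxM : ¬ Subgroup.centralizer ({x} : Set G) ≤ M) :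
    Cfsg.supportR M x = Cfsg.sigmaCore N ⊓ Subgroup.centralizer ({x} : Set G) := by
  rw [supportR_of_unique hxM h.coatom h.cent_le h.uniq,
    sigmaCore_eq_fittingHallOf hG h.coatom h.nil]

/-- an element of `R(x)` is `1` or lies in `C_{N_σ}(x)` for the subgroup `N` of 14.4. -/
theorem mem_supportR_cases [Finite G] (hG : Cfsg.IsMinSimpleOddOrder G) (hSP : SP G)
    (h28 : H1428 G) {M : Subgroup G} (hM : IsCoatom M) {x : G} (hx : x ∈ Cfsg.sigmaCore M)
    (hx1 : x ≠ 1) {r : G} (hr : r ∈ Cfsg.supportR M x) :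
    r = 1 ∨ ∃ N : Subgroup G, RData M x N ∧
      r ∈ Cfsg.sigmaCore N ⊓ Subgroup.centralizer ({x} : Set G) := by
  by_cases hxM : Subgroup.centralizer ({x} : Set G) ≤ M
  · left
    rw [supportR_of_le hxM, Subgroup.mem_bot] at hr
    exact hr
  · right
    obtain ⟨N, hN⟩ := exists_rdata hG hSP h28 hM hx hx1 hxM
    exact ⟨N, hN, hN.supportR_eq hG hxM ▸ hr⟩

/-! ### `π`-decompositions -/

theorem commute_of_mem_zpowers {g a b : G} (ha : a ∈ Subgroup.zpowers g)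
    (hb : b ∈ Subgroup.zpowers g) : a * b = b * a := by
  obtain ⟨i, rfl⟩ := Subgroup.mem_zpowers_iff.mp ha
  obtain ⟨j, rfl⟩ := Subgroup.mem_zpowers_iff.mp hb
  rw [← zpow_add, ← zpow_add, add_comm]

theorem coprime_of_pi [Finite G] {π : Set ℕ} {x r : G}
    (hx : ∀ p : ℕ, p.Prime → p ∣ orderOf x → p ∈ π)
    (hr : ∀ p : ℕ, p.Prime → p ∣ orderOf r → p ∉ π) : (orderOf x).Coprime (orderOf r) :=
  Nat.coprime_of_dvd (fun p hp h1 h2 => hr p hp h2 (hx p hp h1))

/-- the factors of a commuting product of elements of coprime orders are powers of it. -/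
theorem mem_zpowers_mul [Finite G] {x r : G} (hxr : x * r = r * x)
    (hcop : (orderOf x).Coprime (orderOf r)) :
    x ∈ Subgroup.zpowers (x * r) ∧ r ∈ Subgroup.zpowers (x * r) := by
  have h1 := Cfsg.Agent.Lib.Helper24.BGReg.mem_zpowers_mul_of_coprime hxr hcop
    (orderOf_pos x).ne'
  refine ⟨h1, ?_⟩
  have h2 : x⁻¹ * (x * r) ∈ Subgroup.zpowers (x * r) :=
    Subgroup.mul_mem _ (Subgroup.inv_mem _ h1) (Subgroup.mem_zpowers _)
  have : x⁻¹ * (x * r) = r := by group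
  rwa [this] at h2

/-- uniqueness of the decomposition into commuting `π`- and `π'`-parts. -/
theorem decomp_unique [Finite G] {π : Set ℕ} {x r y s : G} (hxr : x * r = r * x)
    (hys : y * s = s * y)
    (hx : ∀ p : ℕ, p.Prime → p ∣ orderOf x → p ∈ π)
    (hy : ∀ p : ℕ, p.Prime → p ∣ orderOf y → p ∈ π)
    (hr : ∀ p : ℕ, p.Prime → p ∣ orderOf r → p ∉ π)
    (hs : ∀ p : ℕ, p.Prime → p ∣ orderOf s → p ∉ π) (h : x * r = y * s) : x = y ∧ r = s := by
  obtain ⟨hxg, hrg⟩ := mem_zpowers_mul hxr (coprime_of_pi hx hr)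
  obtain ⟨hyg, hsg⟩ := mem_zpowers_mul hys (coprime_of_pi hy hs)
  rw [← h] at hyg hsg
  have hz : x⁻¹ * y = r * s⁻¹ := by
    have : r = x⁻¹ * (y * s) := by rw [← h]; group
    rw [this]; group
  have hc1 : Commute x⁻¹ y :=
    commute_of_mem_zpowers (Subgroup.inv_mem _ hxg) hyg
  have hc2 : Commute r s⁻¹ := commute_of_mem_zpowers hrg (Subgroup.inv_mem _ hsg)
  have h1 : orderOf (x⁻¹ * y) = 1 := by
    by_contra hne
    obtain ⟨p, hp, hpd⟩ := Nat.exists_prime_and_dvd hne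
    have hd1 : p ∣ Nat.lcm (orderOf x⁻¹) (orderOf y) := hpd.trans hc1.orderOf_mul_dvd_lcm
    have hd2 : p ∣ Nat.lcm (orderOf r) (orderOf s⁻¹) := by
      rw [hz] at hpd; exact hpd.trans hc2.orderOf_mul_dvd_lcm
    rw [orderOf_inv] at hd1 hd2
    have hpπ : p ∈ π := by
      rcases (Nat.Prime.dvd_mul hp).mp (hd1.trans (Nat.lcm_dvd_mul _ _)) with h3 | h3
      · exact hx p hp h3
      · exact hy p hp h3
    rcases (Nat.Prime.dvd_mul hp).mp (hd2.trans (Nat.lcm_dvd_mul _ _)) with h3 | h3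
    · exact hr p hp h3 hpπ
    · exact hs p hp h3 hpπ
  have h2 : x⁻¹ * y = 1 := orderOf_eq_one_iff.mp h1
  have hxy : x = y := by
    calc x = x * (x⁻¹ * y) := by rw [h2, mul_one]
      _ = y := by group
  refine ⟨hxy, ?_⟩
  rw [hxy] at h
  exact mul_left_cancel h

/-- if `x r = y s` (commuting, coprime orders) and `o(y)` is prime to `o(x)`, then `y ∈ ⟨r⟩`. -/
theorem mem_zpowers_of_decomp [Finite G] {x r y s : G} (hxr : x * r = r * x)
    (hys : y * s = s * y) (hcop1 : (orderOf x).Coprime (orderOf r))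
    (hcop2 : (orderOf y).Coprime (orderOf s)) (hcop3 : (orderOf y).Coprime (orderOf x))
    (h : x * r = y * s) : y ∈ Subgroup.zpowers r := by
  obtain ⟨hxg, hrg⟩ := mem_zpowers_mul hxr hcop1
  obtain ⟨hyg, -⟩ := mem_zpowers_mul hys hcop2
  rw [← h] at hyg
  apply Cfsg.Agent.Lib.Helper11.mem_zpowers_of_orderOf_dvd hyg hrg
  have h1 : orderOf y ∣ orderOf (x * r) := orderOf_dvd_of_mem_zpowers hyg
  rw [(show Commute x r from hxr).orderOf_mul_eq_mul_orderOf_of_coprime hcop1] at h1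
  exact hcop3.dvd_of_dvd_mul_left h1

/-! ### elements of `R(x)` -/

theorem comm_of_mem_supportR [Finite G] (hG : Cfsg.IsMinSimpleOddOrder G) (hSP : SP G)
    (h28 : H1428 G) {M : Subgroup G} (hM : IsCoatom M) {x : G} (hx : x ∈ Cfsg.sigmaCore M)
    (hx1 : x ≠ 1) {r : G} (hr : r ∈ Cfsg.supportR M x) : x * r = r * x := by
  rcases mem_supportR_cases hG hSP h28 hM hx hx1 hr with rfl | ⟨L, -, hrL⟩
  · rw [mul_one, one_mul]
  · exact Subgroup.mem_centralizer_iff.mp hrL.2 x rfl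

theorem primes_of_mem_supportR [Finite G] (hG : Cfsg.IsMinSimpleOddOrder G) (hSP : SP G)
    (h28 : H1428 G) {M : Subgroup G} (hM : IsCoatom M) {x : G} (hx : x ∈ Cfsg.sigmaCore M)
    (hx1 : x ≠ 1) {r : G} (hr : r ∈ Cfsg.supportR M x) :
    ∀ p : ℕ, p.Prime → p ∣ orderOf r → p ∉ Cfsg.sigma M := by
  intro p hp hd
  rcases mem_supportR_cases hG hSP h28 hM hx hx1 hr with rfl | ⟨L, hL, hrL⟩
  · rw [orderOf_one] at hd
    exact absurd (Nat.dvd_one.mp hd) hp.ne_one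
  · exact hL.sigma_disjoint hSP hM hx hx1
      (((mem_sigmaCore_iff hG hL.coatom).mp hrL.1).2 p hp hd)

/-- **S1433** from the `σ`-partition and S1428. -/
theorem s1433_of [Finite G] (hG : Cfsg.IsMinSimpleOddOrder G) (hSP : SP G) (h28 : H1428 G)
    (M N : Subgroup G) (hM : IsCoatom M) (hN : IsCoatom N) (x y : G)
    (hx : x ∈ Cfsg.sigmaCore M) (hy : y ∈ Cfsg.sigmaCore N) (hx1 : x ≠ 1) (hy1 : y ≠ 1)
    (hxy : x ≠ y) :
    ∀ r ∈ Cfsg.supportR M x, ∀ s ∈ Cfsg.supportR N y, x * r ≠ y * s := by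
  intro r hr s hs heq
  have hxπ := ((mem_sigmaCore_iff hG hM).mp hx).2
  have hyπ := ((mem_sigmaCore_iff hG hN).mp hy).2
  have hrx := comm_of_mem_supportR hG hSP h28 hM hx hx1 hr
  have hsy := comm_of_mem_supportR hG hSP h28 hN hy hy1 hs
  have hrπ := primes_of_mem_supportR hG hSP h28 hM hx hx1 hr
  have hsπ := primes_of_mem_supportR hG hSP h28 hN hy hy1 hs
  by_cases hconj : ∃ g : G, N = M.map (MulAut.conj g).toMonoidHom
  · obtain ⟨g, rfl⟩ := hconj
    have := decomp_unique (π := Cfsg.sigma M) hrx hsy hxπ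
      (fun p hp hd => (sigma_map_conj_iff g).mp (hyπ p hp hd)) hrπ
      (fun p hp hd h => hsπ p hp hd ((sigma_map_conj_iff g).mpr h)) heq
    exact hxy this.1
  · push Not at hconj
    have hdis : ∀ q : ℕ, q ∈ Cfsg.sigma M → q ∉ Cfsg.sigma N := by
      intro q h1 h2
      obtain ⟨g, hg⟩ := hSP M N hM hN ⟨q, h1, h2⟩
      exact hconj g hg
    have hcop1 : (orderOf x).Coprime (orderOf r) := coprime_of_pi hxπ hrπ
    have hcop2 : (orderOf y).Coprime (orderOf s) := coprime_of_pi hyπ hsπ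
    have hcop3 : (orderOf y).Coprime (orderOf x) :=
      Nat.coprime_of_dvd (fun p hp h1 h2 => hdis p (hxπ p hp h2) (hyπ p hp h1))
    have hyr : y ∈ Subgroup.zpowers r := mem_zpowers_of_decomp hrx hsy hcop1 hcop2 hcop3 heq
    have hxs : x ∈ Subgroup.zpowers s :=
      mem_zpowers_of_decomp hsy hrx hcop2 hcop1 hcop3.symm heq.symm
    rcases mem_supportR_cases hG hSP h28 hM hx hx1 hr with rfl | ⟨L, hL, hrL⟩
    · rw [Subgroup.zpowers_one_eq_bot, Subgroup.mem_bot] at hyr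
      exact hy1 hyr
    rcases mem_supportR_cases hG hSP h28 hN hy hy1 hs with rfl | ⟨L₂, hL₂, hsL₂⟩
    · rw [Subgroup.zpowers_one_eq_bot, Subgroup.mem_bot] at hxs
      exact hx1 hxs
    have hyL : y ∈ Cfsg.sigmaCore L := (Subgroup.zpowers_le.mpr hrL.1) hyr
    have hxL₂ : x ∈ Cfsg.sigmaCore L₂ := (Subgroup.zpowers_le.mpr hsL₂.1) hxs
    by_cases hLL : L₂ = L
    · have h1 : x ∈ Cfsg.sigmaCore L ⊓ M := ⟨hLL ▸ hxL₂, sigmaCore_le M hx⟩
      rw [hL.inf_bot, Subgroup.mem_bot] at h1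
      exact hx1 h1
    · have hxL₂' : ¬ Subgroup.centralizer ({x} : Set G) ≤ L₂ :=
        fun h => hLL (hL.uniq L₂ hL₂.coatom h)
      obtain ⟨N', hN'⟩ := exists_rdata hG hSP h28 hL₂.coatom hxL₂ hx1 hxL₂'
      have hN'L : N' = L := hL.uniq N' hN'.coatom hN'.cent_le
      have h1 : y ∈ Cfsg.sigmaCore N' ⊓ L₂ :=
        ⟨hN'L ▸ hyL, hL₂.cent_le (self_mem_centralizer y)⟩
      rw [hN'.inf_bot, Subgroup.mem_bot] at h1
      exact hy1 h1

end Cfsg.Agent.Lib.Helper9.BG144
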