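import Mathlib
import Cfsg.Agent.Lib.Helper9.BG145A

/-!
# B & G 14.5 (helper9): `|M̃| = (|M_σ| - 1) |G : M|` (frozen S1377)

Hypothesis form: `SP G` (conclusion of S1378) and helper17's `H1428 G`.
-/

set_option autoImplicit false
set_option linter.style.haveILetI false
open scoped commutatorElement

namespace Cfsg.Agent.Lib.Helper9.BG144

open Cfsg Cfsg.Agent.Lib.Helper1.BGX
open Cfsg.Agent.Lib.Helper8 (mem_map_conj conj_mem_map_conj map_conj_map_conj map_conj_one
  map_conj_le_iff map_conj_eq_iff card_map_conj mem_normalizer_iff_map_conj)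
open Cfsg.Agent.Lib.Helper2.BGCor (sigmaCore_le primes_card_sigmaCore)
open Cfsg.Agent.Lib.Helper17.BGU (isCoatom_map_conj)
open Cfsg.Agent.Lib.Helper17.BGR2 (H1428)

variable {G : Type*} [Group G]

/-! ### conjugates of `M`, indexed by `G ⧸ M` -/

/-- the conjugate of `M` attached to a coset of `M`. -/
noncomputable def conjOf (M : Subgroup G) (q : G ⧸ M) : Subgroup G :=
  M.map (MulAut.conj (Quotient.out q)).toMonoidHom

theorem exists_conjOf_eq (M : Subgroup G) (g : G) :
    ∃ q : G ⧸ M, conjOf M q = M.map (MulAut.conj g).toMonoidHom := by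
  obtain ⟨h, hh⟩ := QuotientGroup.mk_out_eq_mul M g
  refine ⟨(g : G ⧸ M), ?_⟩
  unfold conjOf
  rw [hh]
  exact map_conj_mul_of_mem g h.2

theorem conjOf_injective [Finite G] (hG : Cfsg.IsMinSimpleOddOrder G) {M : Subgroup G}
    (hM : IsCoatom M) (hM1 : M ≠ ⊥) {q q' : G ⧸ M} (h : conjOf M q = conjOf M q') : q = q' := by
  unfold conjOf at h
  have h1 : M.map (MulAut.conj ((Quotient.out q)⁻¹ * Quotient.out q')).toMonoidHom = M := by
    rw [← map_conj_map_conj, ← h, map_conj_map_conj, inv_mul_cancel, map_conj_one]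
  have h2 : (Quotient.out q)⁻¹ * Quotient.out q' ∈ M := by
    have := mem_normalizer_iff_map_conj.mpr h1
    rwa [normalizer_coatom hG hM hM1] at this
  have h3 : ((Quotient.out q : G) : G ⧸ M) = ((Quotient.out q' : G) : G ⧸ M) :=
    QuotientGroup.eq.mpr h2
  rwa [QuotientGroup.out_eq', QuotientGroup.out_eq'] at h3

theorem isCoatom_conjOf {M : Subgroup G} (hM : IsCoatom M) (q : G ⧸ M) :
    IsCoatom (conjOf M q) := isCoatom_map_conj _ hM

/-! ### `supportR` and conjugation -/

/-- `supportR M x` depends on `M` only through the truth of `C_G(x) ≤ M`. -/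
theorem supportR_congr {M₁ M₂ : Subgroup G} {x : G}
    (h : Subgroup.centralizer ({x} : Set G) ≤ M₁ ↔ Subgroup.centralizer ({x} : Set G) ≤ M₂) :
    Cfsg.supportR M₁ x = Cfsg.supportR M₂ x := by
  by_cases h1 : Subgroup.centralizer ({x} : Set G) ≤ M₁
  · rw [supportR_of_le h1, supportR_of_le (h.mp h1)]
  · have h2 : ¬ Subgroup.centralizer ({x} : Set G) ≤ M₂ := fun h' => h1 (h.mpr h')
    by_cases hu : ∃! L : Subgroup G, IsCoatom L ∧ Subgroup.centralizer ({x} : Set G) ≤ L
    · obtain ⟨N, ⟨hN, hCN⟩, hu'⟩ := hu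
      have hu'' : ∀ L : Subgroup G, IsCoatom L → Subgroup.centralizer ({x} : Set G) ≤ L →
          L = N := fun L hL hCL => hu' L ⟨hL, hCL⟩
      rw [supportR_of_unique h1 hN hCN hu'', supportR_of_unique h2 hN hCN hu'']
    · unfold Cfsg.supportR
      rw [dif_neg (fun h' => hu h'.2), dif_neg (fun h' => hu h'.2)]

/-- conjugating by an element of `C_G(x)` does not change `supportR · x`. -/
theorem supportR_map_conj_of_comm {M : Subgroup G} {x r : G} (hr : r * x = x * r) :
    Cfsg.supportR (M.map (MulAut.conj r).toMonoidHom) x = Cfsg.supportR M x := by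
  apply supportR_congr
  have key : ∀ (A : Subgroup G) (t : G), t * x = x * t →
      Subgroup.centralizer ({x} : Set G) ≤ A →
      Subgroup.centralizer ({x} : Set G) ≤ A.map (MulAut.conj t).toMonoidHom := by
    intro A t ht hA c hc
    rw [mem_map_conj]
    apply hA
    have htC : t ∈ Subgroup.centralizer ({x} : Set G) :=
      Subgroup.mem_centralizer_iff.mpr (fun z hz => by
        rw [Set.mem_singleton_iff.mp hz]; exact ht.symm)
    exact Subgroup.mul_mem _ (Subgroup.mul_mem _ (Subgroup.inv_mem _ htC) hc) htC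
  constructor
  · intro h
    have h2 := key _ r⁻¹ (by
      calc r⁻¹ * x = r⁻¹ * (x * r) * r⁻¹ := by group
        _ = r⁻¹ * (r * x) * r⁻¹ := by rw [hr]
        _ = x * r⁻¹ := by group) h
    rwa [map_conj_map_conj, inv_mul_cancel, map_conj_one] at h2
  · exact key M r hr

theorem conj_mem_centralizer_singleton {a c : G} (y : G)
    (hc : c ∈ Subgroup.centralizer ({a} : Set G)) :
    y * c * y⁻¹ ∈ Subgroup.centralizer ({y * a * y⁻¹} : Set G) := by
  rw [Subgroup.mem_centralizer_iff] at hc ⊢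
  intro z hz
  rw [Set.mem_singleton_iff.mp hz]
  have h := hc a rfl
  calc y * a * y⁻¹ * (y * c * y⁻¹) = y * (a * c) * y⁻¹ := by group
    _ = y * (c * a) * y⁻¹ := by rw [h]
    _ = y * c * y⁻¹ * (y * a * y⁻¹) := by group

theorem RData.not_le {M N : Subgroup G} {x : G} (h : RData M x N) :
    ¬ Subgroup.centralizer ({x} : Set G) ≤ M := by
  intro hle
  apply h.ne_bot
  rw [eq_bot_iff, ← h.inf_bot]
  exact fun z hz => ⟨hz.1, hle hz.2⟩

/-- `supportR` is compatible with conjugation (one inclusion). -/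
theorem conj_mem_supportR [Finite G] (hG : Cfsg.IsMinSimpleOddOrder G) (hSP : SP G)
    (h28 : H1428 G) {M : Subgroup G} (hM : IsCoatom M) {a : G} (ha : a ∈ Cfsg.sigmaCore M)
    (ha1 : a ≠ 1) {r : G} (hr : r ∈ Cfsg.supportR M a) (y : G) :
    y * r * y⁻¹ ∈ Cfsg.supportR (M.map (MulAut.conj y).toMonoidHom) (y * a * y⁻¹) := by
  rcases mem_supportR_cases hG hSP h28 hM ha ha1 hr with rfl | ⟨L, hL, hrL⟩
  · have : y * 1 * y⁻¹ = 1 := by group
    rw [this]; exact Subgroup.one_mem _
  · have hM' : IsCoatom (M.map (MulAut.conj y).toMonoidHom) := isCoatom_map_conj y hM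
    have ha' : y * a * y⁻¹ ∈ Cfsg.sigmaCore (M.map (MulAut.conj y).toMonoidHom) := by
      rw [mem_sigmaCore_map_conj hG hM]
      have : y⁻¹ * (y * a * y⁻¹) * y = a := by group
      rw [this]; exact ha
    have ha1' : y * a * y⁻¹ ≠ 1 := by
      intro h
      apply ha1
      have : a = y⁻¹ * (y * a * y⁻¹) * y := by group
      rw [this, h]; group
    have back : ∀ c : G, c ∈ Subgroup.centralizer ({y * a * y⁻¹} : Set G) →
        y⁻¹ * c * y ∈ Subgroup.centralizer ({a} : Set G) := by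
      intro c hc
      have h1 := conj_mem_centralizer_singleton y⁻¹ hc
      have e : y⁻¹ * (y * a * y⁻¹) * y⁻¹⁻¹ = a := by group
      rw [e, inv_inv] at h1
      exact h1
    have hnot : ¬ Subgroup.centralizer ({y * a * y⁻¹} : Set G) ≤
        M.map (MulAut.conj y).toMonoidHom := by
      intro hle
      apply hL.not_le
      intro c hc
      have h1 := hle (conj_mem_centralizer_singleton y hc)
      rw [mem_map_conj] at h1
      have e : y⁻¹ * (y * c * y⁻¹) * y = c := by group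
      rwa [e] at h1
    obtain ⟨L', hL'⟩ := exists_rdata hG hSP h28 hM' ha' ha1' hnot
    have hLL' : L.map (MulAut.conj y).toMonoidHom = L' := by
      apply hL'.uniq _ (isCoatom_map_conj y hL.coatom)
      intro c hc
      rw [mem_map_conj]
      exact hL.cent_le (back c hc)
    rw [hL'.supportR_eq hG hnot, ← hLL']
    refine ⟨?_, conj_mem_centralizer_singleton y hrL.2⟩
    show y * r * y⁻¹ ∈ Cfsg.sigmaCore (L.map (MulAut.conj y).toMonoidHom)
    rw [mem_sigmaCore_map_conj hG hL.coatom]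
    have e : y⁻¹ * (y * r * y⁻¹) * y = r := by group
    rw [e]; exact hrL.1

/-- `supportR M x = supportR M' x` for conjugates `M`, `M'` both containing `x` in their
`σ`-cores. -/
theorem supportR_eq_of_conj [Finite G] (hG : Cfsg.IsMinSimpleOddOrder G) (hSP : SP G)
    (h28 : H1428 G) {M : Subgroup G} (hM : IsCoatom M) {x : G} (hx : x ∈ Cfsg.sigmaCore M)
    (hx1 : x ≠ 1) {g : G} (hxg : x ∈ M.map (MulAut.conj g).toMonoidHom) :
    Cfsg.supportR (M.map (MulAut.conj g).toMonoidHom) x = Cfsg.supportR M x := by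
  obtain ⟨r, hrx, hMg, -⟩ := exists_conj_eq hG hSP h28 hM hx hx1 hxg
  rw [hMg]
  exact supportR_map_conj_of_comm hrx

/-- **B & G 14.4(a)**: `R(x)` acts regularly on the conjugates of `M` containing `x`. -/
theorem existsUnique_supportR [Finite G] (hG : Cfsg.IsMinSimpleOddOrder G) (hSP : SP G)
    (h28 : H1428 G) {M : Subgroup G} (hM : IsCoatom M) {x : G} (hx : x ∈ Cfsg.sigmaCore M)
    (hx1 : x ≠ 1) {g : G} (hxg : x ∈ M.map (MulAut.conj g).toMonoidHom) :
    ∃! r : G, r ∈ Cfsg.supportR M x ∧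
      M.map (MulAut.conj r).toMonoidHom = M.map (MulAut.conj g).toMonoidHom := by
  have hxMM : x ∈ M := sigmaCore_le M hx
  obtain ⟨r, hrx, hMg, hr⟩ := exists_conj_eq hG hSP h28 hM hx hx1 hxg
  have hrC : r ∈ Subgroup.centralizer ({x} : Set G) :=
    Subgroup.mem_centralizer_iff.mpr (fun z hz => by
      rw [Set.mem_singleton_iff.mp hz]; exact hrx.symm)
  by_cases hxM : Subgroup.centralizer ({x} : Set G) ≤ M
  · have hr1 : r = 1 := by
      rcases hr with hr | ⟨N, -, -, hNσM, hrN⟩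
      · exact hr
      · have : r ∈ Cfsg.sigmaCore N ⊓ M := ⟨hrN, hxM hrC⟩
        rwa [hNσM, Subgroup.mem_bot] at this
    rw [supportR_of_le hxM]
    refine ⟨1, ⟨Subgroup.mem_bot.mpr rfl, ?_⟩, fun r' hr' => Subgroup.mem_bot.mp hr'.1⟩
    rw [hMg, hr1]
  · obtain ⟨N, hN⟩ := exists_rdata hG hSP h28 hM hx hx1 hxM
    rw [hN.supportR_eq hG hxM]
    have hrR : r ∈ Cfsg.sigmaCore N ⊓ Subgroup.centralizer ({x} : Set G) := by
      rcases hr with hr | ⟨L, hL, hCxL, -, hrL⟩
      · rw [hr]; exact Subgroup.one_mem _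
      · rw [hN.uniq L hL hCxL] at hrL
        exact ⟨hrL, hrC⟩
    refine ⟨r, ⟨hrR, hMg.symm⟩, fun r' hr' => ?_⟩
    have hM1 : M ≠ ⊥ := fun h => hx1 (by rw [h] at hxMM; exact Subgroup.mem_bot.mp hxMM)
    have h1 : M.map (MulAut.conj r').toMonoidHom = M.map (MulAut.conj r).toMonoidHom :=
      hr'.2.trans hMg
    have h2 : M.map (MulAut.conj (r⁻¹ * r')).toMonoidHom = M := by
      rw [← map_conj_map_conj, h1, map_conj_map_conj, inv_mul_cancel, map_conj_one]
    have h3 : r⁻¹ * r' ∈ M := by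
      have := mem_normalizer_iff_map_conj.mpr h2
      rwa [normalizer_coatom hG hM hM1] at this
    have h4 : r⁻¹ * r' ∈ Cfsg.sigmaCore N ⊓ M :=
      ⟨Subgroup.mul_mem _ (Subgroup.inv_mem _ hrR.1) hr'.1.1, h3⟩
    rw [hN.inf_bot, Subgroup.mem_bot] at h4
    calc r' = r * (r⁻¹ * r') := by group
      _ = r := by rw [h4, mul_one]

/-! ### counting -/

theorem conjOf_eq_map_conjOf (M : Subgroup G) (q q' : G ⧸ M) :
    conjOf M q = (conjOf M q').map
      (MulAut.conj (Quotient.out q * (Quotient.out q')⁻¹)).toMonoidHom := by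
  unfold conjOf
  rw [map_conj_map_conj, inv_mul_cancel_right]

theorem supportR_conjOf_eq [Finite G] (hG : Cfsg.IsMinSimpleOddOrder G) (hSP : SP G)
    (h28 : H1428 G) {M : Subgroup G} (hM : IsCoatom M) {q q' : G ⧸ M} {x : G}
    (hx : x ∈ Cfsg.sigmaCore (conjOf M q)) (hx' : x ∈ Cfsg.sigmaCore (conjOf M q'))
    (hx1 : x ≠ 1) : Cfsg.supportR (conjOf M q) x = Cfsg.supportR (conjOf M q') x := by
  rw [conjOf_eq_map_conjOf M q q']
  apply supportR_eq_of_conj hG hSP h28 (isCoatom_conjOf hM q') hx' hx1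
  rw [← conjOf_eq_map_conjOf M q q']
  exact sigmaCore_le _ hx

/-- `|R(x)|` is the number of conjugates of `M` containing `x` in their `σ`-core. -/
theorem card_supportR_eq [Finite G] (hG : Cfsg.IsMinSimpleOddOrder G) (hSP : SP G)
    (h28 : H1428 G) {M : Subgroup G} (hM : IsCoatom M) (q₁ : G ⧸ M) {x : G}
    (hx : x ∈ Cfsg.sigmaCore (conjOf M q₁)) (hx1 : x ≠ 1) :
    Nat.card (Cfsg.supportR (conjOf M q₁) x) =
      Nat.card {q : G ⧸ M // x ∈ Cfsg.sigmaCore (conjOf M q)} := by
  have hM₁ : IsCoatom (conjOf M q₁) := isCoatom_conjOf hM q₁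
  have hM1 : M ≠ ⊥ := Cfsg.Agent.Lib.Helper2.BGCor.coatom_ne_bot hG hM
  have key : ∀ q : {q : G ⧸ M // x ∈ Cfsg.sigmaCore (conjOf M q)},
      ∃ r : G, (r ∈ Cfsg.supportR (conjOf M q₁) x ∧
        (conjOf M q₁).map (MulAut.conj r).toMonoidHom = conjOf M q.1) ∧
        ∀ r' : G, (r' ∈ Cfsg.supportR (conjOf M q₁) x ∧
          (conjOf M q₁).map (MulAut.conj r').toMonoidHom = conjOf M q.1) → r' = r := by
    intro q
    have hg := conjOf_eq_map_conjOf M q.1 q₁
    have hxg : x ∈ (conjOf M q₁).map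
        (MulAut.conj (Quotient.out q.1 * (Quotient.out q₁)⁻¹)).toMonoidHom :=
      hg ▸ sigmaCore_le _ q.2
    have h := existsUnique_supportR hG hSP h28 hM₁ hx hx1 hxg
    rw [← hg] at h
    exact h
  choose f hf hfu using key
  symm
  apply Nat.card_eq_of_bijective
    (fun q => (⟨f q, (hf q).1⟩ : ↥(Cfsg.supportR (conjOf M q₁) x)))
  constructor
  · intro q q' h
    have h1 : f q = f q' := congrArg Subtype.val h
    apply Subtype.ext
    apply conjOf_injective hG hM hM1
    rw [← (hf q).2, ← (hf q').2, h1]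
  · intro r
    obtain ⟨q, hq⟩ := exists_conjOf_eq M ((r : G) * Quotient.out q₁)
    have hq' : conjOf M q = (conjOf M q₁).map (MulAut.conj (r : G)).toMonoidHom := by
      rw [hq]
      unfold conjOf
      rw [map_conj_map_conj]
    have hrx := comm_of_mem_supportR hG hSP h28 hM₁ hx hx1 r.2
    have hvalid : x ∈ Cfsg.sigmaCore (conjOf M q) := by
      rw [hq', mem_sigmaCore_map_conj hG hM₁]
      have : (r : G)⁻¹ * x * (r : G) = x := by
        rw [mul_assoc, hrx]; group
      rw [this]; exact hx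
    refine ⟨⟨q, hvalid⟩, ?_⟩
    apply Subtype.ext
    exact (hfu ⟨q, hvalid⟩ r ⟨r.2, hq'.symm⟩).symm

end Cfsg.Agent.Lib.Helper9.BG144
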