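import Mathlib
import Cfsg.Agent.Lib.Helper9.BG145B

/-!
# B & G 14.5 (helper9): `|M̃| = (|M_σ| - 1) |G : M|` (frozen S1377), the count

`s1377_of`: verbatim the conclusion of frozen S1377 from `SP G` and `H1428 G`.
`M̃` is the disjoint union, over the non-identity elements `x` of the `σ`-cores of the conjugates of
`M`, of the cosets `x R(x)` (S1433); `|R(x)|` is the number of conjugates containing `x` in their
`σ`-core (14.4(a)); double counting.
-/

set_option autoImplicit false
set_option linter.style.haveILetI false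
open scoped commutatorElement

namespace Cfsg.Agent.Lib.Helper9.BG144

open Cfsg Cfsg.Agent.Lib.Helper1.BGX
open Cfsg.Agent.Lib.Helper8 (mem_map_conj conj_mem_map_conj map_conj_map_conj map_conj_one
  map_conj_le_iff map_conj_eq_iff card_map_conj mem_normalizer_iff_map_conj)
open Cfsg.Agent.Lib.Helper2.BGCor (sigmaCore_le primes_card_sigmaCore)
open Cfsg.Agent.Lib.Helper17.BGU (isCoatom_map_conj)
open Cfsg.Agent.Lib.Helper17.BGR2 (H1428)

variable {G : Type*} [Group G]

/-- the number of non-identity elements of a subgroup. -/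
theorem card_filter_ne_one_mem [Fintype G] [DecidableEq G] (H : Subgroup G)
    [DecidablePred (· ∈ H)] :
    (Finset.univ.filter (fun x : G => x ≠ 1 ∧ x ∈ H)).card = Nat.card H - 1 := by
  have h1 : (Finset.univ.filter (fun x : G => x ∈ H)).card = Nat.card H := by
    rw [Nat.card_eq_fintype_card, Fintype.card_subtype]
  have h2 : Finset.univ.filter (fun x : G => x ≠ 1 ∧ x ∈ H) =
      (Finset.univ.filter (fun x : G => x ∈ H)).erase 1 := by
    ext x
    simp only [Finset.mem_filter, Finset.mem_univ, true_and, Finset.mem_erase]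
  rw [h2, Finset.card_erase_of_mem, h1]
  simp only [Finset.mem_filter, Finset.mem_univ, true_and]
  exact H.one_mem

theorem card_filter_mem [Fintype G] (H : Subgroup G) [DecidablePred (· ∈ H)] :
    (Finset.univ.filter (fun x : G => x ∈ H)).card = Nat.card H := by
  rw [Nat.card_eq_fintype_card, Fintype.card_subtype]

/-- **S1377** from the `σ`-partition and S1428. -/
theorem s1377_of [Finite G] (hG : Cfsg.IsMinSimpleOddOrder G) (hSP : SP G) (h28 : H1428 G)
    (M : Subgroup G) (hM : IsCoatom M) :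
    Set.ncard (Cfsg.tildeOf M ((Cfsg.sigmaCore M : Set G) \ {1})) =
      (Nat.card (Cfsg.sigmaCore M) - 1) * M.index := by
  classical
  haveI : Fintype G := Fintype.ofFinite G
  haveI : Fintype (G ⧸ M) := Fintype.ofFinite _
  obtain ⟨rel, hrel⟩ : ∃ rel : G → G ⧸ M → Prop,
      ∀ x q, rel x q ↔ x ∈ Cfsg.sigmaCore (conjOf M q) := ⟨_, fun _ _ => Iff.rfl⟩
  obtain ⟨X, hX⟩ : ∃ X : Finset G, ∀ x, x ∈ X ↔ x ≠ 1 ∧ ∃ q, rel x q :=
    ⟨Finset.univ.filter (fun x => x ≠ 1 ∧ ∃ q, rel x q), fun x => by
      simp only [Finset.mem_filter, Finset.mem_univ, true_and]⟩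
  -- a choice of conjugate for every element of `X`
  have hq : ∀ x : G, ∃ q : G ⧸ M, x ∈ X → rel x q := by
    intro x
    by_cases hx : x ∈ X
    · obtain ⟨q, hq⟩ := ((hX x).mp hx).2
      exact ⟨q, fun _ => hq⟩
    · exact ⟨((1 : G) : G ⧸ M), fun h => absurd h hx⟩
  choose qof hqof using hq
  have hX1 : ∀ x ∈ X, x ≠ 1 := fun x hx => ((hX x).mp hx).1
  have hXσ : ∀ x ∈ X, x ∈ Cfsg.sigmaCore (conjOf M (qof x)) :=
    fun x hx => (hrel x _).mp (hqof x hx)
  obtain ⟨Rt, hRt⟩ : ∃ Rt : G → Subgroup G,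
      ∀ x, Rt x = Cfsg.supportR (conjOf M (qof x)) x := ⟨_, fun _ => rfl⟩
  obtain ⟨B, hB⟩ : ∃ B : G → Finset G, ∀ x g, g ∈ B x ↔ ∃ r ∈ Rt x, g = x * r :=
    ⟨fun x => (Finset.univ.filter (fun r => r ∈ Rt x)).image (fun r => x * r), fun x g => by
      simp only [Finset.mem_image, Finset.mem_filter, Finset.mem_univ, true_and]
      constructor
      · rintro ⟨r, hr, rfl⟩; exact ⟨r, hr, rfl⟩
      · rintro ⟨r, hr, rfl⟩; exact ⟨r, hr, rfl⟩⟩
  have hBcard : ∀ x, (B x).card = Nat.card (Rt x) := by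
    intro x
    have : B x = (Finset.univ.filter (fun r => r ∈ Rt x)).image (fun r => x * r) := by
      ext g
      rw [hB]
      simp only [Finset.mem_image, Finset.mem_filter, Finset.mem_univ, true_and]
      constructor
      · rintro ⟨r, hr, rfl⟩; exact ⟨r, hr, rfl⟩
      · rintro ⟨r, hr, rfl⟩; exact ⟨r, hr, rfl⟩
    rw [this, Finset.card_image_of_injective _ (mul_right_injective x), card_filter_mem]
  -- `M̃` as a finset
  have hS : Cfsg.tildeOf M ((Cfsg.sigmaCore M : Set G) \ {1}) = ↑(X.biUnion B) := by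
    ext g
    simp only [Finset.coe_biUnion, Set.mem_iUnion, Finset.mem_coe, hB]
    constructor
    · rintro ⟨a, ⟨ha, ha1⟩, r, hr, y, rfl⟩
      have ha1' : a ≠ 1 := fun h => ha1 (Set.mem_singleton_iff.mpr h)
      have ha' : a ∈ Cfsg.sigmaCore M := ha
      obtain ⟨q, hq⟩ := exists_conjOf_eq M y
      have hx1 : y * a * y⁻¹ ≠ 1 := by
        intro h
        apply ha1'
        have : a = y⁻¹ * (y * a * y⁻¹) * y := by group
        rw [this, h]; group
      have hxq : y * a * y⁻¹ ∈ Cfsg.sigmaCore (conjOf M q) := by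
        rw [hq, mem_sigmaCore_map_conj hG hM]
        have : y⁻¹ * (y * a * y⁻¹) * y = a := by group
        rw [this]; exact ha'
      have hxX : y * a * y⁻¹ ∈ X := (hX _).mpr ⟨hx1, q, (hrel _ _).mpr hxq⟩
      refine ⟨y * a * y⁻¹, hxX, y * r * y⁻¹, ?_, by group⟩
      rw [hRt, ← supportR_conjOf_eq hG hSP h28 hM hxq (hXσ _ hxX) hx1, hq]
      exact conj_mem_supportR hG hSP h28 hM ha' ha1' hr y
    · rintro ⟨x, hxX, r, hr, rfl⟩
      rw [hRt] at hr
      have hxσ := hXσ x hxX
      have hx1 := hX1 x hxX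
      have hM' := isCoatom_conjOf hM (qof x)
      have h1 := conj_mem_supportR hG hSP h28 hM' hxσ hx1 hr (Quotient.out (qof x))⁻¹
      have h2 : (conjOf M (qof x)).map (MulAut.conj (Quotient.out (qof x))⁻¹).toMonoidHom = M := by
        unfold conjOf
        rw [map_conj_map_conj, inv_mul_cancel, map_conj_one]
      rw [h2, inv_inv] at h1
      have h3 : (Quotient.out (qof x))⁻¹ * x * Quotient.out (qof x) ∈ Cfsg.sigmaCore M := by
        have := hxσ
        unfold conjOf at this
        rwa [mem_sigmaCore_map_conj hG hM] at this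
      refine ⟨(Quotient.out (qof x))⁻¹ * x * Quotient.out (qof x), ⟨h3, ?_⟩,
        (Quotient.out (qof x))⁻¹ * r * Quotient.out (qof x), h1, Quotient.out (qof x), by group⟩
      intro h
      apply hx1
      have h4 := Set.mem_singleton_iff.mp h
      have : x = Quotient.out (qof x) * ((Quotient.out (qof x))⁻¹ * x * Quotient.out (qof x)) *
          (Quotient.out (qof x))⁻¹ := by group
      rw [this, h4]; group
  -- disjointness (S1433)
  have hdisj : (X : Set G).PairwiseDisjoint B := by
    intro x hx x' hx' hne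
    rw [Function.onFun, Finset.disjoint_left]
    intro g hg hg'
    obtain ⟨r, hr, rfl⟩ := (hB x _).mp hg
    obtain ⟨r', hr', heq⟩ := (hB x' _).mp hg'
    rw [hRt] at hr hr'
    exact s1433_of hG hSP h28 _ _ (isCoatom_conjOf hM (qof x)) (isCoatom_conjOf hM (qof x')) x x'
      (hXσ x hx) (hXσ x' hx') (hX1 x hx) (hX1 x' hx') hne r hr r' hr' heq
  rw [hS, Set.ncard_coe_finset, Finset.card_biUnion hdisj]
  -- `|R(x)|` is the number of conjugates containing `x`
  have h1 : ∀ x ∈ X, (B x).card = (Finset.univ.bipartiteAbove rel x).card := by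
    intro x hx
    rw [hBcard, hRt, card_supportR_eq hG hSP h28 hM (qof x) (hXσ x hx) (hX1 x hx),
      Nat.card_eq_fintype_card, Fintype.card_subtype]
    congr 1
    ext q
    simp only [Finset.mem_filter, Finset.mem_univ, true_and, Finset.bipartiteAbove, hrel]
  rw [Finset.sum_congr rfl h1, Finset.sum_card_bipartiteAbove_eq_sum_card_bipartiteBelow]
  -- each conjugate contributes `|M_σ| - 1`
  have h2 : ∀ q ∈ (Finset.univ : Finset (G ⧸ M)),
      (X.bipartiteBelow rel q).card = Nat.card (Cfsg.sigmaCore M) - 1 := by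
    intro q _
    have h3 : X.bipartiteBelow rel q =
        Finset.univ.filter (fun x : G => x ≠ 1 ∧ x ∈ Cfsg.sigmaCore (conjOf M q)) := by
      ext x
      simp only [Finset.bipartiteBelow, Finset.mem_filter, Finset.mem_univ, true_and, hX, hrel]
      constructor
      · rintro ⟨⟨h1, -⟩, h2⟩; exact ⟨h1, h2⟩
      · rintro ⟨h1, h2⟩; exact ⟨⟨h1, q, h2⟩, h2⟩
    rw [h3, card_filter_ne_one_mem]
    unfold conjOf
    rw [sigmaCore_map_conj hG hM, card_map_conj]
  rw [Finset.sum_congr rfl h2, Finset.sum_const, Finset.card_univ, smul_eq_mul,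
    Subgroup.index_eq_card, mul_comm]
  congr 1
  exact Nat.card_eq_fintype_card.symm

end Cfsg.Agent.Lib.Helper9.BG144
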