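import Mathlib
import Cfsg.Agent.Lib.Helper16.NM.Base

/-!
S4146 (class sizes `{1, n, m, nm}`; owner helper16): leaf PT (product trick), exact signature of `notes/S4146_leaves.lean` (helper9).
`V` = the (abelian, normal, non-central) set of `r`-elements of `M`, `m = t^b`.  `T` a Sylow `t`-subgroup; for `y ∈ V \ Z`
`|T ⊓ C(y)| * t^b = |T|`; `h0 ∈ T` non-trivial on `V` with central image in `T / C_T(V)`; `φ v = v⁻¹ (h0 v h0⁻¹)` is a `T`-equivariant
endomorphism of `V` with `range φ ⊓ C_V(h0) = 1`; if `y' ∈ C_V(h0) \ Z` and `y = φ v0 ≠ 1` then `C_T(y y') ≤ C_T(y')`, hence equal, so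
`h0` fixes `y y'`: contradiction.
-/

set_option autoImplicit false

namespace Cfsg.Agent.Lib.Helper9.NM

open Cfsg.Agent.Lib.Helper22.ClsSet Cfsg.Agent.Lib.Helper16.NM

variable {G : Type*} [Group G] [Finite G] {n m : ℕ}

/-- if the index of `C(z)` is `t^b` then a Sylow `t`-subgroup meets `C(z)` in a subgroup of index exactly `t^b` -/
theorem card_sylow_inf_cent {t : ℕ} [Fact t.Prime] (T : Sylow t G) {z : G} {b : ℕ} (hz : idx z = t ^ b) :
    Nat.card ((T : Subgroup G) ⊓ Subgroup.centralizer ({z} : Set G) : Subgroup G) * t ^ b =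
      Nat.card (T : Subgroup G) := by
  have ht : t.Prime := Fact.out
  set C := Subgroup.centralizer ({z} : Set G) with hC
  set D : Subgroup G := (T : Subgroup G) ⊓ C with hD
  have hDT : D ≤ T := inf_le_left
  have hDC : D ≤ C := inf_le_right
  have h1 : D.relIndex T ≤ t ^ b := by
    rw [hD, Subgroup.inf_relIndex_left]
    have h2 : C.relIndex (T : Subgroup G) ≤ C.relIndex ⊤ :=
      Subgroup.relIndex_le_of_le_right le_top (by
        rw [Subgroup.relIndex_top_right]; exact Subgroup.index_ne_zero_of_finite)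
    rw [Subgroup.relIndex_top_right] at h2
    have : C.index = t ^ b := hz
    rwa [this] at h2
  have h3 : Nat.card D * D.relIndex T = Nat.card (T : Subgroup G) := by
    have h4 := Subgroup.card_mul_index (D.subgroupOf (T : Subgroup G))
    have h5 : Nat.card (D.subgroupOf (T : Subgroup G)) = Nat.card D :=
      Nat.card_congr (Subgroup.subgroupOfEquivOfLe hDT).toEquiv
    rw [h5] at h4
    exact h4
  have hDp : IsPGroup t D := T.isPGroup'.to_le hDT
  obtain ⟨e, he⟩ := hDp.exists_card_eq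
  have hCG : Nat.card C * t ^ b = Nat.card G := card_cent_mul_idx z ▸ by rw [hz]
  have hDdvd : Nat.card D ∣ Nat.card C := Subgroup.card_dvd_of_le hDC
  have hTcard := T.card_eq_multiplicity
  have hC0 : Nat.card C ≠ 0 := Nat.card_pos.ne'
  have hle : e + b ≤ (Nat.card G).factorization t := by
    rw [← hCG, Nat.factorization_mul hC0 (pow_ne_zero b ht.ne_zero), Finsupp.add_apply,
      Nat.factorization_pow, Finsupp.smul_apply, ht.factorization_self, smul_eq_mul, mul_one]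
    have : e ≤ (Nat.card C).factorization t := by
      rw [← ht.pow_dvd_iff_le_factorization hC0, ← he]
      exact hDdvd
    omega
  have h6 : Nat.card D * t ^ b ≤ Nat.card (T : Subgroup G) := by
    rw [he, hTcard, ← pow_add]
    exact Nat.pow_le_pow_right ht.pos hle
  have h7 : Nat.card (T : Subgroup G) ≤ Nat.card D * t ^ b := by
    rw [← h3]
    exact Nat.mul_le_mul_left _ h1
  exact le_antisymm h6 h7

/-- PT (product trick) -/
theorem PT (h : CS G n m) (hlt : m < n) {r t : ℕ} [Fact r.Prime] [Fact t.Prime] (hrt : r ≠ t)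
    {b : ℕ} (hm : m = t ^ b)
    (V : Subgroup G) [V.Normal] (hV : ∀ g, g ∈ V ↔ g ∈ M h hlt ∧ PEl r g)
    (hVc : ∀ v ∈ V, ∀ w ∈ V, Commute v w)
    (hnt : ¬ V ≤ Subgroup.center G) :
    ∃ h0 : G, PEl t h0 ∧ (∃ v ∈ V, ¬ Commute v h0) ∧
      ∀ v ∈ V, Commute v h0 → v ∈ Subgroup.center G := by
  classical
  have hr : r.Prime := Fact.out
  have ht : t.Prime := Fact.out
  have hVn : ∀ (g v : G), v ∈ V → g * v * g⁻¹ ∈ V := fun g v hv => ‹V.Normal›.conj_mem v hv g
  -- non-central elements of `V` have index `m`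
  have hidx : ∀ y ∈ V, y ∉ Subgroup.center G → idx y = m := by
    intro y hy hyz
    rcases (mem_M h hlt y).1 ((hV y).1 hy).1 with h1 | h1
    · exact absurd ((idx_eq_one_iff y).1 h1) hyz
    · exact h1
  have hb0 : b ≠ 0 := by
    rintro rfl
    rw [pow_zero] at hm
    have := h.one_lt_m
    omega
  obtain ⟨yz, hyzV, hyzZ⟩ := Set.not_subset.1 hnt
  obtain ⟨T⟩ : Nonempty (Sylow t G) := inferInstance
  set CV : Subgroup G := Subgroup.centralizer (V : Set G) with hCV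
  have hCVn : CV.Normal := inferInstance
  have hCVc : ∀ c ∈ CV, ∀ v ∈ V, Commute c v := by
    intro c hc v hv
    exact ((Subgroup.mem_centralizer_iff.1 hc) v hv).symm
  -- `T` does not centralize `V`
  have hTCV : ¬ (T : Subgroup G) ≤ CV := by
    intro hle
    have h1 : (T : Subgroup G) ≤ Subgroup.centralizer ({yz} : Set G) := by
      intro k hk
      rw [mem_cent_singleton]
      exact ((hCVc k (hle hk) yz hyzV).eq).symm
    have h2 : (Subgroup.centralizer ({yz} : Set G)).index ∣ (T : Subgroup G).index :=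
      Subgroup.index_dvd_of_le h1
    have h3 : idx yz = t ^ b := (hidx yz hyzV hyzZ).trans hm
    have h4 : t ∣ (T : Subgroup G).index := by
      refine dvd_trans ?_ h2
      show t ∣ idx yz
      rw [h3]
      exact dvd_pow_self t hb0
    exact T.not_dvd_index h4
  -- the element `h0`
  have hKn : (CV.subgroupOf (T : Subgroup G)).Normal := inferInstance
  have hQp : IsPGroup t ((T : Subgroup G) ⧸ CV.subgroupOf (T : Subgroup G)) :=
    T.isPGroup'.to_quotient _
  haveI : Nontrivial ((T : Subgroup G) ⧸ CV.subgroupOf (T : Subgroup G)) := by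
    apply QuotientGroup.nontrivial_iff.mpr
    intro htop
    apply hTCV
    intro k hk
    have : (⟨k, hk⟩ : (T : Subgroup G)) ∈ CV.subgroupOf (T : Subgroup G) := by rw [htop]; exact Subgroup.mem_top _
    exact Subgroup.mem_subgroupOf.1 this
  haveI : Nontrivial (Subgroup.center ((T : Subgroup G) ⧸ CV.subgroupOf (T : Subgroup G))) :=
    hQp.center_nontrivial
  obtain ⟨⟨zq, hzqc⟩, hzq1⟩ := exists_ne (1 : Subgroup.center ((T : Subgroup G) ⧸ CV.subgroupOf (T : Subgroup G)))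
  obtain ⟨h0', rfl⟩ := QuotientGroup.mk_surjective zq
  have hh0K : h0' ∉ CV.subgroupOf (T : Subgroup G) := by
    intro hmem
    apply hzq1
    apply Subtype.ext
    exact (QuotientGroup.eq_one_iff h0').2 hmem
  set h0 : G := (h0' : G) with hh0
  have hh0T : h0 ∈ (T : Subgroup G) := h0'.2
  have hh0CV : h0 ∉ CV := fun hc => hh0K (Subgroup.mem_subgroupOf.2 hc)
  -- `k h0 k⁻¹ = h0 c` with `c` centralizing `V`
  have hconj : ∀ k ∈ (T : Subgroup G), h0⁻¹ * (k * h0 * k⁻¹) ∈ CV := by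
    intro k hk
    have h1 := (Subgroup.mem_center_iff.1 hzqc) (QuotientGroup.mk (⟨k, hk⟩ : (T : Subgroup G)))
    -- mk k * mk h0' = mk h0' * mk k
    have h2 : ((h0'⁻¹ * (⟨k, hk⟩ * h0' * (⟨k, hk⟩ : (T : Subgroup G))⁻¹) : (T : Subgroup G)) :
        (T : Subgroup G) ⧸ CV.subgroupOf (T : Subgroup G)) = 1 := by
      rw [QuotientGroup.mk_mul, QuotientGroup.mk_mul, QuotientGroup.mk_mul, QuotientGroup.mk_inv, QuotientGroup.mk_inv,
        h1, mul_inv_cancel_right, inv_mul_cancel]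
    have h3 := (QuotientGroup.eq_one_iff _).1 h2
    exact Subgroup.mem_subgroupOf.1 h3
  -- `h0` is a `t`-element
  have hh0t : PEl t h0 := by
    obtain ⟨k, hk⟩ := (IsPGroup.iff_orderOf.1 T.isPGroup') h0'
    exact ⟨k, by rw [hh0, Subgroup.orderOf_coe]; exact hk⟩
  -- an element of `V` not fixed by `h0`
  obtain ⟨v0, hv0V, hv0⟩ : ∃ v ∈ V, ¬ Commute v h0 := by
    by_contra hcon
    push Not at hcon
    apply hh0CV
    rw [hCV, Subgroup.mem_centralizer_iff]
    intro v hv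
    exact (hcon v hv).eq
  refine ⟨h0, hh0t, ⟨v0, hv0V, hv0⟩, ?_⟩
  -- the map `φ`
  set φ : G → G := fun v => v⁻¹ * (h0 * v * h0⁻¹) with hφ
  have hφV : ∀ v ∈ V, φ v ∈ V := fun v hv => V.mul_mem (V.inv_mem hv) (hVn h0 v hv)
  have hφmul : ∀ v ∈ V, ∀ w ∈ V, φ (v * w) = φ v * φ w := by
    intro v hv w hw
    have h1 : Commute (h0 * v * h0⁻¹) w⁻¹ := hVc _ (hVn h0 v hv) _ (V.inv_mem hw)
    show (v * w)⁻¹ * (h0 * (v * w) * h0⁻¹) = v⁻¹ * (h0 * v * h0⁻¹) * (w⁻¹ * (h0 * w * h0⁻¹))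
    calc (v * w)⁻¹ * (h0 * (v * w) * h0⁻¹) = w⁻¹ * v⁻¹ * ((h0 * v * h0⁻¹) * (h0 * w * h0⁻¹)) := by group
      _ = v⁻¹ * (w⁻¹ * (h0 * v * h0⁻¹)) * (h0 * w * h0⁻¹) := by
        rw [(hVc _ (V.inv_mem hw) _ (V.inv_mem hv)).eq]; group
      _ = v⁻¹ * ((h0 * v * h0⁻¹) * w⁻¹) * (h0 * w * h0⁻¹) := by rw [h1.eq]
      _ = v⁻¹ * (h0 * v * h0⁻¹) * (w⁻¹ * (h0 * w * h0⁻¹)) := by group
  have hφone : φ 1 = 1 := by simp [hφ]
  have hφinv : ∀ v ∈ V, φ v⁻¹ = (φ v)⁻¹ := by
    intro v hv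
    have h1 := hφmul v hv v⁻¹ (V.inv_mem hv)
    rw [mul_inv_cancel, hφone] at h1
    exact eq_inv_of_mul_eq_one_right h1.symm
  -- `range φ ⊓ C_V(h0) = 1`
  have hφfix : ∀ v ∈ V, Commute (φ v) h0 → φ v = 1 := by
    intro v hv hc
    have hpow : ∀ k : ℕ, h0 ^ k * v * (h0 ^ k)⁻¹ = v * (φ v) ^ k := by
      intro k
      induction k with
      | zero => simp
      | succ k ih =>
        have h1 : h0 * (φ v) ^ k * h0⁻¹ = (φ v) ^ k := by
          have : Commute h0 ((φ v) ^ k) := (hc.symm).pow_right k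
          rw [this.eq, mul_inv_cancel_right]
        calc h0 ^ (k + 1) * v * (h0 ^ (k + 1))⁻¹ = h0 * (h0 ^ k * v * (h0 ^ k)⁻¹) * h0⁻¹ := by
              rw [pow_succ']; group
          _ = h0 * (v * (φ v) ^ k) * h0⁻¹ := by rw [ih]
          _ = (h0 * v * h0⁻¹) * (h0 * (φ v) ^ k * h0⁻¹) := by group
          _ = (v * φ v) * (φ v) ^ k := by
              rw [h1]
              congr 1
              show h0 * v * h0⁻¹ = v * (v⁻¹ * (h0 * v * h0⁻¹))
              group
          _ = v * (φ v) ^ (k + 1) := by rw [pow_succ', mul_assoc]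
    have h2 := hpow (orderOf h0)
    rw [pow_orderOf_eq_one, one_mul, inv_one, mul_one] at h2
    have h3 : (φ v) ^ (orderOf h0) = 1 := by
      have := h2
      exact (mul_eq_left.1 this.symm)
    have h4 : orderOf (φ v) ∣ orderOf h0 := orderOf_dvd_of_pow_eq_one h3
    obtain ⟨j, hj⟩ := ((hV (φ v)).1 (hφV v hv)).2
    obtain ⟨i, hi⟩ := hh0t
    rw [hj, hi] at h4
    have h5 : Nat.Coprime (r ^ j) (t ^ i) :=
      Nat.Coprime.pow j i ((Nat.coprime_primes hr ht).2 hrt)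
    have h6 : r ^ j = 1 := Nat.Coprime.eq_one_of_dvd h5 h4
    rw [h6] at hj
    exact orderOf_eq_one_iff.1 hj
  -- `T`-equivariance of `φ`
  have hφT : ∀ k ∈ (T : Subgroup G), ∀ v ∈ V, k * φ v * k⁻¹ = φ (k * v * k⁻¹) := by
    intro k hk v hv
    set c : G := h0⁻¹ * (k * h0 * k⁻¹) with hc
    have hcCV : c ∈ CV := hconj k hk
    have hkh : k * h0 * k⁻¹ = h0 * c := by rw [hc]; group
    have hcv : c * (k * v * k⁻¹) * c⁻¹ = k * v * k⁻¹ := by
      have := hCVc c hcCV (k * v * k⁻¹) (hVn k v hv)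
      rw [this.eq, mul_inv_cancel_right]
    show k * (v⁻¹ * (h0 * v * h0⁻¹)) * k⁻¹ = (k * v * k⁻¹)⁻¹ * (h0 * (k * v * k⁻¹) * h0⁻¹)
    calc k * (v⁻¹ * (h0 * v * h0⁻¹)) * k⁻¹
        = (k * v * k⁻¹)⁻¹ * ((k * h0 * k⁻¹) * (k * v * k⁻¹) * (k * h0 * k⁻¹)⁻¹) := by group
      _ = (k * v * k⁻¹)⁻¹ * (h0 * (c * (k * v * k⁻¹) * c⁻¹) * h0⁻¹) := by rw [hkh]; group
      _ = (k * v * k⁻¹)⁻¹ * (h0 * (k * v * k⁻¹) * h0⁻¹) := by rw [hcv]
  -- conjugates by `T` of elements of `C_V(h0)` stay in `C_V(h0)`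
  have hFT : ∀ k ∈ (T : Subgroup G), ∀ v ∈ V, Commute v h0 → Commute (k * v * k⁻¹) h0 := by
    intro k hk v hv hvc
    set c : G := h0⁻¹ * (k * h0 * k⁻¹) with hc
    have hcCV : c ∈ CV := hconj k hk
    have hkh : k * h0 * k⁻¹ = h0 * c := by rw [hc]; group
    have h1 : Commute (k * v * k⁻¹) (k * h0 * k⁻¹) := by
      show k * v * k⁻¹ * (k * h0 * k⁻¹) = k * h0 * k⁻¹ * (k * v * k⁻¹)
      calc k * v * k⁻¹ * (k * h0 * k⁻¹) = k * (v * h0) * k⁻¹ := by group
        _ = k * (h0 * v) * k⁻¹ := by rw [hvc.eq]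
        _ = k * h0 * k⁻¹ * (k * v * k⁻¹) := by group
    rw [hkh] at h1
    have h2 : Commute (k * v * k⁻¹) c := (hCVc c hcCV _ (hVn k v hv)).symm
    have h3 : Commute (k * v * k⁻¹) (h0 * c * c⁻¹) := h1.mul_right h2.inv_right
    rwa [mul_inv_cancel_right] at h3
  -- the main claim
  intro y' hy'V hy'c
  by_contra hy'Z
  set y : G := φ v0 with hy
  have hyV : y ∈ V := hφV v0 hv0V
  have hy1 : y ≠ 1 := by
    intro h1
    apply hv0
    have h2 : v0⁻¹ * (h0 * v0 * h0⁻¹) = 1 := h1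
    have h3 : h0 * v0 * h0⁻¹ = v0 := by
      have := inv_mul_eq_one.1 h2
      exact this.symm
    show v0 * h0 = h0 * v0
    calc v0 * h0 = (h0 * v0 * h0⁻¹) * h0 := by rw [h3]
      _ = h0 * v0 := by group
  have hync : ¬ Commute y h0 := fun hc => hy1 (hφfix v0 hv0V hc)
  have hyy'V : y * y' ∈ V := V.mul_mem hyV hy'V
  have hyy'nc : ¬ Commute (y * y') h0 := by
    intro hc
    apply hync
    have : Commute (y * y' * y'⁻¹) h0 := hc.mul_left hy'c.inv_left
    rwa [mul_inv_cancel_right] at this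
  have hyy'Z : y * y' ∉ Subgroup.center G := by
    intro hz
    apply hyy'nc
    exact ((Subgroup.mem_center_iff.1 hz) h0).symm
  have hi1 : idx (y * y') = t ^ b := (hidx _ hyy'V hyy'Z).trans hm
  have hi2 : idx y' = t ^ b := (hidx _ hy'V hy'Z).trans hm
  have hle : (T : Subgroup G) ⊓ Subgroup.centralizer ({y * y'} : Set G) ≤
      (T : Subgroup G) ⊓ Subgroup.centralizer ({y'} : Set G) := by
    intro k hk
    obtain ⟨hkT, hkC⟩ := Subgroup.mem_inf.1 hk
    refine Subgroup.mem_inf.2 ⟨hkT, ?_⟩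
    rw [mem_cent_singleton] at hkC ⊢
    -- conjugates
    have h1 : (k * y * k⁻¹) * (k * y' * k⁻¹) = y * y' := by
      calc (k * y * k⁻¹) * (k * y' * k⁻¹) = k * (y * y') * k⁻¹ := by group
        _ = (y * y') * k * k⁻¹ := by rw [← hkC]
        _ = y * y' := by group
    have h2 : k * y * k⁻¹ = φ (k * v0 * k⁻¹) := hφT k hkT v0 hv0V
    have hwV : v0⁻¹ * (k * v0 * k⁻¹) ∈ V := V.mul_mem (V.inv_mem hv0V) (hVn k v0 hv0V)
    have h3 : φ (v0⁻¹ * (k * v0 * k⁻¹)) = y⁻¹ * (k * y * k⁻¹) := by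
      rw [hφmul _ (V.inv_mem hv0V) _ (hVn k v0 hv0V), hφinv v0 hv0V, ← h2]
    have h4 : y⁻¹ * (k * y * k⁻¹) = y' * (k * y' * k⁻¹)⁻¹ := by
      have : k * y * k⁻¹ = y * y' * (k * y' * k⁻¹)⁻¹ := by rw [← h1]; group
      rw [this]; group
    have h5 : Commute (y' * (k * y' * k⁻¹)⁻¹) h0 :=
      hy'c.mul_left (hFT k hkT y' hy'V hy'c).inv_left
    have h6 : φ (v0⁻¹ * (k * v0 * k⁻¹)) = 1 := by
      apply hφfix _ hwV
      rw [h3, h4]
      exact h5
    rw [h3] at h6
    have h7 : k * y * k⁻¹ = y := by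
      have := inv_mul_eq_one.1 h6
      exact this.symm
    have h8 : k * y' * k⁻¹ = y' := by
      rw [h7] at h1
      exact mul_left_cancel h1
    calc y' * k = (k * y' * k⁻¹) * k := by rw [h8]
      _ = k * y' := by group
  have hc1 := card_sylow_inf_cent T hi1
  have hc2 := card_sylow_inf_cent T hi2
  have hcard : Nat.card ((T : Subgroup G) ⊓ Subgroup.centralizer ({y'} : Set G) : Subgroup G) ≤
      Nat.card ((T : Subgroup G) ⊓ Subgroup.centralizer ({y * y'} : Set G) : Subgroup G) := by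
    have hpos : 0 < t ^ b := pos_of_ne_zero (pow_ne_zero b ht.ne_zero)
    have : Nat.card ((T : Subgroup G) ⊓ Subgroup.centralizer ({y'} : Set G) : Subgroup G) * t ^ b =
        Nat.card ((T : Subgroup G) ⊓ Subgroup.centralizer ({y * y'} : Set G) : Subgroup G) * t ^ b := by
      rw [hc1, hc2]
    exact le_of_eq (Nat.eq_of_mul_eq_mul_right hpos this)
  have heq := Subgroup.eq_of_le_of_card_ge hle hcard
  have hh0mem : h0 ∈ (T : Subgroup G) ⊓ Subgroup.centralizer ({y'} : Set G) := by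
    refine Subgroup.mem_inf.2 ⟨hh0T, ?_⟩
    rw [mem_cent_singleton]
    exact hy'c.eq
  rw [← heq] at hh0mem
  have := (Subgroup.mem_inf.1 hh0mem).2
  rw [mem_cent_singleton] at this
  exact hyy'nc this

end Cfsg.Agent.Lib.Helper9.NM
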