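import Mathlib

/-!
# S4923 leaf (FIX) (helper9; planner helper17's exact name and binders, notes/S4923_leaves.lean)
-/

set_option autoImplicit false

namespace Cfsg.Agent.Lib.Helper9.MCF

/-- The fixed points of a ring automorphism of `ℂ` as an intermediate field of `ℂ / ℚ`. -/
def fixedPts (τ : ℂ ≃+* ℂ) : IntermediateField ℚ ℂ where
  carrier := {z | τ z = z}
  mul_mem' := by
    intro a b ha hb
    simp only [Set.mem_ofPred_eq] at *
    rw [map_mul, ha, hb]
  one_mem' := map_one τ
  add_mem' := by
    intro a b ha hb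
    simp only [Set.mem_ofPred_eq] at *
    rw [map_add, ha, hb]
  zero_mem' := map_zero τ
  algebraMap_mem' := by
    intro q
    change τ (algebraMap ℚ ℂ q) = algebraMap ℚ ℂ q
    simp
  inv_mem' := by
    intro a ha
    simp only [Set.mem_ofPred_eq] at *
    rw [map_inv₀, ha]

theorem mem_fixedPts (τ : ℂ ≃+* ℂ) (z : ℂ) : z ∈ fixedPts τ ↔ τ z = z := Iff.rfl

/-- (FIX) an automorphism fixes a set pointwise iff it fixes the generated field pointwise. -/
theorem forall_adjoin_iff (τ : ℂ ≃+* ℂ) (S : Set ℂ) :
    (∀ z ∈ S, τ z = z) ↔ ∀ z ∈ IntermediateField.adjoin ℚ S, τ z = z := by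
  constructor
  · intro h z hz
    have hle : IntermediateField.adjoin ℚ S ≤ fixedPts τ :=
      IntermediateField.adjoin_le_iff.mpr (fun s hs => h s hs)
    exact hle hz
  · intro h z hz
    exact h z (IntermediateField.subset_adjoin ℚ S hz)

end Cfsg.Agent.Lib.Helper9.MCF
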