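import Mathlib
import Cfsg.Prelude.Def_Characters
import Cfsg.Agent.Lib.Helper24.GaloisNorm

/-!
# S4923 leaves (GAL) and (ROOTS) (helper9; planner helper17's names, notes/S4923_leaves.lean)
-/

set_option autoImplicit false

namespace Cfsg.Agent.Lib.Helper9.MCF

open Cfsg

universe u
variable {G : Type u} [Group G] [Finite G]

/-- (GAL) a ring automorphism of `ℂ` raising the `|G|`-th roots of unity to the `k`-th power sends
`χ g` to `χ (g ^ k)`. -/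
theorem apply_pow_of_ringEquiv (k : ℕ) (τ : ℂ ≃+* ℂ)
    (hτ : ∀ μ : ℂ, μ ^ Nat.card G = 1 → τ μ = μ ^ k) (χ : IrrCharacter G) (g : G) :
    τ ((χ : G → ℂ) g) = (χ : G → ℂ) (g ^ k) := by
  obtain ⟨n, ρ, -, hρ⟩ := χ.2
  obtain ⟨ι, hι, μ, hμ1, -, -, hpow⟩ :=
    Cfsg.Agent.Lib.Helper24.exists_roots_char_pow ρ g
  have h1 : (χ : G → ℂ) g = ∑ i, μ i := by
    have := hpow 1
    rw [pow_one] at this
    rw [← hρ, this]
    exact Finset.sum_congr rfl (fun i _ => pow_one _)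
  have hk : (χ : G → ℂ) (g ^ k) = ∑ i, μ i ^ k := by rw [← hρ, hpow k]
  rw [h1, hk, map_sum]
  apply Finset.sum_congr rfl
  intro i _
  apply hτ
  obtain ⟨d, hd⟩ := orderOf_dvd_natCard g
  rw [hd, pow_mul, hμ1 i, one_pow]

/-- (ROOTS) a character value at an element with `g ^ N = 1`, `N ≠ 0`, is a sum of powers of a
primitive `N`-th root of unity.  (For `N = 0` the statement is false: `ζ = 2`, `G = C₂`.) -/
theorem exists_pow_sum (g : G) (N : ℕ) (hN : N ≠ 0) (hg : g ^ N = 1) (ζ : ℂ)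
    (hζ : IsPrimitiveRoot ζ N) (χ : IrrCharacter G) :
    ∃ (ι : Type) (_ : Fintype ι) (a : ι → ℕ), (χ : G → ℂ) g = ∑ i, ζ ^ a i := by
  obtain ⟨n, ρ, -, hρ⟩ := χ.2
  obtain ⟨ι, hι, μ, hμ1, -, -, hpow⟩ :=
    Cfsg.Agent.Lib.Helper24.exists_roots_char_pow ρ g
  have h1 : (χ : G → ℂ) g = ∑ i, μ i := by
    have := hpow 1
    rw [pow_one] at this
    rw [← hρ, this]
    exact Finset.sum_congr rfl (fun i _ => pow_one _)
  haveI : NeZero N := ⟨hN⟩
  have hμN : ∀ i, μ i ^ N = 1 := by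
    intro i
    obtain ⟨d, hd⟩ := orderOf_dvd_of_pow_eq_one hg
    rw [hd, pow_mul, hμ1 i, one_pow]
  have hex : ∀ i, ∃ a : ℕ, ζ ^ a = μ i := by
    intro i
    obtain ⟨a, -, ha⟩ := hζ.eq_pow_of_pow_eq_one (hμN i)
    exact ⟨a, ha⟩
  choose a ha using hex
  refine ⟨ι, hι, a, ?_⟩
  rw [h1]
  exact Finset.sum_congr rfl (fun i _ => (ha i).symm)

end Cfsg.Agent.Lib.Helper9.MCF
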