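import Mathlib
import Cfsg.Prelude.Def_Local
import Cfsg.Agent.Lib.Helper26.MixDefs
import Cfsg.Agent.Lib.Helper12.Cores

/-!
helper9: S4017 market, leaf STRUCT in `_of` form (NC as a hypothesis).
`C_G(t) = θ(t) ⋊ Q`, `θ(t) = O(C_G(t))` a `p`-group containing every element of odd order of `C_G(t)`.
-/

set_option autoImplicit false

namespace Cfsg.Agent.Lib.Helper9.MIXSTRUCTa

open Cfsg Cfsg.Agent.Lib.Helper26.Mix

universe u

/-- Burnside: if `N(P) ≤ C(P)` then `O_{r'}(X)` is the kernel of the transfer into `P`. -/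
theorem pPrimeCore_eq_ker {X : Type*} [Group X] [Finite X] {r : ℕ} [Fact r.Prime] (P : Sylow r X)
    (hP : Subgroup.normalizer (P : Set X) ≤ Subgroup.centralizer (P : Set X)) :
    Cfsg.pPrimeCore r X = (MonoidHom.transferSylow P hP).ker := by
  have hr : r.Prime := Fact.out
  have hcompl : Subgroup.IsComplement' (MonoidHom.transferSylow P hP).ker P :=
    MonoidHom.ker_transferSylow_isComplement' P hP
  have hnd : ¬ r ∣ Nat.card (MonoidHom.transferSylow P hP).ker :=
    MonoidHom.not_dvd_card_ker_transferSylow P hP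
  have hKle : (MonoidHom.transferSylow P hP).ker ≤ Cfsg.pPrimeCore r X :=
    Cfsg.Agent.Lib.Helper12.le_pPrimeCore r _ inferInstance
      ((Nat.Prime.coprime_iff_not_dvd hr).mpr hnd).symm
  have hcard := hcompl.card_mul_card
  have hcop : (Nat.card ↥(Cfsg.pPrimeCore r X)).Coprime r :=
    Cfsg.Agent.Lib.Helper12.pPrimeCore_coprime r
  obtain ⟨n, hn⟩ := IsPGroup.iff_card.mp P.2
  have hdvd : Nat.card ↥(Cfsg.pPrimeCore r X) ∣ Nat.card (MonoidHom.transferSylow P hP).ker := by
    have h1 : Nat.card ↥(Cfsg.pPrimeCore r X) ∣ Nat.card X := Subgroup.card_subgroup_dvd_card _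
    rw [← hcard, hn] at h1
    exact (Nat.Coprime.dvd_mul_right (Nat.Coprime.pow_right n hcop)).mp h1
  have hle : Nat.card ↥(Cfsg.pPrimeCore r X) ≤ Nat.card (MonoidHom.transferSylow P hP).ker :=
    Nat.le_of_dvd Nat.card_pos hdvd
  exact (Subgroup.eq_of_le_of_card_ge hKle hle).symm


section ctx

variable {G : Type u} [Group G] [Finite G] {p a : ℕ} {Q : Subgroup G} {g : G}

/-- `C_G(t)` is a proper subgroup. -/
theorem centralizer_ne_top (c : Ctx G p a Q g) (t : G) (ht : t ∈ Q) (ht1 : t ≠ 1) :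
    Subgroup.centralizer ({t} : Set G) ≠ ⊤ := by
  intro htop
  have hex : ∃ u ∈ Q, u ≠ 1 ∧ u ≠ t := by
    by_contra hcon
    push Not at hcon
    have hsub : (Q : Set G) ⊆ {1, t} := by
      intro u hu
      by_cases h1 : u = 1
      · simp [h1]
      · simp [hcon u hu h1]
    have hfin : ({1, t} : Set G).Finite := Set.toFinite _
    have h2 : (Q : Set G).ncard ≤ ({1, t} : Set G).ncard := Set.ncard_le_ncard hsub hfin
    have h3 : ({1, t} : Set G).ncard ≤ 2 := Set.ncard_insert_le _ _ |>.trans (by simp)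
    have h4 : Nat.card Q = (Q : Set G).ncard := rfl
    have h5 : 4 ≤ 2 ^ a := by
      calc 4 = 2 ^ 2 := by norm_num
        _ ≤ 2 ^ a := Nat.pow_le_pow_right (by norm_num) c.ha
    have := c.hQcard
    omega
  obtain ⟨u, hu, hu1, hut⟩ := hex
  obtain ⟨i, hi⟩ := c.htrans t ht ht1 u hu hu1
  have hcomm : g ^ i * t = t * g ^ i := by
    have : g ^ i ∈ Subgroup.centralizer ({t} : Set G) := by rw [htop]; exact Subgroup.mem_top _
    exact Subgroup.mem_centralizer_singleton_iff.mp this
  apply hut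
  rw [← hi, hcomm, mul_assoc, mul_inv_cancel, mul_one]


/-- STRUCT in `_of` form: NC is a hypothesis. -/
theorem cent_structure_of (c : Ctx G p a Q g) (t : G) (ht : t ∈ Q) (ht1 : t ≠ 1)
    (hNC : ∀ x ∈ Subgroup.centralizer ({t} : Set G), x ∈ Subgroup.normalizer (Q : Set G) →
      x ∈ Subgroup.centralizer (Q : Set G)) :
    IsPGroup p ↥(centralizerPPrimeCore 2 t) ∧
    (∀ x ∈ Subgroup.centralizer ({t} : Set G),
      ∃ w ∈ centralizerPPrimeCore 2 t, ∃ u ∈ Q, x = w * u) ∧
    (∀ x ∈ Subgroup.centralizer ({t} : Set G), Odd (orderOf x) → x ∈ centralizerPPrimeCore 2 t) := by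
  have : Fact (Nat.Prime 2) := ⟨Nat.prime_two⟩
  have : Fact p.Prime := ⟨c.hp⟩
  set C : Subgroup G := Subgroup.centralizer ({t} : Set G) with hC
  have hCne : C ≠ ⊤ := centralizer_ne_top c t ht ht1
  have hQC : Q ≤ C := by
    intro u hu
    rw [hC, Subgroup.mem_centralizer_singleton_iff]
    exact c.hQab u hu t ht
  have h2C : 2 ∣ Nat.card C := by
    have h1 : Nat.card Q ∣ Nat.card C := Subgroup.card_dvd_of_le hQC
    rw [c.hQcard] at h1
    exact (dvd_pow_self 2 (by have := c.ha; omega)).trans h1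
  have hprimes := c.hstar C hCne h2C
  -- the Sylow 2-subgroup of `C`
  have hcardQ' : Nat.card ↥(Q.subgroupOf C) = 2 ^ a := by
    rw [← c.hQcard]
    exact Nat.card_congr (Subgroup.subgroupOfEquivOfLe hQC).toEquiv
  have hfac : (Nat.card C).factorization 2 = a := by
    apply le_antisymm
    · rw [← c.hQsyl]
      have hdvd : Nat.card C ∣ Nat.card G := Subgroup.card_subgroup_dvd_card C
      exact (Nat.factorization_le_iff_dvd Nat.card_pos.ne' Nat.card_pos.ne').mpr hdvd 2
    · have h1 : Nat.card Q ∣ Nat.card C := Subgroup.card_dvd_of_le hQC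
      rw [c.hQcard] at h1
      exact (Nat.Prime.pow_dvd_iff_le_factorization Nat.prime_two Nat.card_pos.ne').mp h1
  let P : Sylow 2 ↥C := Sylow.ofCard (Q.subgroupOf C) (by rw [hcardQ', hfac])
  have hPco : (P : Subgroup ↥C) = Q.subgroupOf C := rfl
  have hP : Subgroup.normalizer ((P : Subgroup ↥C) : Set ↥C) ≤
      Subgroup.centralizer ((P : Subgroup ↥C) : Set ↥C) := by
    intro x hx
    rw [hPco] at hx ⊢
    have hxN : (x : G) ∈ Subgroup.normalizer (Q : Set G) := by
      rw [Subgroup.mem_normalizer_iff]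
      intro h
      constructor
      · intro hh
        have h1 : (⟨h, hQC hh⟩ : ↥C) ∈ Q.subgroupOf C := Subgroup.mem_subgroupOf.mpr hh
        have h2 := (Subgroup.mem_normalizer_iff.mp hx _).mp h1
        exact Subgroup.mem_subgroupOf.mp h2
      · intro hh
        have hxi : x⁻¹ ∈ Subgroup.normalizer ((Q.subgroupOf C : Subgroup ↥C) : Set ↥C) :=
          inv_mem hx
        have h1 : (⟨(x : G) * h * (x : G)⁻¹, hQC hh⟩ : ↥C) ∈ Q.subgroupOf C :=
          Subgroup.mem_subgroupOf.mpr hh
        have h2 := (Subgroup.mem_normalizer_iff.mp hxi _).mp h1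
        have h3 := Subgroup.mem_subgroupOf.mp h2
        simpa [mul_assoc] using h3
    have hxc := hNC (x : G) x.2 hxN
    rw [Subgroup.mem_centralizer_iff]
    intro y hy
    have hyQ : (y : G) ∈ Q := Subgroup.mem_subgroupOf.mp hy
    have := Subgroup.mem_centralizer_iff.mp hxc (y : G) hyQ
    exact Subtype.ext this
  have hcore : Cfsg.pPrimeCore 2 ↥C = (MonoidHom.transferSylow P hP).ker := pPrimeCore_eq_ker P hP
  have hcompl : Subgroup.IsComplement' (MonoidHom.transferSylow P hP).ker P :=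
    MonoidHom.ker_transferSylow_isComplement' P hP
  have hnd : ¬ 2 ∣ Nat.card (MonoidHom.transferSylow P hP).ker :=
    MonoidHom.not_dvd_card_ker_transferSylow P hP
  have hθ : centralizerPPrimeCore 2 t = (Cfsg.pPrimeCore 2 ↥C).map C.subtype := rfl
  have hmemθ : ∀ k : ↥C, k ∈ (MonoidHom.transferSylow P hP).ker → (k : G) ∈ centralizerPPrimeCore 2 t := by
    intro k hk
    rw [hθ, hcore]
    exact Subgroup.mem_map_of_mem C.subtype hk
  refine ⟨?_, ?_, ?_⟩
  · -- `θ(t)` is a `p`-group
    have hcardθ : Nat.card ↥(centralizerPPrimeCore 2 t) = Nat.card (MonoidHom.transferSylow P hP).ker := by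
      rw [hθ, hcore]
      exact Nat.card_congr
        ((MonoidHom.transferSylow P hP).ker.equivMapOfInjective C.subtype C.subtype_injective).symm.toEquiv
    have hKdvd : Nat.card (MonoidHom.transferSylow P hP).ker ∣ Nat.card C :=
      Subgroup.card_subgroup_dvd_card _
    have huniq : ∀ {d : ℕ}, d.Prime → d ∣ Nat.card (MonoidHom.transferSylow P hP).ker → d = p := by
      intro d hd hdvd
      rcases hprimes d hd (hdvd.trans hKdvd) with h | h
      · exact absurd (h ▸ hdvd) hnd
      · exact h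
    have := Nat.eq_prime_pow_of_unique_prime_dvd Nat.card_pos.ne' huniq
    exact IsPGroup.of_card (hcardθ.trans this)
  · intro x hx
    obtain ⟨⟨k, q⟩, hkq, -⟩ := (Subgroup.isComplement'_def.mp hcompl).existsUnique (⟨x, hx⟩ : ↥C)
    refine ⟨(k : ↥C), hmemθ k k.2, ((q : ↥C) : G), ?_, ?_⟩
    · have : (q : ↥C) ∈ Q.subgroupOf C := q.2
      exact Subgroup.mem_subgroupOf.mp this
    · have := congrArg (Subtype.val) hkq
      simpa using this.symm
  · intro x hx hodd
    have hker : (⟨x, hx⟩ : ↥C) ∈ (MonoidHom.transferSylow P hP).ker := by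
      rw [MonoidHom.mem_ker]
      set y := MonoidHom.transferSylow P hP ⟨x, hx⟩ with hy
      have h1 : orderOf y ∣ orderOf (⟨x, hx⟩ : ↥C) := orderOf_map_dvd _ _
      have h2 : orderOf (⟨x, hx⟩ : ↥C) = orderOf x := Subgroup.orderOf_mk x hx
      obtain ⟨n, hn⟩ := (IsPGroup.iff_orderOf.mp P.2) y
      rw [h2, hn] at h1
      have h3 : n = 0 := by
        by_contra hne
        have : 2 ∣ orderOf x := (dvd_pow_self 2 hne).trans h1
        exact (Nat.not_even_iff_odd.mpr hodd) (even_iff_two_dvd.mpr this)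
      rw [h3, pow_zero] at hn
      exact orderOf_eq_one_iff.mp hn
    exact hmemθ ⟨x, hx⟩ hker

end ctx

end Cfsg.Agent.Lib.Helper9.MIXSTRUCTa
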