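import Mathlib
import Cfsg.Agent.Lib.Helper17.OSubDefs

/-!
helper9: S5659 leaf C2 (`sset_trans`), core version with the leaves A1 (`exists_siegel`),
B4 (`siegel_mem_H`), B1 (`exists_sing_perp`) as hypotheses.  Plan: notes/S5659_plan.md (helper17).
-/

set_option autoImplicit false
set_option linter.unusedSectionVars false
set_option linter.unusedVariables false

namespace Cfsg.Agent.Lib.Helper9.OSubLeaf
open Cfsg Matrix Cfsg.Agent.Lib.Helper5.SpMax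
  Cfsg.Agent.Lib.Helper5.UForm Cfsg.Agent.Lib.Helper5.HermBridge
  Cfsg.Agent.Lib.Helper5.SUGen Cfsg.Agent.Lib.Helper5.SUMax Cfsg.Agent.Lib.Helper5.USub
  Cfsg.Agent.Lib.Helper17.OSub

variable {F : Type*} [Field F] [Fintype F] {q n : ℕ}

section Rat
variable {hF : Fintype.card F = q ^ 2} {F₀ : Subfield F} {P : GL (Fin n) F}
  (S : Setup hF F₀ P)
include S

variable {M : Subgroup (GL (Fin n) F)}

/-- one orthogonal step: `z₁ ⊥ z₀` rational isotropic, `z₀` a centre, then `z₁` is a centre -/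
theorem sset_step
    (hA1 : ∀ {z w : Fin n → F}, Cfsg.hermForm n F q z z = 0 → Cfsg.hermForm n F q w z = 0 →
      ∃ g : GL (Fin n) F, g ∈ Cfsg.GU n F q ⊓ Cfsg.Geo.specialLinear (Fin n) F ∧
        IsSiegel q g z w)
    (hB4 : ∀ {g : GL (Fin n) F} {z w : Fin n → F}, IsRat F₀ P z → IsRat F₀ P w →
      g ∈ Cfsg.GU n F q ⊓ Cfsg.Geo.specialLinear (Fin n) F → IsSiegel q g z w →
      g ∈ Cfsg.Geo.subfieldSubgroup F₀ P ⊓
        (Cfsg.GU n F q ⊓ Cfsg.Geo.specialLinear (Fin n) F))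
    (hHM : Cfsg.Geo.subfieldSubgroup F₀ P ⊓
      (Cfsg.GU n F q ⊓ Cfsg.Geo.specialLinear (Fin n) F) ≤ M)
    {z₀ z₁ : Fin n → F} (h₀ : RS q F₀ P z₀) (h₁ : RS q F₀ P z₁)
    (h10 : Cfsg.hermForm n F q z₁ z₀ = 0) (hm : z₀ ∈ Sset hF M) : z₁ ∈ Sset hF M := by
  have hf := herm_unitary (n := n) hF
  have h2 : (2 : F) ≠ 0 := S.two_ne_zero
  obtain ⟨hz0r, hz00, hz0i⟩ := h₀
  obtain ⟨hz1r, hz10, hz1i⟩ := h₁
  obtain ⟨p₀, hp₀, hp₀'⟩ := S.nd hz0r hz00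
  obtain ⟨p₁, hp₁, hp₁'⟩ := S.nd hz1r hz10
  obtain ⟨p, hp, hp0, hp1⟩ := exists_both (IsRat F₀ P) (fun x y hx hy => isRat_add hx hy)
    (fun x => Cfsg.hermForm n F q z₀ x) (fun x => Cfsg.hermForm n F q z₁ x)
    (fun x y => u_add_right hf z₀ x y) (fun x y => u_add_right hf z₁ x y) hp₀ hp₀' hp₁ hp₁'
  -- the scalars
  set c := Cfsg.hermForm n F q z₀ p with hc
  set c₁ := Cfsg.hermForm n F q z₁ p with hc₁
  have hcF : c ∈ F₀ := S.form _ _ hz0r hp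
  have hc₁F : c₁ ∈ F₀ := S.form _ _ hz1r hp
  have hppF : Cfsg.hermForm n F q p p ∈ F₀ := S.form _ _ hp hp
  have h2F : (2 : F) ∈ F₀ := by
    have : ((2 : ℕ) : F) ∈ F₀ := natCast_mem F₀ 2
    exact_mod_cast this
  set s : F := -(Cfsg.hermForm n F q p p) / (2 * c) with hs
  have hsF : s ∈ F₀ := F₀.div_mem (F₀.neg_mem hppF) (F₀.mul_mem h2F hcF)
  have hσs : frobQ hF s = s := (S.fix_iff s).mp hsF
  have hpz0 : Cfsg.hermForm n F q p z₀ = c := S.sym hz0r hp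
  -- the isotropic rational vector z₃
  set z₃ := p + s • z₀ with hz₃
  have hz3r : IsRat F₀ P z₃ := isRat_add hp (isRat_smul hsF hz0r)
  have h03 : Cfsg.hermForm n F q z₀ z₃ = c := by
    rw [hz₃, u_add_right hf, u_smul_right hf, hz0i, mul_zero, add_zero]
  have h13 : Cfsg.hermForm n F q z₁ z₃ = c₁ := by
    rw [hz₃, u_add_right hf, u_smul_right hf, h10, mul_zero, add_zero]
  have h33 : Cfsg.hermForm n F q z₃ z₃ = 0 := by
    rw [hz₃, hf.add_left, u_add_right hf, u_add_right hf, hf.smul_left, hf.smul_left,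
      u_smul_right hf, u_smul_right hf, hz0i, hσs, hpz0, ← hc, hs]
    field_simp
    ring
  -- normalised vectors
  have hσc : frobQ hF c⁻¹ = c⁻¹ := (S.fix_iff _).mp (F₀.inv_mem hcF)
  have hσc₁ : frobQ hF c₁⁻¹ = c₁⁻¹ := (S.fix_iff _).mp (F₀.inv_mem hc₁F)
  set a := c⁻¹ • z₀ with ha
  set b := c₁⁻¹ • z₁ with hb
  have har : IsRat F₀ P a := isRat_smul (F₀.inv_mem hcF) hz0r
  have hbr : IsRat F₀ P b := isRat_smul (F₀.inv_mem hc₁F) hz1r
  have haa : Cfsg.hermForm n F q a a = 0 := by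
    rw [ha, hf.smul_left, u_smul_right hf, hz0i, mul_zero, mul_zero]
  have hbb : Cfsg.hermForm n F q b b = 0 := by
    rw [hb, hf.smul_left, u_smul_right hf, hz1i, mul_zero, mul_zero]
  have ha3 : Cfsg.hermForm n F q a z₃ = 1 := by
    rw [ha, hf.smul_left, h03, inv_mul_cancel₀ hp0]
  have hb3 : Cfsg.hermForm n F q b z₃ = 1 := by
    rw [hb, hf.smul_left, h13, inv_mul_cancel₀ hp1]
  have hba : Cfsg.hermForm n F q b a = Cfsg.hermForm n F q a b := S.sym har hbr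
  set w := b - a with hw
  have hwr : IsRat F₀ P w := isRat_sub hbr har
  have hw3 : Cfsg.hermForm n F q w z₃ = 0 := by
    rw [hw, u_sub_left hf, ha3, hb3, sub_self]
  obtain ⟨E, hEG, hE⟩ := hA1 h33 hw3
  have hEM : E ∈ M := hHM (hB4 hz3r hwr hEG hE)
  have haw : Cfsg.hermForm n F q a w = Cfsg.hermForm n F q a b := by
    rw [hw, u_sub_right hf, haa, sub_zero]
  have hww : Cfsg.hermForm n F q w w = -(2 * Cfsg.hermForm n F q a b) := by
    rw [hw, u_sub_left hf, u_sub_right hf, u_sub_right hf, haa, hbb, hba]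
    ring
  have key : (E : Matrix (Fin n) (Fin n) F) *ᵥ a = b := by
    rw [hE a, ha3, haw, hww]
    have : Cfsg.hermForm n F q a b + 2⁻¹ * -(2 * Cfsg.hermForm n F q a b) * 1 = 0 := by
      field_simp
      ring
    rw [this, zero_smul, sub_zero, one_smul, hw]
    abel
  have h1 : a ∈ Sset hF M := Sset_smul hF hm c⁻¹
  have h2' : b ∈ Sset hF M := by
    rw [← key]
    exact Sset_mulVec_mem hF hEM hEG.1 h1
  have h3 : c₁ • b ∈ Sset hF M := Sset_smul hF h2' c₁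
  rwa [hb, smul_smul, mul_inv_cancel₀ hp1, one_smul] at h3

/-- LEAF C2, core version (A1, B4, B1 as hypotheses). -/
theorem sset_trans_core
    (hA1 : ∀ {z w : Fin n → F}, Cfsg.hermForm n F q z z = 0 → Cfsg.hermForm n F q w z = 0 →
      ∃ g : GL (Fin n) F, g ∈ Cfsg.GU n F q ⊓ Cfsg.Geo.specialLinear (Fin n) F ∧
        IsSiegel q g z w)
    (hB4 : ∀ {g : GL (Fin n) F} {z w : Fin n → F}, IsRat F₀ P z → IsRat F₀ P w →
      g ∈ Cfsg.GU n F q ⊓ Cfsg.Geo.specialLinear (Fin n) F → IsSiegel q g z w →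
      g ∈ Cfsg.Geo.subfieldSubgroup F₀ P ⊓
        (Cfsg.GU n F q ⊓ Cfsg.Geo.specialLinear (Fin n) F))
    (hB1 : ∀ y : Fin 5 → (Fin n → F),
      ∃ z, RS q F₀ P z ∧ ∀ i, Cfsg.hermForm n F q z (y i) = 0)
    (hHM : Cfsg.Geo.subfieldSubgroup F₀ P ⊓
      (Cfsg.GU n F q ⊓ Cfsg.Geo.specialLinear (Fin n) F) ≤ M)
    {z₀ z₁ : Fin n → F} (h₀ : RS q F₀ P z₀) (h₁ : RS q F₀ P z₁) (hm : z₀ ∈ Sset hF M) :
    z₁ ∈ Sset hF M := by
  obtain ⟨z₄, h₄, hy⟩ := hB1 ![z₀, z₁, 0, 0, 0]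
  have h40 : Cfsg.hermForm n F q z₄ z₀ = 0 := by simpa using hy 0
  have h41 : Cfsg.hermForm n F q z₄ z₁ = 0 := by simpa using hy 1
  have h14 : Cfsg.hermForm n F q z₁ z₄ = 0 := by rw [S.sym h₄.1 h₁.1]; exact h41
  have hm4 : z₄ ∈ Sset hF M := sset_step S hA1 hB4 hHM h₀ h₄ h40 hm
  exact sset_step S hA1 hB4 hHM h₄ h₁ h14 hm4

end Rat

end Cfsg.Agent.Lib.Helper9.OSubLeaf
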