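import Cfsg.Agent.Lib.Helper24.SLMQ8Defs
import Cfsg.Agent.Lib.Helper14.SLMLines

/-!
SLnMax stage 2, Q8 `lines4_five` (helper24's sub-market), block E: E1, E3, E5.
Exact signatures of `notes/SLnMax_Q8_leaves.lean`.
-/

set_option autoImplicit false
set_option linter.unusedSectionVars false
set_option linter.unusedVariables false

namespace Cfsg.Agent.Lib.Helper9.SLMQ8Leaf

open Cfsg.Geo Matrix Module Cfsg.Agent.Lib.Helper17.SLM Cfsg.Agent.Lib.Helper24.SLMQ8

variable {F : Type*} [Field F]

/-- E1 (M).  Generic: the property "characteristic abelian subgroups are cyclic" is invariant under isomorphism. -/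
theorem charAbelianCyclic_of_mulEquiv {G H : Type*} [Group G] [Group H] (e : G ≃* H)
    (h : ∀ A : Subgroup G, A.Characteristic → IsMulCommutative A → IsCyclic A) :
    ∀ A : Subgroup H, A.Characteristic → IsMulCommutative A → IsCyclic A := by
  intro A hA hc
  have hchar : (A.comap e.toMonoidHom).Characteristic := by
    refine ⟨fun φ => ?_⟩
    have h1 := hA.fixed (e.symm.trans (φ.trans e))
    ext x
    rw [Subgroup.mem_comap, Subgroup.mem_comap, Subgroup.mem_comap]
    have h2 : e (φ x) ∈ A ↔ e x ∈ A := by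
      have h3 : (e.symm.trans (φ.trans e)) (e x) ∈ A ↔ e x ∈ A := by
        have h5 : e x ∈ A.comap (e.symm.trans (φ.trans e)).toMonoidHom ↔ e x ∈ A := by rw [h1]
        exact h5
      simpa using h3
    exact h2
  have hcomm : IsMulCommutative (A.comap e.toMonoidHom) := by
    refine ⟨⟨fun x y => ?_⟩⟩
    apply Subtype.ext
    apply e.injective
    have hx : e x.1 ∈ A := x.2
    have hy : e y.1 ∈ A := y.2
    have := hc.is_comm.comm (⟨e x.1, hx⟩ : A) ⟨e y.1, hy⟩
    have h4 : e x.1 * e y.1 = e y.1 * e x.1 := congrArg Subtype.val this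
    show e (x.1 * y.1) = e (y.1 * x.1)
    rw [map_mul, map_mul, h4]
  have hcyc := h _ hchar hcomm
  -- transport cyclicity along the restriction of `e`
  let f : (A.comap e.toMonoidHom) →* A :=
    { toFun := fun x => ⟨e x.1, x.2⟩
      map_one' := Subtype.ext (map_one e)
      map_mul' := fun x y => Subtype.ext (map_mul e x.1 y.1) }
  have hf : Function.Surjective f := by
    intro y
    refine ⟨⟨e.symm y.1, ?_⟩, ?_⟩
    · show e (e.symm y.1) ∈ A
      rw [MulEquiv.apply_symm_apply]
      exact y.2
    · apply Subtype.ext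
      exact MulEquiv.apply_symm_apply e y.1
  exact isCyclic_of_surjective f hf

/-- E3 (S).  `p = 5`, `e = 1`, `z = 4`. -/
theorem minimalField_five [Fintype F] (hq : Fintype.card F = 5) : IsMinimalFieldFor 4 5 1 F := by
  have : Fact (Nat.Prime 5) := ⟨by norm_num⟩
  refine ⟨by norm_num, charP_of_card_eq_prime hq, by rw [hq]; norm_num, by norm_num, ?_⟩
  intro d hd hd1
  omega

/-- E5 (S).  In the field with five elements `2² = -1`, `2 ≠ 0`, and every non-zero element has fourth power `1`. -/
theorem five_facts [Fintype F] (hq : Fintype.card F = 5) :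
    (2 : F) * 2 = -1 ∧ (2 : F) ≠ 0 ∧ ∀ c : F, c ≠ 0 → c ^ 4 = 1 := by
  have : Fact (Nat.Prime 5) := ⟨by norm_num⟩
  have : CharP F 5 := charP_of_card_eq_prime hq
  have h5 : (5 : F) = 0 := by
    have := CharP.cast_eq_zero F 5
    exact_mod_cast this
  refine ⟨?_, ?_, ?_⟩
  · have : (2 : F) * 2 = 5 - 1 := by norm_num
    rw [this, h5, zero_sub]
  · intro h2
    have : (5 : F) = 2 + 2 + 1 := by norm_num
    rw [this, h2, add_zero, zero_add] at h5
    exact one_ne_zero h5
  · intro c hc
    have := FiniteField.pow_card_sub_one_eq_one c hc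
    rwa [hq] at this

end Cfsg.Agent.Lib.Helper9.SLMQ8Leaf
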