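import Cfsg.Agent.Lib.Helper24.SLMQ8Defs
import Cfsg.Agent.Lib.Helper14.SLMLines

/-!
SLnMax stage 2, Q8 `lines4_five` (helper24's sub-market), block M: M1 `Wm_injective`, M2 `span_Wm`,
M3 `absIrred_of_span`.  Exact signatures of `notes/SLnMax_Q8_leaves.lean`.
-/

set_option autoImplicit false
set_option linter.unusedSectionVars false
set_option linter.unusedVariables false

namespace Cfsg.Agent.Lib.Helper9.SLMQ8Leaf

open Cfsg.Geo Matrix Module Cfsg.Agent.Lib.Helper17.SLM Cfsg.Agent.Lib.Helper24.SLMQ8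

variable {F : Type*} [Field F]

/-! ### combinatorial facts on `Fin 4 = F_2²` -/

theorem q8_vx_vx : ∀ x y : Fin 4, vx y (vx x y) = x := by decide

theorem q8_dt_le_one : ∀ b y : Fin 4, dt b y = 0 ∨ dt b y = 1 := by decide

theorem q8_b_eq_of_dt : ∀ b b' : Fin 4, (∀ y : Fin 4, dt b y = dt b' y) → b = b' := by decide

/-- character orthogonality over `ℤ` -/
theorem q8_orth_int : ∀ y y' : Fin 4,
    ∑ b : Fin 4, ((-1 : ℤ) ^ dt b y * (-1 : ℤ) ^ dt b y') = if y = y' then 4 else 0 := by decide +kernel

/-- character orthogonality over `F` -/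
theorem q8_orth (y y' : Fin 4) :
    ∑ b : Fin 4, ((-1 : F) ^ dt b y * (-1 : F) ^ dt b y') = if y = y' then 4 else 0 := by
  have h := congrArg (Int.cast : ℤ → F) (q8_orth_int y y')
  push_cast at h
  exact h

/-! ### M1 -/

lemma q8_i_ne_zero {i : F} (hi : i * i = -1) : i ≠ 0 := by
  intro h0
  rw [h0, mul_zero] at hi
  exact one_ne_zero (neg_eq_zero.mp hi.symm)

lemma q8_neg_one_ne_one (h2 : (2 : F) ≠ 0) : (-1 : F) ≠ 1 := by
  intro h
  apply h2
  have : (2 : F) = 1 - (-1) := by norm_num
  rw [this, h, sub_self]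

/-- the powers `1, i, -1, -i` are distinct -/
lemma q8_pow_inj {i : F} (hi : i * i = -1) (h2 : (2 : F) ≠ 0) :
    ∀ k k' : Fin 4, i ^ k.val = i ^ k'.val → k = k' := by
  have hm := q8_neg_one_ne_one h2
  have ho : orderOf i = 2 ^ (1 + 1) := by
    apply orderOf_eq_prime_pow
    · rw [pow_one, pow_two, hi]
      exact hm
    · have : i ^ 2 ^ (1 + 1) = (i * i) * (i * i) := by ring
      rw [this, hi]
      ring
  intro k k' hk
  apply Fin.ext
  have hinj := pow_injOn_Iio_orderOf (x := i)
  rw [ho] at hinj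
  exact hinj (by show k.val < 2 ^ (1 + 1); have := k.isLt; omega)
    (by show k'.val < 2 ^ (1 + 1); have := k'.isLt; omega) hk

/-- M1 (M). -/
theorem Wm_injective (i : F) (hi : i * i = -1) (h2 : (2 : F) ≠ 0) : Function.Injective (Wm i) := by
  intro p q hpq
  have hi0 := q8_i_ne_zero hi
  have hm := q8_neg_one_ne_one h2
  -- entries
  have hent : ∀ x y : Fin 4, (if x = vx y p.a then Wc i p y else 0) =
      (if x = vx y q.a then Wc i q y else 0) := by
    intro x y
    have := congrFun (congrFun hpq x) y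
    unfold Wm at this
    rw [mono_apply, mono_apply] at this
    exact this
  have hWc0 : ∀ (r : G64) (y : Fin 4), Wc i r y ≠ 0 := by
    intro r y
    unfold Wc
    exact mul_ne_zero (pow_ne_zero _ hi0) (pow_ne_zero _ (neg_ne_zero.mpr one_ne_zero))
  -- `a`
  have ha : p.a = q.a := by
    have h0 := hent (vx 0 p.a) 0
    rw [if_pos rfl] at h0
    by_cases h : vx 0 p.a = vx 0 q.a
    · rw [zero_vx, zero_vx] at h
      exact h
    · rw [if_neg h] at h0
      exact absurd h0 (hWc0 p 0)
  -- coefficient functions agree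
  have hWc : ∀ y, Wc i p y = Wc i q y := by
    intro y
    have h0 := hent (vx y p.a) y
    rw [if_pos rfl, ← ha, if_pos rfl] at h0
    exact h0
  -- `k`
  have hk : p.k = q.k := by
    have h0 := hWc 0
    unfold Wc at h0
    rw [dt_zero_right, dt_zero_right, pow_zero, mul_one, mul_one] at h0
    exact q8_pow_inj hi h2 _ _ h0
  -- `b`
  have hb : p.b = q.b := by
    apply q8_b_eq_of_dt
    intro y
    have h0 := hWc y
    unfold Wc at h0
    rw [hk] at h0
    have h1 : (-1 : F) ^ dt p.b y = (-1 : F) ^ dt q.b y :=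
      mul_left_cancel₀ (pow_ne_zero _ hi0) h0
    rcases q8_dt_le_one p.b y with h3 | h3 <;> rcases q8_dt_le_one q.b y with h4 | h4
    · rw [h3, h4]
    · rw [h3, h4, pow_zero, pow_one] at h1
      exact absurd h1.symm hm
    · rw [h3, h4, pow_zero, pow_one] at h1
      exact absurd h1 hm
    · rw [h3, h4]
  exact G64.ext' hk ha hb

/-! ### M2 -/

/-- `4 • E_{x,y} = Σ_b (-1)^(b·y) Wm i (0, x ⊕ y, b)` -/
lemma q8_four_single (i : F) (x y : Fin 4) :
    (4 : F) • Matrix.single x y (1 : F) =
      ∑ b : Fin 4, ((-1 : F) ^ dt b y) • Wm i ⟨0, vx x y, b⟩ := by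
  ext x' y'
  rw [Matrix.sum_apply, Matrix.smul_apply, Matrix.single_apply, smul_eq_mul]
  have hterm : ∀ b : Fin 4, (((-1 : F) ^ dt b y) • Wm i ⟨0, vx x y, b⟩) x' y' =
      if x' = vx y' (vx x y) then (-1 : F) ^ dt b y * (-1 : F) ^ dt b y' else 0 := by
    intro b
    rw [Matrix.smul_apply, smul_eq_mul]
    unfold Wm Wc
    rw [mono_apply]
    simp only [Fin.val_zero, pow_zero, one_mul]
    split_ifs <;> simp
  rw [Finset.sum_congr rfl (fun b _ => hterm b)]
  by_cases h : x' = vx y' (vx x y)
  · simp only [if_pos h]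
    rw [q8_orth y y']
    by_cases hy : y = y'
    · subst hy
      rw [q8_vx_vx] at h
      subst h
      simp
    · rw [if_neg hy]
      have : ¬ (x = x' ∧ y = y') := fun hh => hy hh.2
      rw [if_neg this, mul_zero]
  · simp only [if_neg h, Finset.sum_const_zero]
    have : ¬ (x = x' ∧ y = y') := by
      rintro ⟨rfl, rfl⟩
      exact h (q8_vx_vx x y).symm
    rw [if_neg this, mul_zero]

/-- M2 (M). -/
theorem span_Wm (i : F) (hi : i * i = -1) (h2 : (2 : F) ≠ 0) :
    Submodule.span F (Set.range (Wm i)) = ⊤ := by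
  have h4 : (4 : F) ≠ 0 := by
    have : (4 : F) = 2 * 2 := by norm_num
    rw [this]
    exact mul_ne_zero h2 h2
  rw [eq_top_iff]
  intro M _
  have hs : ∀ x y : Fin 4, Matrix.single x y (1 : F) ∈ Submodule.span F (Set.range (Wm i)) := by
    intro x y
    have e1 : Matrix.single x y (1 : F) = (4 : F)⁻¹ • ((4 : F) • Matrix.single x y (1 : F)) := by
      rw [smul_smul, inv_mul_cancel₀ h4, one_smul]
    rw [e1, q8_four_single i x y]
    refine Submodule.smul_mem _ _ (Submodule.sum_mem _ fun b _ => Submodule.smul_mem _ _ ?_)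
    exact Submodule.subset_span ⟨_, rfl⟩
  rw [Matrix.matrix_eq_sum_single M]
  refine Submodule.sum_mem _ fun x _ => Submodule.sum_mem _ fun y _ => ?_
  have e2 : Matrix.single x y (M x y) = M x y • Matrix.single x y (1 : F) := by
    rw [Matrix.smul_single, smul_eq_mul, mul_one]
  rw [e2]
  exact Submodule.smul_mem _ _ (hs x y)

/-! ### M3 -/

/-- M3 (M).  Generic: a set of matrices spanning `M_n(F)` acts absolutely irreducibly. -/
theorem absIrred_of_span {n : ℕ} (S : Set (Matrix (Fin n) (Fin n) F)) (h : Submodule.span F S = ⊤) :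
    ActsAbsolutelyIrreducibly S := by
  refine ⟨?_, ?_⟩
  · intro W hW
    -- `W` is invariant under every matrix
    have hall : ∀ M : Matrix (Fin n) (Fin n) F, ∀ w ∈ W, M *ᵥ w ∈ W := by
      intro M
      have hM : M ∈ Submodule.span F S := by rw [h]; trivial
      refine Submodule.span_induction (p := fun M _ => ∀ w ∈ W, M *ᵥ w ∈ W) ?_ ?_ ?_ ?_ hM
      · intro s hs w hw
        have := hW s hs
        have h1 : Matrix.toLin' s w ∈ W.map (Matrix.toLin' s) := Submodule.mem_map_of_mem hw
        have h2 := this h1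
        rwa [Matrix.toLin'_apply] at h2
      · intro w hw
        rw [Matrix.zero_mulVec]
        exact W.zero_mem
      · intro A B _ _ hA hB w hw
        rw [Matrix.add_mulVec]
        exact W.add_mem (hA w hw) (hB w hw)
      · intro c A _ hA w hw
        rw [Matrix.smul_mulVec]
        exact W.smul_mem c (hA w hw)
    by_cases hbot : W = ⊥
    · left; exact hbot
    · right
      obtain ⟨w, hw, hw0⟩ := (Submodule.ne_bot_iff W).mp hbot
      have hj : ∃ j, w j ≠ 0 := by
        by_contra hcon
        push Not at hcon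
        exact hw0 (funext hcon)
      obtain ⟨j, hj⟩ := hj
      rw [eq_top_iff]
      intro v _
      -- `v = (v ⊗ (w j)⁻¹ e_j^T) w`
      have e1 : Matrix.vecMulVec v ((w j)⁻¹ • Pi.single j (1 : F)) *ᵥ w = v := by
        rw [Matrix.vecMulVec_mulVec]
        simp only [smul_dotProduct, single_dotProduct, one_mul, smul_eq_mul]
        rw [inv_mul_cancel₀ hj]
        ext k
        simp [MulOpposite.op_one]
      rw [← e1]
      exact hall _ w hw
  · intro M hM
    have hall : ∀ N : Matrix (Fin n) (Fin n) F, M * N = N * M := by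
      intro N
      have hN : N ∈ Submodule.span F S := by rw [h]; trivial
      refine Submodule.span_induction (p := fun N _ => M * N = N * M) ?_ ?_ ?_ ?_ hN
      · intro s hs
        exact hM s hs
      · rw [Matrix.mul_zero, Matrix.zero_mul]
      · intro A B _ _ hA hB
        rw [Matrix.mul_add, Matrix.add_mul, hA, hB]
      · intro c A _ hA
        rw [Matrix.mul_smul, Matrix.smul_mul, hA]
    have hsc : M ∈ Set.range (Matrix.scalar (Fin n)) := by
      apply Matrix.mem_range_scalar_of_commute_single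
      intro a b _
      exact (hall (Matrix.single a b 1)).symm
    obtain ⟨c, hc⟩ := hsc
    refine ⟨c, ?_⟩
    rw [← hc, Matrix.smul_one_eq_diagonal]
    rfl

end Cfsg.Agent.Lib.Helper9.SLMQ8Leaf
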