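import Mathlib
import Cfsg.Prelude.Def_ClassicalGeometry
import Cfsg.Prelude.Def_GeometricClasses
import Cfsg.Agent.Lib.Helper18.T23.H2.SOTDefs
import Cfsg.Agent.Lib.Helper18.T23.H2.SOTGDefs
import Cfsg.Agent.Lib.Helper18.T23.H27.SOTLADefs
import Cfsg.Agent.Lib.Helper9.TwistNu

/-!
S5804 conjunct (7), market C4 (helper18), leaf **N4** `twist_abstract`: the abstract twist lemma in the exact shape
of `notes/S5804_C4_leaves.lean`; a wrapper of `Cfsg.Agent.Lib.Helper9.TwistNu.exists_twist` (`Y := K`, `S := univ`).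
-/

set_option autoImplicit false
set_option linter.unusedSectionVars false
set_option linter.unusedVariables false

namespace Cfsg.Agent.Lib.Helper9.C4Leaf
open Matrix Module
open Cfsg.Agent.Lib.Helper25.Tens Cfsg.Agent.Lib.Helper25.SpT Cfsg.Agent.Lib.Helper19.OSub
open Cfsg.Agent.Lib.Helper18.T23.H2.SOT Cfsg.Agent.Lib.Helper18.T23.H27.SOTLA
open scoped Kronecker

variable {F : Type*} [Field F] [Fintype F] {a b : ℕ} {G : Matrix (Fin b) (Fin b) F}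
  {M : Subgroup (GL (Idx a b) F)}

/-- **N4** the TWIST LEMMA (abstract; generalises `H9.SOTLeaf.exists_b0_abstract` from `-1` to `μ`). -/
theorem twist_abstract {ι : Type} [Fintype ι] [DecidableEq ι] (N N'' : Matrix ι ι F)
    (R R'' K : Submodule F (ι → F))
    (hNR : ∀ v, N *ᵥ v ∈ R) (hN''R : ∀ v, N'' *ᵥ v ∈ R'')
    (hN0 : ∀ v ∈ R, N *ᵥ v = 0) (hN''0 : ∀ v ∈ R'', N'' *ᵥ v = 0)
    (hKR : K ≤ R) (hKR'' : K ≤ R'') (hRK : R ⊓ R'' ≤ K)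
    (uN uN'' : F → GL ι F) (huN : ∀ c, ((uN c : GL ι F) : Matrix ι ι F) = 1 + c • N)
    (huN'' : ∀ c, ((uN'' c : GL ι F) : Matrix ι ι F) = 1 + c • N'')
    (x₀ : GL ι F)
    (hx₀ : x₀ ∈ Subgroup.closure ({t | ∃ c, t = uN c} ∪ {t | ∃ c, t = uN'' c}))
    (hmap : ∀ v ∈ R, mv x₀ v ∈ R'') (μ : F) (hμ : μ ≠ 0) :
    ∃ T ∈ Subgroup.closure ({t | ∃ c, t = uN c} ∪ {t | ∃ c, t = uN'' c}),
      (∀ v ∈ K, mv T v = v) ∧ (∀ v ∈ R, mv T v - μ⁻¹ • v ∈ K) ∧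
      ∀ v ∈ R'', ∀ p ∈ R, ∀ p'' ∈ R'', mv x₀ v = p + p'' →
        mv x₀ (mv T v) - (μ • p + p'') ∈ K := by
  have hset : ({t | ∃ c ∈ (Set.univ : Set F), t = uN c} ∪ {t | ∃ c ∈ (Set.univ : Set F), t = uN'' c} :
      Set (GL ι F)) = {t | ∃ c, t = uN c} ∪ {t | ∃ c, t = uN'' c} := by
    ext t; simp
  have hRK' : R ⊔ K = R := sup_eq_left.mpr hKR
  have hR''K : R'' ⊔ K = R'' := sup_eq_left.mpr hKR''
  obtain ⟨T, hT, h1, h2, h3⟩ := Cfsg.Agent.Lib.Helper9.TwistNu.exists_twist N N'' R R'' K K hNR hN''R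
    (by rw [hRK']; exact hN0) (by rw [hR''K]; exact hN''0) hKR hKR'' le_rfl
    (by rw [hR''K]; exact hRK) Set.univ (fun _ _ => Set.mem_univ _) μ hμ (fun _ _ => Set.mem_univ _)
    (fun _ _ => Set.mem_univ _) uN uN'' huN huN'' x₀ (by rw [hset]; exact hx₀) hmap
  rw [hset] at hT
  refine ⟨T, hT, h1, h2, ?_⟩
  intro v hv p hp p'' hp'' hdec
  exact h3 v (by rw [hR''K]; exact hv) p hp p'' (by rw [hR''K]; exact hp'') hdec

end Cfsg.Agent.Lib.Helper9.C4Leaf
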