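import Mathlib
import Cfsg.Prelude.Def_GeometricClasses

/-!
Swapping the two factors of a tensor decomposition (for the SWAPPED case `n₂ = 4` of S5709, where the roles of
the two tensor factors are exchanged): the tensor product subgroup and the tensor form structure are symmetric
in the two factors, up to the reindexing `Equiv.prodComm`.
-/

set_option autoImplicit false
set_option linter.unusedSectionVars false
set_option linter.unusedVariables false

namespace Cfsg.Agent.Lib.Helper9.TensSwap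
open Matrix Cfsg.Geo
open scoped Kronecker

variable {F : Type*} [Field F] {ι : Type} [Fintype ι] [DecidableEq ι]

/-- the Kronecker product commutes with the swap of the index pairs -/
lemma reindex_kron_swap {n₁ n₂ : ℕ} (a : Matrix (Fin n₁) (Fin n₁) F) (b : Matrix (Fin n₂) (Fin n₂) F) :
    Matrix.reindex (Equiv.prodComm (Fin n₁) (Fin n₂)) (Equiv.prodComm (Fin n₁) (Fin n₂)) (a ⊗ₖ b) =
      b ⊗ₖ a := by
  ext ⟨i, j⟩ ⟨k, l⟩
  simp [Matrix.kroneckerMap_apply, mul_comm]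

lemma glReindex_val {κ : Type} [Fintype κ] [DecidableEq κ] (e : κ ≃ ι) (g : GL κ F) :
    ((glReindex (F := F) e g : GL ι F) : Matrix ι ι F) = Matrix.reindex e e (g : Matrix κ κ F) := rfl

/-- membership in the tensor product subgroup, unfolded -/
lemma mem_tensorProductSubgroup_iff {n₁ n₂ : ℕ} (e : ι ≃ Fin n₁ × Fin n₂) (P g : GL ι F) :
    g ∈ tensorProductSubgroup n₁ n₂ e P ↔ ∃ (a : GL (Fin n₁) F) (b : GL (Fin n₂) F),
      ((P⁻¹ * g * P : GL ι F) : Matrix ι ι F) = Matrix.reindex e.symm e.symm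
        ((a : Matrix (Fin n₁) (Fin n₁) F) ⊗ₖ (b : Matrix (Fin n₂) (Fin n₂) F)) := by
  unfold tensorProductSubgroup
  rw [Subgroup.mem_map]
  constructor
  · rintro ⟨h, hh, rfl⟩
    rw [Subgroup.mem_map] at hh
    obtain ⟨k, ⟨a, b, hk⟩, rfl⟩ := hh
    refine ⟨a, b, ?_⟩
    have e1 : P⁻¹ * ((MulAut.conj P).toMonoidHom ((glReindex e.symm).toMonoidHom k)) * P =
        glReindex e.symm k := by
      show P⁻¹ * (P * glReindex e.symm k * P⁻¹) * P = _
      group
    rw [e1, glReindex_val, hk]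
  · rintro ⟨a, b, hab⟩
    have hk : ∃ k : GL (Fin n₁ × Fin n₂) F, (k : Matrix _ _ F) =
        (a : Matrix (Fin n₁) (Fin n₁) F) ⊗ₖ (b : Matrix (Fin n₂) (Fin n₂) F) := by
      refine ⟨⟨(a : Matrix _ _ F) ⊗ₖ (b : Matrix _ _ F),
        ((a⁻¹ : GL _ F) : Matrix _ _ F) ⊗ₖ ((b⁻¹ : GL _ F) : Matrix _ _ F), ?_, ?_⟩, rfl⟩
      · rw [← Matrix.mul_kronecker_mul, ← Units.val_mul, ← Units.val_mul, mul_inv_cancel,
          mul_inv_cancel, Units.val_one, Units.val_one, Matrix.one_kronecker_one]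
      · rw [← Matrix.mul_kronecker_mul, ← Units.val_mul, ← Units.val_mul, inv_mul_cancel,
          inv_mul_cancel, Units.val_one, Units.val_one, Matrix.one_kronecker_one]
    obtain ⟨k, hk⟩ := hk
    refine ⟨glReindex e.symm k, Subgroup.mem_map.mpr ⟨k, ⟨a, b, hk⟩, rfl⟩, ?_⟩
    have e2 : glReindex e.symm k = P⁻¹ * g * P := by
      apply Units.ext
      rw [glReindex_val, hk, hab]
    show P * glReindex e.symm k * P⁻¹ = g
    rw [e2]
    group

/-- the tensor product subgroup does not depend on the order of the two factors -/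
theorem tensorProductSubgroup_swap {n₁ n₂ : ℕ} (e : ι ≃ Fin n₁ × Fin n₂) (P : GL ι F) :
    tensorProductSubgroup n₁ n₂ e P =
      tensorProductSubgroup n₂ n₁ (e.trans (Equiv.prodComm (Fin n₁) (Fin n₂))) P := by
  ext g
  rw [mem_tensorProductSubgroup_iff, mem_tensorProductSubgroup_iff]
  have key : ∀ (a : GL (Fin n₁) F) (b : GL (Fin n₂) F),
      Matrix.reindex (e.trans (Equiv.prodComm (Fin n₁) (Fin n₂))).symm
        (e.trans (Equiv.prodComm (Fin n₁) (Fin n₂))).symm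
        ((b : Matrix (Fin n₂) (Fin n₂) F) ⊗ₖ (a : Matrix (Fin n₁) (Fin n₁) F)) =
      Matrix.reindex e.symm e.symm
        ((a : Matrix (Fin n₁) (Fin n₁) F) ⊗ₖ (b : Matrix (Fin n₂) (Fin n₂) F)) := by
    intro a b
    ext i j
    simp [Matrix.kroneckerMap_apply, mul_comm]
  constructor
  · rintro ⟨a, b, h⟩
    exact ⟨b, a, by rw [h, key]⟩
  · rintro ⟨b, a, h⟩
    exact ⟨a, b, by rw [h, key]⟩

/-- the tensor form structure is symmetric in the two factors -/
theorem isTensorFormStructure_swap {σ : F → F} {f : (ι → F) → (ι → F) → F} {n₁ n₂ : ℕ}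
    {f₁ : (Fin n₁ → F) → (Fin n₁ → F) → F} {f₂ : (Fin n₂ → F) → (Fin n₂ → F) → F}
    {e : ι ≃ Fin n₁ × Fin n₂} {P : GL ι F} (h : IsTensorFormStructure σ f f₁ f₂ e P) :
    IsTensorFormStructure σ f f₂ f₁ (e.trans (Equiv.prodComm (Fin n₁) (Fin n₂))) P := by
  obtain ⟨c, hc, hf⟩ := h
  refine ⟨c, hc, fun x y => ?_⟩
  have h1 := hf (x ∘ Equiv.prodComm (Fin n₁) (Fin n₂)) (y ∘ Equiv.prodComm (Fin n₁) (Fin n₂))
  have e1 : (x ∘ ⇑(e.trans (Equiv.prodComm (Fin n₁) (Fin n₂)))) =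
      ((x ∘ ⇑(Equiv.prodComm (Fin n₁) (Fin n₂))) ∘ ⇑e) := rfl
  have e2 : (y ∘ ⇑(e.trans (Equiv.prodComm (Fin n₁) (Fin n₂)))) =
      ((y ∘ ⇑(Equiv.prodComm (Fin n₁) (Fin n₂))) ∘ ⇑e) := rfl
  rw [e1, e2, h1]
  congr 1
  unfold formOfGram
  rw [Fintype.sum_prod_type, Fintype.sum_prod_type, Finset.sum_comm]
  refine Finset.sum_congr rfl fun i _ => Finset.sum_congr rfl fun j _ => ?_
  rw [Fintype.sum_prod_type, Fintype.sum_prod_type, Finset.sum_comm]
  refine Finset.sum_congr rfl fun k _ => Finset.sum_congr rfl fun l _ => ?_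
  simp [Matrix.kroneckerMap_apply, mul_comm]

end Cfsg.Agent.Lib.Helper9.TensSwap
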