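import Mathlib
import Cfsg.Prelude.Def_ClassicalGeometry
import Cfsg.Prelude.Def_GeometricClasses
import Cfsg.Agent.Lib.Helper5.SpMax
import Cfsg.Agent.Lib.Helper2.SpSubDefs
import Cfsg.Agent.Lib.Helper2.SpSubBasic
import Cfsg.Agent.Lib.Helper9.SpSubT
import Cfsg.Agent.Lib.Helper18.Sp4EDefs

/-!
helper9: S5789 (helper18 market) leaf SF-D `dag_of_phi`: a transvection of `M` whose centre `b + φ e₁` is an
irrational point of a rational totally isotropic line forces (†).  Plan: `notes/S5789_plan.md` §SF-D.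
The abelian group `U = {t_{e₁}(α) t_{e₂}(β) S_{e₁,e₂}(γ)}` is parametrised by triples, `InP M α β γ` says
`U(α,β,γ) ∈ M`; rational conjugations act on the triples by swap / scale / shear.
-/

set_option autoImplicit false
set_option linter.unusedVariables false

namespace Cfsg.Agent.Lib.Helper9.Sp4ELeaf
open Cfsg Matrix Cfsg.Agent.Lib.Helper5 Cfsg.Agent.Lib.Helper5.SpMax Cfsg.Agent.Lib.Helper2.SpSub
  Cfsg.Agent.Lib.Helper18.Sp4E Cfsg.Agent.Lib.Helper9.SpSubLeaf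

variable {F : Type*} [Field F]

section calculus
variable {m : ℕ}

/-- the abelian group attached to an orthogonal pair `a ⊥ b` -/
noncomputable def Ug (a b : Fin m ⊕ Fin m → F) (α β γ : F) : GL (Fin m ⊕ Fin m) F :=
  tvc a α * tvc b β * Sab a b γ

lemma Ug_mem_sp (a b : Fin m ⊕ Fin m → F) (α β γ : F) : Ug a b α β γ ∈ spGL m F :=
  (spGL m F).mul_mem ((spGL m F).mul_mem (tvc_mem _ _) (tvc_mem _ _)) (Sab_mem_sp _ _ _)

lemma Ug_mv {a b : Fin m ⊕ Fin m → F} (hab : sympForm m F a b = 0) (α β γ : F)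
    (x : Fin m ⊕ Fin m → F) :
    mv (Ug a b α β γ) x = x + (α * sympForm m F x a + γ * sympForm m F x b) • a
      + (β * sympForm m F x b + γ * sympForm m F x a) • b := by
  have hba : sympForm m F b a = 0 := by rw [sympForm_swap, hab, neg_zero]
  unfold Ug
  rw [mv_mul, mv_mul, Sab_mulVec hab, tvc_mv, tvc_mv]
  simp only [sympForm_add_left, sympForm_smul_left, sympForm_self, hab, hba, mul_zero, add_zero,
    smul_add, smul_smul]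
  module

lemma Ug_mul {a b : Fin m ⊕ Fin m → F} (hab : sympForm m F a b = 0) (α β γ α' β' γ' : F) :
    Ug a b α β γ * Ug a b α' β' γ' = Ug a b (α + α') (β + β') (γ + γ') := by
  have hba : sympForm m F b a = 0 := by rw [sympForm_swap, hab, neg_zero]
  apply gl_ext
  intro x
  rw [mv_mul, Ug_mv hab, Ug_mv hab, Ug_mv hab]
  simp only [sympForm_add_left, sympForm_smul_left, sympForm_self, hab, hba, mul_zero, add_zero]
  module

lemma conj_Ug {h : GL (Fin m ⊕ Fin m) F} (hh : h ∈ spGL m F) (a b : Fin m ⊕ Fin m → F)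
    (α β γ : F) : h * Ug a b α β γ * h⁻¹ = Ug (mv h a) (mv h b) α β γ := by
  unfold Ug
  rw [← conj_Sab hh, ← conj_tvc hh, ← conj_tvc hh]
  group

lemma Ug_smul_left {a b : Fin m ⊕ Fin m → F} (hab : sympForm m F a b = 0) (c α β γ : F) :
    Ug (c • a) b α β γ = Ug a b (c ^ 2 * α) β (c * γ) := by
  unfold Ug
  rw [tvc_smul, Sab_smul_left hab]

lemma Ug_swap {a b : Fin m ⊕ Fin m → F} (hab : sympForm m F a b = 0) (α β γ : F) :
    Ug b a α β γ = Ug a b β α γ := by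
  have hba : sympForm m F b a = 0 := by rw [sympForm_swap, hab, neg_zero]
  apply gl_ext
  intro x
  rw [Ug_mv hab, Ug_mv hba]
  module

lemma Ug_shear (h2 : (2 : F) = 0) {a b : Fin m ⊕ Fin m → F} (hab : sympForm m F a b = 0)
    (α β γ : F) : Ug a (a + b) α β γ = Ug a b (α + β) β (β + γ) := by
  have hba : sympForm m F b a = 0 := by rw [sympForm_swap, hab, neg_zero]
  have haab : sympForm m F a (a + b) = 0 := by rw [sympForm_add_right, sympForm_self, hab, add_zero]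
  apply gl_ext
  intro x
  rw [Ug_mv hab, Ug_mv haab]
  simp only [sympForm_add_right]
  trans (x + ((α + β) * sympForm m F x a + (β + γ) * sympForm m F x b) • a
      + (β * sympForm m F x b + (β + γ) * sympForm m F x a) • b)
      + ((2 : F) * (γ * sympForm m F x a)) • a
  · module
  · rw [h2, zero_mul, zero_smul, add_zero]
  
end calculus


section main

lemma add_self2 (h2 : (2 : F) = 0) (x : F) : x + x = 0 := by
  rw [← two_mul, h2, zero_mul]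

/-- perfectness of the finite subfield in characteristic 2 -/
lemma mem_of_sq_mem [Finite F] (h2 : (2 : F) = 0) (F₀ : Subfield F) {x : F} (hx : x ^ 2 ∈ F₀) : x ∈ F₀ := by
  have hinj : Function.Injective (fun y : F₀ => y ^ 2) := by
    intro y z hyz
    have h1 : ((y : F) - z) ^ 2 = 0 := by
      have h3 : (y : F) ^ 2 = (z : F) ^ 2 := by
        have := congrArg (Subtype.val) hyz
        simpa using this
      have : ((y : F) - z) ^ 2 = (y : F) ^ 2 + (z : F) ^ 2 - 2 * ((y : F) * z) := by ring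
      rw [this, h2, zero_mul, sub_zero, h3, add_self2 h2]
    have h4 : (y : F) - z = 0 := by
      rcases pow_eq_zero_iff (n := 2) (by norm_num) |>.mp h1 with h
      exact h
    exact Subtype.ext (sub_eq_zero.mp h4)
  have hsurj : Function.Surjective (fun y : F₀ => y ^ 2) := Finite.injective_iff_surjective.mp hinj
  obtain ⟨y, hy⟩ := hsurj ⟨x ^ 2, hx⟩
  have h3 : (y : F) ^ 2 = x ^ 2 := by
    have := congrArg (Subtype.val) hy
    simpa using this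
  have h1 : (x - (y : F)) ^ 2 = 0 := by
    have : (x - (y : F)) ^ 2 = x ^ 2 + (y : F) ^ 2 - 2 * (x * y) := by ring
    rw [this, h2, zero_mul, sub_zero, h3, add_self2 h2]
  have h4 : x - (y : F) = 0 := pow_eq_zero_iff (n := 2) (by norm_num) |>.mp h1
  rw [sub_eq_zero.mp h4]
  exact y.2

lemma e01 : sympForm 2 F (ee 0 : Fin 2 ⊕ Fin 2 → F) (ee 1) = 0 := B_ee_ee 0 1

lemma tvc_lin (φ : F) :
    tvc ((ee 1 : Fin 2 ⊕ Fin 2 → F) + φ • (ee 0 : Fin 2 ⊕ Fin 2 → F)) 1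
      = Ug (ee 0 : Fin 2 ⊕ Fin 2 → F) (ee 1) (φ ^ 2) 1 φ := by
  apply gl_ext
  intro x
  rw [tvc_mv, Ug_mv e01]
  simp only [sympForm_add_right, sympForm_smul_right]
  module

/-! ### independence side conditions -/

lemma ind_e0_e1 (c : F) (hc : c ≠ 0) : ∀ s t : F,
    s • (c • (ee 0 : Fin 2 ⊕ Fin 2 → F)) + t • (ee 1 : Fin 2 ⊕ Fin 2 → F) = 0 → s = 0 ∧ t = 0 := by
  intro s t h
  have h0 := congrFun h (Sum.inl 0)
  have h1 := congrFun h (Sum.inl 1)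
  simp [ee] at h0 h1
  exact ⟨h0.resolve_right hc, h1⟩

lemma ind_e1_e0 : ∀ s t : F,
    s • (ee 1 : Fin 2 ⊕ Fin 2 → F) + t • (ee 0 : Fin 2 ⊕ Fin 2 → F) = 0 → s = 0 ∧ t = 0 := by
  intro s t h
  have h0 := congrFun h (Sum.inl 0)
  have h1 := congrFun h (Sum.inl 1)
  simp [ee] at h0 h1
  exact ⟨h1, h0⟩

lemma ind_e0_f1 : ∀ s t : F,
    s • (ee 0 : Fin 2 ⊕ Fin 2 → F) + t • (ff 1 : Fin 2 ⊕ Fin 2 → F) = 0 → s = 0 ∧ t = 0 := by
  intro s t h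
  have h0 := congrFun h (Sum.inl 0)
  have h1 := congrFun h (Sum.inr 1)
  simp [ee, ff] at h0 h1
  exact ⟨h0, h1⟩

lemma ind_e0_e01 : ∀ s t : F,
    s • (ee 0 : Fin 2 ⊕ Fin 2 → F) + t • ((ee 0 : Fin 2 ⊕ Fin 2 → F) + ee 1) = 0 → s = 0 ∧ t = 0 := by
  intro s t h
  have h0 := congrFun h (Sum.inl 0)
  have h1 := congrFun h (Sum.inl 1)
  simp [ee] at h0 h1
  subst h1
  simp at h0
  exact ⟨h0, rfl⟩

lemma ind_e1_e01 : ∀ s t : F,
    s • (ee 1 : Fin 2 ⊕ Fin 2 → F) + t • ((ee 0 : Fin 2 ⊕ Fin 2 → F) + ee 1) = 0 → s = 0 ∧ t = 0 := by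
  intro s t h
  have h0 := congrFun h (Sum.inl 0)
  have h1 := congrFun h (Sum.inl 1)
  simp [ee] at h0 h1
  subst h0
  simp at h1
  exact ⟨h1, rfl⟩


/-! ### the set `P` of parameters of `M ∩ U` -/

variable {F₀ : Subfield F} {M : Subgroup (GL (Fin 2 ⊕ Fin 2) F)}

/-- `(α, β, γ) ∈ P` -/
def InP (M : Subgroup (GL (Fin 2 ⊕ Fin 2) F)) (α β γ : F) : Prop :=
  Ug (ee 0 : Fin 2 ⊕ Fin 2 → F) (ee 1) α β γ ∈ M

lemma InP_add {α β γ α' β' γ' : F} (h : InP M α β γ) (h' : InP M α' β' γ') :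
    InP M (α + α') (β + β') (γ + γ') := by
  unfold InP at *
  rw [← Ug_mul e01]
  exact M.mul_mem h h'

lemma InP_rat (hHM : H0 2 F₀ ≤ M) {α β γ : F} (hα : α ∈ F₀) (hβ : β ∈ F₀) (hγ : γ ∈ F₀) :
    InP M α β γ := by
  apply hHM
  exact (H0 2 F₀).mul_mem ((H0 2 F₀).mul_mem (tvc_mem_H0 (ratV_ee 0) hα) (tvc_mem_H0 (ratV_ee 1) hβ))
    (Sab_mem_H0 (ratV_ee 0) (ratV_ee 1) hγ)

lemma InP_conj (hHM : H0 2 F₀ ≤ M) {h : GL (Fin 2 ⊕ Fin 2) F} (hh : h ∈ Rg 2 F₀) {α β γ : F}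
    (hP : InP M α β γ) :
    Ug (mv h (ee 0 : Fin 2 ⊕ Fin 2 → F)) (mv h (ee 1 : Fin 2 ⊕ Fin 2 → F)) α β γ ∈ M := by
  rw [← conj_Ug hh.1]
  have hhM : h ∈ M := hHM (Rg_le_H0 F₀ hh)
  exact M.mul_mem (M.mul_mem hhM hP) (M.inv_mem hhM)

lemma InP_swap (hHM : H0 2 F₀ ≤ M) {α β γ : F} (hP : InP M α β γ) : InP M β α γ := by
  obtain ⟨h, hh, h0, h1⟩ := exists_Rg_map_pair F₀ (i := (0 : Fin 2)) (j := 1) (by decide)
    (ratV_ee (1 : Fin 2)) (ratV_ee (0 : Fin 2)) (B_ee_ee 1 0) ind_e1_e0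
  have := InP_conj hHM hh hP
  rw [h0, h1, Ug_swap e01] at this
  exact this

lemma InP_scale (hHM : H0 2 F₀ ≤ M) {c : F} (hc : c ∈ F₀) (hc0 : c ≠ 0) {α β γ : F}
    (hP : InP M α β γ) : InP M (c ^ 2 * α) β (c * γ) := by
  have horth : sympForm 2 F (c • (ee 0 : Fin 2 ⊕ Fin 2 → F)) (ee 1) = 0 := by
    rw [sympForm_smul_left, e01, mul_zero]
  obtain ⟨h, hh, h0, h1⟩ := exists_Rg_map_pair F₀ (i := (0 : Fin 2)) (j := 1) (by decide)
    (ratV_smul hc (ratV_ee (0 : Fin 2))) (ratV_ee (1 : Fin 2)) horth (ind_e0_e1 c hc0)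
  have := InP_conj hHM hh hP
  rw [h0, h1, Ug_smul_left e01] at this
  exact this

lemma InP_shear (h2 : (2 : F) = 0) (hHM : H0 2 F₀ ≤ M) {α β γ : F} (hP : InP M α β γ) :
    InP M (α + β) β (β + γ) := by
  have horth : sympForm 2 F (ee 0 : Fin 2 ⊕ Fin 2 → F) ((ee 0 : Fin 2 ⊕ Fin 2 → F) + ee 1) = 0 := by
    rw [sympForm_add_right, sympForm_self, e01, add_zero]
  obtain ⟨h, hh, h0, h1⟩ := exists_Rg_map_pair F₀ (i := (0 : Fin 2)) (j := 1) (by decide)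
    (ratV_ee (0 : Fin 2)) (ratV_add (ratV_ee (0 : Fin 2)) (ratV_ee (1 : Fin 2))) horth ind_e0_e01
  have := InP_conj hHM hh hP
  rw [h0, h1, Ug_shear h2 e01] at this
  exact this

/-- `X(φ) ∈ M ⟹ S_{e₁,e₂}(φ + φ²) ∈ M` -/
lemma InP_eta (h2 : (2 : F) = 0) (hHM : H0 2 F₀ ≤ M) {φ : F} (hX : InP M (φ ^ 2) 0 φ) :
    InP M 0 0 (φ + φ ^ 2) := by
  have hX' : InP M 0 (φ ^ 2) φ := InP_swap hHM hX
  have hZ : InP M (φ ^ 2) (φ ^ 2) 0 := by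
    have := InP_add hX hX'
    rwa [add_zero, zero_add, add_self2 h2] at this
  have hsZ : InP M 0 (φ ^ 2) (φ ^ 2) := by
    have := InP_shear h2 hHM hZ
    rwa [add_self2 h2, add_zero] at this
  have hY : InP M (φ ^ 2) 0 (φ ^ 2) := by
    have := InP_add hZ hsZ
    rwa [add_zero, add_self2 h2, zero_add] at this
  have := InP_add hX hY
  rwa [add_self2 h2, add_zero] at this

/-- `t_{e₂+φe₁}(1) ∈ M ⟺ X(φ) ∈ M` -/
lemma InP_of_tvc (h2 : (2 : F) = 0) (hHM : H0 2 F₀ ≤ M) {φ : F}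
    (h : tvc ((ee 1 : Fin 2 ⊕ Fin 2 → F) + φ • (ee 0 : Fin 2 ⊕ Fin 2 → F)) 1 ∈ M) :
    InP M (φ ^ 2) 0 φ := by
  rw [tvc_lin] at h
  have h1 : InP M 0 1 0 := InP_rat hHM F₀.zero_mem F₀.one_mem F₀.zero_mem
  have := InP_add (M := M) h h1
  rwa [add_zero, add_zero, add_self2 h2] at this

lemma tvc_of_InP (hHM : H0 2 F₀ ≤ M) {φ : F} (h : InP M (φ ^ 2) 0 φ) :
    tvc ((ee 1 : Fin 2 ⊕ Fin 2 → F) + φ • (ee 0 : Fin 2 ⊕ Fin 2 → F)) 1 ∈ M := by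
  rw [tvc_lin]
  have h1 : InP M 0 1 0 := InP_rat hHM F₀.zero_mem F₀.one_mem F₀.zero_mem
  have := InP_add h h1
  rwa [add_zero, add_zero, zero_add] at this

/-- `S_{e₁,e₂}(η) ∈ M ⟹ t_{e₂+ηe₁}(1) ∈ M` -/
lemma tvc_of_eta (hHM : H0 2 F₀ ≤ M) {η : F} (hS : InP M 0 0 η) :
    tvc ((ee 1 : Fin 2 ⊕ Fin 2 → F) + η • (ee 0 : Fin 2 ⊕ Fin 2 → F)) 1 ∈ M := by
  -- conjugate `t_{f₂}(1)` by `S`
  have hS' : Ug (ee 0 : Fin 2 ⊕ Fin 2 → F) (ee 1) 0 0 η ∈ M := hS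
  have hf : tvc (ff 1 : Fin 2 ⊕ Fin 2 → F) 1 ∈ M := hHM (tvc_mem_H0 (ratV_ff 1) F₀.one_mem)
  have h1 : tvc (mv (Ug (ee 0 : Fin 2 ⊕ Fin 2 → F) (ee 1) 0 0 η) (ff 1)) 1 ∈ M := by
    unfold mv
    rw [← conj_tvc (Ug_mem_sp _ _ _ _ _)]
    exact M.mul_mem (M.mul_mem hS' hf) (M.inv_mem hS')
  have hmv : mv (Ug (ee 0 : Fin 2 ⊕ Fin 2 → F) (ee 1) 0 0 η) (ff 1)
      = (ff 1 : Fin 2 ⊕ Fin 2 → F) + η • (ee 0 : Fin 2 ⊕ Fin 2 → F) := by
    rw [Ug_mv e01, B_ff_ee, B_ff_ee]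
    simp
  rw [hmv] at h1
  -- move `f₂` to `e₂`
  have horth : sympForm 2 F (ee 0 : Fin 2 ⊕ Fin 2 → F) (ff 1) = 0 := by
    rw [B_ee_ff]; simp
  obtain ⟨h, hh, h0, h1'⟩ := exists_Rg_map_pair F₀ (i := (0 : Fin 2)) (j := 1) (by decide)
    (ratV_ee (0 : Fin 2)) (ratV_ff (1 : Fin 2)) horth ind_e0_f1
  have hhM : h ∈ M := hHM (Rg_le_H0 F₀ hh)
  have hmv2 : mv h⁻¹ ((ff 1 : Fin 2 ⊕ Fin 2 → F) + η • (ee 0 : Fin 2 ⊕ Fin 2 → F))
      = (ee 1 : Fin 2 ⊕ Fin 2 → F) + η • (ee 0 : Fin 2 ⊕ Fin 2 → F) := by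
    have e : mv h ((ee 1 : Fin 2 ⊕ Fin 2 → F) + η • (ee 0 : Fin 2 ⊕ Fin 2 → F))
        = (ff 1 : Fin 2 ⊕ Fin 2 → F) + η • (ee 0 : Fin 2 ⊕ Fin 2 → F) := by
      rw [mv_add, mv_smul, h0, h1']
    rw [← e, mv_inv_mv]
  rw [← hmv2]
  unfold mv
  rw [← conj_tvc ((spGL 2 F).inv_mem hh.1), inv_inv]
  exact M.mul_mem (M.mul_mem (M.inv_mem hhM) h1) hhM

/-- `X(φ) ∈ M ⟹ t_{e₁}((φ+φ²)²) ∈ M` -/
lemma tvc_e0_of_InP (h2 : (2 : F) = 0) (hHM : H0 2 F₀ ≤ M) {φ : F} (hX : InP M (φ ^ 2) 0 φ) :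
    tvc (ee 0 : Fin 2 ⊕ Fin 2 → F) ((φ + φ ^ 2) ^ 2) ∈ M := by
  have hS := InP_eta h2 hHM hX
  have hXη := InP_of_tvc h2 hHM (tvc_of_eta hHM hS)
  have := InP_add hXη hS
  rw [add_zero, add_zero, add_self2 h2] at this
  have e : Ug (ee 0 : Fin 2 ⊕ Fin 2 → F) (ee 1) ((φ + φ ^ 2) ^ 2) 0 0
      = tvc (ee 0 : Fin 2 ⊕ Fin 2 → F) ((φ + φ ^ 2) ^ 2) := by
    unfold Ug
    rw [tvc_zero, Sab_zero, mul_one, mul_one]
  rw [← e]
  exact this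


lemma ff_ne_zero' (i : Fin 2) : (ff i : Fin 2 ⊕ Fin 2 → F) ≠ 0 := by
  intro h
  have := congrFun h (Sum.inr i)
  simp [ff] at this

/-- the eigenvector trick for `F₀ = F_2` -/
lemma dag_of_cube (h2 : (2 : F) = 0) (hHM : H0 2 F₀ ≤ M) {φ : F} (hφ : φ ∉ F₀)
    (h1 : φ + φ ^ 2 = 1)
    (h' : tvc ((ee 1 : Fin 2 ⊕ Fin 2 → F) + φ • (ee 0 : Fin 2 ⊕ Fin 2 → F)) 1 ∈ M) : Dag F₀ M := by
  have hφ2 : φ ^ 2 = 1 + φ := by linear_combination h1 - φ * h2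
  have hφ3 : φ ^ 3 = 1 := by linear_combination φ * hφ2 + h1
  set p : Fin 2 ⊕ Fin 2 → F := (ee 1 : Fin 2 ⊕ Fin 2 → F) + φ • (ee 0 : Fin 2 ⊕ Fin 2 → F) with hp
  -- the rational element `k` with `k p = φ² p`
  have horth : sympForm 2 F (ee 1 : Fin 2 ⊕ Fin 2 → F) ((ee 0 : Fin 2 ⊕ Fin 2 → F) + ee 1) = 0 := by
    rw [sympForm_add_right, sympForm_self, B_ee_ee, add_zero]
  obtain ⟨k, hk, k0, k1⟩ := exists_Rg_map_pair F₀ (i := (0 : Fin 2)) (j := 1) (by decide)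
    (ratV_ee (1 : Fin 2)) (ratV_add (ratV_ee (0 : Fin 2)) (ratV_ee (1 : Fin 2))) horth ind_e1_e01
  have hkM : k ∈ M := hHM (Rg_le_H0 F₀ hk)
  have hkp : mv k p = (φ ^ 2) • p := by
    rw [hp, mv_add, mv_smul, k0, k1, smul_add, smul_smul]
    have e : φ ^ 2 * φ = 1 := by rw [← pow_succ]; exact hφ3
    rw [e, hφ2]
    module
  have htp : tvc p φ ∈ M := by
    have e : tvc p φ = k * tvc p 1 * k⁻¹ := by
      rw [conj_tvc hk.1]
      change _ = tvc (mv k p) 1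
      rw [hkp, tvc_smul]
      congr 1
      linear_combination (-φ) * hφ3
    rw [e]
    exact M.mul_mem (M.mul_mem hkM h') (M.inv_mem hkM)
  -- move `p` to `f₂`
  have hf : tvc (ff 1 : Fin 2 ⊕ Fin 2 → F) 1 ∈ M := hHM (tvc_mem_H0 (ratV_ff 1) F₀.one_mem)
  set g : GL (Fin 2 ⊕ Fin 2) F := tvc p 1 * tvc (ff 1 : Fin 2 ⊕ Fin 2 → F) 1 with hg
  have hgM : g ∈ M := M.mul_mem h' hf
  have hgS : g ∈ spGL 2 F := (spGL 2 F).mul_mem (tvc_mem _ _) (tvc_mem _ _)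
  have hpf : sympForm 2 F p (ff 1) = -1 := by
    rw [hp, sympForm_add_left, sympForm_smul_left, B_ee_ff, B_ee_ff]
    simp
  have hfp : sympForm 2 F (ff 1) p = 1 := by
    rw [sympForm_swap, hpf, neg_neg]
  have hgp : mv g p = -(ff 1 : Fin 2 ⊕ Fin 2 → F) := by
    have e1 : mv (tvc (ff 1 : Fin 2 ⊕ Fin 2 → F) 1) p = p + (-1 : F) • (ff 1 : Fin 2 ⊕ Fin 2 → F) := by
      rw [tvc_mv, hpf, mul_neg, mul_one]
    rw [hg, mv_mul, e1, tvc_mv, sympForm_add_left, sympForm_smul_left, sympForm_self, hfp]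
    module
  refine ⟨ff 1, ratV_ff 1, ff_ne_zero' 1, φ, hφ, ?_⟩
  have e : tvc (ff 1 : Fin 2 ⊕ Fin 2 → F) φ = g * tvc p φ * g⁻¹ := by
    rw [conj_tvc hgS]
    change _ = tvc (mv g p) φ
    rw [hgp, tvc_neg_vec]
  rw [e]
  exact M.mul_mem (M.mul_mem hgM htp) (M.inv_mem hgM)

/-- **SF-D** (helper18's S5789 market). -/
theorem dag_of_phi [Fintype F] (h2 : (2 : F) = 0) (F₀ : Subfield F)
    {M : Subgroup (GL (Fin 2 ⊕ Fin 2) F)} (hHM : H0 2 F₀ ≤ M) (hMS : M ≤ spGL 2 F)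
    {b : Fin 2 ⊕ Fin 2 → F} {φ : F} (hb : RatV F₀ b) (hb0 : sympForm 2 F b (ee 0) = 0)
    (hbi : ∀ s : F, b ≠ s • (ee 0 : Fin 2 ⊕ Fin 2 → F)) (hφ : φ ∉ F₀)
    (h : tvc (b + φ • (ee 0 : Fin 2 ⊕ Fin 2 → F)) 1 ∈ M) : Dag F₀ M := by
  -- WLOG `b = e₂`
  have horth : sympForm 2 F (ee 0 : Fin 2 ⊕ Fin 2 → F) b = 0 := by
    rw [sympForm_swap, hb0, neg_zero]
  have hind : ∀ s t : F, s • (ee 0 : Fin 2 ⊕ Fin 2 → F) + t • b = 0 → s = 0 ∧ t = 0 := by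
    intro s t hst
    by_cases ht : t = 0
    · subst ht
      rw [zero_smul, add_zero] at hst
      have := congrFun hst (Sum.inl 0)
      simp [ee] at this
      exact ⟨this, rfl⟩
    · exfalso
      apply hbi (-(t⁻¹ * s))
      have e : t • b = -(s • (ee 0 : Fin 2 ⊕ Fin 2 → F)) := eq_neg_of_add_eq_zero_right hst
      calc b = t⁻¹ • (t • b) := by rw [smul_smul, inv_mul_cancel₀ ht, one_smul]
        _ = (-(t⁻¹ * s)) • (ee 0 : Fin 2 ⊕ Fin 2 → F) := by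
          rw [e, smul_neg, smul_smul, neg_smul]
  obtain ⟨g, hg, g0, g1⟩ := exists_Rg_map_pair F₀ (i := (0 : Fin 2)) (j := 1) (by decide)
    (ratV_ee (0 : Fin 2)) hb horth hind
  have hgM : g ∈ M := hHM (Rg_le_H0 F₀ hg)
  have h' : tvc ((ee 1 : Fin 2 ⊕ Fin 2 → F) + φ • (ee 0 : Fin 2 ⊕ Fin 2 → F)) 1 ∈ M := by
    have e : mv g ((ee 1 : Fin 2 ⊕ Fin 2 → F) + φ • (ee 0 : Fin 2 ⊕ Fin 2 → F))
        = b + φ • (ee 0 : Fin 2 ⊕ Fin 2 → F) := by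
      rw [mv_add, mv_smul, g0, g1]
    have e2 : mv g⁻¹ (b + φ • (ee 0 : Fin 2 ⊕ Fin 2 → F))
        = (ee 1 : Fin 2 ⊕ Fin 2 → F) + φ • (ee 0 : Fin 2 ⊕ Fin 2 → F) := by
      rw [← e, mv_inv_mv]
    rw [← e2]
    unfold mv
    rw [← conj_tvc ((spGL 2 F).inv_mem hg.1), inv_inv]
    exact M.mul_mem (M.mul_mem (M.inv_mem hgM) h) hgM
  have hX : InP M (φ ^ 2) 0 φ := InP_of_tvc h2 hHM h'
  by_contra hnd
  have hΦ : ∀ ψ : F, InP M (ψ ^ 2) 0 ψ → ψ + ψ ^ 2 ∈ F₀ := by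
    intro ψ hψ
    have ht := tvc_e0_of_InP h2 hHM hψ
    apply mem_of_sq_mem h2 F₀
    by_contra hc
    exact hnd ⟨ee 0, ratV_ee 0, ee_ne_zero 0, _, hc, ht⟩
  have h1 := hΦ φ hX
  by_cases hc : ∃ c ∈ F₀, c ≠ 0 ∧ c ≠ 1
  · obtain ⟨c, hc, hc0, hc1⟩ := hc
    have hXc : InP M ((c * φ) ^ 2) 0 (c * φ) := by
      have := InP_scale hHM hc hc0 hX
      rwa [← mul_pow] at this
    have h2' := hΦ (c * φ) hXc
    apply hφ
    have hcc : c * (c - 1) ≠ 0 := mul_ne_zero hc0 (sub_ne_zero.mpr hc1)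
    have e : φ = (c * (c - 1))⁻¹ * (c ^ 2 * (φ + φ ^ 2) - (c * φ + (c * φ) ^ 2)) := by
      field_simp
      ring
    rw [e]
    exact F₀.mul_mem (F₀.inv_mem (F₀.mul_mem hc (F₀.sub_mem hc F₀.one_mem)))
      (F₀.sub_mem (F₀.mul_mem (pow_mem hc 2) h1) h2')
  · push Not at hc
    by_cases h0 : φ + φ ^ 2 = 0
    · have e : φ * (1 + φ) = 0 := by rw [← h0]; ring
      rcases mul_eq_zero.mp e with h | h
      · exact hφ (h ▸ F₀.zero_mem)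
      · have e' : φ = -1 := by linear_combination h
        exact hφ (e' ▸ F₀.neg_mem F₀.one_mem)
    · have h1' : φ + φ ^ 2 = 1 := hc _ h1 h0
      exact hnd (dag_of_cube h2 hHM hφ h1' h')

end main

end Cfsg.Agent.Lib.Helper9.Sp4ELeaf
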