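/-
Helper9 library: Frobenius-like semidirect products `V ⋊ H`, the binary octahedral group inside
`SL₂(𝔽₁₆₉)`, the spectrum of `PSL₃(3)`, and a solvable group isospectral to `PSL₃(3)`.
-/
import Mathlib
import Cfsg.Agent.Lib.Lead.CharBurnside

set_option autoImplicit false
set_option linter.unusedSectionVars false
set_option linter.style.haveILetI false

namespace Cfsg.Agent.Lib.Helper9.FrobSpec

/-- the semidirect product of an additive group by a group acting on it. -/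
@[ext] structure SDP (V H : Type*) [AddCommGroup V] [Group H] [DistribMulAction H V] where
  v : V
  h : H

namespace SDP

variable {V H : Type*} [AddCommGroup V] [Group H] [DistribMulAction H V]

instance : Mul (SDP V H) := ⟨fun a b => ⟨a.v + a.h • b.v, a.h * b.h⟩⟩
instance : One (SDP V H) := ⟨⟨0, 1⟩⟩
instance : Inv (SDP V H) := ⟨fun a => ⟨-(a.h⁻¹ • a.v), a.h⁻¹⟩⟩

@[simp] theorem mul_v (a b : SDP V H) : (a * b).v = a.v + a.h • b.v := rfl
@[simp] theorem mul_h (a b : SDP V H) : (a * b).h = a.h * b.h := rfl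
@[simp] theorem one_v : (1 : SDP V H).v = 0 := rfl
@[simp] theorem one_h : (1 : SDP V H).h = 1 := rfl
@[simp] theorem inv_v (a : SDP V H) : (a⁻¹).v = -(a.h⁻¹ • a.v) := rfl
@[simp] theorem inv_h (a : SDP V H) : (a⁻¹).h = a.h⁻¹ := rfl

instance : Group (SDP V H) where
  mul_assoc a b c := by
    ext
    · simp [smul_add, mul_smul, add_assoc]
    · simp [mul_assoc]
  one_mul a := by ext <;> simp
  mul_one a := by ext <;> simp
  inv_mul_cancel a := by ext <;> simp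

/-- projection to the acting group. -/
def snd : SDP V H →* H where
  toFun a := a.h
  map_one' := rfl
  map_mul' _ _ := rfl

/-- the acting group inside the semidirect product. -/
def inr : H →* SDP V H where
  toFun h := ⟨0, h⟩
  map_one' := rfl
  map_mul' _ _ := by ext <;> simp

theorem inr_injective : Function.Injective (inr : H →* SDP V H) := by
  intro a b h
  exact congrArg SDP.h h

theorem trans_pow (w : V) (k : ℕ) : (⟨w, 1⟩ : SDP V H) ^ k = ⟨k • w, 1⟩ := by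
  induction k with
  | zero => ext <;> simp
  | succ k ih =>
    rw [pow_succ, ih]
    ext
    · simp [add_smul]
    · simp

theorem conj_trans (w : V) (a : SDP V H) :
    (⟨w, 1⟩ : SDP V H) * a * (⟨w, 1⟩ : SDP V H)⁻¹ = ⟨a.v + w - a.h • w, a.h⟩ := by
  ext
  · simp only [mul_v, mul_h, inv_v, one_smul, inv_one, one_mul, smul_neg]
    abel
  · simp

theorem orderOf_of_fpf (a : SDP V H) (w : V) (hw : w - a.h • w = -a.v) :
    orderOf a = orderOf a.h := by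
  have h1 : (⟨w, 1⟩ : SDP V H) * a * (⟨w, 1⟩ : SDP V H)⁻¹ = inr a.h := by
    rw [conj_trans]
    ext
    · show a.v + w - a.h • w = 0
      rw [add_sub_assoc, hw, add_neg_cancel]
    · rfl
  rw [← orderOf_injective (inr : H →* SDP V H) inr_injective a.h]
  show orderOf a = orderOf ((inr : H →* SDP V H) a.h)
  rw [← h1]
  exact (MulEquiv.orderOf_eq (MulAut.conj (⟨w, 1⟩ : SDP V H)) a).symm

instance [Finite V] [Finite H] : Finite (SDP V H) :=
  Finite.of_injective (fun a : SDP V H => (a.v, a.h)) (by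
    intro a b hab
    simp only [Prod.mk.injEq] at hab
    exact SDP.ext hab.1 hab.2)

instance [hH : Group.IsSolvable H] : Group.IsSolvable (SDP V H) := by
  haveI : Group.IsSolvable (snd : SDP V H →* H).ker := by
    apply Group.isSolvable_of_comm
    rintro ⟨x, hx⟩ ⟨y, hy⟩
    have hx' : x.h = 1 := hx
    have hy' : y.h = 1 := hy
    apply Subtype.ext
    ext
    · simp [hx', hy', add_comm]
    · simp [hx', hy']
  exact Group.isSolvable_of_ker_le_range (snd : SDP V H →* H).ker.subtype (snd : SDP V H →* H)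
    (by simp)

/-- the spectrum of a Frobenius-like semidirect product. -/
theorem range_orderOf (p : ℕ) [Fact p.Prime] (hexp : ∀ w : V, p • w = 0) [Nontrivial V]
    (hfpf : ∀ h : H, h ≠ 1 → ∀ u : V, ∃ w : V, w - h • w = u) :
    Set.range (orderOf : SDP V H → ℕ) = {1, p} ∪ Set.range (orderOf : H → ℕ) := by
  have hp : p.Prime := Fact.out
  ext k
  constructor
  · rintro ⟨a, rfl⟩
    by_cases ha : a.h = 1
    · left
      have h1 : a = ⟨a.v, 1⟩ := by ext <;> simp [ha]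
      have h2 : a ^ p = 1 := by
        rw [h1, trans_pow, hexp]
        rfl
      rcases (Nat.dvd_prime hp).mp (orderOf_dvd_of_pow_eq_one h2) with h | h
      · left; exact h
      · right; exact h
    · right
      obtain ⟨w, hw⟩ := hfpf a.h ha (-a.v)
      exact ⟨a.h, (orderOf_of_fpf a w hw).symm⟩
  · rintro (hk | ⟨h, rfl⟩)
    · rcases hk with rfl | hk
      · exact ⟨1, orderOf_one⟩
      · rw [Set.mem_singleton_iff] at hk
        subst hk
        obtain ⟨w, hw⟩ := exists_ne (0 : V)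
        refine ⟨⟨w, 1⟩, ?_⟩
        apply orderOf_eq_prime
        · rw [trans_pow, hexp]; rfl
        · intro h
          exact hw (congrArg SDP.v h)
    · exact ⟨(inr : H →* SDP V H) h, orderOf_injective (inr : H →* SDP V H) inr_injective h⟩

end SDP


section BinOct

/-- the field with 169 elements, as `𝔽₁₃[√2]`. -/
abbrev K13 : Type := QuadraticAlgebra (ZMod 13) 2 0

instance fact13p : Fact (Nat.Prime 13) := ⟨by norm_num⟩

instance fact13 : Fact (∀ r : ZMod 13, r ^ 2 ≠ (2 : ZMod 13) + 0 * r) := ⟨by decide⟩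

instance : Finite K13 := Finite.of_equiv _ (QuadraticAlgebra.equivProd (2 : ZMod 13) 0).symm

/-- 2 × 2 matrices. -/
abbrev M2 : Type := Matrix (Fin 2) (Fin 2) K13

/-- the 48 elements of the binary octahedral group. -/
def L48 : List M2 := [
  !![⟨0, 0⟩, ⟨0, 2⟩; ⟨0, 3⟩, ⟨0, 0⟩],
  !![⟨0, 0⟩, ⟨0, 3⟩; ⟨0, 2⟩, ⟨0, 0⟩],
  !![⟨0, 0⟩, ⟨0, 10⟩; ⟨0, 11⟩, ⟨0, 0⟩],
  !![⟨0, 0⟩, ⟨0, 11⟩; ⟨0, 10⟩, ⟨0, 0⟩],
  !![⟨0, 0⟩, ⟨1, 0⟩; ⟨12, 0⟩, ⟨0, 0⟩],
  !![⟨0, 0⟩, ⟨5, 0⟩; ⟨5, 0⟩, ⟨0, 0⟩],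
  !![⟨0, 0⟩, ⟨8, 0⟩; ⟨8, 0⟩, ⟨0, 0⟩],
  !![⟨0, 0⟩, ⟨12, 0⟩; ⟨1, 0⟩, ⟨0, 0⟩],
  !![⟨0, 2⟩, ⟨0, 0⟩; ⟨0, 0⟩, ⟨0, 10⟩],
  !![⟨0, 3⟩, ⟨0, 0⟩; ⟨0, 0⟩, ⟨0, 11⟩],
  !![⟨0, 4⟩, ⟨0, 4⟩; ⟨0, 4⟩, ⟨0, 9⟩],
  !![⟨0, 4⟩, ⟨0, 6⟩; ⟨0, 7⟩, ⟨0, 9⟩],
  !![⟨0, 4⟩, ⟨0, 7⟩; ⟨0, 6⟩, ⟨0, 9⟩],
  !![⟨0, 4⟩, ⟨0, 9⟩; ⟨0, 9⟩, ⟨0, 9⟩],
  !![⟨0, 6⟩, ⟨0, 4⟩; ⟨0, 4⟩, ⟨0, 6⟩],
  !![⟨0, 6⟩, ⟨0, 6⟩; ⟨0, 7⟩, ⟨0, 6⟩],
  !![⟨0, 6⟩, ⟨0, 7⟩; ⟨0, 6⟩, ⟨0, 6⟩],
  !![⟨0, 6⟩, ⟨0, 9⟩; ⟨0, 9⟩, ⟨0, 6⟩],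
  !![⟨0, 7⟩, ⟨0, 4⟩; ⟨0, 4⟩, ⟨0, 7⟩],
  !![⟨0, 7⟩, ⟨0, 6⟩; ⟨0, 7⟩, ⟨0, 7⟩],
  !![⟨0, 7⟩, ⟨0, 7⟩; ⟨0, 6⟩, ⟨0, 7⟩],
  !![⟨0, 7⟩, ⟨0, 9⟩; ⟨0, 9⟩, ⟨0, 7⟩],
  !![⟨0, 9⟩, ⟨0, 4⟩; ⟨0, 4⟩, ⟨0, 4⟩],
  !![⟨0, 9⟩, ⟨0, 6⟩; ⟨0, 7⟩, ⟨0, 4⟩],
  !![⟨0, 9⟩, ⟨0, 7⟩; ⟨0, 6⟩, ⟨0, 4⟩],
  !![⟨0, 9⟩, ⟨0, 9⟩; ⟨0, 9⟩, ⟨0, 4⟩],
  !![⟨0, 10⟩, ⟨0, 0⟩; ⟨0, 0⟩, ⟨0, 2⟩],
  !![⟨0, 11⟩, ⟨0, 0⟩; ⟨0, 0⟩, ⟨0, 3⟩],
  !![⟨1, 0⟩, ⟨0, 0⟩; ⟨0, 0⟩, ⟨1, 0⟩],
  !![⟨2, 0⟩, ⟨2, 0⟩; ⟨3, 0⟩, ⟨10, 0⟩],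
  !![⟨2, 0⟩, ⟨3, 0⟩; ⟨2, 0⟩, ⟨10, 0⟩],
  !![⟨2, 0⟩, ⟨10, 0⟩; ⟨11, 0⟩, ⟨10, 0⟩],
  !![⟨2, 0⟩, ⟨11, 0⟩; ⟨10, 0⟩, ⟨10, 0⟩],
  !![⟨3, 0⟩, ⟨2, 0⟩; ⟨3, 0⟩, ⟨11, 0⟩],
  !![⟨3, 0⟩, ⟨3, 0⟩; ⟨2, 0⟩, ⟨11, 0⟩],
  !![⟨3, 0⟩, ⟨10, 0⟩; ⟨11, 0⟩, ⟨11, 0⟩],
  !![⟨3, 0⟩, ⟨11, 0⟩; ⟨10, 0⟩, ⟨11, 0⟩],
  !![⟨5, 0⟩, ⟨0, 0⟩; ⟨0, 0⟩, ⟨8, 0⟩],
  !![⟨8, 0⟩, ⟨0, 0⟩; ⟨0, 0⟩, ⟨5, 0⟩],
  !![⟨10, 0⟩, ⟨2, 0⟩; ⟨3, 0⟩, ⟨2, 0⟩],
  !![⟨10, 0⟩, ⟨3, 0⟩; ⟨2, 0⟩, ⟨2, 0⟩],
  !![⟨10, 0⟩, ⟨10, 0⟩; ⟨11, 0⟩, ⟨2, 0⟩],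
  !![⟨10, 0⟩, ⟨11, 0⟩; ⟨10, 0⟩, ⟨2, 0⟩],
  !![⟨11, 0⟩, ⟨2, 0⟩; ⟨3, 0⟩, ⟨3, 0⟩],
  !![⟨11, 0⟩, ⟨3, 0⟩; ⟨2, 0⟩, ⟨3, 0⟩],
  !![⟨11, 0⟩, ⟨10, 0⟩; ⟨11, 0⟩, ⟨3, 0⟩],
  !![⟨11, 0⟩, ⟨11, 0⟩; ⟨10, 0⟩, ⟨3, 0⟩],
  !![⟨12, 0⟩, ⟨0, 0⟩; ⟨0, 0⟩, ⟨12, 0⟩]
]

/-- generator of order 3. -/
def gOm : M2 := !![⟨2, 0⟩, ⟨3, 0⟩; ⟨2, 0⟩, ⟨10, 0⟩]
/-- generator of order 8. -/
def gTau : M2 := !![⟨0, 3⟩, ⟨0, 0⟩; ⟨0, 0⟩, ⟨0, 11⟩]
/-- inverse of `gOm`. -/
def gOmInv : M2 := !![⟨10, 0⟩, ⟨10, 0⟩; ⟨11, 0⟩, ⟨2, 0⟩]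
/-- inverse of `gTau`. -/
def gTauInv : M2 := !![⟨0, 11⟩, ⟨0, 0⟩; ⟨0, 0⟩, ⟨0, 3⟩]

set_option maxRecDepth 100000 in
theorem closed_om : ∀ ℓ ∈ L48, ℓ * gOm ∈ L48 := by decide +kernel

set_option maxRecDepth 100000 in
theorem closed_tau : ∀ ℓ ∈ L48, ℓ * gTau ∈ L48 := by decide +kernel

set_option maxRecDepth 100000 in
theorem closed_omInv : ∀ ℓ ∈ L48, ℓ * gOmInv ∈ L48 := by decide +kernel

set_option maxRecDepth 100000 in
theorem closed_tauInv : ∀ ℓ ∈ L48, ℓ * gTauInv ∈ L48 := by decide +kernel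

set_option maxRecDepth 100000 in
theorem pow_L48 : ∀ ℓ ∈ L48, ℓ ^ 8 = 1 ∨ ℓ ^ 6 = 1 := by decide +kernel

set_option maxRecDepth 100000 in
theorem det_L48 : ∀ ℓ ∈ L48, ℓ = 1 ∨ (1 - ℓ).det ≠ 0 := by decide +kernel

set_option maxRecDepth 100000 in
theorem one_mem_L48 : (1 : M2) ∈ L48 := by decide +kernel

theorem det_gOm : gOm.det = 1 := by decide +kernel
theorem det_gTau : gTau.det = 1 := by decide +kernel
theorem det_gOmInv : gOmInv.det = 1 := by decide +kernel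
theorem det_gTauInv : gTauInv.det = 1 := by decide +kernel
theorem gOm_mul_inv : gOm * gOmInv = 1 := by decide +kernel
theorem gTau_mul_inv : gTau * gTauInv = 1 := by decide +kernel
theorem gTau_pow8 : gTau ^ 8 = 1 := by decide +kernel
theorem gTau_pow4 : gTau ^ 4 ≠ 1 := by decide +kernel
theorem z6_pow6 : (gTau ^ 4 * gOm) ^ 6 = 1 := by decide +kernel
theorem z6_pow3 : (gTau ^ 4 * gOm) ^ 3 ≠ 1 := by decide +kernel
theorem z6_pow2 : (gTau ^ 4 * gOm) ^ 2 ≠ 1 := by decide +kernel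

/-- the generators in `SL₂`. -/
def om : Matrix.SpecialLinearGroup (Fin 2) K13 := ⟨gOm, det_gOm⟩
/-- the generators in `SL₂`. -/
def tau : Matrix.SpecialLinearGroup (Fin 2) K13 := ⟨gTau, det_gTau⟩

theorem om_inv : om⁻¹ = ⟨gOmInv, det_gOmInv⟩ := by
  apply inv_eq_of_mul_eq_one_right
  apply Subtype.ext
  exact gOm_mul_inv

theorem tau_inv : tau⁻¹ = ⟨gTauInv, det_gTauInv⟩ := by
  apply inv_eq_of_mul_eq_one_right
  apply Subtype.ext
  exact gTau_mul_inv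

/-- the binary octahedral group. -/
def H2O : Subgroup (Matrix.SpecialLinearGroup (Fin 2) K13) := Subgroup.closure {om, tau}

theorem coe_mem_L48 (h : Matrix.SpecialLinearGroup (Fin 2) K13) (hh : h ∈ H2O) :
    (h : M2) ∈ L48 := by
  refine Subgroup.closure_induction_right
    (p := fun (x : Matrix.SpecialLinearGroup (Fin 2) K13) _ => (x : M2) ∈ L48) ?_ ?_ ?_ hh
  · exact one_mem_L48
  · intro x _ y hy ih
    rw [Matrix.SpecialLinearGroup.coe_mul]
    rcases hy with rfl | rfl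
    · exact closed_om _ ih
    · exact closed_tau _ ih
  · intro x _ y hy ih
    rw [Matrix.SpecialLinearGroup.coe_mul]
    rcases hy with rfl | rfl
    · rw [om_inv]; exact closed_omInv _ ih
    · rw [tau_inv]; exact closed_tauInv _ ih

theorem mem_range_orderOf_of_dvd {G : Type*} [Group G] (x : G) (n d : ℕ) (hx : orderOf x = n)
    (hn : n ≠ 0) (hd : d ∣ n) : d ∈ Set.range (orderOf : G → ℕ) := by
  refine ⟨x ^ (n / d), ?_⟩
  have hd0 : d ≠ 0 := fun h => hn (by rw [h] at hd; exact Nat.eq_zero_of_zero_dvd hd)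
  have h1 : n / d ≠ 0 := Nat.div_ne_zero_iff.mpr ⟨hd0, Nat.le_of_dvd (Nat.pos_of_ne_zero hn) hd⟩
  rw [orderOf_pow_of_dvd h1 (hx.symm ▸ Nat.div_dvd_of_dvd hd), hx, Nat.div_div_self hd hn]

theorem pow_cases (h : H2O) : h ^ 8 = 1 ∨ h ^ 6 = 1 := by
  have hm := coe_mem_L48 h.1 h.2
  rcases pow_L48 _ hm with h8 | h6
  · left
    apply Subtype.ext
    apply Subtype.ext
    rw [Subgroup.coe_pow, Matrix.SpecialLinearGroup.coe_pow]
    exact h8
  · right
    apply Subtype.ext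
    apply Subtype.ext
    rw [Subgroup.coe_pow, Matrix.SpecialLinearGroup.coe_pow]
    exact h6

theorem orderOf_mem (h : H2O) : orderOf h ∈ ({1, 2, 3, 4, 6, 8} : Set ℕ) := by
  rcases pow_cases h with h8 | h6
  · have hd := orderOf_dvd_of_pow_eq_one h8
    have hle := Nat.le_of_dvd (by norm_num) hd
    have hpos := orderOf_pos_iff.mpr (isOfFinOrder_iff_pow_eq_one.mpr ⟨8, by norm_num, h8⟩)
    interval_cases (orderOf h) <;> simp_all
  · have hd := orderOf_dvd_of_pow_eq_one h6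
    have hle := Nat.le_of_dvd (by norm_num) hd
    have hpos := orderOf_pos_iff.mpr (isOfFinOrder_iff_pow_eq_one.mpr ⟨6, by norm_num, h6⟩)
    interval_cases (orderOf h) <;> simp_all

/-- `tau` as an element of the group. -/
def tauH : H2O := ⟨tau, Subgroup.subset_closure (by simp)⟩
/-- `om` as an element of the group. -/
def omH : H2O := ⟨om, Subgroup.subset_closure (by simp)⟩

theorem orderOf_tauH : orderOf tauH = 8 := by
  have h := orderOf_eq_prime_pow (x := tauH) (p := 2) (n := 2) ?_ ?_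
  · exact h
  · intro h
    apply gTau_pow4
    have h2 := congrArg (fun x : H2O => ((x : Matrix.SpecialLinearGroup (Fin 2) K13) : M2)) h
    simp only [Subgroup.coe_pow, Matrix.SpecialLinearGroup.coe_pow] at h2
    exact h2
  · apply Subtype.ext
    apply Subtype.ext
    rw [Subgroup.coe_pow, Matrix.SpecialLinearGroup.coe_pow]
    exact gTau_pow8

theorem orderOf_z6 : orderOf (tauH ^ 4 * omH) = 6 := by
  have hcoe : ∀ k : ℕ, ((((tauH ^ 4 * omH) ^ k : H2O) : Matrix.SpecialLinearGroup (Fin 2) K13) : M2)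
      = (gTau ^ 4 * gOm) ^ k := by
    intro k
    rw [Subgroup.coe_pow, Matrix.SpecialLinearGroup.coe_pow, Subgroup.coe_mul,
      Matrix.SpecialLinearGroup.coe_mul, Subgroup.coe_pow, Matrix.SpecialLinearGroup.coe_pow]
    rfl
  apply orderOf_eq_of_pow_and_pow_div_prime (by norm_num)
  · apply Subtype.ext
    apply Subtype.ext
    rw [hcoe]
    exact z6_pow6
  · intro p hp hpd
    have hp6 : p ∣ 6 := hpd
    have hle := Nat.le_of_dvd (by norm_num) hp6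
    interval_cases p
    · exact absurd hp (by norm_num)
    · exact absurd hp (by norm_num)
    · intro h
      apply z6_pow3
      rw [← hcoe]
      rw [show (6 / 2 : ℕ) = 3 from rfl] at h
      rw [h]; rfl
    · intro h
      apply z6_pow2
      rw [← hcoe]
      rw [show (6 / 3 : ℕ) = 2 from rfl] at h
      rw [h]; rfl
    · exact absurd hp6 (by norm_num)
    · exact absurd hp6 (by norm_num)
    · exact absurd hp (by norm_num)

theorem range_orderOf_H2O : Set.range (orderOf : H2O → ℕ) = {1, 2, 3, 4, 6, 8} := by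
  apply Set.eq_of_subset_of_subset
  · rintro _ ⟨h, rfl⟩
    exact orderOf_mem h
  · intro k hk
    simp only [Set.mem_insert_iff, Set.mem_singleton_iff] at hk
    rcases hk with rfl | rfl | rfl | rfl | rfl | rfl
    · exact mem_range_orderOf_of_dvd tauH 8 1 orderOf_tauH (by norm_num) (by norm_num)
    · exact mem_range_orderOf_of_dvd tauH 8 2 orderOf_tauH (by norm_num) (by norm_num)
    · exact mem_range_orderOf_of_dvd _ 6 3 orderOf_z6 (by norm_num) (by norm_num)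
    · exact mem_range_orderOf_of_dvd tauH 8 4 orderOf_tauH (by norm_num) (by norm_num)
    · exact mem_range_orderOf_of_dvd _ 6 6 orderOf_z6 (by norm_num) (by norm_num)
    · exact mem_range_orderOf_of_dvd tauH 8 8 orderOf_tauH (by norm_num) (by norm_num)

theorem exists_pow_two_three (n : ℕ) (hn : n ≠ 0) (h : ∀ p : ℕ, p.Prime → p ∣ n → p = 2 ∨ p = 3) :
    ∃ a b : ℕ, n = 2 ^ a * 3 ^ b := by
  induction n using Nat.strong_induction_on with
  | _ n ih =>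
    by_cases h1 : n = 1
    · exact ⟨0, 0, by simp [h1]⟩
    · obtain ⟨p, hp, hpn⟩ := Nat.exists_prime_and_dvd h1
      obtain ⟨m, rfl⟩ := hpn
      have hm0 : m ≠ 0 := fun h0 => hn (by rw [h0, mul_zero])
      have hlt : m < p * m := by
        have := hp.two_le
        have hmpos := Nat.pos_of_ne_zero hm0
        nlinarith
      obtain ⟨a, b, hab⟩ := ih m hlt hm0 (fun q hq hqm => h q hq (Dvd.dvd.mul_left hqm p))
      rcases h p hp (Dvd.intro m rfl) with rfl | rfl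
      · exact ⟨a + 1, b, by rw [hab]; ring⟩
      · exact ⟨a, b + 1, by rw [hab]; ring⟩

instance : Finite H2O := inferInstance

instance isSolvable_H2O : Group.IsSolvable H2O := by
  have hne : Nat.card H2O ≠ 0 := Nat.card_pos.ne'
  obtain ⟨a, b, hab⟩ := exists_pow_two_three (Nat.card H2O) hne (by
    intro p hp hpd
    haveI : Fact p.Prime := ⟨hp⟩
    obtain ⟨x, hx⟩ := exists_prime_orderOf_dvd_card' p hpd
    have hmem := orderOf_mem x
    rw [hx] at hmem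
    simp only [Set.mem_insert_iff, Set.mem_singleton_iff] at hmem
    rcases hmem with h | h | h | h | h | h
    · exact absurd (h ▸ hp) (by norm_num)
    · exact Or.inl h
    · exact Or.inr h
    · exact absurd (h ▸ hp) (by norm_num)
    · exact absurd (h ▸ hp) (by norm_num)
    · exact absurd (h ▸ hp) (by norm_num))
  exact Cfsg.Agent.CharLib.isSolvable_of_card_pq 2 3 a b (by norm_num) (by norm_num) hab

noncomputable instance actH2O : DistribMulAction H2O (Fin 2 → K13) where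
  smul h w := ((h : Matrix.SpecialLinearGroup (Fin 2) K13) : M2).mulVec w
  one_smul w := by
    show ((1 : Matrix.SpecialLinearGroup (Fin 2) K13) : M2).mulVec w = w
    rw [Matrix.SpecialLinearGroup.coe_one, Matrix.one_mulVec]
  mul_smul a b w := by
    show (((a * b : H2O) : Matrix.SpecialLinearGroup (Fin 2) K13) : M2).mulVec w =
      ((a : Matrix.SpecialLinearGroup (Fin 2) K13) : M2).mulVec
        (((b : Matrix.SpecialLinearGroup (Fin 2) K13) : M2).mulVec w)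
    rw [Subgroup.coe_mul, Matrix.SpecialLinearGroup.coe_mul, Matrix.mulVec_mulVec]
  smul_zero a := Matrix.mulVec_zero _
  smul_add a v w := Matrix.mulVec_add _ _ _

theorem smul_def (h : H2O) (w : Fin 2 → K13) :
    h • w = ((h : Matrix.SpecialLinearGroup (Fin 2) K13) : M2).mulVec w := rfl

theorem nsmul13 (w : Fin 2 → K13) : 13 • w = 0 := by
  have h13 : ((13 : ℕ) : K13) = 0 := by decide +kernel
  funext i
  show 13 • w i = 0
  rw [nsmul_eq_mul, h13, zero_mul]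

theorem fpf_H2O (h : H2O) (hne : h ≠ 1) (u : Fin 2 → K13) : ∃ w : Fin 2 → K13, w - h • w = u := by
  set M : M2 := ((h : Matrix.SpecialLinearGroup (Fin 2) K13) : M2) with hM
  have hmem := coe_mem_L48 h.1 h.2
  have hM1 : M ≠ 1 := by
    intro h1
    apply hne
    apply Subtype.ext
    apply Subtype.ext
    rw [Subgroup.coe_one, Matrix.SpecialLinearGroup.coe_one]
    exact h1
  have hdet : (1 - M).det ≠ 0 := (det_L48 M hmem).resolve_left hM1
  have hunit : IsUnit (1 - M).det := IsUnit.mk0 _ hdet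
  refine ⟨(1 - M)⁻¹.mulVec u, ?_⟩
  rw [smul_def, ← hM]
  have : (1 - M)⁻¹.mulVec u - M.mulVec ((1 - M)⁻¹.mulVec u) = (1 - M).mulVec ((1 - M)⁻¹.mulVec u) := by
    rw [Matrix.sub_mulVec, Matrix.one_mulVec]
  rw [this, Matrix.mulVec_mulVec, Matrix.mul_nonsing_inv _ hunit, Matrix.one_mulVec]

/-- a solvable group of order dividing `13 ^ 4 * 48`. -/
abbrev G13 : Type := SDP (Fin 2 → K13) H2O

theorem range_orderOf_G13 :
    Set.range (orderOf : G13 → ℕ) = {1, 2, 3, 4, 6, 8, 13} := by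
  rw [SDP.range_orderOf 13 nsmul13 fpf_H2O, range_orderOf_H2O]
  ext k
  simp only [Set.mem_union, Set.mem_insert_iff, Set.mem_singleton_iff]
  tauto

end BinOct

section SL3

open Polynomial

/-- 3 × 3 matrices over the field with three elements. -/
abbrev M3 : Type := Matrix (Fin 3) (Fin 3) (ZMod 3)

theorem three_eq_zero_poly : (3 : (ZMod 3)[X]) = 0 := by
  have h1 : (3 : (ZMod 3)[X]) = C (3 : ZMod 3) := (C_ofNat 3).symm
  rw [h1, show (3 : ZMod 3) = 0 from by decide, C_0]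

theorem pow_eq_one_of_identity (M : M3) (P Q R : (ZMod 3)[X]) (k : ℕ) (hP : aeval M P = 0)
    (h : X ^ k - 1 = P * Q + 3 * R) : M ^ k = 1 := by
  have h2 := congrArg (aeval M) h
  rw [three_eq_zero_poly, zero_mul, add_zero, map_mul, hP, zero_mul, map_sub, map_pow, aeval_X,
    map_one] at h2
  exact sub_eq_zero.mp h2

theorem charpoly_form (M : M3) (hdet : M.det = 1) :
    M.charpoly = X ^ 3 + C (M.charpoly.coeff 2) * X ^ 2 + C (M.charpoly.coeff 1) * X - 1 := by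
  have hdeg : M.charpoly.natDegree = 3 := by
    rw [Matrix.charpoly_natDegree_eq_dim]; rfl
  have hmonic : M.charpoly.Monic := Matrix.charpoly_monic M
  have h3 : M.charpoly.coeff 3 = 1 := by
    have := hmonic.coeff_natDegree
    rwa [hdeg] at this
  have h0 : M.charpoly.coeff 0 = -1 := by
    have := Matrix.det_eq_sign_charpoly_coeff M
    rw [hdet] at this
    simp only [Fintype.card_fin] at this
    have h4 : ((-1 : ZMod 3)) ^ 3 = -1 := by decide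
    rw [h4] at this
    rw [neg_one_mul] at this
    exact (neg_eq_iff_eq_neg.mp this.symm)
  conv_lhs => rw [Polynomial.as_sum_range' M.charpoly 4 (by rw [hdeg]; norm_num)]
  simp only [Finset.sum_range_succ, Finset.sum_range_zero, zero_add, h3, h0,
    ← C_mul_X_pow_eq_monomial]
  simp only [map_neg, map_one, pow_zero, pow_one, mul_one, one_mul]
  ring

theorem neg_one_or (a : ZMod 3) : a = 0 ∨ a = 1 ∨ a = -1 := by
  revert a; decide

theorem sl3_pow_cases (M : M3) (hdet : M.det = 1) :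
    M ^ 3 = 1 ∨ M ^ 4 = 1 ∨ M ^ 6 = 1 ∨ M ^ 8 = 1 ∨ M ^ 13 = 1 := by
  have hCH : aeval M M.charpoly = 0 := Matrix.aeval_self_charpoly M
  have hform := charpoly_form M hdet
  set a := M.charpoly.coeff 2 with ha
  set b := M.charpoly.coeff 1 with hb
  rcases neg_one_or a with h | h | h <;> rcases neg_one_or b with h' | h' | h' <;>
    rw [h, h'] at hform <;> simp only [map_neg, map_one, map_zero] at hform
  · -- (0,0): k = 3
    left
    exact pow_eq_one_of_identity M _ 1 0 3 hCH (by rw [hform]; ring)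
  · -- (0,1): k = 8
    right; right; right; left
    exact pow_eq_one_of_identity M _ ((-2) + X + X ^ 2 + (-1) * X ^ 3 + X ^ 5) ((-1) + X) 8 hCH
      (by rw [hform]; ring)
  · -- (0,-1): k = 13
    right; right; right; right
    exact pow_eq_one_of_identity M _
      (7 + 5 * X + 4 * X ^ 2 + 3 * X ^ 3 + 2 * X ^ 4 + 2 * X ^ 5 + X ^ 6 + X ^ 7 + X ^ 8 + X ^ 10)
      (2 + 4 * X + 3 * X ^ 2) 13 hCH (by rw [hform]; ring)
  · -- (1,0): k = 13
    right; right; right; right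
    exact pow_eq_one_of_identity M _
      (4 + (-3) * X + X ^ 2 + X ^ 3 + (-2) * X ^ 4 + 2 * X ^ 5 + (-1) * X ^ 6 + X ^ 8 + (-1) * X ^ 9
        + X ^ 10)
      (1 + (-1) * X + (-1) * X ^ 2) 13 hCH (by rw [hform]; ring)
  · -- (1,1): k = 13
    right; right; right; right
    exact pow_eq_one_of_identity M _
      ((-20) + 7 * X + 5 * X ^ 2 + (-8) * X ^ 3 + 4 * X ^ 4 + X ^ 5 + (-3) * X ^ 6 + 2 * X ^ 7
        + (-1) * X ^ 9 + X ^ 10)
      ((-7) + 9 * X + 6 * X ^ 2) 13 hCH (by rw [hform]; ring)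
  · -- (1,-1): k = 6
    right; right; left
    exact pow_eq_one_of_identity M _ ((-2) + 2 * X + (-1) * X ^ 2 + X ^ 3) ((-1) + X ^ 2) 6 hCH
      (by rw [hform]; ring)
  · -- (-1,0): k = 8
    right; right; right; left
    exact pow_eq_one_of_identity M _ (4 + 3 * X + 2 * X ^ 2 + X ^ 3 + X ^ 4 + X ^ 5)
      (1 + X + 2 * X ^ 2) 8 hCH (by rw [hform]; ring)
  · -- (-1,1): k = 4
    right; left
    exact pow_eq_one_of_identity M _ (1 + X) 0 4 hCH (by rw [hform]; ring)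
  · -- (-1,-1): k = 13
    right; right; right; right
    exact pow_eq_one_of_identity M _
      (274 + 149 * X + 81 * X ^ 2 + 44 * X ^ 3 + 24 * X ^ 4 + 13 * X ^ 5 + 7 * X ^ 6 + 4 * X ^ 7
        + 2 * X ^ 8 + X ^ 9 + X ^ 10)
      (91 + 141 * X + 168 * X ^ 2) 13 hCH (by rw [hform]; ring)

/-- companion matrices of orders 8, 6, 13. -/
def c8 : M3 := !![0, 0, 1; 1, 0, 2; 0, 1, 0]
/-- companion matrix of order 6. -/
def c6 : M3 := !![0, 0, 1; 1, 0, 1; 0, 1, 2]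
/-- companion matrix of order 13. -/
def c13 : M3 := !![0, 0, 1; 1, 0, 1; 0, 1, 0]

theorem det_c8 : c8.det = 1 := by decide +kernel
theorem det_c6 : c6.det = 1 := by decide +kernel
theorem det_c13 : c13.det = 1 := by decide +kernel
theorem c8_pow8 : c8 ^ 8 = 1 := by decide +kernel
theorem c8_pow4 : c8 ^ 4 ≠ 1 := by decide +kernel
theorem c6_pow6 : c6 ^ 6 = 1 := by decide +kernel
theorem c6_pow3 : c6 ^ 3 ≠ 1 := by decide +kernel
theorem c6_pow2 : c6 ^ 2 ≠ 1 := by decide +kernel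
theorem c13_pow13 : c13 ^ 13 = 1 := by decide +kernel
theorem c13_ne : c13 ≠ 1 := by decide +kernel

/-- elements of `SL₃(3)`. -/
def s8 : Matrix.SpecialLinearGroup (Fin 3) (ZMod 3) := ⟨c8, det_c8⟩
/-- elements of `SL₃(3)`. -/
def s6 : Matrix.SpecialLinearGroup (Fin 3) (ZMod 3) := ⟨c6, det_c6⟩
/-- elements of `SL₃(3)`. -/
def s13 : Matrix.SpecialLinearGroup (Fin 3) (ZMod 3) := ⟨c13, det_c13⟩

theorem sl_pow_eq_one_iff (A : Matrix.SpecialLinearGroup (Fin 3) (ZMod 3)) (k : ℕ) :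
    A ^ k = 1 ↔ (A : M3) ^ k = 1 := by
  rw [← Matrix.SpecialLinearGroup.coe_pow]
  constructor
  · intro h; rw [h]; rfl
  · intro h; exact Subtype.ext h

theorem orderOf_sl3_mem (A : Matrix.SpecialLinearGroup (Fin 3) (ZMod 3)) :
    orderOf A ∈ ({1, 2, 3, 4, 6, 8, 13} : Set ℕ) := by
  have key : ∀ k : ℕ, 0 < k → k ≤ 13 → A ^ k = 1 →
      (∀ d : ℕ, d ∣ k → d ∈ ({1, 2, 3, 4, 6, 8, 13} : Set ℕ)) →
      orderOf A ∈ ({1, 2, 3, 4, 6, 8, 13} : Set ℕ) := by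
    intro k _ _ hk hd
    exact hd _ (orderOf_dvd_of_pow_eq_one hk)
  have hdiv : ∀ k : ℕ, k ∈ ({3, 4, 6, 8, 13} : Finset ℕ) → ∀ d : ℕ, d ∣ k →
      d ∈ ({1, 2, 3, 4, 6, 8, 13} : Set ℕ) := by
    intro k hk d hd
    have hle : d ≤ 13 := by
      have : k ≤ 13 := by
        simp only [Finset.mem_insert, Finset.mem_singleton] at hk
        omega
      exact (Nat.le_of_dvd (by
        simp only [Finset.mem_insert, Finset.mem_singleton] at hk
        omega) hd).trans this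
    simp only [Finset.mem_insert, Finset.mem_singleton] at hk
    simp only [Set.mem_insert_iff, Set.mem_singleton_iff]
    interval_cases d <;> rcases hk with rfl | rfl | rfl | rfl | rfl <;> omega
  rcases sl3_pow_cases (A : M3) A.2 with h | h | h | h | h
  · exact key 3 (by norm_num) (by norm_num) ((sl_pow_eq_one_iff A 3).mpr h) (hdiv 3 (by simp))
  · exact key 4 (by norm_num) (by norm_num) ((sl_pow_eq_one_iff A 4).mpr h) (hdiv 4 (by simp))
  · exact key 6 (by norm_num) (by norm_num) ((sl_pow_eq_one_iff A 6).mpr h) (hdiv 6 (by simp))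
  · exact key 8 (by norm_num) (by norm_num) ((sl_pow_eq_one_iff A 8).mpr h) (hdiv 8 (by simp))
  · exact key 13 (by norm_num) (by norm_num) ((sl_pow_eq_one_iff A 13).mpr h) (hdiv 13 (by simp))

theorem orderOf_c8 : orderOf s8 = 8 := by
  have h := orderOf_eq_prime_pow (x := s8)
    (p := 2) (n := 2) ?_ ?_
  · exact h
  · rw [sl_pow_eq_one_iff]; exact c8_pow4
  · rw [sl_pow_eq_one_iff]; exact c8_pow8

theorem orderOf_c13 : orderOf s13 = 13 := by
  haveI : Fact (Nat.Prime 13) := ⟨by norm_num⟩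
  apply orderOf_eq_prime
  · rw [sl_pow_eq_one_iff]; exact c13_pow13
  · intro h
    exact c13_ne (congrArg Subtype.val h)

theorem orderOf_c6 : orderOf s6 = 6 := by
  apply orderOf_eq_of_pow_and_pow_div_prime (by norm_num)
  · rw [sl_pow_eq_one_iff]; exact c6_pow6
  · intro p hp hpd
    have hp6 : p ∣ 6 := hpd
    have hle := Nat.le_of_dvd (by norm_num) hp6
    interval_cases p
    · exact absurd hp (by norm_num)
    · exact absurd hp (by norm_num)
    · rw [show (6 / 2 : ℕ) = 3 from rfl, Ne, sl_pow_eq_one_iff]; exact c6_pow3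
    · rw [show (6 / 3 : ℕ) = 2 from rfl, Ne, sl_pow_eq_one_iff]; exact c6_pow2
    · exact absurd hp6 (by norm_num)
    · exact absurd hp6 (by norm_num)
    · exact absurd hp (by norm_num)

end SL3


section Transfer

theorem range_orderOf_sl3 :
    Set.range (orderOf : Matrix.SpecialLinearGroup (Fin 3) (ZMod 3) → ℕ) =
      {1, 2, 3, 4, 6, 8, 13} := by
  apply Set.eq_of_subset_of_subset
  · rintro _ ⟨A, rfl⟩
    exact orderOf_sl3_mem A
  · intro k hk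
    simp only [Set.mem_insert_iff, Set.mem_singleton_iff] at hk
    rcases hk with rfl | rfl | rfl | rfl | rfl | rfl | rfl
    · exact mem_range_orderOf_of_dvd s8 8 1 orderOf_c8 (by norm_num) (by norm_num)
    · exact mem_range_orderOf_of_dvd s8 8 2 orderOf_c8 (by norm_num) (by norm_num)
    · exact mem_range_orderOf_of_dvd s6 6 3 orderOf_c6 (by norm_num) (by norm_num)
    · exact mem_range_orderOf_of_dvd s8 8 4 orderOf_c8 (by norm_num) (by norm_num)
    · exact mem_range_orderOf_of_dvd s6 6 6 orderOf_c6 (by norm_num) (by norm_num)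
    · exact mem_range_orderOf_of_dvd s8 8 8 orderOf_c8 (by norm_num) (by norm_num)
    · exact mem_range_orderOf_of_dvd s13 13 13 orderOf_c13 (by norm_num) (by norm_num)

theorem range_orderOf_congr {G G' : Type*} [Group G] [Group G'] (e : G ≃* G') :
    Set.range (orderOf : G' → ℕ) = Set.range (orderOf : G → ℕ) := by
  ext k
  constructor
  · rintro ⟨x, rfl⟩
    exact ⟨e.symm x, MulEquiv.orderOf_eq e.symm x⟩
  · rintro ⟨x, rfl⟩
    exact ⟨e x, MulEquiv.orderOf_eq e x⟩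

/-- `SL_n` of isomorphic rings. -/
def slCongr {n : Type*} [Fintype n] [DecidableEq n] {R S : Type*} [CommRing R] [CommRing S]
    (e : R ≃+* S) : Matrix.SpecialLinearGroup n R ≃* Matrix.SpecialLinearGroup n S where
  toFun := Matrix.SpecialLinearGroup.map e.toRingHom
  invFun := Matrix.SpecialLinearGroup.map e.symm.toRingHom
  left_inv A := by
    ext i j
    simp [Matrix.SpecialLinearGroup.map_apply_coe]
  right_inv A := by
    ext i j
    simp [Matrix.SpecialLinearGroup.map_apply_coe]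
  map_mul' A B := map_mul _ A B

theorem range_orderOf_sl3_field {F : Type*} [Field F] [Fintype F] (hF : Fintype.card F = 3) :
    Set.range (orderOf : Matrix.SpecialLinearGroup (Fin 3) F → ℕ) = {1, 2, 3, 4, 6, 8, 13} := by
  rw [range_orderOf_congr (slCongr (n := Fin 3) (ZMod.ringEquivOfPrime F (by norm_num) hF)),
    range_orderOf_sl3]

theorem center_sl3_eq_bot {F : Type*} [Field F] [Fintype F] (hF : Fintype.card F = 3) :
    Subgroup.center (Matrix.SpecialLinearGroup (Fin 3) F) = ⊥ := by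
  rw [eq_bot_iff]
  intro A hA
  rw [Matrix.SpecialLinearGroup.mem_center_iff] at hA
  obtain ⟨r, hr, hrA⟩ := hA
  rw [Fintype.card_fin, ← hF, FiniteField.pow_card] at hr
  rw [Subgroup.mem_bot]
  apply Subtype.ext
  rw [← hrA, hr, Matrix.SpecialLinearGroup.coe_one]
  simp

theorem range_orderOf_psl3 {F : Type*} [Field F] [Fintype F] (hF : Fintype.card F = 3) :
    Set.range (orderOf : Matrix.ProjectiveSpecialLinearGroup (Fin 3) F → ℕ) =
      {1, 2, 3, 4, 6, 8, 13} := by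
  rw [← range_orderOf_sl3_field hF]
  have hc := center_sl3_eq_bot hF
  have hinj : Function.Injective
      (QuotientGroup.mk' (Subgroup.center (Matrix.SpecialLinearGroup (Fin 3) F))) := by
    rw [← MonoidHom.ker_eq_bot_iff, QuotientGroup.ker_mk', hc]
  ext k
  constructor
  · rintro ⟨x, rfl⟩
    obtain ⟨y, rfl⟩ := QuotientGroup.mk'_surjective _ x
    exact ⟨y, (orderOf_injective _ hinj y).symm⟩
  · rintro ⟨y, rfl⟩
    exact ⟨QuotientGroup.mk' _ y, orderOf_injective _ hinj y⟩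

/-- S3437. -/
theorem exists_solvable_isospectral_psl3 {F : Type*} [Field F] [Fintype F]
    (hF : Fintype.card F = 3) :
    ∃ (H : Type) (_ : Group H) (_ : Fintype H), Group.IsSolvable H ∧
      Set.range (orderOf : H → ℕ) =
        Set.range (orderOf : Matrix.ProjectiveSpecialLinearGroup (Fin 3) F → ℕ) := by
  classical
  refine ⟨G13, inferInstance, Fintype.ofFinite _, inferInstance, ?_⟩
  rw [range_orderOf_G13, range_orderOf_psl3 hF]

end Transfer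

end Cfsg.Agent.Lib.Helper9.FrobSpec
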