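/- helper9: general lemmas for B&G Theorem 15.2: sections `N(N)/N` (on top of helper24's `Gam`/`im`),
Thompson's fixed-point-free theorem in a section, `S1446` in section form, `S1445` for subgroups,
`q`-elements of nilpotent normal subgroups lie in `O_q`. -/
import Mathlib
import Cfsg.Agent.S1445
import Cfsg.Agent.S1446
import Cfsg.Agent.Lib.Helper1.Coprime
import Cfsg.Agent.Lib.Helper1.Fitting
import Cfsg.Agent.Lib.Helper8.SupNormalizer
import Cfsg.Agent.Lib.Helper8.FittingSub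
import Cfsg.Agent.Lib.Helper24.BG36NabA
import Cfsg.Agent.Lib.Helper2.BGCorJ
import Cfsg.Agent.Lib.Helper29.PrimePowerElement

set_option autoImplicit false
open scoped commutatorElement

namespace Cfsg.Agent.Lib.Helper9.BG152

open Subgroup Cfsg.Agent.Lib.Helper24.BG36Nab

variable {G : Type*} [Group G]

/-- the image of `N` itself is trivial -/
theorem im_self (N : Subgroup G) : im N N = ⊥ :=
  (im_eq_bot_iff le_normalizer).mpr le_rfl

/-- the image of `H` as the range of a homomorphism from `H` -/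
theorem im_eq_range {N H : Subgroup G} (hHN : H ≤ normalizer (N : Set G)) :
    im N H = ((proj N).comp (Subgroup.inclusion hHN)).range := by
  ext y
  rw [mem_im_iff hHN, MonoidHom.mem_range]
  constructor
  · rintro ⟨k, hk, rfl⟩
    exact ⟨⟨k, hk⟩, rfl⟩
  · rintro ⟨k, rfl⟩
    exact ⟨k.1, k.2, rfl⟩

theorem im_isNilpotent {N H : Subgroup G} (hHN : H ≤ normalizer (N : Set G))
    (h : Group.IsNilpotent H) : Group.IsNilpotent (im N H) := by
  rw [im_eq_range hHN]
  exact Group.nilpotent_of_surjective _ (MonoidHom.rangeRestrict_surjective _)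

theorem im_isSolvable {N H : Subgroup G} (hHN : H ≤ normalizer (N : Set G))
    (h : Group.IsSolvable H) : Group.IsSolvable (im N H) := by
  rw [im_eq_range hHN]
  exact solvable_of_surjective (MonoidHom.rangeRestrict_surjective _)

theorem card_im_of_inf_eq_bot [Finite G] {N H : Subgroup G} (hHN : H ≤ normalizer (N : Set G))
    (h : H ⊓ N = ⊥) : Nat.card (im N H) = Nat.card H := by
  rw [im_eq_range hHN]
  have hinj : Function.Injective ((proj N).comp (Subgroup.inclusion hHN)) := by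
    rw [injective_iff_map_eq_one]
    intro x hx
    have h1 : proj N ⟨x.1, hHN x.2⟩ = 1 := hx
    rw [proj_eq_one_iff] at h1
    have h2 : x.1 ∈ H ⊓ N := ⟨x.2, h1⟩
    rw [h, mem_bot] at h2
    exact Subtype.ext h2
  exact (Nat.card_congr (MonoidHom.ofInjective hinj).toEquiv).symm

theorem proj_pow {N : Subgroup G} {h : G} (hn : h ∈ normalizer (N : Set G)) (n : ℕ) :
    (proj N ⟨h, hn⟩) ^ n = proj N ⟨h ^ n, (normalizer (N : Set G)).pow_mem hn n⟩ := by
  rw [← map_pow]
  rfl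

/-- elements commuting with `proj k` commute with the image of `zpowers k` -/
theorem centralizer_proj_le {N : Subgroup G} {k : G} (hk : k ∈ normalizer (N : Set G)) :
    centralizer ({proj N ⟨k, hk⟩} : Set (Gam N)) ≤
      centralizer (im N (zpowers k) : Set (Gam N)) := by
  intro y hy
  rw [mem_centralizer_iff] at hy ⊢
  intro z hz
  have hzk : zpowers k ≤ normalizer (N : Set G) := (zpowers_le).mpr hk
  obtain ⟨a, ha, rfl⟩ := (mem_im_iff hzk).mp hz
  obtain ⟨i, rfl⟩ := mem_zpowers_iff.mp ha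
  have h1 : proj N ⟨k ^ i, hzk ha⟩ = (proj N ⟨k, hk⟩) ^ i := by
    rw [← map_zpow]
    rfl
  rw [h1]
  have hc : Commute (proj N ⟨k, hk⟩) y := hy _ rfl
  exact (hc.zpow_left i).eq

theorem centralizer_zpowers_eq (k : G) :
    centralizer ((zpowers k : Subgroup G) : Set G) = centralizer ({k} : Set G) := by
  apply le_antisymm
  · apply centralizer_le
    intro x hx
    rw [Set.mem_singleton_iff] at hx
    rw [hx]
    exact mem_zpowers k
  · intro y hy
    rw [mem_centralizer_iff] at hy ⊢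
    intro z hz
    obtain ⟨i, rfl⟩ := mem_zpowers_iff.mp hz
    have hc : Commute k y := hy _ rfl
    exact (hc.zpow_left i).eq

/-- **Thompson in a section**: if `k` of prime order acts on `X/N` and `C_X(k) ≤ N` (coprime
situation), then `X/N` is nilpotent. -/
theorem isNilpotent_im_of_fpf [Finite G] {N X : Subgroup G} {k : G} {s : ℕ} (hs : s.Prime)
    (hNX : N ≤ X) (hXN : X ≤ normalizer (N : Set G)) (hkN : k ∈ normalizer (N : Set G))
    (hkX : k ∈ normalizer (X : Set G)) (hks : k ^ s = 1) (hcop : s.Coprime (Nat.card N))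
    (hfix : X ⊓ centralizer ({k} : Set G) ≤ N) : Group.IsNilpotent ↥(im N X) := by
  have hzk : zpowers k ≤ normalizer (N : Set G) := (zpowers_le).mpr hkN
  have hzX : zpowers k ≤ normalizer (X : Set G) := (zpowers_le).mpr hkX
  have hk' : proj N ⟨k, hkN⟩ ∈ normalizer (im N X : Set (Gam N)) :=
    im_le_normalizer hzk hXN hzX (proj_mem_im (mem_zpowers k) hkN)
  have hks' : (proj N ⟨k, hkN⟩) ^ s = 1 := by
    rw [proj_pow, proj_eq_one_iff, hks]
    exact N.one_mem
  have hcz : (Nat.card (zpowers k)).Coprime (Nat.card N) := by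
    rw [Nat.card_zpowers]
    exact Nat.Coprime.coprime_dvd_left (orderOf_dvd_of_pow_eq_one hks) hcop
  have hsolv : Group.IsSolvable (zpowers k) := by infer_instance
  apply Cfsg.Agent.Lib.Helper2.BGCor.isNilpotent_of_fpf_conj hs hk' hks'
  rw [eq_bot_iff]
  calc im N X ⊓ centralizer ({proj N ⟨k, hkN⟩} : Set (Gam N))
      ≤ im N X ⊓ centralizer (im N (zpowers k) : Set (Gam N)) :=
        inf_le_inf_left _ (centralizer_proj_le hkN)
    _ ≤ im N (X ⊓ centralizer ((zpowers k : Subgroup G) : Set G)) :=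
        im_inf_centralizer_le hNX hXN hzk hcz (Or.inl hsolv)
    _ ≤ im N N := by
        rw [centralizer_zpowers_eq]
        exact im_mono hfix
    _ = ⊥ := im_self N

/-- In a nilpotent section, a `q`-element and a `q'`-element commute modulo `N`. -/
theorem comm_mem_of_isNilpotent_im [Finite G] {N X : Subgroup G} (hXN : X ≤ normalizer (N : Set G))
    (hnil : Group.IsNilpotent ↥(im N X)) {q : ℕ} [Fact q.Prime] {a b : G} (ha : a ∈ X) (hb : b ∈ X)
    (k : ℕ) (hak : a ^ q ^ k = 1) (hbq : (orderOf b).Coprime q) : a * b * a⁻¹ * b⁻¹ ∈ N := by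
  have hn : a * b * a⁻¹ * b⁻¹ ∈ normalizer (N : Set G) :=
    (normalizer _).mul_mem ((normalizer _).mul_mem ((normalizer _).mul_mem (hXN ha) (hXN hb))
      ((normalizer _).inv_mem (hXN ha))) ((normalizer _).inv_mem (hXN hb))
  rw [← proj_eq_one_iff hn]
  have h1 : proj N ⟨a * b * a⁻¹ * b⁻¹, hn⟩ =
      proj N ⟨a, hXN ha⟩ * proj N ⟨b, hXN hb⟩ * (proj N ⟨a, hXN ha⟩)⁻¹ *
        (proj N ⟨b, hXN hb⟩)⁻¹ := by
    rw [← map_inv, ← map_inv, ← map_mul, ← map_mul, ← map_mul]
    rfl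
  rw [h1]
  set a' : ↥(im N X) := ⟨proj N ⟨a, hXN ha⟩, proj_mem_im ha _⟩ with ha'
  set b' : ↥(im N X) := ⟨proj N ⟨b, hXN hb⟩, proj_mem_im hb _⟩ with hb'
  have hoa : a' ^ q ^ k = 1 := by
    apply Subtype.ext
    show (proj N ⟨a, hXN ha⟩) ^ q ^ k = 1
    rw [proj_pow, proj_eq_one_iff, hak]
    exact N.one_mem
  have hob : orderOf b' ∣ orderOf b := by
    rw [← Subgroup.orderOf_coe]
    apply orderOf_dvd_of_pow_eq_one
    show (proj N ⟨b, hXN hb⟩) ^ orderOf b = 1
    rw [proj_pow, proj_eq_one_iff, pow_orderOf_eq_one]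
    exact N.one_mem
  have hcop : (orderOf b').Coprime q := Nat.Coprime.coprime_dvd_left hob hbq
  have hcomm : a' * b' = b' * a' :=
    Cfsg.Agent.Lib.Helper29.commute_of_isNilpotent_of_coprime hnil a' b' k hoa hcop
  have h2 : (a' : Gam N) * b' = b' * a' := congrArg Subtype.val hcomm
  calc proj N ⟨a, hXN ha⟩ * proj N ⟨b, hXN hb⟩ * (proj N ⟨a, hXN ha⟩)⁻¹ *
        (proj N ⟨b, hXN hb⟩)⁻¹
      = (proj N ⟨b, hXN hb⟩ * proj N ⟨a, hXN ha⟩) * (proj N ⟨a, hXN ha⟩)⁻¹ *
        (proj N ⟨b, hXN hb⟩)⁻¹ := by rw [← h2]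
    _ = 1 := by group

theorem im_inf_centralizer_eq [Finite G] {N P B : Subgroup G} (hNP : N ≤ P)
    (hP : P ≤ normalizer (N : Set G)) (hB : B ≤ normalizer (N : Set G))
    (hcop : (Nat.card B).Coprime (Nat.card N))
    (hsolv : Group.IsSolvable B ∨ Group.IsSolvable N) :
    im N P ⊓ centralizer (im N B : Set (Gam N)) = im N (P ⊓ centralizer (B : Set G)) := by
  apply le_antisymm (im_inf_centralizer_le hNP hP hB hcop hsolv)
  intro y hy
  obtain ⟨x, hx, rfl⟩ := (mem_im_iff (inf_le_left.trans hP)).mp hy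
  refine ⟨proj_mem_im hx.1 _, ?_⟩
  show _ ∈ centralizer (im N B : Set (Gam N))
  rw [mem_centralizer_iff]
  intro z hz
  obtain ⟨b, hb, rfl⟩ := (mem_im_iff hB).mp hz
  have hxb : b * x = x * b := (mem_centralizer_iff.mp hx.2) b hb
  rw [← map_mul, ← map_mul]
  congr 1
  exact Subtype.ext hxb

/-- **S1446 in section form**: a Frobenius group `D K` (kernel `D`, complement `K`) acting on the
section `P/N`, coprimely, with `C_{P}(D) ≤ N` and `K` acting in a prime manner on `P`. -/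
theorem s1446_section [Finite G] (N P D K : Subgroup G)
    (hNP : N ≤ P) (hPN : P ≤ normalizer (N : Set G)) (hDN : D ≤ normalizer (N : Set G))
    (hKN : K ≤ normalizer (N : Set G))
    (hDP : D ≤ normalizer (P : Set G)) (hKP : K ≤ normalizer (P : Set G))
    (hKD : K ≤ normalizer (D : Set G))
    (hD1 : D ≠ ⊥) (hK1 : K ≠ ⊥)
    (hcopDK : (Nat.card D).Coprime (Nat.card K))
    (hcopDP : (Nat.card D).Coprime (Nat.card P)) (hcopKP : (Nat.card K).Coprime (Nat.card P))
    (hfrob : ∀ k ∈ K, k ≠ 1 → D ⊓ centralizer ({k} : Set G) = ⊥)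
    (hDsolv : Group.IsSolvable D) (hKsolv : Group.IsSolvable K)
    (hDodd : Odd (Nat.card D)) (hKodd : Odd (Nat.card K))
    (hne : ¬ P ≤ N) (hPnil : Group.IsNilpotent P)
    (hCD : P ⊓ centralizer (D : Set G) ≤ N)
    (hpr : ∀ k ∈ K, k ≠ 1 → P ⊓ centralizer ({k} : Set G) = P ⊓ centralizer (K : Set G)) :
    (Nat.card K).Prime ∧
    Nat.card (im N P) = Nat.card (im N (P ⊓ centralizer (K : Set G))) ^ Nat.card K ∧
    (IsCyclic (im N (P ⊓ centralizer (K : Set G))) →
      ∀ d ∈ ⁅D, D⁆, ∀ x ∈ P, d * x * d⁻¹ * x⁻¹ ∈ N) := by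
  classical
  have hNcard : Nat.card N ∣ Nat.card P := Subgroup.card_dvd_of_le hNP
  have hcopDN : (Nat.card D).Coprime (Nat.card N) := Nat.Coprime.coprime_dvd_right hNcard hcopDP
  have hcopKN : (Nat.card K).Coprime (Nat.card N) := Nat.Coprime.coprime_dvd_right hNcard hcopKP
  have hDN0 : D ⊓ N = ⊥ := (Subgroup.disjoint_of_coprime_natCard hcopDN).eq_bot
  have hKN0 : K ⊓ N = ⊥ := (Subgroup.disjoint_of_coprime_natCard hcopKN).eq_bot
  set Db := im N D with hDb
  set Kb := im N K with hKb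
  set Pb := im N P with hPb
  have hDbcard : Nat.card Db = Nat.card D := card_im_of_inf_eq_bot hDN hDN0
  have hKbcard : Nat.card Kb = Nat.card K := card_im_of_inf_eq_bot hKN hKN0
  have hPbd : Nat.card Pb ∣ Nat.card P := card_im_dvd P hPN
  have hK1' : Db ≠ ⊥ := by
    intro h
    rw [hDb, im_eq_bot_iff hDN] at h
    apply hD1
    rw [eq_bot_iff, ← hDN0]
    exact le_inf le_rfl h
  have hR1' : Kb ≠ ⊥ := by
    intro h
    rw [hKb, im_eq_bot_iff hKN] at h
    apply hK1
    rw [eq_bot_iff, ← hKN0]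
    exact le_inf le_rfl h
  have hKR : Db ⊓ Kb = ⊥ := by
    apply (Subgroup.disjoint_of_coprime_natCard _).eq_bot
    rw [hDbcard, hKbcard]
    exact hcopDK
  have hRK : Kb ≤ normalizer (Db : Set (Gam N)) := im_le_normalizer hKN hDN hKD
  have hfrob' : ∀ r ∈ Kb, r ≠ 1 → Db ⊓ centralizer ({r} : Set (Gam N)) = ⊥ := by
    intro r hr hr1
    obtain ⟨a, ha, rfl⟩ := (mem_im_iff hKN).mp hr
    have ha1 : a ≠ 1 := by
      intro h
      apply hr1
      rw [proj_eq_one_iff, h]
      exact N.one_mem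
    rw [eq_bot_iff]
    rintro y ⟨hyP, hyC⟩
    obtain ⟨x, hx, rfl⟩ := (mem_im_iff hDN).mp hyP
    have hyC' : proj N ⟨x, hDN hx⟩ ∈ centralizer ({proj N ⟨a, hKN ha⟩} : Set (Gam N)) := hyC
    rw [mem_centralizer_iff] at hyC'
    have hcomm := hyC' _ rfl
    have hc1 : a * x⁻¹ * a⁻¹ ∈ D := ((mem_normalizer_iff.mp (hKD ha)) x⁻¹).mp (D.inv_mem hx)
    have hcP : x * a * x⁻¹ * a⁻¹ ∈ D := by
      have : x * a * x⁻¹ * a⁻¹ = x * (a * x⁻¹ * a⁻¹) := by group
      rw [this]
      exact D.mul_mem hx hc1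
    have hcN : x * a * x⁻¹ * a⁻¹ ∈ normalizer (N : Set G) := hDN hcP
    have hcD : x * a * x⁻¹ * a⁻¹ ∈ N := by
      rw [← proj_eq_one_iff hcN]
      have : proj N ⟨x * a * x⁻¹ * a⁻¹, hcN⟩ =
          proj N ⟨x, hDN hx⟩ * proj N ⟨a, hKN ha⟩ * (proj N ⟨x, hDN hx⟩)⁻¹ *
            (proj N ⟨a, hKN ha⟩)⁻¹ := by
        rw [← map_inv, ← map_inv, ← map_mul, ← map_mul, ← map_mul]
        rfl
      rw [this, ← hcomm]
      group
    have hc0 : x * a * x⁻¹ * a⁻¹ ∈ D ⊓ N := ⟨hcP, hcD⟩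
    rw [hDN0, mem_bot] at hc0
    have hxa : a * x = x * a := by
      calc a * x = (x * a * x⁻¹ * a⁻¹)⁻¹ * (x * a) := by group
        _ = x * a := by rw [hc0, inv_one, one_mul]
    have hxC : x ∈ D ⊓ centralizer ({a} : Set G) := by
      refine ⟨hx, ?_⟩
      show x ∈ centralizer ({a} : Set G)
      rw [mem_centralizer_iff]
      intro b hb
      rw [Set.mem_singleton_iff] at hb
      rw [hb]
      exact hxa
    rw [hfrob a ha ha1, mem_bot] at hxC
    rw [mem_bot, proj_eq_one_iff, hxC]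
    exact N.one_mem
  have hDbsol : Group.IsSolvable Db := im_isSolvable hDN hDsolv
  have hKbsol : Group.IsSolvable Kb := im_isSolvable hKN hKsolv
  have hsolv : Group.IsSolvable ↥(Db ⊔ Kb) :=
    Cfsg.Agent.Lib.Helper8.isSolvable_sup_of_le_normalizer hDbsol hKbsol hRK
  have hsupcard : Nat.card Db * Nat.card Kb = Nat.card ↥(Db ⊔ Kb) :=
    (Cfsg.Agent.Lib.Helper1.isComplIn_sup hRK (disjoint_iff.mpr hKR)).card_mul_card
  have hodd : Odd (Nat.card ↥(Db ⊔ Kb)) := by
    rw [← hsupcard, hDbcard, hKbcard]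
    exact Odd.mul hDodd hKodd
  have hM1 : Pb ≠ ⊥ := by
    intro h
    rw [hPb, im_eq_bot_iff hPN] at h
    exact hne h
  have hMn : Group.IsNilpotent Pb := im_isNilpotent hPN hPnil
  have hKM : Db ≤ normalizer (Pb : Set (Gam N)) := im_le_normalizer hDN hPN hDP
  have hRM : Kb ≤ normalizer (Pb : Set (Gam N)) := im_le_normalizer hKN hPN hKP
  have hcop : (Nat.card ↥(Db ⊔ Kb)).Coprime (Nat.card Pb) := by
    rw [← hsupcard, hDbcard, hKbcard]
    apply Nat.Coprime.mul_left
    · exact Nat.Coprime.coprime_dvd_right hPbd hcopDP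
    · exact Nat.Coprime.coprime_dvd_right hPbd hcopKP
  have hCK : Pb ⊓ centralizer (Db : Set (Gam N)) = ⊥ := by
    rw [eq_bot_iff, ← im_self N]
    exact (im_inf_centralizer_le hNP hPN hDN hcopDN (Or.inl hDsolv)).trans (im_mono hCD)
  have hCKb : Pb ⊓ centralizer (Kb : Set (Gam N)) = im N (P ⊓ centralizer (K : Set G)) :=
    im_inf_centralizer_eq hNP hPN hKN hcopKN (Or.inl hKsolv)
  have hpr' : ∀ x ∈ Kb, x ≠ 1 → Pb ⊓ centralizer ({x} : Set (Gam N)) =
      Pb ⊓ centralizer (Kb : Set (Gam N)) := by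
    intro x hx hx1
    obtain ⟨a, ha, rfl⟩ := (mem_im_iff hKN).mp hx
    have ha1 : a ≠ 1 := by
      intro h
      apply hx1
      rw [proj_eq_one_iff, h]
      exact N.one_mem
    apply le_antisymm
    · have hza : zpowers a ≤ normalizer (N : Set G) := (zpowers_le).mpr (hKN ha)
      have hzaK : zpowers a ≤ K := (zpowers_le).mpr ha
      have hcz : (Nat.card (zpowers a)).Coprime (Nat.card N) :=
        Nat.Coprime.coprime_dvd_left (Subgroup.card_dvd_of_le hzaK) hcopKN
      have hsz : Group.IsSolvable (zpowers a) := by infer_instance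
      calc Pb ⊓ centralizer ({proj N ⟨a, hKN ha⟩} : Set (Gam N))
          ≤ Pb ⊓ centralizer (im N (zpowers a) : Set (Gam N)) :=
            inf_le_inf_left _ (centralizer_proj_le (hKN ha))
        _ ≤ im N (P ⊓ centralizer ((zpowers a : Subgroup G) : Set G)) :=
            im_inf_centralizer_le hNP hPN hza hcz (Or.inl hsz)
        _ = im N (P ⊓ centralizer (K : Set G)) := by
            rw [centralizer_zpowers_eq, hpr a ha ha1]
        _ = Pb ⊓ centralizer (Kb : Set (Gam N)) := hCKb.symm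
    · apply inf_le_inf_left
      apply centralizer_le
      intro z hz
      rw [Set.mem_singleton_iff] at hz
      rw [hz]
      exact proj_mem_im ha _
  obtain ⟨hprime, hcard, hcyc⟩ := Cfsg.Agent.S1446.result Db Kb Pb hK1' hR1' hKR hRK hfrob' hsolv
    hodd hM1 hMn hKM hRM hcop hCK hpr'
  refine ⟨hKbcard ▸ hprime, ?_, ?_⟩
  · rw [hCKb, hKbcard] at hcard
    exact hcard
  · intro hc d hd x hx
    rw [hCKb] at hcyc
    have hcen := hcyc hc
    -- the subgroup of elements of `N(N)` whose image centralizes `Pb`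
    have hle : ⁅D, D⁆ ≤ ((centralizer (Pb : Set (Gam N))).comap (proj N)).map
        (normalizer (N : Set G)).subtype := by
      rw [Subgroup.commutator_le]
      intro a ha b hb
      have hab : ⁅a, b⁆ ∈ normalizer (N : Set G) :=
        (normalizer _).mul_mem ((normalizer _).mul_mem ((normalizer _).mul_mem (hDN ha) (hDN hb))
          ((normalizer _).inv_mem (hDN ha))) ((normalizer _).inv_mem (hDN hb))
      refine ⟨⟨⁅a, b⁆, hab⟩, ?_, rfl⟩
      rw [SetLike.mem_coe, Subgroup.mem_comap]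
      apply hcen
      have h1 : proj N ⟨⁅a, b⁆, hab⟩ = ⁅proj N ⟨a, hDN ha⟩, proj N ⟨b, hDN hb⟩⁆ := by
        rw [commutatorElement_def (proj N ⟨a, hDN ha⟩), ← map_inv, ← map_inv, ← map_mul,
          ← map_mul, ← map_mul]
        rfl
      rw [h1]
      exact Subgroup.commutator_mem_commutator (proj_mem_im ha _) (proj_mem_im hb _)
    obtain ⟨⟨d', hd'n⟩, hd'c, hd'e⟩ := hle hd
    have hdd : d' = d := hd'e
    subst hdd
    rw [SetLike.mem_coe, Subgroup.mem_comap, mem_centralizer_iff] at hd'c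
    have h2 := hd'c (proj N ⟨x, hPN hx⟩) (proj_mem_im hx _)
    have hn : d' * x * d'⁻¹ * x⁻¹ ∈ normalizer (N : Set G) :=
      (normalizer _).mul_mem ((normalizer _).mul_mem ((normalizer _).mul_mem hd'n (hPN hx))
        ((normalizer _).inv_mem hd'n)) ((normalizer _).inv_mem (hPN hx))
    rw [← proj_eq_one_iff hn]
    have h3 : proj N ⟨d' * x * d'⁻¹ * x⁻¹, hn⟩ =
        proj N ⟨d', hd'n⟩ * proj N ⟨x, hPN hx⟩ * (proj N ⟨d', hd'n⟩)⁻¹ *
          (proj N ⟨x, hPN hx⟩)⁻¹ := by
      rw [← map_inv, ← map_inv, ← map_mul, ← map_mul, ← map_mul]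
      rfl
    rw [h3, ← h2]
    group

/-- a `q`-element of a normal nilpotent subgroup lies in `O_q`. -/
theorem mem_pCore_of_mem_normal_nilpotent {X : Type*} [Group X] [Finite X] {F : Subgroup X}
    [hFn : F.Normal] (hF : Group.IsNilpotent F) {q : ℕ} [Fact q.Prime] {y : X} (hy : y ∈ F) {k : ℕ}
    (hyq : y ^ q ^ k = 1) : y ∈ Cfsg.pCore q X := by
  obtain ⟨P⟩ : Nonempty (Sylow q ↥F) := inferInstance
  have hSyl := ((Group.isNilpotent_of_finite_tfae (G := ↥F)).out 0 3).mp hF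
  have hPn : (P : Subgroup ↥F).Normal := hSyl q inferInstance P
  haveI : (P : Subgroup ↥F).Characteristic := Sylow.characteristic_of_normal P hPn
  have hnorm : ((P : Subgroup ↥F).map F.subtype).Normal :=
    ConjAct.normal_of_characteristic_of_normal
  have hpg : IsPGroup q ((P : Subgroup ↥F).map F.subtype) := P.2.map _
  apply Cfsg.Agent.Lib.Helper1.le_pCore hnorm hpg
  have hz : IsPGroup q (zpowers (⟨y, hy⟩ : ↥F)) := by
    intro z
    obtain ⟨i, hi⟩ := mem_zpowers_iff.mp z.2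
    refine ⟨k, Subtype.ext ?_⟩
    have h1 : ((z : ↥F) : X) = y ^ i := by
      rw [← hi]
      simp
    show ((z : ↥F) : ↥F) ^ q ^ k = 1
    apply Subtype.ext
    rw [Subgroup.coe_pow, h1, Subgroup.coe_one, ← zpow_natCast, ← zpow_mul, mul_comm, zpow_mul,
      zpow_natCast, hyq, one_zpow]
  obtain ⟨P', hP'⟩ := hz.exists_le_sylow
  haveI := Sylow.unique_of_normal P hPn
  have hPP : P' = P := Subsingleton.elim _ _
  refine ⟨⟨y, hy⟩, ?_, rfl⟩
  rw [← hPP]
  exact hP' (mem_zpowers _)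

/-- `F(S)` computed inside an overgroup `T ≥ S` and mapped to `G` lies in `F(S)`. -/
theorem fittingOf_subgroupOf_map_le {S T : Subgroup G} (hST : S ≤ T) :
    (Cfsg.fittingOf (S.subgroupOf T)).map T.subtype ≤ Cfsg.fittingOf S := by
  rintro _ ⟨y, hy, rfl⟩
  obtain ⟨z, hz, rfl⟩ := hy
  have e : ↥(S.subgroupOf T) ≃* ↥S := Subgroup.subgroupOfEquivOfLe hST
  have h1 := Cfsg.Agent.Lib.Helper8.fittingSubgroup_map_equiv (Subgroup.subgroupOfEquivOfLe hST)
  have h2 : (Subgroup.subgroupOfEquivOfLe hST) z ∈ Cfsg.fittingSubgroup ↥S := by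
    rw [← h1]
    exact Subgroup.mem_map_of_mem _ hz
  exact ⟨_, h2, rfl⟩

/-- **S1445 for subgroups**: `R` acts on `S` coprimely in a prime manner, `S R` solvable of odd
order, `C_{F(S)}(R) = 1`; then `[S, R] ≤ F(S)`. -/
theorem s1445_sub [Finite G] (S R : Subgroup G) (hRS : R ≤ normalizer (S : Set G))
    (hsolv : Group.IsSolvable ↥(S ⊔ R)) (hodd : Odd (Nat.card ↥(S ⊔ R)))
    (hcop : (Nat.card S).Coprime (Nat.card R))
    (hprime : ∀ x ∈ R, x ≠ 1 →
      S ⊓ centralizer ({x} : Set G) = S ⊓ centralizer (R : Set G))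
    (hF : Cfsg.fittingOf S ⊓ centralizer (R : Set G) = ⊥) : ⁅S, R⁆ ≤ Cfsg.fittingOf S := by
  set T : Subgroup G := S ⊔ R with hT
  have hST : S ≤ T := le_sup_left
  have hRT : R ≤ T := le_sup_right
  haveI : (S.subgroupOf T).Normal :=
    (normal_subgroupOf_iff_le_normalizer hST).mpr (sup_le le_normalizer hRS)
  haveI : Group.IsSolvable ↥T := hsolv
  have hKR : S.subgroupOf T ⊔ R.subgroupOf T = ⊤ := by
    rw [← Subgroup.subgroupOf_sup hST hRT, subgroupOf_self]
  have hcop' : (Nat.card (S.subgroupOf T)).Coprime (Nat.card (R.subgroupOf T)) := by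
    rw [Cfsg.Agent.Lib.Helper1.card_subgroupOf_of_le hST,
      Cfsg.Agent.Lib.Helper1.card_subgroupOf_of_le hRT]
    exact hcop
  have hprime' : ∀ x ∈ R.subgroupOf T, x ≠ 1 →
      S.subgroupOf T ⊓ centralizer ({x} : Set ↥T) =
        S.subgroupOf T ⊓ centralizer ((R.subgroupOf T : Subgroup ↥T) : Set ↥T) := by
    intro x hx hx1
    have hxR : (x : G) ∈ R := mem_subgroupOf.mp hx
    have hx1' : (x : G) ≠ 1 := fun h => hx1 (Subtype.ext h)
    have hpx := hprime x hxR hx1'
    ext y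
    constructor
    · rintro ⟨hyS, hyC⟩
      refine ⟨hyS, ?_⟩
      have hyx : x * y = y * x := (mem_centralizer_iff.mp hyC) x rfl
      have h1 : (y : G) ∈ S ⊓ centralizer ({(x : G)} : Set G) := by
        refine ⟨mem_subgroupOf.mp hyS, ?_⟩
        show (y : G) ∈ centralizer ({(x : G)} : Set G)
        rw [mem_centralizer_iff]
        intro z hz
        rw [Set.mem_singleton_iff] at hz
        rw [hz]
        exact congrArg Subtype.val hyx
      rw [hpx] at h1
      show y ∈ centralizer ((R.subgroupOf T : Subgroup ↥T) : Set ↥T)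
      rw [mem_centralizer_iff]
      intro r hr
      apply Subtype.ext
      exact (mem_centralizer_iff.mp h1.2) (r : G) (mem_subgroupOf.mp hr)
    · rintro ⟨hyS, hyC⟩
      refine ⟨hyS, ?_⟩
      show y ∈ centralizer ({x} : Set ↥T)
      rw [mem_centralizer_iff]
      intro z hz
      rw [Set.mem_singleton_iff] at hz
      rw [hz]
      exact (mem_centralizer_iff.mp hyC) x hx
  have hF' : Cfsg.fittingOf (S.subgroupOf T) ⊓
      centralizer ((R.subgroupOf T : Subgroup ↥T) : Set ↥T) = ⊥ := by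
    rw [eq_bot_iff]
    rintro y ⟨hyF, hyC⟩
    have h1 : (y : G) ∈ Cfsg.fittingOf S :=
      fittingOf_subgroupOf_map_le hST (Subgroup.mem_map_of_mem T.subtype hyF)
    have h2 : (y : G) ∈ centralizer (R : Set G) := by
      rw [mem_centralizer_iff]
      intro r hr
      have := (mem_centralizer_iff.mp hyC) ⟨r, hRT hr⟩ (mem_subgroupOf.mpr hr)
      exact congrArg Subtype.val this
    have h3 : (y : G) ∈ Cfsg.fittingOf S ⊓ centralizer (R : Set G) := ⟨h1, h2⟩
    rw [hF, mem_bot] at h3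
    rw [mem_bot]
    exact Subtype.ext h3
  have key := Cfsg.Agent.S1445.result (G := ↥T) hodd (S.subgroupOf T) (R.subgroupOf T) hKR hcop'
    hprime' hF'
  have h4 := Subgroup.map_mono (f := T.subtype) key
  rw [Subgroup.map_commutator, Subgroup.map_subgroupOf_eq_of_le hST,
    Subgroup.map_subgroupOf_eq_of_le hRT] at h4
  exact h4.trans (fittingOf_subgroupOf_map_le hST)

/-- commuting modulo `N` -/
theorem proj_comm_iff {N : Subgroup G} {g b : G} (hg : g ∈ normalizer (N : Set G))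
    (hb : b ∈ normalizer (N : Set G)) :
    proj N ⟨g, hg⟩ * proj N ⟨b, hb⟩ = proj N ⟨b, hb⟩ * proj N ⟨g, hg⟩ ↔
      g * b * g⁻¹ * b⁻¹ ∈ N := by
  have hn : g * b * g⁻¹ * b⁻¹ ∈ normalizer (N : Set G) :=
    (normalizer _).mul_mem ((normalizer _).mul_mem ((normalizer _).mul_mem hg hb)
      ((normalizer _).inv_mem hg)) ((normalizer _).inv_mem hb)
  rw [← proj_eq_one_iff hn]
  have h1 : proj N ⟨g * b * g⁻¹ * b⁻¹, hn⟩ =
      proj N ⟨g, hg⟩ * proj N ⟨b, hb⟩ * (proj N ⟨g, hg⟩)⁻¹ * (proj N ⟨b, hb⟩)⁻¹ := by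
    rw [← map_inv, ← map_inv, ← map_mul, ← map_mul, ← map_mul]
    rfl
  rw [h1]
  constructor
  · intro h
    rw [h]
    group
  · intro h
    calc proj N ⟨g, hg⟩ * proj N ⟨b, hb⟩
        = (proj N ⟨g, hg⟩ * proj N ⟨b, hb⟩ * (proj N ⟨g, hg⟩)⁻¹ * (proj N ⟨b, hb⟩)⁻¹) *
          (proj N ⟨b, hb⟩ * proj N ⟨g, hg⟩) := by group
      _ = proj N ⟨b, hb⟩ * proj N ⟨g, hg⟩ := by rw [h, one_mul]

theorem card_im_mul_card [Finite G] {N H : Subgroup G} (hNH : N ≤ H)
    (hHN : H ≤ normalizer (N : Set G)) : Nat.card (im N H) * Nat.card N = Nat.card H := by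
  rw [im_eq_range hHN]
  set f := (proj N).comp (Subgroup.inclusion hHN) with hf
  have hker : f.ker = N.subgroupOf H := by
    ext x
    rw [MonoidHom.mem_ker, mem_subgroupOf]
    show proj N ⟨x.1, hHN x.2⟩ = 1 ↔ _
    rw [proj_eq_one_iff]
  have h1 := Subgroup.index_ker f
  have h2 := Subgroup.card_mul_index f.ker
  rw [h1, hker, Cfsg.Agent.Lib.Helper1.card_subgroupOf_of_le hNH] at h2
  rw [mul_comm]
  exact h2

theorem im_isPGroup {N H : Subgroup G} (hHN : H ≤ normalizer (N : Set G)) {p : ℕ}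
    (hH : IsPGroup p H) : IsPGroup p (im N H) := by
  intro y
  obtain ⟨x, hx, hxy⟩ := (mem_im_iff hHN).mp y.2
  obtain ⟨k, hk⟩ := hH ⟨x, hx⟩
  refine ⟨k, Subtype.ext ?_⟩
  have hk' : x ^ p ^ k = 1 := by
    have := congrArg Subtype.val hk
    simpa using this
  show (y : Gam N) ^ p ^ k = 1
  rw [← hxy, proj_pow, proj_eq_one_iff, hk']
  exact N.one_mem

end Cfsg.Agent.Lib.Helper9.BG152
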