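/- helper9: B&G Theorem 15.2, part B: a maximal subgroup `M` with `M_F ≠ M_σ` (i.e. `M_σ` not
nilpotent) is of type `P1`, `M = M_σ K`, `M_σ = M'`, and (given that `K* = C_{M_σ}(K)` has prime
order `q`) `K* ≤ O_q(M_σ)`, which is a Sylow `q`-subgroup of `M_σ`. -/
import Mathlib
import Cfsg.Agent.Lib.Helper9.BG152A
import Cfsg.Agent.Lib.Helper9.BG144B
import Cfsg.Agent.Lib.Helper9.TypeP
import Cfsg.Agent.Lib.Helper1.BGKap2
import Cfsg.Agent.Lib.Helper17.BGFitA
import Cfsg.Agent.Lib.Helper12.CNMinB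
import Cfsg.Agent.S1350
import Cfsg.Agent.S1354
import Cfsg.Agent.S1365
import Cfsg.Agent.S1414
import Cfsg.Agent.S1426
import Cfsg.Agent.S1429
import Cfsg.Agent.S1430
import Cfsg.Agent.S1431

set_option autoImplicit false
set_option linter.style.haveILetI false
open scoped commutatorElement Pointwise

namespace Cfsg.Agent.Lib.Helper9.BG152

open Subgroup Cfsg Cfsg.Agent.Lib.Helper24.BG36Nab
open Cfsg.Agent.Lib.Helper2.BGCor (le_normalizer_sigmaCore sigmaCore_le)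

variable {G : Type*} [Group G] [Finite G]

/-- `M_σ` is not nilpotent when `M_F ≠ M_σ`. -/
theorem not_nilpotent (hG : IsMinSimpleOddOrder G) {M : Subgroup G} (hM : IsCoatom M)
    (hne : fittingHallOf M ≠ sigmaCore M) : ¬ Group.IsNilpotent (sigmaCore M) :=
  fun h => hne (Cfsg.Agent.Lib.Helper9.BG144.sigmaCore_eq_fittingHallOf hG hM h).symm

/-- `M` is of type `P1` when `M_σ` is not nilpotent. -/
theorem isP1 (hG : IsMinSimpleOddOrder G) {M : Subgroup G} (hM : IsCoatom M)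
    (hnn : ¬ Group.IsNilpotent (sigmaCore M)) :
    ∀ q : ℕ, q.Prime → q ∣ Nat.card M → q ∉ sigma M → q ∈ kappa M := by
  by_contra hP1
  have hP1' := hP1
  push Not at hP1'
  obtain ⟨q, hq, hqM, hqs, hqk⟩ := hP1'
  haveI : Fact q.Prime := ⟨hq⟩
  obtain ⟨S⟩ : Nonempty (Sylow q M) := inferInstance
  have hmem : q ∉ sigma M ∪ kappa M := by
    intro h
    rcases h with h | h
    · exact hqs h
    · exact hqk h
  exact hnn (Cfsg.Agent.S1429.result hG M hM hP1 q hqM hmem S).2.2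

/-- `U = 1`. -/
theorem U_eq_bot (hG : IsMinSimpleOddOrder G) {M K U : Subgroup G} (hM : IsCoatom M)
    (hKU : IsSigmaDecomposition M K U) (hnn : ¬ Group.IsNilpotent (sigmaCore M)) : U = ⊥ := by
  by_contra hU
  have hHall := (Cfsg.Agent.S1350.result hG M hM).1
  have hcard : Nat.card U ≠ 1 := fun h => hU (Subgroup.card_eq_one.mp h)
  obtain ⟨p, hp, hpU⟩ := Nat.exists_prime_and_dvd hcard
  obtain ⟨hk, hs⟩ := Cfsg.Agent.Lib.Helper1.BGKap.not_kappa_sigma_of_dvd_card_U hHall hKU hp hpU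
  have hpM : p ∣ Nat.card M := hpU.trans (Subgroup.card_dvd_of_le hKU.compl.1)
  exact hk (isP1 hG hM hnn p hp hpM hs)

/-- with `U = 1`: `M = K M_σ` elementwise. -/
theorem mem_decomp {M K U : Subgroup G} (hKU : IsSigmaDecomposition M K U) (hU : U = ⊥) {m : G}
    (hm : m ∈ M) : ∃ s ∈ sigmaCore M, ∃ k ∈ K, m = s * k := by
  obtain ⟨a, ha, b, hb, rfl⟩ := hKU.compl.2.2.2 m hm
  rw [hU, mem_bot] at ha
  subst ha
  rw [one_mul]
  have hn : K ≤ normalizer ((sigmaCore M : Subgroup G) : Set G) :=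
    hKU.hall.1.trans (le_normalizer_sigmaCore M)
  rw [sup_comm] at hb
  exact Cfsg.Agent.Lib.Helper8.mem_sup_of_le_normalizer hn hb

/-- the orders of `K` and `M_σ` are coprime. -/
theorem coprime_K_sigmaCore (hG : IsMinSimpleOddOrder G) {M K U : Subgroup G} (hM : IsCoatom M)
    (hKU : IsSigmaDecomposition M K U) : (Nat.card K).Coprime (Nat.card (sigmaCore M)) := by
  have hHall := (Cfsg.Agent.S1350.result hG M hM).1
  apply Nat.coprime_of_dvd
  intro p hp hpK hpS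
  have h1 : p ∈ kappa M := hKU.hall.2.1 p hp hpK
  have h2 : p ∈ sigma M := hHall.2.1 p hp hpS
  exact h1.2.2.1 h2

theorem K_inf_sigmaCore (hG : IsMinSimpleOddOrder G) {M K U : Subgroup G} (hM : IsCoatom M)
    (hKU : IsSigmaDecomposition M K U) : K ⊓ sigmaCore M = ⊥ :=
  (Subgroup.disjoint_of_coprime_natCard (coprime_K_sigmaCore hG hM hKU)).eq_bot

/-- `K` is a complement of `M_σ` in `M` (when `U = 1`). -/
theorem isComplIn_K {M K U : Subgroup G} (hG : IsMinSimpleOddOrder G) (hM : IsCoatom M)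
    (hKU : IsSigmaDecomposition M K U) (hU : U = ⊥) : IsComplIn K (sigmaCore M) M := by
  refine ⟨hKU.hall.1, sigmaCore_le M, K_inf_sigmaCore hG hM hKU, ?_⟩
  intro m hm
  -- write `m⁻¹ = s k`, so `m = k⁻¹ s⁻¹`
  obtain ⟨s, hs, k, hk, h⟩ := mem_decomp hKU hU (M.inv_mem hm)
  refine ⟨k⁻¹, K.inv_mem hk, s⁻¹, (sigmaCore M).inv_mem hs, ?_⟩
  rw [← mul_inv_rev, ← h, inv_inv]

/-- `K ≠ 1`. -/
theorem K_ne_bot (hG : IsMinSimpleOddOrder G) {M K U : Subgroup G} (hM : IsCoatom M)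
    (hKU : IsSigmaDecomposition M K U) (hnn : ¬ Group.IsNilpotent (sigmaCore M)) : K ≠ ⊥ := by
  intro hK
  have hU := U_eq_bot hG hM hKU hnn
  have hc := isComplIn_K hG hM hKU hU
  have h1 := (Cfsg.Agent.S1426.result hG M hM K hc).2.1
  rw [hK] at h1
  have h2 : ⁅sigmaCore M, (⊥ : Subgroup G)⁆ = ⊥ := Subgroup.commutator_bot_right _
  rw [h2] at h1
  apply hnn
  rw [← h1]
  infer_instance

/-- `M_σ = M'`. -/
theorem sigmaCore_eq_commutator (hG : IsMinSimpleOddOrder G) {M K U : Subgroup G} (hM : IsCoatom M)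
    (hKU : IsSigmaDecomposition M K U) (hnn : ¬ Group.IsNilpotent (sigmaCore M)) :
    sigmaCore M = ⁅M, M⁆ := by
  have hU := U_eq_bot hG hM hKU hnn
  have h1 := (Cfsg.Agent.S1365.result hG M hM K U hKU (K_ne_bot hG hM hKU hnn)).1
  rw [h1, hU, bot_sup_eq]

/-- subgroups of `M` are solvable. -/
theorem isSolvable_of_le (hG : IsMinSimpleOddOrder G) {M : Subgroup G} (hM : IsCoatom M)
    {X : Subgroup G} (hX : X ≤ M) : Group.IsSolvable X :=
  Cfsg.Agent.Lib.Helper12.CNMin.solvable_of_ne_top hG X (fun h => hM.1 (top_le_iff.mp (h ▸ hX)))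

theorem odd_card (hG : IsMinSimpleOddOrder G) (X : Subgroup G) : Odd (Nat.card X) :=
  Odd.of_dvd_nat hG.1 (Subgroup.card_subgroup_dvd_card X)

/-- `q = |K*|`, `K* = C_{M_σ}(K)` -/
noncomputable abbrev qOf (M K : Subgroup G) : ℕ :=
  Nat.card ↥(sigmaCore M ⊓ centralizer (K : Set G))

/-- `Q = O_q(M_σ)` -/
noncomputable abbrev QOf (M K : Subgroup G) : Subgroup G :=
  pCoreOf (qOf M K) (sigmaCore M)

/-- the standing hypotheses of Theorem 15.2 (`hq`: the statement of S1373 in this case). -/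
structure Hyp (M K U : Subgroup G) : Prop where
  hG : IsMinSimpleOddOrder G
  hM : IsCoatom M
  hKU : IsSigmaDecomposition M K U
  hnn : ¬ Group.IsNilpotent (sigmaCore M)
  hq : (Nat.card ↥(sigmaCore M ⊓ centralizer (K : Set G))).Prime

namespace Hyp

variable {M K U : Subgroup G} (h : Hyp M K U)
include h

theorem U_bot : U = ⊥ := U_eq_bot h.hG h.hM h.hKU h.hnn

theorem K_ne : K ≠ ⊥ := K_ne_bot h.hG h.hM h.hKU h.hnn

theorem K_le : K ≤ M := h.hKU.hall.1

theorem K_norm : K ≤ normalizer ((sigmaCore M : Subgroup G) : Set G) :=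
  h.K_le.trans (le_normalizer_sigmaCore M)

theorem compl : IsComplIn K (sigmaCore M) M := isComplIn_K h.hG h.hM h.hKU h.U_bot

theorem prime_action : ∀ k ∈ K, k ≠ 1 → sigmaCore M ⊓ centralizer ({k} : Set G) =
    sigmaCore M ⊓ centralizer (K : Set G) :=
  (Cfsg.Agent.S1430.result h.hG M h.hM K h.hKU.hall h.K_ne).1

theorem cop : (Nat.card K).Coprime (Nat.card (sigmaCore M)) :=
  coprime_K_sigmaCore h.hG h.hM h.hKU

theorem C_isPGroup : IsPGroup (Nat.card ↥(sigmaCore M ⊓ centralizer (K : Set G)))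
    ↥(sigmaCore M ⊓ centralizer (K : Set G)) :=
  IsPGroup.of_card (n := 1) (by rw [pow_one])

/-- `q ∤ |K|` -/
theorem q_not_dvd_K : ¬ Nat.card ↥(sigmaCore M ⊓ centralizer (K : Set G)) ∣ Nat.card K := by
  intro hd
  have h1 : Nat.card ↥(sigmaCore M ⊓ centralizer (K : Set G)) ∣ Nat.card (sigmaCore M) :=
    Subgroup.card_dvd_of_le inf_le_left
  have h2 := Nat.Coprime.eq_one_of_dvd (Nat.Coprime.coprime_dvd_right h1 h.cop)
  have := Nat.dvd_gcd hd h1
  rw [h.cop] at this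
  exact h.hq.one_lt.ne' (Nat.dvd_one.mp this)

/-- `K*` meets `F(M_σ)` nontrivially (B&G Theorem 3.6 = S1445). -/
theorem C_le_fittingOf : sigmaCore M ⊓ centralizer (K : Set G) ≤ fittingOf (sigmaCore M) := by
  have hsupM : sigmaCore M ⊔ K ≤ M := sup_le (sigmaCore_le M) h.K_le
  by_cases hF : fittingOf (sigmaCore M) ⊓ centralizer (K : Set G) = ⊥
  · exfalso
    have h1 := s1445_sub (sigmaCore M) K h.K_norm (isSolvable_of_le h.hG h.hM hsupM)
      (odd_card h.hG _) h.cop.symm h.prime_action hF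
    have h2 := (Cfsg.Agent.S1426.result h.hG M h.hM K h.compl).2.1
    rw [h2] at h1
    have h3 : sigmaCore M = fittingOf (sigmaCore M) :=
      le_antisymm h1 (Cfsg.Agent.Lib.Helper17.PrimeAct.fittingOf_le _)
    apply h.hnn
    rw [h3]
    exact Cfsg.Agent.Lib.Helper9.fittingOf_isNilpotent _
  · have hle : fittingOf (sigmaCore M) ⊓ centralizer (K : Set G) ≤
        sigmaCore M ⊓ centralizer (K : Set G) :=
      inf_le_inf_right _ (Cfsg.Agent.Lib.Helper17.PrimeAct.fittingOf_le _)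
    rcases Cfsg.Agent.Lib.Helper24.BG36Ab.eq_bot_or_eq_of_prime_card h.hq hle with h1 | h1
    · exact absurd h1 hF
    · rw [← h1]
      exact inf_le_left

/-- `K* ≤ O_q(M_σ)`. -/
theorem C_le_pCoreOf : sigmaCore M ⊓ centralizer (K : Set G) ≤
    pCoreOf (Nat.card ↥(sigmaCore M ⊓ centralizer (K : Set G))) (sigmaCore M) := by
  haveI : Fact (Nat.card ↥(sigmaCore M ⊓ centralizer (K : Set G))).Prime := ⟨h.hq⟩
  exact Cfsg.Agent.Lib.Helper17.BGU.le_pCoreOf_of_le_fittingOf h.C_le_fittingOf h.C_isPGroup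

theorem Q_le : QOf M K ≤ sigmaCore M := Cfsg.Agent.Lib.Helper17.PrimeAct.pCoreOf_le _ _

theorem normalizer_le_Q : normalizer ((sigmaCore M : Subgroup G) : Set G) ≤
    normalizer ((QOf M K : Subgroup G) : Set G) := by
  haveI : Fact (qOf M K).Prime := ⟨h.hq⟩
  exact Cfsg.Agent.Lib.Helper17.PrimeAct.normalizer_le_normalizer_pCoreOf _ _

theorem M_le_normalizer_Q : M ≤ normalizer ((QOf M K : Subgroup G) : Set G) :=
  (le_normalizer_sigmaCore M).trans h.normalizer_le_Q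

theorem Q_isPGroup : IsPGroup (qOf M K) (QOf M K) := by
  haveI : Fact (qOf M K).Prime := ⟨h.hq⟩
  exact Cfsg.Agent.Lib.Helper17.PrimeAct.pCoreOf_isPGroup _ _

theorem C_le_Q : sigmaCore M ⊓ centralizer (K : Set G) ≤ QOf M K := h.C_le_pCoreOf

/-- an element of `K` of prime order -/
theorem exists_prime_order_mem : ∃ k ∈ K, ∃ s : ℕ, s.Prime ∧ k ≠ 1 ∧ k ^ s = 1 ∧ s ∣ Nat.card K := by
  obtain ⟨k, hk1⟩ := (Subgroup.ne_bot_iff_exists_ne_one (H := K)).mp h.K_ne
  have hk1' : (k : G) ≠ 1 := fun hh => hk1 (Subtype.ext hh)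
  obtain ⟨j, hj⟩ := Cfsg.Agent.Lib.Helper2.BGCor.exists_pow_prime_order hk1'
  rw [Nat.card_zpowers] at hj
  refine ⟨(k : G) ^ j, K.pow_mem k.2 j, orderOf ((k : G) ^ j), hj, ?_, pow_orderOf_eq_one _, ?_⟩
  · intro hh
    rw [hh, orderOf_one] at hj
    exact Nat.not_prime_one hj
  · exact Subgroup.orderOf_dvd_natCard K (K.pow_mem k.2 j)

/-- a prime dividing `|K|` is coprime to `|Q|`. -/
theorem coprime_Q {s : ℕ} (hs : s.Prime) (hsK : s ∣ Nat.card K) :
    s.Coprime (Nat.card (QOf M K)) := by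
  have hq : (qOf M K).Prime := h.hq
  haveI : Fact (qOf M K).Prime := ⟨hq⟩
  obtain ⟨n, hn⟩ := IsPGroup.iff_card.mp h.Q_isPGroup
  rw [hn]
  apply Nat.Coprime.pow_right
  rw [Nat.coprime_primes hs hq]
  intro hsq
  rw [hsq] at hsK
  exact h.q_not_dvd_K hsK

/-- any normal subgroup `N` of `M` with `K* ≤ N ≤ M_σ` and `|N|` prime to `|K|` has nilpotent
quotient `M_σ / N` (Thompson). -/
theorem isNilpotent_im {N : Subgroup G} (hN : N ≤ sigmaCore M)
    (hMN : M ≤ normalizer (N : Set G)) (hCN : sigmaCore M ⊓ centralizer (K : Set G) ≤ N) :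
    Group.IsNilpotent ↥(im N (sigmaCore M)) := by
  obtain ⟨k, hk, s, hs, hk1, hks, hsK⟩ := h.exists_prime_order_mem
  have hcop : s.Coprime (Nat.card N) := by
    have h1 : s.Coprime (Nat.card (sigmaCore M)) :=
      Nat.Coprime.coprime_dvd_left hsK h.cop
    exact Nat.Coprime.coprime_dvd_right (Subgroup.card_dvd_of_le hN) h1
  apply isNilpotent_im_of_fpf hs hN ((sigmaCore_le M).trans hMN) (hMN (h.K_le hk))
    (h.K_norm hk) hks hcop
  rw [h.prime_action k hk hk1]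
  exact hCN

/-- every Sylow `q`-subgroup of `M_σ` is normal in `M_σ`. -/
theorem sylow_normal (P : Sylow (qOf M K) ↥(sigmaCore M)) :
    (P : Subgroup ↥(sigmaCore M)).Normal := by
  have hq : (qOf M K).Prime := h.hq
  haveI : Fact (qOf M K).Prime := ⟨hq⟩
  have hnil := h.isNilpotent_im h.Q_le h.M_le_normalizer_Q h.C_le_Q
  have hXN : sigmaCore M ≤ normalizer ((QOf M K : Subgroup G) : Set G) :=
    (sigmaCore_le M).trans h.M_le_normalizer_Q
  have hQP : (QOf M K).subgroupOf (sigmaCore M) ≤ (P : Subgroup ↥(sigmaCore M)) := by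
    have h1 : (QOf M K).subgroupOf (sigmaCore M) = Cfsg.pCore (qOf M K) ↥(sigmaCore M) := by
      show ((Cfsg.pCore (qOf M K) ↥(sigmaCore M)).map (sigmaCore M).subtype).comap
        (sigmaCore M).subtype = _
      exact Subgroup.comap_map_eq_self_of_injective (sigmaCore M).subtype_injective _
    rw [h1]
    exact Cfsg.Agent.Lib.Helper1.pCore_le_sylow P
  rw [← Subgroup.normalizer_eq_top_iff]
  apply Cfsg.Agent.Lib.Helper1.eq_top_of_forall_sylow_le
  intro r hr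
  by_cases hrq : r = qOf M K
  · subst hrq
    exact ⟨P, Subgroup.le_normalizer⟩
  · obtain ⟨R⟩ : Nonempty (Sylow r ↥(sigmaCore M)) := inferInstance
    refine ⟨R, ?_⟩
    intro b hb
    apply Cfsg.Agent.Lib.Helper1.mem_normalizer_of_forall_conj_mem
    intro a ha
    -- `a` is a `q`-element, `b` a `q'`-element
    obtain ⟨ka, hka⟩ := P.2 ⟨a, ha⟩
    have hka' : (a : G) ^ (qOf M K) ^ ka = 1 := by
      have := congrArg Subtype.val (congrArg Subtype.val hka)
      simpa using this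
    obtain ⟨kb, hkb⟩ := R.2 ⟨b, hb⟩
    have hkb' : (b : G) ^ r ^ kb = 1 := by
      have := congrArg Subtype.val (congrArg Subtype.val hkb)
      simpa using this
    have hbq : (orderOf (b : G)).Coprime (qOf M K) := by
      have h1 : orderOf (b : G) ∣ r ^ kb := orderOf_dvd_of_pow_eq_one hkb'
      apply Nat.Coprime.coprime_dvd_left h1
      apply Nat.Coprime.pow_left
      exact (Nat.coprime_primes hr.out hq).mpr hrq
    have hc := comm_mem_of_isNilpotent_im hXN hnil a.2 b.2 ka hka' hbq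
    -- `(a b a⁻¹ b⁻¹)⁻¹ = b a b⁻¹ a⁻¹ ∈ Q ≤ P`
    have hc' : (b * a * b⁻¹ * a⁻¹ : ↥(sigmaCore M)) ∈ (QOf M K).subgroupOf (sigmaCore M) := by
      rw [mem_subgroupOf]
      have e : ((b * a * b⁻¹ * a⁻¹ : ↥(sigmaCore M)) : G) =
          ((a : G) * b * (a : G)⁻¹ * (b : G)⁻¹)⁻¹ := by
        push_cast
        group
      rw [e]
      exact (QOf M K).inv_mem hc
    have e2 : b * a * b⁻¹ = (b * a * b⁻¹ * a⁻¹) * a := by group
    rw [e2]
    exact (P : Subgroup ↥(sigmaCore M)).mul_mem (hQP hc') ha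

/-- `Q = O_q(M_σ)` is a Sylow `q`-subgroup of `M_σ`. -/
theorem Q_sylow : ¬ qOf M K ∣ (QOf M K).relIndex (sigmaCore M) := by
  have hq : (qOf M K).Prime := h.hq
  haveI : Fact (qOf M K).Prime := ⟨hq⟩
  obtain ⟨P⟩ : Nonempty (Sylow (qOf M K) ↥(sigmaCore M)) := inferInstance
  have hPn := h.sylow_normal P
  have h1 : (QOf M K).subgroupOf (sigmaCore M) = Cfsg.pCore (qOf M K) ↥(sigmaCore M) := by
    show ((Cfsg.pCore (qOf M K) ↥(sigmaCore M)).map (sigmaCore M).subtype).comap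
      (sigmaCore M).subtype = _
    exact Subgroup.comap_map_eq_self_of_injective (sigmaCore M).subtype_injective _
  have h2 : Cfsg.pCore (qOf M K) ↥(sigmaCore M) = (P : Subgroup ↥(sigmaCore M)) :=
    le_antisymm (Cfsg.Agent.Lib.Helper1.pCore_le_sylow P)
      (Cfsg.Agent.Lib.Helper1.le_pCore hPn P.2)
  show ¬ qOf M K ∣ ((QOf M K).subgroupOf (sigmaCore M)).index
  rw [h1, h2]
  exact P.not_dvd_index

theorem relIndex_sigmaCore : (sigmaCore M).relIndex M = Nat.card K := by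
  have h1 := Cfsg.Agent.Lib.Helper9.isComplIn_card_mul_card h.compl
  have h2 := Cfsg.Agent.Lib.Helper4.card_mul_relIndex (sigmaCore_le M)
  have hpos : 0 < Nat.card (sigmaCore M) := Nat.card_pos
  apply Nat.eq_of_mul_eq_mul_left hpos
  rw [h2, ← h1, mul_comm]

theorem Q_le_M : QOf M K ≤ M := h.Q_le.trans (sigmaCore_le M)

/-- `Q` is a normal Hall subgroup of `M`. -/
theorem Q_hall : (Nat.card (QOf M K)).Coprime ((QOf M K).relIndex M) := by
  have hq : (qOf M K).Prime := h.hq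
  haveI : Fact (qOf M K).Prime := ⟨hq⟩
  obtain ⟨n, hn⟩ := IsPGroup.iff_card.mp h.Q_isPGroup
  rw [hn]
  apply Nat.Coprime.pow_left
  rw [Nat.Prime.coprime_iff_not_dvd hq,
    ← Subgroup.relIndex_mul_relIndex _ _ _ h.Q_le (sigmaCore_le M), h.relIndex_sigmaCore]
  intro hd
  rcases hq.dvd_mul.mp hd with h1 | h1
  · exact h.Q_sylow h1
  · exact h.q_not_dvd_K h1

/-- a `K`-invariant complement of `Q` in `M_σ`. -/
theorem exists_compl : ∃ D : Subgroup G, IsComplIn (QOf M K) D (sigmaCore M) ∧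
    K ≤ normalizer (D : Set G) := by
  have hq : (qOf M K).Prime := h.hq
  haveI : Fact (qOf M K).Prime := ⟨hq⟩
  obtain ⟨H, hH⟩ := Cfsg.Agent.Lib.Helper1.internal_sz_exists h.Q_le_M h.M_le_normalizer_Q h.Q_hall
  obtain ⟨hQM, hHM, hdisj, hprod⟩ := hH
  have hKQ : K ≤ normalizer ((QOf M K : Subgroup G) : Set G) := h.K_le.trans h.M_le_normalizer_Q
  have hcopKQ : (Nat.card K).Coprime (Nat.card (QOf M K)) :=
    Nat.Coprime.coprime_dvd_right (Subgroup.card_dvd_of_le h.Q_le) h.cop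
  have hsupM : QOf M K ⊔ K ≤ M := sup_le h.Q_le_M h.K_le
  have hKsolv : Group.IsSolvable K := isSolvable_of_le h.hG h.hM h.K_le
  obtain ⟨x, hx, hxK⟩ := Cfsg.Agent.Lib.Helper1.exists_le_conj_smul_of_coprime
    (U := H ⊓ (QOf M K ⊔ K)) hKQ hcopKQ (Or.inl hKsolv) inf_le_right (by
      intro γ hγ
      obtain ⟨k, hk, a, ha, hka⟩ := hprod γ (hsupM hγ)
      refine ⟨k, hk, a, ⟨ha, ?_⟩, hka.symm⟩
      have : a = k⁻¹ * γ := by rw [← hka]; group
      rw [this]
      exact (QOf M K ⊔ K).mul_mem ((QOf M K ⊔ K).inv_mem (le_sup_left (a := QOf M K) hk)) hγ)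
  have hxM : x ∈ M := h.Q_le_M hx
  have hKH' : K ≤ MulAut.conj x • H := by
    intro k hk
    have := hxK hk
    rw [Cfsg.Agent.Lib.Helper1.mem_conj_smul_iff] at this ⊢
    exact this.1
  refine ⟨MulAut.conj x • H ⊓ sigmaCore M, ⟨h.Q_le, inf_le_right, ?_, ?_⟩, ?_⟩
  · rw [eq_bot_iff]
    rintro y ⟨hyQ, hyH, -⟩
    have hyH : y ∈ MulAut.conj x • H := hyH
    rw [Cfsg.Agent.Lib.Helper1.mem_conj_smul_iff] at hyH
    have hyQ' : x⁻¹ * y * x ∈ QOf M K :=
      (QOf M K).mul_mem ((QOf M K).mul_mem ((QOf M K).inv_mem hx) hyQ) hx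
    have := Subgroup.disjoint_def.mp hdisj hyQ' hyH
    rw [mem_bot]
    calc y = x * (x⁻¹ * y * x) * x⁻¹ := by group
      _ = 1 := by rw [this]; group
  · intro m hm
    have hmM : x⁻¹ * m * x ∈ M := M.mul_mem (M.mul_mem (M.inv_mem hxM) (sigmaCore_le M hm)) hxM
    obtain ⟨k, hk, a, ha, hka⟩ := hprod _ hmM
    have hk' : x * k * x⁻¹ ∈ QOf M K := (QOf M K).mul_mem ((QOf M K).mul_mem hx hk)
      ((QOf M K).inv_mem hx)
    have hm' : m = (x * k * x⁻¹) * (x * a * x⁻¹) := by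
      calc m = x * (x⁻¹ * m * x) * x⁻¹ := by group
        _ = x * (k * a) * x⁻¹ := by rw [hka]
        _ = (x * k * x⁻¹) * (x * a * x⁻¹) := by group
    refine ⟨x * k * x⁻¹, hk', x * a * x⁻¹, ⟨?_, ?_⟩, hm'⟩
    · show x * a * x⁻¹ ∈ MulAut.conj x • H
      rw [Cfsg.Agent.Lib.Helper1.mem_conj_smul_iff]
      have : x⁻¹ * (x * a * x⁻¹) * x = a := by group
      rw [this]
      exact ha
    · have : x * a * x⁻¹ = (x * k * x⁻¹)⁻¹ * m := by rw [hm']; group
      rw [this]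
      exact (sigmaCore M).mul_mem ((sigmaCore M).inv_mem (h.Q_le hk')) hm
  · exact (le_inf (hKH'.trans Subgroup.le_normalizer) h.K_norm).trans
      Subgroup.inf_normalizer_le_normalizer_inf

end Hyp

end Cfsg.Agent.Lib.Helper9.BG152
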