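/- helper9: B&G Theorem 15.2, part C: the `K`-invariant complement `D` of `Q = O_q(M_σ)` in `M_σ`:
`D` is nilpotent, `K D` is a Frobenius group, `q ∈ β(M)`. -/
import Mathlib
import Cfsg.Agent.Lib.Helper9.BG152B

set_option autoImplicit false
set_option linter.style.haveILetI false
open scoped commutatorElement Pointwise

namespace Cfsg.Agent.Lib.Helper9.BG152

open Subgroup Cfsg Cfsg.Agent.Lib.Helper24.BG36Nab
open Cfsg.Agent.Lib.Helper2.BGCor (le_normalizer_sigmaCore sigmaCore_le)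

variable {G : Type*} [Group G] [Finite G]

/-- a subgroup of a nilpotent subgroup is nilpotent. -/
theorem nilp_of_le' {A B : Subgroup G} (h : A ≤ B) (hB : Group.IsNilpotent ↥B) :
    Group.IsNilpotent ↥A := by
  apply Subgroup.isNilpotent_of_ker_le_center (Subgroup.inclusion h)
  rw [(MonoidHom.ker_eq_bot_iff _).mpr (Subgroup.inclusion_injective h)]
  exact bot_le

/-- the join of two commuting nilpotent subgroups is nilpotent. -/
theorem nilp_sup_of_commute' {A B : Subgroup G} (hA : Group.IsNilpotent ↥A)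
    (hB : Group.IsNilpotent ↥B) (hc : ∀ a ∈ A, ∀ b ∈ B, a * b = b * a) :
    Group.IsNilpotent ↥(A ⊔ B) := by
  have hcomm : ∀ (a : ↥A) (b : ↥B), Commute (A.subtype a) (B.subtype b) :=
    fun a b => hc a a.2 b b.2
  let f : ↥A × ↥B →* G := MonoidHom.noncommCoprod A.subtype B.subtype hcomm
  have hr : f.range = A ⊔ B := by
    show (MonoidHom.noncommCoprod A.subtype B.subtype hcomm).range = A ⊔ B
    rw [MonoidHom.noncommCoprod_range, Subgroup.range_subtype, Subgroup.range_subtype]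
  have h1 : Group.IsNilpotent ↥f.range :=
    Group.nilpotent_of_surjective f.rangeRestrict f.rangeRestrict_surjective
  rw [hr] at h1
  exact h1

/-- a complement `D` of `Q` in `M_σ` normalized by `K`. -/
structure DHyp (M K D : Subgroup G) : Prop where
  compl : IsComplIn (QOf M K) D (sigmaCore M)
  norm : K ≤ normalizer (D : Set G)

namespace Hyp

variable {M K U : Subgroup G} (h : Hyp M K U)
include h

theorem exists_dhyp : ∃ D : Subgroup G, DHyp M K D := by
  obtain ⟨D, h1, h2⟩ := h.exists_compl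
  exact ⟨D, h1, h2⟩

theorem Q_nil : Group.IsNilpotent ↥(QOf M K) := by
  haveI : Fact (qOf M K).Prime := ⟨h.hq⟩
  exact h.Q_isPGroup.isNilpotent

variable {D : Subgroup G} (hD : DHyp M K D)
include hD

theorem D_le : D ≤ sigmaCore M := hD.compl.2.1

theorem Q_inf_D : QOf M K ⊓ D = ⊥ := hD.compl.2.2.1

theorem card_Q_D : Nat.card (QOf M K) * Nat.card D = Nat.card (sigmaCore M) :=
  Cfsg.Agent.Lib.Helper9.isComplIn_card_mul_card hD.compl

theorem card_D : Nat.card D = (QOf M K).relIndex (sigmaCore M) := by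
  have h1 := h.card_Q_D hD
  have h2 := Cfsg.Agent.Lib.Helper4.card_mul_relIndex h.Q_le
  have hpos : 0 < Nat.card (QOf M K) := Nat.card_pos
  apply Nat.eq_of_mul_eq_mul_left hpos
  rw [h1, h2]

theorem D_cop_q : (Nat.card D).Coprime (qOf M K) := by
  rw [Nat.coprime_comm, Nat.Prime.coprime_iff_not_dvd h.hq, h.card_D hD]
  exact h.Q_sylow

theorem D_cop_Q : (Nat.card D).Coprime (Nat.card (QOf M K)) := by
  haveI : Fact (qOf M K).Prime := ⟨h.hq⟩
  obtain ⟨n, hn⟩ := IsPGroup.iff_card.mp h.Q_isPGroup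
  rw [hn]
  exact Nat.Coprime.pow_right n (h.D_cop_q hD)

theorem D_cop_K : (Nat.card D).Coprime (Nat.card K) :=
  (Nat.Coprime.coprime_dvd_right (Subgroup.card_dvd_of_le (h.D_le hD)) h.cop).symm

/-- `K` acts fixed-point-freely on `D`. -/
theorem D_fpf : ∀ k ∈ K, k ≠ 1 → D ⊓ centralizer ({k} : Set G) = ⊥ := by
  intro k hk hk1
  rw [eq_bot_iff, ← h.Q_inf_D hD]
  intro y hy
  refine ⟨?_, hy.1⟩
  apply h.C_le_Q
  rw [← h.prime_action k hk hk1]
  exact ⟨h.D_le hD hy.1, hy.2⟩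

/-- `D` is nilpotent (Thompson). -/
theorem D_nil : Group.IsNilpotent ↥D := by
  obtain ⟨k, hk, s, hs, hk1, hks, -⟩ := h.exists_prime_order_mem
  exact Cfsg.Agent.Lib.Helper2.BGCor.isNilpotent_of_fpf_conj hs (hD.norm hk) hks
    (h.D_fpf hD k hk hk1)

theorem sigmaCore_le_sup : sigmaCore M ≤ QOf M K ⊔ D := by
  intro m hm
  obtain ⟨a, ha, b, hb, rfl⟩ := hD.compl.2.2.2 m hm
  exact (QOf M K ⊔ D).mul_mem (le_sup_left (a := QOf M K) ha) (le_sup_right (a := QOf M K) hb)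

/-- `D` does not centralize `Q`. -/
theorem D_not_cent : ¬ D ≤ centralizer ((QOf M K : Subgroup G) : Set G) := by
  intro hc
  apply h.hnn
  apply nilp_of_le' (h.sigmaCore_le_sup hD)
  apply nilp_sup_of_commute' h.Q_nil (h.D_nil hD)
  intro a ha b hb
  exact ((mem_centralizer_iff.mp (hc hb)) a ha)

theorem D_ne : D ≠ ⊥ := by
  intro hb
  apply h.D_not_cent hD
  rw [hb]
  exact bot_le

/-- conversion of complements to helper1's form -/
theorem toH1 {D' : Subgroup G} (hD' : IsComplIn (QOf M K) D' (sigmaCore M)) :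
    Cfsg.Agent.Lib.Helper1.IsComplIn (QOf M K) D' (sigmaCore M) :=
  ⟨hD'.1, hD'.2.1, disjoint_iff.mpr hD'.2.2.1, fun m hm => by
    obtain ⟨a, ha, b, hb, hab⟩ := hD'.2.2.2 m hm
    exact ⟨a, ha, b, hb, hab.symm⟩⟩

/-- every complement of `Q` in `M_σ` is `Q`-conjugate to `D`. -/
theorem conj_compl {D' : Subgroup G} (hD' : IsComplIn (QOf M K) D' (sigmaCore M)) :
    ∃ x ∈ QOf M K, MulAut.conj x • D' = D := by
  have hQsolv : Group.IsSolvable (QOf M K) := isSolvable_of_le h.hG h.hM h.Q_le_M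
  exact Cfsg.Agent.Lib.Helper1.internal_sz_conj ((sigmaCore_le M).trans h.M_le_normalizer_Q)
    (h.toH1 hD hD.compl) (h.toH1 hD hD') (h.D_cop_Q hD).symm (Or.inl hQsolv)

theorem compl_nil {D' : Subgroup G} (hD' : IsComplIn (QOf M K) D' (sigmaCore M)) :
    Group.IsNilpotent ↥D' := by
  obtain ⟨x, -, hx⟩ := h.conj_compl hD hD'
  have e : ↥D' ≃* ↥(MulAut.conj x • D') := Subgroup.equivSMul (MulAut.conj x) D'
  have h1 : Group.IsNilpotent ↥(MulAut.conj x • D') := by
    rw [hx]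
    exact h.D_nil hD
  exact Group.nilpotent_of_mulEquiv e.symm

theorem compl_not_cent {D' : Subgroup G} (hD' : IsComplIn (QOf M K) D' (sigmaCore M)) :
    ¬ D' ≤ centralizer ((QOf M K : Subgroup G) : Set G) := by
  intro hc
  obtain ⟨x, hxQ, hx⟩ := h.conj_compl hD hD'
  apply h.D_not_cent hD
  intro d hd
  rw [← hx, Cfsg.Agent.Lib.Helper1.mem_conj_smul_iff] at hd
  have h1 := hc hd
  rw [mem_centralizer_iff] at h1 ⊢
  intro a ha
  have ha' : x⁻¹ * a * x ∈ QOf M K :=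
    (QOf M K).mul_mem ((QOf M K).mul_mem ((QOf M K).inv_mem hxQ) ha) hxQ
  have h2 := h1 _ ha'
  calc a * d = x * ((x⁻¹ * a * x) * (x⁻¹ * d * x)) * x⁻¹ := by group
    _ = x * ((x⁻¹ * d * x) * (x⁻¹ * a * x)) * x⁻¹ := by rw [h2]
    _ = d * a := by group

/-- `q ∈ β(M)`: otherwise `M_σ` has a normal `q`-complement and would be nilpotent. -/
theorem q_mem_beta : qOf M K ∈ beta M := by
  have hq : (qOf M K).Prime := h.hq
  haveI : Fact (qOf M K).Prime := ⟨hq⟩
  by_contra hb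
  have hqM : qOf M K ∣ Nat.card M :=
    (Subgroup.card_dvd_of_le (inf_le_left : sigmaCore M ⊓ centralizer (K : Set G) ≤ _)).trans
      (Subgroup.card_dvd_of_le (sigmaCore_le M))
  obtain ⟨P, N, hNn, hNP⟩ := ((Cfsg.Agent.S1414.result h.hG M h.hM).2.2.2.2 _ hq hqM hb).2.1
  have hPn := h.sylow_normal P
  have hPQ : (P : Subgroup ↥(sigmaCore M)).map (sigmaCore M).subtype = QOf M K := by
    have h2 : Cfsg.pCore (qOf M K) ↥(sigmaCore M) = (P : Subgroup ↥(sigmaCore M)) :=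
      le_antisymm (Cfsg.Agent.Lib.Helper1.pCore_le_sylow P)
        (Cfsg.Agent.Lib.Helper1.le_pCore hPn P.2)
    rw [← h2]
    rfl
  set D' : Subgroup G := N.map (sigmaCore M).subtype with hD'def
  have hD'le : D' ≤ sigmaCore M := Subgroup.map_subtype_le _
  have hcompl : IsComplIn (QOf M K) D' (sigmaCore M) := by
    refine ⟨h.Q_le, hD'le, ?_, ?_⟩
    · rw [eq_bot_iff]
      rintro y ⟨hyQ, hyD⟩
      rw [← hPQ] at hyQ
      obtain ⟨a, ha, rfl⟩ := hyQ
      obtain ⟨b, hb, hab⟩ := hyD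
      have hab' : b = a := Subtype.ext hab
      subst hab'
      have := Subgroup.disjoint_def.mp hNP.disjoint hb ha
      rw [this]
      exact Subgroup.one_mem _
    · intro m hm
      obtain ⟨a, ha, b, hb, hab⟩ := Cfsg.Agent.Lib.Helper1.IsComplement'.exists_mul_eq hNP.symm
        (⟨m, hm⟩ : ↥(sigmaCore M))
      refine ⟨a, ?_, b, ⟨b, hb, rfl⟩, ?_⟩
      · rw [← hPQ]
        exact ⟨a, ha, rfl⟩
      · have := congrArg Subtype.val hab
        simpa using this.symm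
  apply h.compl_not_cent hD hcompl
  intro n hn
  rw [mem_centralizer_iff]
  intro a ha
  -- `[n, a] ∈ Q ⊓ D' = 1`
  have hnM : n ∈ sigmaCore M := hD'le hn
  have haM : a ∈ sigmaCore M := h.Q_le ha
  have h1 : n * a * n⁻¹ ∈ QOf M K :=
    ((mem_normalizer_iff.mp (((sigmaCore_le M).trans h.M_le_normalizer_Q) hnM)) a).mp ha
  have h2 : a * n⁻¹ * a⁻¹ ∈ D' := by
    obtain ⟨n', hn', rfl⟩ := hn
    refine ⟨⟨a, haM⟩ * n'⁻¹ * ⟨a, haM⟩⁻¹, hNn.conj_mem _ (N.inv_mem hn') _, ?_⟩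
    simp
  have h3 : n * a * n⁻¹ * a⁻¹ ∈ QOf M K ⊓ D' := by
    refine ⟨(QOf M K).mul_mem h1 ((QOf M K).inv_mem ha), ?_⟩
    have e : n * a * n⁻¹ * a⁻¹ = n * (a * n⁻¹ * a⁻¹) := by group
    rw [e]
    exact D'.mul_mem hn h2
  rw [hcompl.2.2.1, mem_bot] at h3
  calc a * n = (n * a * n⁻¹ * a⁻¹)⁻¹ * (n * a) := by group
    _ = n * a := by rw [h3, inv_one, one_mul]

end Hyp

end Cfsg.Agent.Lib.Helper9.BG152
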