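/- helper9: B&G Theorem 15.2, part D: the chief factor `Q / C_Q(D)`. -/
import Mathlib
import Cfsg.Agent.Lib.Helper9.BG152C
import Cfsg.Agent.Lib.Helper18.Basic

set_option autoImplicit false
set_option linter.style.haveILetI false
set_option linter.unusedSectionVars false
open scoped commutatorElement Pointwise

namespace Cfsg.Agent.Lib.Helper9.BG152

open Subgroup Cfsg Cfsg.Agent.Lib.Helper24.BG36Nab
open Cfsg.Agent.Lib.Helper2.BGCor (le_normalizer_sigmaCore sigmaCore_le)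

variable {G : Type*} [Group G] [Finite G]

/-- the `M`-invariant subgroups of `Q` centralized by `D` -/
def famA (M K D : Subgroup G) : Set (Subgroup G) :=
  {X | X ≤ QOf M K ∧ M ≤ normalizer (X : Set G) ∧ X ≤ centralizer (D : Set G)}

/-- the `M`-invariant subgroups of `Q` strictly above `A` -/
def famY (M K A : Subgroup G) : Set (Subgroup G) :=
  {Y | A < Y ∧ Y ≤ QOf M K ∧ M ≤ normalizer (Y : Set G)}

/-- a maximal `A` and a minimal `Y` above it -/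
structure CF (M K D A Y : Subgroup G) : Prop where
  hA : Maximal (· ∈ famA M K D) A
  hY : Minimal (· ∈ famY M K A) Y

namespace Hyp

variable {M K U : Subgroup G} (h : Hyp M K U) {D : Subgroup G} (hD : DHyp M K D)
include h

theorem conj_mem_Q {m y : G} (hm : m ∈ M) (hy : y ∈ QOf M K) : m * y * m⁻¹ ∈ QOf M K :=
  ((mem_normalizer_iff.mp (h.M_le_normalizer_Q hm)) y).mp hy

include hD

theorem not_Q_le_cent : ¬ QOf M K ≤ centralizer (D : Set G) := by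
  intro hc
  apply h.D_not_cent hD
  intro d hd
  rw [mem_centralizer_iff]
  intro a ha
  exact ((mem_centralizer_iff.mp (hc ha)) d hd).symm

theorem exists_cf : ∃ A Y : Subgroup G, CF M K D A Y := by
  have hne : (famA M K D).Nonempty :=
    ⟨⊥, bot_le, by
      intro m _
      rw [mem_normalizer_iff]
      intro g
      simp only [Subgroup.mem_bot]
      constructor
      · intro hg; rw [hg]; group
      · intro hg
        calc g = m⁻¹ * (m * g * m⁻¹) * m := by group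
          _ = 1 := by rw [hg]; group, bot_le⟩
  obtain ⟨A, hA⟩ := (Set.toFinite (famA M K D)).exists_maximal hne
  have hAQ : A < QOf M K := by
    refine lt_of_le_of_ne hA.1.1 ?_
    intro hAe
    apply h.not_Q_le_cent hD
    rw [← hAe]
    exact hA.1.2.2
  have hne2 : (famY M K A).Nonempty := ⟨QOf M K, hAQ, le_rfl, h.M_le_normalizer_Q⟩
  obtain ⟨Y, hY⟩ := (Set.toFinite (famY M K A)).exists_minimal hne2
  exact ⟨A, Y, hA, hY⟩

variable {A Y : Subgroup G} (cf : CF M K D A Y)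
include cf

theorem A_le_Q : A ≤ QOf M K := cf.hA.1.1

theorem M_norm_A : M ≤ normalizer (A : Set G) := cf.hA.1.2.1

theorem A_cent : A ≤ centralizer (D : Set G) := cf.hA.1.2.2

theorem A_lt_Y : A < Y := cf.hY.1.1

theorem Y_le_Q : Y ≤ QOf M K := cf.hY.1.2.1

theorem M_norm_Y : M ≤ normalizer (Y : Set G) := cf.hY.1.2.2

theorem Y_le_M : Y ≤ M := (h.Y_le_Q hD cf).trans h.Q_le_M

theorem Y_le_sigmaCore : Y ≤ sigmaCore M := (h.Y_le_Q hD cf).trans h.Q_le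

theorem A_max {X : Subgroup G} (hX : X ∈ famA M K D) (hAX : A ≤ X) : X = A :=
  le_antisymm (cf.hA.2 hX hAX) hAX

theorem Y_min {Z : Subgroup G} (hAZ : A ≤ Z) (hZY : Z ≤ Y) (hMZ : M ≤ normalizer (Z : Set G)) :
    Z = A ∨ Z = Y := by
  by_cases hZA : Z = A
  · exact Or.inl hZA
  · right
    have hlt : A < Z := lt_of_le_of_ne hAZ (Ne.symm hZA)
    have hZ : Z ∈ famY M K A := ⟨hlt, hZY.trans (h.Y_le_Q hD cf), hMZ⟩
    exact le_antisymm hZY (cf.hY.2 hZ hZY)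

theorem conj_mem_A {m a : G} (hm : m ∈ M) (ha : a ∈ A) : m * a * m⁻¹ ∈ A :=
  ((mem_normalizer_iff.mp (h.M_norm_A hD cf hm)) a).mp ha

theorem conj_mem_Y {m y : G} (hm : m ∈ M) (hy : y ∈ Y) : m * y * m⁻¹ ∈ Y :=
  ((mem_normalizer_iff.mp (h.M_norm_Y hD cf hm)) y).mp hy

/-- `Q` acts trivially on the chief factor `Y / A`. -/
theorem comm_Y_Q : ∀ y ∈ Y, ∀ x ∈ QOf M K, y * x * y⁻¹ * x⁻¹ ∈ A := by
  have hq : (qOf M K).Prime := h.hq
  haveI : Fact (qOf M K).Prime := ⟨hq⟩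
  -- the subgroup `Y₂` of elements of `Y` commuting with `Q` modulo `A`
  let Y₂ : Subgroup G :=
    { carrier := {y | y ∈ Y ∧ ∀ x ∈ QOf M K, y * x * y⁻¹ * x⁻¹ ∈ A}
      one_mem' := ⟨Y.one_mem, fun x _ => by simp [A.one_mem]⟩
      mul_mem' := by
        rintro y₁ y₂ ⟨hy₁, h₁⟩ ⟨hy₂, h₂⟩
        refine ⟨Y.mul_mem hy₁ hy₂, fun x hx => ?_⟩
        have e : (y₁ * y₂) * x * (y₁ * y₂)⁻¹ * x⁻¹ =
            (y₁ * (y₂ * x * y₂⁻¹ * x⁻¹) * y₁⁻¹) * (y₁ * x * y₁⁻¹ * x⁻¹) := by group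
        rw [e]
        exact A.mul_mem (h.conj_mem_A hD cf (h.Y_le_M hD cf hy₁) (h₂ x hx)) (h₁ x hx)
      inv_mem' := by
        rintro y ⟨hy, h₁⟩
        refine ⟨Y.inv_mem hy, fun x hx => ?_⟩
        have e : y⁻¹ * x * y⁻¹⁻¹ * x⁻¹ = y⁻¹ * (y * x * y⁻¹ * x⁻¹)⁻¹ * y⁻¹⁻¹ := by group
        rw [e]
        exact h.conj_mem_A hD cf (M.inv_mem (h.Y_le_M hD cf hy)) (A.inv_mem (h₁ x hx)) }
  have hY₂Y : Y₂ ≤ Y := fun y hy => hy.1
  have hAY₂ : A ≤ Y₂ := by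
    intro a ha
    refine ⟨(h.A_lt_Y hD cf).le ha, fun x hx => ?_⟩
    have e : a * x * a⁻¹ * x⁻¹ = a * (x * a⁻¹ * x⁻¹) := by group
    rw [e]
    exact A.mul_mem ha (h.conj_mem_A hD cf (h.Q_le_M hx) (A.inv_mem ha))
  have hMY₂ : M ≤ normalizer (Y₂ : Set G) := by
    intro m hm
    apply Cfsg.Agent.Lib.Helper1.mem_normalizer_of_forall_conj_mem
    rintro y ⟨hy, h₁⟩
    refine ⟨h.conj_mem_Y hD cf hm hy, fun x hx => ?_⟩
    have hx' : m⁻¹ * x * m⁻¹⁻¹ ∈ QOf M K := h.conj_mem_Q (M.inv_mem hm) hx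
    have e : (m * y * m⁻¹) * x * (m * y * m⁻¹)⁻¹ * x⁻¹ =
        m * (y * (m⁻¹ * x * m⁻¹⁻¹) * y⁻¹ * (m⁻¹ * x * m⁻¹⁻¹)⁻¹) * m⁻¹ := by group
    rw [e]
    exact h.conj_mem_A hD cf hm (h₁ _ hx')
  -- a fixed point of `Q` on `Y / A`
  have hYN : Y ≤ normalizer (A : Set G) := (h.Y_le_M hD cf).trans (h.M_norm_A hD cf)
  have hQN : QOf M K ≤ normalizer (A : Set G) := h.Q_le_M.trans (h.M_norm_A hD cf)
  have hYne : im A Y ≠ ⊥ := by
    intro hb
    rw [im_eq_bot_iff hYN] at hb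
    exact (not_le_of_gt (h.A_lt_Y hD cf)) hb
  have hYp : IsPGroup (qOf M K) (im A Y) :=
    im_isPGroup hYN (h.Q_isPGroup.to_le (h.Y_le_Q hD cf))
  have hQp : IsPGroup (qOf M K) (im A (QOf M K)) := im_isPGroup hQN h.Q_isPGroup
  have hnorm : im A (QOf M K) ≤ normalizer (im A Y : Set (Gam A)) :=
    im_le_normalizer hQN hYN (h.Q_le_M.trans (h.M_norm_Y hD cf))
  obtain ⟨w, hw, hw1, hwc⟩ := Cfsg.Agent.Lib.Helper18.exists_ne_one_fixed_of_pgroup_normalizes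
    (im A Y) (im A (QOf M K)) hYp hQp hYne hnorm
  obtain ⟨y, hy, rfl⟩ := (mem_im_iff hYN).mp hw
  have hyA : y ∉ A := by
    intro hyA
    apply hw1
    rw [proj_eq_one_iff]
    exact hyA
  have hyY₂ : y ∈ Y₂ := by
    refine ⟨hy, fun x hx => ?_⟩
    rw [← proj_comm_iff (hYN hy) (hQN hx)]
    exact (hwc _ (proj_mem_im hx _)).symm
  rcases h.Y_min hD cf hAY₂ hY₂Y hMY₂ with hc | hc
  · exact absurd (hc ▸ hyY₂) hyA
  · intro y' hy' x hx
    have : y' ∈ Y₂ := hc ▸ hy'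
    exact this.2 x hx

end Hyp

end Cfsg.Agent.Lib.Helper9.BG152
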