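/- helper9: B&G Theorem 15.2, part E: `C_{Y/A}(D) = 1`, the Frobenius action (S1446) on `Y / A`,
`A = C_Q(D)` and `Y = Q`. -/
import Mathlib
import Cfsg.Agent.Lib.Helper9.BG152D

set_option autoImplicit false
set_option linter.style.haveILetI false
set_option linter.unusedSectionVars false
open scoped commutatorElement Pointwise

namespace Cfsg.Agent.Lib.Helper9.BG152

open Subgroup Cfsg Cfsg.Agent.Lib.Helper24.BG36Nab
open Cfsg.Agent.Lib.Helper2.BGCor (le_normalizer_sigmaCore sigmaCore_le)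

variable {G : Type*} [Group G]

/-- the elements of `Y` commuting with `B` modulo `A` (`Y` normalizes `A`). -/
def cmod (Y A B : Subgroup G) (hYA : Y ≤ normalizer (A : Set G)) : Subgroup G where
  carrier := {y | y ∈ Y ∧ ∀ b ∈ B, y * b * y⁻¹ * b⁻¹ ∈ A}
  one_mem' := ⟨Y.one_mem, fun x _ => by simp [A.one_mem]⟩
  mul_mem' := by
    rintro y₁ y₂ ⟨hy₁, h₁⟩ ⟨hy₂, h₂⟩
    refine ⟨Y.mul_mem hy₁ hy₂, fun x hx => ?_⟩
    have e : (y₁ * y₂) * x * (y₁ * y₂)⁻¹ * x⁻¹ =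
        (y₁ * (y₂ * x * y₂⁻¹ * x⁻¹) * y₁⁻¹) * (y₁ * x * y₁⁻¹ * x⁻¹) := by group
    rw [e]
    exact A.mul_mem (((mem_normalizer_iff.mp (hYA hy₁)) _).mp (h₂ x hx)) (h₁ x hx)
  inv_mem' := by
    rintro y ⟨hy, h₁⟩
    refine ⟨Y.inv_mem hy, fun x hx => ?_⟩
    have e : y⁻¹ * x * y⁻¹⁻¹ * x⁻¹ = y⁻¹ * (y * x * y⁻¹ * x⁻¹)⁻¹ * y⁻¹⁻¹ := by group
    rw [e]
    exact ((mem_normalizer_iff.mp (hYA (Y.inv_mem hy))) _).mp (A.inv_mem (h₁ x hx))

theorem mem_cmod {Y A B : Subgroup G} {hYA : Y ≤ normalizer (A : Set G)} {y : G} :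
    y ∈ cmod Y A B hYA ↔ y ∈ Y ∧ ∀ b ∈ B, y * b * y⁻¹ * b⁻¹ ∈ A := Iff.rfl

theorem cmod_le {Y A B : Subgroup G} {hYA : Y ≤ normalizer (A : Set G)} : cmod Y A B hYA ≤ Y :=
  fun _ hy => hy.1

/-- an element normalizing `Y`, `A` and `B` maps `cmod Y A B` into itself. -/
theorem conj_mem_cmod {Y A B : Subgroup G} {hYA : Y ≤ normalizer (A : Set G)} {m : G}
    (hmY : m ∈ normalizer (Y : Set G)) (hmA : m ∈ normalizer (A : Set G))
    (hmB : m ∈ normalizer (B : Set G)) {y : G} (hy : y ∈ cmod Y A B hYA) :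
    m * y * m⁻¹ ∈ cmod Y A B hYA := by
  refine ⟨((mem_normalizer_iff.mp hmY) y).mp hy.1, fun x hx => ?_⟩
  have hx' : m⁻¹ * x * m⁻¹⁻¹ ∈ B :=
    ((mem_normalizer_iff.mp ((normalizer (B : Set G)).inv_mem hmB)) x).mp hx
  have e : (m * y * m⁻¹) * x * (m * y * m⁻¹)⁻¹ * x⁻¹ =
      m * (y * (m⁻¹ * x * m⁻¹⁻¹) * y⁻¹ * (m⁻¹ * x * m⁻¹⁻¹)⁻¹) * m⁻¹ := by group
  rw [e]
  exact ((mem_normalizer_iff.mp hmA) _).mp (hy.2 _ hx')

variable [Finite G]

namespace Hyp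

variable {M K U : Subgroup G} (h : Hyp M K U) {D : Subgroup G} (hD : DHyp M K D)
  {A Y : Subgroup G} (cf : CF M K D A Y)
include h hD cf

theorem D_le_M : D ≤ M := (h.D_le hD).trans (sigmaCore_le M)

theorem Y_norm_A : Y ≤ normalizer (A : Set G) := (h.Y_le_M hD cf).trans (h.M_norm_A hD cf)

theorem D_cop_A : (Nat.card D).Coprime (Nat.card A) :=
  Nat.Coprime.coprime_dvd_right (Subgroup.card_dvd_of_le (h.A_le_Q hD cf)) (h.D_cop_Q hD)

theorem D_cop_Y : (Nat.card D).Coprime (Nat.card Y) :=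
  Nat.Coprime.coprime_dvd_right (Subgroup.card_dvd_of_le (h.Y_le_Q hD cf)) (h.D_cop_Q hD)

/-- every element of `M` is `x * d * k` with `x ∈ Q`, `d ∈ D`, `k ∈ K`. -/
theorem mem_M_decomp {m : G} (hm : m ∈ M) :
    ∃ x ∈ QOf M K, ∃ d ∈ D, ∃ k ∈ K, m = x * d * k := by
  obtain ⟨s, hs, k, hk, rfl⟩ := mem_decomp h.hKU h.U_bot hm
  obtain ⟨x, hx, d, hd, rfl⟩ := hD.compl.2.2.2 s hs
  exact ⟨x, hx, d, hd, k, hk, rfl⟩

/-- `C_{Y/A}(D) = 1`. -/
theorem Y_cent_D_le : Y ⊓ centralizer (D : Set G) ≤ A := by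
  set YD := cmod Y A D (h.Y_norm_A hD cf) with hYD
  have hAYD : A ≤ YD := by
    intro a ha
    refine ⟨(h.A_lt_Y hD cf).le ha, fun d hd => ?_⟩
    have hc : d * a = a * d := (mem_centralizer_iff.mp (h.A_cent hD cf ha)) d hd
    have e : a * d * a⁻¹ * d⁻¹ = 1 := by
      rw [← hc]; group
    rw [e]
    exact A.one_mem
  have hMYD : M ≤ normalizer (YD : Set G) := by
    intro m hm
    apply Cfsg.Agent.Lib.Helper1.mem_normalizer_of_forall_conj_mem
    intro y hy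
    obtain ⟨x, hx, d, hd, k, hk, rfl⟩ := h.mem_M_decomp hD cf hm
    have hkM : k ∈ M := h.K_le hk
    have hdM : d ∈ M := h.D_le_M hD cf hd
    have h1 : k * y * k⁻¹ ∈ YD :=
      conj_mem_cmod (h.M_norm_Y hD cf hkM) (h.M_norm_A hD cf hkM) (hD.norm hk) hy
    have h2 : d * (k * y * k⁻¹) * d⁻¹ ∈ YD :=
      conj_mem_cmod (h.M_norm_Y hD cf hdM) (h.M_norm_A hD cf hdM) (le_normalizer hd) h1
    set z := d * (k * y * k⁻¹) * d⁻¹ with hz
    have hzY : z ∈ Y := h2.1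
    have h3 : (z * x * z⁻¹ * x⁻¹)⁻¹ ∈ A := A.inv_mem (h.comm_Y_Q hD cf z hzY x hx)
    have e : (x * d * k) * y * (x * d * k)⁻¹ = (z * x * z⁻¹ * x⁻¹)⁻¹ * z := by
      rw [hz]; group
    rw [e]
    exact YD.mul_mem (hAYD h3) h2
  rcases h.Y_min hD cf hAYD cmod_le hMYD with hc | hc
  · intro y hy
    rw [← hc]
    refine ⟨hy.1, fun d hd => ?_⟩
    have hcd : d * y = y * d := (mem_centralizer_iff.mp hy.2) d hd
    have e : y * d * y⁻¹ * d⁻¹ = 1 := by
      rw [← hcd]; group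
    rw [e]
    exact A.one_mem
  · exfalso
    -- `D` centralizes `Y / A` and `A`, hence `Y`
    have hDsolv : Group.IsSolvable D := isSolvable_of_le h.hG h.hM (h.D_le_M hD cf)
    have hYC : Y ≤ centralizer (D : Set G) := by
      intro y hy
      have hyinv : y⁻¹ ∈ YD := by rw [hc]; exact Y.inv_mem hy
      have hx : ∀ d ∈ D, y⁻¹ * d * y * d⁻¹ ∈ A := by
        intro d hd
        have := hyinv.2 d hd
        rwa [inv_inv] at this
      obtain ⟨n, hn, hyn⟩ := Cfsg.Agent.Lib.Helper1.exists_mul_mem_centralizer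
        ((h.D_le_M hD cf).trans (h.M_norm_A hD cf)) (h.D_cop_A hD cf) (Or.inl hDsolv) y hx
      have : y = (y * n) * n⁻¹ := by group
      rw [this]
      exact (centralizer (D : Set G)).mul_mem hyn
        ((centralizer (D : Set G)).inv_mem (h.A_cent hD cf hn))
    have hYfam : Y ∈ famA M K D := ⟨h.Y_le_Q hD cf, h.M_norm_Y hD cf, hYC⟩
    have := h.A_max hD cf hYfam (h.A_lt_Y hD cf).le
    exact (ne_of_gt (h.A_lt_Y hD cf)) this

theorem K_cop_Y : (Nat.card K).Coprime (Nat.card Y) :=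
  Nat.Coprime.coprime_dvd_right (Subgroup.card_dvd_of_le (h.Y_le_sigmaCore hD cf)) h.cop

theorem Y_prime_action : ∀ k ∈ K, k ≠ 1 →
    Y ⊓ centralizer ({k} : Set G) = Y ⊓ centralizer (K : Set G) := by
  intro k hk hk1
  ext y
  constructor
  · rintro ⟨hyY, hyC⟩
    refine ⟨hyY, ?_⟩
    have h1 : y ∈ sigmaCore M ⊓ centralizer ({k} : Set G) := ⟨h.Y_le_sigmaCore hD cf hyY, hyC⟩
    rw [h.prime_action k hk hk1] at h1
    exact h1.2
  · rintro ⟨hyY, hyC⟩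
    refine ⟨hyY, ?_⟩
    show y ∈ centralizer ({k} : Set G)
    rw [mem_centralizer_iff]
    intro z hz
    rw [Set.mem_singleton_iff] at hz
    rw [hz]
    exact (mem_centralizer_iff.mp hyC) k hk

/-- the Frobenius group `D K` acts on the chief factor `Y / A` (S1446). -/
theorem frob_data :
    (Nat.card K).Prime ∧ Nat.card (im A Y) = (qOf M K) ^ Nat.card K ∧
    sigmaCore M ⊓ centralizer (K : Set G) ≤ Y ∧
    (sigmaCore M ⊓ centralizer (K : Set G)) ⊓ A = ⊥ ∧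
    ∀ d ∈ ⁅D, D⁆, ∀ x ∈ Y, d * x * d⁻¹ * x⁻¹ ∈ A := by
  have hq : (qOf M K).Prime := h.hq
  haveI : Fact (qOf M K).Prime := ⟨hq⟩
  have hDM := h.D_le_M hD cf
  have hYN := h.Y_norm_A hD cf
  have hnotle : ¬ Y ≤ A := not_le_of_gt (h.A_lt_Y hD cf)
  have hYnil : Group.IsNilpotent Y := (h.Q_isPGroup.to_le (h.Y_le_Q hD cf)).isNilpotent
  obtain ⟨hprime, hcard, hcyc⟩ := s1446_section A Y D K (h.A_lt_Y hD cf).le hYN
    (hDM.trans (h.M_norm_A hD cf)) (h.K_le.trans (h.M_norm_A hD cf))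
    (hDM.trans (h.M_norm_Y hD cf)) (h.K_le.trans (h.M_norm_Y hD cf)) hD.norm (h.D_ne hD) h.K_ne
    (h.D_cop_K hD) (h.D_cop_Y hD cf) (h.K_cop_Y hD cf) (h.D_fpf hD)
    (isSolvable_of_le h.hG h.hM hDM) (isSolvable_of_le h.hG h.hM h.K_le)
    (odd_card h.hG D) (odd_card h.hG K) hnotle hYnil (h.Y_cent_D_le hD cf)
    (h.Y_prime_action hD cf)
  have hYim_ne : Nat.card (im A Y) ≠ 1 := by
    intro h1
    have := Subgroup.card_eq_one.mp h1
    rw [im_eq_bot_iff hYN] at this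
    exact hnotle this
  have hKpos : Nat.card K ≠ 0 := Nat.card_pos.ne'
  have hle : Y ⊓ centralizer (K : Set G) ≤ sigmaCore M ⊓ centralizer (K : Set G) :=
    inf_le_inf_right _ (h.Y_le_sigmaCore hD cf)
  have hCN : sigmaCore M ⊓ centralizer (K : Set G) ≤ normalizer (A : Set G) :=
    (inf_le_left.trans (sigmaCore_le M)).trans (h.M_norm_A hD cf)
  rcases Cfsg.Agent.Lib.Helper24.BG36Ab.eq_bot_or_eq_of_prime_card h.hq hle with h1 | h1
  · exfalso
    rw [h1] at hcard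
    have h2 : im A (⊥ : Subgroup G) = ⊥ := (im_eq_bot_iff bot_le).mpr bot_le
    rw [h2, Subgroup.card_bot, one_pow] at hcard
    exact hYim_ne hcard
  · have hCY : sigmaCore M ⊓ centralizer (K : Set G) ≤ Y := by
      rw [← h1]; exact inf_le_left
    have hCA : (sigmaCore M ⊓ centralizer (K : Set G)) ⊓ A = ⊥ := by
      rcases Cfsg.Agent.Lib.Helper24.BG36Ab.eq_bot_or_eq_of_prime_card h.hq
        (inf_le_left : (sigmaCore M ⊓ centralizer (K : Set G)) ⊓ A ≤ _) with h2 | h2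
      · exact h2
      · exfalso
        have h3 : sigmaCore M ⊓ centralizer (K : Set G) ≤ A := by
          rw [← h2]; exact inf_le_right
        rw [h1, (im_eq_bot_iff hCN).mpr h3, Subgroup.card_bot, one_pow] at hcard
        exact hYim_ne hcard
    have hcardC : Nat.card (im A (sigmaCore M ⊓ centralizer (K : Set G))) = qOf M K :=
      card_im_of_inf_eq_bot hCN hCA
    rw [h1, hcardC] at hcard
    refine ⟨hprime, hcard, hCY, hCA, ?_⟩
    apply hcyc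
    rw [h1]
    haveI : Fact (Nat.card (im A (sigmaCore M ⊓ centralizer (K : Set G)))).Prime := by
      rw [hcardC]; exact ⟨hq⟩
    exact isCyclic_of_prime_card rfl

end Hyp

end Cfsg.Agent.Lib.Helper9.BG152
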