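/- helper9: B&G Theorem 15.2, part F: `A = C_Q(D)`, `Y = Q`, and the structure of `Q / C_Q(D)`. -/
import Mathlib
import Cfsg.Agent.Lib.Helper9.BG152E

set_option autoImplicit false
set_option linter.style.haveILetI false
set_option linter.unusedSectionVars false
open scoped commutatorElement Pointwise

namespace Cfsg.Agent.Lib.Helper9.BG152

open Subgroup Cfsg Cfsg.Agent.Lib.Helper24.BG36Nab
open Cfsg.Agent.Lib.Helper2.BGCor (le_normalizer_sigmaCore sigmaCore_le)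

variable {G : Type*} [Group G]

/-- an element normalizing `D` normalizes `C_G(D)` (conjugation form). -/
theorem conj_mem_centralizer_of_mem_normalizer {D : Subgroup G} {g c : G}
    (hg : g ∈ normalizer (D : Set G)) (hc : c ∈ centralizer (D : Set G)) :
    g * c * g⁻¹ ∈ centralizer (D : Set G) := by
  rw [mem_centralizer_iff] at hc ⊢
  intro d hd
  have hd' : g⁻¹ * d * g⁻¹⁻¹ ∈ D :=
    ((mem_normalizer_iff.mp ((normalizer (D : Set G)).inv_mem hg)) d).mp hd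
  have h1 := hc _ hd'
  calc d * (g * c * g⁻¹) = g * ((g⁻¹ * d * g⁻¹⁻¹) * c) * g⁻¹ := by group
    _ = g * (c * (g⁻¹ * d * g⁻¹⁻¹)) * g⁻¹ := by rw [h1]
    _ = g * c * g⁻¹ * d := by group

variable [Finite G]

namespace Hyp

variable {M K U : Subgroup G} (h : Hyp M K U) {D : Subgroup G} (hD : DHyp M K D)
  {A Y : Subgroup G} (cf : CF M K D A Y)
include h hD cf

/-- `[Q, D] ≤ Y` (Thompson on `M_σ / Y`). -/
theorem comm_Q_D : ∀ x ∈ QOf M K, ∀ d ∈ D, x * d * x⁻¹ * d⁻¹ ∈ Y := by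
  have hq : (qOf M K).Prime := h.hq
  haveI : Fact (qOf M K).Prime := ⟨hq⟩
  obtain ⟨-, -, hCY, -, -⟩ := h.frob_data hD cf
  have hnil := h.isNilpotent_im (h.Y_le_sigmaCore hD cf) (h.M_norm_Y hD cf) hCY
  have hXN : sigmaCore M ≤ normalizer (Y : Set G) := (sigmaCore_le M).trans (h.M_norm_Y hD cf)
  intro x hx d hd
  obtain ⟨k, hk⟩ := h.Q_isPGroup ⟨x, hx⟩
  have hk' : x ^ (qOf M K) ^ k = 1 := by
    have := congrArg Subtype.val hk
    simpa using this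
  have hdq : (orderOf d).Coprime (qOf M K) :=
    Nat.Coprime.coprime_dvd_left (Subgroup.orderOf_dvd_natCard D hd) (h.D_cop_q hD)
  exact comm_mem_of_isNilpotent_im hXN hnil (h.Q_le hx) (h.D_le hD hd) k hk' hdq

/-- `Q = Y C_Q(D)`. -/
theorem exists_mul_mem_cent : ∀ x ∈ QOf M K, ∃ n ∈ Y,
    x * n ∈ QOf M K ⊓ centralizer (D : Set G) := by
  intro x hx
  have hDsolv : Group.IsSolvable D := isSolvable_of_le h.hG h.hM (h.D_le_M hD cf)
  have hx' : ∀ d ∈ D, x⁻¹ * d * x * d⁻¹ ∈ Y := by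
    intro d hd
    have := h.comm_Q_D hD cf x⁻¹ ((QOf M K).inv_mem hx) d hd
    rwa [inv_inv] at this
  obtain ⟨n, hn, hxn⟩ := Cfsg.Agent.Lib.Helper1.exists_mul_mem_centralizer
    ((h.D_le_M hD cf).trans (h.M_norm_Y hD cf)) (h.D_cop_Y hD cf) (Or.inl hDsolv) x hx'
  exact ⟨n, hn, (QOf M K).mul_mem hx (h.Y_le_Q hD cf hn), hxn⟩

/-- `C_Q(D) = A`. -/
theorem cent_eq : QOf M K ⊓ centralizer (D : Set G) = A := by
  apply h.A_max hD cf _ (le_inf (h.A_le_Q hD cf) (h.A_cent hD cf))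
  refine ⟨inf_le_left, ?_, inf_le_right⟩
  intro m hm
  apply Cfsg.Agent.Lib.Helper1.mem_normalizer_of_forall_conj_mem
  intro a ha
  obtain ⟨x, hx, d, hd, k, hk, rfl⟩ := h.mem_M_decomp hD cf hm
  have hkM : k ∈ M := h.K_le hk
  have hdM : d ∈ M := h.D_le_M hD cf hd
  have h1 : k * a * k⁻¹ ∈ QOf M K ⊓ centralizer (D : Set G) :=
    ⟨h.conj_mem_Q hkM ha.1, conj_mem_centralizer_of_mem_normalizer (hD.norm hk) ha.2⟩
  have h2 : d * (k * a * k⁻¹) * d⁻¹ ∈ QOf M K ⊓ centralizer (D : Set G) :=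
    ⟨h.conj_mem_Q hdM h1.1, conj_mem_centralizer_of_mem_normalizer (le_normalizer hd) h1.2⟩
  set a' := d * (k * a * k⁻¹) * d⁻¹ with ha'
  obtain ⟨n, hn, hc⟩ := h.exists_mul_mem_cent hD cf x hx
  -- `x = c n⁻¹` with `c = x n ∈ C_Q(D)`
  have h3 : n⁻¹ * a' * n⁻¹⁻¹ * a'⁻¹ ∈ A := h.comm_Y_Q hD cf n⁻¹ (Y.inv_mem hn) a' h2.1
  have h3' : n⁻¹ * a' * n⁻¹⁻¹ * a'⁻¹ ∈ QOf M K ⊓ centralizer (D : Set G) :=
    ⟨h.A_le_Q hD cf h3, h.A_cent hD cf h3⟩
  have e : (x * d * k) * a * (x * d * k)⁻¹ =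
      (x * n) * ((n⁻¹ * a' * n⁻¹⁻¹ * a'⁻¹) * a') * (x * n)⁻¹ := by
    rw [ha']; group
  rw [e]
  exact (QOf M K ⊓ centralizer (D : Set G)).mul_mem
    ((QOf M K ⊓ centralizer (D : Set G)).mul_mem hc
      ((QOf M K ⊓ centralizer (D : Set G)).mul_mem h3' h2))
    ((QOf M K ⊓ centralizer (D : Set G)).inv_mem hc)

/-- `Y = Q`. -/
theorem Y_eq_Q : Y = QOf M K := by
  apply le_antisymm (h.Y_le_Q hD cf)
  intro x hx
  obtain ⟨n, hn, hc⟩ := h.exists_mul_mem_cent hD cf x hx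
  rw [h.cent_eq hD cf] at hc
  have : x = (x * n) * n⁻¹ := by group
  rw [this]
  exact Y.mul_mem ((h.A_lt_Y hD cf).le hc) (Y.inv_mem hn)

/-- `Y / A` has exponent `q`. -/
theorem pow_mem_A : ∀ y ∈ Y, y ^ (qOf M K) ∈ A := by
  have hq : (qOf M K).Prime := h.hq
  haveI : Fact (qOf M K).Prime := ⟨hq⟩
  have hYN := h.Y_norm_A hD cf
  let X : Subgroup G :=
    { carrier := {y | y ∈ Y ∧ y ^ (qOf M K) ∈ A}
      one_mem' := ⟨Y.one_mem, by rw [one_pow]; exact A.one_mem⟩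
      mul_mem' := by
        rintro y₁ y₂ ⟨hy₁, h₁⟩ ⟨hy₂, h₂⟩
        refine ⟨Y.mul_mem hy₁ hy₂, ?_⟩
        have hn : (y₁ * y₂) ^ (qOf M K) ∈ normalizer (A : Set G) :=
          (normalizer (A : Set G)).pow_mem ((normalizer (A : Set G)).mul_mem (hYN hy₁) (hYN hy₂)) _
        rw [← proj_eq_one_iff hn]
        have hcomm : Commute (proj A ⟨y₁, hYN hy₁⟩) (proj A ⟨y₂, hYN hy₂⟩) :=
          (proj_comm_iff (hYN hy₁) (hYN hy₂)).mpr
            (h.comm_Y_Q hD cf y₁ hy₁ y₂ (h.Y_le_Q hD cf hy₂))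
        have e : proj A ⟨(y₁ * y₂) ^ (qOf M K), hn⟩ =
            (proj A ⟨y₁, hYN hy₁⟩ * proj A ⟨y₂, hYN hy₂⟩) ^ (qOf M K) := by
          rw [← map_mul, ← map_pow]
          rfl
        rw [e, hcomm.mul_pow, proj_pow, proj_pow, (proj_eq_one_iff _).mpr h₁,
          (proj_eq_one_iff _).mpr h₂, one_mul]
      inv_mem' := by
        rintro y ⟨hy, h₁⟩
        refine ⟨Y.inv_mem hy, ?_⟩
        rw [inv_pow]
        exact A.inv_mem h₁ }
  have hXY : X ≤ Y := fun y hy => hy.1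
  have hAX : A ≤ X := fun a ha => ⟨(h.A_lt_Y hD cf).le ha, A.pow_mem ha _⟩
  have hMX : M ≤ normalizer (X : Set G) := by
    intro m hm
    apply Cfsg.Agent.Lib.Helper1.mem_normalizer_of_forall_conj_mem
    rintro y ⟨hy, h₁⟩
    refine ⟨h.conj_mem_Y hD cf hm hy, ?_⟩
    rw [conj_pow]
    exact h.conj_mem_A hD cf hm h₁
  -- an element of `X` outside `A`
  obtain ⟨y₀, hy₀Y, hy₀A⟩ := SetLike.exists_of_lt (h.A_lt_Y hD cf)
  have hex : ∃ j : ℕ, y₀ ^ (qOf M K) ^ j ∈ A := by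
    obtain ⟨k, hk⟩ := (h.Q_isPGroup.to_le (h.Y_le_Q hD cf)) ⟨y₀, hy₀Y⟩
    refine ⟨k, ?_⟩
    have hk' : y₀ ^ (qOf M K) ^ k = 1 := by
      have := congrArg Subtype.val hk
      simpa using this
    rw [hk']
    exact A.one_mem
  classical
  have hj0 : Nat.find hex ≠ 0 := by
    intro h0
    have := Nat.find_spec hex
    rw [h0, pow_zero, pow_one] at this
    exact hy₀A this
  obtain ⟨j, hj⟩ := Nat.exists_eq_succ_of_ne_zero hj0
  have hjmin : y₀ ^ (qOf M K) ^ j ∉ A := Nat.find_min hex (by rw [hj]; exact Nat.lt_succ_self j)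
  have hjX : y₀ ^ (qOf M K) ^ j ∈ X := by
    refine ⟨Y.pow_mem hy₀Y _, ?_⟩
    rw [← pow_mul, ← pow_succ, ← Nat.succ_eq_add_one, ← hj]
    exact Nat.find_spec hex
  rcases h.Y_min hD cf hAX hXY hMX with hc | hc
  · exact absurd (hc ▸ hjX) hjmin
  · intro y hy
    have : y ∈ X := hc ▸ hy
    exact this.2

end Hyp

end Cfsg.Agent.Lib.Helper9.BG152
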