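/- helper9: B&G Theorem 15.2, part G: assembly of the structure of `Q / C_Q(D)` for a `K`-invariant
complement `D`, and transfer to an arbitrary complement. -/
import Mathlib
import Cfsg.Agent.Lib.Helper9.BG152F

set_option autoImplicit false
set_option linter.style.haveILetI false
set_option linter.unusedSectionVars false
open scoped commutatorElement Pointwise

namespace Cfsg.Agent.Lib.Helper9.BG152

open Subgroup Cfsg Cfsg.Agent.Lib.Helper24.BG36Nab
open Cfsg.Agent.Lib.Helper2.BGCor (le_normalizer_sigmaCore sigmaCore_le)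

variable {G : Type*} [Group G] [Finite G]

/-- the conclusion of Theorem 15.2 about one complement `D` of `Q` in `M_σ`. -/
def Concl (M K Q D : Subgroup G) : Prop :=
  Group.IsNilpotent D ∧ M ≤ normalizer ((Q ⊓ centralizer (D : Set G) : Subgroup G) : Set G) ∧
  Q ⊓ centralizer (D : Set G) < Q ∧
  Nat.card Q = Nat.card ↥(Q ⊓ centralizer (D : Set G)) *
    Nat.card ↥(sigmaCore M ⊓ centralizer (K : Set G)) ^ Nat.card K ∧
  (∀ a ∈ Q, ∀ b ∈ Q, a ^ Nat.card ↥(sigmaCore M ⊓ centralizer (K : Set G)) ∈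
      Q ⊓ centralizer (D : Set G) ∧
    a * b * a⁻¹ * b⁻¹ ∈ Q ⊓ centralizer (D : Set G)) ∧
  ∀ N : Subgroup G, Q ⊓ centralizer (D : Set G) < N → N < Q → ¬ M ≤ normalizer (N : Set G)

namespace Hyp

variable {M K U : Subgroup G} (h : Hyp M K U) {D : Subgroup G} (hD : DHyp M K D)
include h hD

/-- Theorem 15.2 for the `K`-invariant complement `D`, together with `|K|` prime. -/
theorem main_D : (Nat.card K).Prime ∧ Concl M K (QOf M K) D := by
  obtain ⟨A, Y, cf⟩ := h.exists_cf hD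
  have hA : QOf M K ⊓ centralizer (D : Set G) = A := h.cent_eq hD cf
  have hY : Y = QOf M K := h.Y_eq_Q hD cf
  obtain ⟨hKp, hcard, -, -, -⟩ := h.frob_data hD cf
  refine ⟨hKp, h.D_nil hD, ?_, ?_, ?_, ?_, ?_⟩
  · rw [hA]; exact h.M_norm_A hD cf
  · rw [hA]; have := h.A_lt_Y hD cf; rwa [hY] at this
  · rw [hA]
    have h1 := card_im_mul_card (h.A_lt_Y hD cf).le (h.Y_norm_A hD cf)
    rw [hcard, hY] at h1
    rw [← h1, mul_comm]
  · intro a ha b hb
    rw [hA]
    have ha' : a ∈ Y := by rw [hY]; exact ha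
    exact ⟨h.pow_mem_A hD cf a ha', h.comm_Y_Q hD cf a ha' b hb⟩
  · intro N hAN hNQ hMN
    rw [hA] at hAN
    have hNY : N ≤ Y := by rw [hY]; exact hNQ.le
    rcases h.Y_min hD cf hAN.le hNY hMN with h1 | h1
    · exact (ne_of_gt hAN) h1
    · rw [hY] at h1; exact (ne_of_lt hNQ) h1

/-- `C_Q(D') = C_Q(D)` for every complement `D'`. -/
theorem cent_compl_eq {D' : Subgroup G} (hD' : IsComplIn (QOf M K) D' (sigmaCore M)) :
    QOf M K ⊓ centralizer (D' : Set G) = QOf M K ⊓ centralizer (D : Set G) := by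
  obtain ⟨x, hxQ, hx⟩ := h.conj_compl hD hD'
  obtain ⟨-, -, hMA, -⟩ := h.main_D hD
  have hxM : x ∈ M := h.Q_le_M hxQ
  -- conjugation by `x` maps `C_Q(D')` onto `C_Q(D)`
  have key : ∀ y : G, y ∈ QOf M K ⊓ centralizer (D' : Set G) ↔
      x * y * x⁻¹ ∈ QOf M K ⊓ centralizer (D : Set G) := by
    intro y
    rw [mem_inf, mem_inf]
    constructor
    · rintro ⟨hyQ, hyC⟩
      refine ⟨(QOf M K).mul_mem ((QOf M K).mul_mem hxQ hyQ) ((QOf M K).inv_mem hxQ), ?_⟩
      rw [mem_centralizer_iff] at hyC ⊢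
      intro d hd
      rw [SetLike.mem_coe, ← hx, Cfsg.Agent.Lib.Helper1.mem_conj_smul_iff] at hd
      have h1 := hyC _ hd
      calc d * (x * y * x⁻¹) = x * ((x⁻¹ * d * x) * y) * x⁻¹ := by group
        _ = x * (y * (x⁻¹ * d * x)) * x⁻¹ := by rw [h1]
        _ = x * y * x⁻¹ * d := by group
    · rintro ⟨hyQ, hyC⟩
      have hyQ' : y ∈ QOf M K := by
        have := (QOf M K).mul_mem ((QOf M K).mul_mem ((QOf M K).inv_mem hxQ) hyQ) hxQ
        have e : x⁻¹ * (x * y * x⁻¹) * x = y := by group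
        rwa [e] at this
      refine ⟨hyQ', ?_⟩
      rw [mem_centralizer_iff] at hyC ⊢
      intro d hd
      have hd' : x * d * x⁻¹ ∈ D := by
        rw [← hx, Cfsg.Agent.Lib.Helper1.mem_conj_smul_iff]
        have e : x⁻¹ * (x * d * x⁻¹) * x = d := by group
        rw [e]; exact hd
      have h1 := hyC _ hd'
      calc d * y = x⁻¹ * ((x * d * x⁻¹) * (x * y * x⁻¹)) * x := by group
        _ = x⁻¹ * ((x * y * x⁻¹) * (x * d * x⁻¹)) * x := by rw [h1]
        _ = y * d := by group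
  ext y
  rw [key y]
  have hn := hMA hxM
  rw [mem_normalizer_iff] at hn
  exact (hn y).symm

/-- Theorem 15.2 for an arbitrary complement. -/
theorem main_compl {D' : Subgroup G} (hD' : IsComplIn (QOf M K) D' (sigmaCore M)) :
    Concl M K (QOf M K) D' := by
  obtain ⟨-, -, h2, h3, h4, h5, h6⟩ := h.main_D hD
  have e := h.cent_compl_eq hD hD'
  refine ⟨h.compl_nil hD hD', ?_, ?_, ?_, ?_, ?_⟩
  · rw [e]; exact h2
  · rw [e]; exact h3
  · rw [e]; exact h4
  · rw [e]; exact h5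
  · rw [e]; exact h6

end Hyp

end Cfsg.Agent.Lib.Helper9.BG152
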