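/- helper9: B&G Theorem 15.2, part H: the final statement (in terms of `hq`, the conclusion of
S1373). -/
import Mathlib
import Cfsg.Agent.Lib.Helper9.BG152G
import Cfsg.Agent.Lib.Helper1.BG152A

set_option autoImplicit false
set_option linter.style.haveILetI false
set_option linter.unusedSectionVars false
open scoped commutatorElement Pointwise

namespace Cfsg.Agent.Lib.Helper9.BG152

open Subgroup Cfsg Cfsg.Agent.Lib.Helper24.BG36Nab
open Cfsg.Agent.Lib.Helper2.BGCor (le_normalizer_sigmaCore sigmaCore_le)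

variable {G : Type*} [Group G] [Finite G]

namespace Hyp

variable {M K U : Subgroup G} (h : Hyp M K U)
include h

/-- `Q ≤ M_F`. -/
theorem Q_le_fittingHallOf : QOf M K ≤ fittingHallOf M :=
  Cfsg.Agent.Lib.Helper1.BG152.le_fittingHallOf h.Q_le_M h.M_le_normalizer_Q h.Q_nil h.Q_hall

/-- `q ∣ |M_F|`. -/
theorem q_dvd_fittingHallOf : qOf M K ∣ Nat.card (fittingHallOf M) :=
  (Subgroup.card_dvd_of_le h.C_le_Q).trans (Subgroup.card_dvd_of_le h.Q_le_fittingHallOf)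

/-- Theorem 15.2. -/
theorem thm15_2 :
    U = ⊥ ∧ sigmaCore M = ⁅M, M⁆ ∧ (Nat.card K).Prime ∧
    (Nat.card ↥(sigmaCore M ⊓ centralizer (K : Set G))).Prime ∧
    Nat.card ↥(sigmaCore M ⊓ centralizer (K : Set G)) ∣ Nat.card (fittingHallOf M) ∧
    Nat.card ↥(sigmaCore M ⊓ centralizer (K : Set G)) ∈ beta M ∧
    ∃ Q : Subgroup G, Q ≤ fittingHallOf M ∧ M ≤ normalizer (Q : Set G) ∧
      IsPGroup (Nat.card ↥(sigmaCore M ⊓ centralizer (K : Set G))) Q ∧
      ¬ Nat.card ↥(sigmaCore M ⊓ centralizer (K : Set G)) ∣ Q.relIndex (sigmaCore M) ∧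
      ∀ D : Subgroup G, IsComplIn Q D (sigmaCore M) → Concl M K Q D := by
  obtain ⟨D, hD⟩ := h.exists_dhyp
  refine ⟨h.U_bot, sigmaCore_eq_commutator h.hG h.hM h.hKU h.hnn, (h.main_D hD).1, h.hq,
    h.q_dvd_fittingHallOf, h.q_mem_beta hD, QOf M K, h.Q_le_fittingHallOf, h.M_le_normalizer_Q,
    h.Q_isPGroup, h.Q_sylow, fun D' hD' => h.main_compl hD hD'⟩

end Hyp

/-- Theorem 15.2 from the conclusion of S1373. -/
theorem thm15_2_of (hG : IsMinSimpleOddOrder G) {M K U : Subgroup G} (hM : IsCoatom M)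
    (hKU : IsSigmaDecomposition M K U) (hne : fittingHallOf M ≠ sigmaCore M)
    (h1373 : K ≠ ⊥ → U = ⊥ → (Nat.card ↥(sigmaCore M ⊓ centralizer (K : Set G))).Prime) :
    Hyp M K U := by
  have hnn := not_nilpotent hG hM hne
  exact ⟨hG, hM, hKU, hnn, h1373 (K_ne_bot hG hM hKU hnn) (U_eq_bot hG hM hKU hnn)⟩

end Cfsg.Agent.Lib.Helper9.BG152
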