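import Mathlib
import Cfsg.Prelude.Def_Blocks
import Cfsg.Agent.Lib.Helper6.Clifford

/-!
S4581 leaf (F7): two `P`-invariant functions on `V ⊴ G` that are `G`-conjugate are
`N_G(P)`-conjugate (Sylow's theorem inside the stabilizer).
-/

set_option autoImplicit false

namespace Cfsg.Agent.Lib.Helper9.RO

open Cfsg Cfsg.Agent.Lib.Helper6

universe u

/-- the stabilizer of a function on a normal subgroup under `conjFun`. -/
def stabFun {G : Type u} [Group G] (V : Subgroup G) [hV : V.Normal] (θ : V → ℂ) : Subgroup G where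
  carrier := {t | conjFun V t θ = θ}
  one_mem' := conjFun_one V θ
  mul_mem' := by
    intro a b ha hb
    simp only [Set.mem_setOf_eq] at ha hb ⊢
    rw [conjFun_mul, ha, hb]
  inv_mem' := by
    intro a ha
    simp only [Set.mem_setOf_eq] at ha ⊢
    have := conjFun_inv_conjFun V a θ
    rw [ha] at this
    exact this

theorem mem_stabFun {G : Type u} [Group G] (V : Subgroup G) [hV : V.Normal] (θ : V → ℂ) (t : G) :
    t ∈ stabFun V θ ↔ conjFun V t θ = θ := Iff.rfl

/-- (F7) two `P`-invariant functions on `V ⊴ G` that are `G`-conjugate are `N_G(P)`-conjugate. -/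
theorem exists_normalizer_conj {G : Type u} [Group G] [Finite G] (P : Sylow 2 G) (V : Subgroup G)
    [hV : V.Normal] (θ θ' : V → ℂ)
    (hθ : ∀ g ∈ (P : Subgroup G), conjFun V g θ = θ)
    (hθ' : ∀ g ∈ (P : Subgroup G), conjFun V g θ' = θ')
    (g : G) (hg : conjFun V g θ = θ') :
    ∃ n ∈ Subgroup.normalizer ((P : Subgroup G) : Set G), conjFun V n θ = θ' := by
  classical
  set T := stabFun V θ' with hT
  have hginv : conjFun V g⁻¹ θ' = θ := by
    rw [← hg]; exact conjFun_inv_conjFun V g θ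
  have hPT : (P : Subgroup G) ≤ T := fun x hx => hθ' x hx
  -- the conjugate Sylow subgroup `Q = g⁻¹ P g`
  have hQT : ((g⁻¹ • P : Sylow 2 G) : Subgroup G) ≤ T := by
    intro y hy
    rw [Sylow.coe_subgroup_smul, Subgroup.mem_smul_pointwise_iff_exists] at hy
    obtain ⟨x, hx, rfl⟩ := hy
    rw [hT, mem_stabFun]
    simp only [MulAut.smul_def, MulAut.conj_apply, inv_inv]
    rw [conjFun_mul, conjFun_mul, hginv, hθ _ hx, hg]
  -- Sylow in `T`
  obtain ⟨t, ht⟩ := MulAction.exists_smul_eq (↥T) ((g⁻¹ • P : Sylow 2 G).subtype hQT)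
    (P.subtype hPT)
  rw [Sylow.smul_subtype] at ht
  have ht2 : t • (g⁻¹ • P : Sylow 2 G) = P := Sylow.subtype_injective ht
  have ht3 : ((t : G) * g⁻¹) • P = P := by
    rw [mul_smul]; exact ht2
  have hmem : (t : G) * g⁻¹ ∈ Subgroup.normalizer ((P : Subgroup G) : Set G) :=
    Sylow.smul_eq_iff_mem_normalizer.mp ht3
  refine ⟨g * (t : G)⁻¹, ?_, ?_⟩
  · have := (Subgroup.normalizer ((P : Subgroup G) : Set G)).inv_mem hmem
    simpa [mul_inv_rev] using this
  · rw [conjFun_mul, hg]
    have : (t : G)⁻¹ ∈ T := T.inv_mem t.2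
    exact this

end Cfsg.Agent.Lib.Helper9.RO
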