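/-
helper9: S4642 leaf (EQK): two characters over the `G`-invariant `θ` have the same central character on `K`.
-/
import Mathlib
import Cfsg.Prelude.Def_BrauerPairs
import Cfsg.Agent.Lib.Helper2.FongPTDefs
import Cfsg.Agent.Lib.Helper6.KnoerrGen
import Cfsg.Agent.Lib.Helper6.Fong
import Cfsg.Agent.Lib.Helper6.MinMax
import Cfsg.Agent.Lib.Helper6.Clifford

set_option autoImplicit false
set_option linter.unusedSectionVars false

namespace Cfsg.Agent.Lib.Helper9.FPTEQK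

open Cfsg Cfsg.Agent.CharLib Cfsg.Agent.Lib.Helper24 Cfsg.Agent.Lib.Helper23
  Cfsg.Agent.Lib.Helper6 Cfsg.Agent.Lib.Helper2.FongPT
open scoped ComplexConjugate

universe u

variable {G : Type u} [Group G] [Fintype G] {p : ℕ} [hpp : Fact p.Prime] {M : Ideal AlgInt}

/-- the ratio `χ(g)/χ(1)` on `K` for `χ` over the invariant `θ`. -/
theorem div_eq_of_mem (K : Subgroup G) [hKn : K.Normal] [Fintype K] (θ : IrrCharacter K)
    (hθ : ∀ g : G, IsConjCharOf K g (θ : K → ℂ) (θ : K → ℂ))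
    (χ : IrrCharacter G) (hχ : χ ∈ irrOver K (θ : K → ℂ)) (g : G) (hg : g ∈ K) :
    (χ : G → ℂ) g / (χ : G → ℂ) 1 = (θ : K → ℂ) ⟨g, hg⟩ / (θ : K → ℂ) 1 := by
  have hinv : ∀ x : G, conjFun K x (θ : K → ℂ) = (θ : K → ℂ) := by
    intro x
    funext h
    rw [conjFun_apply]
    exact hθ x h ⟨x * h * x⁻¹, hKn.conj_mem h h.2 x⟩ rfl
  have hc : classInner (resFun K (χ : G → ℂ)) (θ : K → ℂ) ≠ 0 := hχ
  have hcl := clifford_of_invariant K χ.2 θ.2 hc hinv
  have h1 : (χ : G → ℂ) g = classInner (resFun K (χ : G → ℂ)) (θ : K → ℂ) * (θ : K → ℂ) ⟨g, hg⟩ := by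
    have := congrFun hcl ⟨g, hg⟩
    rw [resFun_apply, Pi.smul_apply, smul_eq_mul] at this
    exact this
  have h2 : (χ : G → ℂ) 1 = classInner (resFun K (χ : G → ℂ)) (θ : K → ℂ) * (θ : K → ℂ) 1 := by
    have := congrFun hcl 1
    rw [resFun_apply, Pi.smul_apply, smul_eq_mul] at this
    exact this
  rw [h1, h2, mul_div_mul_left _ _ hc]

/-- (EQK) Two characters over the `G`-invariant `θ` have the same central character on `K`. -/
theorem centralChar_eq_of_mem (K : Subgroup G) [hKn : K.Normal] [Fintype K] (θ : IrrCharacter K)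
    (hθ : ∀ g : G, IsConjCharOf K g (θ : K → ℂ) (θ : K → ℂ))
    (χ ψ : IrrCharacter G) (hχ : χ ∈ irrOver K (θ : K → ℂ)) (hψ : ψ ∈ irrOver K (θ : K → ℂ))
    (g : G) (hg : g ∈ K) :
    centralChar (χ : G → ℂ) g = centralChar (ψ : G → ℂ) g := by
  unfold centralChar
  rw [mul_div_assoc, mul_div_assoc, div_eq_of_mem K θ hθ χ hχ g hg, div_eq_of_mem K θ hθ ψ hψ g hg]

end Cfsg.Agent.Lib.Helper9.FPTEQK
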