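/-
helper9: S4642 leaf (VAN): min-max - the central character vanishes mod the local ideal at classes not
centralized by a defect group.
-/
import Mathlib
import Cfsg.Prelude.Def_BrauerPairs
import Cfsg.Agent.Lib.Helper2.FongPTDefs
import Cfsg.Agent.Lib.Helper6.KnoerrGen
import Cfsg.Agent.Lib.Helper6.Fong
import Cfsg.Agent.Lib.Helper6.MinMax

set_option autoImplicit false
set_option linter.unusedSectionVars false

namespace Cfsg.Agent.Lib.Helper9.FPTVAN

open Cfsg Cfsg.Agent.CharLib Cfsg.Agent.Lib.Helper24 Cfsg.Agent.Lib.Helper23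
  Cfsg.Agent.Lib.Helper6 Cfsg.Agent.Lib.Helper2.FongPT
open scoped ComplexConjugate

universe u

variable {G : Type u} [Group G] [Fintype G] {p : ℕ} [hpp : Fact p.Prime] {M : Ideal AlgInt}

/-- (VAN) min-max: if no conjugate of `g` is centralized by the defect group `P` of the block of
`χ`, then the central character of `χ` at `g` lies in the local ideal. -/
theorem memLocalIdeal_centralChar_of_defect (hM : IsPModular p M) (χ : IrrCharacter G)
    (P : Subgroup G) (hP : IsDefectGroup p M (blockOf M (χ : G → ℂ)) P) (g : G)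
    (hg : ∀ g' : G, IsConj g g' → ¬ P ≤ Subgroup.centralizer ({g'} : Set G)) :
    MemLocalIdeal M (centralChar (χ : G → ℂ) g) := by
  by_contra hω
  obtain ⟨l, hl, S, hS⟩ := hP
  have hcle := centLE_of_blockCoeff hM χ g hω l hl.2.1
  have hPp : IsPGroup p P := by
    rw [hS]
    exact S.isPGroup'.map _
  have hPl : P ≤ Subgroup.centralizer ({l} : Set G) := by
    rw [hS]
    exact Subgroup.map_subtype_le _
  obtain ⟨g', hg', hPg'⟩ := hcle P hPp hPl
  exact hg g' hg' hPg'

end Cfsg.Agent.Lib.Helper9.FPTVAN
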