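/-
helper9: S4539 leaf (ALG0) `card_le_of_rank_one` (planner helper27, statement frozen in
`notes/S4539_leaves.lean`).
-/
import Cfsg.Agent.Lib.Helper27.MajSubDefs
import Cfsg.Agent.Lib.Helper6.DefectOrder

set_option autoImplicit false

namespace Cfsg.Agent.Lib.Helper9.MajSubALG0

open Cfsg Cfsg.Agent.CharLib Cfsg.Agent.Lib.Helper24 Cfsg.Agent.Lib.Helper6 Cfsg.Agent.Lib.Helper23
open Cfsg.Agent.Lib.Helper23.Subsec Cfsg.Agent.Lib.Helper27.MajSub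
open scoped ComplexConjugate

universe u w

section ALG

variable {M : Ideal AlgInt} {p : ℕ} [hpp : Fact p.Prime]

/-- (ALG0) rank one: all `x i 0 ≠ 0` by (5H), `k ≤ ∑ |x|² = Cm 0 0 ∣ p^d` (Galois AM-GM,
`card_gal_le_sum_norm_sq_local` with `j = 0`). -/
theorem card_le_of_rank_one (hM : IsPModular p M) (K : Type w) [Field K] [Algebra ℚ K]
    [FiniteDimensional ℚ K] [IsGalois ℚ K] (φ : K →+* ℂ) {ι : Type*} [Fintype ι]
    (h : ι → ℕ) (i₀ : ι) (hi₀ : h i₀ = 0)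
    (x : ι → Fin 1 → K) (hx : ∀ i a, IsIntegral ℤ (x i a)) (d : ℕ)
    (Cm C' : Matrix (Fin 1) (Fin 1) ℤ)
    (hCC' : Cm * C' = ((p : ℤ) ^ d) • (1 : Matrix (Fin 1) (Fin 1) ℤ))
    (hgram : ∀ σ : K ≃ₐ[ℚ] K, ∀ a b : Fin 1,
      ∑ i, conj (φ (σ (x i a))) * φ (σ (x i b)) = (Cm a b : ℂ))
    (h5H : ∀ σ : K ≃ₐ[ℚ] K, ∀ i, h i = 0 → ∀ j,
      LocUnit M ((∑ a, ∑ b, φ (σ (x i a)) * (C' a b : ℂ) * conj (φ (σ (x j b)))) /
          (p : ℂ) ^ h j) ∧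
        LocUnit M ((∑ a, ∑ b, φ (σ (x j a)) * (C' a b : ℂ) * conj (φ (σ (x i b)))) /
          (p : ℂ) ^ h j)) :
    Fintype.card ι ≤ p ^ d := by
  classical
  have hprime : M.IsPrime := isPrime_of_isPModular hM
  have hp : p.Prime := hpp.out
  -- every `x i 0` is nonzero
  have hne : ∀ i, x i 0 ≠ 0 := by
    intro i h0
    have h1 := (h5H AlgEquiv.refl i₀ hi₀ i).1
    apply h1.2
    have h2 : (∑ a : Fin 1, ∑ b : Fin 1, φ ((AlgEquiv.refl : K ≃ₐ[ℚ] K) (x i₀ a)) * (C' a b : ℂ) *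
        conj (φ ((AlgEquiv.refl : K ≃ₐ[ℚ] K) (x i b)))) / (p : ℂ) ^ h i = 0 := by
      simp [h0]
    rw [h2]
    exact memLocalIdeal_zero hprime.one_notMem
  -- the Galois AM-GM bound for each `i`
  have hlow : ∀ i, (Fintype.card (K ≃ₐ[ℚ] K) : ℝ) ≤
      ∑ σ : K ≃ₐ[ℚ] K, ‖φ (σ (x i 0))‖ ^ 2 := by
    intro i
    have h2 := card_gal_le_sum_norm_sq_local hM K φ (x i 0) (hx i 0) (hne i) 0 (fun σ => by
      rw [pow_zero, div_one]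
      have h3 : IsIntegral ℤ (σ (x i 0)) := by
        have := (hx i 0).map (σ : K →ₐ[ℚ] K).toRingHom.toIntAlgHom
        simpa using this
      have h4 : IsIntegral ℤ (φ (σ (x i 0))) := by
        have := h3.map φ.toIntAlgHom
        simpa using this
      exact memLocalRing_of_algInt (M := M) ⟨_, h4⟩ hprime.one_notMem)
    refine le_trans h2 (le_of_eq ?_)
    apply Finset.sum_congr rfl
    intro σ _
    rw [pow_zero, div_one]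
  -- the gram sum
  have hsum : ∀ σ : K ≃ₐ[ℚ] K, ∑ i, ‖φ (σ (x i 0))‖ ^ 2 = (Cm 0 0 : ℝ) := by
    intro σ
    have h1 := hgram σ 0 0
    have h2 : ((∑ i, ‖φ (σ (x i 0))‖ ^ 2 : ℝ) : ℂ) = ((Cm 0 0 : ℝ) : ℂ) := by
      rw [show (((Cm 0 0 : ℤ) : ℝ) : ℂ) = ((Cm 0 0 : ℤ) : ℂ) by push_cast; rfl, ← h1]
      push_cast
      apply Finset.sum_congr rfl
      intro i _
      rw [mul_comm, Complex.mul_conj, Complex.normSq_eq_norm_sq]
      push_cast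
      rfl
    exact_mod_cast h2
  have hgal : 0 < (Fintype.card (K ≃ₐ[ℚ] K) : ℝ) := by
    have : 0 < Fintype.card (K ≃ₐ[ℚ] K) := Fintype.card_pos
    exact_mod_cast this
  have hcard : (Fintype.card ι : ℝ) * (Fintype.card (K ≃ₐ[ℚ] K) : ℝ) ≤
      (Fintype.card (K ≃ₐ[ℚ] K) : ℝ) * (Cm 0 0 : ℝ) := by
    calc (Fintype.card ι : ℝ) * (Fintype.card (K ≃ₐ[ℚ] K) : ℝ)
        = ∑ _i : ι, (Fintype.card (K ≃ₐ[ℚ] K) : ℝ) := by
          rw [Finset.sum_const, Finset.card_univ, nsmul_eq_mul]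
      _ ≤ ∑ i : ι, ∑ σ : K ≃ₐ[ℚ] K, ‖φ (σ (x i 0))‖ ^ 2 :=
          Finset.sum_le_sum (fun i _ => hlow i)
      _ = ∑ σ : K ≃ₐ[ℚ] K, ∑ i : ι, ‖φ (σ (x i 0))‖ ^ 2 := Finset.sum_comm
      _ = ∑ _σ : K ≃ₐ[ℚ] K, (Cm 0 0 : ℝ) := Finset.sum_congr rfl (fun σ _ => hsum σ)
      _ = (Fintype.card (K ≃ₐ[ℚ] K) : ℝ) * (Cm 0 0 : ℝ) := by
          rw [Finset.sum_const, Finset.card_univ, nsmul_eq_mul]
  have hle : (Fintype.card ι : ℝ) ≤ (Cm 0 0 : ℝ) := by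
    have h1 : (Fintype.card (K ≃ₐ[ℚ] K) : ℝ) * (Fintype.card ι : ℝ) ≤
        (Fintype.card (K ≃ₐ[ℚ] K) : ℝ) * (Cm 0 0 : ℝ) := by
      rw [mul_comm]; exact hcard
    exact le_of_mul_le_mul_left h1 hgal
  have hleZ : (Fintype.card ι : ℤ) ≤ Cm 0 0 := by exact_mod_cast hle
  have hpos : 0 < Cm 0 0 := by
    have : 0 < Fintype.card ι := Fintype.card_pos_iff.mpr ⟨i₀⟩
    have h1 : (0 : ℤ) < (Fintype.card ι : ℤ) := by exact_mod_cast this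
    exact lt_of_lt_of_le h1 hleZ
  -- `Cm 0 0 * C' 0 0 = p^d`
  have hmul : Cm 0 0 * C' 0 0 = (p : ℤ) ^ d := by
    have h1 := congrFun (congrFun hCC' 0) 0
    simpa [Matrix.mul_apply, Fin.sum_univ_one] using h1
  have hdvd : Cm 0 0 ∣ (p : ℤ) ^ d := ⟨C' 0 0, hmul.symm⟩
  have hle2 : Cm 0 0 ≤ (p : ℤ) ^ d :=
    Int.le_of_dvd (pow_pos (by exact_mod_cast hp.pos) d) hdvd
  have hfin : (Fintype.card ι : ℤ) ≤ (p : ℤ) ^ d := le_trans hleZ hle2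
  exact_mod_cast hfin

end ALG

end Cfsg.Agent.Lib.Helper9.MajSubALG0
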