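/-
Helper9 library: normal closure of a centreless component is a minimal normal subgroup;
when `F(G) = 1` the layer is the socle.
-/
import Cfsg.Agent.Lib.Helper9.FStar3
import Cfsg.Agent.Lib.Helper9.FStar2
import Cfsg.Agent.Lib.Helper9.Transport
import Cfsg.Agent.Lib.Helper16.Large2

set_option autoImplicit false

namespace Cfsg.Agent.Lib.Helper9

variable {G : Type*} [Group G]

/-- In a central product of finitely many subgroups each of which has trivial centre
(expressed as `H i ⊓ C_G(H i) = ⊥`), an element centralizing every factor is trivial. -/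
theorem eq_one_of_mem_iSup_of_commute {ι : Type*} [Fintype ι] [DecidableEq ι] {H : ι → Subgroup G}
    (hcomm : Pairwise fun i j => ∀ x y : G, x ∈ H i → y ∈ H j → Commute x y)
    (hZ : ∀ i, H i ⊓ Subgroup.centralizer (H i : Set G) = ⊥)
    {z : G} (hz : z ∈ ⨆ i, H i) (hzc : ∀ i, z ∈ Subgroup.centralizer (H i : Set G)) : z = 1 := by
  rw [← Subgroup.noncommPiCoprod_range (hcomm := hcomm)] at hz
  obtain ⟨u, rfl⟩ := hz
  have hu : u = 1 := by
    funext j
    have hdec : u = Pi.mulSingle j (u j) * Function.update u j 1 := by
      funext i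
      by_cases hij : i = j
      · subst hij; simp
      · simp [hij]
    have hw : ∀ x ∈ H j, Commute x (Subgroup.noncommPiCoprod hcomm (Function.update u j 1)) := by
      intro x hx
      rw [Subgroup.noncommPiCoprod_apply]
      apply Finset.noncommProd_commute
      intro i _
      by_cases hij : i = j
      · subst hij; simp
      · rw [Function.update_of_ne hij]
        exact (hcomm hij _ _ (u i).2 hx).symm
    have hprod : Subgroup.noncommPiCoprod hcomm u =
        (u j : G) * Subgroup.noncommPiCoprod hcomm (Function.update u j 1) := by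
      conv_lhs => rw [hdec]
      rw [map_mul, Subgroup.noncommPiCoprod_mulSingle]
    have hmem : (u j : G) ∈ H j ⊓ Subgroup.centralizer (H j : Set G) := by
      refine Subgroup.mem_inf.mpr ⟨(u j).2, ?_⟩
      rw [Subgroup.mem_centralizer_iff]
      intro x hx
      have h1 := (Subgroup.mem_centralizer_iff.mp (hzc j)) x hx
      rw [hprod] at h1
      have h2 := (hw x hx).eq
      set w := Subgroup.noncommPiCoprod hcomm (Function.update u j 1)
      calc x * (u j : G) = x * ((u j : G) * w) * w⁻¹ := by group
        _ = (u j : G) * w * x * w⁻¹ := by rw [h1]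
        _ = (u j : G) * (w * x) * w⁻¹ := by group
        _ = (u j : G) * (x * w) * w⁻¹ := by rw [h2]
        _ = (u j : G) * x := by group
    rw [hZ j, Subgroup.mem_bot] at hmem
    exact Subtype.ext hmem
  rw [hu, map_one]

/-- Conjugation preserves `K ⊓ C_G(K) = ⊥`. -/
theorem map_conj_inf_centralizer_eq_bot {K : Subgroup G} (g : G)
    (h : K ⊓ Subgroup.centralizer (K : Set G) = ⊥) :
    K.map (MulAut.conj g).toMonoidHom ⊓
      Subgroup.centralizer ((K.map (MulAut.conj g).toMonoidHom : Subgroup G) : Set G) = ⊥ := by
  rw [eq_bot_iff]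
  intro x hx
  obtain ⟨hx1, hx2⟩ := Subgroup.mem_inf.mp hx
  obtain ⟨k, hk, rfl⟩ := hx1
  have hk' : k ∈ K ⊓ Subgroup.centralizer (K : Set G) := by
    refine Subgroup.mem_inf.mpr ⟨hk, ?_⟩
    rw [Subgroup.mem_centralizer_iff]
    intro y hy
    have h1 := Subgroup.mem_centralizer_iff.mp hx2 (MulAut.conj g y) ⟨y, hy, rfl⟩
    apply (MulAut.conj g).injective
    simpa using h1
  rw [h, Subgroup.mem_bot] at hk'
  rw [hk']
  simp

/-- **Part (a).** The normal closure of a component with trivial centre is a minimal normal
subgroup. -/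
theorem normalClosure_component_minimal [Finite G] {K : Subgroup G} (hK : Cfsg.IsComponent K)
    (hZ : Subgroup.center ↥K = ⊥) :
    Subgroup.normalClosure (K : Set G) ≠ ⊥ ∧ ∀ N : Subgroup G, N.Normal →
      N ≤ Subgroup.normalClosure (K : Set G) → N = ⊥ ∨ N = Subgroup.normalClosure (K : Set G) := by
  classical
  have hKZ : K ⊓ Subgroup.centralizer (K : Set G) = ⊥ := by
    rw [← map_subtype_center, hZ, Subgroup.map_bot]
  have hKle : K ≤ Subgroup.normalClosure (K : Set G) := Subgroup.le_normalClosure
  constructor
  · intro h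
    rw [h] at hKle
    have := IsQuasisimple_nontrivial hK.2
    obtain ⟨x, hx⟩ := exists_ne (1 : ↥K)
    apply hx
    apply Subtype.ext
    exact Subgroup.mem_bot.mp (hKle x.2)
  · intro N hN hNle
    by_cases hKN : K ≤ N
    · right
      exact le_antisymm hNle (Subgroup.normalClosure_le_normal hKN)
    · left
      let ι := {L : Subgroup G // ∃ g : G, L = K.map (MulAut.conj g).toMonoidHom}
      have : Fintype ι := Fintype.ofFinite ι
      let H : ι → Subgroup G := fun i => i.1
      have hcomp : ∀ i : ι, Cfsg.IsComponent (H i) := by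
        rintro ⟨L, g, rfl⟩
        exact isComponent_map_equiv (MulAut.conj g) hK
      have hHZ : ∀ i : ι, H i ⊓ Subgroup.centralizer (H i : Set G) = ⊥ := by
        rintro ⟨L, g, rfl⟩
        exact map_conj_inf_centralizer_eq_bot g hKZ
      have hcomm : Pairwise fun i j : ι => ∀ x y : G, x ∈ H i → y ∈ H j → Commute x y := by
        intro i j hij x y hx hy
        have hne : H i ≠ H j := fun h => hij (Subtype.ext h)
        have h1 := components_commute (H i) (H j) (hcomp i) (hcomp j) hne
        rw [Subgroup.commutator_eq_bot_iff_le_centralizer] at h1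
        exact (Subgroup.mem_centralizer_iff.mp (h1 hx) y hy).symm
      have hNC : ∀ i : ι, N ≤ Subgroup.centralizer (H i : Set G) := by
        rintro ⟨L, g, rfl⟩
        have hc := hcomp ⟨_, g, rfl⟩
        rcases component_le_or_commutator_eq_bot _ N hc hN.isSubnormal with h | h
        · exfalso
          apply hKN
          intro k hk
          have h1 : MulAut.conj g k ∈ N := h ⟨k, hk, rfl⟩
          have h2 := hN.conj_mem _ h1 g⁻¹
          simpa [mul_assoc] using h2
        · rw [Subgroup.commutator_comm, Subgroup.commutator_eq_bot_iff_le_centralizer] at h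
          exact h
      have hX : Subgroup.normalClosure (K : Set G) ≤ ⨆ i, H i := by
        unfold Subgroup.normalClosure
        rw [Subgroup.closure_le]
        intro a ha
        rw [Group.mem_conjugatesOfSet_iff] at ha
        obtain ⟨x, hx, hxa⟩ := ha
        obtain ⟨c, hc⟩ := isConj_iff.mp hxa
        have : a ∈ H ⟨K.map (MulAut.conj c).toMonoidHom, c, rfl⟩ := ⟨x, hx, by simpa using hc⟩
        exact (le_iSup H _) this
      rw [eq_bot_iff]
      intro z hz
      rw [Subgroup.mem_bot]
      exact eq_one_of_mem_iSup_of_commute hcomm hHZ (hX (hNle hz)) (fun i => hNC i hz)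

/-- When `F(G) = 1`, every component has trivial centre. -/
theorem component_center_eq_bot_of_fittingSubgroup_eq_bot [Finite G]
    (hF : Cfsg.fittingSubgroup G = ⊥) {K : Subgroup G} (hK : Cfsg.IsComponent K) :
    Subgroup.center ↥K = ⊥ := by
  have hZsn : (K ⊓ Subgroup.centralizer (K : Set G)).IsSubnormal := by
    apply isSubnormal_of_le_normalizer inf_le_left hK.1
    intro x hx
    have h1 : x ∈ Subgroup.normalizer (K : Set G) := Subgroup.le_normalizer hx
    exact mem_normalizer_inf h1
      (Cfsg.Agent.Lib.Helper16.normalizer_le_normalizer_centralizer K h1)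
  have hZn : Group.IsNilpotent ↥(K ⊓ Subgroup.centralizer (K : Set G)) := by
    apply isNilpotent_of_le_centralizer
    intro x hx
    exact Subgroup.centralizer_le (by intro y hy; exact (Subgroup.mem_inf.mp hy).1)
      (Subgroup.mem_inf.mp hx).2
  have h := le_fittingSubgroup_of_subnormal_of_isNilpotent hZsn hZn
  rw [hF, le_bot_iff, ← map_subtype_center] at h
  exact (Subgroup.map_eq_bot_iff_of_injective _ K.subtype_injective).mp h

/-- **Part (b).** When `F(G) = 1`, the layer is generated by the minimal normal subgroups. -/
theorem sSup_minimal_normal_eq_layer [Finite G] (hF : Cfsg.fittingSubgroup G = ⊥) :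
    sSup {N : Subgroup G | N ≠ ⊥ ∧ N.Normal ∧
      ∀ N' : Subgroup G, N'.Normal → N' ≤ N → N' = ⊥ ∨ N' = N} = Cfsg.layer G := by
  apply le_antisymm
  · apply sSup_le
    rintro N ⟨hN0, hN, hmin⟩
    have := hN
    have hE : (Cfsg.layer G).Normal := inferInstance
    rcases hmin (N ⊓ Cfsg.layer G) inferInstance inf_le_left with h | h
    · exfalso
      apply hN0
      have h1 : ⁅N, Cfsg.layer G⁆ = ⊥ := by
        rw [eq_bot_iff, ← h]
        exact Subgroup.commutator_le_inf N (Cfsg.layer G)
      rw [Subgroup.commutator_eq_bot_iff_le_centralizer] at h1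
      have hFs : Cfsg.generalizedFittingSubgroup G = Cfsg.layer G := by
        unfold Cfsg.generalizedFittingSubgroup
        rw [hF, sup_bot_eq]
      have h2 : N ≤ Cfsg.layer G := by
        have h3 := centralizer_generalizedFittingSubgroup_le (G := G)
        rw [hFs] at h3
        exact h1.trans h3
      rw [eq_bot_iff, ← h]
      exact le_inf le_rfl h2
    · rw [← h]; exact inf_le_right
  · apply layer_le_of_forall_component_le
    intro K hK
    have hZ := component_center_eq_bot_of_fittingSubgroup_eq_bot hF hK
    obtain ⟨h0, hmin⟩ := normalClosure_component_minimal hK hZ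
    exact (Subgroup.le_normalClosure).trans
      (le_sSup ⟨h0, Subgroup.normalClosure_normal, hmin⟩)

end Cfsg.Agent.Lib.Helper9
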