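/-
helper9: S4411 leaf (B1) `b1`: a `{p,q}`-group with `{p,q} ≠ {2,3}` is Thompson factorizable.
-/
import Mathlib
import Cfsg.Prelude.Def_Solvable
import Cfsg.Prelude.Def_Local
import Cfsg.Prelude.Def_Transfer
import Cfsg.Prelude.Def_PLocal
import Cfsg.Agent.Lib.Helper26.AUTQDefs
import Cfsg.Agent.S0144
import Cfsg.Agent.S0618
import Cfsg.Agent.S0609
import Cfsg.Agent.Lib.Helper25.PSolvableOfSolvable
import Cfsg.Agent.Lib.Helper24.PSolvable

set_option autoImplicit false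

namespace Cfsg.Agent.Lib.Helper9.AUTQB1

open Cfsg Cfsg.Agent.Lib.Helper26.AUTQ

universe u

/-- `SL(2, 𝔽₂)` has an element of order `3`. -/
theorem three_dvd_card_sl2_two : 3 ∣ Nat.card (Matrix.SpecialLinearGroup (Fin 2) (ZMod 2)) := by
  let g : Matrix.SpecialLinearGroup (Fin 2) (ZMod 2) :=
    ⟨!![0, 1; 1, 1], by rw [Matrix.det_fin_two_of]; decide⟩
  have h3 : g ^ 3 = 1 := by
    ext i j
    fin_cases i <;> fin_cases j <;>
      simp [g] <;> decide
  have hne : g ≠ 1 := by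
    intro h
    have := congrArg (fun m : Matrix.SpecialLinearGroup (Fin 2) (ZMod 2) => (m : Matrix (Fin 2) (Fin 2) (ZMod 2)) 0 0) h
    simp [g] at this
  have ho : orderOf g = 3 := orderOf_eq_prime h3 hne
  have h := orderOf_dvd_natCard g
  rwa [ho] at h

/-- `SL(2, 𝔽₃)` has an element of order `2`. -/
theorem two_dvd_card_sl2_three : 2 ∣ Nat.card (Matrix.SpecialLinearGroup (Fin 2) (ZMod 3)) := by
  let g : Matrix.SpecialLinearGroup (Fin 2) (ZMod 3) :=
    ⟨!![2, 0; 0, 2], by rw [Matrix.det_fin_two_of]; decide⟩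
  have h2 : g ^ 2 = 1 := by
    ext i j
    fin_cases i <;> fin_cases j <;>
      simp [g] <;> decide
  have hne : g ≠ 1 := by
    intro h
    have := congrArg (fun m : Matrix.SpecialLinearGroup (Fin 2) (ZMod 3) => (m : Matrix (Fin 2) (Fin 2) (ZMod 3)) 0 0) h
    simp [g] at this
    exact absurd this (by decide)
  have ho : orderOf g = 2 := orderOf_eq_prime h2 hne
  have h := orderOf_dvd_natCard g
  rwa [ho] at h

/-- a prime `s` dividing `p ^ a * q ^ b` is `p` or `q` -/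
theorem prime_eq_of_dvd_pq {p q s a b : ℕ} (hp : p.Prime) (hq : q.Prime) (hs : s.Prime)
    (h : s ∣ p ^ a * q ^ b) : s = p ∨ s = q := by
  rcases (Nat.Prime.dvd_mul hs).mp h with h | h
  · left; exact (Nat.prime_dvd_prime_iff_eq hs hp).mp (hs.dvd_of_dvd_pow h)
  · right; exact (Nat.prime_dvd_prime_iff_eq hs hq).mp (hs.dvd_of_dvd_pow h)

/-- **TAG B1** -/
theorem b1 {X : Type u} [Group X] [Finite X] (p q : ℕ) [Fact p.Prime] [Fact q.Prime] (hpq : p ≠ q)
    (h23 : ¬ ((p = 2 ∧ q = 3) ∨ (p = 3 ∧ q = 2))) (a b : ℕ) (hcard : Nat.card X = p ^ a * q ^ b) :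
    Cfsg.IsThompsonFactorizable p X := by
  have hp : p.Prime := Fact.out
  have hq : q.Prime := Fact.out
  rw [Cfsg.Agent.S0609.result]
  by_contra hnf
  have hsolvX : Group.IsSolvable X := Cfsg.Agent.S0144.result p q a b hp hq hcard
  have hsolvY : Group.IsSolvable (X ⧸ Cfsg.pPrimeCore p X) :=
    Group.isSolvable_of_surjective (QuotientGroup.mk'_surjective (Cfsg.pPrimeCore p X))
  have hpsolv : Cfsg.IsPSolvable p (X ⧸ Cfsg.pPrimeCore p X) :=
    Cfsg.Agent.Lib.Helper25.isPSolvable_of_isSolvable' p hp hsolvY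
  have hO : Cfsg.pPrimeCore p (X ⧸ Cfsg.pPrimeCore p X) = ⊥ :=
    Cfsg.Agent.Lib.Helper24.pPrimeCore_quotient_eq_bot' (G := X) p
  obtain ⟨h23', E, -, -, -, hn, ⟨e⟩⟩ := Cfsg.Agent.S0618.result hpsolv hO hnf
  have hdvd : Nat.card (Matrix.SpecialLinearGroup (Fin 2) (ZMod p)) ∣ p ^ a * q ^ b := by
    rw [← hcard, ← Nat.card_congr e.toEquiv]
    exact ((Subgroup.card_quotient_dvd_card _).trans (Subgroup.card_subgroup_dvd_card E)).trans
      (Subgroup.card_quotient_dvd_card _)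
  rcases h23' with rfl | rfl
  · have h3 : 3 ∣ 2 ^ a * q ^ b := three_dvd_card_sl2_two.trans hdvd
    rcases prime_eq_of_dvd_pq hp hq Nat.prime_three h3 with h | h
    · omega
    · exact h23 (Or.inl ⟨rfl, h.symm⟩)
  · have h2 : 2 ∣ 3 ^ a * q ^ b := two_dvd_card_sl2_three.trans hdvd
    rcases prime_eq_of_dvd_pq hp hq Nat.prime_two h2 with h | h
    · omega
    · exact h23 (Or.inr ⟨rfl, h.symm⟩)

end Cfsg.Agent.Lib.Helper9.AUTQB1
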