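/-
helper9: S4561 leaf (Q2) `mk_mem_center_iff` (planner helper21, `notes/S4561_leaves.lean`).
-/
import Mathlib
import Cfsg.Agent.Lib.Helper21.GagDefs

set_option autoImplicit false

namespace Cfsg.Agent.Lib.Helper9.GagQ2

open RegularWreathProduct Cfsg.Agent.Lib.Helper21.Gag

universe u

variable {G : Type u} [Group G] {n : ℕ} {H : Type u} [Group H] {Z : Subgroup H}
  {lam : H → ℂˣ} {s : G → H} {m : ℕ}

/-- (Q2) the centre of the quotient is the image of `Z`. -/
theorem mk_mem_center_iff (D : GDatum G n H Z lam s m) [hK : (kerLam D).Normal] (h : H) :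
    (QuotientGroup.mk h : H ⧸ kerLam D) ∈ Subgroup.center (H ⧸ kerLam D) ↔ h ∈ Z := by
  constructor
  · intro hc
    by_contra hZ
    obtain ⟨y, hy, hlam⟩ := D.star h hZ
    apply hlam
    rw [Subgroup.mem_center_iff] at hc
    have h1 := hc (QuotientGroup.mk y : H ⧸ kerLam D)
    have h2 : (QuotientGroup.mk (h * y * h⁻¹ * y⁻¹) : H ⧸ kerLam D) = 1 := by
      have h3 : (QuotientGroup.mk (h * y * h⁻¹ * y⁻¹) : H ⧸ kerLam D) =
          (QuotientGroup.mk h : H ⧸ kerLam D) * QuotientGroup.mk y *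
            (QuotientGroup.mk h)⁻¹ * (QuotientGroup.mk y)⁻¹ := by
        simp only [QuotientGroup.mk_mul, QuotientGroup.mk_inv]
      rw [h3, ← h1]
      group
    rw [QuotientGroup.eq_one_iff, mem_kerLam] at h2
    exact h2.2
  · intro hZ
    rw [Subgroup.mem_center_iff]
    intro g'
    induction g' using QuotientGroup.induction_on with
    | H g =>
      rw [← QuotientGroup.mk_mul, ← QuotientGroup.mk_mul, QuotientGroup.eq, mem_kerLam]
      have hconj : g⁻¹ * h * g ∈ Z := by
        have := D.normal.conj_mem h hZ g⁻¹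
        rwa [inv_inv] at this
      have hform : (g * h)⁻¹ * (h * g) = h⁻¹ * (g⁻¹ * h * g) := by group
      rw [hform]
      refine ⟨Z.mul_mem (Z.inv_mem hZ) hconj, ?_⟩
      rw [D.lam_mul _ (Z.inv_mem hZ) _ hconj]
      have h1 : lam (g⁻¹ * h * g) = lam h := by
        have := D.lam_conj g⁻¹ h hZ
        rwa [inv_inv] at this
      rw [h1, ← D.lam_mul _ (Z.inv_mem hZ) _ hZ, inv_mul_cancel, D.lam_one]

end Cfsg.Agent.Lib.Helper9.GagQ2
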