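/-
helper9: S4561 leaf (Q4) `star_quot` (planner helper21, `notes/S4561_leaves.lean`).
-/
import Mathlib
import Cfsg.Agent.Lib.Helper21.GagDefs
import Cfsg.Agent.Lib.Helper9.GagQ2

set_option autoImplicit false

namespace Cfsg.Agent.Lib.Helper9.GagQ4

open RegularWreathProduct Cfsg.Agent.Lib.Helper21.Gag

universe u

variable {G : Type u} [Group G] {n : ℕ} {H : Type u} [Group H] {Z : Subgroup H}
  {lam : H → ℂˣ} {s : G → H} {m : ℕ}

/-- (Q4) the star property of the quotient. -/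
theorem star_quot (D : GDatum G n H Z lam s m) [hK : (kerLam D).Normal] :
    ∀ x : H ⧸ kerLam D, x ∉ Subgroup.center (H ⧸ kerLam D) →
      ∃ y : H ⧸ kerLam D, x * y * x⁻¹ * y⁻¹ ∈ Subgroup.center (H ⧸ kerLam D) ∧
        x * y * x⁻¹ * y⁻¹ ≠ 1 := by
  intro x
  induction x using QuotientGroup.induction_on with
  | H h =>
    intro hx
    have hZ : h ∉ Z := fun hZ => hx ((Cfsg.Agent.Lib.Helper9.GagQ2.mk_mem_center_iff D h).mpr hZ)
    obtain ⟨y, hy, hlam⟩ := D.star h hZ
    refine ⟨QuotientGroup.mk y, ?_, ?_⟩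
    · have h3 : (QuotientGroup.mk h : H ⧸ kerLam D) * QuotientGroup.mk y *
          (QuotientGroup.mk h)⁻¹ * (QuotientGroup.mk y)⁻¹ =
          (QuotientGroup.mk (h * y * h⁻¹ * y⁻¹) : H ⧸ kerLam D) := by
        simp only [QuotientGroup.mk_mul, QuotientGroup.mk_inv]
      rw [h3]
      exact (Cfsg.Agent.Lib.Helper9.GagQ2.mk_mem_center_iff D _).mpr hy
    · have h3 : (QuotientGroup.mk h : H ⧸ kerLam D) * QuotientGroup.mk y *
          (QuotientGroup.mk h)⁻¹ * (QuotientGroup.mk y)⁻¹ =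
          (QuotientGroup.mk (h * y * h⁻¹ * y⁻¹) : H ⧸ kerLam D) := by
        simp only [QuotientGroup.mk_mul, QuotientGroup.mk_inv]
      rw [h3]
      intro h1
      rw [QuotientGroup.eq_one_iff, mem_kerLam] at h1
      exact hlam h1.2

end Cfsg.Agent.Lib.Helper9.GagQ4
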