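/-
helper9: S4561 leaf (Q7) `exists_embedding` (planner helper21, `notes/S4561_leaves.lean`).
-/
import Mathlib
import Cfsg.Agent.Lib.Helper21.GagDefs
import Cfsg.Agent.Lib.Helper9.GagQ2

set_option autoImplicit false

namespace Cfsg.Agent.Lib.Helper9.GagQ7

open RegularWreathProduct Cfsg.Agent.Lib.Helper21.Gag

universe u

variable {G : Type u} [Group G] {n : ℕ} {H : Type u} [Group H] {Z : Subgroup H}
  {lam : H → ℂˣ} {s : G → H} {m : ℕ}

/-- (Q7) the embedding of `G`: `a ↦ mk (mk (s a))`. -/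
theorem exists_embedding (D : GDatum G n H Z lam s m) [hK : (kerLam D).Normal] :
    ∃ f : G →* (H ⧸ kerLam D) ⧸ Subgroup.center (H ⧸ kerLam D), Function.Injective f := by
  let f : G →* (H ⧸ kerLam D) ⧸ Subgroup.center (H ⧸ kerLam D) :=
    MonoidHom.mk' (fun a => QuotientGroup.mk (QuotientGroup.mk (s a) : H ⧸ kerLam D)) (by
      intro a b
      rw [← QuotientGroup.mk_mul, QuotientGroup.eq]
      have h1 := D.s_mul a b
      have h2 : ((QuotientGroup.mk (s (a * b)) : H ⧸ kerLam D))⁻¹ *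
          ((QuotientGroup.mk (s a) : H ⧸ kerLam D) * QuotientGroup.mk (s b)) =
          (QuotientGroup.mk ((s (a * b))⁻¹ * (s a * s b)) : H ⧸ kerLam D) := by
        simp only [QuotientGroup.mk_mul, QuotientGroup.mk_inv]
      rw [h2]
      apply (Cfsg.Agent.Lib.Helper9.GagQ2.mk_mem_center_iff D _).mpr
      have h3 : (s (a * b))⁻¹ * (s a * s b) =
          (s (a * b))⁻¹ * (s a * s b * (s (a * b))⁻¹) * ((s (a * b))⁻¹)⁻¹ := by group
      rw [h3]
      exact D.normal.conj_mem _ h1 _)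
  refine ⟨f, ?_⟩
  rw [injective_iff_map_eq_one]
  intro a ha
  have h1 : (QuotientGroup.mk (QuotientGroup.mk (s a) : H ⧸ kerLam D) :
      (H ⧸ kerLam D) ⧸ Subgroup.center (H ⧸ kerLam D)) = 1 := ha
  rw [QuotientGroup.eq_one_iff] at h1
  exact D.s_inj a ((Cfsg.Agent.Lib.Helper9.GagQ2.mk_mem_center_iff D _).mp h1)

end Cfsg.Agent.Lib.Helper9.GagQ7
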