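/-
helper9: S4395 leaf EHEIS `exists_heis` (planner helper21, notes/S4395_leaves.lean).
`H = K × K` with `(u,s)(v,t) = (u+v, s+t+σ(u) v)`, `P₀ = {(u,s) | s + σ s = σ u * u}`, `α (u,s) = (ω u, s)`.
-/
import Mathlib
import Cfsg.Prelude.Def_Transfer
import Cfsg.Agent.Lib.Helper21.SchDefs

set_option autoImplicit false
universe u v
open Cfsg
open Cfsg.Agent.Lib.Helper21.Sch

namespace Cfsg.Agent.Lib.Helper9.SchEHEIS

variable {K : Type u} [Field K]

/-- the carrier `K × K` of the Heisenberg-type group attached to `σ` -/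
structure HT (σ : K ≃+* K) : Type u where
  /-- first coordinate -/
  u : K
  /-- second coordinate -/
  s : K

namespace HT

variable {σ : K ≃+* K}

theorem ext' {x y : HT σ} (h1 : x.u = y.u) (h2 : x.s = y.s) : x = y := by
  cases x; cases y
  simp only at h1 h2
  subst h1; subst h2
  rfl

instance : Mul (HT σ) := ⟨fun x y => ⟨x.u + y.u, x.s + y.s + σ x.u * y.u⟩⟩
instance : One (HT σ) := ⟨⟨0, 0⟩⟩
instance : Inv (HT σ) := ⟨fun x => ⟨-x.u, -x.s + σ x.u * x.u⟩⟩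

@[simp] theorem mul_u (x y : HT σ) : (x * y).u = x.u + y.u := rfl
@[simp] theorem mul_s (x y : HT σ) : (x * y).s = x.s + y.s + σ x.u * y.u := rfl
@[simp] theorem one_u : (1 : HT σ).u = 0 := rfl
@[simp] theorem one_s : (1 : HT σ).s = 0 := rfl
@[simp] theorem inv_u (x : HT σ) : (x⁻¹).u = -x.u := rfl
@[simp] theorem inv_s (x : HT σ) : (x⁻¹).s = -x.s + σ x.u * x.u := rfl

instance : Group (HT σ) where
  mul_assoc x y z := by
    apply ext'
    · simp only [mul_u]; ring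
    · simp only [mul_s, mul_u, map_add]; ring
  one_mul x := by
    apply ext'
    · simp
    · simp
  mul_one x := by
    apply ext'
    · simp
    · simp
  inv_mul_cancel x := by
    apply ext'
    · simp
    · simp only [mul_s, inv_s, inv_u, one_s, map_neg]; ring

instance [Finite K] : Finite (HT σ) :=
  Finite.of_injective (fun x : HT σ => (x.u, x.s)) (by
    intro x y h
    have h1 := congrArg Prod.fst h
    have h2 := congrArg Prod.snd h
    exact ext' h1 h2)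

end HT

open HT

/-- the subgroup `{(u,s) | s + σ s = σ u * u}` -/
def P0 (σ : K ≃+* K) (hσ : ∀ x : K, σ (σ x) = x) : Subgroup (HT σ) where
  carrier := {x | x.s + σ x.s = σ x.u * x.u}
  mul_mem' := by
    intro x y hx hy
    simp only [Set.mem_setOf_eq] at hx hy ⊢
    simp only [mul_s, mul_u, map_add, map_mul, hσ]
    linear_combination hx + hy
  one_mem' := by
    simp only [Set.mem_setOf_eq, one_s, one_u, map_zero, add_zero, mul_zero]
  inv_mem' := by
    intro x hx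
    simp only [Set.mem_setOf_eq] at hx ⊢
    simp only [inv_s, inv_u, map_add, map_neg, map_mul, hσ]
    linear_combination -hx

theorem mem_P0 {σ : K ≃+* K} {hσ : ∀ x : K, σ (σ x) = x} {x : HT σ} :
    x ∈ P0 σ hσ ↔ x.s + σ x.s = σ x.u * x.u := Iff.rfl

section aut

variable {σ : K ≃+* K} (hσ : ∀ x : K, σ (σ x) = x) (ω : K) (hω0 : ω ≠ 0) (hσω : σ ω = ω⁻¹)

/-- `(u,s) ↦ (ω u, s)` on `H` -/
def aH : HT σ ≃* HT σ where
  toFun x := ⟨ω * x.u, x.s⟩
  invFun x := ⟨ω⁻¹ * x.u, x.s⟩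
  left_inv x := by
    apply ext'
    · show ω⁻¹ * (ω * x.u) = x.u
      rw [← mul_assoc, inv_mul_cancel₀ hω0, one_mul]
    · rfl
  right_inv x := by
    apply ext'
    · show ω * (ω⁻¹ * x.u) = x.u
      rw [← mul_assoc, mul_inv_cancel₀ hω0, one_mul]
    · rfl
  map_mul' x y := by
    apply ext'
    · show ω * (x.u + y.u) = ω * x.u + ω * y.u
      ring
    · show x.s + y.s + σ x.u * y.u = x.s + y.s + σ (ω * x.u) * (ω * y.u)
      rw [map_mul, hσω]
      field_simp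

theorem aH_u (x : HT σ) : (aH ω hω0 hσω x).u = ω * x.u := rfl
theorem aH_s (x : HT σ) : (aH ω hω0 hσω x).s = x.s := rfl
theorem aH_symm_u (x : HT σ) : ((aH ω hω0 hσω).symm x).u = ω⁻¹ * x.u := rfl
theorem aH_symm_s (x : HT σ) : ((aH ω hω0 hσω).symm x).s = x.s := rfl

theorem aH_mem (x : HT σ) (hx : x ∈ P0 σ hσ) : aH ω hω0 hσω x ∈ P0 σ hσ := by
  rw [mem_P0] at hx ⊢
  rw [aH_u, aH_s, hx, map_mul, hσω]
  field_simp

theorem aH_symm_mem (x : HT σ) (hx : x ∈ P0 σ hσ) : (aH ω hω0 hσω).symm x ∈ P0 σ hσ := by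
  rw [mem_P0] at hx ⊢
  rw [aH_symm_u, aH_symm_s, hx, map_mul, map_inv₀, hσω, inv_inv]
  field_simp

/-- `α` on `P₀` -/
def a0 : ↥(P0 σ hσ) ≃* ↥(P0 σ hσ) where
  toFun x := ⟨aH ω hω0 hσω x.1, aH_mem hσ ω hω0 hσω x.1 x.2⟩
  invFun x := ⟨(aH ω hω0 hσω).symm x.1, aH_symm_mem hσ ω hω0 hσω x.1 x.2⟩
  left_inv x := by
    apply Subtype.ext
    exact (aH ω hω0 hσω).symm_apply_apply x.1
  right_inv x := by
    apply Subtype.ext
    exact (aH ω hω0 hσω).apply_symm_apply x.1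
  map_mul' x y := by
    apply Subtype.ext
    exact map_mul (aH ω hω0 hσω) x.1 y.1

theorem a0_u (x : ↥(P0 σ hσ)) : (a0 hσ ω hω0 hσω x).1.u = ω * x.1.u := rfl
theorem a0_s (x : ↥(P0 σ hσ)) : (a0 hσ ω hω0 hσω x).1.s = x.1.s := rfl

theorem a0_pow (n : ℕ) (x : ↥(P0 σ hσ)) :
    ((a0 hσ ω hω0 hσω ^ n) x).1.u = ω ^ n * x.1.u ∧ ((a0 hσ ω hω0 hσω ^ n) x).1.s = x.1.s := by
  induction n generalizing x with
  | zero => simp
  | succ n ih =>
    rw [pow_succ, MulAut.mul_apply]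
    obtain ⟨h1, h2⟩ := ih (a0 hσ ω hω0 hσω x)
    rw [h1, h2, a0_u, a0_s]
    exact ⟨by ring, rfl⟩

/-- `π₀ (u,s) = u` -/
def pi0 : ↥(P0 σ hσ) →* Multiplicative K where
  toFun x := Multiplicative.ofAdd x.1.u
  map_one' := rfl
  map_mul' x y := rfl

theorem pi0_apply (x : ↥(P0 σ hσ)) : Multiplicative.toAdd (pi0 hσ x) = x.1.u := rfl

theorem pi0_eq_one_iff (x : ↥(P0 σ hσ)) : pi0 hσ x = 1 ↔ x.1.u = 0 := by
  constructor
  · intro h
    have := congrArg Multiplicative.toAdd h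
    simpa [pi0_apply] using this
  · intro h
    show Multiplicative.ofAdd x.1.u = 1
    rw [h]; rfl

end aut

section props

variable {σ : K ≃+* K} (hσ : ∀ x : K, σ (σ x) = x)

theorem comm_u (x y : HT σ) : (x * y * x⁻¹ * y⁻¹).u = 0 := by
  simp only [mul_u, inv_u]; ring

theorem comm_s (x y : HT σ) : (x * y * x⁻¹ * y⁻¹).s = σ x.u * y.u - σ y.u * x.u := by
  simp only [mul_u, mul_s, inv_u, inv_s, map_add, map_neg]; ring

theorem pow_of_u_zero (x : HT σ) (hx : x.u = 0) (n : ℕ) :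
    (x ^ n).u = 0 ∧ (x ^ n).s = n * x.s := by
  induction n with
  | zero => simp
  | succ n ih =>
    rw [pow_succ]
    obtain ⟨h1, h2⟩ := ih
    refine ⟨by rw [mul_u, h1, hx, add_zero], ?_⟩
    rw [mul_s, h1, h2, hx]
    push_cast
    simp only [map_zero, mul_zero, add_zero]
    ring

variable (ε : K) (hε : ε + σ ε = 1)

/-- a preimage of `u` in `P₀` -/
def lift (u : K) : ↥(P0 σ hσ) :=
  ⟨⟨u, ε * σ u * u⟩, by
    rw [mem_P0]
    show ε * σ u * u + σ (ε * σ u * u) = σ u * u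
    rw [map_mul, map_mul, hσ]
    linear_combination (σ u * u) * hε⟩

theorem lift_u (u : K) : (lift hσ ε hε u).1.u = u := rfl

/-- `P₀ ≃ K × ker (1 + σ)` -/
def equivProd : ↥(P0 σ hσ) ≃ K × {c : K // c + σ c = 0} where
  toFun x := (x.1.u, ⟨x.1.s - ε * σ x.1.u * x.1.u, by
    have hx := x.2
    rw [mem_P0] at hx
    rw [map_sub, map_mul, map_mul, hσ]
    linear_combination hx - (σ x.1.u * x.1.u) * hε⟩)
  invFun y := ⟨⟨y.1, y.2.1 + ε * σ y.1 * y.1⟩, by
    rw [mem_P0]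
    show y.2.1 + ε * σ y.1 * y.1 + σ (y.2.1 + ε * σ y.1 * y.1) = σ y.1 * y.1
    have hy := y.2.2
    rw [map_add, map_mul, map_mul, hσ]
    linear_combination hy + (σ y.1 * y.1) * hε⟩
  left_inv x := by
    apply Subtype.ext
    apply ext'
    · rfl
    · show x.1.s - ε * σ x.1.u * x.1.u + ε * σ x.1.u * x.1.u = x.1.s
      ring
  right_inv y := by
    apply Prod.ext
    · rfl
    · apply Subtype.ext
      show y.2.1 + ε * σ y.1 * y.1 - ε * σ y.1 * y.1 = y.2.1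
      ring

end props

/-- **TAG EHEIS** (with the extra hypothesis `q ≠ 0`, without which the statement fails at `ω = 0`). -/
theorem exists_heis {K : Type u} [Field K] [Finite K] (p q : ℕ) [Fact p.Prime] [CharP K p]
    (ω : K) (hω1 : ω ≠ 1) (hωq : ω ^ q = 1) (hq0 : q ≠ 0)
    (σ : K ≃+* K) (ε : K) (hσ : ∀ x : K, σ (σ x) = x) (hσω : σ ω = ω⁻¹) (hε : ε + σ ε = 1)
    (htr : ∀ c : K, c + σ c = 0 → ∃ w : K, c = w - σ w) :
    ∃ (P₀ : Type u) (_ : Group P₀) (_ : Finite P₀) (α : P₀ ≃* P₀) (π₀ : P₀ →* Multiplicative K),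
      (∀ x : P₀, (α ^ q) x = x) ∧
      (∀ x : P₀, Multiplicative.toAdd (π₀ (α x)) = ω * Multiplicative.toAdd (π₀ x)) ∧
      Function.Surjective π₀ ∧
      (∀ z : P₀, π₀ z = 1 → ∀ x : P₀, z * x = x * z) ∧
      (∀ z : P₀, π₀ z = 1 → z ^ p = 1) ∧
      (∀ z : P₀, π₀ z = 1 → α z = z) ∧
      (∀ x : P₀, x ∈ Subgroup.closure {c : P₀ | ∃ x' : P₀, c = x'⁻¹ * α x'}) ∧
      Nat.card P₀ = Nat.card K * Nat.card {c : K // c + σ c = 0} := by
  have hω0 : ω ≠ 0 := by
    intro h0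
    rw [h0, zero_pow hq0] at hωq
    exact zero_ne_one hωq
  have hω1' : ω - 1 ≠ 0 := sub_ne_zero.mpr hω1
  refine ⟨↥(P0 σ hσ), inferInstance, inferInstance, a0 hσ ω hω0 hσω, pi0 hσ, ?_, ?_, ?_, ?_, ?_, ?_,
    ?_, ?_⟩
  · intro x
    obtain ⟨h1, h2⟩ := a0_pow hσ ω hω0 hσω q x
    apply Subtype.ext
    apply ext'
    · rw [h1, hωq, one_mul]
    · exact h2
  · intro x
    rfl
  · intro v
    refine ⟨lift hσ ε hε (Multiplicative.toAdd v), ?_⟩
    rfl
  · intro z hz x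
    rw [pi0_eq_one_iff] at hz
    apply Subtype.ext
    apply ext'
    · show z.1.u + x.1.u = x.1.u + z.1.u
      ring
    · show z.1.s + x.1.s + σ z.1.u * x.1.u = x.1.s + z.1.s + σ x.1.u * z.1.u
      rw [hz, map_zero]
      ring
  · intro z hz
    rw [pi0_eq_one_iff] at hz
    obtain ⟨h1, h2⟩ := pow_of_u_zero z.1 hz p
    apply Subtype.ext
    rw [Subgroup.coe_pow, Subgroup.coe_one]
    apply ext'
    · rw [h1]; rfl
    · rw [h2, CharP.cast_eq_zero K p, zero_mul]; rfl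
  · intro z hz
    rw [pi0_eq_one_iff] at hz
    apply Subtype.ext
    apply ext'
    · rw [a0_u, hz, mul_zero]
    · rw [a0_s]
  · -- `P₀ = [P₀, α]`
    set C : Subgroup ↥(P0 σ hσ) :=
      Subgroup.closure {c : ↥(P0 σ hσ) | ∃ x' : ↥(P0 σ hσ), c = x'⁻¹ * a0 hσ ω hω0 hσω x'} with hC
    -- step A
    have hA : ∀ u : K, ∃ y ∈ C, y.1.u = u := by
      intro u
      refine ⟨(lift hσ ε hε ((ω - 1)⁻¹ * u))⁻¹ * a0 hσ ω hω0 hσω (lift hσ ε hε ((ω - 1)⁻¹ * u)),
        Subgroup.subset_closure ⟨_, rfl⟩, ?_⟩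
      show -((ω - 1)⁻¹ * u) + ω * ((ω - 1)⁻¹ * u) = u
      field_simp
      ring
    -- step B
    have hB : ∀ (u : K) (z : ↥(P0 σ hσ)), z.1.u = 0 → z.1.s = σ u - u → z ∈ C := by
      intro u z hz1 hz2
      obtain ⟨x, hxC, hxu⟩ := hA u
      obtain ⟨y, hyC, hyu⟩ := hA 1
      have hmem : x * y * x⁻¹ * y⁻¹ ∈ C :=
        C.mul_mem (C.mul_mem (C.mul_mem hxC hyC) (C.inv_mem hxC)) (C.inv_mem hyC)
      have : z = x * y * x⁻¹ * y⁻¹ := by
        apply Subtype.ext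
        apply ext'
        · rw [hz1]
          exact (comm_u x.1 y.1).symm
        · rw [hz2]
          have := comm_s x.1 y.1
          rw [hxu, hyu, map_one, mul_one, one_mul] at this
          exact this.symm
      rw [this]
      exact hmem
    -- step C
    have hCk : ∀ z : ↥(P0 σ hσ), z.1.u = 0 → z ∈ C := by
      intro z hz
      have hz2 := z.2
      rw [mem_P0, hz, map_zero, zero_mul] at hz2
      obtain ⟨w, hw⟩ := htr _ hz2
      refine hB (-w) z hz ?_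
      rw [hw, map_neg]
      ring
    -- step D
    intro x
    obtain ⟨y, hyC, hyu⟩ := hA x.1.u
    have hz : (y⁻¹ * x) ∈ C := by
      apply hCk
      show -y.1.u + x.1.u = 0
      rw [hyu]; ring
    have : x = y * (y⁻¹ * x) := by group
    rw [this]
    exact C.mul_mem hyC hz
  · rw [Nat.card_congr (equivProd hσ ε hε), Nat.card_prod]

end Cfsg.Agent.Lib.Helper9.SchEHEIS
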