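/-
helper9: S4395 leaf ESIG `exists_sigma` (planner helper21, notes/S4395_leaves.lean).
-/
import Mathlib
import Cfsg.Prelude.Def_Transfer
import Cfsg.Agent.Lib.Helper21.SchDefs

set_option autoImplicit false
universe u v
open Cfsg
open Cfsg.Agent.Lib.Helper21.Sch

namespace Cfsg.Agent.Lib.Helper9.SchESIG

open Polynomial in
theorem card_fix_le {K : Type*} [Field K] [Finite K] (p m : ℕ) (hp : 1 < p) (hm : m ≠ 0) :
    Nat.card {x : K // x ^ p ^ m = x} ≤ p ^ m := by
  classical
  have hne : (X ^ p ^ m - X : K[X]) ≠ 0 := FiniteField.X_pow_card_pow_sub_X_ne_zero K hm hp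
  have hdeg : (X ^ p ^ m - X : K[X]).natDegree = p ^ m :=
    FiniteField.X_pow_card_pow_sub_X_natDegree_eq K hm hp
  have hinj : Function.Injective
      (fun x : {x : K // x ^ p ^ m = x} =>
        (⟨x.1, by
          rw [Multiset.mem_toFinset, mem_roots hne]
          simp [x.2]⟩ : {y : K // y ∈ (X ^ p ^ m - X : K[X]).roots.toFinset})) := by
    intro x y h
    apply Subtype.ext
    have h' := congrArg Subtype.val h
    exact h'
  have h1 := Nat.card_le_card_of_injective _ hinj
  refine h1.trans ?_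
  rw [Nat.card_eq_fintype_card, Fintype.card_coe]
  exact (Multiset.toFinset_card_le _).trans ((card_roots' _).trans_eq hdeg)

theorem exists_sigma {K : Type*} [Field K] [Finite K] (p q : ℕ) [Fact p.Prime] [Fact q.Prime] [CharP K p]
    (hpq : p ≠ q) (a : ℕ) (ha : a = orderOf (p : ZMod q)) (heven : a % 2 ≠ 1)
    (hK : Nat.card K = p ^ a) (ω : K) (hω : orderOf ω = q) :
    ∃ (σ : K ≃+* K) (ε : K), (∀ x : K, σ (σ x) = x) ∧ σ ω = ω⁻¹ ∧ ε + σ ε = 1 ∧
      Nat.card {x : K // σ x = x} ≤ p ^ (a / 2) := by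
  have hp : p.Prime := Fact.out
  have hq : q.Prime := Fact.out
  haveI : Fintype K := Fintype.ofFinite K
  -- `a > 0`
  have ha0 : a ≠ 0 := by
    intro h0
    rw [h0, pow_zero] at hK
    have : 1 < Nat.card K := Finite.one_lt_card
    omega
  obtain ⟨m, hm⟩ : ∃ m, a = 2 * m := ⟨a / 2, by omega⟩
  have hm0 : m ≠ 0 := by omega
  have hma : m < a := by omega
  have ham : a / 2 = m := by omega
  -- `p^m = -1` in `ZMod q`
  have hpa : ((p : ZMod q)) ^ a = 1 := by rw [ha]; exact pow_orderOf_eq_one _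
  have hpm : ((p : ZMod q)) ^ m ≠ 1 := by
    apply pow_ne_one_of_lt_orderOf hm0
    rw [← ha]; exact hma
  have hneg : ((p : ZMod q)) ^ m + 1 = 0 := by
    have h1 : (((p : ZMod q)) ^ m - 1) * (((p : ZMod q)) ^ m + 1) = 0 := by
      have : ((p : ZMod q)) ^ a = ((p : ZMod q)) ^ m * ((p : ZMod q)) ^ m := by
        rw [hm, two_mul, pow_add]
      calc (((p : ZMod q)) ^ m - 1) * (((p : ZMod q)) ^ m + 1)
          = ((p : ZMod q)) ^ m * ((p : ZMod q)) ^ m - 1 := by ring
        _ = 0 := by rw [← this, hpa, sub_self]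
    rcases mul_eq_zero.mp h1 with h | h
    · exact absurd (sub_eq_zero.mp h) hpm
    · exact h
  have hdvd : q ∣ p ^ m + 1 := by
    rw [← ZMod.natCast_eq_zero_iff]
    push_cast
    exact hneg
  have hωpow : ω ^ (p ^ m + 1) = 1 := by
    rw [← hω] at hdvd
    exact orderOf_dvd_iff_pow_eq_one.mp hdvd
  have hω0 : ω ≠ 0 := by
    intro h0
    rw [h0, orderOf_zero] at hω
    · exact hq.ne_zero hω.symm
  -- `q` is odd
  have hq2 : q ≠ 2 := by
    intro h2
    subst h2
    have hp2 : p % 2 = 1 := by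
      rcases hp.eq_two_or_odd with h | h
      · exact absurd h hpq
      · exact h
    have h1 : ((p : ZMod 2)) = 1 := by
      have : ((p : ZMod 2)) = ((p % 2 : ℕ) : ZMod 2) := by
        rw [ZMod.natCast_mod]
      rw [this, hp2]; simp
    rw [h1, orderOf_one] at ha
    omega
  have hsum : ω + ω⁻¹ ≠ 0 := by
    intro h0
    have h2 : ω ^ 2 = -1 := by
      have : ω * (ω + ω⁻¹) = 0 := by rw [h0, mul_zero]
      rw [mul_add, mul_inv_cancel₀ hω0] at this
      rw [pow_two]
      exact eq_neg_of_add_eq_zero_left this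
    have h4 : ω ^ 4 = 1 := by
      have : ω ^ 4 = (ω ^ 2) ^ 2 := by ring
      rw [this, h2]; ring
    have hd : q ∣ 4 := by
      rw [← hω]; exact orderOf_dvd_of_pow_eq_one h4
    have hd2 : q ∣ 2 := by
      have : q ∣ 2 ^ 2 := by simpa using hd
      exact hq.dvd_of_dvd_pow this
    exact hq2 ((Nat.prime_dvd_prime_iff_eq hq Nat.prime_two).mp hd2)
  haveI : PerfectRing K p := inferInstance
  refine ⟨iterateFrobeniusEquiv K p m, ω / (ω + ω⁻¹), ?_, ?_, ?_, ?_⟩
  · intro x
    rw [iterateFrobeniusEquiv_def, iterateFrobeniusEquiv_def, ← pow_mul, ← pow_add, ← two_mul, ← hm,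
      ← hK, Nat.card_eq_fintype_card, FiniteField.pow_card]
  · rw [iterateFrobeniusEquiv_def]
    apply eq_inv_of_mul_eq_one_left
    rw [← pow_succ]
    exact hωpow
  · have hσω : iterateFrobeniusEquiv K p m ω = ω⁻¹ := by
      rw [iterateFrobeniusEquiv_def]
      apply eq_inv_of_mul_eq_one_left
      rw [← pow_succ]
      exact hωpow
    rw [map_div₀, map_add, map_inv₀, hσω, inv_inv, add_comm ω⁻¹ ω, ← add_div, div_self hsum]
  · rw [ham]
    have : Nat.card {x : K // iterateFrobeniusEquiv K p m x = x} = Nat.card {x : K // x ^ p ^ m = x} := by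
      rfl
    rw [this]
    exact card_fix_le p m hp.one_lt hm0

end Cfsg.Agent.Lib.Helper9.SchESIG
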