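/-
helper9: S4395 leaf ETR `trace_facts` (planner helper21, notes/S4395_leaves.lean).
-/
import Mathlib
import Cfsg.Prelude.Def_Transfer
import Cfsg.Agent.Lib.Helper21.SchDefs

set_option autoImplicit false
universe u v
open Cfsg
open Cfsg.Agent.Lib.Helper21.Sch

namespace Cfsg.Agent.Lib.Helper9.SchETR

theorem trace_facts {K : Type*} [Field K] [Finite K] (p a : ℕ) [Fact p.Prime] (hK : Nat.card K = p ^ a)
    (σ : K ≃+* K) (ε : K) (hσ : ∀ x : K, σ (σ x) = x) (hε : ε + σ ε = 1)
    (hfix : Nat.card {x : K // σ x = x} ≤ p ^ (a / 2)) :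
    (∀ c : K, c + σ c = 0 → ∃ w : K, c = w - σ w) ∧ p ^ (a / 2) ≤ Nat.card {c : K // c + σ c = 0} := by
  have hp : p.Prime := Fact.out
  let s : K →+ K := (σ : K ≃+* K).toAddMonoidHom
  have hs : ∀ x, s x = σ x := fun _ => rfl
  let T : K →+ K := AddMonoidHom.id K + s
  let D : K →+ K := AddMonoidHom.id K - s
  have hT : ∀ x, T x = x + σ x := fun _ => rfl
  have hD : ∀ x, D x = x - σ x := fun _ => rfl
  set N := Nat.card {x : K // σ x = x} with hN
  have hN0 : 0 < N := by
    haveI : Nonempty {x : K // σ x = x} := ⟨⟨0, map_zero σ⟩⟩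
    exact Nat.card_pos
  -- kernel of `T`
  have hkerT : Nat.card T.ker = Nat.card {c : K // c + σ c = 0} :=
    Nat.card_congr (Equiv.subtypeEquivRight (fun c => by rw [AddMonoidHom.mem_ker, hT]))
  -- range of `T`
  have hranT : Nat.card T.range = N :=
    Nat.card_congr (Equiv.subtypeEquivRight (fun x => by
      rw [AddMonoidHom.mem_range]
      constructor
      · rintro ⟨c, rfl⟩
        rw [hT, map_add, hσ, add_comm]
      · intro hx
        refine ⟨ε * x, ?_⟩
        rw [hT, map_mul, hx, ← add_mul, hε, one_mul]))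
  -- kernel of `D`
  have hkerD : Nat.card D.ker = N :=
    Nat.card_congr (Equiv.subtypeEquivRight (fun x => by
      rw [AddMonoidHom.mem_ker, hD, sub_eq_zero]
      exact eq_comm))
  have h1 : Nat.card T.ker * N = p ^ a := by
    rw [← hranT, ← AddSubgroup.index_ker, AddSubgroup.card_mul_index, hK]
  have h2 : N * Nat.card D.range = p ^ a := by
    rw [← hkerD, ← AddSubgroup.index_ker, AddSubgroup.card_mul_index, hK]
  have h3 : Nat.card D.range = Nat.card T.ker := by
    have : N * Nat.card D.range = N * Nat.card T.ker := by rw [h2, mul_comm, h1]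
    exact Nat.eq_of_mul_eq_mul_left hN0 this
  have hle : D.range ≤ T.ker := by
    rintro _ ⟨w, rfl⟩
    rw [AddMonoidHom.mem_ker, hT, hD, map_sub, hσ]
    ring
  have heq : D.range = T.ker := AddSubgroup.eq_of_le_of_card_ge hle h3.ge
  constructor
  · intro c hc
    have hc' : c ∈ T.ker := by rw [AddMonoidHom.mem_ker, hT]; exact hc
    rw [← heq] at hc'
    obtain ⟨w, hw⟩ := hc'
    exact ⟨w, by rw [← hw, hD]⟩
  · rw [← hkerT]
    by_contra hlt
    push_neg at hlt
    have hpos : 0 < p ^ (a / 2) := pow_pos hp.pos _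
    have h4 : Nat.card T.ker * N < p ^ (a / 2) * p ^ (a / 2) :=
      calc Nat.card T.ker * N ≤ Nat.card T.ker * p ^ (a / 2) := Nat.mul_le_mul_left _ hfix
        _ < p ^ (a / 2) * p ^ (a / 2) := Nat.mul_lt_mul_of_pos_right hlt hpos
    have h5 : p ^ (a / 2) * p ^ (a / 2) ≤ p ^ a := by
      rw [← pow_add]
      exact Nat.pow_le_pow_right hp.pos (by omega)
    rw [h1] at h4
    omega

end Cfsg.Agent.Lib.Helper9.SchETR
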