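import Mathlib
import Cfsg.Prelude.Def_Transfer
import Cfsg.Prelude.Def_SolvableStructure
import Cfsg.Prelude.Def_Local
import Cfsg.Prelude.Def_CaseTheorems
import Cfsg.Agent.Lib.Helper21.SchDefs
import Cfsg.Agent.Lib.Helper21.SchPDefs
import Cfsg.Agent.Lib.Helper12.HallHigman
import Cfsg.Agent.Lib.Helper12.Cores
import Cfsg.Agent.Lib.Helper24.PSolvable
import Cfsg.Agent.Lib.Helper1.PLenSeries

/-!
# S4394 (planner helper21), leaf G1 `pLengthLE_one_of_sylow_le_pCore` (helper9)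
-/

set_option autoImplicit false
universe u v
open Cfsg
open Cfsg.Agent.Lib.Helper21.Sch
open Cfsg.Agent.Lib.Helper21.SchP

namespace Cfsg.Agent.Lib.Helper9.SchPG1

/-- **TAG G1** as at the end of `Cfsg.Agent.Lib.Helper22.GY.gaschutz_yen`. -/
theorem pLengthLE_one_of_sylow_le_pCore {G : Type*} [Group G] [Finite G] (p : ℕ) [Fact p.Prime]
    (hG : Cfsg.IsPSolvable p G) (S : Sylow p (G ⧸ Cfsg.pPrimeCore p G))
    (hS : (S : Subgroup (G ⧸ Cfsg.pPrimeCore p G)) ≤ Cfsg.pCore p (G ⧸ Cfsg.pPrimeCore p G)) :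
    Cfsg.PLengthLE p 1 G := by
  set O := Cfsg.pPrimeCore p G with hOdef
  have hcop : (Cfsg.pCore p (G ⧸ O)).index.Coprime p := by
    have h1 : (Cfsg.pCore p (G ⧸ O)).index ∣ (S : Subgroup (G ⧸ O)).index :=
      Subgroup.index_dvd_of_le hS
    have h2 : ¬ p ∣ (S : Subgroup (G ⧸ O)).index := S.not_dvd_index
    have hp : p.Prime := Fact.out
    rw [Nat.coprime_comm]
    exact (Nat.Prime.coprime_iff_not_dvd hp).mpr (fun h => h2 (dvd_trans h h1))
  have hlX : Cfsg.PLengthLE p 1 (G ⧸ O) := by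
    have h1 : Cfsg.PLengthLE p 1 (Cfsg.pCore p (G ⧸ O)) :=
      Cfsg.Agent.Lib.Helper1.PLen.pLengthLE_one_of_isPGroup p
        (Cfsg.Agent.Lib.Helper12.pCore_isPGroup' p)
    have h2 : Cfsg.PLengthLE p 0 ((G ⧸ O) ⧸ Cfsg.pCore p (G ⧸ O)) := by
      apply Cfsg.Agent.Lib.Helper1.PLen.pLengthLE_zero_of_coprime
      rw [← Subgroup.index_eq_card]
      exact hcop
    have h3 := Cfsg.Agent.Lib.Helper1.PLen.pLengthLE_of_extension p (Cfsg.pCore p (G ⧸ O)) h1 h2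
    simpa using h3
  have h0 : Cfsg.PLengthLE p 0 O :=
    Cfsg.Agent.Lib.Helper1.PLen.pLengthLE_zero_of_coprime p
      (Cfsg.Agent.Lib.Helper12.pPrimeCore_coprime p)
  have h4 := Cfsg.Agent.Lib.Helper1.PLen.pLengthLE_of_extension p O h0 hlX
  simpa using h4

end Cfsg.Agent.Lib.Helper9.SchPG1
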