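import Mathlib
import Cfsg.Prelude.Def_Transfer
import Cfsg.Prelude.Def_SolvableStructure
import Cfsg.Prelude.Def_Local
import Cfsg.Prelude.Def_CaseTheorems
import Cfsg.Agent.Lib.Helper21.SchDefs
import Cfsg.Agent.Lib.Helper21.SchPDefs
import Cfsg.Agent.Lib.Helper12.HallHigman
import Cfsg.Agent.Lib.Helper12.Cores
import Cfsg.Agent.Lib.Helper24.PSolvable

/-!
# S4394 (planner helper21), leaf G3 `le_pCore_of_q8Type` (helper9)
-/

set_option autoImplicit false
universe u v
open Cfsg
open Cfsg.Agent.Lib.Helper21.Sch
open Cfsg.Agent.Lib.Helper21.SchP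

namespace Cfsg.Agent.Lib.Helper9.SchPG3

/-- If all conjugates of `x` lie in a set with at most two elements, its centralizer has index at most two. -/
theorem index_centralizer_le_two {H : Type*} [Group H] (x : H) (T : Set H) (hTfin : T.Finite)
    (hT : T.ncard ≤ 2) (hconj : ∀ g : H, g * x * g⁻¹ ∈ T) :
    (Subgroup.centralizer ({x} : Set H)).index ≤ 2 := by
  set K := Subgroup.centralizer ({x} : Set H) with hK
  have hwd : ∀ a b : H, QuotientGroup.leftRel K a b → a * x * a⁻¹ = b * x * b⁻¹ := by
    intro a b hab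
    rw [QuotientGroup.leftRel_apply, hK, Subgroup.mem_centralizer_iff] at hab
    have h1 := hab x rfl
    -- x * (a⁻¹ * b) = (a⁻¹ * b) * x
    have h2 : b * x * b⁻¹ = a * (a⁻¹ * b * x) * b⁻¹ := by group
    rw [h2, ← h1]
    group
  let f : H ⧸ K → H := fun q => Quotient.liftOn' q (fun g => g * x * g⁻¹) hwd
  have hf : Function.Injective f := by
    intro q q'
    refine Quotient.inductionOn₂' q q' ?_
    intro a b hab
    have hab' : a * x * a⁻¹ = b * x * b⁻¹ := hab
    apply Quotient.sound'
    rw [QuotientGroup.leftRel_apply, hK, Subgroup.mem_centralizer_iff]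
    intro y hy
    rw [Set.mem_singleton_iff] at hy
    subst hy
    have h3 : y = a⁻¹ * (b * y * b⁻¹) * a := by rw [← hab']; group
    calc y * (a⁻¹ * b) = a⁻¹ * (b * y * b⁻¹) * a * (a⁻¹ * b) := by rw [← h3]
      _ = a⁻¹ * b * y := by group
  have hrange : Set.range f ⊆ T := by
    rintro _ ⟨q, rfl⟩
    refine Quotient.inductionOn' q ?_
    intro g
    exact hconj g
  rw [Subgroup.index_eq_card, ← Nat.card_range_of_injective hf, Nat.card_coe_set_eq]
  exact le_trans (Set.ncard_le_ncard hrange hTfin) hT

/-- The centre of a nonabelian group of order `8` has at most two elements. -/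
theorem card_center_le_two {S : Type*} [Group S] (h8 : Nat.card S = 8)
    (hnab : ∃ x y : S, x * y ≠ y * x) : Nat.card (Subgroup.center S) ≤ 2 := by
  haveI : Finite S := Nat.finite_of_card_ne_zero (by rw [h8]; norm_num)
  have hdvd : Nat.card (Subgroup.center S) ∣ 8 := by
    rw [← h8]
    exact Subgroup.card_subgroup_dvd_card _
  have hidx : Nat.card (Subgroup.center S) * (Subgroup.center S).index = 8 := by
    rw [Subgroup.card_mul_index, h8]
  have hle : Nat.card (Subgroup.center S) ≤ 8 := Nat.le_of_dvd (by norm_num) hdvd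
  -- the quotient by the centre is not cyclic
  have hncyc : ¬ IsCyclic (S ⧸ Subgroup.center S) := by
    intro hc
    obtain ⟨x, y, hxy⟩ := hnab
    have hcomm := commutative_of_cyclic_center_quotient (QuotientGroup.mk' (Subgroup.center S))
      (by rw [QuotientGroup.ker_mk'])
    exact hxy (hcomm x y)
  by_contra hcon
  push Not at hcon
  have hcases : Nat.card (Subgroup.center S) = 4 ∨ Nat.card (Subgroup.center S) = 8 := by
    interval_cases h : Nat.card (Subgroup.center S) <;> simp_all <;> omega
  apply hncyc
  rcases hcases with h4 | h8'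
  · have h2 : Nat.card (S ⧸ Subgroup.center S) = 2 := by
      rw [← Subgroup.index_eq_card]
      rw [h4] at hidx
      omega
    haveI : Fact (Nat.Prime 2) := ⟨Nat.prime_two⟩
    exact isCyclic_of_prime_card h2
  · have h1 : Nat.card (S ⧸ Subgroup.center S) = 1 := by
      rw [← Subgroup.index_eq_card]
      rw [h8'] at hidx
      omega
    haveI : Subsingleton (S ⧸ Subgroup.center S) := (Nat.card_eq_one_iff_unique.mp h1).1
    exact isCyclic_of_subsingleton

/-- **TAG G3** -/
theorem le_pCore_of_q8Type {H : Type*} [Group H] [Finite H] (hsol : Cfsg.IsPSolvable 2 H)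
    (hO : Cfsg.pPrimeCore 2 H = ⊥) (S : Sylow 2 H) (hS : Q8Type ↥(S : Subgroup H)) :
    (S : Subgroup H) ≤ Cfsg.pCore 2 H := by
  classical
  haveI : Fact (Nat.Prime 2) := ⟨Nat.prime_two⟩
  obtain ⟨hS8, hSnab, hSsq⟩ := hS
  set R := Cfsg.pCore 2 H with hR
  haveI hRn : R.Normal := Cfsg.Agent.Lib.Helper24.pCore_normal' 2
  have hRp : IsPGroup 2 R := Cfsg.Agent.Lib.Helper12.pCore_isPGroup' 2
  have hRS : R ≤ (S : Subgroup H) := Cfsg.Agent.Lib.Helper24.normal_pgroup_le_sylow R hRp S
  have hCR : Subgroup.centralizer (R : Set H) ≤ R :=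
    Cfsg.Agent.Lib.Helper12.centralizer_pCore_le_pCore 2 hsol hO
  have hRdvd : Nat.card R ∣ 8 := by
    rw [← hS8]
    exact Subgroup.card_dvd_of_le hRS
  have hRle : Nat.card R ≤ 8 := Nat.le_of_dvd (by norm_num) hRdvd
  have hRpos : 0 < Nat.card R := Nat.card_pos
  have hcases : Nat.card R = 1 ∨ Nat.card R = 2 ∨ Nat.card R = 4 ∨ Nat.card R = 8 := by
    interval_cases h : Nat.card R <;> simp_all <;> omega
  -- a central `R` gives everything
  have hcentral : (∀ r ∈ R, ∀ g : H, g * r * g⁻¹ = r) → (S : Subgroup H) ≤ R := by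
    intro hc
    have htop : Subgroup.centralizer (R : Set H) = ⊤ := by
      rw [eq_top_iff]
      intro g _
      rw [Subgroup.mem_centralizer_iff]
      intro r hr
      have := hc r hr g
      calc r * g = g * r * g⁻¹ * g := by rw [this]
        _ = g * r := by group
    rw [htop] at hCR
    exact le_trans le_top hCR
  rcases hcases with h1 | h2 | h4 | h8
  · -- `R = ⊥`
    apply hcentral
    intro r hr g
    have hbot : R = ⊥ := Subgroup.card_eq_one.mp h1
    rw [hbot, Subgroup.mem_bot] at hr
    rw [hr]
    group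
  · -- `|R| = 2`
    apply hcentral
    intro r hr g
    by_cases hr1 : r = 1
    · rw [hr1]; group
    · obtain ⟨y, -, hyu⟩ := (Nat.card_eq_two_iff' (1 : R)).mp h2
      have h3 : (⟨r, hr⟩ : R) = y := hyu _ (fun h => hr1 (congrArg Subtype.val h))
      have hconjmem : g * r * g⁻¹ ∈ R := hRn.conj_mem r hr g
      have h4 : (⟨g * r * g⁻¹, hconjmem⟩ : R) = y := by
        apply hyu
        intro h
        apply hr1
        have h5 : g * r * g⁻¹ = 1 := congrArg Subtype.val h
        calc r = g⁻¹ * (g * r * g⁻¹) * g := by group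
          _ = 1 := by rw [h5]; group
      have := h4.trans h3.symm
      exact congrArg Subtype.val this
  · -- `|R| = 4`
    have hZ2 : Nat.card (Subgroup.center ↥(S : Subgroup H)) ≤ 2 := card_center_le_two hS8 hSnab
    -- some element of `R` has a nontrivial square
    have hex : ∃ x ∈ R, x ^ 2 ≠ 1 := by
      by_contra hcon
      push Not at hcon
      -- then `R` embeds into the centre of `S`
      have hmem : ∀ r : R, (⟨(r : H), hRS r.2⟩ : ↥(S : Subgroup H)) ∈ Subgroup.center ↥(S : Subgroup H) := by
        intro r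
        by_contra hnc
        apply hSsq _ hnc
        apply Subtype.ext
        show (r : H) ^ 2 = 1
        exact hcon r r.2
      let f : R → Subgroup.center ↥(S : Subgroup H) := fun r => ⟨⟨(r : H), hRS r.2⟩, hmem r⟩
      have hf : Function.Injective f := by
        intro a b hab
        apply Subtype.ext
        have := congrArg (fun z : Subgroup.center ↥(S : Subgroup H) => ((z : ↥(S : Subgroup H)) : H)) hab
        exact this
      have := Nat.card_le_card_of_injective f hf
      omega
    obtain ⟨x, hxR, hx2⟩ := hex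
    have hx4 : x ^ 4 = 1 := by
      have h5 : (⟨x, hxR⟩ : R) ^ Nat.card R = 1 := pow_card_eq_one'
      rw [h4] at h5
      exact congrArg Subtype.val h5
    -- the conjugates of `x` lie in `R \ {1, x^2}`
    set T : Set H := (R : Set H) \ {1, x ^ 2} with hT
    have hTfin : T.Finite := Set.toFinite _
    have hTcard : T.ncard ≤ 2 := by
      have hsub : ({1, x ^ 2} : Set H) ⊆ (R : Set H) := by
        intro y hy
        rcases hy with rfl | rfl
        · exact R.one_mem
        · exact R.pow_mem hxR 2
      have h6 : T.ncard = (R : Set H).ncard - ({1, x ^ 2} : Set H).ncard :=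
        Set.ncard_diff hsub (Set.toFinite _)
      have h7 : ({1, x ^ 2} : Set H).ncard = 2 := Set.ncard_pair (fun h => hx2 h.symm)
      have h8 : (R : Set H).ncard = 4 := by
        rw [← Nat.card_coe_set_eq]
        exact h4
      rw [h6, h7, h8]
    have hconj : ∀ g : H, g * x * g⁻¹ ∈ T := by
      intro g
      refine ⟨hRn.conj_mem x hxR g, ?_⟩
      intro hmem
      rcases hmem with h | h
      · apply hx2
        have : x = g⁻¹ * (g * x * g⁻¹) * g := by group
        rw [this, h]
        group
      · -- `g x g⁻¹ = x^2` gives `x^2 = (g x g⁻¹)^2 = g x^2 g⁻¹ = ...`, so `(x^2)^2 = 1` forces `x^2 = 1`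
        have h9 : (g * x * g⁻¹) ^ 2 = 1 := by
          rw [h, ← pow_mul]
          exact hx4
        rw [conj_pow] at h9
        apply hx2
        have : x ^ 2 = g⁻¹ * (g * x ^ 2 * g⁻¹) * g := by group
        rw [this, h9]
        group
    have hidx := index_centralizer_le_two x T hTfin hTcard hconj
    -- the centralizer of `x` centralizes `R = ⟨x⟩`
    have hzp : R = Subgroup.zpowers x := by
      symm
      have hle : Subgroup.zpowers x ≤ R := Subgroup.zpowers_le.mpr hxR
      apply SetLike.coe_injective
      apply Set.eq_of_subset_of_ncard_le (fun m hm => hle hm)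
      rw [← Nat.card_coe_set_eq, ← Nat.card_coe_set_eq]
      show Nat.card R ≤ Nat.card (Subgroup.zpowers x)
      rw [h4, Nat.card_zpowers]
      -- `orderOf x = 4`
      have hdvd : orderOf x ∣ 4 := orderOf_dvd_of_pow_eq_one hx4
      have hle4 : orderOf x ≤ 4 := Nat.le_of_dvd (by norm_num) hdvd
      have hpos : 0 < orderOf x := orderOf_pos x
      have hn2 : ¬ orderOf x ∣ 2 := fun h => hx2 (orderOf_dvd_iff_pow_eq_one.mp h)
      interval_cases h : orderOf x <;> simp_all
    have hKle : Subgroup.centralizer ({x} : Set H) ≤ Subgroup.centralizer (R : Set H) := by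
      intro g hg
      rw [Subgroup.mem_centralizer_iff] at hg ⊢
      intro y hy
      rw [hzp] at hy
      obtain ⟨k, rfl⟩ := Subgroup.mem_zpowers_iff.mp hy
      have hc : Commute x g := hg x rfl
      exact (hc.zpow_left k).eq
    have hKcard : Nat.card (Subgroup.centralizer ({x} : Set H)) ≤ 4 := by
      rw [← h4]
      exact Subgroup.card_le_of_le (le_trans hKle hCR)
    have hHcard : Nat.card H ≤ 8 := by
      rw [← Subgroup.card_mul_index (Subgroup.centralizer ({x} : Set H))]
      calc Nat.card (Subgroup.centralizer ({x} : Set H)) * (Subgroup.centralizer ({x} : Set H)).index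
          ≤ 4 * 2 := Nat.mul_le_mul hKcard hidx
        _ = 8 := by norm_num
    have hStop : (S : Subgroup H) = ⊤ := Subgroup.eq_top_of_le_card _ (by rw [hS8]; exact hHcard)
    have hHp : IsPGroup 2 (⊤ : Subgroup H) := by
      rw [← hStop]
      exact S.isPGroup'
    rw [hStop]
    exact Cfsg.Agent.Lib.Helper12.le_pCore' 2 ⊤ inferInstance hHp
  · -- `|R| = 8`
    have : R = (S : Subgroup H) := by
      apply SetLike.coe_injective
      apply Set.eq_of_subset_of_ncard_le (fun m hm => hRS hm)
      rw [← Nat.card_coe_set_eq, ← Nat.card_coe_set_eq]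
      show Nat.card (S : Subgroup H) ≤ Nat.card R
      rw [h8, hS8]
    rw [this]

end Cfsg.Agent.Lib.Helper9.SchPG3
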