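import Mathlib
import Cfsg.Prelude.Def_Transfer
import Cfsg.Prelude.Def_SolvableStructure
import Cfsg.Prelude.Def_Local
import Cfsg.Prelude.Def_CaseTheorems
import Cfsg.Agent.Lib.Helper21.SchDefs
import Cfsg.Agent.Lib.Helper21.SchPDefs

/-!
# S4394 (planner helper21), leaf N8 `schType_of_mulEquiv` (helper9)
-/

set_option autoImplicit false
universe u v
open Cfsg
open Cfsg.Agent.Lib.Helper21.Sch
open Cfsg.Agent.Lib.Helper21.SchP

namespace Cfsg.Agent.Lib.Helper9.SchPN8

section
variable {S : Type*} [Group S] {S' : Type*} [Group S']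

theorem map_mem_center (e : S ≃* S') {z : S} (hz : z ∈ Subgroup.center S) : e z ∈ Subgroup.center S' := by
  rw [Subgroup.mem_center_iff] at hz ⊢
  intro g
  have h1 := hz (e.symm g)
  have h2 := congrArg e h1
  rw [map_mul, map_mul, e.apply_symm_apply] at h2
  exact h2

theorem map_center_eq (e : S ≃* S') : (Subgroup.center S).map e.toMonoidHom = Subgroup.center S' := by
  ext z
  constructor
  · rintro ⟨w, hw, rfl⟩
    exact map_mem_center e hw
  · intro hz
    refine ⟨e.symm z, map_mem_center e.symm hz, ?_⟩
    exact e.apply_symm_apply z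

theorem classTwo_of_mulEquiv (e : S ≃* S') (h : ClassTwo S) : ClassTwo S' := by
  intro x y
  have h1 := map_mem_center e (h (e.symm x) (e.symm y))
  simpa using h1

theorem q8Type_of_mulEquiv (e : S ≃* S') (h : Q8Type S) : Q8Type S' := by
  obtain ⟨h8, ⟨x, y, hxy⟩, hsq⟩ := h
  refine ⟨?_, ⟨e x, e y, ?_⟩, ?_⟩
  · rw [← Nat.card_congr e.toEquiv]
    exact h8
  · intro hcon
    apply hxy
    apply e.injective
    rw [map_mul, map_mul]
    exact hcon
  · intro x' hx' hcon
    have h1 : e.symm x' ∉ Subgroup.center S := by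
      intro hc
      apply hx'
      have := map_mem_center e hc
      rwa [e.apply_symm_apply] at this
    apply hsq _ h1
    rw [← map_pow, hcon, map_one]

theorem bigType_of_mulEquiv (p : ℕ) (e : S ≃* S') (h : BigType p S) : BigType p S' := by
  obtain ⟨h1, h2, h3⟩ := h
  refine ⟨?_, ?_, ?_⟩
  · intro x y
    have := map_mem_center e (h1 (e.symm x) (e.symm y))
    simpa using this
  · intro x
    have := map_mem_center e (h2 (e.symm x))
    simpa using this
  · intro R' S₁' hle hidx hcent
    set R : Subgroup S := R'.comap e.toMonoidHom with hR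
    set S₁ : Subgroup S := S₁'.comap e.toMonoidHom with hS₁
    have hle' : R ≤ S₁ := Subgroup.comap_mono hle
    have hidx' : S₁.index = p := by
      rw [hS₁, Subgroup.index_comap_of_surjective _ e.surjective]
      exact hidx
    have hcent' : Subgroup.centralizer (R : Set S) ≤ R := by
      intro g hg
      rw [hR, Subgroup.mem_comap]
      apply hcent
      rw [Subgroup.mem_centralizer_iff] at hg ⊢
      intro r' hr'
      have hr : e.symm r' ∈ R := by
        rw [hR, Subgroup.mem_comap]
        show e (e.symm r') ∈ R'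
        rw [e.apply_symm_apply]
        exact hr'
      have h4 := congrArg e (hg _ hr)
      rw [map_mul, map_mul, e.apply_symm_apply] at h4
      exact h4
    have h5 := h3 R S₁ hle' hidx' hcent'
    have h6 : (Subgroup.closure {c : S | ∃ r ∈ R, ∃ s ∈ S₁, c = r * s * r⁻¹ * s⁻¹}).map e.toMonoidHom =
        Subgroup.closure {c : S' | ∃ r ∈ R', ∃ s ∈ S₁', c = r * s * r⁻¹ * s⁻¹} := by
      rw [MonoidHom.map_closure]
      congr 1
      ext c'
      constructor
      · rintro ⟨c, ⟨r, hr, s, hs, rfl⟩, rfl⟩
        refine ⟨e r, hr, e s, hs, ?_⟩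
        simp
      · rintro ⟨r', hr', s', hs', rfl⟩
        refine ⟨e.symm r' * e.symm s' * (e.symm r')⁻¹ * (e.symm s')⁻¹, ⟨e.symm r', ?_, e.symm s', ?_, rfl⟩, ?_⟩
        · rw [hR, Subgroup.mem_comap]
          show e (e.symm r') ∈ R'
          rw [e.apply_symm_apply]
          exact hr'
        · rw [hS₁, Subgroup.mem_comap]
          show e (e.symm s') ∈ S₁'
          rw [e.apply_symm_apply]
          exact hs'
        · simp
    rw [← h6, h5, map_center_eq]

end

/-- **TAG N8** transport along an isomorphism. -/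
theorem schType_of_mulEquiv {S : Type*} [Group S] {S' : Type*} [Group S'] (p : ℕ) (e : S ≃* S')
    (h : SchType p S) : SchType p S' := by
  rcases h with h | h | ⟨hp, h⟩ | ⟨hp, h⟩
  · left
    intro x y
    have h1 := congrArg e (h (e.symm x) (e.symm y))
    simpa using h1
  · right; left
    exact bigType_of_mulEquiv p e h
  · right; right; left
    exact ⟨hp, q8Type_of_mulEquiv e h⟩
  · right; right; right
    exact ⟨hp, classTwo_of_mulEquiv e h⟩

end Cfsg.Agent.Lib.Helper9.SchPN8
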