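import Mathlib
import Cfsg.Agent.Lib.Helper15.PGLInvol

/-! Determinant of a matrix squaring to a nonsquare scalar. -/

set_option autoImplicit false
open scoped MatrixGroups

namespace Cfsg.Agent.Lib.Helper9.SubfieldF
open Matrix Polynomial Module Cfsg.Agent.Lib.Helper15.PGLInvol

universe u
variable {F : Type u} [Field F] {n : ℕ}

/-- determinant of a matrix squaring to a nonsquare scalar -/
theorem det_of_sq_nonsquare (A : Matrix (Fin n) (Fin n) F) (z : F) (hz : ¬ IsSquare z)
    (hA : A * A = z • 1) : ∃ m : ℕ, n = 2 * m ∧ A.det = (-z) ^ m := by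
  classical
  set P : F[X] := X ^ 2 - C z with hP
  have hPm : P.Monic := monic_X_pow_sub_C z (by norm_num)
  have hPd : P.natDegree = 2 := natDegree_X_pow_sub_C
  have hPi : Irreducible P := by
    apply Polynomial.irreducible_of_degree_le_three_of_not_isRoot
    · rw [hPd]; simp
    · intro x hx
      apply hz
      refine ⟨x, ?_⟩
      rw [IsRoot.def, hP, eval_sub, eval_pow, eval_X, eval_C, sub_eq_zero] at hx
      rw [← hx, sq]
  set T : End F (Fin n → F) := Matrix.toLin' A with hT
  have hTT : T * T = z • (1 : End F (Fin n → F)) := by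
    rw [hT, Module.End.mul_eq_comp, ← Matrix.toLin'_mul, hA, map_smul, Matrix.toLin'_one]
    rfl
  have haev : aeval T P = 0 := by
    rw [hP, map_sub, map_pow, aeval_X, aeval_C, sq, hTT, Algebra.algebraMap_eq_smul_one, sub_self]
  have h1 := charpoly_isotypic P hPm hPi n (Fin n → F) T (Module.finrank_fin_fun F) haev
  rw [hPd] at h1
  have hcp : A.charpoly = P ^ (n / 2) := by
    rw [← h1, hT, Matrix.charpoly_toLin']
  have hdeg : n = 2 * (n / 2) := by
    have := congrArg Polynomial.natDegree hcp
    rw [Matrix.charpoly_natDegree_eq_dim, Fintype.card_fin, natDegree_pow, hPd] at this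
    omega
  refine ⟨n / 2, hdeg, ?_⟩
  rw [Matrix.det_eq_sign_charpoly_coeff, hcp, Fintype.card_fin]
  have heven : Even n := ⟨n / 2, by omega⟩
  rw [heven.neg_one_pow, one_mul, Polynomial.coeff_zero_eq_eval_zero, eval_pow, hP, eval_sub, eval_pow,
    eval_X, eval_C]
  congr 1
  ring

end Cfsg.Agent.Lib.Helper9.SubfieldF
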