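import Mathlib
import Cfsg.Agent.Lib.Helper9.SubfieldA
import Cfsg.Agent.Lib.Helper15.UniJordan

/-! Elements `x` of `SL_n(F)` with `x^p` scalar (`p` the characteristic) are conjugate into the
subfield subgroup under a solvability hypothesis on determinants. -/

set_option autoImplicit false
open scoped MatrixGroups

namespace Cfsg.Agent.Lib.Helper9.SubfieldC
open Matrix Module Cfsg.Agent.Lib.Helper15.NilpotentConj Cfsg.Agent.Lib.Helper15.UniJordan
  Cfsg.Agent.Lib.Helper9.SubfieldA

universe u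

variable {F : Type u} [Field F]

/-- the Jordan matrix over a subfield maps to the Jordan matrix -/
theorem jordan_map (F₀ : Subfield F) {t : ℕ} (d : Fin t → ℕ) :
    (Cfsg.jordanTypeMatrix d F₀).map (F₀.subtype : F₀ →+* F) = Cfsg.jordanTypeMatrix d F := by
  unfold Cfsg.jordanTypeMatrix
  rw [Matrix.blockDiagonal'_map _ _ (map_zero _)]
  congr 1
  funext k
  ext i j
  unfold Cfsg.jordanBlock
  simp only [Matrix.map_apply, Matrix.of_apply]
  split_ifs <;> simp

/-- every multiset is the type of a function on `Fin t` -/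
theorem exists_typeOf (μ : Multiset ℕ) : ∃ (t : ℕ) (d : Fin t → ℕ), typeOf d = μ := by
  refine ⟨μ.toList.length, fun j => μ.toList.get j, ?_⟩
  unfold typeOf
  rw [Fin.univ_val_map, List.ofFn_get, Multiset.coe_toList]

/-- a diagonal matrix constant on blocks commutes with a block diagonal matrix -/
theorem diag_comm_block {t : ℕ} (d : Fin t → ℕ) (w : Fin t → F)
    (B : ∀ k : Fin t, Matrix (Fin (d k)) (Fin (d k)) F) :
    Matrix.diagonal (fun x : (k : Fin t) × Fin (d k) => w x.1) * Matrix.blockDiagonal' B =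
      Matrix.blockDiagonal' B * Matrix.diagonal (fun x : (k : Fin t) × Fin (d k) => w x.1) := by
  ext x y
  rw [Matrix.diagonal_mul, Matrix.mul_diagonal]
  by_cases h : x.1 = y.1
  · rw [h, mul_comm]
  · obtain ⟨k, i⟩ := x
    obtain ⟨k', j⟩ := y
    rw [Matrix.blockDiagonal'_apply_ne _ _ _ h, mul_zero, zero_mul]

theorem det_diag_block {t : ℕ} (d : Fin t → ℕ) (j₀ : Fin t) (a : F) :
    (Matrix.diagonal (fun x : (k : Fin t) × Fin (d k) => if x.1 = j₀ then a else 1)).det =
      a ^ d j₀ := by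
  rw [Matrix.det_diagonal, Fintype.prod_sigma]
  rw [Finset.prod_eq_single j₀]
  · simp
  · intro b _ hb
    simp [hb]
  · intro h
    exact absurd (Finset.mem_univ _) h

section main

variable {F : Type u} [Field F] [Fintype F]

theorem unipotent_conj (p : ℕ) [Fact p.Prime] [CharP F p] {n : ℕ} (F₀ : Subfield F)
    (x : Matrix.SpecialLinearGroup (Fin n) F) (z : F)
    (hx : ((x ^ p : Matrix.SpecialLinearGroup (Fin n) F) : Matrix (Fin n) (Fin n) F) =
      z • (1 : Matrix (Fin n) (Fin n) F))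
    (hsolve : ∀ (t : ℕ) (d : Fin t → ℕ), (∀ j, 1 ≤ d j ∧ d j ≤ p) → ∑ j, d j = n →
      ∀ δ : F, δ ≠ 0 → ∃ (j : Fin t) (a : F) (a₀ : F₀), a ^ (d j) * (a₀ : F) = δ) :
    ∃ P : Matrix.SpecialLinearGroup (Fin n) F, P⁻¹ * x * P ∈ HH F₀ n := by
  classical
  have hp : p.Prime := Fact.out
  -- n ≥ 1
  have hn : 0 < n := by
    rcases Nat.eq_zero_or_pos n with h0 | h0
    · obtain ⟨j, -⟩ := hsolve 0 Fin.elim0 (fun j => j.elim0) (by simp [h0]) 1 one_ne_zero
      exact j.elim0
    · exact h0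
  -- z ≠ 0
  have hz : z ≠ 0 := by
    rintro rfl
    have hd := congrArg Matrix.det hx
    have : Nonempty (Fin n) := ⟨⟨0, hn⟩⟩
    rw [(x ^ p).2, zero_smul, Matrix.det_zero] at hd
    exact one_ne_zero hd
  -- p-th root
  obtain ⟨lam, hlam⟩ : ∃ lam : F, lam ^ p = z := by
    have := Finite.surjective_of_injective (frobenius_inj F p) z
    obtain ⟨l, hl⟩ := this
    exact ⟨l, by rwa [frobenius_def] at hl⟩
  have hlam0 : lam ≠ 0 := by
    rintro rfl
    rw [zero_pow hp.ne_zero] at hlam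
    exact hz hlam.symm
  -- the unipotent part
  set u : Matrix (Fin n) (Fin n) F := lam⁻¹ • (x : Matrix (Fin n) (Fin n) F) with hu
  have hup : u ^ p = 1 := by
    rw [hu, smul_pow, ← Matrix.SpecialLinearGroup.coe_pow, hx, smul_smul, inv_pow, hlam,
      inv_mul_cancel₀ hz, one_smul]
  have hN : (u - 1) ^ p = 0 := by
    have := sub_one_pow_char_pow p u 1
    rw [pow_one] at this
    rw [this, hup, sub_self]
  have hNil : IsNilpotent (u - 1) := ⟨p, hN⟩
  obtain ⟨μ, hμ1, hμs, hμk⟩ := exists_type_matrix (u - 1) hNil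
  have hμp : ∀ a ∈ μ, a ≤ p := by
    rw [← kapm_eq_sum_iff, ← hμk, hμs, ← pow_eq_zero_iff_mkap]
    exact hN
  obtain ⟨t, d, hd⟩ := exists_typeOf μ
  have hd1 : ∀ j, 1 ≤ d j ∧ d j ≤ p := by
    intro j
    have hmem : d j ∈ μ := by
      rw [← hd]
      unfold typeOf
      exact Multiset.mem_map_of_mem d (Finset.mem_univ_val j)
    exact ⟨hμ1 _ hmem, hμp _ hmem⟩
  have hdsum : ∑ j, d j = n := by
    rw [← hμs, ← hd, sum_typeOf]
  have hcard : Fintype.card ((k : Fin t) × Fin (d k)) = n := by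
    rw [Fintype.card_sigma]
    simpa using hdsum
  let e : ((k : Fin t) × Fin (d k)) ≃ Fin n := Fintype.equivFinOfCardEq hcard
  set J : Matrix (Fin n) (Fin n) F := Matrix.reindex e e (Cfsg.jordanTypeMatrix d F) with hJ
  have hsub : Matrix.toLin' u - 1 = Matrix.toLin' (u - 1) := by
    rw [map_sub, Matrix.toLin'_one]
    rfl
  have hconj : IsConj u J := by
    apply isConj_of_kap
    · rw [hsub]
      exact isNilpotent_toLin' _ hNil
    · exact nilpotent_jordan d e
    · intro s
      rw [kap_jordan d e s, hd, ← hμk s, hsub]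
      rfl
  obtain ⟨c, hc⟩ := hconj
  have hc' : (c : Matrix (Fin n) (Fin n) F) * u = J * (c : Matrix (Fin n) (Fin n) F) := hc
  have hcinv : ((c⁻¹ : (Matrix (Fin n) (Fin n) F)ˣ) : Matrix (Fin n) (Fin n) F) * (c : Matrix (Fin n) (Fin n) F) = 1 := by
    rw [← Units.val_mul, inv_mul_cancel, Units.val_one]
  have hcinv' : (c : Matrix (Fin n) (Fin n) F) * ((c⁻¹ : (Matrix (Fin n) (Fin n) F)ˣ) : Matrix (Fin n) (Fin n) F) = 1 := by
    rw [← Units.val_mul, mul_inv_cancel, Units.val_one]
  set g : Matrix (Fin n) (Fin n) F := ((c⁻¹ : (Matrix (Fin n) (Fin n) F)ˣ) : Matrix (Fin n) (Fin n) F) with hg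
  have hug : u * g = g * J := by
    calc u * g = (g * (c : Matrix (Fin n) (Fin n) F)) * u * g := by rw [hcinv, Matrix.one_mul]
      _ = g * ((c : Matrix (Fin n) (Fin n) F) * u) * g := by simp only [Matrix.mul_assoc]
      _ = g * J * ((c : Matrix (Fin n) (Fin n) F) * g) := by rw [hc']; simp only [Matrix.mul_assoc]
      _ = g * J := by rw [hcinv', Matrix.mul_one]
  have hxg : (x : Matrix (Fin n) (Fin n) F) * g = g * (lam • J) := by
    have hxu : (x : Matrix (Fin n) (Fin n) F) = lam • u := by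
      rw [hu, smul_smul, mul_inv_cancel₀ hlam0, one_smul]
    rw [hxu, Matrix.smul_mul, hug, Matrix.mul_smul]
  have hgdet : g.det ≠ 0 := by
    intro h
    have := congrArg Matrix.det hcinv
    rw [Matrix.det_mul, h, zero_mul, Matrix.det_one] at this
    exact zero_ne_one this
  -- J comes from the subfield
  set J₀ : Matrix (Fin n) (Fin n) F₀ := Matrix.reindex e e (Cfsg.jordanTypeMatrix d F₀) with hJ₀
  have hJmap : J₀.map (F₀.subtype : F₀ →+* F) = J := by
    rw [hJ₀, hJ, ← jordan_map F₀ d]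
    ext i j
    simp [Matrix.reindex_apply]
  -- determinant adjustment
  obtain ⟨j₀, a, a₀, ha⟩ := hsolve t d hd1 hdsum (g.det)⁻¹ (inv_ne_zero hgdet)
  have ha₀ : a₀ ≠ 0 := by
    rintro rfl
    rw [Subfield.coe_zero, mul_zero] at ha
    exact inv_ne_zero hgdet ha.symm
  set c' : Matrix (Fin n) (Fin n) F := Matrix.reindex e e
    (Matrix.diagonal (fun x : (k : Fin t) × Fin (d k) => if x.1 = j₀ then a else 1)) with hc'def
  have hc'det : c'.det = a ^ d j₀ := by
    rw [hc'def, Matrix.det_reindex_self, det_diag_block]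
  have hc'comm : J * c' = c' * J := by
    rw [hJ, hc'def, Matrix.reindex_apply, Matrix.reindex_apply, Matrix.submatrix_mul_equiv,
      Matrix.submatrix_mul_equiv]
    congr 1
    exact (diag_comm_block d (fun k => if k = j₀ then a else 1) _).symm
  apply exists_conj_mem' F₀ x (g * c') a₀⁻¹ (inv_ne_zero ha₀) ?_ J₀ lam hlam0 ?_
  · rw [Matrix.det_mul, hc'det]
    have h1 : g.det * a ^ d j₀ * (a₀ : F) = 1 := by
      rw [mul_assoc, ha, mul_inv_cancel₀ hgdet]
    have h2 : ((a₀⁻¹ : F₀) : F) = (a₀ : F)⁻¹ := by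
      simp
    rw [h2]
    have h3 : (a₀ : F) ≠ 0 := by
      intro h
      apply ha₀
      exact_mod_cast h
    field_simp
    exact h1
  · rw [hJmap, ← Matrix.mul_assoc, hxg, Matrix.mul_assoc, Matrix.smul_mul, hc'comm,
      ← Matrix.mul_smul, ← Matrix.mul_assoc]

end main

end Cfsg.Agent.Lib.Helper9.SubfieldC
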