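import Mathlib

/-! Finite field arithmetic for subfield subgroups: squares in subfields, nonsquares with
prescribed powers. -/

set_option autoImplicit false

namespace Cfsg.Agent.Lib.Helper9.SubfieldD

/-- `b^k - 1 = (b - 1) * S` with `S` odd when `b`, `k` are odd -/
theorem odd_geom (b k : ℕ) (hb : Odd b) (hk : Odd k) :
    ∃ S : ℕ, Odd S ∧ b ^ k - 1 = (b - 1) * S := by
  refine ⟨∑ i ∈ Finset.range k, b ^ i, ?_, ?_⟩
  · rw [Finset.odd_sum_iff_odd_card_odd]
    have : (Finset.range k).filter (fun i => Odd (b ^ i)) = Finset.range k := by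
      apply Finset.filter_true_of_mem
      intro i _
      exact hb.pow
    rw [this, Finset.card_range]
    exact hk
  · have hb1 : 1 ≤ b := hb.pos
    have h := Nat.geomSum_eq (m := b)
    zify [hb1, Nat.one_le_pow k b hb1]
    push_cast
    rw [mul_comm]
    exact (geom_sum_mul (b : ℤ) k).symm

variable {F : Type*} [Field F] [Fintype F]

theorem ringChar_ne_two (hodd : Odd (Fintype.card F)) : ringChar F ≠ 2 := by
  intro h
  rw [FiniteField.even_card_iff_char_two] at h
  rw [Nat.odd_iff] at hodd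
  omega

/-- `k = 2`: every element of the subfield is a square -/
theorem isSquare_of_mem_subfield (F₀ : Subfield F) (q₀ : ℕ) (hF₀ : Nat.card F₀ = q₀)
    (hq : Fintype.card F = q₀ ^ 2) (hodd : Odd (Fintype.card F)) (a : F₀) : IsSquare (a : F) := by
  classical
  by_cases ha : a = 0
  · subst ha
    exact ⟨0, by simp⟩
  have : Fintype F₀ := Fintype.ofFinite F₀
  have hcard : Fintype.card F₀ = q₀ := by rw [← Nat.card_eq_fintype_card, hF₀]
  have h1 : a ^ (q₀ - 1) = 1 := by
    rw [← hcard]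
    exact FiniteField.pow_card_sub_one_eq_one a ha
  have ha' : (a : F) ≠ 0 := by
    intro h
    apply ha
    exact_mod_cast h
  rw [FiniteField.isSquare_iff (ringChar_ne_two hodd) ha', hq]
  have hq₀ : Odd q₀ := by
    rw [hq] at hodd
    exact (Nat.odd_pow_iff (by norm_num)).mp hodd
  obtain ⟨h, rfl⟩ := hq₀
  have e1 : (2 * h + 1) ^ 2 / 2 = (2 * h + 1 - 1) * (h + 1) := by
    have : (2 * h + 1) ^ 2 = 2 * ((2 * h + 1 - 1) * (h + 1)) + 1 := by
      simp only [Nat.add_sub_cancel]
      ring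
    omega
  rw [e1, pow_mul, ← SubmonoidClass.coe_pow, h1, Subfield.coe_one, one_pow]

/-- `k` odd: a nonsquare of the subfield stays a nonsquare -/
theorem exists_nonsquare_subfield (F₀ : Subfield F) (k q₀ : ℕ) (hF₀ : Nat.card F₀ = q₀)
    (hq : Fintype.card F = q₀ ^ k) (hodd : Odd (Fintype.card F)) (hk : Odd k) :
    ∃ a₀ : F₀, a₀ ≠ 0 ∧ (a₀ : F) ^ (Fintype.card F / 2) = -1 := by
  classical
  have : Fintype F₀ := Fintype.ofFinite F₀
  have hcard : Fintype.card F₀ = q₀ := by rw [← Nat.card_eq_fintype_card, hF₀]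
  have hq₀ : Odd q₀ := by
    rw [hq] at hodd
    exact (Nat.odd_pow_iff hk.pos.ne').mp hodd
  have hch : ringChar F₀ ≠ 2 := by
    apply ringChar_ne_two
    rw [hcard]
    exact hq₀
  obtain ⟨a₀, ha₀⟩ := FiniteField.exists_nonsquare hch
  have ha0 : a₀ ≠ 0 := by
    rintro rfl
    exact ha₀ ⟨0, by simp⟩
  refine ⟨a₀, ha0, ?_⟩
  have h1 : a₀ ^ (q₀ / 2) = -1 := by
    have hd := FiniteField.pow_dichotomy hch ha0
    rw [hcard] at hd
    rcases hd with hd | hd
    · exfalso
      apply ha₀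
      rw [FiniteField.isSquare_iff hch ha0, hcard]
      exact hd
    · exact hd
  obtain ⟨S, hS, hSeq⟩ := odd_geom q₀ k hq₀ hk
  have e1 : q₀ ^ k / 2 = (q₀ / 2) * S := by
    obtain ⟨h, rfl⟩ := hq₀
    have h2 : (2 * h + 1) / 2 = h := by omega
    rw [h2]
    have h3 : 1 ≤ (2 * h + 1) ^ k := Nat.one_le_pow _ _ (by omega)
    have h4 : (2 * h + 1) ^ k = 2 * (h * S) + 1 := by
      have : (2 * h + 1) ^ k - 1 = 2 * (h * S) := by
        rw [hSeq, Nat.add_sub_cancel]
        ring
      omega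
    omega
  rw [hq, e1, pow_mul, ← SubmonoidClass.coe_pow, h1]
  rw [Subfield.coe_neg, Subfield.coe_one, hS.neg_one_pow]

/-- `k` odd: every nonzero element is a square times an element of the subfield -/
theorem exists_sq_mul_subfield (F₀ : Subfield F) (k q₀ : ℕ) (hF₀ : Nat.card F₀ = q₀)
    (hq : Fintype.card F = q₀ ^ k) (hodd : Odd (Fintype.card F)) (hk : Odd k) (δ : F) (hδ : δ ≠ 0) :
    ∃ (b : F) (a₀ : F₀), b ^ 2 * (a₀ : F) = δ := by
  have hch := ringChar_ne_two hodd
  by_cases hsq : IsSquare δ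
  · obtain ⟨b, hb⟩ := hsq
    exact ⟨b, 1, by rw [Subfield.coe_one, mul_one, hb, pow_two]⟩
  · obtain ⟨a₀, ha0, ha₀⟩ := exists_nonsquare_subfield F₀ k q₀ hF₀ hq hodd hk
    have ha' : (a₀ : F) ≠ 0 := by
      intro h
      apply ha0
      exact_mod_cast h
    have hδ1 : δ ^ (Fintype.card F / 2) = -1 := by
      rcases FiniteField.pow_dichotomy hch hδ with hd | hd
      · exfalso
        apply hsq
        rw [FiniteField.isSquare_iff hch hδ]
        exact hd
      · exact hd
    have hquot : IsSquare (δ / (a₀ : F)) := by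
      rw [FiniteField.isSquare_iff hch (div_ne_zero hδ ha'), div_pow, hδ1, ha₀]
      simp
    obtain ⟨b, hb⟩ := hquot
    refine ⟨b, a₀, ?_⟩
    rw [pow_two, ← hb]
    field_simp

theorem neg_one_ne_one (hodd : Odd (Fintype.card F)) : (-1 : F) ≠ 1 := by
  intro h
  have h2 : (2 : F) = 0 := by
    have : (1 : F) + 1 = 0 := by
      nth_rewrite 1 [← h]
      ring
    rw [← this]
    norm_num
  have hc := ringChar_ne_two hodd
  apply hc
  have : ringChar F ∣ 2 := by
    rw [← CharP.cast_eq_zero_iff F (ringChar F)]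
    exact_mod_cast h2
  rcases (Nat.dvd_prime Nat.prime_two).mp this with h1 | h1
  · exfalso
    have := CharP.ringChar_ne_one (R := F)
    exact this h1
  · exact h1

theorem padic_two_pow_mul_odd (v m : ℕ) (hm : Odd m) : padicValNat 2 (2 ^ v * m) = v := by
  have hm0 : m ≠ 0 := hm.pos.ne'
  have h2 : ¬ 2 ∣ m := by
    rw [Nat.odd_iff] at hm
    omega
  rw [padicValNat.mul (by positivity) hm0, padicValNat.prime_pow,
    padicValNat.eq_zero_of_not_dvd h2, add_zero]

/-- if `(n)_2 ≤ (q-1)_2`, `-1` is a square and `(-z)^(n/2) = 1` then `z` is a square -/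
theorem isSquare_of_pow_eq_one (hodd : Odd (Fintype.card F)) (hi : IsSquare (-1 : F))
    (m : ℕ) (hm : m ≠ 0)
    (hv : padicValNat 2 (2 * m) ≤ padicValNat 2 (Fintype.card F - 1)) (z : F)
    (hz : (-z) ^ m = 1) : IsSquare z := by
  by_contra hns
  have hch := ringChar_ne_two hodd
  obtain ⟨i, hi⟩ := hi
  have hw : ¬ IsSquare (-z) := by
    rintro ⟨y, hy⟩
    apply hns
    refine ⟨i * y, ?_⟩
    have : z = (-1) * (-z) := by ring
    rw [this, hi, hy]
    ring
  have hw0 : -z ≠ 0 := by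
    intro h
    apply hw
    rw [h]
    exact ⟨0, by simp⟩
  have hw1 : (-z) ^ (Fintype.card F / 2) = -1 := by
    rcases FiniteField.pow_dichotomy hch hw0 with hd | hd
    · exfalso
      apply hw
      rw [FiniteField.isSquare_iff hch hw0]
      exact hd
    · exact hd
  obtain ⟨v, m', hm', hmeq⟩ := Nat.exists_eq_two_pow_mul_odd hm
  have hv2 : padicValNat 2 (2 * m) = v + 1 := by
    rw [hmeq, ← mul_assoc, ← pow_succ']
    exact padic_two_pow_mul_odd (v + 1) m' hm'
  rw [hv2] at hv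
  have hq1 : Fintype.card F - 1 ≠ 0 := by
    have := Fintype.one_lt_card (α := F)
    omega
  have hdvd : 2 ^ (v + 1) ∣ Fintype.card F - 1 := by
    rw [padicValNat_dvd_iff_le hq1]
    exact hv
  obtain ⟨c, hc⟩ := hdvd
  have hhalf : Fintype.card F / 2 = 2 ^ v * c := by
    have : Fintype.card F = 2 * (2 ^ v * c) + 1 := by
      have h1 : Fintype.card F - 1 = 2 * (2 ^ v * c) := by
        rw [hc, pow_succ]
        ring
      omega
    omega
  have key : (-z) ^ (Fintype.card F / 2 * m') = 1 := by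
    have : Fintype.card F / 2 * m' = m * c := by
      rw [hhalf, hmeq]
      ring
    rw [this, pow_mul, hz, one_pow]
  rw [pow_mul, hw1, hm'.neg_one_pow] at key
  exact neg_one_ne_one hodd key

/-- if `(q-1)_2 < (n)_2` and `-1` is a square there is a nonsquare `z` with `(-z)^(n/2) = 1` -/
theorem exists_nonsquare_pow (hodd : Odd (Fintype.card F)) (hi : IsSquare (-1 : F))
    (n : ℕ) (hv : padicValNat 2 (Fintype.card F - 1) < padicValNat 2 n) :
    ∃ z : F, ¬ IsSquare z ∧ (-z) ^ (n / 2) = 1 := by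
  have hch := ringChar_ne_two hodd
  obtain ⟨i, hi⟩ := hi
  have hq1 : Fintype.card F - 1 ≠ 0 := by
    have := Fintype.one_lt_card (α := F)
    omega
  have hn0 : n ≠ 0 := by
    rintro rfl
    simp at hv
  obtain ⟨a, o, ho, hqeq⟩ := Nat.exists_eq_two_pow_mul_odd hq1
  have ha : padicValNat 2 (Fintype.card F - 1) = a := by
    rw [hqeq]
    exact padic_two_pow_mul_odd a o ho
  rw [ha] at hv
  have ha1 : 1 ≤ a := by
    by_contra h
    have h0 : a = 0 := by omega
    rw [h0, pow_zero, one_mul] at hqeq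
    rw [Nat.odd_iff] at hodd ho
    omega
  obtain ⟨a', rfl⟩ : ∃ a', a = a' + 1 := ⟨a - 1, by omega⟩
  have hhalf : Fintype.card F / 2 = 2 ^ a' * o := by
    have h1 : Fintype.card F - 1 = 2 * (2 ^ a' * o) := by
      rw [hqeq, pow_succ]
      ring
    omega
  obtain ⟨ν, hν⟩ := FiniteField.exists_nonsquare hch
  have hν0 : ν ≠ 0 := by
    rintro rfl
    exact hν ⟨0, by simp⟩
  have hν1 : ν ^ (Fintype.card F / 2) = -1 := by
    rcases FiniteField.pow_dichotomy hch hν0 with hd | hd
    · exfalso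
      apply hν
      rw [FiniteField.isSquare_iff hch hν0]
      exact hd
    · exact hd
  set w := ν ^ o with hw
  have hw0 : w ≠ 0 := pow_ne_zero _ hν0
  have hw1 : w ^ (Fintype.card F / 2) = -1 := by
    rw [hw, ← pow_mul, mul_comm, pow_mul, hν1, ho.neg_one_pow]
  have hwns : ¬ IsSquare w := by
    rw [FiniteField.isSquare_iff hch hw0, hw1]
    exact neg_one_ne_one hodd
  have hw2 : w ^ (2 ^ (a' + 1)) = 1 := by
    rw [hw, ← pow_mul, mul_comm, ← hqeq]
    exact FiniteField.pow_card_sub_one_eq_one ν hν0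
  have hdvd : 2 ^ (a' + 1 + 1) ∣ n := by
    rw [padicValNat_dvd_iff_le hn0]
    omega
  obtain ⟨c, hc⟩ := hdvd
  have hn2 : n / 2 = 2 ^ (a' + 1) * c := by
    rw [hc, pow_succ (2) (a' + 1)]
    rw [mul_assoc, mul_comm 2 c, ← mul_assoc]
    exact Nat.mul_div_cancel _ (by norm_num)
  refine ⟨-w, ?_, ?_⟩
  · rintro ⟨y, hy⟩
    apply hwns
    refine ⟨i * y, ?_⟩
    have : w = (-1) * (-w) := by ring
    rw [this, hi, hy]
    ring
  · rw [neg_neg, hn2, pow_mul, hw2, one_pow]

end Cfsg.Agent.Lib.Helper9.SubfieldD
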