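import Mathlib

namespace Cfsg.Agent.Lib.Helper9.Ext27A
open Matrix

variable {F : Type*} [Field F] {n : ℕ}

/-- if the eigenvectors (with eigenvalues satisfying `P`) span, the matrix is diagonalizable -/
theorem exists_diag_of_span (y : Matrix (Fin n) (Fin n) F) (P : F → Prop)
    (hspan : Submodule.span F {v : Fin n → F | ∃ μ : F, P μ ∧ y *ᵥ v = μ • v} = ⊤) :
    ∃ (h : Matrix (Fin n) (Fin n) F) (d : Fin n → F),
      h.det ≠ 0 ∧ y * h = h * Matrix.diagonal d ∧ ∀ i, P (d i) := by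
  classical
  obtain ⟨b, hbE, hbspan, hbli⟩ :=
    exists_linearIndependent F {v : Fin n → F | ∃ μ : F, P μ ∧ y *ᵥ v = μ • v}
  have hsp : ⊤ ≤ Submodule.span F (Set.range (Subtype.val : b → (Fin n → F))) := by
    rw [Subtype.range_coe, hbspan, hspan]
  let B := Module.Basis.mk hbli hsp
  let _ : Fintype b := FiniteDimensional.fintypeBasisIndex B
  have hcard : Fintype.card b = n := by
    rw [← Module.finrank_eq_card_basis B, Module.finrank_fin_fun]
  let e : b ≃ Fin n := Fintype.equivFinOfCardEq hcard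
  let w : Fin n → (Fin n → F) := fun j => ((e.symm j : b) : Fin n → F)
  have hw : LinearIndependent F w := hbli.comp _ e.symm.injective
  have hwE : ∀ j, ∃ μ : F, P μ ∧ y *ᵥ w j = μ • w j := fun j => hbE (e.symm j).2
  choose d hdP hd using hwE
  let h : Matrix (Fin n) (Fin n) F := Matrix.of fun i j => w j i
  have hcol : h.col = w := by
    funext j i
    rfl
  have hunit : IsUnit h := by
    rw [← Matrix.linearIndependent_cols_iff_isUnit, hcol]
    exact hw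
  refine ⟨h, d, ((Matrix.isUnit_iff_isUnit_det _).mp hunit).ne_zero, ?_, hdP⟩
  ext i j
  have hL : (y * h) i j = (y *ᵥ w j) i := by
    rw [Matrix.mul_apply, Matrix.mulVec, dotProduct]
    rfl
  rw [hL, hd j, Matrix.mul_diagonal]
  simp [h, mul_comm]

/-- a matrix of order dividing 3 over a field with a primitive cube root of unity is diagonalizable -/
theorem span_eigen_cube (h3 : (3 : F) ≠ 0) (ω : F) (hω : ω ^ 2 + ω + 1 = 0)
    (y : Matrix (Fin n) (Fin n) F) (hy : y ^ 3 = 1) :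
    Submodule.span F {v : Fin n → F | ∃ μ : F, μ ^ 3 = 1 ∧ y *ᵥ v = μ • v} = ⊤ := by
  have hω3 : ω ^ 3 = 1 := by linear_combination (ω - 1) * hω
  rw [eq_top_iff]
  intro v _
  have hy3 : ∀ u : Fin n → F, y *ᵥ (y *ᵥ (y *ᵥ u)) = u := by
    intro u
    rw [Matrix.mulVec_mulVec, Matrix.mulVec_mulVec, ← pow_two, ← pow_succ, hy,
      Matrix.one_mulVec]
  have key : ∀ μ : F, μ ^ 3 = 1 →
      (v + μ ^ 2 • (y *ᵥ v) + μ • (y *ᵥ (y *ᵥ v))) ∈
        Submodule.span F {v : Fin n → F | ∃ μ : F, μ ^ 3 = 1 ∧ y *ᵥ v = μ • v} := by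
    intro μ hμ
    apply Submodule.subset_span
    refine ⟨μ, hμ, ?_⟩
    rw [Matrix.mulVec_add, Matrix.mulVec_add, Matrix.mulVec_smul, Matrix.mulVec_smul, hy3,
      smul_add, smul_add, smul_smul, smul_smul]
    have e1 : μ * μ ^ 2 = 1 := by rw [← hμ]; ring
    have e2 : μ * μ = μ ^ 2 := by ring
    rw [e1, e2, one_smul]
    abel
  have h1 := key 1 (by ring)
  have h2 := key ω hω3
  have h3' := key (ω ^ 2) (by rw [← pow_mul, mul_comm, pow_mul, hω3, one_pow])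
  have hsum : v = (3 : F)⁻¹ • ((v + (1 : F) ^ 2 • (y *ᵥ v) + (1 : F) • (y *ᵥ (y *ᵥ v))) +
      (v + ω ^ 2 • (y *ᵥ v) + ω • (y *ᵥ (y *ᵥ v))) +
      (v + (ω ^ 2) ^ 2 • (y *ᵥ v) + (ω ^ 2) • (y *ᵥ (y *ᵥ v)))) := by
    have e4 : (ω ^ 2) ^ 2 = ω := by rw [← pow_mul]; linear_combination ω * hω3
    rw [e4]
    have : (v + (1 : F) ^ 2 • (y *ᵥ v) + (1 : F) • (y *ᵥ (y *ᵥ v))) +
      (v + ω ^ 2 • (y *ᵥ v) + ω • (y *ᵥ (y *ᵥ v))) +
      (v + ω • (y *ᵥ v) + (ω ^ 2) • (y *ᵥ (y *ᵥ v))) =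
      (3 : F) • v + (ω ^ 2 + ω + 1) • (y *ᵥ v) + (ω ^ 2 + ω + 1) • (y *ᵥ (y *ᵥ v)) := by
      simp only [add_smul, one_pow, one_smul]
      have : (3 : F) • v = v + v + v := by
        rw [show (3 : F) = 1 + 1 + 1 by norm_num, add_smul, add_smul, one_smul]
      rw [this]
      abel
    rw [this, hω, zero_smul, zero_smul, add_zero, add_zero, smul_smul, inv_mul_cancel₀ h3,
      one_smul]
  rw [hsum]
  exact Submodule.smul_mem _ _ (Submodule.add_mem _ (Submodule.add_mem _ h1 h2) h3')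

theorem exists_diag_cube (h3 : (3 : F) ≠ 0) (ω : F) (hω : ω ^ 2 + ω + 1 = 0)
    (y : Matrix (Fin n) (Fin n) F) (hy : y ^ 3 = 1) :
    ∃ (h : Matrix (Fin n) (Fin n) F) (d : Fin n → F),
      h.det ≠ 0 ∧ y * h = h * Matrix.diagonal d ∧ ∀ i, d i ^ 3 = 1 :=
  exists_diag_of_span y (fun μ => μ ^ 3 = 1) (span_eigen_cube h3 ω hω y hy)

theorem span_eigen_sq (h2 : (2 : F) ≠ 0)
    (y : Matrix (Fin n) (Fin n) F) (hy : y ^ 2 = 1) :
    Submodule.span F {v : Fin n → F | ∃ μ : F, μ ^ 2 = 1 ∧ y *ᵥ v = μ • v} = ⊤ := by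
  rw [eq_top_iff]
  intro v _
  have hy2 : ∀ u : Fin n → F, y *ᵥ (y *ᵥ u) = u := by
    intro u
    rw [Matrix.mulVec_mulVec, ← pow_two, hy, Matrix.one_mulVec]
  have key : ∀ μ : F, μ ^ 2 = 1 →
      (v + μ • (y *ᵥ v)) ∈
        Submodule.span F {v : Fin n → F | ∃ μ : F, μ ^ 2 = 1 ∧ y *ᵥ v = μ • v} := by
    intro μ hμ
    apply Submodule.subset_span
    refine ⟨μ, hμ, ?_⟩
    rw [Matrix.mulVec_add, Matrix.mulVec_smul, hy2, smul_add, smul_smul]
    have e1 : μ * μ = 1 := by rw [← hμ]; ring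
    rw [e1, one_smul, add_comm]
  have h1 := key 1 (by ring)
  have h2' := key (-1) (by ring)
  have hsum : v = (2 : F)⁻¹ • ((v + (1 : F) • (y *ᵥ v)) + (v + (-1 : F) • (y *ᵥ v))) := by
    have : (v + (1 : F) • (y *ᵥ v)) + (v + (-1 : F) • (y *ᵥ v)) = (2 : F) • v := by
      rw [one_smul, neg_smul, one_smul, two_smul]
      abel
    rw [this, smul_smul, inv_mul_cancel₀ h2, one_smul]
  rw [hsum]
  exact Submodule.smul_mem _ _ (Submodule.add_mem _ h1 h2')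

theorem exists_diag_sq (h2 : (2 : F) ≠ 0)
    (y : Matrix (Fin n) (Fin n) F) (hy : y ^ 2 = 1) :
    ∃ (h : Matrix (Fin n) (Fin n) F) (d : Fin n → F),
      h.det ≠ 0 ∧ y * h = h * Matrix.diagonal d ∧ ∀ i, d i ^ 2 = 1 :=
  exists_diag_of_span y (fun μ => μ ^ 2 = 1) (span_eigen_sq h2 y hy)

end Cfsg.Agent.Lib.Helper9.Ext27A
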