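import Mathlib
import Cfsg.Agent.Lib.Helper9.SubfieldA
import Cfsg.Agent.Lib.Helper9.Ext27A

set_option autoImplicit false
open scoped MatrixGroups

namespace Cfsg.Agent.Lib.Helper9.SubfieldH
open Matrix Cfsg.Agent.Lib.Helper9.SubfieldA

variable {F : Type*} [Field F] {n : ℕ}

/-- elements squaring to a square scalar are conjugate into the subfield subgroup (odd
characteristic) -/
theorem involution_conj (h2 : (2 : F) ≠ 0) (F₀ : Subfield F)
    (x : Matrix.SpecialLinearGroup (Fin n) F) (lam : F) (hlam : lam ≠ 0)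
    (hx : (x : Matrix (Fin n) (Fin n) F) * (x : Matrix (Fin n) (Fin n) F) = (lam * lam) • 1)
    (hn : 1 ≤ n) : ∃ P : Matrix.SpecialLinearGroup (Fin n) F, P⁻¹ * x * P ∈ HH F₀ n := by
  classical
  set t : Matrix (Fin n) (Fin n) F := lam⁻¹ • (x : Matrix (Fin n) (Fin n) F) with ht
  have ht2 : t ^ 2 = 1 := by
    rw [pow_two, ht, Matrix.smul_mul, Matrix.mul_smul, hx, smul_smul, smul_smul]
    have : lam⁻¹ * lam⁻¹ * (lam * lam) = 1 := by field_simp
    rw [this, one_smul]
  obtain ⟨h, d, hdet, hth, hd⟩ := Cfsg.Agent.Lib.Helper9.Ext27A.exists_diag_sq h2 t ht2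
  have hd' : ∀ i, d i = 1 ∨ d i = -1 := by
    intro i
    have h1 : (d i - 1) * (d i + 1) = 0 := by
      have := hd i
      linear_combination this
    rcases mul_eq_zero.mp h1 with h | h
    · left; linear_combination h
    · right; linear_combination h
  let d₀ : Fin n → F₀ := fun i => if d i = 1 then 1 else -1
  have hd₀ : (Matrix.diagonal d₀).map (F₀.subtype : F₀ →+* F) = Matrix.diagonal d := by
    ext i j
    by_cases hij : i = j
    · subst hij
      simp only [Matrix.map_apply, Matrix.diagonal_apply_eq, d₀]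
      rcases hd' i with h | h
      · rw [if_pos h, h]; simp
      · have hne : d i ≠ 1 := by
          rw [h]
          intro h'
          apply h2
          have : (1 : F) + 1 = 0 := by
            nth_rewrite 1 [← h']
            ring
          rw [← this]; norm_num
        rw [if_neg hne, h]; simp
    · simp [Matrix.diagonal_apply_ne _ hij]
  let i₀ : Fin n := ⟨0, hn⟩
  set u : Matrix (Fin n) (Fin n) F := Matrix.diagonal (Function.update (fun _ => (1 : F)) i₀ h.det⁻¹)
    with hu
  have hudet : u.det = h.det⁻¹ := by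
    rw [hu, Matrix.det_diagonal, Finset.prod_update_of_mem (Finset.mem_univ _)]
    simp
  have hucomm : Matrix.diagonal d * u = u * Matrix.diagonal d := by
    rw [hu, Matrix.diagonal_mul_diagonal, Matrix.diagonal_mul_diagonal]
    congr 1
    funext i
    ring
  refine exists_conj_mem F₀ x (h * u) ?_ (Matrix.diagonal d₀) lam hlam ?_
  · rw [Matrix.det_mul, hudet, mul_inv_cancel₀ hdet]
  · have hxt : (x : Matrix (Fin n) (Fin n) F) = lam • t := by
      rw [ht, smul_smul, mul_inv_cancel₀ hlam, one_smul]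
    rw [hd₀, hxt, Matrix.smul_mul, ← Matrix.mul_assoc, hth, Matrix.mul_assoc, hucomm,
      ← Matrix.mul_assoc, Matrix.mul_smul]

/-- a matrix squaring to the scalar `z` -/
def ZZ (z : F) (m : ℕ) : Matrix (Fin (m + m)) (Fin (m + m)) F :=
  Matrix.reindex finSumFinEquiv finSumFinEquiv
    (Matrix.fromBlocks (0 : Matrix (Fin m) (Fin m) F) (z • 1) 1 0)

theorem ZZ_mul_ZZ (z : F) (m : ℕ) : ZZ z m * ZZ z m = z • 1 := by
  unfold ZZ
  rw [Matrix.reindex_apply, Matrix.submatrix_mul_equiv, Matrix.fromBlocks_multiply]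
  simp only [Matrix.zero_mul, Matrix.mul_zero, Matrix.mul_one, Matrix.one_mul, zero_add, add_zero]
  have h1 : Matrix.fromBlocks (z • (1 : Matrix (Fin m) (Fin m) F)) 0 0 (z • 1) =
      z • (1 : Matrix (Fin m ⊕ Fin m) (Fin m ⊕ Fin m) F) := by
    rw [← Matrix.fromBlocks_one, Matrix.fromBlocks_smul, smul_zero]
  rw [h1]
  ext i j
  simp [Matrix.one_apply]

end Cfsg.Agent.Lib.Helper9.SubfieldH
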