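import Mathlib
import Cfsg.Prelude.Def_Local
import Cfsg.Agent.Lib.Helper26.MixDefs
import Cfsg.Agent.Lib.Helper8.AbInvA
import Cfsg.Agent.Lib.Helper12.Cores
import Cfsg.Agent.Lib.Helper4.Basic
import Cfsg.Agent.Lib.Helper9.MIXSTRUCTa

/-!
helper9: S4017 market, leaf ARITH `bsw_false` (exact): the data of S3282 contradict the configuration.
-/

set_option autoImplicit false

namespace Cfsg.Agent.Lib.Helper9.MIXARITH

open Cfsg Cfsg.Agent.Lib.Helper26.Mix

universe u

section ctx

variable {G : Type u} [Group G] [Finite G] {p a : ℕ} {Q : Subgroup G} {g : G}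

/-- a proper subgroup of even order is a `{2,p}`-group; subgroups of it too -/
theorem prime_of_dvd_le (c : Ctx G p a Q g) (H : Subgroup G) (hH : H ≠ ⊤) (h2 : 2 ∣ Nat.card H)
    (m : ℕ) (hm : m ∣ Nat.card H) (s : ℕ) (hs : s.Prime) (hsm : s ∣ m) : s = 2 ∨ s = p :=
  c.hstar H hH h2 s hs (hsm.trans hm)

/-- `Q` normalizes `θ t`. -/
theorem le_normalizer_core (c : Ctx G p a Q g) (t : G) (ht : t ∈ Q) :
    Q ≤ Subgroup.normalizer ((centralizerPPrimeCore 2 t : Subgroup G) : Set G) := by
  have hQC : Q ≤ Subgroup.centralizer ({t} : Set G) := by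
    intro u hu
    rw [Subgroup.mem_centralizer_singleton_iff]
    exact c.hQab u hu t ht
  have hchar : (Cfsg.pPrimeCore 2 ↥(Subgroup.centralizer ({t} : Set G))).Characteristic :=
    Cfsg.Agent.Lib.Helper12.pPrimeCore_characteristic 2
  have hnorm : (Cfsg.pPrimeCore 2 ↥(Subgroup.centralizer ({t} : Set G))).Normal := inferInstance
  have key : ∀ q ∈ Q, ∀ w ∈ centralizerPPrimeCore 2 t, q * w * q⁻¹ ∈ centralizerPPrimeCore 2 t := by
    intro q hq w hw
    obtain ⟨k, hk, rfl⟩ := Subgroup.mem_map.mp hw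
    have h1 := hnorm.conj_mem k hk ⟨q, hQC hq⟩
    exact Subgroup.mem_map.mpr ⟨_, h1, rfl⟩
  intro q hq
  rw [Subgroup.mem_normalizer_iff]
  intro h
  constructor
  · intro hh
    exact key q hq h hh
  · intro hh
    have := key q⁻¹ (inv_mem hq) _ hh
    simpa [mul_assoc] using this

/-- `θ t` is a `p`-group (no transfer needed: odd order inside the `{2,p}`-group `C_G(t)`). -/
theorem core_isPGroup (c : Ctx G p a Q g) (t : G) (ht : t ∈ Q) (ht1 : t ≠ 1) :
    IsPGroup p ↥(centralizerPPrimeCore 2 t) := by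
  have hCne := Cfsg.Agent.Lib.Helper9.MIXSTRUCTa.centralizer_ne_top c t ht ht1
  have hQC : Q ≤ Subgroup.centralizer ({t} : Set G) := by
    intro u hu
    rw [Subgroup.mem_centralizer_singleton_iff]
    exact c.hQab u hu t ht
  have h2C : 2 ∣ Nat.card ↥(Subgroup.centralizer ({t} : Set G)) := by
    have h1 : Nat.card Q ∣ Nat.card ↥(Subgroup.centralizer ({t} : Set G)) := Subgroup.card_dvd_of_le hQC
    rw [c.hQcard] at h1
    exact (dvd_pow_self 2 (by have := c.ha; omega)).trans h1
  have hle : centralizerPPrimeCore 2 t ≤ Subgroup.centralizer ({t} : Set G) := by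
    intro w hw
    obtain ⟨k, -, rfl⟩ := Subgroup.mem_map.mp hw
    exact k.2
  have hdvd : Nat.card ↥(centralizerPPrimeCore 2 t) ∣ Nat.card ↥(Subgroup.centralizer ({t} : Set G)) :=
    Subgroup.card_dvd_of_le hle
  have hodd : (Nat.card ↥(centralizerPPrimeCore 2 t)).Coprime 2 := by
    have h1 : Nat.card ↥(centralizerPPrimeCore 2 t) =
        Nat.card ↥(Cfsg.pPrimeCore 2 ↥(Subgroup.centralizer ({t} : Set G))) :=
      Nat.card_congr ((Cfsg.pPrimeCore 2 ↥(Subgroup.centralizer ({t} : Set G))).equivMapOfInjective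
        (Subgroup.centralizer ({t} : Set G)).subtype (Subgroup.subtype_injective _)).symm.toEquiv
    rw [h1]
    exact Cfsg.Agent.Lib.Helper12.pPrimeCore_coprime 2
  have huniq : ∀ {s : ℕ}, s.Prime → s ∣ Nat.card ↥(centralizerPPrimeCore 2 t) → s = p := by
    intro s hs hsd
    rcases c.hstar _ hCne h2C s hs (hsd.trans hdvd) with h | h
    · exfalso
      rw [h] at hsd
      have := Nat.Coprime.eq_one_of_dvd hodd.symm hsd
      omega
    · exact h
  have := Nat.eq_prime_pow_of_unique_prime_dvd Nat.card_pos.ne' huniq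
  have : Fact p.Prime := ⟨c.hp⟩
  exact IsPGroup.of_card ‹_›


/-- elements of `⟨u⟩`, `u² = 1` -/
theorem mem_zpowers_invol {u x : G} (hsq : u ^ 2 = 1) (hx : x ∈ Subgroup.zpowers u) : x = 1 ∨ x = u := by
  obtain ⟨k, rfl⟩ := Subgroup.mem_zpowers_iff.mp hx
  have hk : k = k % 2 + 2 * (k / 2) := (Int.emod_add_mul_ediv k 2).symm
  have h2 : u ^ (2 : ℤ) = 1 := by exact_mod_cast hsq
  rw [hk, zpow_add, zpow_mul, h2, one_zpow, mul_one]
  rcases Int.emod_two_eq_zero_or_one k with h | h
  · left; rw [h, zpow_zero]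
  · right; rw [h, zpow_one]

/-- adjoining an involution `u ∉ D` normalizing `D` doubles the order -/
theorem card_sup_invol (D : Subgroup G) (u : G) (hu2 : orderOf u = 2) (huD : u ∉ D)
    (hnorm : Subgroup.zpowers u ≤ Subgroup.normalizer (D : Set G)) :
    Nat.card ↥(D ⊔ Subgroup.zpowers u) = 2 * Nat.card D := by
  have hinf : Subgroup.zpowers u ⊓ D = ⊥ := by
    rw [eq_bot_iff]
    intro x hx
    obtain ⟨hx1, hx2⟩ := Subgroup.mem_inf.mp hx
    have hsq : u ^ 2 = 1 := by rw [← hu2]; exact pow_orderOf_eq_one u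
    rcases mem_zpowers_invol hsq hx1 with h | h
    · exact Subgroup.mem_bot.mpr h
    · exact absurd (h ▸ hx2) huD
  have := Cfsg.Agent.Lib.Helper4.card_sup_mul_card_inf (Subgroup.zpowers u) D hnorm
  rw [hinf, Subgroup.card_bot, mul_one, Nat.card_zpowers, hu2, sup_comm] at this
  exact this


/-- ARITH : the data of S3282 contradict the configuration. -/
theorem bsw_false (c : Ctx G p a Q g) (hthird : Third G p 2) (ha2 : a = 2)
    (t : G) (ht : t ∈ Q) (ht1 : t ≠ 1) (hne : centralizerPPrimeCore 2 t ≠ ⊥)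
    (Q1 D : Subgroup G)
    (h1 : 2 * Nat.card G = Nat.card ↥Q1 * (Nat.card ↥Q1 + 1) * (Nat.card ↥Q1 - 1))
    (h2 : ∀ x ∈ Q1, x ≠ 1 → Subgroup.centralizer ({x} : Set G) = Q1)
    (h3 : IsMulCommutative ↥D) (h4 : 2 * Nat.card ↥D + 1 = Nat.card ↥Q1) (h5 : Q1 ⊓ D = ⊥)
    (h6 : Subgroup.normalizer (Q1 : Set G) = Q1 ⊔ D)
    (h7 : ∀ X : Subgroup G, X ≤ D → X ≠ ⊥ →
        Subgroup.normalizer (X : Set G) = Subgroup.normalizer (D : Set G) ∧
        ∃ u : G, orderOf u = 2 ∧ u ∉ D ∧ (∀ d ∈ D, u * d * u⁻¹ = d⁻¹) ∧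
          Subgroup.normalizer (D : Set G) = D ⊔ Subgroup.zpowers u) : False := by
  subst ha2
  have hp3 : p = 3 := by have := c.hpa; omega
  subst hp3
  set d := Nat.card ↥D with hd
  have hdpos : 0 < d := Nat.card_pos
  have hnform : Nat.card G = 2 * d * (2 * d + 1) * (d + 1) := by
    rw [← h4] at h1
    have e : (2 * d + 1) * (2 * d + 1 + 1) * (2 * d + 1 - 1) = 2 * (2 * d * (2 * d + 1) * (d + 1)) := by
      have : 2 * d + 1 - 1 = 2 * d := by omega
      rw [this]; ring
    rw [e] at h1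
    omega
  have hfac2 : (Nat.card G).factorization 2 = 2 := c.hQsyl
  have hlt1 : 2 * d < 2 * d * (2 * d + 1) * (d + 1) := by
    nlinarith [mul_pos hdpos hdpos, mul_pos (mul_pos hdpos hdpos) hdpos]
  have hlt2 : d * (2 * d + 1) < 2 * d * (2 * d + 1) * (d + 1) := by
    nlinarith [mul_pos hdpos hdpos, mul_pos (mul_pos hdpos hdpos) hdpos]
  have hn8 : ¬ 8 ∣ Nat.card G := by
    intro h8
    have : (2 : ℕ) ^ 3 ∣ Nat.card G := by norm_num; exact h8
    have := (Nat.Prime.pow_dvd_iff_le_factorization Nat.prime_two Nat.card_pos.ne').mp this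
    omega
  -- the case `D = 1`
  by_cases hd1 : d = 1
  · obtain ⟨r, hr, hrn, hr3, hr2⟩ := hthird
    rw [hnform, hd1] at hrn
    have : r ∣ 2 ^ 2 * 3 := by norm_num at hrn ⊢; exact hrn
    rcases (Nat.Prime.dvd_mul hr).mp this with h | h
    · exact hr2 ((Nat.prime_dvd_prime_iff_eq hr Nat.prime_two).mp (hr.dvd_of_dvd_pow h))
    · exact hr3 ((Nat.prime_dvd_prime_iff_eq hr Nat.prime_three).mp h)
  have hd2 : 2 ≤ d := by omega
  have hDne : D ≠ ⊥ := by
    intro h
    rw [hd, h, Subgroup.card_bot] at hd1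
    exact hd1 rfl
  obtain ⟨-, u, hu2, huD, -, hNDu⟩ := h7 D le_rfl hDne
  have hunorm : Subgroup.zpowers u ≤ Subgroup.normalizer (D : Set G) := by
    rw [hNDu]; exact le_sup_right
  have hNcard : Nat.card ↥(Subgroup.normalizer (D : Set G)) = 2 * d := by
    rw [hNDu]; exact card_sup_invol D u hu2 huD hunorm
  have hNne : Subgroup.normalizer (D : Set G) ≠ ⊤ := by
    intro h
    have : Nat.card ↥(Subgroup.normalizer (D : Set G)) = Nat.card G := by rw [h, Subgroup.card_top]
    rw [hNcard, hnform] at this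
    omega
  have hN2 : 2 ∣ Nat.card ↥(Subgroup.normalizer (D : Set G)) := by rw [hNcard]; exact dvd_mul_right 2 d
  have hdprimes : ∀ s : ℕ, s.Prime → s ∣ d → s = 2 ∨ s = 3 := by
    intro s hs hsd
    exact c.hstar _ hNne hN2 s hs (by rw [hNcard]; exact hsd.trans (dvd_mul_left d 2))
  rcases Nat.even_or_odd d with hev | hodd
  · -- `d` even
    have hDQ1 : D ≤ Subgroup.normalizer (Q1 : Set G) := by rw [h6]; exact le_sup_right
    have hN1card : Nat.card ↥(Subgroup.normalizer (Q1 : Set G)) = d * (2 * d + 1) := by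
      have := Cfsg.Agent.Lib.Helper4.card_sup_mul_card_inf D Q1 hDQ1
      rw [inf_comm, h5, Subgroup.card_bot, mul_one, sup_comm, ← h6, ← h4] at this
      exact this
    have hN1ne : Subgroup.normalizer (Q1 : Set G) ≠ ⊤ := by
      intro h
      have : Nat.card ↥(Subgroup.normalizer (Q1 : Set G)) = Nat.card G := by rw [h, Subgroup.card_top]
      rw [hN1card, hnform] at this
      omega
    have hN12 : 2 ∣ Nat.card ↥(Subgroup.normalizer (Q1 : Set G)) := by
      rw [hN1card]; exact (even_iff_two_dvd.mp hev).mul_right _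
    -- a prime divisor of `2 d + 1` is `3`
    obtain ⟨s, hs, hsd⟩ := Nat.exists_prime_and_dvd (show 2 * d + 1 ≠ 1 by omega)
    have hs3 : s = 3 := by
      rcases c.hstar _ hN1ne hN12 s hs (by rw [hN1card]; exact hsd.trans (dvd_mul_left _ d)) with h | h
      · exfalso; rw [h] at hsd; omega
      · exact h
    rw [hs3] at hsd
    obtain ⟨d', hd'⟩ := hev
    have hd'odd : Odd d' := by
      rcases Nat.even_or_odd d' with h | h
      · exfalso
        obtain ⟨e, he⟩ := h
        apply hn8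
        rw [hnform, hd', he]
        exact ⟨e * (2 * (e + e + (e + e)) + 1) * (e + e + (e + e) + 1), by ring⟩
      · exact h
    by_cases hd'1 : d' = 1
    · rw [hd', hd'1] at hsd; omega
    · obtain ⟨s', hs', hs'd⟩ := Nat.exists_prime_and_dvd hd'1
      have hs'd2 : s' ∣ d := by rw [hd']; exact dvd_add hs'd hs'd
      rcases hdprimes s' hs' hs'd2 with h | h
      · rw [h] at hs'd
        exact (Nat.not_even_iff_odd.mpr hd'odd) (even_iff_two_dvd.mpr hs'd)
      · rw [h] at hs'd2
        omega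
  · -- `d` odd: `d = 3 ^ y`, `D` is a Sylow `3`-subgroup
    have huniq : ∀ {s : ℕ}, s.Prime → s ∣ d → s = 3 := by
      intro s hs hsd
      rcases hdprimes s hs hsd with h | h
      · exfalso; rw [h] at hsd
        exact (Nat.not_even_iff_odd.mpr hodd) (even_iff_two_dvd.mpr hsd)
      · exact h
    have hdpow := Nat.eq_prime_pow_of_unique_prime_dvd hdpos.ne' huniq
    set y := d.primeFactorsList.length with hy
    have hy1 : y ≠ 0 := by
      intro h0
      rw [h0, pow_zero] at hdpow
      omega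
    have h3d : 3 ∣ d := by rw [hdpow]; exact dvd_pow_self 3 hy1
    have hfac3 : (Nat.card G).factorization 3 = y := by
      apply le_antisymm
      · by_contra hlt
        push Not at hlt
        have h1' : (3 : ℕ) ^ (y + 1) ∣ Nat.card G :=
          (Nat.Prime.pow_dvd_iff_le_factorization Nat.prime_three Nat.card_pos.ne').mpr hlt
        have e : Nat.card G = 3 ^ y * (2 * (2 * d + 1) * (d + 1)) := by
          rw [hnform]; nth_rewrite 1 [hdpow]; ring
        rw [e, pow_succ] at h1'
        have h2' : 3 ∣ 2 * (2 * d + 1) * (d + 1) :=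
          (Nat.mul_dvd_mul_iff_left (pow_pos (by norm_num) y)).mp h1'
        rcases (Nat.Prime.dvd_mul Nat.prime_three).mp h2' with h | h
        · rcases (Nat.Prime.dvd_mul Nat.prime_three).mp h with h' | h'
          · omega
          · omega
        · omega
      · apply (Nat.Prime.pow_dvd_iff_le_factorization Nat.prime_three Nat.card_pos.ne').mp
        rw [hnform]
        nth_rewrite 1 [hdpow]
        exact ⟨2 * (2 * d + 1) * (d + 1), by ring⟩
    have : Fact (Nat.Prime 3) := ⟨Nat.prime_three⟩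
    let P3 : Sylow 3 G := Sylow.ofCard D (by rw [hfac3, ← hd]; exact hdpow)
    have hθp : IsPGroup 3 ↥(centralizerPPrimeCore 2 t) := core_isPGroup c t ht ht1
    obtain ⟨S, hS⟩ := hθp.exists_le_sylow
    obtain ⟨x, hx⟩ := MulAction.exists_smul_eq G S P3
    set X : Subgroup G := (centralizerPPrimeCore 2 t).map (MulAut.conj x).toMonoidHom with hX
    have hXD : X ≤ D := by
      have h1' : X ≤ ((S : Subgroup G)).map (MulAut.conj x).toMonoidHom := Subgroup.map_mono hS
      have h2' : ((S : Subgroup G)).map (MulAut.conj x).toMonoidHom = ((x • S : Sylow 3 G) : Subgroup G) := by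
        rw [Sylow.coe_subgroup_smul]; rfl
      rw [h2', hx] at h1'
      exact h1'
    have hXne : X ≠ ⊥ := by
      intro h
      apply hne
      rw [hX] at h
      exact (Subgroup.map_eq_bot_iff_of_injective _ (MulAut.conj x).injective).mp h
    obtain ⟨hNX, -⟩ := h7 X hXD hXne
    have hQθ := le_normalizer_core c t ht
    have hQx : Q.map (MulAut.conj x).toMonoidHom ≤ Subgroup.normalizer (X : Set G) := by
      have h1' := Subgroup.map_mono (f := (MulAut.conj x).toMonoidHom) hQθ
      exact h1'.trans (Subgroup.le_normalizer_map _)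
    have hcardQx : Nat.card ↥(Q.map (MulAut.conj x).toMonoidHom) = 4 := by
      rw [Nat.card_congr (Q.equivMapOfInjective _ (MulAut.conj x).injective).symm.toEquiv, c.hQcard]
      norm_num
    have h4dvd : 4 ∣ 2 * d := by
      rw [← hNcard, ← hNX, ← hcardQx]
      exact Subgroup.card_dvd_of_le hQx
    obtain ⟨e, he⟩ := hodd
    omega

end ctx

end Cfsg.Agent.Lib.Helper9.MIXARITH
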