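import Mathlib
import Cfsg.Prelude.Def_Local
import Cfsg.Agent.Lib.Helper26.MixDefs
import Cfsg.Agent.Lib.Helper12.Cores
import Cfsg.Agent.Lib.Helper9.MIXSTRUCTa

/-!
helper9: S4017 market, tools for leaf CY: Burnside structure of a subgroup `Y ≤ G` whose Sylow `2`-subgroup
`T` satisfies `N_Y(T) ≤ C_Y(T)`.
-/

set_option autoImplicit false

namespace Cfsg.Agent.Lib.Helper9.MIXCYa

open Cfsg Cfsg.Agent.Lib.Helper26.Mix

universe u

variable {G : Type u} [Group G] [Finite G]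

/-- `O(Y)` as a subgroup of `G` -/
def oddCoreOf (Y : Subgroup G) : Subgroup G := (Cfsg.pPrimeCore 2 ↥Y).map Y.subtype

theorem centralizerPPrimeCore_eq (x : G) :
    centralizerPPrimeCore 2 x = oddCoreOf (Subgroup.centralizer ({x} : Set G)) := rfl

theorem oddCoreOf_le (Y : Subgroup G) : oddCoreOf Y ≤ Y := by
  intro w hw
  obtain ⟨k, -, rfl⟩ := Subgroup.mem_map.mp hw
  exact k.2

theorem card_oddCoreOf_coprime (Y : Subgroup G) : (Nat.card ↥(oddCoreOf Y)).Coprime 2 := by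
  have h1 : Nat.card ↥(oddCoreOf Y) = Nat.card ↥(Cfsg.pPrimeCore 2 ↥Y) :=
    Nat.card_congr ((Cfsg.pPrimeCore 2 ↥Y).equivMapOfInjective Y.subtype
      (Subgroup.subtype_injective _)).symm.toEquiv
  rw [h1]
  exact Cfsg.Agent.Lib.Helper12.pPrimeCore_coprime 2

/-- Burnside: `Y = O(Y) T`, and `O(Y)` contains all elements of odd order of `Y`. -/
theorem struct_of_sylow (Y T : Subgroup G) (hTY : T ≤ Y)
    (hcard : Nat.card T = 2 ^ (Nat.card Y).factorization 2)
    (hNC : ∀ x ∈ Y, x ∈ Subgroup.normalizer (T : Set G) → x ∈ Subgroup.centralizer (T : Set G)) :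
    (∀ x ∈ Y, ∃ w ∈ oddCoreOf Y, ∃ u ∈ T, x = w * u) ∧
    (∀ x ∈ Y, Odd (orderOf x) → x ∈ oddCoreOf Y) := by
  have : Fact (Nat.Prime 2) := ⟨Nat.prime_two⟩
  have hcardT' : Nat.card ↥(T.subgroupOf Y) = 2 ^ (Nat.card Y).factorization 2 := by
    rw [← hcard]
    exact Nat.card_congr (Subgroup.subgroupOfEquivOfLe hTY).toEquiv
  let P : Sylow 2 ↥Y := Sylow.ofCard (T.subgroupOf Y) hcardT'
  have hPco : (P : Subgroup ↥Y) = T.subgroupOf Y := rfl
  have hP : Subgroup.normalizer ((P : Subgroup ↥Y) : Set ↥Y) ≤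
      Subgroup.centralizer ((P : Subgroup ↥Y) : Set ↥Y) := by
    intro x hx
    rw [hPco] at hx ⊢
    have hxN : (x : G) ∈ Subgroup.normalizer (T : Set G) := by
      rw [Subgroup.mem_normalizer_iff]
      intro h
      constructor
      · intro hh
        have h1 : (⟨h, hTY hh⟩ : ↥Y) ∈ T.subgroupOf Y := Subgroup.mem_subgroupOf.mpr hh
        have h2 := (Subgroup.mem_normalizer_iff.mp hx _).mp h1
        exact Subgroup.mem_subgroupOf.mp h2
      · intro hh
        have hxi : x⁻¹ ∈ Subgroup.normalizer ((T.subgroupOf Y : Subgroup ↥Y) : Set ↥Y) :=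
          inv_mem hx
        have h1 : (⟨(x : G) * h * (x : G)⁻¹, hTY hh⟩ : ↥Y) ∈ T.subgroupOf Y :=
          Subgroup.mem_subgroupOf.mpr hh
        have h2 := (Subgroup.mem_normalizer_iff.mp hxi _).mp h1
        have h3 := Subgroup.mem_subgroupOf.mp h2
        simpa [mul_assoc] using h3
    have hxc := hNC (x : G) x.2 hxN
    rw [Subgroup.mem_centralizer_iff]
    intro z hz
    have hzT : (z : G) ∈ T := Subgroup.mem_subgroupOf.mp hz
    have := Subgroup.mem_centralizer_iff.mp hxc (z : G) hzT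
    exact Subtype.ext this
  have hcore : Cfsg.pPrimeCore 2 ↥Y = (MonoidHom.transferSylow P hP).ker :=
    Cfsg.Agent.Lib.Helper9.MIXSTRUCTa.pPrimeCore_eq_ker P hP
  have hcompl : Subgroup.IsComplement' (MonoidHom.transferSylow P hP).ker P :=
    MonoidHom.ker_transferSylow_isComplement' P hP
  have hmem : ∀ k : ↥Y, k ∈ (MonoidHom.transferSylow P hP).ker → (k : G) ∈ oddCoreOf Y := by
    intro k hk
    unfold oddCoreOf
    rw [hcore]
    exact Subgroup.mem_map_of_mem Y.subtype hk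
  refine ⟨?_, ?_⟩
  · intro x hx
    obtain ⟨⟨k, q⟩, hkq, -⟩ := (Subgroup.isComplement'_def.mp hcompl).existsUnique (⟨x, hx⟩ : ↥Y)
    refine ⟨(k : ↥Y), hmem k k.2, ((q : ↥Y) : G), ?_, ?_⟩
    · have : (q : ↥Y) ∈ T.subgroupOf Y := q.2
      exact Subgroup.mem_subgroupOf.mp this
    · have := congrArg (Subtype.val) hkq
      simpa using this.symm
  · intro x hx hodd
    have hker : (⟨x, hx⟩ : ↥Y) ∈ (MonoidHom.transferSylow P hP).ker := by
      rw [MonoidHom.mem_ker]
      set z := MonoidHom.transferSylow P hP ⟨x, hx⟩ with hz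
      have h1 : orderOf z ∣ orderOf (⟨x, hx⟩ : ↥Y) := orderOf_map_dvd _ _
      have h2 : orderOf (⟨x, hx⟩ : ↥Y) = orderOf x := Subgroup.orderOf_mk x hx
      obtain ⟨n, hn⟩ := (IsPGroup.iff_orderOf.mp P.2) z
      rw [h2, hn] at h1
      have h3 : n = 0 := by
        by_contra hne
        have : 2 ∣ orderOf x := (dvd_pow_self 2 hne).trans h1
        exact (Nat.not_even_iff_odd.mpr hodd) (even_iff_two_dvd.mpr this)
      rw [h3, pow_zero] at hn
      exact orderOf_eq_one_iff.mp hn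
    exact hmem ⟨x, hx⟩ hker

end Cfsg.Agent.Lib.Helper9.MIXCYa
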