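import Mathlib
import Cfsg.Prelude.Def_Local
import Cfsg.Agent.Lib.Helper26.MixDefs
import Cfsg.Agent.Lib.Helper8.AbInvA
import Cfsg.Agent.Lib.Helper9.MIXSTRUCTa
import Cfsg.Agent.Lib.Helper12.MIXNC

/-!
helper9: S4017 market, leaf STRUCT `cent_structure` (exact) = `MIXSTRUCTa.cent_structure_of` + helper12's NC.
-/

set_option autoImplicit false

namespace Cfsg.Agent.Lib.Helper9.MIXSTRUCT

open Cfsg Cfsg.Agent.Lib.Helper26.Mix

universe u

section ctx

variable {G : Type u} [Group G] [Finite G] {p a : ℕ} {Q : Subgroup G} {g : G}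

/-- STRUCT : `C_G(t) = θ(t) ⋊ Q` with `θ(t)` a `p`-group containing every element of odd order of `C_G(t)`. -/
theorem cent_structure (c : Ctx G p a Q g) (t : G) (ht : t ∈ Q) (ht1 : t ≠ 1) :
    IsPGroup p ↥(centralizerPPrimeCore 2 t) ∧
    (∀ x ∈ Subgroup.centralizer ({t} : Set G),
      ∃ w ∈ centralizerPPrimeCore 2 t, ∃ u ∈ Q, x = w * u) ∧
    (∀ x ∈ Subgroup.centralizer ({t} : Set G), Odd (orderOf x) → x ∈ centralizerPPrimeCore 2 t) :=
  Cfsg.Agent.Lib.Helper9.MIXSTRUCTa.cent_structure_of c t ht ht1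
    (fun x hxt hxN => Cfsg.Agent.Lib.Helper12.MIXNC.normalizer_le_centralizer c t ht ht1 x hxt hxN)

end ctx

end Cfsg.Agent.Lib.Helper9.MIXSTRUCT
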