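import Mathlib
import Cfsg.Prelude.Def_Local
import Cfsg.Agent.Lib.Helper26.MixDefs
import Cfsg.Agent.Lib.Helper8.AbInvA
import Cfsg.Agent.Lib.Helper12.Cores
import Cfsg.Agent.Lib.Helper9.MIXCYa
import Cfsg.Agent.Lib.Helper9.MIXARITH
import Cfsg.Agent.Lib.Helper9.MIXSTRUCT

/-!
helper9: S4017 market, leaf CY in `_of` form (INV and LEMA as hypotheses).
-/

set_option autoImplicit false

namespace Cfsg.Agent.Lib.Helper9.MIXCYb

open Cfsg Cfsg.Agent.Lib.Helper26.Mix Cfsg.Agent.Lib.Helper9.MIXCYa

universe u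

variable {G : Type u} [Group G] [Finite G] {p a : ℕ} {Q : Subgroup G} {g : G}

/-- the odd core of a proper subgroup of even order is a `p`-group -/
theorem isPGroup_oddCoreOf (c : Ctx G p a Q g) (Y : Subgroup G) (hY : Y ≠ ⊤) (h2 : 2 ∣ Nat.card Y) :
    IsPGroup p ↥(oddCoreOf Y) := by
  have hdvd : Nat.card ↥(oddCoreOf Y) ∣ Nat.card Y := Subgroup.card_dvd_of_le (oddCoreOf_le Y)
  have hodd := card_oddCoreOf_coprime Y
  have huniq : ∀ {s : ℕ}, s.Prime → s ∣ Nat.card ↥(oddCoreOf Y) → s = p := by
    intro s hs hsd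
    rcases c.hstar _ hY h2 s hs (hsd.trans hdvd) with h | h
    · exfalso
      rw [h] at hsd
      have := Nat.Coprime.eq_one_of_dvd hodd.symm hsd
      omega
    · exact h
  have := Nat.eq_prime_pow_of_unique_prime_dvd Nat.card_pos.ne' huniq
  have : Fact p.Prime := ⟨c.hp⟩
  exact IsPGroup.of_card ‹_›

/-- elements of a subgroup of odd order have odd order -/
theorem odd_orderOf_of_mem {H : Subgroup G} (hH : (Nat.card H).Coprime 2) {x : G} (hx : x ∈ H) :
    Odd (orderOf x) := by
  have h1 : orderOf x ∣ Nat.card H := by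
    have := orderOf_dvd_natCard (⟨x, hx⟩ : ↥H)
    rwa [Subgroup.orderOf_mk] at this
  rw [← Nat.not_even_iff_odd, even_iff_two_dvd]
  intro h2
  have := Nat.Coprime.eq_one_of_dvd hH.symm (h2.trans h1)
  omega

/-- an element of odd order is not its own inverse unless trivial -/
theorem eq_one_of_odd_of_eq_inv {x : G} (hodd : Odd (orderOf x)) (h : x = x⁻¹) : x = 1 := by
  have h2 : x ^ 2 = 1 := by
    rw [pow_two]; nth_rewrite 2 [h]; exact mul_inv_cancel x
  have h3 : orderOf x ∣ 2 := orderOf_dvd_of_pow_eq_one h2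
  have h4 : orderOf x = 1 := by
    rcases (Nat.dvd_prime Nat.prime_two).mp h3 with h' | h'
    · exact h'
    · exfalso; rw [h'] at hodd; exact absurd hodd (by decide)
  exact orderOf_eq_one_iff.mp h4

/-- there is a third element of `Q` -/
theorem exists_third (c : Ctx G p a Q g) (t : G) : ∃ u ∈ Q, u ≠ 1 ∧ u ≠ t := by
  by_contra hcon
  push Not at hcon
  have hsub : (Q : Set G) ⊆ {1, t} := by
    intro u hu
    by_cases h1 : u = 1
    · simp [h1]
    · simp [hcon u hu h1]
  have hfin : ({1, t} : Set G).Finite := Set.toFinite _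
  have h2 : (Q : Set G).ncard ≤ ({1, t} : Set G).ncard := Set.ncard_le_ncard hsub hfin
  have h3 : ({1, t} : Set G).ncard ≤ 2 := Set.ncard_insert_le _ _ |>.trans (by simp)
  have h4 : Nat.card Q = (Q : Set G).ncard := rfl
  have h5 : 4 ≤ 2 ^ a := by
    calc 4 = 2 ^ 2 := by norm_num
      _ ≤ 2 ^ a := Nat.pow_le_pow_right (by norm_num) c.ha
  have := c.hQcard
  omega


/-- CY in `_of` form: INV and LEMA (at `t`, `y`) are hypotheses. -/
theorem centralizer_of_mem_core_of (c : Ctx G p a Q g) (hsimple : Simple G) (ha2 : a = 2)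
    (t : G) (ht : t ∈ Q) (ht1 : t ≠ 1) (y : G)
    (hy : y ∈ centralizerPPrimeCore 2 t) (hy1 : y ≠ 1)
    (hINV : ∀ s ∈ Q, s ≠ 1 → s ≠ t → ∀ w ∈ centralizerPPrimeCore 2 t, s * w * s⁻¹ = w⁻¹)
    (hLEMA : ∀ s ∈ Q, s ≠ 1 → s ≠ t → ∀ z ∈ centralizerPPrimeCore 2 s, z ≠ 1 →
      y * z = z * y → False)
    (x : G) (hxy : x * y = y * x) :
    x ∈ centralizerPPrimeCore 2 t ⊔ Subgroup.zpowers t := by
  subst ha2
  have : Fact (Nat.Prime 2) := ⟨Nat.prime_two⟩
  set θt := centralizerPPrimeCore 2 t with hθt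
  set Y : Subgroup G := Subgroup.centralizer ({y} : Set G) with hY
  obtain ⟨hpg, hdec, hoddt⟩ := Cfsg.Agent.Lib.Helper9.MIXSTRUCT.cent_structure c t ht ht1
  have hθab := c.hab θt hpg
  have htt : t * t = 1 := c.hQexp t ht
  have htinv : t⁻¹ = t := inv_eq_of_mul_eq_one_right htt
  have hot : orderOf t = 2 := orderOf_eq_prime (by rw [pow_two]; exact htt) ht1
  have hθle : θt ≤ Subgroup.centralizer ({t} : Set G) := oddCoreOf_le _
  have hθcop : (Nat.card ↥θt).Coprime 2 := card_oddCoreOf_coprime _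
  have hyt : y * t = t * y := Subgroup.mem_centralizer_singleton_iff.mp (hθle hy)
  have hyodd : Odd (orderOf y) := odd_orderOf_of_mem hθcop hy
  have hyinv : y ≠ y⁻¹ := fun h => hy1 (eq_one_of_odd_of_eq_inv hyodd h)
  have hmemY : ∀ z : G, z ∈ Y ↔ z * y = y * z := fun z => Subgroup.mem_centralizer_singleton_iff
  -- the action of `Q` on `y`
  have hQy : ∀ v ∈ Q, v * y * v⁻¹ = y ∨ v * y * v⁻¹ = y⁻¹ := by
    intro v hv
    by_cases hv1 : v = 1
    · left; rw [hv1]; simp
    by_cases hvt : v = t
    · left; rw [hvt, ← hyt, mul_assoc, mul_inv_cancel, mul_one]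
    · right; exact hINV v hv hv1 hvt y hy
  -- Lemma A
  have hA : ∀ z ∈ Y, z ∈ Subgroup.centralizer ({t} : Set G) → z ∈ θt ⊔ Subgroup.zpowers t := by
    intro z hzY hzt
    obtain ⟨w, hw, u, hu, rfl⟩ := hdec z hzt
    have hwy : w * y = y * w := hθab w hw y hy
    have huy : u * y = y * u := by
      have h1 : w * u * y = y * (w * u) := (hmemY _).mp hzY
      have h2 : w * (u * y) = w * (y * u) := by
        rw [← mul_assoc, h1, ← mul_assoc, ← hwy, mul_assoc]
      exact mul_left_cancel h2
    by_cases hu1 : u = 1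
    · rw [hu1, mul_one]; exact Subgroup.mem_sup_left hw
    by_cases hut : u = t
    · rw [hut]; exact Subgroup.mul_mem_sup hw (Subgroup.mem_zpowers t)
    · exfalso
      have h1 := hINV u hu hu1 hut y hy
      rw [huy, mul_assoc, mul_inv_cancel, mul_one] at h1
      exact hyinv h1
  -- `Y` is proper of even order
  have hYne : Y ≠ ⊤ := by
    intro htop
    have hyc : y ∈ Subgroup.center G := by
      rw [Subgroup.mem_center_iff]
      intro z
      have : z ∈ Y := by rw [htop]; exact Subgroup.mem_top z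
      exact (hmemY z).mp this
    rcases hsimple (Subgroup.center G) inferInstance with h | h
    · rw [h] at hyc; exact hy1 (Subgroup.mem_bot.mp hyc)
    · apply Cfsg.Agent.Lib.Helper9.MIXSTRUCTa.centralizer_ne_top c t ht ht1
      rw [eq_top_iff]
      intro z _
      have htc : t ∈ Subgroup.center G := by rw [h]; exact Subgroup.mem_top t
      rw [Subgroup.mem_centralizer_singleton_iff]
      exact (Subgroup.mem_center_iff.mp htc z)
  have htY : t ∈ Y := (hmemY t).mpr hyt.symm
  have hTY : Subgroup.zpowers t ≤ Y := (Subgroup.zpowers_le).mpr htY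
  have hcardT : Nat.card ↥(Subgroup.zpowers t) = 2 := by rw [Nat.card_zpowers, hot]
  have h2Y : 2 ∣ Nat.card Y := by
    rw [← hcardT]; exact Subgroup.card_dvd_of_le hTY
  -- `t ∉ θt`, `|K| = 2 |θt|`
  have htθ : t ∉ θt := by
    intro h
    have := odd_orderOf_of_mem hθcop h
    rw [hot] at this
    exact absurd this (by decide)
  have hQθ := Cfsg.Agent.Lib.Helper9.MIXARITH.le_normalizer_core c t ht
  have hKcard : Nat.card ↥(θt ⊔ Subgroup.zpowers t) = 2 * Nat.card ↥θt :=
    Cfsg.Agent.Lib.Helper9.MIXARITH.card_sup_invol θt t hot htθ ((Subgroup.zpowers_le).mpr (hQθ ht))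
  -- the `2`-part of `|Y|` is `2`
  have hfacY : (Nat.card Y).factorization 2 = 1 := by
    have hle2 : (Nat.card Y).factorization 2 ≤ 2 := by
      have h := c.hQsyl
      have h' := (Nat.factorization_le_iff_dvd Nat.card_pos.ne' Nat.card_pos.ne').mpr
        (Subgroup.card_subgroup_dvd_card Y) 2
      exact h'.trans h.le
    have hge1 : 1 ≤ (Nat.card Y).factorization 2 :=
      (Nat.Prime.pow_dvd_iff_le_factorization Nat.prime_two Nat.card_pos.ne').mp (by simpa using h2Y)
    by_contra hne
    have hk2 : (Nat.card Y).factorization 2 = 2 := by omega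
    have hH0 : IsPGroup 2 ↥((Subgroup.zpowers t).subgroupOf Y) := by
      apply IsPGroup.of_card (n := 1)
      rw [pow_one, ← hcardT]
      exact Nat.card_congr (Subgroup.subgroupOfEquivOfLe hTY).toEquiv
    obtain ⟨P, hP⟩ := hH0.exists_le_sylow
    have hPcard : Nat.card ↥(P : Subgroup ↥Y) = 2 ^ 2 := by
      rw [P.card_eq_multiplicity, hk2]
    have hPcomm := (IsPGroup.isMulCommutative_of_card_eq_prime_sq hPcard).is_comm.comm
    have htP : (⟨t, htY⟩ : ↥Y) ∈ (P : Subgroup ↥Y) :=
      hP (Subgroup.mem_subgroupOf.mpr (Subgroup.mem_zpowers t))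
    have hPK : (P : Subgroup ↥Y).map Y.subtype ≤ θt ⊔ Subgroup.zpowers t := by
      intro z hz
      obtain ⟨u, hu, rfl⟩ := Subgroup.mem_map.mp hz
      apply hA _ u.2
      rw [Subgroup.mem_centralizer_singleton_iff]
      have := hPcomm ⟨u, hu⟩ ⟨⟨t, htY⟩, htP⟩
      have h' := congrArg (fun z : ↥(P : Subgroup ↥Y) => ((z : ↥Y) : G)) this
      simpa using h'
    have hcard4 : Nat.card ↥((P : Subgroup ↥Y).map Y.subtype) = 4 := by
      rw [Nat.card_congr ((P : Subgroup ↥Y).equivMapOfInjective Y.subtype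
        (Subgroup.subtype_injective _)).symm.toEquiv, hPcard]
      norm_num
    have h4 : 4 ∣ 2 * Nat.card ↥θt := by
      rw [← hKcard, ← hcard4]; exact Subgroup.card_dvd_of_le hPK
    have h2θ : 2 ∣ Nat.card ↥θt := by omega
    have := Nat.Coprime.eq_one_of_dvd hθcop.symm h2θ
    omega
  -- Burnside in `Y`
  have hNC : ∀ z ∈ Y, z ∈ Subgroup.normalizer ((Subgroup.zpowers t : Subgroup G) : Set G) →
      z ∈ Subgroup.centralizer ((Subgroup.zpowers t : Subgroup G) : Set G) := by
    intro z _ hzN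
    have h1 : z * t * z⁻¹ ∈ Subgroup.zpowers t :=
      (Subgroup.mem_normalizer_iff.mp hzN t).mp (Subgroup.mem_zpowers t)
    have hsq : t ^ 2 = 1 := by rw [pow_two]; exact htt
    have hzt : z * t = t * z := by
      rcases Cfsg.Agent.Lib.Helper9.MIXARITH.mem_zpowers_invol hsq h1 with h | h
      · exfalso
        apply ht1
        have : z * t = z := by
          have := congrArg (· * z) h
          simpa using this
        exact mul_left_cancel (a := z) (by rw [this, mul_one])
      · have := congrArg (· * z) h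
        simpa using this
    rw [Subgroup.mem_centralizer_iff]
    intro w hw
    rcases Cfsg.Agent.Lib.Helper9.MIXARITH.mem_zpowers_invol hsq hw with h | h
    · rw [h]; simp
    · rw [h]; exact hzt.symm
  obtain ⟨hdecY, hoddY⟩ := struct_of_sylow Y (Subgroup.zpowers t) hTY
    (by rw [hcardT, hfacY, pow_one]) hNC
  set R := oddCoreOf Y with hR
  have hRp : IsPGroup p ↥R := isPGroup_oddCoreOf c Y hYne h2Y
  have hRab := c.hab R hRp
  have hRcop : (Nat.card ↥R).Coprime 2 := card_oddCoreOf_coprime Y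
  have hRY : R ≤ Y := oddCoreOf_le Y
  -- `Q` acts on `R`
  have hconjR : ∀ v ∈ Q, ∀ r ∈ R, v * r * v⁻¹ ∈ R := by
    intro v hv r hr
    apply hoddY
    · rw [hmemY]
      have hry : r * y = y * r := (hmemY r).mp (hRY hr)
      have hryi : r * y⁻¹ = y⁻¹ * r := by
        have := congrArg (fun z => y⁻¹ * z * y⁻¹) hry
        simp only [mul_assoc, mul_inv_cancel, mul_one] at this
        rw [← mul_assoc, ← mul_assoc, inv_mul_cancel, one_mul] at this
        exact this.symm
      have hvv : v * v = 1 := c.hQexp v hv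
      have hvinv : v⁻¹ = v := inv_eq_of_mul_eq_one_right hvv
      -- `y = v * (v y v⁻¹) * v⁻¹`
      rcases hQy v hv with h | h
      · -- `v` centralizes `y`
        have hvy : v * y = y * v := by
          have := congrArg (· * v) h
          simpa using this
        have hviy : v⁻¹ * y = y * v⁻¹ := by rw [hvinv]; exact hvy
        calc v * r * v⁻¹ * y = v * r * (v⁻¹ * y) := by rw [mul_assoc]
          _ = v * r * (y * v⁻¹) := by rw [hviy]
          _ = v * (r * y) * v⁻¹ := by simp only [mul_assoc]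
          _ = v * (y * r) * v⁻¹ := by rw [hry]
          _ = (v * y) * r * v⁻¹ := by simp only [mul_assoc]
          _ = y * (v * r * v⁻¹) := by rw [hvy]; simp only [mul_assoc]
      · -- `v` inverts `y`
        have hvy : v * y = y⁻¹ * v := by
          have := congrArg (· * v) h
          simpa using this
        have hvyi : v * y⁻¹ = y * v := by
          have h' : v * y⁻¹ * v⁻¹ = y := by
            have := congrArg (fun z => z⁻¹) h
            simpa [mul_assoc] using this
          have := congrArg (· * v) h'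
          simpa using this
        have hviy : v⁻¹ * y = y⁻¹ * v⁻¹ := by rw [hvinv]; exact hvy
        calc v * r * v⁻¹ * y = v * r * (v⁻¹ * y) := by rw [mul_assoc]
          _ = v * r * (y⁻¹ * v⁻¹) := by rw [hviy]
          _ = v * (r * y⁻¹) * v⁻¹ := by simp only [mul_assoc]
          _ = v * (y⁻¹ * r) * v⁻¹ := by rw [hryi]
          _ = (v * y⁻¹) * r * v⁻¹ := by simp only [mul_assoc]
          _ = y * (v * r * v⁻¹) := by rw [hvyi]; simp only [mul_assoc]
    · have h1 : orderOf (v * r * v⁻¹) = orderOf r := by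
        have := orderOf_injective (MulAut.conj v).toMonoidHom (MulAut.conj v).injective r
        simpa using this
      rw [h1]
      exact odd_orderOf_of_mem hRcop hr
  -- an involution `v ∈ Q \ ⟨t⟩` inverts `R`
  have hinvR : ∀ v ∈ Q, v ≠ 1 → v ≠ t → ∀ r ∈ R, v * r * v⁻¹ = r⁻¹ := by
    intro v hv hv1 hvt r hr
    have hvv : v * v = 1 := c.hQexp v hv
    have hvinv : v⁻¹ = v := inv_eq_of_mul_eq_one_right hvv
    have hr' := hconjR v hv r hr
    set B := r * (v * r * v⁻¹) with hB
    have hBR : B ∈ R := mul_mem hr hr'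
    have hBv : B * v = v * B := by
      have hcomm : r * (v * r * v⁻¹) = (v * r * v⁻¹) * r := hRab r hr _ hr'
      calc B * v = (v * r * v⁻¹) * r * v := by rw [hB, hcomm]
        _ = v * r * (v⁻¹ * r * v) := by simp only [mul_assoc]
        _ = v * r * (v * r * v⁻¹) := by rw [hvinv]
        _ = v * B := by rw [hB]; simp only [mul_assoc]
    have hBodd : Odd (orderOf B) := odd_orderOf_of_mem hRcop hBR
    have hBθ : B ∈ centralizerPPrimeCore 2 v :=
      (Cfsg.Agent.Lib.Helper9.MIXSTRUCT.cent_structure c v hv hv1).2.2 B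
        (Subgroup.mem_centralizer_singleton_iff.mpr hBv) hBodd
    have hBy : y * B = B * y := ((hmemY B).mp (hRY hBR)).symm
    have hB1 : B = 1 := by
      by_contra hne
      exact hLEMA v hv hv1 hvt B hBθ hne hBy
    exact (eq_inv_of_mul_eq_one_right hB1)
  have hRθ : R ≤ θt := by
    intro r hr
    obtain ⟨s, hs, hs1, hst⟩ := exists_third c t
    have hts : t * s ∈ Q := mul_mem ht hs
    have hts1 : t * s ≠ 1 := by
      intro h
      apply hst
      have : s = t⁻¹ := eq_inv_of_mul_eq_one_right h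
      rw [this, htinv]
    have htst : t * s ≠ t := by
      intro h
      apply hs1
      exact mul_left_cancel (a := t) (by rw [h, mul_one])
    have h1 := hinvR s hs hs1 hst r hr
    have h2 := hinvR (t * s) hts hts1 htst r hr
    have h3 : t * r⁻¹ * t⁻¹ = r⁻¹ := by
      calc t * r⁻¹ * t⁻¹ = t * (s * r * s⁻¹) * t⁻¹ := by rw [h1]
        _ = t * s * r * (t * s)⁻¹ := by simp only [mul_inv_rev, mul_assoc]
        _ = r⁻¹ := h2
    have h4 : t * r * t⁻¹ = r := by
      have := congrArg (fun z => z⁻¹) h3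
      simpa [mul_assoc] using this
    have hrt : r * t = t * r := by
      have := congrArg (· * t) h4
      simpa using this.symm
    exact hoddt r (Subgroup.mem_centralizer_singleton_iff.mpr hrt) (odd_orderOf_of_mem hRcop hr)
  obtain ⟨w, hw, u, hu, rfl⟩ := hdecY x ((hmemY x).mpr hxy)
  exact Subgroup.mul_mem_sup (hRθ hw) hu

end Cfsg.Agent.Lib.Helper9.MIXCYb
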