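import Mathlib
import Cfsg.Prelude.Def_Local
import Cfsg.Agent.Lib.Helper26.MixDefs
import Cfsg.Agent.Lib.Helper8.AbInvA
import Cfsg.Agent.Lib.Helper9.MIXCYb
import Cfsg.Agent.Lib.Helper23.MIXINV
import Cfsg.Agent.Lib.Helper17.MIXLEMA

/-!
helper9: S4017 market, leaf CY `centralizer_of_mem_core` (exact) = `MIXCYb.centralizer_of_mem_core_of`
+ helper23's INV + helper17's LEMA.  `P0Triv G Q` of the notes file is stated unfolded (definitionally equal).
-/

set_option autoImplicit false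

namespace Cfsg.Agent.Lib.Helper9.MIXCY

open Cfsg Cfsg.Agent.Lib.Helper26.Mix

universe u

section ctx

variable {G : Type u} [Group G] [Finite G] {p a : ℕ} {Q : Subgroup G} {g : G}

/-- CY : if `C_{θ t}(Q) = 1` then `C_G(y) = θ t × <t>` for `1 ≠ y ∈ θ t`. -/
theorem centralizer_of_mem_core (c : Ctx G p a Q g) (hsimple : Simple G) (ha2 : a = 2)
    (h0 : ∀ t ∈ Q, t ≠ 1 → ∀ z ∈ centralizerPPrimeCore 2 t, (∀ u ∈ Q, z * u = u * z) → z = 1)
    (t : G) (ht : t ∈ Q) (ht1 : t ≠ 1) (y : G)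
    (hy : y ∈ centralizerPPrimeCore 2 t) (hy1 : y ≠ 1) (x : G) (hxy : x * y = y * x) :
    x ∈ centralizerPPrimeCore 2 t ⊔ Subgroup.zpowers t :=
  Cfsg.Agent.Lib.Helper9.MIXCYb.centralizer_of_mem_core_of c hsimple ha2 t ht ht1 y hy hy1
    (fun s hs hs1 hst =>
      Cfsg.Agent.Lib.Helper23.MIXINV.inverts_of_P0Triv c ha2 h0 t ht ht1 s hs hs1 hst)
    (fun s hs hs1 hst z hz hz1 hyz =>
      Cfsg.Agent.Lib.Helper17.MIXLEMA.no_commuting_pair c hsimple ha2 h0 t ht ht1 s hs hs1 hst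
        y hy hy1 z hz hz1 hyz)
    x hxy

end ctx

end Cfsg.Agent.Lib.Helper9.MIXCY
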