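import Mathlib
import Cfsg.Prelude.Def_Blocks
import Cfsg.Agent.Lib.Helper24.GaloisNorm
import Cfsg.Agent.Lib.Helper24.LocalRing
import Cfsg.Agent.Lib.Helper23.RelCentC

/-!
# S4892 leaf (K) (helper9; planner helper23's exact name and binders, notes/S4892_leaves.lean)

`χ(x^k) ≡ χ(x)` modulo the local ideal for `k ≡ 1` modulo the `p'`-part of the level `n`.
-/

set_option autoImplicit false

namespace Cfsg.Agent.Lib.Helper9.PRat

open Cfsg Cfsg.Agent.Lib.Helper24

universe u

/-- A root of unity `ε` of order dividing `n`, `k ≡ 1` modulo the `p'`-part of `n`: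
`ε^k ≡ ε` modulo the local ideal. -/
theorem memLocalIdeal_root_pow_sub (p : ℕ) [Fact p.Prime] (M : Ideal AlgInt)
    (hM : IsPModular p M) (n : ℕ) (hn0 : n ≠ 0) (k : ℕ)
    (hk1 : k ≡ 1 [MOD n / p ^ n.factorization p]) (ε : ℂ) (hε : ε ^ n = 1) :
    MemLocalIdeal M (ε ^ k - ε) := by
  have hprime : M.IsPrime := isPrime_of_isPModular hM
  set a := n.factorization p with ha
  set m := n / p ^ a with hm
  have hpa : p ^ a ∣ n := Nat.ordProj_dvd n p
  have hnm : n = p ^ a * m := (Nat.mul_div_cancel' hpa).symm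
  -- roots of unity are algebraic integers, hence in the local ring
  have hint : ∀ j : ℕ, MemLocalRing M (ε ^ j) := by
    intro j
    have hi : IsIntegral ℤ (ε ^ j) := by
      apply IsIntegral.pow
      apply IsIntegral.of_pow (Nat.pos_of_ne_zero hn0)
      rw [hε]; exact isIntegral_one
    exact memLocalRing_of_algInt (M := M) ⟨ε ^ j, hi⟩ hprime.one_notMem
  rcases Nat.eq_zero_or_pos k with hk0 | hkpos
  · -- `k = 0`: then `m = 1`, `ε^(p^a) = 1`
    subst hk0
    have hm1 : m = 1 := by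
      have := (Nat.modEq_iff_dvd' (Nat.zero_le 1)).mp hk1
      simpa using this
    have hz : MemLocalIdeal M (ε - 1) := by
      apply Cfsg.Agent.Lib.Helper23.RelCent.memLocalIdeal_sub_one_of_pow_prime_pow hM a
      · have := hint 1; rwa [pow_one] at this
      · have : ε ^ p ^ a = 1 := by
          rw [hnm, hm1, mul_one] at hε; exact hε
        rw [this, sub_self]; exact memLocalIdeal_zero hprime.one_notMem
    have : ε ^ 0 - ε = -(ε - 1) := by rw [pow_zero]; ring
    rw [this]; exact memLocalIdeal_neg hz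
  · -- `k ≥ 1`: `z := ε^(k-1)` has `z^(p^a) = 1`
    have hdvd : m ∣ k - 1 := (Nat.modEq_iff_dvd' hkpos).mp hk1.symm
    obtain ⟨c, hc⟩ := hdvd
    have hzpow : (ε ^ (k - 1)) ^ p ^ a = 1 := by
      rw [← pow_mul, hc, mul_comm m c, mul_assoc, mul_comm m (p ^ a), ← hnm, mul_comm, pow_mul,
        hε, one_pow]
    have hz : MemLocalIdeal M (ε ^ (k - 1) - 1) := by
      apply Cfsg.Agent.Lib.Helper23.RelCent.memLocalIdeal_sub_one_of_pow_prime_pow hM a (hint _)
      rw [hzpow, sub_self]; exact memLocalIdeal_zero hprime.one_notMem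
    have : ε ^ k - ε = ε ^ 1 * (ε ^ (k - 1) - 1) := by
      have hk' : k = (k - 1) + 1 := by omega
      conv_lhs => rw [hk']
      rw [pow_succ, pow_one]; ring
    rw [this]
    exact memLocalIdeal_mul_left (hint 1) hz

/-- (K) `χ(x^k) ≡ χ(x)` modulo the local ideal for `k ≡ 1` modulo the `p'`-part of the level. -/
theorem memLocalIdeal_char_pow_sub {X : Type u} [Group X] [Finite X] (p : ℕ) [Fact p.Prime]
    (M : Ideal AlgInt) (hM : IsPModular p M) {χ : X → ℂ} (hχ : IsCharacter X χ) (n : ℕ)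
    (hn : Nat.card X ∣ n) (hn0 : n ≠ 0) (k : ℕ) (hk : k.Coprime n)
    (hk1 : k ≡ 1 [MOD n / p ^ n.factorization p]) (x : X) :
    MemLocalIdeal M (χ (x ^ k) - χ x) := by
  have hprime : M.IsPrime := isPrime_of_isPModular hM
  obtain ⟨d, ρ, hρ⟩ := hχ
  obtain ⟨ι, hι, μ, hμ1, -, -, hpow⟩ :=
    Cfsg.Agent.Lib.Helper24.exists_roots_char_pow ρ x
  have h1 : χ x = ∑ i, μ i := by
    have := hpow 1
    rw [pow_one] at this
    rw [← hρ, this]
    exact Finset.sum_congr rfl (fun i _ => pow_one _)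
  have hkk : χ (x ^ k) = ∑ i, μ i ^ k := by rw [← hρ, hpow k]
  rw [h1, hkk, ← Finset.sum_sub_distrib]
  apply sum_memLocalIdeal
  intro i _
  apply memLocalIdeal_root_pow_sub p M hM n hn0 k hk1
  obtain ⟨e, he⟩ := (orderOf_dvd_natCard x).trans hn
  rw [he, pow_mul, hμ1 i, one_pow]

end Cfsg.Agent.Lib.Helper9.PRat
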