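/-
Helper9 library: `p`-radical subgroups (`R = O_p(N_G(R))`).
* a `p`-subgroup `H ≤ X` is subnormal in `X` iff `H ≤ O_p(X)`;
* every `p`-subgroup normalized by `X` lies in a radical `p`-subgroup normalized by `X`;
* a radical `p`-subgroup is the intersection of the Sylow `p`-subgroups containing it.
-/
import Cfsg.Agent.Lib.Helper1.Fitting
import Cfsg.Agent.Lib.Helper16.Large2
import Cfsg.Agent.Lib.Helper16.Subnormal
import Cfsg.Agent.S0064

set_option autoImplicit false
open Pointwise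

namespace Cfsg.Agent.Lib.Helper9

open Cfsg.Agent.Lib.Helper16

variable {G : Type*} [Group G]

/-- A `p`-subgroup `H ≤ X` is subnormal in `X` iff it lies in `O_p(X)`. -/
theorem isSubnormal_subgroupOf_iff_le_pCoreOf [Finite G] {p : ℕ} [Fact p.Prime] {H X : Subgroup G}
    (hH : IsPGroup p ↥H) (hHX : H ≤ X) :
    (H.subgroupOf X).IsSubnormal ↔ H ≤ Cfsg.pCoreOf p X := by
  constructor
  · intro hs
    have h1 : H.subgroupOf X ≤ Cfsg.pCore p ↥X :=
      le_pCore_of_subnormal (H.subgroupOf X) hs hH.comap_subtype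
    intro h hh
    exact ⟨⟨h, hHX hh⟩, h1 (by rw [Subgroup.mem_subgroupOf]; exact hh), rfl⟩
  · intro hle
    have h1 : H.subgroupOf X ≤ Cfsg.pCore p ↥X := by
      intro y hy
      rw [Subgroup.mem_subgroupOf] at hy
      obtain ⟨z, hz, hzy⟩ := hle hy
      have : z = y := Subtype.ext hzy
      rw [← this]; exact hz
    have hO : (Cfsg.pCore p ↥X).IsSubnormal :=
      Subgroup.Normal.isSubnormal (Cfsg.Agent.Lib.Helper1.pCore_normal p ↥X)
    have hnil : Group.IsNilpotent ↥(Cfsg.pCore p ↥X) :=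
      (Cfsg.Agent.Lib.Helper1.pCore_isPGroup p ↥X).isNilpotent
    exact Subgroup.IsSubnormal.trans h1 (Cfsg.Agent.S0064.result.mp hnil _) hO

/-- Every `p`-subgroup `R₀` normalized by `X` lies in a radical `p`-subgroup `R`
(`O_p(N_G(R)) = R`) normalized by `X`. -/
theorem exists_radical_ge [Finite G] {p : ℕ} [Fact p.Prime] {R₀ X : Subgroup G}
    (hR₀ : IsPGroup p ↥R₀) (hX : X ≤ Subgroup.normalizer (R₀ : Set G)) :
    ∃ R : Subgroup G, R₀ ≤ R ∧ Cfsg.pCoreOf p (Subgroup.normalizer (R : Set G)) = R ∧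
      X ≤ Subgroup.normalizer (R : Set G) := by
  let S : Set (Subgroup G) := {R | IsPGroup p ↥R ∧ R₀ ≤ R ∧ X ≤ Subgroup.normalizer (R : Set G)}
  have hne : S.Nonempty := ⟨R₀, hR₀, le_rfl, hX⟩
  obtain ⟨R, hRS, hmax⟩ := (wellFounded_gt (α := Subgroup G)).has_min S hne
  obtain ⟨hRp, hR₀R, hXR⟩ := hRS
  refine ⟨R, hR₀R, ?_, hXR⟩
  set R' := Cfsg.pCoreOf p (Subgroup.normalizer (R : Set G)) with hR'
  have hRR' : R ≤ R' := le_pCoreOf Subgroup.le_normalizer le_rfl hRp
  have hR'S : R' ∈ S := by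
    refine ⟨pCoreOf_isPGroup _, hR₀R.trans hRR', hXR.trans ?_⟩
    exact le_normalizer_pCoreOf _
  by_contra hne'
  have hlt : R < R' := lt_of_le_of_ne hRR' (fun h => hne' h.symm)
  exact hmax R' hR'S hlt

/-- A radical `p`-subgroup contains the intersection of the Sylow `p`-subgroups containing it. -/
theorem sInf_sylow_le_of_radical [Finite G] {p : ℕ} [Fact p.Prime] {R : Subgroup G}
    (hR : Cfsg.pCoreOf p (Subgroup.normalizer (R : Set G)) = R) :
    sInf {K : Subgroup G | ∃ Q : Sylow p G, R ≤ (Q : Subgroup G) ∧ K = (Q : Subgroup G)} ≤ R := by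
  set N := Subgroup.normalizer (R : Set G) with hN
  set Rs := sInf {K : Subgroup G | ∃ Q : Sylow p G, R ≤ (Q : Subgroup G) ∧ K = (Q : Subgroup G)}
    with hRs
  have hRp : IsPGroup p ↥R := by rw [← hR]; exact pCoreOf_isPGroup _
  have hRRs : R ≤ Rs := by
    apply le_sInf
    rintro K ⟨Q, hQ, rfl⟩
    exact hQ
  obtain ⟨Q₀, hQ₀⟩ := hRp.exists_le_sylow
  have hRsQ₀ : Rs ≤ (Q₀ : Subgroup G) := sInf_le ⟨Q₀, hQ₀, rfl⟩
  have hRsp : IsPGroup p ↥Rs := Q₀.isPGroup'.to_le hRsQ₀
  -- `N ⊓ Rs ≤ R`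
  have hkey : N ⊓ Rs ≤ R := by
    intro x hx
    obtain ⟨hxN, hxRs⟩ := hx
    rw [← hR]
    refine ⟨⟨x, hxN⟩, ?_, rfl⟩
    -- `x` lies in every Sylow `p`-subgroup of `N`, and their intersection is `O_p(N)`
    have hI : (⨅ Q' : Sylow p ↥N, (Q' : Subgroup ↥N)) ≤ Cfsg.pCore p ↥N := by
      apply Cfsg.Agent.Lib.Helper1.le_pCore
      · constructor
        intro n hn g
        rw [Subgroup.mem_iInf] at hn ⊢
        intro Q'
        have h1 := hn (g⁻¹ • Q')
        rw [Sylow.coe_subgroup_smul] at h1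
        obtain ⟨y, hy, hyn⟩ := (Subgroup.mem_smul_pointwise_iff_exists _ _ _).mp h1
        have : g * n * g⁻¹ = y := by
          have h2 : n = g⁻¹ * y * g := by
            rw [← hyn]; simp [MulAut.smul_def]
          rw [h2]; group
        rw [this]; exact hy
      · obtain ⟨Q'⟩ : Nonempty (Sylow p ↥N) := inferInstance
        exact Q'.isPGroup'.to_le (iInf_le _ Q')
    apply hI
    rw [Subgroup.mem_iInf]
    intro Q'
    -- extend `Q'` to a Sylow `p`-subgroup `Q` of `G`; it contains `R`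
    have hQ'p : IsPGroup p ↥((Q' : Subgroup ↥N).map N.subtype) := Q'.isPGroup'.map _
    obtain ⟨Q, hQ⟩ := hQ'p.exists_le_sylow
    have hRQ' : R.subgroupOf N ≤ (Q' : Subgroup ↥N) := by
      have h1 : R.subgroupOf N ≤ Cfsg.pCore p ↥N := by
        apply Cfsg.Agent.Lib.Helper1.le_pCore
        · exact (Subgroup.normal_subgroupOf_iff_le_normalizer Subgroup.le_normalizer).mpr le_rfl
        · exact hRp.comap_subtype
      exact h1.trans (Cfsg.Agent.Lib.Helper1.pCore_le_sylow Q')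
    have hRQ : R ≤ (Q : Subgroup G) := by
      intro r hr
      apply hQ
      exact ⟨⟨r, Subgroup.le_normalizer hr⟩, hRQ' (by rw [Subgroup.mem_subgroupOf]; exact hr), rfl⟩
    have hxQ : x ∈ (Q : Subgroup G) := by
      have : Rs ≤ (Q : Subgroup G) := sInf_le ⟨Q, hRQ, rfl⟩
      exact this hxRs
    have hmax : (Q : Subgroup G).subgroupOf N = (Q' : Subgroup ↥N) := by
      apply Q'.is_maximal' Q.isPGroup'.comap_subtype
      intro y hy
      show (y : G) ∈ (Q : Subgroup G)
      exact hQ ⟨y, hy, rfl⟩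
    rw [← hmax, Subgroup.mem_subgroupOf]
    exact hxQ
  -- normalizer condition in the `p`-group `Rs`
  have hnilRs : Group.IsNilpotent ↥Rs := hRsp.isNilpotent
  have hNC : NormalizerCondition ↥Rs := Group.normalizerCondition_of_isNilpotent
  rw [normalizerCondition_iff_only_full_group_self_normalizing] at hNC
  have h1 : Subgroup.normalizer ((R.subgroupOf Rs : Subgroup ↥Rs) : Set ↥Rs) = R.subgroupOf Rs := by
    rw [← Subgroup.subgroupOf_normalizer_eq hRRs]
    apply le_antisymm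
    · intro y hy
      rw [Subgroup.mem_subgroupOf] at hy ⊢
      exact hkey ⟨hy, y.2⟩
    · intro y hy
      rw [Subgroup.mem_subgroupOf] at hy ⊢
      exact Subgroup.le_normalizer hy
  have h2 := hNC _ h1
  rw [Subgroup.subgroupOf_eq_top] at h2
  exact h2

end Cfsg.Agent.Lib.Helper9
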