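/- helper9: general lemmas for B&G Theorem 15.2(c) (S1356): commutators modulo a normalized subgroup,
nilpotency from a central kernel, `F(M) ≤ C_M(M_F) M_F`, conjugation into Hall subgroups. -/
import Mathlib
import Cfsg.Agent.Lib.Helper9.BG152A
import Cfsg.Agent.Lib.Helper9.FittingHall
import Cfsg.Agent.Lib.Helper9.TypeP
import Cfsg.Agent.Lib.Helper1.BG152A
import Cfsg.Agent.Lib.Helper1.BGZhat
import Cfsg.Agent.Lib.Helper12.Basic

set_option autoImplicit false
set_option linter.style.haveILetI false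
set_option linter.unusedSectionVars false
open scoped commutatorElement Pointwise

namespace Cfsg.Agent.Lib.Helper9.BG156

open Subgroup Cfsg Cfsg.Agent.Lib.Helper24.BG36Nab Cfsg.Agent.Lib.Helper9.BG152

variable {G : Type*} [Group G]

/-- commutators modulo a normalized subgroup. -/
theorem commutator_sup_le {N X Y : Subgroup G} (hX : X ≤ normalizer (N : Set G))
    (hY : Y ≤ normalizer (N : Set G)) : ⁅X ⊔ N, Y ⊔ N⁆ ≤ ⁅X, Y⁆ ⊔ N := by
  rw [Subgroup.commutator_le]
  intro a ha b hb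
  obtain ⟨x, hx, n, hn, rfl⟩ := Cfsg.Agent.Lib.Helper1.BGZhat.exists_mul_of_mem_sup hX ha
  obtain ⟨y, hy, n', hn', rfl⟩ := Cfsg.Agent.Lib.Helper1.BGZhat.exists_mul_of_mem_sup hY hb
  have hconj : ∀ g ∈ normalizer (N : Set G), ∀ m ∈ N, g * m * g⁻¹ ∈ N := fun g hg m hm =>
    (mem_normalizer_iff.mp hg m).mp hm
  have hxN := hX hx
  have hyN := hY hy
  have e : ⁅x * n, y * n'⁆ = ⁅x, y⁆ * (((y * x * y⁻¹) * n * (y * x * y⁻¹)⁻¹) *
      ((y * x) * (n' * n⁻¹) * (y * x)⁻¹) * (y * n'⁻¹ * y⁻¹)) := by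
    rw [commutatorElement_def, commutatorElement_def]
    group
  rw [e]
  apply Subgroup.mul_mem
  · exact Subgroup.mem_sup_left (Subgroup.commutator_mem_commutator hx hy)
  · apply Subgroup.mem_sup_right
    apply N.mul_mem (N.mul_mem ?_ ?_) ?_
    · exact hconj _ ((normalizer _).mul_mem ((normalizer _).mul_mem hyN hxN)
        ((normalizer _).inv_mem hyN)) n hn
    · exact hconj _ ((normalizer _).mul_mem hyN hxN) _ (N.mul_mem hn' (N.inv_mem hn))
    · exact hconj _ hyN _ (N.inv_mem hn')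

/-- a subgroup with central intersection with `N` and nilpotent image modulo `N` is nilpotent. -/
theorem isNilpotent_of_im {N P : Subgroup G} (hPN : P ≤ normalizer (N : Set G))
    (hc : P ⊓ N ≤ centralizer (P : Set G)) (hnil : Group.IsNilpotent ↥(im N P)) :
    Group.IsNilpotent ↥P := by
  rw [im_eq_range hPN] at hnil
  set f := (proj N).comp (Subgroup.inclusion hPN) with hf
  haveI := hnil
  apply Subgroup.isNilpotent_of_ker_le_center f.rangeRestrict
  rw [MonoidHom.ker_rangeRestrict]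
  intro x hx
  rw [MonoidHom.mem_ker] at hx
  have h1 : proj N ⟨x.1, hPN x.2⟩ = 1 := hx
  rw [proj_eq_one_iff] at h1
  have h2 : x.1 ∈ centralizer (P : Set G) := hc ⟨x.2, h1⟩
  rw [Subgroup.mem_center_iff]
  intro g
  apply Subtype.ext
  exact (mem_centralizer_iff.mp h2) g.1 g.2

/-- a subgroup with central intersection with `N` and commutator subgroup inside `N` is
nilpotent. -/
theorem isNilpotent_of_commutator_le {N P : Subgroup G} (hPN : P ≤ normalizer (N : Set G))
    (hc : P ⊓ N ≤ centralizer (P : Set G)) (hcomm : ⁅P, P⁆ ≤ N) :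
    Group.IsNilpotent ↥P := by
  apply isNilpotent_of_im hPN hc
  have hcomm' : ∀ a b : ↥(im N P), a * b = b * a := by
    intro a b
    obtain ⟨x, hx, hxa⟩ := (mem_im_iff hPN).mp a.2
    obtain ⟨y, hy, hyb⟩ := (mem_im_iff hPN).mp b.2
    apply Subtype.ext
    show a.1 * b.1 = b.1 * a.1
    rw [← hxa, ← hyb, proj_comm_iff]
    have := Subgroup.commutator_mem_commutator hx hy
    rw [commutatorElement_def] at this
    exact hcomm this
  letI : CommGroup ↥(im N P) := { (inferInstance : Group ↥(im N P)) with mul_comm := hcomm' }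
  exact CommGroup.isNilpotent

/-- the `|M : N|`-th power of an element of `M` lies in the normal subgroup `N`. -/
theorem pow_relIndex_mem {N M : Subgroup G} (hNM : N ≤ M) (hn : M ≤ normalizer (N : Set G))
    {x : G} (hx : x ∈ M) : x ^ (N.relIndex M) ∈ N := by
  haveI : (N.subgroupOf M).Normal := (Subgroup.normal_subgroupOf_iff_le_normalizer hNM).mpr hn
  have h1 := Subgroup.pow_index_mem (N.subgroupOf M) (⟨x, hx⟩ : ↥M)
  rw [Subgroup.mem_subgroupOf] at h1
  exact h1

/-- elements of order coprime to the index lie in a normal subgroup. -/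
theorem mem_of_coprime_relIndex {N M : Subgroup G} (hNM : N ≤ M)
    (hn : M ≤ normalizer (N : Set G)) {x : G} (hx : x ∈ M)
    (hcop : (orderOf x).Coprime (N.relIndex M)) : x ∈ N := by
  obtain ⟨m, hm⟩ := exists_pow_eq_self_of_coprime hcop.symm
  rw [← hm]
  exact N.pow_mem (pow_relIndex_mem hNM hn hx) m

/-- a subgroup of order coprime to the index lies in a normal subgroup. -/
theorem le_of_coprime_relIndex [Finite G] {N M X : Subgroup G} (hNM : N ≤ M)
    (hn : M ≤ normalizer (N : Set G)) (hXM : X ≤ M)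
    (hcop : (Nat.card X).Coprime (N.relIndex M)) : X ≤ N := by
  intro x hx
  apply mem_of_coprime_relIndex hNM hn (hXM hx)
  have h1 : orderOf x ∣ Nat.card X := by
    have := orderOf_dvd_natCard (⟨x, hx⟩ : ↥X)
    rwa [Subgroup.orderOf_mk] at this
  exact Nat.Coprime.coprime_dvd_left h1 hcop

/-- `F(M) ≤ C_M(M_F) M_F`. -/
theorem fittingOf_le_sup [Finite G] (M : Subgroup G) :
    fittingOf M ≤ (M ⊓ centralizer (fittingHallOf M : Set G)) ⊔ fittingHallOf M := by
  intro x hx
  have hxM : x ∈ M := Cfsg.Agent.Lib.Helper17.PrimeAct.fittingOf_le M hx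
  have hHM : fittingHallOf M ≤ M := Cfsg.Agent.Lib.Helper1.BG152.fittingHallOf_le M
  have hn : M ≤ normalizer (fittingHallOf M : Set G) :=
    Cfsg.Agent.Lib.Helper9.le_normalizer_fittingHallOf M
  have hcop := Cfsg.Agent.Lib.Helper1.BG152.coprime_card_fittingHallOf M
  set n := Nat.card (fittingHallOf M) with hn'
  set m := (fittingHallOf M).relIndex M with hm'
  have hnm : n * m = Nat.card M :=
    (Cfsg.Agent.Lib.Helper9.card_eq_card_mul_relIndex hHM).symm
  have hb : (m : ℤ) * Nat.gcdA m n + n * Nat.gcdB m n = 1 := by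
    have := Nat.gcd_eq_gcd_ab m n
    rw [Nat.Coprime.gcd_eq_one hcop.symm] at this
    exact_mod_cast this.symm
  have hu : (x ^ m) ^ (Nat.gcdA m n) ∈ fittingHallOf M :=
    (fittingHallOf M).zpow_mem (pow_relIndex_mem hHM hn hxM) _
  have hvF : (x ^ n) ^ (Nat.gcdB m n) ∈ fittingOf M :=
    (fittingOf M).zpow_mem ((fittingOf M).pow_mem hx n) _
  have hvo : ((x ^ n) ^ (Nat.gcdB m n)) ^ m = 1 := by
    rw [← zpow_natCast, ← zpow_mul, mul_comm, zpow_mul, zpow_natCast, ← pow_mul, hnm]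
    have : x ^ Nat.card M = 1 := by
      have := pow_card_eq_one' (G := ↥M) (x := ⟨x, hxM⟩)
      exact congrArg Subtype.val this
    rw [this, one_zpow]
  have hv : (x ^ n) ^ (Nat.gcdB m n) ∈ centralizer (fittingHallOf M : Set G) := by
    apply Cfsg.Agent.Lib.Helper9.mem_centralizer_of_nilpotent_of_coprime (fittingOf M)
      (fittingHallOf M) (Cfsg.Agent.Lib.Helper9.fittingOf_isNilpotent M)
      (Cfsg.Agent.Lib.Helper9.fittingHallOf_le_fittingOf M) _ hvF
      (hn (Cfsg.Agent.Lib.Helper17.PrimeAct.fittingOf_le M hvF))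
    exact Nat.Coprime.coprime_dvd_left (orderOf_dvd_of_pow_eq_one hvo) hcop.symm
  have e : x = (x ^ n) ^ (Nat.gcdB m n) * (x ^ m) ^ (Nat.gcdA m n) := by
    rw [← zpow_natCast x n, ← zpow_natCast x m, ← zpow_mul, ← zpow_mul, ← zpow_add, add_comm, hb,
      zpow_one]
  rw [e]
  exact Subgroup.mul_mem _
    (Subgroup.mem_sup_left ⟨Cfsg.Agent.Lib.Helper17.PrimeAct.fittingOf_le M hvF, hv⟩)
    (Subgroup.mem_sup_right hu)

/-- an element of prime order `p ∣ |K|` of `M` is conjugate into the Hall subgroup `K`. -/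
theorem exists_conj_mem_hall [Finite G] {π : Set ℕ} {K M : Subgroup G} (hK : IsPiHallOf π K M)
    {p : ℕ} (hp : p.Prime) (hpK : p ∣ Nat.card K) {y : G} (hy : y ∈ M) (hyp : y ^ p = 1) :
    ∃ h ∈ M, h * y * h⁻¹ ∈ K := by
  haveI : Fact p.Prime := ⟨hp⟩
  obtain ⟨P⟩ : Nonempty (Sylow p ↥K) := inferInstance
  set T : Subgroup G := (P : Subgroup ↥K).map K.subtype with hT
  have hTK : T ≤ K := Subgroup.map_subtype_le _
  have hTp : IsPGroup p T := P.2.map _
  have h1 : T.relIndex M = T.relIndex K * K.relIndex M :=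
    (Subgroup.relIndex_mul_relIndex T K M hTK hK.1).symm
  have h2 : ¬ p ∣ T.relIndex K := by
    have h3 : T.relIndex K = (P : Subgroup ↥K).index := by
      unfold Subgroup.relIndex
      congr 1
      ext x
      rw [Subgroup.mem_subgroupOf, hT, Subgroup.mem_map]
      constructor
      · rintro ⟨z, hz, hzx⟩
        have : z = x := Subtype.ext hzx
        rwa [← this]
      · intro hx
        exact ⟨x, hx, rfl⟩
    rw [h3]
    exact P.not_dvd_index
  have h4 : ¬ p ∣ K.relIndex M := hK.2.2 p hp (hK.2.1 p hp hpK)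
  have h5 : ¬ p ∣ T.relIndex M := by
    rw [h1]
    intro h
    rcases hp.dvd_mul.mp h with h | h
    · exact h2 h
    · exact h4 h
  have hZ : IsPGroup p (zpowers y) := by
    rintro ⟨z, hz⟩
    obtain ⟨j, rfl⟩ := Subgroup.mem_zpowers_iff.mp hz
    refine ⟨1, ?_⟩
    apply Subtype.ext
    show (y ^ j) ^ p ^ 1 = 1
    rw [pow_one, ← zpow_natCast, ← zpow_mul, mul_comm, zpow_mul, zpow_natCast, hyp, one_zpow]
  obtain ⟨h, hh, hc⟩ := Cfsg.Agent.Lib.Helper12.exists_conj_mem_of_relIndex T M (zpowers y) hTp h5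
    (zpowers_le.mpr hy) hZ
  exact ⟨h, hh, hTK (hc y (mem_zpowers y))⟩

/-- a `q'`-element stabilizing the chain `1 ≤ A ≤ Q` of a `q`-group centralizes `Q`. -/
theorem mem_centralizer_of_stab [Finite G] {q : ℕ} [Fact q.Prime] {Q A : Subgroup G}
    (hQ : IsPGroup q Q) (hAQ : A ≤ Q) {d : G} (hdA : ∀ a ∈ A, d * a = a * d)
    (hdQ : ∀ x ∈ Q, d * x * d⁻¹ * x⁻¹ ∈ A) (hcop : (orderOf d).Coprime q) :
    d ∈ centralizer (Q : Set G) := by
  rw [mem_centralizer_iff]
  intro x hx
  set a := d * x * d⁻¹ * x⁻¹ with ha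
  have haA : a ∈ A := hdQ x hx
  have hcomm : d * a = a * d := hdA a haA
  -- `d ^ n * x * d ^ (-n) = a ^ n * x`
  have key : ∀ n : ℕ, d ^ n * x * (d ^ n)⁻¹ = a ^ n * x := by
    intro n
    induction n with
    | zero => simp
    | succ n ih =>
      have hc' : d * a ^ n = a ^ n * d := by
        have : Commute d a := hcomm
        exact (this.pow_right n).eq
      calc d ^ (n + 1) * x * (d ^ (n + 1))⁻¹ = d * (d ^ n * x * (d ^ n)⁻¹) * d⁻¹ := by
            rw [pow_succ']; group
        _ = d * (a ^ n * x) * d⁻¹ := by rw [ih]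
        _ = (d * a ^ n) * x * d⁻¹ := by group
        _ = a ^ n * (d * x * d⁻¹ * x⁻¹) * x := by rw [hc']; group
        _ = a ^ (n + 1) * x := by rw [← ha, pow_succ]
  have h1 := key (orderOf d)
  rw [pow_orderOf_eq_one, one_mul, inv_one, mul_one] at h1
  have h2 : a ^ orderOf d = 1 := by
    have : a ^ orderOf d * x = 1 * x := by rw [one_mul]; exact h1.symm
    exact mul_right_cancel this
  obtain ⟨k, hk⟩ := hQ ⟨a, hAQ haA⟩
  have hk' : a ^ q ^ k = 1 := congrArg Subtype.val hk
  have h3 : orderOf a ∣ (orderOf d).gcd (q ^ k) :=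
    Nat.dvd_gcd (orderOf_dvd_of_pow_eq_one h2) (orderOf_dvd_of_pow_eq_one hk')
  rw [Nat.Coprime.gcd_eq_one (Nat.Coprime.pow_right k hcop)] at h3
  have h4 : a = 1 := orderOf_eq_one_iff.mp (Nat.dvd_one.mp h3)
  have h5 : d * x * d⁻¹ * x⁻¹ = 1 := by rw [← ha]; exact h4
  calc x * d = (d * x * d⁻¹ * x⁻¹)⁻¹ * (d * x) := by group
    _ = d * x := by rw [h5, inv_one, one_mul]

end Cfsg.Agent.Lib.Helper9.BG156
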