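import Mathlib
import Cfsg.Agent.Lib.Helper24.HKKDefs

/-!
# Kreknin's theorem (leaf HKA of S3779, helper9)

A `ZMod p`-graded Lie ring with zero `0`-component is solvable of derived length at most
`2 ^ (p - 1) - 1`; stated for graded subrings `M`.
-/

set_option autoImplicit false

open Cfsg.Agent.Lib.Helper24.HKK

namespace Cfsg.Agent.Lib.Helper9.HKKLeaf

section general

variable {L : Type*} [LieRing L]

/-- bilinear closure principle for the bracket followed by an additive map -/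
lemma closure_lie_mem (g : L →+ L) {S T : Set L} {R : AddSubgroup L}
    (h : ∀ s ∈ S, ∀ t ∈ T, g ⁅s, t⁆ ∈ R) :
    ∀ x ∈ AddSubgroup.closure S, ∀ y ∈ AddSubgroup.closure T, g ⁅x, y⁆ ∈ R := by
  intro x hx
  induction hx using AddSubgroup.closure_induction with
  | mem s hs =>
    intro y hy
    induction hy using AddSubgroup.closure_induction with
    | mem t ht => exact h s hs t ht
    | zero => rw [lie_zero, map_zero]; exact R.zero_mem
    | add a b _ _ iha ihb => rw [lie_add, map_add]; exact R.add_mem iha ihb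
    | neg a _ iha => rw [lie_neg, map_neg]; exact R.neg_mem iha
  | zero => intro y _; rw [zero_lie, map_zero]; exact R.zero_mem
  | add a b _ _ iha ihb =>
    intro y hy; rw [add_lie, map_add]; exact R.add_mem (iha y hy) (ihb y hy)
  | neg a _ iha => intro y hy; rw [neg_lie, map_neg]; exact R.neg_mem (iha y hy)

lemma brk_induction (g : L →+ L) {X Y R : AddSubgroup L}
    (h : ∀ x ∈ X, ∀ y ∈ Y, g ⁅x, y⁆ ∈ R) : ∀ b ∈ brk X Y, g b ∈ R := by
  intro b hb
  unfold brk at hb
  induction hb using AddSubgroup.closure_induction with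
  | mem z hz => obtain ⟨x, hx, y, hy, rfl⟩ := hz; exact h x hx y hy
  | zero => rw [map_zero]; exact R.zero_mem
  | add a b _ _ iha ihb => rw [map_add]; exact R.add_mem iha ihb
  | neg a _ iha => rw [map_neg]; exact R.neg_mem iha

lemma lie_mem_brk {X Y : AddSubgroup L} {x y : L} (hx : x ∈ X) (hy : y ∈ Y) :
    ⁅x, y⁆ ∈ brk X Y :=
  AddSubgroup.subset_closure ⟨x, hx, y, hy, rfl⟩

lemma brk_mono {X X' Y Y' : AddSubgroup L} (hX : X ≤ X') (hY : Y ≤ Y') :
    brk X Y ≤ brk X' Y' := by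
  apply AddSubgroup.closure_mono
  rintro z ⟨x, hx, y, hy, rfl⟩
  exact ⟨x, hX hx, y, hY hy, rfl⟩

lemma brk_le {X Y R : AddSubgroup L} (h : ∀ x ∈ X, ∀ y ∈ Y, ⁅x, y⁆ ∈ R) : brk X Y ≤ R := by
  rw [brk, AddSubgroup.closure_le]
  rintro z ⟨x, hx, y, hy, rfl⟩
  exact h x hx y hy

lemma der_mono {X Y : AddSubgroup L} (h : X ≤ Y) : ∀ s, der X s ≤ der Y s
  | 0 => h
  | (s + 1) => brk_mono (der_mono h s) (der_mono h s)

lemma der_add (M : AddSubgroup L) (s : ℕ) : ∀ t, der M (s + t) = der (der M s) t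
  | 0 => rfl
  | (t + 1) => by
    show brk (der M (s + t)) (der M (s + t)) = brk (der (der M s) t) (der (der M s) t)
    rw [der_add M s t]

lemma der_succ' (X : AddSubgroup L) (t : ℕ) : der X (t + 1) = der (brk X X) t := by
  rw [add_comm, der_add]; rfl

end general

section graded

variable {p : ℕ} [Fact p.Prime] {L : Type*} [LieRing L] (gr : Grading p L)

lemma proj_of_homog {d : ZMod p} {u : L} (hu : gr.π d u = u) (j : ZMod p) :
    gr.π j u = if j = d then u else 0 := by
  split_ifs with h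
  · rw [h, hu]
  · rw [← hu, gr.orth j d h]

lemma lie_homog {a b : ZMod p} {x y : L} (hx : gr.π a x = x) (hy : gr.π b y = y) :
    gr.π (a + b) ⁅x, y⁆ = ⁅x, y⁆ := by
  have := gr.lie a b x y
  rwa [hx, hy] at this

lemma homog_zero {u : L} (hu : gr.π 0 u = u) : u = 0 := by rw [← hu, gr.zero]

/-- Lie monomials in the homogeneous elements of `M` of degree (representative) at least `k`,
with weight and degree. -/
inductive Mono (M : AddSubgroup L) (k : ℕ) : ℕ → ZMod p → L → Prop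
  | gen (i : ZMod p) (x : L) (hx : x ∈ M) (hi : k ≤ i.val) : Mono M k 1 i (gr.π i x)
  | brk {w₁ w₂ : ℕ} {d₁ d₂ : ZMod p} {u v : L} :
      Mono M k w₁ d₁ u → Mono M k w₂ d₂ v → Mono M k (w₁ + w₂) (d₁ + d₂) ⁅u, v⁆

variable {gr}

lemma Mono.homog {M : AddSubgroup L} {k w : ℕ} {d : ZMod p} {u : L} (h : Mono gr M k w d u) :
    gr.π d u = u := by
  induction h with
  | gen i x hx hi => exact gr.idem i x
  | brk _ _ ih1 ih2 => exact lie_homog gr ih1 ih2

lemma Mono.pos {M : AddSubgroup L} {k w : ℕ} {d : ZMod p} {u : L} (h : Mono gr M k w d u) :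
    1 ≤ w := by
  induction h with
  | gen => exact le_refl 1
  | brk _ _ ih1 ih2 => omega

lemma Mono.mem {M : AddSubgroup L} (hM : IsGradedSubring gr M) {k w : ℕ} {d : ZMod p} {u : L}
    (h : Mono gr M k w d u) : u ∈ M := by
  induction h with
  | gen i x hx hi => exact hM.1 i x hx
  | brk _ _ ih1 ih2 => exact hM.2 _ ih1 _ ih2

variable (gr)

/-- the Lie subring generated by the homogeneous elements of `M` of degree at least `k` -/
def Z (M : AddSubgroup L) (k : ℕ) : AddSubgroup L :=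
  AddSubgroup.closure {u | ∃ w d, Mono gr M k w d u}

variable {gr}

lemma mono_mem_Z {M : AddSubgroup L} {k w : ℕ} {d : ZMod p} {u : L} (h : Mono gr M k w d u) :
    u ∈ Z gr M k := AddSubgroup.subset_closure ⟨w, d, h⟩

lemma Z_le {M : AddSubgroup L} (hM : IsGradedSubring gr M) (k : ℕ) : Z gr M k ≤ M := by
  rw [Z, AddSubgroup.closure_le]
  rintro u ⟨w, d, h⟩
  exact h.mem hM

lemma Z_lie_mem {M : AddSubgroup L} {k : ℕ} :
    ∀ x ∈ Z gr M k, ∀ y ∈ Z gr M k, ⁅x, y⁆ ∈ Z gr M k :=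
  closure_lie_mem (AddMonoidHom.id L) (by
    rintro s ⟨w1, d1, h1⟩ t ⟨w2, d2, h2⟩
    exact mono_mem_Z (Mono.brk h1 h2))

lemma Z_proj_mem {M : AddSubgroup L} {k : ℕ} (j : ZMod p) :
    ∀ x ∈ Z gr M k, gr.π j x ∈ Z gr M k := by
  intro x hx
  unfold Z at hx
  induction hx using AddSubgroup.closure_induction with
  | mem u hu =>
    obtain ⟨w, d, h⟩ := hu
    rw [proj_of_homog gr h.homog j]
    split_ifs
    · exact mono_mem_Z h
    · exact zero_mem _
  | zero => rw [map_zero]; exact zero_mem _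
  | add a b _ _ iha ihb => rw [map_add]; exact add_mem iha ihb
  | neg a _ iha => rw [map_neg]; exact neg_mem iha

lemma Z_graded {M : AddSubgroup L} {k : ℕ} : IsGradedSubring gr (Z gr M k) :=
  ⟨fun j x hx => Z_proj_mem j x hx, Z_lie_mem⟩

lemma Z_min {M : AddSubgroup L} {k : ℕ} {S : AddSubgroup L}
    (hS : ∀ x ∈ S, ∀ y ∈ S, ⁅x, y⁆ ∈ S)
    (hgen : ∀ i : ZMod p, ∀ x ∈ M, k ≤ i.val → gr.π i x ∈ S) : Z gr M k ≤ S := by
  rw [Z, AddSubgroup.closure_le]
  rintro u ⟨w, d, h⟩
  induction h with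
  | gen i x hx hi => exact hgen i x hx hi
  | brk _ _ ih1 ih2 => exact hS _ ih1 _ ih2

lemma le_Z_one {M : AddSubgroup L} : M ≤ Z gr M 1 := by
  intro x hx
  rw [← gr.sum x]
  apply AddSubgroup.sum_mem
  intro i _
  by_cases hi : i = 0
  · rw [hi, gr.zero]; exact zero_mem _
  · apply mono_mem_Z (Mono.gen i x hx _)
    have : i.val ≠ 0 := by rwa [Ne, ZMod.val_eq_zero]
    omega

lemma Z_p_eq_bot {M : AddSubgroup L} : Z gr M p = ⊥ := by
  rw [eq_bot_iff, Z, AddSubgroup.closure_le]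
  rintro u ⟨w, d, h⟩
  exfalso
  induction h with
  | gen i x hx hi => exact absurd (ZMod.val_lt i) (not_lt.mpr hi)
  | brk _ _ ih1 _ => exact ih1

lemma brk_graded {X : AddSubgroup L} (hX : IsGradedSubring gr X) :
    IsGradedSubring gr (brk X X) := by
  have hle : brk X X ≤ X := brk_le (fun x hx y hy => hX.2 x hx y hy)
  refine ⟨fun j b hb => ?_, fun a ha b hb => lie_mem_brk (hle ha) (hle hb)⟩
  refine brk_induction (gr.π j) ?_ b hb
  intro x hx y hy
  have e : ⁅x, y⁆ = ∑ a, ∑ b, ⁅gr.π a x, gr.π b y⁆ := by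
    conv_lhs => rw [← gr.sum x, ← gr.sum y]
    rw [sum_lie]
    apply Finset.sum_congr rfl
    intro a _
    rw [lie_sum]
  rw [e, map_sum]
  apply AddSubgroup.sum_mem
  intro a _
  rw [map_sum]
  apply AddSubgroup.sum_mem
  intro b _
  rw [proj_of_homog gr (gr.lie a b x y) j]
  split_ifs
  · exact lie_mem_brk (hX.1 a x hx) (hX.1 b y hy)
  · exact zero_mem _

/-- key lemma on monomials -/
lemma gamma_mono {M : AddSubgroup L} (hM : IsGradedSubring gr M) (k : ℕ) (hkp : k < p) :
    ∀ n : ℕ, ∀ (w₁ : ℕ) (d₁ : ZMod p) (u : L) (w₂ : ℕ) (d₂ : ZMod p) (v : L),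
      Mono gr M k w₁ d₁ u → Mono gr M k w₂ d₂ v → d₁ + d₂ = (k : ZMod p) → w₁ ≤ n →
      ⁅u, v⁆ ∈ Z gr M (k + 1) := by
  intro n
  induction n with
  | zero =>
    intro w₁ d₁ u w₂ d₂ v hu hv hd hw
    have := hu.pos
    omega
  | succ n ih =>
    intro w₁ d₁ u w₂ d₂ v hu hv hd hw
    have hval : (d₁.val + d₂.val) % p = k := by
      have := congrArg ZMod.val hd
      rw [ZMod.val_add, ZMod.val_natCast, Nat.mod_eq_of_lt hkp] at this
      exact this
    have h1 := ZMod.val_lt d₁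
    have h2 := ZMod.val_lt d₂
    by_cases hge : p ≤ d₁.val + d₂.val
    · have hsum : d₁.val + d₂.val = p + k := by
        have : (d₁.val + d₂.val) % p = d₁.val + d₂.val - p := by
          rw [Nat.mod_eq_sub_mod hge, Nat.mod_eq_of_lt (by omega)]
        omega
      have hu' : u ∈ Z gr M (k + 1) := by
        rw [← hu.homog]
        exact mono_mem_Z (Mono.gen d₁ u (hu.mem hM) (by omega))
      have hv' : v ∈ Z gr M (k + 1) := by
        rw [← hv.homog]
        exact mono_mem_Z (Mono.gen d₂ v (hv.mem hM) (by omega))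
      exact Z_lie_mem u hu' v hv'
    · have hge' : d₁.val + d₂.val < p := not_le.mp hge
      have hsum : d₁.val + d₂.val = k := by rwa [Nat.mod_eq_of_lt hge'] at hval
      cases hu with
      | gen i x hx hi =>
        have hd2 : d₂ = 0 := by
          have : d₂.val = 0 := by omega
          exact (ZMod.val_eq_zero d₂).mp this
        have hv0 : v = 0 := homog_zero gr (by rw [← hd2]; exact hv.homog)
        rw [hv0, lie_zero]; exact zero_mem _
      | @brk w' w'' d' d'' u' u'' hu1 hu2 =>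
        have e : ⁅⁅u', u''⁆, v⁆ = ⁅u', ⁅u'', v⁆⁆ - ⁅u'', ⁅u', v⁆⁆ := by
          rw [leibniz_lie u' u'' v]; abel
        rw [e]
        have p1 := hu1.pos
        have p2 := hu2.pos
        apply AddSubgroup.sub_mem
        · exact ih w' d' u' (w'' + w₂) (d'' + d₂) ⁅u'', v⁆ hu1 (Mono.brk hu2 hv)
            (by rw [← hd]; ring) (by omega)
        · exact ih w'' d'' u'' (w' + w₂) (d' + d₂) ⁅u', v⁆ hu2 (Mono.brk hu1 hv)
            (by rw [← hd]; ring) (by omega)

lemma gamma {M : AddSubgroup L} (hM : IsGradedSubring gr M) (k : ℕ) (hkp : k < p) :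
    ∀ b ∈ brk (Z gr M k) (Z gr M k), gr.π (k : ZMod p) b ∈ Z gr M (k + 1) := by
  apply brk_induction
  apply closure_lie_mem
  rintro s ⟨w1, d1, h1⟩ t ⟨w2, d2, h2⟩
  rw [proj_of_homog gr (Mono.brk h1 h2).homog]
  split_ifs with h
  · exact gamma_mono hM k hkp w1 w1 d1 s w2 d2 t h1 h2 h.symm le_rfl
  · exact zero_mem _

lemma main_P (k : ℕ) : k < p → ∀ M : AddSubgroup L, IsGradedSubring gr M →
    der M (2 ^ k - 1) ≤ Z gr M (k + 1) := by
  induction k with
  | zero =>
    intro _ M hM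
    simpa [der] using (le_Z_one : M ≤ Z gr M 1)
  | succ j ih =>
    intro hj M hM
    have hj' : j < p := by omega
    have e1 : 2 ^ (j + 1) - 1 = (2 ^ j - 1) + ((2 ^ j - 1) + 1) := by
      have : 1 ≤ 2 ^ j := Nat.one_le_two_pow
      rw [pow_succ]; omega
    rw [e1, der_add, der_succ']
    have hB : IsGradedSubring gr (brk (Z gr M (j + 1)) (Z gr M (j + 1))) :=
      brk_graded Z_graded
    have s1 : der (brk (der M (2 ^ j - 1)) (der M (2 ^ j - 1))) (2 ^ j - 1) ≤
        der (brk (Z gr M (j + 1)) (Z gr M (j + 1))) (2 ^ j - 1) :=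
      der_mono (brk_mono (ih hj' M hM) (ih hj' M hM)) _
    have s2 := ih hj' _ hB
    have s3 : Z gr (brk (Z gr M (j + 1)) (Z gr M (j + 1))) (j + 1) ≤ Z gr M (j + 1 + 1) := by
      apply Z_min Z_lie_mem
      intro i b hb hi
      rcases Nat.eq_or_lt_of_le hi with h | h
      · have hi' : i = ((j + 1 : ℕ) : ZMod p) := by rw [h, ZMod.natCast_zmod_val]
        rw [hi']
        exact gamma hM (j + 1) hj b hb
      · have hbM : b ∈ M := Z_le hM _ (brk_le Z_lie_mem hb)
        rw [← gr.idem i b]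
        exact mono_mem_Z (Mono.gen i (gr.π i b) (hM.1 i b hbM) h)
    exact s1.trans (s2.trans s3)

end graded

/-- **HKA** Kreknin's theorem. -/
theorem kreknin {p : ℕ} [Fact p.Prime] {L : Type*} [LieRing L] (gr : Grading p L)
    (M : AddSubgroup L) (hM : IsGradedSubring gr M) : der M (2 ^ (p - 1) - 1) = ⊥ := by
  have hp : 1 ≤ p := (Fact.out : p.Prime).one_le
  have h := main_P (gr := gr) (p - 1) (by omega) M hM
  rw [show p - 1 + 1 = p by omega, Z_p_eq_bot] at h
  exact eq_bot_iff.mpr h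

end Cfsg.Agent.Lib.Helper9.HKKLeaf
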