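/-
helper9: S4651 leaf (LC), `_of` form over (C1), (C2): the normal chains stabilized by `u`.
-/
import Mathlib
import Cfsg.Agent.Lib.Helper24.KRDefs

set_option autoImplicit false
set_option linter.unusedSectionVars false
set_option linter.deprecated false

namespace Cfsg.Agent.Lib.Helper9.KRLC

open Cfsg Cfsg.Agent.Lib.Helper24.KR

universe u

variable {G : Type u} [Group G] [Finite G] {p : ℕ} [hpp : Fact p.Prime] {M : Ideal AlgInt}

/-- (LC), `_of` form: from the statements (C1) and (C2). -/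
theorem finsum_normal_chains_of
    (C1 : ∀ Ψ : Subgroup G → ℤ,
      ∑ᶠ s ∈ {s : Finset (Subgroup G) | IsPChain p s ∧ ¬ IsNormalChain s},
        (-1 : ℤ) ^ (s.card - 1) * Ψ (chainNorm s) = 0)
    (C2 : ∀ (u : G) (_ : u ≠ 1) (_ : ∃ k : ℕ, orderOf u = p ^ k) (Φ : Subgroup G → ℤ),
      ∑ᶠ s ∈ {s : Finset (Subgroup G) | IsPChain p s ∧ u ∈ chainNorm s},
        (-1 : ℤ) ^ (s.card - 1) * Φ (Cz u ⊓ chainNorm s) = Φ (Cz u))
    (u : G) (hu1 : u ≠ 1) (hu : ∃ k : ℕ, orderOf u = p ^ k)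
    (Φ : Subgroup G → ℤ) :
    ∑ᶠ s ∈ {s : Finset (Subgroup G) | (IsPChain p s ∧ IsNormalChain s) ∧ u ∈ chainNorm s},
      (-1 : ℤ) ^ (s.card - 1) * Φ (Cz u ⊓ chainNorm s) = Φ (Cz u) := by
  classical
  set f : Finset (Subgroup G) → ℤ := fun s => (-1 : ℤ) ^ (s.card - 1) * Φ (Cz u ⊓ chainNorm s)
    with hf
  have h2 := C2 u hu1 hu Φ
  have h1 := C1 (fun N => if u ∈ N then Φ (Cz u ⊓ N) else 0)
  -- the non-normal part
  have hnn : ∑ᶠ s ∈ {s : Finset (Subgroup G) |
      (IsPChain p s ∧ ¬ IsNormalChain s) ∧ u ∈ chainNorm s}, f s = 0 := by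
    rw [← h1]
    have hsplit := finsum_mem_inter_add_sdiff
      (f := fun s : Finset (Subgroup G) => (-1 : ℤ) ^ (s.card - 1) *
        (fun N => if u ∈ N then Φ (Cz u ⊓ N) else 0) (chainNorm s))
      (s := {s : Finset (Subgroup G) | IsPChain p s ∧ ¬ IsNormalChain s})
      {s : Finset (Subgroup G) | u ∈ chainNorm s} (Set.toFinite _)
    rw [← hsplit]
    have hz : ∑ᶠ s ∈ {s : Finset (Subgroup G) | IsPChain p s ∧ ¬ IsNormalChain s} \
        {s : Finset (Subgroup G) | u ∈ chainNorm s}, (-1 : ℤ) ^ (s.card - 1) *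
        (fun N => if u ∈ N then Φ (Cz u ⊓ N) else 0) (chainNorm s) = 0 := by
      apply finsum_mem_eq_zero_of_forall_eq_zero
      intro s hs
      have : u ∉ chainNorm s := hs.2
      simp only [if_neg this, mul_zero]
    rw [hz, add_zero]
    apply finsum_mem_congr
    · ext s
      simp only [Set.mem_setOf_eq, Set.mem_inter_iff]
    · intro s hs
      have : u ∈ chainNorm s := hs.2
      simp only [hf, if_pos this]
  -- split (C2)
  have hunion : {s : Finset (Subgroup G) | IsPChain p s ∧ u ∈ chainNorm s} =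
      {s : Finset (Subgroup G) | (IsPChain p s ∧ IsNormalChain s) ∧ u ∈ chainNorm s} ∪
      {s : Finset (Subgroup G) | (IsPChain p s ∧ ¬ IsNormalChain s) ∧ u ∈ chainNorm s} := by
    ext s
    simp only [Set.mem_setOf_eq, Set.mem_union]
    by_cases hn : IsNormalChain s <;> simp [hn]
  have hdisj : Disjoint
      {s : Finset (Subgroup G) | (IsPChain p s ∧ IsNormalChain s) ∧ u ∈ chainNorm s}
      {s : Finset (Subgroup G) | (IsPChain p s ∧ ¬ IsNormalChain s) ∧ u ∈ chainNorm s} := by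
    rw [Set.disjoint_left]
    intro s hs hs'
    exact hs'.1.2 hs.1.2
  rw [hunion, finsum_mem_union hdisj (Set.toFinite _) (Set.toFinite _)] at h2
  change ∑ᶠ s ∈ _, f s + ∑ᶠ s ∈ _, f s = _ at h2
  rw [hnn, add_zero] at h2
  exact h2

end Cfsg.Agent.Lib.Helper9.KRLC
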