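/-
helper9: S4651 leaf (LT): exactly one block of `C_G(1) = ⊤` induces `b`; `Lam(C_G(1)) = l(b)`.
-/
import Mathlib
import Cfsg.Agent.Lib.Helper24.KRDefs
import Cfsg.Agent.Lib.Helper16.KleinSCB

set_option autoImplicit false
set_option linter.unusedSectionVars false
set_option linter.deprecated false

namespace Cfsg.Agent.Lib.Helper9.KRLT

open Cfsg Cfsg.Agent.Lib.Helper24.KR
open Cfsg.Agent.CharLib Cfsg.Agent.Lib.Helper24 Cfsg.Agent.Lib.Helper6

universe u

variable {G : Type u} [Group G] [Finite G] {p : ℕ} [hpp : Fact p.Prime] {M : Ideal AlgInt}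

/-- for `H = ⊤`, the pullback of `b` along `H ≃* G` induces `b`. -/
theorem isInducedBlock_pullBlock_top (hM : IsPModular p M) (b : Set (IrrCharacter G))
    (hb : IsPBlock M b) :
    IsInducedBlock M (⊤ : Subgroup G)
      (BlockIso.pullBlock (Subgroup.topEquiv : (⊤ : Subgroup G) ≃* G) b) b := by
  classical
  haveI hprime : M.IsPrime := isPrime_of_isPModular hM
  set ι : (⊤ : Subgroup G) ≃* G := Subgroup.topEquiv with hι
  refine ⟨BlockIso.isPBlock_pullBlock ι hb, hb, ?_⟩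
  intro ξ hξ χ hχ g
  rw [Cfsg.Agent.Lib.Helper16.KleinSCB.inducedCentralChar_top (ξ : (⊤ : Subgroup G) → ℂ)
    (IsCharacter.isClassFunction (IsIrrCharacter.isCharacter ξ.2)) g]
  obtain ⟨χ₀, hχ₀⟩ := hb
  have h1 : irrCompIso ι.symm ξ ∈ b := hξ
  rw [hχ₀] at h1 hχ
  have h2 : SameBlock M ((irrCompIso ι.symm ξ : IrrCharacter G) : G → ℂ) (χ : G → ℂ) :=
    sameBlock_trans (sameBlock_symm h1) hχ
  exact h2 g

/-- for `H = ⊤`, a block of `H` inducing `b` is the pullback of `b`. -/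
theorem eq_pullBlock_of_induced_top (hM : IsPModular p M) (b : Set (IrrCharacter G))
    (β : Set (IrrCharacter (⊤ : Subgroup G))) (h : IsInducedBlock M (⊤ : Subgroup G) β b) :
    β = BlockIso.pullBlock (Subgroup.topEquiv : (⊤ : Subgroup G) ≃* G) b := by
  classical
  haveI hprime : M.IsPrime := isPrime_of_isPModular hM
  set ι : (⊤ : Subgroup G) ≃* G := Subgroup.topEquiv with hι
  obtain ⟨hβ, hB, hcc⟩ := h
  have hpull : IsPBlock M (BlockIso.pullBlock ι b) := BlockIso.isPBlock_pullBlock ι hB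
  obtain ⟨ξ₀, hξ₀⟩ := hβ
  obtain ⟨χ₀, hχ₀⟩ := hB
  have hξ₀b : ξ₀ ∈ β := by rw [hξ₀]; exact mem_blockOf_self ξ₀
  have hχ₀B : χ₀ ∈ b := by rw [hχ₀]; exact mem_blockOf_self χ₀
  have hmem : ξ₀ ∈ BlockIso.pullBlock ι b := by
    rw [BlockIso.mem_pullBlock_iff, hχ₀]
    change SameBlock M (χ₀ : G → ℂ) ((irrCompIso ι.symm ξ₀ : IrrCharacter G) : G → ℂ)
    apply sameBlock_symm
    intro g
    have h1 := hcc ξ₀ hξ₀b χ₀ hχ₀B g
    rw [Cfsg.Agent.Lib.Helper16.KleinSCB.inducedCentralChar_top (ξ₀ : (⊤ : Subgroup G) → ℂ)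
      (IsCharacter.isClassFunction (IsIrrCharacter.isCharacter ξ₀.2)) g] at h1
    exact h1
  exact isPBlock_eq_of_mem ⟨ξ₀, hξ₀⟩ hpull hξ₀b hmem

/-- `Lam` of a subgroup equal to `⊤`. -/
theorem Lam_eq_of_eq_top (hM : IsPModular p M) (b : Set (IrrCharacter G)) (hb : IsPBlock M b)
    (H : Subgroup G) (hH : H = ⊤) : Lam p M b H = blockRank p b := by
  classical
  subst hH
  unfold Lam
  have hset : {β : Set (IrrCharacter (⊤ : Subgroup G)) | IsInducedBlock M (⊤ : Subgroup G) β b} =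
      {BlockIso.pullBlock (Subgroup.topEquiv : (⊤ : Subgroup G) ≃* G) b} := by
    ext β
    simp only [Set.mem_setOf_eq, Set.mem_singleton_iff]
    constructor
    · intro h
      exact eq_pullBlock_of_induced_top hM b β h
    · rintro rfl
      exact isInducedBlock_pullBlock_top hM b hb
  rw [hset, finsum_mem_singleton]
  exact Cfsg.Agent.Lib.Helper16.KleinSCA.blockRank_pullBlock p _ b

/-- (LT) the blocks of `C_G(1)` inducing `b`. -/
theorem Lam_Cz_one (hM : IsPModular p M) (b : Set (IrrCharacter G)) (hb : IsPBlock M b) :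
    Lam p M b (Cz (1 : G)) = blockRank p b := by
  apply Lam_eq_of_eq_top hM b hb
  rw [Subgroup.eq_top_iff']
  intro x
  rw [Subgroup.mem_centralizer_iff]
  intro y hy
  rw [Set.mem_singleton_iff] at hy
  subst hy
  rw [one_mul, mul_one]

end Cfsg.Agent.Lib.Helper9.KRLT
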