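-- S5798 (sl6) block (S) (helper24): leaf S1 frob_noncyclic (pure group theory).
import Mathlib
import Cfsg.Agent.Lib.Helper17.CoprimeGen

set_option autoImplicit false

namespace Cfsg.Agent.Lib.Helper9.SL6SLeaf
open Subgroup

/-- a non-identity element of a subgroup of prime exponent generates every cyclic subgroup containing it -/
theorem mem_zpowers_of_mem_zpowers {X : Type*} [Group X] {p : ℕ} (hp : p.Prime) {a b : X}
    (hb : b ^ p = 1) (ha1 : a ≠ 1) (h : a ∈ Subgroup.zpowers b) : b ∈ Subgroup.zpowers a := by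
  obtain ⟨k, hk⟩ := Subgroup.mem_zpowers_iff.mp h
  have hpk : ¬ (p : ℤ) ∣ k := by
    rintro ⟨m, rfl⟩
    apply ha1
    rw [← hk, zpow_mul, zpow_natCast, hb, one_zpow]
  have hcop : IsCoprime k (p : ℤ) := by
    have := (Int.prime_iff_natAbs_prime.mpr (by simpa using hp)).coprime_iff_not_dvd.mpr hpk
    exact this.symm
  obtain ⟨u, v, huv⟩ := hcop
  refine Subgroup.mem_zpowers_iff.mpr ⟨u, ?_⟩
  have : b ^ (u * k + v * (p : ℤ)) = b := by rw [huv, zpow_one]
  rw [← hk, ← zpow_mul, mul_comm k u]
  rw [zpow_add, zpow_mul' b v, zpow_natCast, hb, one_zpow, mul_one] at this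
  exact this


/-- **S1 frob_noncyclic**: a non-cyclic elementary abelian TI self-normalising subgroup is the whole group. -/
theorem frob_noncyclic {X : Type*} [Group X] [Finite X] (p : ℕ) [Fact p.Prime] (E : Subgroup X)
    (hexp : ∀ a ∈ E, a ^ p = 1) (hcomm : ∀ a ∈ E, ∀ b ∈ E, a * b = b * a)
    (hTI : ∀ x : X, x ∉ E → ∀ a ∈ E, x * a * x⁻¹ ∈ E → a = 1)
    (a b : X) (ha : a ∈ E) (hb : b ∈ E) (ha1 : a ≠ 1) (hab : b ∉ Subgroup.zpowers a) : E = ⊤ := by
  classical
  have hp : p.Prime := Fact.out
  -- `E` is a `p`-group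
  have hEp : IsPGroup p E := by
    intro x
    refine ⟨1, ?_⟩
    rw [pow_one]
    exact Subtype.ext (by simpa using hexp x x.2)
  -- `E` is self-normalising
  have hNE : normalizer (E : Set X) ≤ E := by
    intro x hx
    by_contra hxE
    exact ha1 (hTI x hxE a ha ((mem_normalizer_iff.mp hx a).mp ha))
  -- the index of `E` is prime to `p`
  obtain ⟨k, hk⟩ := IsPGroup.iff_card.mp hEp
  have hmod := Sylow.card_quotient_normalizer_modEq_card_quotient (G := X) (H := E) hk
  have h1 : Nat.card (↥(normalizer (E : Set X)) ⧸ comap (normalizer (E : Set X)).subtype E) = 1 := by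
    have htop : comap (normalizer (E : Set X)).subtype E = ⊤ := by
      ext x
      simp only [mem_comap, mem_top, iff_true]
      exact hNE x.2
    rw [htop]
    exact Subgroup.index_top
  have hidx : ¬ p ∣ E.index := by
    intro hdvd
    rw [h1] at hmod
    have h0 : Nat.card (X ⧸ E) ≡ 0 [MOD p] := (Nat.modEq_zero_iff_dvd).mpr hdvd
    have h10 : 1 ≡ 0 [MOD p] := hmod.trans h0
    have : p ∣ 1 := (Nat.modEq_zero_iff_dvd).mp h10
    exact hp.one_lt.ne' (Nat.dvd_one.mp this)
  -- `E` as a Sylow subgroup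
  set P : Sylow p X := hEp.toSylow hidx with hPdef
  have hPE : (P : Subgroup X) = E := rfl
  have hPN : normalizer ((P : Subgroup X) : Set X) ≤ centralizer ((P : Subgroup X) : Set X) := by
    rw [hPE]
    intro x hx
    rw [mem_centralizer_iff]
    intro y hy
    exact hcomm y hy x (hNE hx)
  have hcompl := MonoidHom.ker_transferSylow_isComplement' P hPN
  set N : Subgroup X := (MonoidHom.transferSylow P hPN).ker with hNdef
  rw [hPE] at hcompl
  have hNnormal : N.Normal := by rw [hNdef]; infer_instance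
  have hdisj : Disjoint N E := hcompl.disjoint
  -- centralizers of non-identity elements of `E` in `N` are trivial
  have hcent : ∀ c ∈ E, c ≠ 1 → N ⊓ centralizer {c} = ⊥ := by
    intro c hc hc1
    rw [eq_bot_iff]
    intro y hy
    obtain ⟨hyN, hyc⟩ := Subgroup.mem_inf.mp hy
    rw [Subgroup.mem_bot]
    have hyE : y ∈ E := by
      by_contra hyE
      apply hc1
      apply hTI y hyE c hc
      have : c * y = y * c := by
        rw [mem_centralizer_iff] at hyc
        exact hyc c rfl
      rw [← this, mul_inv_cancel_right]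
      exact hc
    exact Subgroup.disjoint_def.mp hdisj hyN hyE
  -- coprime generation
  have : IsMulCommutative E := ⟨⟨fun x y => Subtype.ext (hcomm x x.2 y y.2)⟩⟩
  have hcardN : Nat.card N = E.index := hcompl.index_eq_card.symm
  have hpN : ¬ p ∣ Nat.card N := by rw [hcardN]; exact hidx
  have hcop : (Nat.card E).Coprime (Nat.card N) := by
    rw [hk]
    exact Nat.Coprime.pow_left k ((Nat.Prime.coprime_iff_not_dvd hp).mpr hpN)
  have hEN : E ≤ normalizer (N : Set X) := by
    rw [normalizer_eq_top]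
    exact le_top
  have hgen := Cfsg.Agent.Lib.Helper17.le_iSup_centralizer_pair E N hEN hcop p hpN a b ha hb
    (by rw [hexp a ha]; exact one_mem _) (by rw [hexp b hb]; exact one_mem _)
  have hb1 : b ≠ 1 := fun h => hab (h ▸ one_mem _)
  have hNbot : N = ⊥ := by
    rw [eq_bot_iff]
    refine hgen.trans (sup_le (iSup_le fun j => ?_) ?_)
    · rw [hcent (a * b ^ j) (E.mul_mem ha (E.pow_mem hb j))]
      intro h
      apply hab
      apply mem_zpowers_of_mem_zpowers hp (hexp b hb) ha1
      have : a = (b ^ j)⁻¹ := eq_inv_of_mul_eq_one_left h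
      rw [this]
      exact Subgroup.inv_mem _ (Subgroup.pow_mem _ (Subgroup.mem_zpowers b) j)
    · rw [hcent b hb hb1]
  have hsup := hcompl.sup_eq_top
  rw [hNbot, bot_sup_eq] at hsup
  exact hsup

end Cfsg.Agent.Lib.Helper9.SL6SLeaf
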