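import Mathlib
import Cfsg.Agent.Lib.Helper27.SOTLADefs
import Cfsg.Agent.Lib.Helper1.SOTLATools
import Cfsg.Agent.Lib.Helper18.SOTLAA2
import Cfsg.Agent.Lib.Helper4.SOTLAA5

/-!
S5709 (LA'-4) algebra (section 7 of notes/S5681_LA_plan.md), part a: hyperbolic pair `z, z'` with anisotropic
`W = ⟨z, z'⟩^⊥`, the wedge `x ∧ y = x y^♭ - y x^♭`, the Eichler (Siegel) elements
`E u : x ↦ x + f(x,u) z - f(x,z) u - (f(u,u)/2) f(x,z) z` (`u ⊥ z`), their group law and `E u = r_u r_{u - (f(u,u)/2) z}`.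
-/

set_option autoImplicit false
set_option linter.unusedSectionVars false
set_option linter.unusedVariables false
set_option linter.unusedSimpArgs false

namespace Cfsg.Agent.Lib.Helper9.OTAlg
open Matrix
open Cfsg.Agent.Lib.Helper2.SOT Cfsg.Agent.Lib.Helper27.SOTLA Cfsg.Agent.Lib.Helper1.SOTLALeaf

variable {F : Type*} [Field F] {b : ℕ} {G : Matrix (Fin b) (Fin b) F}

/-- the wedge `x ∧ y = x y^♭ - y x^♭` (a skew-adjoint map) -/
def wdg (G : Matrix (Fin b) (Fin b) F) (x y : Fin b → F) : Matrix (Fin b) (Fin b) F :=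
  rk1 G x y - rk1 G y x

lemma wdg_mulVec (x y w : Fin b → F) : wdg G x y *ᵥ w = fB G w y • x - fB G w x • y := by
  unfold wdg
  rw [Matrix.sub_mulVec, rk1_mulVec, rk1_mulVec]

lemma wdg_neg_right (x y : Fin b → F) : wdg G x (-y) = -wdg G x y := by
  unfold wdg
  rw [rk1_neg_right, rk1_neg_left]; abel

lemma wdg_smul_right (c : F) (x y : Fin b → F) : wdg G x (c • y) = c • wdg G x y := by
  unfold wdg
  rw [rk1_smul_right, rk1_smul_left, smul_sub]

lemma wdg_add_right (x y y' : Fin b → F) : wdg G x (y + y') = wdg G x y + wdg G x y' := by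
  unfold wdg
  rw [rk1_add_right, rk1_add_left]; abel

lemma wdg_sub_right (x y y' : Fin b → F) : wdg G x (y - y') = wdg G x y - wdg G x y' := by
  rw [sub_eq_add_neg y y', wdg_add_right, wdg_neg_right, ← sub_eq_add_neg]

/-- the Eichler element -/
def eich (G : Matrix (Fin b) (Fin b) F) (z u : Fin b → F) : Matrix (Fin b) (Fin b) F :=
  1 + wdg G z u - (fB G u u / 2) • rk1 G z z

lemma eich_mulVec (z u x : Fin b → F) :
    eich G z u *ᵥ x = x + fB G x u • z - fB G x z • u - (fB G u u / 2 * fB G x z) • z := by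
  unfold eich
  rw [Matrix.sub_mulVec, Matrix.add_mulVec, Matrix.one_mulVec, wdg_mulVec, Matrix.smul_mulVec,
    rk1_mulVec, smul_smul]
  abel

lemma eich_zero (z : Fin b → F) : eich G z 0 = 1 := by
  apply mat_ext_mulVec
  intro x
  rw [eich_mulVec, Matrix.one_mulVec, fB_zero_right, fB_zero_left]
  simp

lemma eich_sub_neg (z u : Fin b → F) : eich G z u - eich G z (-u) = (2 : F) • wdg G z u := by
  unfold eich
  rw [wdg_neg_right, fB_neg_left, fB_neg_right, neg_neg, two_smul]
  abel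

/-- the group law -/
lemma eich_add (hG : Gᵀ = G) (h2 : (2 : F) ≠ 0) {z u u' : Fin b → F} (hzz : fB G z z = 0)
    (hu : fB G u z = 0) (hu' : fB G u' z = 0) : eich G z (u + u') = eich G z u * eich G z u' := by
  have hzu : fB G z u = 0 := by rw [fB_comm G hG]; exact hu
  have hzu' : fB G z u' = 0 := by rw [fB_comm G hG]; exact hu'
  have hsym : fB G u' u = fB G u u' := fB_comm G hG u' u
  apply mat_ext_mulVec
  intro x
  have hq : fB G (u + u') (u + u') / 2 = fB G u u / 2 + fB G u u' + fB G u' u' / 2 := by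
    rw [Cfsg.Agent.Lib.Helper4.SOTLALeaf.Q_add hG]
    field_simp
  rw [← Matrix.mulVec_mulVec, eich_mulVec z u, eich_mulVec z u', eich_mulVec z (u + u'), hq]
  simp only [fB_add_left, fB_add_right, fB_sub_left, fB_sub_right, fB_smul_left, fB_smul_right, hzz,
    hu, hu', hzu, hzu', hsym, mul_zero, add_zero, sub_zero]
  module

/-- `E u = r_u r_{u - (f(u,u)/2) z}` -/
lemma eich_eq_refl (hG : Gᵀ = G) (h2 : (2 : F) ≠ 0) {z u : Fin b → F} (hzz : fB G z z = 0)
    (hu : fB G u z = 0) (hμ : fB G u u ≠ 0) :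
    eich G z u = refl G u * refl G (u - (fB G u u / 2) • z) ∧
      fB G (u - (fB G u u / 2) • z) (u - (fB G u u / 2) • z) = fB G u u := by
  have hzu : fB G z u = 0 := by rw [fB_comm G hG]; exact hu
  have hd' : fB G (u - (fB G u u / 2) • z) (u - (fB G u u / 2) • z) = fB G u u := by
    simp only [fB_sub_left, fB_sub_right, fB_smul_left, fB_smul_right, hzz, hu, hzu, mul_zero,
      sub_zero]
  refine ⟨?_, hd'⟩
  obtain ⟨m, hm⟩ : ∃ m : F, m = fB G u u / 2 := ⟨_, rfl⟩
  have hμm : fB G u u = 2 * m := by rw [hm]; field_simp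
  have hm0 : m ≠ 0 := by
    intro h0
    rw [h0, mul_zero] at hμm
    exact hμ hμm
  rw [← hm] at hd' ⊢
  apply mat_ext_mulVec
  intro x
  rw [← Matrix.mulVec_mulVec, eich_mulVec, refl_mulVec' (u - m • z) x, refl_mulVec' u, hd', ← hm]
  simp only [fB_sub_left, fB_sub_right, fB_smul_left, fB_smul_right, hzz, hu, hzu, mul_zero, sub_zero]
  rw [hμm]
  obtain ⟨c, hc⟩ : ∃ c : F, c = fB G x u / m := ⟨_, rfl⟩
  have e4 : fB G x u = c * m := by rw [hc]; field_simp
  rw [e4]
  have e1 : 2 * (c * m - m * fB G x z) / (2 * m) = c - fB G x z := by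
    field_simp
  rw [e1]
  have e2 : 2 * (c * m - (c - fB G x z) * (2 * m)) / (2 * m) = 2 * fB G x z - c := by
    field_simp
    ring
  rw [e2]
  module

end Cfsg.Agent.Lib.Helper9.OTAlg
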