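import Mathlib

/-!
S5709 (LA'-4) algebra, part b: a generic fixed-point lemma.  An additive group `Wt` (a subspace of an `F`-vector
space, `F` a finite field) acting on a nonzero subspace `T` of matrices through conjugation by `g u`
(`g (u + u') = g u * g u'`) fixes a nonzero element of `T` (a `p`-group acting on a set of cardinality divisible
by `p` with one fixed point has another one).
-/

set_option autoImplicit false
set_option linter.unusedSectionVars false
set_option linter.unusedVariables false

namespace Cfsg.Agent.Lib.Helper9.OTAlg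
open Matrix

variable {F : Type*} [Field F] [Fintype F]

theorem exists_fixed_of_unipotent {n : Type*} [Fintype n] [DecidableEq n] {V : Type*} [AddCommGroup V]
    [Module F V] (Wt : Submodule F V) (g : V → Matrix n n F) (hg0 : g 0 = 1)
    (hgadd : ∀ u ∈ Wt, ∀ u' ∈ Wt, g (u + u') = g u * g u')
    (T : Submodule F (Matrix n n F)) (hT : T ≠ ⊥)
    (hst : ∀ u ∈ Wt, ∀ τ ∈ T, g u * τ * g (-u) ∈ T) :
    ∃ τ ∈ T, τ ≠ 0 ∧ ∀ u ∈ Wt, g u * τ * g (-u) = τ := by
  classical
  obtain ⟨p, hchar⟩ := CharP.exists F
  have : CharP F p := hchar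
  have hpF : Fact p.Prime := ⟨CharP.char_is_prime F p⟩
  let act : MulAction (Multiplicative Wt) T :=
    { smul := fun x τ => ⟨g ((Multiplicative.toAdd x : Wt) : V) * (τ : Matrix n n F) *
        g (-((Multiplicative.toAdd x : Wt) : V)), hst _ (Multiplicative.toAdd x).2 _ τ.2⟩
      one_smul := by
        intro τ
        apply Subtype.ext
        show g ((Multiplicative.toAdd (1 : Multiplicative Wt) : Wt) : V) * (τ : Matrix n n F) *
          g (-((Multiplicative.toAdd (1 : Multiplicative Wt) : Wt) : V)) = τ
        rw [toAdd_one, Submodule.coe_zero, neg_zero, hg0, one_mul, mul_one]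
      mul_smul := by
        intro x y τ
        apply Subtype.ext
        show g ((Multiplicative.toAdd (x * y) : Wt) : V) * (τ : Matrix n n F) *
          g (-((Multiplicative.toAdd (x * y) : Wt) : V)) =
          g ((Multiplicative.toAdd x : Wt) : V) * (g ((Multiplicative.toAdd y : Wt) : V) *
            (τ : Matrix n n F) * g (-((Multiplicative.toAdd y : Wt) : V))) *
            g (-((Multiplicative.toAdd x : Wt) : V))
        rw [toAdd_mul, Submodule.coe_add, neg_add_rev,
          hgadd _ (Multiplicative.toAdd x).2 _ (Multiplicative.toAdd y).2,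
          hgadd _ (Wt.neg_mem (Multiplicative.toAdd y).2) _ (Wt.neg_mem (Multiplicative.toAdd x).2)]
        simp only [Matrix.mul_assoc] }
  have hsmul : ∀ (x : Multiplicative Wt) (τ : T), ((x • τ : T) : Matrix n n F) =
      g ((Multiplicative.toAdd x : Wt) : V) * (τ : Matrix n n F) *
        g (-((Multiplicative.toAdd x : Wt) : V)) := fun _ _ => rfl
  have hP : IsPGroup p (Multiplicative Wt) := by
    intro x
    refine ⟨1, ?_⟩
    rw [pow_one]
    apply Multiplicative.toAdd.injective
    rw [toAdd_pow, toAdd_one, ← Nat.cast_smul_eq_nsmul F, CharP.cast_eq_zero, zero_smul]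
  obtain ⟨τ0, hτ0, hτ0ne⟩ := Submodule.exists_mem_ne_zero_of_ne_bot hT
  have hdvd : p ∣ Nat.card T := by
    have h1 : addOrderOf (⟨τ0, hτ0⟩ : T) ∣ Nat.card T := addOrderOf_dvd_natCard _
    have h2 : addOrderOf (⟨τ0, hτ0⟩ : T) ∣ p := by
      apply addOrderOf_dvd_of_nsmul_eq_zero
      rw [← Nat.cast_smul_eq_nsmul F, CharP.cast_eq_zero, zero_smul]
    rcases (Nat.dvd_prime hpF.out).mp h2 with h3 | h3
    · exfalso
      rw [AddMonoid.addOrderOf_eq_one_iff] at h3
      exact hτ0ne (congrArg Subtype.val h3)
    · rw [← h3]; exact h1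
  have h0 : (0 : T) ∈ MulAction.fixedPoints (Multiplicative Wt) T := by
    intro x
    apply Subtype.ext
    rw [hsmul, Submodule.coe_zero, mul_zero, zero_mul]
  obtain ⟨bb, hb, hne⟩ := hP.exists_fixed_point_of_prime_dvd_card_of_fixed_point T hdvd h0
  refine ⟨bb.1, bb.2, ?_, ?_⟩
  · intro h
    apply hne
    apply Subtype.ext
    rw [h]; rfl
  · intro u hu
    have := hb (Multiplicative.ofAdd (⟨u, hu⟩ : Wt))
    have h2 := congrArg Subtype.val this
    rw [hsmul] at h2
    exact h2

end Cfsg.Agent.Lib.Helper9.OTAlg
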