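import Mathlib
import Cfsg.Agent.Lib.Helper9.OTAlg4a
import Cfsg.Agent.Lib.Helper9.OTAlg4b

/-!
S5709 (LA'-4) algebra, part c: the hyperbolic-pair context `HP G z z'` on a 4-dimensional space of minus type
(`W = ⟨z,z'⟩^⊥` anisotropic), projection to `W`, and the two centraliser computations:
a self-adjoint `τ` commuting with all `z ∧ u` (`u ∈ W`) is `λ + α z z^♭`; a skew-adjoint one is `w ∧ z`, `w ∈ W`.
-/

set_option autoImplicit false
set_option linter.unusedSectionVars false
set_option linter.unusedVariables false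
set_option linter.unusedSimpArgs false

namespace Cfsg.Agent.Lib.Helper9.OTAlg
open Matrix
open Cfsg.Agent.Lib.Helper2.SOT Cfsg.Agent.Lib.Helper27.SOTLA Cfsg.Agent.Lib.Helper1.SOTLALeaf

variable {F : Type*} [Field F] [Fintype F] {G : Matrix (Fin 4) (Fin 4) F}

/-- hyperbolic pair `z, z'` with anisotropic orthogonal complement -/
structure HP (G : Matrix (Fin 4) (Fin 4) F) (z z' : Fin 4 → F) : Prop where
  symm : Gᵀ = G
  nd : G.det ≠ 0
  two : (2 : F) ≠ 0
  zz : fB G z z = 0
  z'z' : fB G z' z' = 0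
  zz' : fB G z z' = 1
  aniso : ∀ u : Fin 4 → F, fB G u z = 0 → fB G u z' = 0 → fB G u u = 0 → u = 0

/-- the minus-type hypothesis: no totally singular plane -/
def Minus4 (G : Matrix (Fin 4) (Fin 4) F) : Prop :=
  ∀ x y : Fin 4 → F, fB G x x = 0 → fB G y y = 0 → fB G x y = 0 → ¬ LinearIndependent F ![x, y]

theorem exists_HP (hG : Gᵀ = G) (hnd : G.det ≠ 0) (h2 : (2 : F) ≠ 0) (hW : Minus4 G) :
    ∃ z z' : Fin 4 → F, HP G z z' := by
  obtain ⟨z, hz, hzz⟩ := Cfsg.Agent.Lib.Helper4.SOTLALeaf.exists_singular_fB (G := G) (by norm_num)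
  obtain ⟨z', hz'z', hzz'⟩ := Cfsg.Agent.Lib.Helper4.SOTLALeaf.exists_hyp_partner_aux hG hnd h2 hz hzz
  refine ⟨z, z', hG, hnd, h2, hzz, hz'z', hzz', ?_⟩
  intro u huz huz' huu
  have hzu : fB G z u = 0 := by rw [fB_comm G hG]; exact huz
  have hli := hW z u hzz huu hzu
  rw [LinearIndependent.pair_iff] at hli
  push Not at hli
  obtain ⟨s, t, hst, hne⟩ := hli
  have h1 := congrArg (fun v => fB G v z') hst
  simp only [fB_add_left, fB_smul_left, hzz', huz', fB_zero_left, mul_one, mul_zero, add_zero] at h1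
  have ht : t ≠ 0 := hne h1
  rw [h1, zero_smul, zero_add] at hst
  exact (smul_eq_zero.mp hst).resolve_left ht

namespace HP

variable {z z' : Fin 4 → F}

lemma z'z (h : HP G z z') : fB G z' z = 1 := by rw [fB_comm G h.symm]; exact h.zz'

lemma swap (h : HP G z z') : HP G z' z :=
  ⟨h.symm, h.nd, h.two, h.z'z', h.zz, h.z'z, fun u h1 h2 h3 => h.aniso u h2 h1 h3⟩

lemma z_ne_zero (h : HP G z z') : z ≠ 0 := by
  intro h0
  have := h.zz'
  rw [h0, fB_zero_left] at this
  exact zero_ne_one this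

/-- the projection to `W = ⟨z, z'⟩^⊥` -/
def pr (G : Matrix (Fin 4) (Fin 4) F) (z z' x : Fin 4 → F) : Fin 4 → F :=
  x - fB G x z' • z - fB G x z • z'

lemma pr_z (h : HP G z z') (x : Fin 4 → F) : fB G (pr G z z' x) z = 0 := by
  unfold pr
  simp only [fB_sub_left, fB_smul_left, h.zz, h.z'z, mul_zero, mul_one, sub_zero, sub_self]

lemma pr_z' (h : HP G z z') (x : Fin 4 → F) : fB G (pr G z z' x) z' = 0 := by
  unfold pr
  simp only [fB_sub_left, fB_smul_left, h.zz', h.z'z', mul_zero, mul_one, sub_zero, sub_self]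

lemma fB_pr (h : HP G z z') (x : Fin 4 → F) {u : Fin 4 → F} (huz : fB G u z = 0)
    (huz' : fB G u z' = 0) : fB G (pr G z z' x) u = fB G x u := by
  unfold pr
  have h1 : fB G z u = 0 := by rw [fB_comm G h.symm]; exact huz
  have h2 : fB G z' u = 0 := by rw [fB_comm G h.symm]; exact huz'
  simp only [fB_sub_left, fB_smul_left, h1, h2, mul_zero, sub_zero]

lemma decomp (x : Fin 4 → F) : x = fB G x z' • z + fB G x z • z' + pr G z z' x := by
  unfold pr; abel

/-- a vector perpendicular to `z` and to `W` is a multiple of `z` -/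
lemma eq_smul_z (h : HP G z z') {y : Fin 4 → F} (hyz : fB G y z = 0)
    (hyW : ∀ u : Fin 4 → F, fB G u z = 0 → fB G u z' = 0 → fB G y u = 0) :
    y = fB G y z' • z := by
  have h1 : fB G (pr G z z' y) (pr G z z' y) = 0 := by
    rw [h.fB_pr y (h.pr_z y) (h.pr_z' y)]
    exact hyW _ (h.pr_z y) (h.pr_z' y)
  have h2 := h.aniso _ (h.pr_z y) (h.pr_z' y) h1
  have h3 := decomp (G := G) (z := z) (z' := z') y
  rw [h2, hyz, zero_smul, add_zero, add_zero] at h3
  exact h3

/-- a nonzero vector of `W` -/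
lemma exists_W (h : HP G z z') :
    ∃ u : Fin 4 → F, fB G u z = 0 ∧ fB G u z' = 0 ∧ u ≠ 0 := by
  classical
  have hx : ∃ x : Fin 4 → F, x ∉ Submodule.span F ({z, z'} : Set (Fin 4 → F)) := by
    by_contra hcon
    push Not at hcon
    have htop : Submodule.span F ({z, z'} : Set (Fin 4 → F)) = ⊤ := eq_top_iff.mpr fun x _ => hcon x
    have h1 := finrank_span_finset_le_card (R := F) ({z, z'} : Finset (Fin 4 → F))
    rw [Set.finrank, Finset.coe_insert, Finset.coe_singleton, htop, finrank_top, Module.finrank_fin_fun] at h1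
    have h2 : ({z, z'} : Finset (Fin 4 → F)).card ≤ 2 := Finset.card_le_two
    omega
  obtain ⟨x, hx⟩ := hx
  refine ⟨pr G z z' x, h.pr_z x, h.pr_z' x, ?_⟩
  intro h0
  apply hx
  have h3 := decomp (G := G) (z := z) (z' := z') x
  rw [h0, add_zero] at h3
  rw [h3]
  exact Submodule.add_mem _ (Submodule.smul_mem _ _ (Submodule.subset_span (by simp)))
    (Submodule.smul_mem _ _ (Submodule.subset_span (by simp)))

/-- a nonzero vector of `W` perpendicular to a given one -/
lemma exists_W_perp (h : HP G z z') {w : Fin 4 → F} (hwz : fB G w z = 0) (hwz' : fB G w z' = 0)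
    (hw : w ≠ 0) :
    ∃ u : Fin 4 → F, fB G u z = 0 ∧ fB G u z' = 0 ∧ u ≠ 0 ∧ fB G u w = 0 := by
  classical
  have hww : fB G w w ≠ 0 := fun h0 => hw (h.aniso w hwz hwz' h0)
  have hx : ∃ x : Fin 4 → F, x ∉ Submodule.span F ({z, z', w} : Set (Fin 4 → F)) := by
    by_contra hcon
    push Not at hcon
    have htop : Submodule.span F ({z, z', w} : Set (Fin 4 → F)) = ⊤ :=
      eq_top_iff.mpr fun x _ => hcon x
    have h1 := finrank_span_finset_le_card (R := F) ({z, z', w} : Finset (Fin 4 → F))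
    rw [Set.finrank, Finset.coe_insert, Finset.coe_insert, Finset.coe_singleton, htop, finrank_top,
      Module.finrank_fin_fun] at h1
    have h2 : ({z, z', w} : Finset (Fin 4 → F)).card ≤ 3 := Finset.card_le_three
    omega
  obtain ⟨x, hx⟩ := hx
  refine ⟨pr G z z' x - (fB G (pr G z z' x) w / fB G w w) • w, ?_, ?_, ?_, ?_⟩
  · rw [fB_sub_left, fB_smul_left, h.pr_z, hwz, mul_zero, sub_zero]
  · rw [fB_sub_left, fB_smul_left, h.pr_z', hwz', mul_zero, sub_zero]
  · intro h0
    apply hx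
    have h3 := decomp (G := G) (z := z) (z' := z') x
    have h4 : pr G z z' x = (fB G (pr G z z' x) w / fB G w w) • w := sub_eq_zero.mp h0
    rw [h4] at h3
    rw [h3]
    exact Submodule.add_mem _ (Submodule.add_mem _
      (Submodule.smul_mem _ _ (Submodule.subset_span (by simp)))
      (Submodule.smul_mem _ _ (Submodule.subset_span (by simp))))
      (Submodule.smul_mem _ _ (Submodule.subset_span (by simp)))
  · rw [fB_sub_left, fB_smul_left]
    field_simp
    ring

end HP

end Cfsg.Agent.Lib.Helper9.OTAlg
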