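import Mathlib
import Cfsg.Agent.Lib.Helper9.OTAlg4c

/-!
S5709 (LA'-4) algebra, part d: centralisers of the Eichler group `{E u : u ∈ W}` in the self-adjoint and in the
skew-adjoint maps.
-/

set_option autoImplicit false
set_option linter.unusedSectionVars false
set_option linter.unusedVariables false
set_option linter.unusedSimpArgs false

namespace Cfsg.Agent.Lib.Helper9.OTAlg
open Matrix
open Cfsg.Agent.Lib.Helper2.SOT Cfsg.Agent.Lib.Helper27.SOTLA Cfsg.Agent.Lib.Helper1.SOTLALeaf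

variable {F : Type*} [Field F] [Fintype F] {G : Matrix (Fin 4) (Fin 4) F}

/-- `E (-u) = r_{u - (f(u,u)/2) z} r_u` -/
lemma eich_neg_eq {b : ℕ} {G : Matrix (Fin b) (Fin b) F} (hG : Gᵀ = G) (h2 : (2 : F) ≠ 0)
    {z u : Fin b → F} (hzz : fB G z z = 0)
    (hu : fB G u z = 0) (hμ : fB G u u ≠ 0) :
    eich G z (-u) = refl G (u - (fB G u u / 2) • z) * refl G u := by
  obtain ⟨he, hd'⟩ := eich_eq_refl hG h2 hzz hu hμ
  have hnu : fB G (-u) z = 0 := by rw [fB_neg_left, hu, neg_zero]
  have h1 : eich G z u * eich G z (-u) = 1 := by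
    rw [← eich_add hG h2 hzz hu hnu, add_neg_cancel, eich_zero]
  have hr1 := Cfsg.Agent.Lib.Helper18.SOTLALeaf.refl_mul_self hG hμ
  have hr2 := Cfsg.Agent.Lib.Helper18.SOTLALeaf.refl_mul_self hG (hd'.symm ▸ hμ)
  have h3 : (refl G (u - (fB G u u / 2) • z) * refl G u) * eich G z u = 1 := by
    rw [he, Matrix.mul_assoc, ← Matrix.mul_assoc (refl G u), hr1, Matrix.one_mul, hr2]
  calc eich G z (-u) = ((refl G (u - (fB G u u / 2) • z) * refl G u) * eich G z u) * eich G z (-u) := by
        rw [h3, Matrix.one_mul]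
    _ = (refl G (u - (fB G u u / 2) • z) * refl G u) * (eich G z u * eich G z (-u)) := by
        rw [Matrix.mul_assoc]
    _ = _ := by rw [h1, Matrix.mul_one]

/-- conjugation of `x y^♭` by a product of two reflections -/
lemma conj_rr_rk1 {b : ℕ} {G : Matrix (Fin b) (Fin b) F} (hG : Gᵀ = G) {d d' : Fin b → F}
    (hd : fB G d d ≠ 0) (hd' : fB G d' d' ≠ 0) (x y : Fin b → F) :
    (refl G d * refl G d') * rk1 G x y * (refl G d' * refl G d) =
      rk1 G ((refl G d * refl G d') *ᵥ x) ((refl G d * refl G d') *ᵥ y) := by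
  have e1 : (refl G d * refl G d') * rk1 G x y * (refl G d' * refl G d) =
      refl G d * (refl G d' * rk1 G x y * refl G d') * refl G d := by
    simp only [Matrix.mul_assoc]
  rw [e1, Cfsg.Agent.Lib.Helper18.SOTLALeaf.refl_conj_rk1 hG hd',
    Cfsg.Agent.Lib.Helper18.SOTLALeaf.refl_conj_rk1 hG hd, Matrix.mulVec_mulVec, Matrix.mulVec_mulVec]

namespace HP

variable {z z' : Fin 4 → F}

/-- a rotation-stable subspace is stable under the Eichler group -/
lemma stab_eich (h : HP G z z') (S : Submodule F (Matrix (Fin 4) (Fin 4) F))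
    (hrot : ∀ d d' : Fin 4 → F, fB G d d ≠ 0 → fB G d' d' ≠ 0 → ∀ κ ∈ S,
      (refl G d * refl G d') * κ * (refl G d' * refl G d) ∈ S)
    {u : Fin 4 → F} (huz : fB G u z = 0) (huz' : fB G u z' = 0) {κ : Matrix (Fin 4) (Fin 4) F}
    (hκ : κ ∈ S) : eich G z u * κ * eich G z (-u) ∈ S := by
  by_cases hu0 : u = 0
  · rw [hu0, neg_zero, eich_zero, Matrix.one_mul, Matrix.mul_one]; exact hκ
  · have hμ : fB G u u ≠ 0 := fun h0 => hu0 (h.aniso u huz huz' h0)
    obtain ⟨he, hd'⟩ := eich_eq_refl h.symm h.two h.zz huz hμ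
    rw [eich_neg_eq h.symm h.two h.zz huz hμ, he]
    exact hrot u _ hμ (hd'.symm ▸ hμ) κ hκ

/-- fixedness under the Eichler group gives commutation with `z ∧ u` -/
lemma comm_of_fixed (h : HP G z z') {τ : Matrix (Fin 4) (Fin 4) F}
    (hfix : ∀ u : Fin 4 → F, fB G u z = 0 → fB G u z' = 0 → eich G z u * τ * eich G z (-u) = τ)
    {u : Fin 4 → F} (huz : fB G u z = 0) (huz' : fB G u z' = 0) (x : Fin 4 → F) :
    fB G (τ *ᵥ x) u • z - fB G (τ *ᵥ x) z • u = fB G x u • (τ *ᵥ z) - fB G x z • (τ *ᵥ u) := by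
  have hnuz : fB G (-u) z = 0 := by rw [fB_neg_left, huz, neg_zero]
  have hnuz' : fB G (-u) z' = 0 := by rw [fB_neg_left, huz', neg_zero]
  have hinv : eich G z (-u) * eich G z u = 1 := by
    rw [← eich_add h.symm h.two h.zz hnuz huz, neg_add_cancel, eich_zero]
  have hinv' : eich G z u * eich G z (-u) = 1 := by
    rw [← eich_add h.symm h.two h.zz huz hnuz, add_neg_cancel, eich_zero]
  have h1 : eich G z u * τ = τ * eich G z u := by
    calc eich G z u * τ = eich G z u * τ * (eich G z (-u) * eich G z u) := by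
          rw [hinv, Matrix.mul_one]
      _ = (eich G z u * τ * eich G z (-u)) * eich G z u := by simp only [Matrix.mul_assoc]
      _ = τ * eich G z u := by rw [hfix u huz huz']
  have h2 : eich G z (-u) * τ = τ * eich G z (-u) := by
    have hf := hfix (-u) hnuz hnuz'
    rw [neg_neg] at hf
    calc eich G z (-u) * τ = eich G z (-u) * τ * (eich G z u * eich G z (-u)) := by
          rw [hinv', Matrix.mul_one]
      _ = (eich G z (-u) * τ * eich G z u) * eich G z (-u) := by simp only [Matrix.mul_assoc]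
      _ = τ * eich G z (-u) := by rw [hf]
  have h3 : ((2 : F) • wdg G z u) * τ = τ * ((2 : F) • wdg G z u) := by
    rw [← eich_sub_neg, Matrix.sub_mul, Matrix.mul_sub, h1, h2]
  have h4 : wdg G z u * τ = τ * wdg G z u := by
    rw [Matrix.smul_mul, Matrix.mul_smul] at h3
    exact smul_right_injective _ h.two h3
  have h5 := congrArg (fun X => X *ᵥ x) h4
  simp only [← Matrix.mulVec_mulVec, wdg_mulVec, Matrix.mulVec_sub, Matrix.mulVec_smul] at h5
  exact h5

end HP

end Cfsg.Agent.Lib.Helper9.OTAlg
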