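import Mathlib
import Cfsg.Agent.Lib.Helper9.OTAlg4d

/-!
S5709 (LA'-4) algebra, part e: the centraliser of `{z ∧ u : u ∈ W}` in the self-adjoint maps is `⟨1, z z^♭⟩`,
in the skew-adjoint maps it is `{w ∧ z : w ∈ W}`.
-/

set_option autoImplicit false
set_option linter.unusedSectionVars false
set_option linter.unusedVariables false
set_option linter.unusedSimpArgs false

namespace Cfsg.Agent.Lib.Helper9.OTAlg
open Matrix
open Cfsg.Agent.Lib.Helper2.SOT Cfsg.Agent.Lib.Helper27.SOTLA Cfsg.Agent.Lib.Helper1.SOTLALeaf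

variable {F : Type*} [Field F] [Fintype F] {G : Matrix (Fin 4) (Fin 4) F}

namespace HP

variable {z z' : Fin 4 → F}

/-- the self-adjoint case -/
theorem selfadj_of_comm (h : HP G z z') {τ : Matrix (Fin 4) (Fin 4) F} (hτ : IsSelfAdj G τ)
    (hc : ∀ u : Fin 4 → F, fB G u z = 0 → fB G u z' = 0 → ∀ x : Fin 4 → F,
      fB G (τ *ᵥ x) u • z - fB G (τ *ᵥ x) z • u = fB G x u • (τ *ᵥ z) - fB G x z • (τ *ᵥ u)) :
    ∃ lam al : F, τ = lam • (1 : Matrix (Fin 4) (Fin 4) F) + al • rk1 G z z := by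
  have hG := h.symm
  obtain ⟨u0, hu0z, hu0z', hu0⟩ := h.exists_W
  have hμ0 : fB G u0 u0 ≠ 0 := fun h0 => hu0 (h.aniso u0 hu0z hu0z' h0)
  have hzW : ∀ u : Fin 4 → F, fB G u z = 0 → fB G z u = 0 := fun u hu => by
    rw [fB_comm G hG]; exact hu
  have hz'W : ∀ u : Fin 4 → F, fB G u z' = 0 → fB G z' u = 0 := fun u hu => by
    rw [fB_comm G hG]; exact hu
  -- Step 1: `τ z = λ z`
  have s1 : ∀ u : Fin 4 → F, fB G u z = 0 → fB G u z' = 0 → fB G (τ *ᵥ z) u = 0 := by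
    intro u huz huz'
    have e := congrArg (fun v => fB G v z') (hc u huz huz' z)
    simp only [fB_sub_left, fB_smul_left, h.zz', huz', hzW u huz, h.zz, zero_smul, sub_zero,
      fB_zero_left, mul_one, mul_zero] at e
    exact e
  have s1b : fB G (τ *ᵥ z) z = 0 := by
    have e := congrArg (fun v => fB G v u0) (hc u0 hu0z hu0z' z)
    simp only [fB_sub_left, fB_smul_left, hzW u0 hu0z, h.zz, zero_smul, sub_zero,
      fB_zero_left, mul_zero, zero_sub] at e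
    rcases mul_eq_zero.mp (neg_eq_zero.mp e) with h' | h'
    · exact h'
    · exact absurd h' hμ0
  obtain ⟨lam, hlam⟩ : ∃ lam : F, lam = fB G (τ *ᵥ z) z' := ⟨_, rfl⟩
  have hτz : τ *ᵥ z = lam • z := by
    rw [hlam]; exact h.eq_smul_z s1b s1
  -- Step 2
  have s2z : ∀ u' : Fin 4 → F, fB G u' z = 0 → fB G (τ *ᵥ u') z = 0 := by
    intro u' hu'z
    rw [selfAdj_fB hτ, hτz, fB_smul_right, hu'z, mul_zero]
  have s2 : ∀ u u' : Fin 4 → F, fB G u z = 0 → fB G u z' = 0 → fB G u' z = 0 → fB G u' z' = 0 →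
      fB G (τ *ᵥ u') u = lam * fB G u' u := by
    intro u u' huz huz' hu'z hu'z'
    have e := congrArg (fun v => fB G v z') (hc u huz huz' u')
    simp only [fB_sub_left, fB_smul_left, h.zz', huz', hτz, hu'z, s2z u' hu'z, zero_smul, sub_zero,
      fB_zero_left, mul_one, mul_zero, zero_mul] at e
    rw [e]; ring
  -- Step 3
  have s3z : fB G (τ *ᵥ z') z = lam := by
    rw [selfAdj_fB hτ, hτz, fB_smul_right, h.z'z, mul_one]
  have s3 : ∀ u : Fin 4 → F, fB G u z = 0 → fB G u z' = 0 → fB G (τ *ᵥ z') u = 0 := by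
    intro u huz huz'
    have e := congrArg (fun v => fB G v z') (hc u huz huz' z')
    simp only [fB_sub_left, fB_smul_left, h.zz', huz', hτz, s3z, hz'W u huz', h.z'z, zero_smul,
      sub_zero, fB_zero_left, mul_one, mul_zero, zero_mul, one_smul, zero_sub, fB_neg_left] at e
    -- e : fB (τ z') u = - fB (τ u) z'
    have e2 : fB G (τ *ᵥ u) z' = fB G (τ *ᵥ z') u := by
      rw [selfAdj_fB hτ, fB_comm G hG]
    rw [e2] at e
    have e3 : (2 : F) * fB G (τ *ᵥ z') u = 0 := by linear_combination e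
    rcases mul_eq_zero.mp e3 with h' | h'
    · exact absurd h' h.two
    · exact h'
  have hτW : ∀ u' : Fin 4 → F, fB G u' z = 0 → fB G u' z' = 0 → τ *ᵥ u' = lam • u' := by
    intro u' hu'z hu'z'
    have hy := h.eq_smul_z (y := τ *ᵥ u' - lam • u')
      (by rw [fB_sub_left, fB_smul_left, s2z u' hu'z, hu'z, mul_zero, sub_zero])
      (fun u huz huz' => by
        rw [fB_sub_left, fB_smul_left, s2 u u' huz huz' hu'z hu'z', sub_self])
    have h0 : fB G (τ *ᵥ u' - lam • u') z' = 0 := by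
      rw [fB_sub_left, fB_smul_left, hu'z', mul_zero, sub_zero, selfAdj_fB hτ, fB_comm G hG,
        s3 u' hu'z hu'z']
    rw [h0, zero_smul] at hy
    exact sub_eq_zero.mp hy
  obtain ⟨al, hal⟩ : ∃ al : F, al = fB G (τ *ᵥ z') z' := ⟨_, rfl⟩
  have hτz' : τ *ᵥ z' = lam • z' + al • z := by
    have hy := h.eq_smul_z (y := τ *ᵥ z' - lam • z')
      (by rw [fB_sub_left, fB_smul_left, s3z, h.z'z, mul_one, sub_self])
      (fun u huz huz' => by
        rw [fB_sub_left, fB_smul_left, s3 u huz huz', hz'W u huz', mul_zero, sub_zero])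
    have h0 : fB G (τ *ᵥ z' - lam • z') z' = al := by
      rw [fB_sub_left, fB_smul_left, h.z'z', mul_zero, sub_zero, hal]
    rw [h0] at hy
    rw [← hy]; abel
  refine ⟨lam, al, ?_⟩
  apply mat_ext_mulVec
  intro x
  rw [Matrix.add_mulVec, Matrix.smul_mulVec, Matrix.one_mulVec, Matrix.smul_mulVec, rk1_mulVec]
  have hx := decomp (G := G) (z := z) (z' := z') x
  obtain ⟨a, ha⟩ : ∃ a : F, a = fB G x z' := ⟨_, rfl⟩
  obtain ⟨c, hc'⟩ : ∃ c : F, c = fB G x z := ⟨_, rfl⟩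
  obtain ⟨w, hw⟩ : ∃ w : Fin 4 → F, w = pr G z z' x := ⟨_, rfl⟩
  have hwz : fB G w z = 0 := by rw [hw]; exact h.pr_z x
  have hwz' : fB G w z' = 0 := by rw [hw]; exact h.pr_z' x
  rw [← ha, ← hc', ← hw] at hx
  rw [← hc']
  rw [hx, Matrix.mulVec_add, Matrix.mulVec_add, Matrix.mulVec_smul, Matrix.mulVec_smul, hτz, hτz',
    hτW w hwz hwz']
  module

/-- the skew-adjoint case -/
theorem skew_of_comm (h : HP G z z') {κ : Matrix (Fin 4) (Fin 4) F} (hκ : IsSkewAdj G κ)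
    (hc : ∀ u : Fin 4 → F, fB G u z = 0 → fB G u z' = 0 → ∀ x : Fin 4 → F,
      fB G (κ *ᵥ x) u • z - fB G (κ *ᵥ x) z • u = fB G x u • (κ *ᵥ z) - fB G x z • (κ *ᵥ u)) :
    fB G (κ *ᵥ z') z = 0 ∧ fB G (κ *ᵥ z') z' = 0 ∧ κ = wdg G (κ *ᵥ z') z := by
  have hG := h.symm
  obtain ⟨u0, hu0z, hu0z', hu0⟩ := h.exists_W
  have hμ0 : fB G u0 u0 ≠ 0 := fun h0 => hu0 (h.aniso u0 hu0z hu0z' h0)
  have hzW : ∀ u : Fin 4 → F, fB G u z = 0 → fB G z u = 0 := fun u hu => by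
    rw [fB_comm G hG]; exact hu
  have hskew : ∀ x : Fin 4 → F, fB G (κ *ᵥ x) x = 0 := by
    intro x
    have e := skewAdj_fB hκ x x
    rw [fB_comm G hG x (κ *ᵥ x)] at e
    have e3 : (2 : F) * fB G (κ *ᵥ x) x = 0 := by linear_combination e
    rcases mul_eq_zero.mp e3 with h' | h'
    · exact absurd h' h.two
    · exact h'
  have s1 : ∀ u : Fin 4 → F, fB G u z = 0 → fB G u z' = 0 → fB G (κ *ᵥ z) u = 0 := by
    intro u huz huz'
    have e := congrArg (fun v => fB G v z') (hc u huz huz' z)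
    simp only [fB_sub_left, fB_smul_left, h.zz', huz', hzW u huz, h.zz, zero_smul, sub_zero,
      fB_zero_left, mul_one, mul_zero] at e
    exact e
  obtain ⟨lam, hlam⟩ : ∃ lam : F, lam = fB G (κ *ᵥ z) z' := ⟨_, rfl⟩
  have hκz : κ *ᵥ z = lam • z := by
    rw [hlam]; exact h.eq_smul_z (hskew z) s1
  have s2z : ∀ u' : Fin 4 → F, fB G u' z = 0 → fB G (κ *ᵥ u') z = 0 := by
    intro u' hu'z
    rw [skewAdj_fB hκ, hκz, fB_smul_right, hu'z, mul_zero, neg_zero]
  have s2 : ∀ u u' : Fin 4 → F, fB G u z = 0 → fB G u z' = 0 → fB G u' z = 0 → fB G u' z' = 0 →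
      fB G (κ *ᵥ u') u = lam * fB G u' u := by
    intro u u' huz huz' hu'z hu'z'
    have e := congrArg (fun v => fB G v z') (hc u huz huz' u')
    simp only [fB_sub_left, fB_smul_left, h.zz', huz', hκz, hu'z, s2z u' hu'z, zero_smul, sub_zero,
      fB_zero_left, mul_one, mul_zero, zero_mul] at e
    rw [e]; ring
  have hlam0 : lam = 0 := by
    have e := s2 u0 u0 hu0z hu0z' hu0z hu0z'
    rw [hskew u0] at e
    rcases mul_eq_zero.mp e.symm with h' | h'
    · exact h'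
    · exact absurd h' hμ0
  rw [hlam0, zero_smul] at hκz
  have hw1z : fB G (κ *ᵥ z') z = 0 := by
    rw [skewAdj_fB hκ, hκz, fB_zero_right, neg_zero]
  have hw1z' : fB G (κ *ᵥ z') z' = 0 := hskew z'
  have hκW : ∀ u' : Fin 4 → F, fB G u' z = 0 → fB G u' z' = 0 →
      κ *ᵥ u' = (-fB G u' (κ *ᵥ z')) • z := by
    intro u' hu'z hu'z'
    have hy := h.eq_smul_z (y := κ *ᵥ u') (s2z u' hu'z)
      (fun u huz huz' => by rw [s2 u u' huz huz' hu'z hu'z', hlam0, zero_mul])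
    rw [skewAdj_fB hκ] at hy
    exact hy
  refine ⟨hw1z, hw1z', ?_⟩
  apply mat_ext_mulVec
  intro x
  rw [wdg_mulVec]
  have hx := decomp (G := G) (z := z) (z' := z') x
  obtain ⟨a, ha⟩ : ∃ a : F, a = fB G x z' := ⟨_, rfl⟩
  obtain ⟨c, hc'⟩ : ∃ c : F, c = fB G x z := ⟨_, rfl⟩
  obtain ⟨w, hw⟩ : ∃ w : Fin 4 → F, w = pr G z z' x := ⟨_, rfl⟩
  have hwz : fB G w z = 0 := by rw [hw]; exact h.pr_z x
  have hwz' : fB G w z' = 0 := by rw [hw]; exact h.pr_z' x
  have hxw : fB G x (κ *ᵥ z') = fB G w (κ *ᵥ z') := by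
    rw [hw, h.fB_pr x hw1z hw1z']
  rw [← ha, ← hc', ← hw] at hx
  rw [← hc', hxw]
  rw [hx, Matrix.mulVec_add, Matrix.mulVec_add, Matrix.mulVec_smul, Matrix.mulVec_smul, hκz,
    hκW w hwz hwz']
  module

end HP

end Cfsg.Agent.Lib.Helper9.OTAlg
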