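import Mathlib
import Cfsg.Agent.Lib.Helper9.OTAlg4e

/-!
S5709 (LA'-4) algebra (section 7 of notes/S5681_LA_plan.md): the lemmas SK4 and SA4.
`A = F^4` with a symmetric nondegenerate form `fB G` of MINUS type (no totally singular plane), `q` odd (`q = 3` allowed).
A subspace of skew-adjoint (resp. self-adjoint) maps which is stable under conjugation by all products of two
reflections `r_d r_{d'}` and is nonzero (resp. contains `1` and a non-scalar) contains `x ∧ d` with `x ⊥ d` nonsingular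
(resp. `z z^♭`, `z ≠ 0` singular).
Proof: hyperbolic pair `z, z'`; the Eichler group `{E u : u ∈ W}`, `W = ⟨z,z'⟩^⊥` anisotropic, is a `p`-group of
rotations `r_u r_{u - (f(u,u)/2) z}`, so it fixes a nonzero element of the subspace; the fixed elements are `w ∧ z`
(resp. `λ + α z z^♭`); for SK4 one more conjugation by the opposite Eichler elements `E'(± w')` gives `w ∧ w'`.
-/

set_option autoImplicit false
set_option linter.unusedSectionVars false
set_option linter.unusedVariables false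
set_option linter.unusedSimpArgs false

namespace Cfsg.Agent.Lib.Helper9.OTAlg
open Matrix
open Cfsg.Agent.Lib.Helper2.SOT Cfsg.Agent.Lib.Helper27.SOTLA Cfsg.Agent.Lib.Helper1.SOTLALeaf

variable {F : Type*} [Field F] [Fintype F] {G : Matrix (Fin 4) (Fin 4) F}

/-- the subspace `W = ⟨z, z'⟩^⊥` -/
def Wsub (G : Matrix (Fin 4) (Fin 4) F) (z z' : Fin 4 → F) : Submodule F (Fin 4 → F) where
  carrier := {u | fB G u z = 0 ∧ fB G u z' = 0}
  add_mem' := by
    rintro u v ⟨hu1, hu2⟩ ⟨hv1, hv2⟩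
    exact ⟨by rw [fB_add_left, hu1, hv1, add_zero], by rw [fB_add_left, hu2, hv2, add_zero]⟩
  zero_mem' := ⟨fB_zero_left G z, fB_zero_left G z'⟩
  smul_mem' := by
    rintro c u ⟨hu1, hu2⟩
    exact ⟨by rw [fB_smul_left, hu1, mul_zero], by rw [fB_smul_left, hu2, mul_zero]⟩

lemma mem_Wsub {z z' u : Fin 4 → F} : u ∈ Wsub G z z' ↔ fB G u z = 0 ∧ fB G u z' = 0 := Iff.rfl

/-- a nonzero rotation-stable subspace contains a nonzero element fixed by the Eichler group -/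
theorem exists_eich_fixed {z z' : Fin 4 → F} (h : HP G z z')
    (T : Submodule F (Matrix (Fin 4) (Fin 4) F)) (hT : T ≠ ⊥)
    (hst : ∀ u : Fin 4 → F, fB G u z = 0 → fB G u z' = 0 → ∀ τ ∈ T,
      eich G z u * τ * eich G z (-u) ∈ T) :
    ∃ τ ∈ T, τ ≠ 0 ∧ ∀ u : Fin 4 → F, fB G u z = 0 → fB G u z' = 0 →
      eich G z u * τ * eich G z (-u) = τ := by
  obtain ⟨τ, hτ, hτ0, hfix⟩ := exists_fixed_of_unipotent (Wsub G z z') (fun u => eich G z u)
    (eich_zero z)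
    (fun u hu u' hu' => eich_add h.symm h.two h.zz hu.1 hu'.1) T hT
    (fun u hu τ hτ => hst u hu.1 hu.2 τ hτ)
  exact ⟨τ, hτ, hτ0, fun u h1 h2 => hfix u ⟨h1, h2⟩⟩

/-- SK4 -/
theorem lemmaSK4 (hG : Gᵀ = G) (hnd : G.det ≠ 0) (h2 : (2 : F) ≠ 0) (hW : Minus4 G)
    (S : Submodule F (Matrix (Fin 4) (Fin 4) F)) (hsk : ∀ κ ∈ S, IsSkewAdj G κ)
    (hrot : ∀ d d' : Fin 4 → F, fB G d d ≠ 0 → fB G d' d' ≠ 0 → ∀ κ ∈ S,
      (refl G d * refl G d') * κ * (refl G d' * refl G d) ∈ S)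
    {κ : Matrix (Fin 4) (Fin 4) F} (hκ : κ ∈ S) (hκ0 : κ ≠ 0) :
    ∃ x d : Fin 4 → F, fB G x x ≠ 0 ∧ fB G d d ≠ 0 ∧ fB G x d = 0 ∧ rk1 G x d - rk1 G d x ∈ S := by
  obtain ⟨z, z', h⟩ := exists_HP hG hnd h2 hW
  have hS : S ≠ ⊥ := fun hb => hκ0 (by rw [hb, Submodule.mem_bot] at hκ; exact hκ)
  obtain ⟨κ1, hκ1, hκ10, hfix⟩ := exists_eich_fixed h S hS
    (fun u huz huz' τ hτ => h.stab_eich S hrot huz huz' hτ)
  obtain ⟨hwz, hwz', hκ1eq⟩ := h.skew_of_comm (hsk κ1 hκ1)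
    (fun u huz huz' x => h.comm_of_fixed hfix huz huz' x)
  obtain ⟨w, hwdef⟩ : ∃ w : Fin 4 → F, w = κ1 *ᵥ z' := ⟨_, rfl⟩
  rw [← hwdef] at hwz hwz' hκ1eq
  have hw0 : w ≠ 0 := by
    intro h0
    apply hκ10
    rw [hκ1eq, h0]
    unfold wdg
    rw [rk1_zero_left, rk1_zero_right, sub_zero]
  have hww : fB G w w ≠ 0 := fun h0 => hw0 (h.aniso w hwz hwz' h0)
  obtain ⟨w', hw'z, hw'z', hw'0, hw'w⟩ := h.exists_W_perp hwz hwz' hw0
  have hw'w' : fB G w' w' ≠ 0 := fun h0 => hw'0 (h.aniso w' hw'z hw'z' h0)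
  have hww' : fB G w w' = 0 := by rw [fB_comm G hG]; exact hw'w
  -- the opposite Eichler elements
  have hs := h.swap
  obtain ⟨he, hd'⟩ := eich_eq_refl hG h2 hs.zz hw'z' hw'w'
  have hne := eich_neg_eq hG h2 hs.zz hw'z' hw'w'
  obtain ⟨d', hd'def⟩ : ∃ d' : Fin 4 → F, d' = w' - (fB G w' w' / 2) • z' := ⟨_, rfl⟩
  rw [← hd'def] at he hd' hne
  have hd'0 : fB G d' d' ≠ 0 := by rw [hd']; exact hw'w'
  have hwdg : wdg G w z ∈ S := by rw [← hκ1eq]; exact hκ1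
  -- conjugation by `E' w'`
  have c1 := hrot w' d' hw'w' hd'0 _ hwdg
  have c2 := hrot d' w' hd'0 hw'w' _ hwdg
  unfold wdg at c1 c2
  rw [Matrix.mul_sub, Matrix.sub_mul, conj_rr_rk1 hG hw'w' hd'0, conj_rr_rk1 hG hw'w' hd'0,
    ← he] at c1
  rw [Matrix.mul_sub, Matrix.sub_mul, conj_rr_rk1 hG hd'0 hw'w', conj_rr_rk1 hG hd'0 hw'w',
    ← hne] at c2
  have hzw' : fB G z w' = 0 := by rw [fB_comm G hG]; exact hw'z
  obtain ⟨m, hm⟩ : ∃ m : F, m = fB G w' w' / 2 := ⟨_, rfl⟩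
  have e1 : eich G z' w' *ᵥ w = w := by
    rw [eich_mulVec, hww', hwz']
    simp
  have e2 : eich G z' w' *ᵥ z = z - w' - m • z' := by
    rw [eich_mulVec, hzw', h.zz', ← hm]
    simp
  have e3 : eich G z' (-w') *ᵥ w = w := by
    rw [eich_mulVec, fB_neg_right, hww', hwz']
    simp
  have e4 : eich G z' (-w') *ᵥ z = z + w' - m • z' := by
    rw [eich_mulVec, fB_neg_right, hzw', h.zz', fB_neg_left, fB_neg_right, neg_neg, ← hm]
    simp
  rw [e1, e2] at c1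
  rw [e3, e4] at c2
  have hfin : rk1 G w w' - rk1 G w' w = (-(1 / 2) : F) •
      ((rk1 G w (z - w' - m • z') - rk1 G (z - w' - m • z') w) -
        (rk1 G w (z + w' - m • z') - rk1 G (z + w' - m • z') w)) := by
    have hz1 : z - w' - m • z' = (z - m • z') + (-w') := by abel
    have hz2 : z + w' - m • z' = (z - m • z') + w' := by abel
    rw [hz1, hz2, rk1_add_right, rk1_add_right, rk1_add_left, rk1_add_left, rk1_neg_right,
      rk1_neg_left]
    have : rk1 G w (z - m • z') + -rk1 G w w' - (rk1 G (z - m • z') w + -rk1 G w' w) -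
        (rk1 G w (z - m • z') + rk1 G w w' - (rk1 G (z - m • z') w + rk1 G w' w)) =
        (-2 : F) • (rk1 G w w' - rk1 G w' w) := by
      rw [neg_smul, two_smul]
      abel
    rw [this, smul_smul]
    have : (-(1 / 2) : F) * (-2) = 1 := by field_simp
    rw [this, one_smul]
  refine ⟨w, w', hww, hw'w', hww', ?_⟩
  rw [hfin]
  exact S.smul_mem _ (S.sub_mem c1 c2)

/-- SA4 -/
theorem lemmaSA4 (hG : Gᵀ = G) (hnd : G.det ≠ 0) (h2 : (2 : F) ≠ 0) (hW : Minus4 G)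
    (S : Submodule F (Matrix (Fin 4) (Fin 4) F)) (hsa : ∀ σ ∈ S, IsSelfAdj G σ)
    (hrot : ∀ d d' : Fin 4 → F, fB G d d ≠ 0 → fB G d' d' ≠ 0 → ∀ σ ∈ S,
      (refl G d * refl G d') * σ * (refl G d' * refl G d) ∈ S)
    (h1 : (1 : Matrix (Fin 4) (Fin 4) F) ∈ S)
    {σ : Matrix (Fin 4) (Fin 4) F} (hσ : σ ∈ S) (hns : ¬ IsScal σ) :
    ∃ z : Fin 4 → F, z ≠ 0 ∧ fB G z z = 0 ∧ rk1 G z z ∈ S := by
  obtain ⟨z, z', h⟩ := exists_HP hG hnd h2 hW
  have h4 : (4 : F) ≠ 0 := by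
    have : (4 : F) = 2 * 2 := by norm_num
    rw [this]
    exact mul_ne_zero h2 h2
  have htr1 : Matrix.trace (1 : Matrix (Fin 4) (Fin 4) F) = 4 := by
    rw [Matrix.trace_one, Fintype.card_fin]
    norm_num
  -- the traceless part
  obtain ⟨T, hTdef⟩ : ∃ T : Submodule F (Matrix (Fin 4) (Fin 4) F),
      T = S ⊓ LinearMap.ker (Matrix.traceLinearMap (Fin 4) F F) := ⟨_, rfl⟩
  have hTmem : ∀ τ, τ ∈ T ↔ τ ∈ S ∧ Matrix.trace τ = 0 := by
    intro τ
    rw [hTdef, Submodule.mem_inf, LinearMap.mem_ker, Matrix.traceLinearMap_apply]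
  have hT : T ≠ ⊥ := by
    intro hb
    have hmem : σ - (Matrix.trace σ / 4) • (1 : Matrix (Fin 4) (Fin 4) F) ∈ T := by
      rw [hTmem]
      refine ⟨S.sub_mem hσ (S.smul_mem _ h1), ?_⟩
      rw [Matrix.trace_sub, Matrix.trace_smul, htr1, smul_eq_mul]
      field_simp
      ring
    rw [hb, Submodule.mem_bot] at hmem
    exact hns ⟨Matrix.trace σ / 4, sub_eq_zero.mp hmem⟩
  have hstT : ∀ u : Fin 4 → F, fB G u z = 0 → fB G u z' = 0 → ∀ τ ∈ T,
      eich G z u * τ * eich G z (-u) ∈ T := by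
    intro u huz huz' τ hτ
    rw [hTmem] at hτ ⊢
    refine ⟨h.stab_eich S hrot huz huz' hτ.1, ?_⟩
    have hnuz : fB G (-u) z = 0 := by rw [fB_neg_left, huz, neg_zero]
    have hinv : eich G z (-u) * eich G z u = 1 := by
      rw [← eich_add h.symm h.two h.zz hnuz huz, neg_add_cancel, eich_zero]
    rw [Matrix.trace_mul_comm, ← Matrix.mul_assoc, hinv, Matrix.one_mul]
    exact hτ.2
  obtain ⟨τ, hτT, hτ0, hfix⟩ := exists_eich_fixed h T hT hstT
  obtain ⟨hτS, hτtr⟩ := (hTmem τ).mp hτT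
  obtain ⟨lam, al, hτeq⟩ := h.selfadj_of_comm (hsa τ hτS)
    (fun u huz huz' x => h.comm_of_fixed hfix huz huz' x)
  have hal : al ≠ 0 := by
    intro h0
    rw [h0, zero_smul, add_zero] at hτeq
    rw [hτeq, Matrix.trace_smul, htr1, smul_eq_mul] at hτtr
    have hlam : lam = 0 := by
      rcases mul_eq_zero.mp hτtr with h' | h'
      · exact h'
      · exact absurd h' h4
    rw [hlam, zero_smul] at hτeq
    exact hτ0 hτeq
  refine ⟨z, h.z_ne_zero, h.zz, ?_⟩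
  have : rk1 G z z = al⁻¹ • (τ - lam • (1 : Matrix (Fin 4) (Fin 4) F)) := by
    rw [hτeq, add_sub_cancel_left, smul_smul, inv_mul_cancel₀ hal, one_smul]
  rw [this]
  exact S.smul_mem _ (S.sub_mem hτS (S.smul_mem _ h1))

end Cfsg.Agent.Lib.Helper9.OTAlg
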