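import Mathlib
import Cfsg.Agent.Lib.Helper9.OTSK4

/-!
S5709 (LA'-4) algebra, REFINED forms (notes/S5709_LA4_plan.md): Gram-free versions of lead's SK4' and SA4'.
Context `h : HP G z z'` (hyperbolic pair `z, z'` of the 4-dimensional space, `W = ⟨z, z'⟩^⊥` anisotropic).
Stability is only required under the SIEGEL (Eichler) elements `eich G z u`, `u ∈ W`
(`= r_u r_{u - (f(u,u)/2) z}`, a product of two reflections of EQUAL norms; `= η_k` of the plan for `u = v_k`).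
* `HP.lemmaSK4'` : a nonzero Siegel-stable subspace of skew-adjoint maps contains `w ∧ z`, `w ∈ W ∖ 0`;
* `HP.lemmaSA4'` : a Siegel-stable subspace of self-adjoint maps containing `1` and a non-scalar contains `z z^♭`;
* `lemmaSK4_eq`, `lemmaSA4_eq` : the same for subspaces stable under all rotations `r_d r_{d'}` with EQUAL norms;
* owner helpers: `eich_isOrthB`, `eich_pow`, `eich_pow_char` (`eich G z u` is an isometry of order `p`).
-/

set_option autoImplicit false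
set_option linter.unusedSectionVars false
set_option linter.unusedVariables false
set_option linter.unusedSimpArgs false

namespace Cfsg.Agent.Lib.Helper9.OTAlg
open Matrix
open Cfsg.Agent.Lib.Helper2.SOT Cfsg.Agent.Lib.Helper27.SOTLA Cfsg.Agent.Lib.Helper1.SOTLALeaf

section general

variable {F : Type*} [Field F] {b : ℕ} {G : Matrix (Fin b) (Fin b) F}

/-- `E (n u) = (E u)^n` -/
lemma eich_pow (hG : Gᵀ = G) (h2 : (2 : F) ≠ 0) {z u : Fin b → F} (hzz : fB G z z = 0)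
    (hu : fB G u z = 0) (n : ℕ) : eich G z u ^ n = eich G z ((n : F) • u) := by
  induction n with
  | zero => rw [pow_zero, Nat.cast_zero, zero_smul, eich_zero]
  | succ n ih =>
    have hnu : fB G ((n : F) • u) z = 0 := by rw [fB_smul_left, hu, mul_zero]
    rw [pow_succ, ih, ← eich_add hG h2 hzz hnu hu, Nat.cast_succ, add_smul, one_smul]

/-- `E u` has order dividing the characteristic -/
lemma eich_pow_char (hG : Gᵀ = G) (h2 : (2 : F) ≠ 0) {z u : Fin b → F} (hzz : fB G z z = 0)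
    (hu : fB G u z = 0) (p : ℕ) [CharP F p] : eich G z u ^ p = 1 := by
  rw [eich_pow hG h2 hzz hu, CharP.cast_eq_zero, zero_smul, eich_zero]

/-- `E u` is an isometry -/
lemma eich_isOrthB (hG : Gᵀ = G) (h2 : (2 : F) ≠ 0) {z u : Fin b → F} (hzz : fB G z z = 0)
    (hu : fB G u z = 0) : IsOrthB G (eich G z u) := by
  have hzu : fB G z u = 0 := by rw [fB_comm G hG]; exact hu
  unfold IsOrthB
  apply Matrix.ext
  intro i j
  have key : ∀ x y : Fin b → F, fB G (eich G z u *ᵥ x) (eich G z u *ᵥ y) = fB G x y := by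
    intro x y
    rw [eich_mulVec, eich_mulVec]
    simp only [fB_add_left, fB_add_right, fB_sub_left, fB_sub_right, fB_smul_left, fB_smul_right,
      hzz, hu, hzu, mul_zero, add_zero, sub_zero, zero_add]
    simp only [fB_comm G hG z y, fB_comm G hG z x, fB_comm G hG u y, fB_comm G hG u x]
    field_simp
    ring
  have h1 := key (Pi.single i 1) (Pi.single j 1)
  unfold fB at h1
  rw [Matrix.mulVec_mulVec, Matrix.dotProduct_mulVec, Matrix.vecMul_mulVec] at h1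
  simpa [Matrix.mul_assoc] using h1

end general

variable {F : Type*} [Field F] [Fintype F] {G : Matrix (Fin 4) (Fin 4) F}

namespace HP

variable {z z' : Fin 4 → F}

/-- SK4' (Gram-free): a nonzero Siegel-stable subspace of skew-adjoint maps contains `w ∧ z` with `w ≠ 0` in
`W = ⟨z, z'⟩^⊥` (so `w` is nonsingular and `z` is singular, `w ⊥ z`). -/
theorem lemmaSK4' (h : HP G z z') (S : Submodule F (Matrix (Fin 4) (Fin 4) F))
    (hsk : ∀ κ ∈ S, IsSkewAdj G κ)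
    (hst : ∀ u : Fin 4 → F, fB G u z = 0 → fB G u z' = 0 → ∀ κ ∈ S,
      eich G z u * κ * eich G z (-u) ∈ S)
    (hS : S ≠ ⊥) :
    ∃ w : Fin 4 → F, w ≠ 0 ∧ fB G w w ≠ 0 ∧ fB G w z = 0 ∧ fB G w z' = 0 ∧ wdg G w z ∈ S := by
  obtain ⟨κ1, hκ1, hκ10, hfix⟩ := exists_eich_fixed h S hS hst
  obtain ⟨hwz, hwz', hκ1eq⟩ := h.skew_of_comm (hsk κ1 hκ1)
    (fun u huz huz' x => h.comm_of_fixed hfix huz huz' x)
  obtain ⟨w, hwdef⟩ : ∃ w : Fin 4 → F, w = κ1 *ᵥ z' := ⟨_, rfl⟩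
  rw [← hwdef] at hwz hwz' hκ1eq
  have hw0 : w ≠ 0 := by
    intro h0
    apply hκ10
    rw [hκ1eq, h0]
    unfold wdg
    rw [rk1_zero_left, rk1_zero_right, sub_zero]
  have hww : fB G w w ≠ 0 := fun h0 => hw0 (h.aniso w hwz hwz' h0)
  exact ⟨w, hw0, hww, hwz, hwz', by rw [← hκ1eq]; exact hκ1⟩

/-- SA4' (Gram-free): a Siegel-stable subspace of self-adjoint maps containing `1` and a non-scalar contains
`z z^♭`. -/
theorem lemmaSA4' (h : HP G z z') (S : Submodule F (Matrix (Fin 4) (Fin 4) F))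
    (hsa : ∀ σ ∈ S, IsSelfAdj G σ)
    (hst : ∀ u : Fin 4 → F, fB G u z = 0 → fB G u z' = 0 → ∀ σ ∈ S,
      eich G z u * σ * eich G z (-u) ∈ S)
    (h1 : (1 : Matrix (Fin 4) (Fin 4) F) ∈ S)
    {σ : Matrix (Fin 4) (Fin 4) F} (hσ : σ ∈ S) (hns : ¬ IsScal σ) :
    rk1 G z z ∈ S := by
  have h2 := h.two
  have h4 : (4 : F) ≠ 0 := by
    have : (4 : F) = 2 * 2 := by norm_num
    rw [this]
    exact mul_ne_zero h2 h2
  have htr1 : Matrix.trace (1 : Matrix (Fin 4) (Fin 4) F) = 4 := by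
    rw [Matrix.trace_one, Fintype.card_fin]
    norm_num
  -- the traceless part
  obtain ⟨T, hTdef⟩ : ∃ T : Submodule F (Matrix (Fin 4) (Fin 4) F),
      T = S ⊓ LinearMap.ker (Matrix.traceLinearMap (Fin 4) F F) := ⟨_, rfl⟩
  have hTmem : ∀ τ, τ ∈ T ↔ τ ∈ S ∧ Matrix.trace τ = 0 := by
    intro τ
    rw [hTdef, Submodule.mem_inf, LinearMap.mem_ker, Matrix.traceLinearMap_apply]
  have hT : T ≠ ⊥ := by
    intro hb
    have hmem : σ - (Matrix.trace σ / 4) • (1 : Matrix (Fin 4) (Fin 4) F) ∈ T := by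
      rw [hTmem]
      refine ⟨S.sub_mem hσ (S.smul_mem _ h1), ?_⟩
      rw [Matrix.trace_sub, Matrix.trace_smul, htr1, smul_eq_mul]
      field_simp
      ring
    rw [hb, Submodule.mem_bot] at hmem
    exact hns ⟨Matrix.trace σ / 4, sub_eq_zero.mp hmem⟩
  have hstT : ∀ u : Fin 4 → F, fB G u z = 0 → fB G u z' = 0 → ∀ τ ∈ T,
      eich G z u * τ * eich G z (-u) ∈ T := by
    intro u huz huz' τ hτ
    rw [hTmem] at hτ ⊢
    refine ⟨hst u huz huz' τ hτ.1, ?_⟩
    have hnuz : fB G (-u) z = 0 := by rw [fB_neg_left, huz, neg_zero]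
    have hinv : eich G z (-u) * eich G z u = 1 := by
      rw [← eich_add h.symm h.two h.zz hnuz huz, neg_add_cancel, eich_zero]
    rw [Matrix.trace_mul_comm, ← Matrix.mul_assoc, hinv, Matrix.one_mul]
    exact hτ.2
  obtain ⟨τ, hτT, hτ0, hfix⟩ := exists_eich_fixed h T hT hstT
  obtain ⟨hτS, hτtr⟩ := (hTmem τ).mp hτT
  obtain ⟨lam, al, hτeq⟩ := h.selfadj_of_comm (hsa τ hτS)
    (fun u huz huz' x => h.comm_of_fixed hfix huz huz' x)
  have hal : al ≠ 0 := by
    intro h0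
    rw [h0, zero_smul, add_zero] at hτeq
    rw [hτeq, Matrix.trace_smul, htr1, smul_eq_mul] at hτtr
    have hlam : lam = 0 := by
      rcases mul_eq_zero.mp hτtr with h' | h'
      · exact h'
      · exact absurd h' h4
    rw [hlam, zero_smul] at hτeq
    exact hτ0 hτeq
  have : rk1 G z z = al⁻¹ • (τ - lam • (1 : Matrix (Fin 4) (Fin 4) F)) := by
    rw [hτeq, add_sub_cancel_left, smul_smul, inv_mul_cancel₀ hal, one_smul]
  rw [this]
  exact S.smul_mem _ (S.sub_mem hτS (S.smul_mem _ h1))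

/-- a subspace stable under the EQUAL-NORM rotations is stable under the Eichler group -/
lemma stab_eich_eq (h : HP G z z') (S : Submodule F (Matrix (Fin 4) (Fin 4) F))
    (hrot : ∀ d d' : Fin 4 → F, fB G d d ≠ 0 → fB G d' d' = fB G d d → ∀ κ ∈ S,
      (refl G d * refl G d') * κ * (refl G d' * refl G d) ∈ S)
    {u : Fin 4 → F} (huz : fB G u z = 0) (huz' : fB G u z' = 0) {κ : Matrix (Fin 4) (Fin 4) F}
    (hκ : κ ∈ S) : eich G z u * κ * eich G z (-u) ∈ S := by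
  by_cases hu0 : u = 0
  · rw [hu0, neg_zero, eich_zero, Matrix.one_mul, Matrix.mul_one]; exact hκ
  · have hμ : fB G u u ≠ 0 := fun h0 => hu0 (h.aniso u huz huz' h0)
    obtain ⟨he, hd'⟩ := eich_eq_refl h.symm h.two h.zz huz hμ
    rw [eich_neg_eq h.symm h.two h.zz huz hμ, he]
    exact hrot u _ hμ hd' κ hκ

end HP

/-- SK4 for subspaces stable under the rotations `r_d r_{d'}` with EQUAL norms: type (Lw) conclusion
(`z` singular, `w ⊥ z` nonsingular, `w ∧ z ∈ S`). -/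
theorem lemmaSK4_eq (hG : Gᵀ = G) (hnd : G.det ≠ 0) (h2 : (2 : F) ≠ 0) (hW : Minus4 G)
    (S : Submodule F (Matrix (Fin 4) (Fin 4) F)) (hsk : ∀ κ ∈ S, IsSkewAdj G κ)
    (hrot : ∀ d d' : Fin 4 → F, fB G d d ≠ 0 → fB G d' d' = fB G d d → ∀ κ ∈ S,
      (refl G d * refl G d') * κ * (refl G d' * refl G d) ∈ S)
    (hS : S ≠ ⊥) :
    ∃ z w : Fin 4 → F, z ≠ 0 ∧ fB G z z = 0 ∧ fB G w w ≠ 0 ∧ fB G w z = 0 ∧ wdg G w z ∈ S := by
  obtain ⟨z, z', h⟩ := exists_HP hG hnd h2 hW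
  obtain ⟨w, hw0, hww, hwz, hwz', hmem⟩ := h.lemmaSK4' S hsk
    (fun u huz huz' κ hκ => h.stab_eich_eq S hrot huz huz' hκ) hS
  exact ⟨z, w, h.z_ne_zero, h.zz, hww, hwz, hmem⟩

/-- SA4 for subspaces stable under the rotations `r_d r_{d'}` with EQUAL norms. -/
theorem lemmaSA4_eq (hG : Gᵀ = G) (hnd : G.det ≠ 0) (h2 : (2 : F) ≠ 0) (hW : Minus4 G)
    (S : Submodule F (Matrix (Fin 4) (Fin 4) F)) (hsa : ∀ σ ∈ S, IsSelfAdj G σ)
    (hrot : ∀ d d' : Fin 4 → F, fB G d d ≠ 0 → fB G d' d' = fB G d d → ∀ σ ∈ S,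
      (refl G d * refl G d') * σ * (refl G d' * refl G d) ∈ S)
    (h1 : (1 : Matrix (Fin 4) (Fin 4) F) ∈ S)
    {σ : Matrix (Fin 4) (Fin 4) F} (hσ : σ ∈ S) (hns : ¬ IsScal σ) :
    ∃ z : Fin 4 → F, z ≠ 0 ∧ fB G z z = 0 ∧ rk1 G z z ∈ S := by
  obtain ⟨z, z', h⟩ := exists_HP hG hnd h2 hW
  exact ⟨z, h.z_ne_zero, h.zz, h.lemmaSA4' S hsa
    (fun u huz huz' κ hκ => h.stab_eich_eq S hrot huz huz' hκ) h1 hσ hns⟩

end Cfsg.Agent.Lib.Helper9.OTAlg
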