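import Mathlib
import Cfsg.Agent.Lib.Helper2.SOTDefs
import Cfsg.Agent.Lib.Helper27.SOTLADefs
import Cfsg.Agent.Lib.Helper13.OTUCalc
import Cfsg.Agent.Lib.Helper13.OTLADefs
import Cfsg.Agent.Lib.Helper29.OTLAC7
import Cfsg.Agent.Lib.Helper15.OTLAC5
import Cfsg.Agent.Lib.Helper15.OTLAR11
import Cfsg.Agent.Lib.Helper26.OTLAR12
import Cfsg.Agent.Lib.Helper22.OTLAR14Core
import Cfsg.Agent.Lib.Helper9.OTLA4

/-!
S5709, the SWAPPED case `n₂ = 4` (notes/S5709_LA4_plan.md §4): `A` = the 4-dimensional minus-type factor, `B` = the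
odd-dimensional root side.  (R1) `M ∩ Z_R = X_L` in helper13's `LBase` context, with the reflection invariance
(INV-R) replaced by invariance under the Siegel elements `eich G₁ z u ⊗ 1` of `O(A) ⊗ 1` (field `om_siegel`).
* `ExitLw` : the exit of type (L) of the swapped case (`z` singular, `w ⊥ z` nonsingular, `T_{w⊗e_o, z⊗e_o} ≤ M`);
* `LCtx4`  : `LBase` (with `a = 4`) + `Minus4 G₁` + (Ω-E) `om_siegel`;
* `InM_Zc_siegel` : step (3'), conjugation of `Z(κ₁,κ₂,σ)` by a Siegel element;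
* `R1_swapped_core` / `R1_swapped` : (R1) in the swapped case.
-/

set_option autoImplicit false
set_option linter.unusedSectionVars false
set_option linter.unusedVariables false
set_option linter.unusedSimpArgs false

namespace Cfsg.Agent.Lib.Helper9.OTLA4
open Matrix
open Cfsg.Agent.Lib.Helper25.Tens Cfsg.Agent.Lib.Helper19.OSub
open Cfsg.Agent.Lib.Helper2.SOT Cfsg.Agent.Lib.Helper27.SOTLA Cfsg.Agent.Lib.Helper13.OTU
open Cfsg.Agent.Lib.Helper13.OTLA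
open Cfsg.Agent.Lib.Helper9.OTAlg (eich eich_add eich_zero eich_isOrthB Minus4 HP exists_HP)
open Cfsg.Agent.Lib.Helper1.SOTLALeaf (fB_neg_left)
open scoped Kronecker

variable {F : Type*} [Field F]

/-- exit of type (Lw) (swapped case): `M` contains the root group `T_{w⊗e_o, z⊗e_o}` with `z ≠ 0` singular and
`w ⊥ z` nonsingular in `A` -/
def ExitLw {a b : ℕ} (G₁ : Matrix (Fin a) (Fin a) F) (o o' p p' : Fin b)
    (M : Subgroup (GL (Idx a b) F)) : Prop :=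
  ∃ z w : Fin a → F, z ≠ 0 ∧ fB G₁ z z = 0 ∧ fB G₁ w w ≠ 0 ∧ fB G₁ w z = 0 ∧ ∀ c : F,
    InM M (Zc G₁ o o' p p' (c • wdg G₁ w z) 0 0)

/-- the LOCAL context of the swapped case `a = 4` of S5709: `LBase` + minus type + (Ω-E) -/
structure LCtx4 [Fintype F] {b : ℕ} (G₁ : Matrix (Fin 4) (Fin 4) F) (G₂ : Matrix (Fin b) (Fin b) F)
    (o o' p p' : Fin b) (Om M : Subgroup (GL (Idx 4 b) F)) : Prop
    extends LBase G₁ G₂ o o' p p' Om M where
  /-- `A` has no totally singular plane -/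
  minus : Minus4 G₁
  /-- (Ω-E): Siegel elements of `O(A)`, tensored with `1`, are in `Om` -/
  om_siegel : ∀ z u : Fin 4 → F, fB G₁ z z = 0 → fB G₁ u z = 0 →
    ∃ α : GL (Fin 4) F, α.1 = eich G₁ z u ∧ (kel α (1 : GL (Fin b) F) : GL (Idx 4 b) F) ∈ Om

section calcs

variable {a : ℕ} {G₁ : Matrix (Fin a) (Fin a) F}

lemma eich_mul_neg (hG : G₁ᵀ = G₁) (h2 : (2 : F) ≠ 0) {z u : Fin a → F} (hzz : fB G₁ z z = 0)
    (hu : fB G₁ u z = 0) : eich G₁ z u * eich G₁ z (-u) = 1 := by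
  have hnu : fB G₁ (-u) z = 0 := by rw [fB_neg_left, hu, neg_zero]
  rw [← eich_add hG h2 hzz hu hnu, add_neg_cancel, eich_zero]

lemma eich_neg_mul (hG : G₁ᵀ = G₁) (h2 : (2 : F) ≠ 0) {z u : Fin a → F} (hzz : fB G₁ z z = 0)
    (hu : fB G₁ u z = 0) : eich G₁ z (-u) * eich G₁ z u = 1 := by
  have hnu : fB G₁ (-u) z = 0 := by rw [fB_neg_left, hu, neg_zero]
  rw [← eich_add hG h2 hzz hnu hu, neg_add_cancel, eich_zero]

/-- the adjoint of a Siegel element is its inverse -/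
lemma adjB_eich (hG : G₁ᵀ = G₁) (hn1 : G₁.det ≠ 0) (h2 : (2 : F) ≠ 0) {z u : Fin a → F}
    (hzz : fB G₁ z z = 0) (hu : fB G₁ u z = 0) : adjB G₁ (eich G₁ z u) = eich G₁ z (-u) := by
  have hu1 : IsUnit G₁.det := Ne.isUnit hn1
  have ho : (eich G₁ z u)ᵀ * G₁ * eich G₁ z u = G₁ := eich_isOrthB hG h2 hzz hu
  have h1 : (eich G₁ z u)ᵀ * G₁ = G₁ * eich G₁ z (-u) := by
    calc (eich G₁ z u)ᵀ * G₁ = (eich G₁ z u)ᵀ * G₁ * (eich G₁ z u * eich G₁ z (-u)) := by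
          rw [eich_mul_neg hG h2 hzz hu, Matrix.mul_one]
      _ = ((eich G₁ z u)ᵀ * G₁ * eich G₁ z u) * eich G₁ z (-u) := by
          simp only [Matrix.mul_assoc]
      _ = _ := by rw [ho]
  unfold adjB
  rw [Matrix.mul_assoc, h1, ← Matrix.mul_assoc, Matrix.nonsing_inv_mul _ hu1, Matrix.one_mul]

/-- the inverse of a unit whose matrix is a Siegel element -/
lemma inv_val_of_eich (hG : G₁ᵀ = G₁) (h2 : (2 : F) ≠ 0) {z u : Fin a → F} (hzz : fB G₁ z z = 0)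
    (hu : fB G₁ u z = 0) {α : GL (Fin a) F} (hα : α.1 = eich G₁ z u) : α⁻¹.1 = eich G₁ z (-u) := by
  have h1 : α.1 * eich G₁ z (-u) = 1 := by rw [hα, eich_mul_neg hG h2 hzz hu]
  have h2' : α⁻¹.1 * α.1 = 1 := by
    rw [← Units.val_mul, inv_mul_cancel, Units.val_one]
  calc α⁻¹.1 = α⁻¹.1 * (α.1 * eich G₁ z (-u)) := by rw [h1, mul_one]
    _ = (α⁻¹.1 * α.1) * eich G₁ z (-u) := by rw [mul_assoc]
    _ = _ := by rw [h2', one_mul]

lemma torB_one_one {b : ℕ} (o o' p p' : Fin b) :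
    ((1 : GL (Fin b) F)).1 = torB o o' p p' (1 : F) 1 := by
  unfold torB
  rw [Units.val_one, ← Matrix.diagonal_one]
  congr 1
  funext k
  split_ifs <;> simp

end calcs

variable [Fintype F] {b : ℕ} {G₁ : Matrix (Fin 4) (Fin 4) F}
  {G₂ : Matrix (Fin b) (Fin b) F} {o o' p p' : Fin b} {Om M : Subgroup (GL (Idx 4 b) F)}

/-- step (3') of the swapped (R1): conjugation by the Siegel element `eich G₁ z u ⊗ 1 ∈ M` -/
theorem InM_Zc_siegel (h : LCtx4 G₁ G₂ o o' p p' Om M) {z u : Fin 4 → F} (hzz : fB G₁ z z = 0)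
    (hu : fB G₁ u z = 0) {κ₁ κ₂ σ : Matrix (Fin 4) (Fin 4) F}
    (hZ : InM M (Zc G₁ o o' p p' κ₁ κ₂ σ)) :
    InM M (Zc G₁ o o' p p' (eich G₁ z u * κ₁ * eich G₁ z (-u)) (eich G₁ z u * κ₂ * eich G₁ z (-u))
      (eich G₁ z u * σ * eich G₁ z (-u))) := by
  obtain ⟨α, hα, hOm⟩ := h.om_siegel z u hzz hu
  have hM := Cfsg.Agent.Lib.Helper15.OTLALeaf.kel_mem_M h.toLBase α 1 hOm
  have h1 := Cfsg.Agent.Lib.Helper15.OTLALeaf.InM_conj hM hZ
  have hnu : fB G₁ (-u) z = 0 := by rw [fB_neg_left, hu, neg_zero]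
  unfold Zc at h1 ⊢
  rw [Cfsg.Agent.Lib.Helper15.OTLALeaf.torus_conj h.adp one_ne_zero one_ne_zero α 1
    (torB_one_one o o' p p')] at h1
  simp only [mul_one, one_smul, inv_val_of_eich h.symm1 h.two hzz hu hα, hα] at h1
  have e : -adjB G₁ (eich G₁ z u * σ * eich G₁ z (-u)) =
      eich G₁ z u * -adjB G₁ σ * eich G₁ z (-u) := by
    have e1 := adjB_eich h.symm1 h.nd1 h.two hzz hu
    have e2 := adjB_eich h.symm1 h.nd1 h.two hzz hnu
    rw [neg_neg] at e2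
    rw [Cfsg.Agent.Lib.Helper29.OTLALeaf.adjB_mul h.nd1, Cfsg.Agent.Lib.Helper29.OTLALeaf.adjB_mul h.nd1,
      e1, e2, Matrix.mul_neg, Matrix.neg_mul, Matrix.mul_assoc]
  rw [e]
  exact h1

/-- `Σ₁ = {κ : (κ,0,0) ∈ Σ}` as a subspace -/
def Sig1 (h : LBase G₁ G₂ o o' p p' Om M) : Submodule F (Matrix (Fin 4) (Fin 4) F) where
  carrier := {κ | InM M (Zc G₁ o o' p p' κ 0 0)}
  add_mem' := by
    intro κ κ' hκ hκ'
    have := Cfsg.Agent.Lib.Helper15.OTLALeaf.InM_Zc_add h hκ hκ'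
    rw [add_zero] at this
    exact this
  zero_mem' := by
    show InM M (Zc G₁ o o' p p' 0 0 0)
    rw [Cfsg.Agent.Lib.Helper15.OTLALeaf.Zc_zero]
    exact ⟨1, M.one_mem, rfl⟩
  smul_mem' := by
    intro c κ hκ
    have := Cfsg.Agent.Lib.Helper15.OTLALeaf.InM_Zc_smul h c hκ
    rw [smul_zero] at this
    exact this

/-- `Σ_s = {σ : (0,0,σ) ∈ Σ}` as a subspace -/
def SigS (h : LBase G₁ G₂ o o' p p' Om M) : Submodule F (Matrix (Fin 4) (Fin 4) F) where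
  carrier := {σ | InM M (Zc G₁ o o' p p' 0 0 σ)}
  add_mem' := by
    intro κ κ' hκ hκ'
    have := Cfsg.Agent.Lib.Helper15.OTLALeaf.InM_Zc_add h hκ hκ'
    rw [add_zero] at this
    exact this
  zero_mem' := by
    show InM M (Zc G₁ o o' p p' 0 0 0)
    rw [Cfsg.Agent.Lib.Helper15.OTLALeaf.Zc_zero]
    exact ⟨1, M.one_mem, rfl⟩
  smul_mem' := by
    intro c κ hκ
    have := Cfsg.Agent.Lib.Helper15.OTLALeaf.InM_Zc_smul h c hκ
    rw [smul_zero] at this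
    exact this

lemma mem_Sig1 (h : LBase G₁ G₂ o o' p p' Om M) (κ : Matrix (Fin 4) (Fin 4) F) :
    κ ∈ Sig1 h ↔ InM M (Zc G₁ o o' p p' κ 0 0) := Iff.rfl

lemma mem_SigS (h : LBase G₁ G₂ o o' p p' Om M) (σ : Matrix (Fin 4) (Fin 4) F) :
    σ ∈ SigS h ↔ InM M (Zc G₁ o o' p p' 0 0 σ) := Iff.rfl

/-- (R1) in the swapped case, core form: the leaves (R1-0d) `InM_Zc_skew` and (R1-0e) `InM_Zc_scalar` as hypotheses -/
theorem R1_swapped_core (h : LCtx4 G₁ G₂ o o' p p' Om M)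
    (hskew : ∀ κ₁ κ₂ σ : Matrix (Fin 4) (Fin 4) F, InM M (Zc G₁ o o' p p' κ₁ κ₂ σ) →
      IsSkewAdj G₁ κ₁ ∧ IsSkewAdj G₁ κ₂)
    (hscal : ∀ c : F, InM M (Zc G₁ o o' p p' 0 0 (c • (1 : Matrix (Fin 4) (Fin 4) F))))
    (hS : ¬ ExitS G₁ o o' p p' M) (hLw : ¬ ExitLw G₁ o o' p p' M) : R1P G₁ o o' p p' M := by
  have hb := h.toLBase
  obtain ⟨z, z', hp⟩ := exists_HP h.symm1 h.nd1 h.two h.minus
  have hSC : Cfsg.Agent.Lib.Helper26.OTLALeaf.SigmaClosed G₁ o o' p p' M :=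
    ⟨fun hZ hZ' => Cfsg.Agent.Lib.Helper15.OTLALeaf.InM_Zc_add hb hZ hZ',
      fun hZ => Cfsg.Agent.Lib.Helper15.OTLALeaf.InM_Zc_neg hb hZ,
      fun c _ _ _ hZ => Cfsg.Agent.Lib.Helper15.OTLALeaf.InM_Zc_smul hb c hZ⟩
  have hSB : Cfsg.Agent.Lib.Helper22.OTLALeaf.SigB G₁ o o' p p' M :=
    ⟨hskew, fun _ _ _ _ _ _ hZ hZ' => Cfsg.Agent.Lib.Helper15.OTLALeaf.InM_Zc_add hb hZ hZ',
      fun _ _ _ hZ => Cfsg.Agent.Lib.Helper15.OTLALeaf.InM_Zc_neg hb hZ,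
      fun c _ _ _ hZ => Cfsg.Agent.Lib.Helper15.OTLALeaf.InM_Zc_smul hb c hZ,
      fun c κ₁ κ₂ σ hZ => Cfsg.Agent.Lib.Helper26.OTLALeaf.InM_Zc_xL_core hb c (hskew κ₁ κ₂ σ hZ).2 hZ⟩
  -- step (4'): `Σ₁ = 0`
  have hS1 : ∀ κ : Matrix (Fin 4) (Fin 4) F, InM M (Zc G₁ o o' p p' κ 0 0) → κ = 0 := by
    intro κ hκ
    by_contra hκ0
    have hne : Sig1 hb ≠ ⊥ := by
      intro hbot
      have : κ ∈ Sig1 hb := hκ
      rw [hbot, Submodule.mem_bot] at this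
      exact hκ0 this
    obtain ⟨w, hw0, hww, hwz, hwz', hmem⟩ := hp.lemmaSK4' (Sig1 hb)
      (fun κ' hκ' => (hskew κ' 0 0 hκ').1)
      (fun u huz huz' κ' hκ' => by
        have := InM_Zc_siegel h hp.zz huz (κ₁ := κ') (κ₂ := 0) (σ := 0) hκ'
        rw [Matrix.mul_zero, Matrix.zero_mul] at this
        exact this)
      hne
    apply hLw
    refine ⟨z, w, hp.z_ne_zero, hp.zz, hww, hwz, fun c => ?_⟩
    exact (Sig1 hb).smul_mem c hmem
  intro κ₁ κ₂ σ hZ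
  obtain ⟨hk1, hk2⟩ := hskew κ₁ κ₂ σ hZ
  have hκ₂ : κ₂ = 0 :=
    hS1 κ₂ (Cfsg.Agent.Lib.Helper26.OTLALeaf.InM_Zc_kappa2_core hb hSC hk2 hZ)
  have hκ₁ : κ₁ = 0 := by
    have h1 := Cfsg.Agent.Lib.Helper26.OTLALeaf.InM_Zc_kappa1_core hb hSC hk1 hZ
    exact hS1 κ₁ (Cfsg.Agent.Lib.Helper26.OTLALeaf.InM_Zc_kappa2_core hb hSC hk1 h1)
  refine ⟨hκ₁, hκ₂, ?_⟩
  subst hκ₁ hκ₂
  -- step (5'): `Σ_s` is scalar
  by_contra hns
  apply hS
  have hmem : rk1 G₁ z z ∈ SigS hb := by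
    refine hp.lemmaSA4' (SigS hb)
      (fun σ' hσ' => Cfsg.Agent.Lib.Helper22.OTLALeaf.sigma_selfadj_core hSB h.nd1 hS1 hσ')
      (fun u huz huz' σ' hσ' => by
        have := InM_Zc_siegel h hp.zz huz (κ₁ := 0) (κ₂ := 0) (σ := σ') hσ'
        rw [Matrix.mul_zero, Matrix.zero_mul] at this
        exact this)
      ?_ (σ := σ) hZ hns
    have := hscal 1
    rw [one_smul] at this
    exact this
  exact ⟨z, hp.z_ne_zero, hp.zz, fun c => (SigS hb).smul_mem c hmem⟩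

end Cfsg.Agent.Lib.Helper9.OTLA4
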