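import Mathlib
import Cfsg.Agent.Lib.Helper25.OTOmega
import Cfsg.Agent.Lib.Helper12.UOGRE
import Cfsg.Agent.Lib.Helper9.OTLA4R1

/-!
S5709, the SWAPPED case: the Ω-fact (Ω-E) for `Om = Ω(V) = OmV G1 G2`: the Siegel elements `eich G1 z u ⊗ 1`
are isometries of odd order `p`, hence lie in `Ω(V)` (helper25's `mem_OmV_of_pow_odd`).
Stated over helper25's `Ctx a b G1 G2` for general `a`.
-/

set_option autoImplicit false
set_option linter.unusedSectionVars false
set_option linter.unusedVariables false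

namespace Cfsg.Agent.Lib.Helper9.OTLA4
open Matrix
open Cfsg.Agent.Lib.Helper25.Tens Cfsg.Agent.Lib.Helper19.OSub Cfsg.Agent.Lib.Helper2.SOT
open Cfsg.Agent.Lib.Helper25.OT
open Cfsg.Agent.Lib.Helper9.OTAlg (eich eich_isOrthB eich_pow_char)
open scoped Kronecker

variable {F : Type*} [Field F] [Fintype F] {a b : ℕ}
variable {G1 : Matrix (Fin a) (Fin a) F} {G2 : Matrix (Fin b) (Fin b) F}

/-- the Siegel element as a unit -/
def eichGL (hG : G1ᵀ = G1) (h2 : (2 : F) ≠ 0) {z u : Fin a → F} (hzz : fB G1 z z = 0)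
    (hu : fB G1 u z = 0) : GL (Fin a) F where
  val := eich G1 z u
  inv := eich G1 z (-u)
  val_inv := eich_mul_neg hG h2 hzz hu
  inv_val := eich_neg_mul hG h2 hzz hu

lemma kel_pow_one (α : GL (Fin a) F) (n : ℕ) :
    (kel α (1 : GL (Fin b) F) : GL (Idx a b) F) ^ n = kel (α ^ n) 1 := by
  induction n with
  | zero => rw [pow_zero, pow_zero, kel_one_one]
  | succ n ih => rw [pow_succ, ih, pow_succ, ← kel_mul, mul_one]

/-- (Ω-E) for `Om = Ω(V)` -/
theorem siegel_mem_OmV (h : Ctx a b G1 G2) {z u : Fin a → F} (hzz : fB G1 z z = 0)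
    (hu : fB G1 u z = 0) :
    ∃ α : GL (Fin a) F, α.1 = eich G1 z u ∧
      (kel α (1 : GL (Fin b) F) : GL (Idx a b) F) ∈ OmV G1 G2 := by
  classical
  obtain ⟨p, hchar⟩ := CharP.exists F
  haveI := hchar
  have hp : p.Prime := CharP.char_is_prime F p
  have hodd : Odd p := by
    rcases hp.eq_two_or_odd' with h2' | ho
    · exfalso
      apply h.two
      have : ((p : ℕ) : F) = 0 := CharP.cast_eq_zero F p
      rw [h2'] at this
      exact_mod_cast this
    · exact ho
  refine ⟨eichGL h.symm1 h.two hzz hu, rfl, ?_⟩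
  have hα : eichGL h.symm1 h.two hzz hu ∈ Cfsg.isometryGroup F ⇑(QA G1) :=
    Cfsg.Agent.Lib.Helper12.UOGLeaf.mem_iso_of_gram _ (eich_isOrthB h.symm1 h.two hzz hu)
  have hOV := kel_mem_OV h hα (one_mem (Cfsg.isometryGroup F ⇑(QB G2)))
  apply mem_OmV_of_pow_odd h hOV hodd
  have e : eichGL h.symm1 h.two hzz hu ^ p = 1 := by
    apply Units.ext
    rw [Units.val_pow_eq_pow_val, Units.val_one]
    exact eich_pow_char h.symm1 h.two hzz hu p
  rw [kel_pow_one, e, kel_one_one]

end Cfsg.Agent.Lib.Helper9.OTLA4
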