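import Mathlib
import Cfsg.Agent.Lib.Helper15.OTLAR10
import Cfsg.Agent.Lib.Helper23.OTLAEx
import Cfsg.Agent.Lib.Helper5.UOGDefs2
import Cfsg.Agent.Lib.Helper9.OTLA4R1

/-!
S5709, the SWAPPED case `n₂ = 4`: final form of (R1) (on helper15's landed (R1-0d), (R1-0e)) and the exit leaf
`ExitLw → HasLw` (helper5's third exit).
-/

set_option autoImplicit false
set_option linter.unusedSectionVars false
set_option linter.unusedVariables false

namespace Cfsg.Agent.Lib.Helper9.OTLA4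
open Matrix
open Cfsg.Agent.Lib.Helper25.Tens Cfsg.Agent.Lib.Helper19.OSub
open Cfsg.Agent.Lib.Helper2.SOT Cfsg.Agent.Lib.Helper27.SOTLA Cfsg.Agent.Lib.Helper13.OTU
open Cfsg.Agent.Lib.Helper13.OTLA Cfsg.Agent.Lib.Helper5.UOG
open scoped Kronecker

/-- (R1) `M ∩ Z_R = X_L` in the swapped case `a = 4` -/
theorem R1_swapped {F : Type*} [Field F] [Fintype F] {b : ℕ} {G₁ : Matrix (Fin 4) (Fin 4) F}
    {G₂ : Matrix (Fin b) (Fin b) F} {o o' p p' : Fin b} {Om M : Subgroup (GL (Idx 4 b) F)}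
    (h : LCtx4 G₁ G₂ o o' p p' Om M)
    (hS : ¬ ExitS G₁ o o' p p' M) (hLw : ¬ ExitLw G₁ o o' p p' M) : R1P G₁ o o' p p' M :=
  R1_swapped_core h
    (fun _ _ _ hZ => Cfsg.Agent.Lib.Helper15.OTLALeaf.InM_Zc_skew h.toLBase hZ)
    (fun c => Cfsg.Agent.Lib.Helper15.OTLALeaf.InM_Zc_scalar h.toLBase c) hS hLw

/-- (EX-5) the exit (Lw) of the swapped case is helper5's `HasLw` -/
theorem hasLw_of_exitLw {F : Type*} [Field F] [Fintype F] {a b : ℕ} {G₁ : Matrix (Fin a) (Fin a) F}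
    {G₂ : Matrix (Fin b) (Fin b) F} {o o' p p' : Fin b} {M : Subgroup (GL (Idx a b) F)}
    (hs1 : G₁ᵀ = G₁) (hs2 : G₂ᵀ = G₂) (hn1 : G₁.det ≠ 0) (hA : Adp G₂ o o' p p')
    (h : ExitLw G₁ o o' p p' M) : HasLw G₁ G₂ M := by
  obtain ⟨z, w, hz0, hzz, hww, hwz, hM⟩ := h
  have ho : fB G₂ (Pi.single o 1) (Pi.single o 1) = 0 := by
    unfold fB
    rw [Cfsg.Agent.Lib.Helper23.OTLALeaf.ex_mulVec_single_o hs2 hA, single_dotProduct, one_mul,
      Pi.single_apply, if_neg hA.hop]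
  refine ⟨z, w, Pi.single o 1, hz0, hzz, ?_, hww, ?_, ho, ?_⟩
  · rw [fB_comm G₁ hs1]; exact hwz
  · intro h0
    have := congrFun h0 o
    simp at this
  · intro c
    rw [Cfsg.Agent.Lib.Helper23.OTLALeaf.rootM_L_eq hs2 hn1 hA]
    exact hM c

end Cfsg.Agent.Lib.Helper9.OTLA4
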