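import Mathlib
import Cfsg.Prelude.Def_GeometricClasses
import Cfsg.Agent.Lib.Helper5.TSMax
import Cfsg.Agent.Lib.Helper20.OSubDEC
import Cfsg.Agent.Lib.Helper25.SpTDefs
import Cfsg.Agent.Lib.Helper27.SpTGDefs
import Cfsg.Agent.Lib.Helper27.SpTGB

/-!
S5704 Stage III (G) leaves G3, G4, G5, G6 (helper27's sub-market): the type calculus
`P3 → P7`, `P3 ∧ P7 → P4`, `P4 ∧ P7 → P6`, `P1 → P4`; CORE forms, with the statements of the
`S`-block leaves (S1, S2, S4, S5, S6: symplectic geometry of `sf`) as explicit hypotheses.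
The exact-signature leaves are in `SpTGG36.lean`.
-/

set_option autoImplicit false
set_option linter.unusedSectionVars false
set_option linter.unusedVariables false

namespace Cfsg.Agent.Lib.Helper9.SpTGLeaf
open Matrix QuadraticMap
open Cfsg.Agent.Lib.Helper25.Tens Cfsg.Agent.Lib.Helper25.SpT Cfsg.Agent.Lib.Helper19.OSub
  Cfsg.Agent.Lib.Helper27.SpTG
open Cfsg.Agent.Lib.Helper27.SpTGLeaf
open scoped commutatorElement

variable {F : Type*} [Field F] {a b : ℕ} {Q : QuadraticForm F (Idx a b → F)}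
  {M : Subgroup (GL (Idx a b) F)}

/-- `b ≥ 6` in the model (copy of the provided lemma) -/
theorem six_le_b' (h : Ctx a b Q) : 6 ≤ b := by
  have h1 := h.ha
  have h2 := h.hab
  have h3 := h.hn
  obtain ⟨k, hk⟩ := h.eb
  by_contra hlt
  push Not at hlt
  have hb : b ≤ 5 := by omega
  have ha : a ≤ 3 := by omega
  have : a * b ≤ 3 * 5 := Nat.mul_le_mul ha hb
  obtain ⟨j, hj⟩ := h.ea
  have ha2 : a = 2 := by omega
  subst ha2
  omega

/-- scaling the third argument -/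
lemma RR_smul3 (h : Ctx a b Q) {x x' : Fin a → F} {y y' : Fin b → F}
    (hr : RR Q M x y x' y') (l : F) : RR Q M x y (l • x') y' := by
  have := RR_smul h hr 1 1 l 1
  simpa only [one_smul] using this

/-- scaling the fourth argument -/
lemma RR_smul4 (h : Ctx a b Q) {x x' : Fin a → F} {y y' : Fin b → F}
    (hr : RR Q M x y x' y') (l : F) : RR Q M x y x' (l • y') := by
  have := RR_smul h hr 1 1 1 l
  simpa only [one_smul] using this

section G
variable [Fintype F]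

/-- G3: T3 & T3 → T7 (`b ≥ 6`). -/
theorem P7_of_P3_core
    (hS1 : ∀ {n : ℕ}, Even n → ∀ {x : Fin n → F}, x ≠ 0 → ∃ y : Fin n → F, sf x y = 1)
    (hS5 : ∀ {n : ℕ}, Even n → 6 ≤ n → ∀ y y₁ : Fin n → F, ∃ y₂ y₃ : Fin n → F,
      sf y₂ y₃ = 1 ∧ sf y y₂ = 0 ∧ sf y y₃ = 0 ∧ sf y₁ y₂ = 0 ∧ sf y₁ y₃ = 0)
    (h : GCtx a b Q M) (h3 : P3 Q M) : P7 Q M := by
  have hC : Ctx a b Q := h.toCtx
  have h6 := six_le_b' hC
  -- the case `sf x x' = 1`
  have key1 : ∀ (x x' : Fin a → F) (y y₁ : Fin b → F), sf y y₁ = 0 → sf x x' = 1 →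
      RR Q M x y x' y₁ := by
    intro x x' y y₁ hyy hxx
    obtain ⟨y₂, y₃, h23, hy2, hy3, h12, h13⟩ := hS5 hC.eb h6 y y₁
    have h31 : sf y₃ y₁ = 0 := by rw [sf_skew, h13, neg_zero]
    refine RR_comm hC (x₁ := x) (y₁ := y₂) (x₂ := x') (y₂ := y₃) ?_ ?_ ?_ ?_ ?_ ?_
      (h3 x y y₂ hy2) (h3 x' y₃ y₁ h31)
    · rw [hyy, mul_zero]
    · rw [hy2, mul_zero]
    · rw [h12, mul_zero]
    · rw [hy3, mul_zero]
    · rw [h13, mul_zero]
    · rw [hxx, h23, mul_one]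
  -- the case `sf x x' ≠ 0`
  have key2 : ∀ (x x' : Fin a → F) (y y₁ : Fin b → F), sf y y₁ = 0 → sf x x' ≠ 0 →
      RR Q M x y x' y₁ := by
    intro x x' y y₁ hyy hxx
    have h1 : sf x ((sf x x')⁻¹ • x') = 1 := by rw [sf_smul_right, inv_mul_cancel₀ hxx]
    have h2 := RR_smul3 hC (key1 x _ y y₁ hyy h1) (sf x x')
    rwa [smul_smul, mul_inv_cancel₀ hxx, one_smul] at h2
  intro x x' y y₁ hyy
  by_cases hxx : sf x x' = 0
  · by_cases hx : x = 0
    · exact RR_of_eq_zero hC (Or.inl hx)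
    obtain ⟨xs, hxs⟩ := hS1 hC.ea hx
    have ha : sf x (x' + xs) ≠ 0 := by
      rw [sf_add_right, hxx, zero_add, hxs]
      exact one_ne_zero
    have hb : sf x (-xs) ≠ 0 := by
      rw [sf_neg_right, hxs]
      exact neg_ne_zero.mpr one_ne_zero
    have := RR_add_A hC (by rw [hyy, mul_zero]) (by rw [hyy, mul_zero])
      (key2 x (x' + xs) y y₁ hyy ha) (key2 x (-xs) y y₁ hyy hb)
    rwa [add_neg_cancel_right] at this
  · exact key2 x x' y y₁ hyy hxx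

/-- G4: T3 & T7 → T4. -/
theorem P4_of_P3_P7_core
    (hS1 : ∀ {n : ℕ}, Even n → ∀ {x : Fin n → F}, x ≠ 0 → ∃ y : Fin n → F, sf x y = 1)
    (hS6 : ∀ {n : ℕ}, Even n → 4 ≤ n → ∀ {y y' : Fin n → F}, sf y y' ≠ 0 →
      ∃ y₂ y₃ : Fin n → F, sf y y₃ = 0 ∧ sf y' y₃ = 0 ∧ sf y y₂ = 0 ∧ sf y₂ y₃ = 1)
    (h : GCtx a b Q M) (h3 : P3 Q M) (h7 : P7 Q M) : P4 Q M := by
  have hC : Ctx a b Q := h.toCtx
  have h6 := six_le_b' hC
  intro x y y'
  by_cases hyy : sf y y' = 0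
  · exact h3 x y y' hyy
  by_cases hx : x = 0
  · exact RR_of_eq_zero hC (Or.inl hx)
  obtain ⟨xs, hxs⟩ := hS1 hC.ea hx
  obtain ⟨y₂, y₃, hy3, hy'3, hy2, h23⟩ := hS6 hC.eb (by omega) hyy
  have h3' : sf y₃ y' = 0 := by rw [sf_skew, hy'3, neg_zero]
  refine RR_comm hC (x₁ := x) (y₁ := y₂) (x₂ := xs) (y₂ := y₃) ?_ ?_ ?_ ?_ ?_ ?_
    (h3 x y y₂ hy2) (h7 xs x y₃ y' h3')
  · rw [sf_self, zero_mul]
  · rw [sf_self, zero_mul]
  · rw [sf_self, zero_mul]
  · rw [hy3, mul_zero]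
  · rw [hy'3, mul_zero]
  · rw [hxs, h23, mul_one]

/-- G5: T4 & T7 → T6. -/
theorem P6_of_P4_P7_core
    (hS2 : ∀ {n : ℕ}, Even n → ∀ {y y' : Fin n → F}, LinearIndependent F ![y, y'] →
      ∃ w : Fin n → F, sf y w = 0 ∧ sf y' w ≠ 0)
    (h : GCtx a b Q M) (h4 : P4 Q M) (h7 : P7 Q M) : P6 Q M := by
  have hC : Ctx a b Q := h.toCtx
  intro x x' y y' hxx
  by_cases hyy : sf y y' = 0
  · exact h7 x x' y y' hyy
  by_cases hli : LinearIndependent F ![x', x]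
  · obtain ⟨x₁, hx'1, hx1⟩ := hS2 hC.ea hli
    have hx1' : sf x₁ x ≠ 0 := by
      rw [sf_skew]
      exact neg_ne_zero.mpr hx1
    set l : F := (sf x₁ x * sf y y')⁻¹ with hl
    have hne : sf x₁ x * sf y y' ≠ 0 := mul_ne_zero hx1' hyy
    refine RR_comm hC (x₁ := l • x₁) (y₁ := y) (x₂ := x) (y₂ := y') ?_ ?_ ?_ ?_ ?_ ?_
      (h7 x (l • x₁) y y (sf_self y)) (h7 x x' y' y' (sf_self y'))
    · rw [hxx, zero_mul]
    · rw [sf_self, mul_zero]
    · rw [sf_smul_right, hx'1, mul_zero, zero_mul]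
    · rw [sf_self, zero_mul]
    · rw [sf_self, mul_zero]
    · rw [sf_smul_left, hl, mul_assoc, inv_mul_cancel₀ hne]
  · rw [LinearIndependent.pair_iff] at hli
    push Not at hli
    obtain ⟨s, t, hst, hne⟩ := hli
    by_cases hs : s = 0
    · have ht : t ≠ 0 := hne hs
      rw [hs, zero_smul, zero_add] at hst
      have hx : x = 0 := by
        rcases smul_eq_zero.mp hst with h0 | h0
        · exact absurd h0 ht
        · exact h0
      exact RR_of_eq_zero hC (Or.inl hx)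
    · have hx' : x' = (-(s⁻¹ * t)) • x := by
        have h1 : s • x' = -(t • x) := eq_neg_of_add_eq_zero_left hst
        have h2 : x' = s⁻¹ • (s • x') := by rw [smul_smul, inv_mul_cancel₀ hs, one_smul]
        rw [h2, h1, smul_neg, smul_smul, neg_smul]
      rw [hx']
      exact RR_smul3 hC (h4 x y y') _

/-- G6: T1 & T1 → T4 (`a ≥ 4`). -/
theorem P4_of_P1_core
    (hS1 : ∀ {n : ℕ}, Even n → ∀ {x : Fin n → F}, x ≠ 0 → ∃ y : Fin n → F, sf x y = 1)
    (hS4 : ∀ {n : ℕ}, Even n → 4 ≤ n → ∀ x : Fin n → F,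
      ∃ x₁ x₂ : Fin n → F, sf x x₁ = 0 ∧ sf x x₂ = 0 ∧ sf x₁ x₂ = 1)
    (h : GCtx a b Q M) (ha4 : 4 ≤ a) (h1 : P1 Q M) : P4 Q M := by
  have hC : Ctx a b Q := h.toCtx
  -- the case `sf y y' ≠ 0`
  have key : ∀ (x : Fin a → F) (y y' : Fin b → F), sf y y' ≠ 0 → RR Q M x y x y' := by
    intro x y y' hyy
    obtain ⟨x₁, x₂, hx1, hx2, h12⟩ := hS4 hC.ea ha4 x
    set l : F := (sf y y')⁻¹ with hl
    have h2x : sf (l • x₂) x = 0 := by rw [sf_smul_left, sf_skew, hx2, neg_zero, mul_zero]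
    refine RR_comm hC (x₁ := x₁) (y₁ := y) (x₂ := l • x₂) (y₂ := y') ?_ ?_ ?_ ?_ ?_ ?_
      (h1 x x₁ y hx1) (h1 (l • x₂) x y' h2x)
    · rw [sf_self, zero_mul]
    · rw [sf_self, mul_zero]
    · rw [hx1, zero_mul]
    · rw [sf_smul_right, hx2, mul_zero, zero_mul]
    · rw [sf_self, mul_zero]
    · rw [sf_smul_right, h12, mul_one, hl, inv_mul_cancel₀ hyy]
  intro x y y'
  by_cases hyy : sf y y' = 0
  · by_cases hy : y = 0
    · exact RR_of_eq_zero hC (Or.inr (Or.inl hy))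
    obtain ⟨ys, hys⟩ := hS1 hC.eb hy
    have ha : sf y (y' + ys) ≠ 0 := by
      rw [sf_add_right, hyy, zero_add, hys]
      exact one_ne_zero
    have hb : sf y (-ys) ≠ 0 := by
      rw [sf_neg_right, hys]
      exact neg_ne_zero.mpr one_ne_zero
    have := RR_add_B hC (by rw [sf_self, zero_mul]) (by rw [sf_self, zero_mul])
      (key x y (y' + ys) ha) (key x y (-ys) hb)
    rwa [add_neg_cancel_right] at this
  · exact key x y y' hyy

end G

end Cfsg.Agent.Lib.Helper9.SpTGLeaf
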