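/-
helper9: S4411 leaf (B3a) `b3a`: `J(R)` and `Ω₁(Z(R))` are characteristic in `R` (as subgroups of `↥R`).
-/
import Mathlib
import Cfsg.Prelude.Def_Solvable
import Cfsg.Prelude.Def_Local
import Cfsg.Prelude.Def_Transfer
import Cfsg.Prelude.Def_PLocal
import Cfsg.Agent.Lib.Helper26.AUTQDefs
import Cfsg.Agent.S0602

set_option autoImplicit false

namespace Cfsg.Agent.Lib.Helper9.AUTQB3A

open Cfsg Cfsg.Agent.Lib.Helper26.AUTQ

universe u

/-- `Ω₁(Z(R))`, pulled back to `↥R`, is the closure of the central elements of `↥R` of order dividing `p`. -/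
theorem omegaOne_subgroupOf_eq {X : Type u} [Group X] (p : ℕ) (R : Subgroup X) :
    (Cfsg.omegaOne p (R ⊓ Subgroup.centralizer (R : Set X))).subgroupOf R =
      Subgroup.closure {x : ↥R | x ∈ Subgroup.center ↥R ∧ x ^ p = 1} := by
  have himg : (R.subtype : ↥R → X) '' {x : ↥R | x ∈ Subgroup.center ↥R ∧ x ^ p = 1} =
      {x : X | x ∈ R ⊓ Subgroup.centralizer (R : Set X) ∧ x ^ p = 1} := by
    ext x
    constructor
    · rintro ⟨y, ⟨hyc, hyp⟩, rfl⟩
      refine ⟨⟨y.2, ?_⟩, ?_⟩
      · intro r hr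
        have := (Subgroup.mem_center_iff.mp hyc) ⟨r, hr⟩
        exact congrArg (fun z : ↥R => (z : X)) this
      · have := congrArg (fun z : ↥R => (z : X)) hyp
        simpa using this
    · rintro ⟨⟨hxR, hxC⟩, hxp⟩
      refine ⟨⟨x, hxR⟩, ⟨?_, ?_⟩, rfl⟩
      · rw [Subgroup.mem_center_iff]
        intro r
        apply Subtype.ext
        exact hxC r r.2
      · apply Subtype.ext
        simpa using hxp
  unfold Cfsg.omegaOne
  rw [← himg, ← MonoidHom.map_closure, Subgroup.subgroupOf,
    Subgroup.comap_map_eq_self_of_injective R.subtype_injective]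

/-- **TAG B3a** -/
theorem b3a {X : Type u} [Group X] [Finite X] (p : ℕ) [Fact p.Prime] (R : Subgroup X) :
    ((Cfsg.thompsonSubgroupOf p R).subgroupOf R).Characteristic ∧
    ((Cfsg.omegaOne p (R ⊓ Subgroup.centralizer (R : Set X))).subgroupOf R).Characteristic := by
  constructor
  · have h : (Cfsg.thompsonSubgroupOf p R).subgroupOf R = Cfsg.thompsonSubgroup p ↥R := by
      unfold Cfsg.thompsonSubgroupOf
      rw [Subgroup.subgroupOf, Subgroup.comap_map_eq_self_of_injective R.subtype_injective]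
    rw [h]
    exact (Cfsg.Agent.S0602.result (G := ↥R) (p := p)).1
  · rw [omegaOne_subgroupOf_eq, Subgroup.characteristic_iff_map_le]
    intro φ
    rw [MonoidHom.map_closure, Subgroup.closure_le]
    rintro _ ⟨x, ⟨hxc, hxp⟩, rfl⟩
    apply Subgroup.subset_closure
    refine ⟨?_, ?_⟩
    · rw [Subgroup.mem_center_iff]
      intro r
      have h1 := (Subgroup.mem_center_iff.mp hxc) (φ.symm r)
      have h2 := congrArg φ h1
      simpa using h2
    · show (φ x) ^ p = 1
      rw [← map_pow, hxp, map_one]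

end Cfsg.Agent.Lib.Helper9.AUTQB3A
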