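import Mathlib
import Cfsg.Prelude.Def_Solvable
import Cfsg.Agent.Lib.Helper26.McLDefs
import Cfsg.Agent.Lib.Helper26.McLBasic
import Cfsg.Agent.Lib.Helper26.McLMore

/-!
S5075 (McLaughlin over `ZMod p`; helper26's market), leaves EXT `exists_ext` and FORM `exists_form`
(exact signatures of `notes/S5075_leaves.lean`).
-/

set_option autoImplicit false
set_option linter.unusedSectionVars false
set_option linter.unusedVariables false

namespace Cfsg.Agent.Lib.Helper9.McLLeaf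
open Module Cfsg.Agent.Lib.Helper26.McL

universe u
variable {p : ℕ} [Fact p.Prime] {V : Type u} [AddCommGroup V] [Module (ZMod p) V]
variable {K : Subgroup (V ≃ₗ[ZMod p] V)}

/-- **EXT**. -/
theorem exists_ext [Finite V]
    (hall : ∀ x ∈ Nsp K, x ≠ 0 → IsCtr K x)
    (hadj : ∀ v y, IsCtr K v → IsCtr K y →
      (∀ a b : ZMod p, a • v + b • y = 0 → a = 0 ∧ b = 0) → Arr K v y)
    {v : V} (hv : v ∈ Nsp K) (hv0 : v ≠ 0) (ψ : Dual (ZMod p) ↥(Nsp K)) (hψ : ψ ⟨v, hv⟩ = 0) :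
    ∃ φ ∈ Phi K v, φ ∘ₗ (Nsp K).subtype = ψ := by
  have hfin : FiniteDimensional (ZMod p) V := Module.Finite.of_finite
  set R : Submodule (ZMod p) (Dual (ZMod p) ↥(Nsp K)) :=
    (Phi K v).map (LinearMap.dualMap (Nsp K).subtype) with hR
  have hmem : ψ ∈ R := by
    rw [← Subspace.dualCoannihilator_dualAnnihilator_eq (W := R), Submodule.mem_dualAnnihilator]
    intro x hx
    rw [Submodule.mem_dualCoannihilator] at hx
    have hx' : ∀ φ ∈ Phi K v, φ (x : V) = 0 := by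
      intro φ hφ
      exact hx (LinearMap.dualMap (Nsp K).subtype φ) (Submodule.mem_map_of_mem hφ)
    by_cases hxv : ∃ c : ZMod p, (x : V) = c • v
    · obtain ⟨c, hc⟩ := hxv
      have hxe : x = c • (⟨v, hv⟩ : ↥(Nsp K)) := Subtype.ext hc
      rw [hxe, map_smul, hψ, smul_zero]
    · exfalso
      have hx0 : (x : V) ≠ 0 := fun h0 => hxv ⟨0, by rw [h0, zero_smul]⟩
      have hcx := hall x x.2 hx0
      have hcv := hall v hv hv0
      have hli : ∀ a b : ZMod p, a • v + b • (x : V) = 0 → a = 0 ∧ b = 0 := by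
        intro a b hab
        by_cases hb : b = 0
        · subst hb
          rw [zero_smul, add_zero] at hab
          exact ⟨(smul_eq_zero.mp hab).resolve_right hv0, rfl⟩
        · exfalso
          apply hxv
          refine ⟨-(b⁻¹ * a), ?_⟩
          have h1 : b • (x : V) = -(a • v) := eq_neg_of_add_eq_zero_right hab
          have h2 : (x : V) = b⁻¹ • (b • (x : V)) := by
            rw [smul_smul, inv_mul_cancel₀ hb, one_smul]
          rw [h2, h1, smul_neg, smul_smul, neg_smul]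
      obtain ⟨φ, hφ, hφx⟩ := hadj v x hcv hcx hli
      exact hφx (hx' φ hφ)
  obtain ⟨φ, hφ, hφψ⟩ := hmem
  exact ⟨φ, hφ, hφψ⟩

/-- **FORM**. -/
theorem exists_form [Finite V] (hG : Geo K) (hall : ∀ x ∈ Nsp K, x ≠ 0 → IsCtr K x)
    (hd : ∀ v, IsCtr K v → finrank (ZMod p) (Phi K v) = 1)
    (hpol : ∀ (Φ : ↥(Nsp K) → Submodule (ZMod p) (Dual (ZMod p) ↥(Nsp K))),
      (∀ v, v ≠ 0 → finrank (ZMod p) (Φ v) = 1) → (∀ v, ∀ φ ∈ Φ v, φ v = 0) →
      (∀ v w, v ≠ 0 → w ≠ 0 → ∀ φ ∈ Φ v, ∀ ψ ∈ Φ w, ψ - ψ v • φ ∈ Φ (w + φ w • v)) →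
      ∃ B : LinearMap.BilinForm (ZMod p) ↥(Nsp K), B.IsAlt ∧ B.Nondegenerate ∧
        ∀ v, v ≠ 0 → Φ v = Submodule.span (ZMod p) {B v}) :
    ∃ B : LinearMap.BilinForm (ZMod p) ↥(Nsp K), B.IsAlt ∧ B.Nondegenerate ∧
      ∀ (v : V) (hv : v ∈ Nsp K), v ≠ 0 →
        (Phi K v).map (LinearMap.dualMap (Nsp K).subtype) =
          Submodule.span (ZMod p) {B ⟨v, hv⟩} := by
  have hfin : FiniteDimensional (ZMod p) V := Module.Finite.of_finite
  set res : Dual (ZMod p) V →ₗ[ZMod p] Dual (ZMod p) ↥(Nsp K) :=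
    LinearMap.dualMap (Nsp K).subtype with hres
  have hres_apply : ∀ (φ : Dual (ZMod p) V) (x : ↥(Nsp K)), res φ x = φ (x : V) := fun φ x => rfl
  have c1 : ∀ v : ↥(Nsp K), v ≠ 0 → finrank (ZMod p) ((Phi K (v : V)).map res) = 1 := by
    intro v hv0
    have hv0' : (v : V) ≠ 0 := fun h0 => hv0 (Subtype.ext h0)
    have hinj : Function.Injective (res.domRestrict (Phi K (v : V))) := by
      rw [injective_iff_map_eq_zero]
      intro φ hφ
      by_contra hne
      have hne' : (φ : Dual (ZMod p) V) ≠ 0 := fun h0 => hne (Subtype.ext h0)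
      obtain ⟨w, hw, hφw⟩ := hG.noN (v : V) hv0' φ φ.2 hne'
      apply hφw
      have h1 : res (φ : Dual (ZMod p) V) ⟨w, isCtr_mem_Nsp hw⟩ = 0 := by
        have h2 : res.domRestrict (Phi K (v : V)) φ = 0 := hφ
        rw [LinearMap.domRestrict_apply] at h2
        rw [h2]
        rfl
      exact h1
    rw [← LinearMap.range_domRestrict, LinearMap.finrank_range_of_inj hinj]
    exact hd (v : V) (hall v v.2 hv0')
  have c2 : ∀ v : ↥(Nsp K), ∀ φ ∈ (Phi K (v : V)).map res, φ v = 0 := by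
    rintro v _ ⟨φ, hφ, rfl⟩
    rw [hres_apply]
    exact phi_self hφ
  have c3 : ∀ v w : ↥(Nsp K), v ≠ 0 → w ≠ 0 → ∀ φ ∈ (Phi K (v : V)).map res,
      ∀ ψ ∈ (Phi K (w : V)).map res,
        ψ - ψ v • φ ∈ (Phi K ((w + φ w • v : ↥(Nsp K)) : V)).map res := by
    rintro v w hv0 hw0 _ ⟨φ, hφ, rfl⟩ _ ⟨ψ, hψ, rfl⟩
    have hg : tv φ (v : V) ∈ K := tv_mem_of_mem_Phi hφ
    have hφv : φ (v : V) = 0 := phi_self hφ
    have h1 := dconj_mem_Phi hg hψ
    rw [tv_apply hφv] at h1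
    refine ⟨dconj (tv φ (v : V)) ψ, ?_, ?_⟩
    · simpa [hres_apply] using h1
    · apply LinearMap.ext
      intro x
      rw [hres_apply, dconj_apply, tv_inv hφv, tv_apply (by simp [hφv])]
      simp only [LinearMap.sub_apply, LinearMap.smul_apply, hres_apply, map_add, map_smul,
        LinearMap.neg_apply, smul_eq_mul]
      ring
  obtain ⟨B, hA, hN, hB⟩ := hpol (fun x => (Phi K (x : V)).map res) c1 c2 c3
  refine ⟨B, hA, hN, ?_⟩
  intro v hv hv0
  have hne : (⟨v, hv⟩ : ↥(Nsp K)) ≠ 0 := fun h0 => hv0 (congrArg Subtype.val h0)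
  exact hB ⟨v, hv⟩ hne

end Cfsg.Agent.Lib.Helper9.McLLeaf
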