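/-
helper9: S4638 leaf (INNER): orthonormality for integer combinations of the members of `B`.
-/
import Mathlib
import Cfsg.Agent.Lib.Helper27.KleinPIDefs
import Cfsg.Agent.Lib.Lead.CharOrtho

set_option autoImplicit false
set_option linter.unusedSectionVars false
set_option linter.deprecated false

namespace Cfsg.Agent.Lib.Helper9.KleinPIINNER

open Cfsg Cfsg.Agent.CharLib
open Cfsg.Agent.Lib.Helper27.KleinPI
open scoped ComplexConjugate

universe u

/-- (INNER) orthonormality: the inner product of two combinations of the members of `B`. -/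
theorem classInner_thetaFun {G : Type u} [Group G] [Fintype G] (B : Set (IrrCharacter G))
    (σ τ : IrrCharacter G → ℤ) :
    classInner (thetaFun B σ) (thetaFun B τ) = ((∑ᶠ χ ∈ B, σ χ * τ χ : ℤ) : ℂ) := by
  classical
  have hfin : B.Finite := Set.toFinite B
  have hθ : ∀ ρ : IrrCharacter G → ℤ,
      thetaFun B ρ = ∑ χ ∈ hfin.toFinset, (ρ χ : ℂ) • (χ : G → ℂ) := by
    intro ρ
    funext x
    unfold thetaFun
    rw [finsum_mem_eq_finite_toFinset_sum _ hfin, Finset.sum_apply]
    apply Finset.sum_congr rfl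
    intro χ _
    rw [Pi.smul_apply, smul_eq_mul]
  rw [hθ σ, hθ τ, classInner_sum_left, finsum_mem_eq_finite_toFinset_sum _ hfin]
  push_cast
  apply Finset.sum_congr rfl
  intro χ hχ
  rw [classInner_smul_left, classInner_sum_right]
  have : ∀ ψ ∈ hfin.toFinset, classInner (χ : G → ℂ) ((τ ψ : ℂ) • (ψ : G → ℂ)) =
      if χ = ψ then (τ ψ : ℂ) else 0 := by
    intro ψ _
    rw [classInner_smul_right, classInner_irr']
    have hc : conj ((τ ψ : ℤ) : ℂ) = (τ ψ : ℂ) := by
      rw [← Complex.ofReal_intCast, Complex.conj_ofReal]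
    rw [hc]
    split_ifs <;> simp
  rw [Finset.sum_congr rfl this, Finset.sum_ite_eq, if_pos hχ]

end Cfsg.Agent.Lib.Helper9.KleinPIINNER
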