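import Cfsg.Agent.Lib.Helper27.SpMDefs
import Cfsg.Agent.Lib.Helper27.SLMN1
import Cfsg.Agent.Lib.Helper12.SpA
import Cfsg.Agent.Lib.Helper13.SpTSB
import Cfsg.Agent.Lib.Helper5.Symp

/-!
# SpnMax market (helper27), block N, leaves N1 `ndec_card`, N1b `two_le_finrank_of_nondeg`, N4 `even_of_symplecticForm`
(helper9).  Exact signatures of `notes/SpnMax_leaves.lean`.
-/

set_option autoImplicit false
set_option linter.unusedSectionVars false
set_option linter.unusedVariables false

namespace Cfsg.Agent.Lib.Helper9.SpMLeaf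

open Cfsg Cfsg.Geo Matrix Module Cfsg.Agent.Lib.Helper27.SpM

variable {m : ℕ} {F : Type*} [Field F] [Fintype F]

/-- the standard symplectic form as a Mathlib bilinear form -/
noncomputable def sympB (m : ℕ) (F : Type*) [Field F] : LinearMap.BilinForm F (Fin m ⊕ Fin m → F) :=
  LinearMap.mk₂ F (sympForm m F) Cfsg.Agent.Lib.Helper5.sympForm_add_left
    Cfsg.Agent.Lib.Helper5.sympForm_smul_left Cfsg.Agent.Lib.Helper5.sympForm_add_right
    Cfsg.Agent.Lib.Helper5.sympForm_smul_right

theorem sympB_apply (u v : Fin m ⊕ Fin m → F) : sympB m F u v = sympForm m F u v := rfl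

theorem sympB_alt (v : Fin m ⊕ Fin m → F) : sympB m F v v = 0 :=
  Cfsg.Agent.Lib.Helper5.sympForm_self m v

theorem ndOn_of_isNondegenerateOn {W : Submodule F (Fin m ⊕ Fin m → F)}
    (hW : IsNondegenerateOn (sympForm m F) W) : Cfsg.Agent.Lib.Helper12.Sp.NdOn (sympB m F) W := by
  intro u hu hu0
  obtain ⟨-, x, hx, hne⟩ := hW u hu hu0
  exact ⟨x, hx, hne⟩

/-- N1.  `2m = finrank (⨆ D i) = Σ finrank (D i) = t k`, and a non-degenerate subspace for an alternating form has even
dimension. -/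
theorem ndec_card {t k : ℕ} {D : Fin t → Submodule F (Fin m ⊕ Fin m → F)}
    (hD : IsNondegenerateMDecomposition (sympForm m F) k D) : t * k = 2 * m ∧ Even k := by
  constructor
  · have h := Cfsg.Agent.Lib.Helper27.SLMLeaf.finrank_eq_sum_of_indep D hD.decomp.indep hD.decomp.iSup_eq_top
    rw [Module.finrank_pi, Fintype.card_sum, Fintype.card_fin] at h
    rw [Finset.sum_congr rfl (fun i _ => hD.decomp.finrank_eq i), Finset.sum_const, Finset.card_univ,
      Fintype.card_fin, smul_eq_mul] at h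
    omega
  · have ht : 0 < t := by have := hD.decomp.two_le; omega
    have h := Cfsg.Agent.Lib.Helper12.Sp.even_finrank_of_ndOn (sympB m F) sympB_alt (D ⟨0, ht⟩)
      (ndOn_of_isNondegenerateOn (hD.nondegenerate ⟨0, ht⟩))
    rwa [hD.decomp.finrank_eq] at h

/-- N1b.  `w ∈ W` non-zero, `x ∈ W` with `f x w ≠ 0`: `x, w` are independent (`f w w = 0`). -/
theorem two_le_finrank_of_nondeg {W : Submodule F (Fin m ⊕ Fin m → F)} (h0 : W ≠ ⊥)
    (hW : IsNondegenerateOn (sympForm m F) W) : 2 ≤ finrank F W := by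
  have h := Cfsg.Agent.Lib.Helper12.Sp.even_finrank_of_ndOn (sympB m F) sympB_alt W
    (ndOn_of_isNondegenerateOn hW)
  have hpos : 0 < finrank F W := by
    rw [Module.finrank_pos_iff]
    exact Submodule.nontrivial_iff_ne_bot.2 h0
  obtain ⟨j, hj⟩ := h
  omega

/-- N4.  A non-degenerate alternating form lives in even dimension. -/
theorem even_of_symplecticForm {n : ℕ} {f₁ : (Fin n → F) → (Fin n → F) → F} (hf₁ : IsSymplecticForm f₁) : Even n :=
  (Cfsg.Agent.Lib.Helper13.SpTLeaf.exists_symp_basis f₁ hf₁).1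

end Cfsg.Agent.Lib.Helper9.SpMLeaf
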