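import Mathlib
import Cfsg.Prelude.Def_GeometricClasses
import Cfsg.Agent.Lib.Helper18.ReidxDefs
import Cfsg.Agent.Lib.Helper9.ReidxP0b
import Cfsg.Agent.Lib.Helper9.ReidxP2

/-!
REINDEX / TRANSPORT block (helper18's market), packet P4: scalars, irreducibility, realisability.
Exact signatures of `notes/Reidx_leaves.lean`.
-/

set_option autoImplicit false
set_option linter.unusedSectionVars false
set_option linter.unusedVariables false

namespace Cfsg.Agent.Lib.Helper9.ReidxLeaf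
open Matrix Cfsg Cfsg.Geo Cfsg.Agent.Lib.Helper18.Reidx
open scoped Kronecker

variable {F : Type*} [Field F] {ι κ : Type} [Fintype ι] [DecidableEq ι] [Fintype κ] [DecidableEq κ]

lemma rm_smul_one' (e : ι ≃ κ) (c : F) : rm e (c • (1 : Matrix ι ι F)) = c • (1 : Matrix κ κ F) := by
  unfold rm
  rw [← Matrix.reindexAlgEquiv_apply F F e, map_smul, map_one]

theorem rg_scalars (e : ι ≃ κ) : rg e (scalars ι F) = scalars κ F := by
  ext g
  rw [mem_rg, mem_scalars_iff]
  constructor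
  · rintro ⟨h, hh, rfl⟩
    obtain ⟨c, hc⟩ := (mem_scalars_iff h).mp hh
    exact ⟨c, by rw [glReindex_val, hc, rm_smul_one']⟩
  · rintro ⟨c, hc⟩
    refine ⟨glReindex e.symm g, ?_, glReindex_symm' e g⟩
    rw [mem_scalars_iff]
    exact ⟨c, by rw [glReindex_val, hc, rm_smul_one']⟩

theorem matrixSet_rg (e : ι ≃ κ) (H : Subgroup (GL ι F)) : matrixSet (rg e H) = rm e '' matrixSet H := by
  ext M
  unfold matrixSet
  constructor
  · rintro ⟨g, hg, rfl⟩
    obtain ⟨h, hh, rfl⟩ := mem_rg.mp hg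
    exact ⟨(h : Matrix ι ι F), ⟨h, hh, rfl⟩, rfl⟩
  · rintro ⟨N, ⟨h, hh, rfl⟩, rfl⟩
    exact ⟨glReindex e h, mem_rg.mpr ⟨h, hh, rfl⟩, rfl⟩

theorem actsIrreducibly_rm (e : ι ≃ κ) {S : Set (Matrix ι ι F)} (h : ActsIrreducibly S) :
    ActsIrreducibly (rm e '' S) := by
  intro W hW
  have hW' : ∀ s ∈ S, (rs e.symm W).map (Matrix.toLin' s) ≤ rs e.symm W := by
    intro s hs
    have h1 := hW (rm e s) ⟨s, hs, rfl⟩
    have h2 := rs_mono e.symm h1
    rw [← rs_map_toLin', rm_symm_rm'] at h2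
    exact h2
  have hW2 : rs e (rs e.symm W) = W := rs_symm e.symm W
  rcases h (rs e.symm W) hW' with h0 | h0
  · left
    exact (rs_eq_bot_iff e.symm W).mp h0
  · right
    exact (rs_eq_top_iff e.symm W).mp h0

theorem actsAbsolutelyIrreducibly_rm (e : ι ≃ κ) {S : Set (Matrix ι ι F)} (h : ActsAbsolutelyIrreducibly S) :
    ActsAbsolutelyIrreducibly (rm e '' S) := by
  refine ⟨actsIrreducibly_rm e h.1, ?_⟩
  intro M hM
  have h1 : ∀ s ∈ S, rm e.symm M * s = s * rm e.symm M := by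
    intro s hs
    have := hM (rm e s) ⟨s, hs, rfl⟩
    apply rm_injective' e
    rw [rm_mul', rm_mul', rm_rm_symm', this]
  obtain ⟨c, hc⟩ := h.2 (rm e.symm M) h1
  refine ⟨c, ?_⟩
  have := congrArg (rm e) hc
  rwa [rm_rm_symm', rm_smul_one'] at this

theorem realisableOver_rm (e : ι ≃ κ) {F₀ : Subfield F} {S : Set (Matrix ι ι F)} (h : RealisableOver F₀ S) :
    RealisableOver F₀ (rm e '' S) := by
  obtain ⟨B, hB⟩ := h
  refine ⟨glReindex e B, ?_⟩
  rintro _ ⟨s, hs, rfl⟩ i j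
  rw [glReindex_val, glReindex_inv_val, ← rm_mul', ← rm_mul', rm_apply]
  exact hB s hs (e.symm i) (e.symm j)

end Cfsg.Agent.Lib.Helper9.ReidxLeaf
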