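import Cfsg.Agent.Lib.Helper27.SpMDefs
import Cfsg.Agent.Lib.Helper27.AschA7L2
import Cfsg.Agent.Lib.Helper12.AschBurnside
import Cfsg.Agent.Lib.Helper20.SympFour
import Cfsg.Agent.Lib.Helper9.ReidxP4
import Cfsg.Agent.Lib.Helper7.ReidxP0c

/-!
# SpnMax market (helper27), block N, leaf N6 `c6_card` (helper9).  Exact signature of `notes/SpnMax_leaves.lean`.

`R` a 2-group of symplectic type, exponent 4, centre of order 2, absolutely irreducible on `F^{2m}`: commutators lie in
the centre (helper20 `SympFour.comm_eq`), the centre is scalar, so (helper27 `card_eq_sq_mul`, after reindexing to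
`Fin (m+m)`) `|R| = (2m)^2 |Z(R)|`, whence `2m = 2^k`.
-/

set_option autoImplicit false
set_option linter.unusedSectionVars false
set_option linter.unusedVariables false

namespace Cfsg.Agent.Lib.Helper9.SpMLeaf

open Cfsg Cfsg.Geo Matrix Module Cfsg.Agent.Lib.Helper27.SpM
open scoped commutatorElement

variable {m : ℕ} {F : Type*} [Field F] [Fintype F]

section gen
variable {ι : Type} [Fintype ι] [DecidableEq ι]

/-- a central element of an absolutely irreducible subgroup is scalar -/
theorem center_mem_scalars {R : Subgroup (GL ι F)} (habs : ActsAbsolutelyIrreducibly (matrixSet R))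
    (z : R) (hz : ∀ q : R, q * z = z * q) : (z : GL ι F) ∈ scalars ι F := by
  by_cases hι : IsEmpty ι
  · -- the empty case: every matrix is scalar
    rw [mem_scalars_iff]
    exact ⟨1, by ext i; exact (hι.false i).elim⟩
  rw [not_isEmpty_iff] at hι
  obtain ⟨c, hc⟩ := habs.2 ((z : GL ι F) : Matrix ι ι F) (by
    rintro _ ⟨g, hg, rfl⟩
    have h := hz ⟨g, hg⟩
    have h' := congrArg (fun x : R => (((x : GL ι F)) : Matrix ι ι F)) h
    simp only [Subgroup.coe_mul, Units.val_mul] at h'
    exact h'.symm)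
  have hc0 : c ≠ 0 := by
    rintro rfl
    rw [zero_smul] at hc
    have h1 := congrArg Matrix.det hc
    have h2 : IsUnit ((z : GL ι F) : Matrix ι ι F).det :=
      (Matrix.isUnit_iff_isUnit_det _).1 (Units.isUnit _)
    rw [h1, Matrix.det_zero] at h2
    exact absurd h2 not_isUnit_zero
  rw [mem_scalars_iff]
  exact ⟨Units.mk0 c hc0, hc⟩

/-- symplectic type 2-group with centre of order 2, absolutely irreducible: commutators are scalar -/
theorem commutator_le_scalars_of_symplecticType {R : Subgroup (GL ι F)}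
    (hR : IsSymplecticTypeGroup 2 R) (habs : ActsAbsolutelyIrreducibly (matrixSet R))
    (hZ : Nat.card (Subgroup.center R) = 2) : ⁅R, R⁆ ≤ scalars ι F := by
  classical
  have : Finite R := inferInstance
  -- the central involution
  haveI : Fact (Nat.Prime 2) := ⟨Nat.prime_two⟩
  have hcyc : IsCyclic (Subgroup.center R) := isCyclic_of_prime_card hZ
  obtain ⟨z0, hz0⟩ : ∃ z : Subgroup.center R, z ≠ 1 := by
    by_contra hcon
    push Not at hcon
    have : Nat.card (Subgroup.center R) = 1 := by
      rw [Nat.card_eq_one_iff_unique]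
      exact ⟨⟨fun a b => by rw [hcon a, hcon b]⟩, ⟨1⟩⟩
    omega
  have hz0sq : z0 * z0 = 1 := by
    have h := pow_card_eq_one' (G := Subgroup.center R) (x := z0)
    rw [hZ, pow_two] at h
    exact h
  set z : R := (z0 : R) with hzdef
  have hz1 : z ≠ 1 := fun h => hz0 (Subtype.ext h)
  have hzz : z * z = 1 := by
    have := congrArg (fun x : Subgroup.center R => (x : R)) hz0sq
    simpa using this
  have hzc : ∀ q : R, q * z = z * q := fun q => (Subgroup.mem_center_iff.1 z0.2 q)
  have h4 : ∀ q : R, q ^ 4 = 1 := by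
    intro q
    have h := Monoid.pow_exponent_eq_one q
    rw [hR.exponent_eq] at h
    exact h
  obtain ⟨hcomm, -⟩ := Cfsg.Agent.Lib.Helper20.SympFour.comm_eq hR.pGroup hR.cyclic_of_characteristic
    h4 z hz1 hzz hzc
  have hzs : (z : GL ι F) ∈ scalars ι F := center_mem_scalars habs z hzc
  rw [Subgroup.commutator_le]
  intro a ha b hb
  rcases hcomm ⟨a, ha⟩ ⟨b, hb⟩ with h | h
  · have h' := congrArg (fun x : R => (x : GL ι F)) h
    simp only [commutatorElement_def, Subgroup.coe_mul, Subgroup.coe_inv, Subgroup.coe_one] at h'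
    rw [commutatorElement_def, h']
    exact Subgroup.one_mem _
  · have h' := congrArg (fun x : R => (x : GL ι F)) h
    simp only [commutatorElement_def, Subgroup.coe_mul, Subgroup.coe_inv] at h'
    rw [commutatorElement_def, h']
    exact hzs

end gen

/-- N6. -/
theorem c6_card (hm : 1 ≤ m) (hodd : Odd (Fintype.card F)) {R : Subgroup (GL (Fin m ⊕ Fin m) F)} {k : ℕ}
    (hR : IsSymplecticTypeGroup 2 R) (habs : ActsAbsolutelyIrreducibly (matrixSet R))
    (hcard : Nat.card R = 2 ^ (1 + 2 * k)) (hZ : Nat.card (Subgroup.center R) = 2) : 2 * m = 2 ^ k := by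
  classical
  let e : Fin m ⊕ Fin m ≃ Fin (m + m) := finSumFinEquiv
  set N : Subgroup (GL (Fin (m + m)) F) := Cfsg.Agent.Lib.Helper18.Reidx.rg e R with hN
  have habsN : Cfsg.Agent.Lib.Helper20.Asch.AbsIrr N := by
    unfold Cfsg.Agent.Lib.Helper20.Asch.AbsIrr
    rw [hN, Cfsg.Agent.Lib.Helper9.ReidxLeaf.matrixSet_rg]
    exact Cfsg.Agent.Lib.Helper9.ReidxLeaf.actsAbsolutelyIrreducibly_rm e habs
  have henv := Cfsg.Agent.Lib.Helper12.AschLeaf.burnside habsN
  have hcomm : ⁅N, N⁆ ≤ scalars (Fin (m + m)) F := by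
    rw [hN, ← Cfsg.Agent.Lib.Helper7.ReidxLeaf.rg_commutator, ← Cfsg.Agent.Lib.Helper9.ReidxLeaf.rg_scalars e]
    exact Cfsg.Agent.Lib.Helper7.ReidxLeaf.rg_mono e (commutator_le_scalars_of_symplecticType hR habs hZ)
  have hmain := Cfsg.Agent.Lib.Helper27.AschA7Leaf.card_eq_sq_mul (by omega : 0 < m + m) habsN henv hcomm
  -- transport the cardinalities
  have hinj : Function.Injective (glReindex (F := F) e).toMonoidHom := (glReindex e).injective
  let φ : R ≃* N := Subgroup.equivMapOfInjective R _ hinj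
  have h1 : Nat.card N = Nat.card R := (Nat.card_congr φ.toEquiv).symm
  have h2 : Nat.card (Subgroup.center N) = Nat.card (Subgroup.center R) :=
    (Nat.card_congr (Subgroup.centerCongr φ).toEquiv).symm
  rw [h1, h2, hcard, hZ] at hmain
  -- `2^(1+2k) = (m+m)^2 * 2`
  have h3 : (2 ^ k) * (2 ^ k) = (m + m) * (m + m) := by
    have : 2 ^ (1 + 2 * k) = 2 * (2 ^ k * 2 ^ k) := by ring
    rw [this] at hmain
    omega
  have h4 : 2 ^ k = m + m := Nat.mul_self_inj.1 h3
  omega

end Cfsg.Agent.Lib.Helper9.SpMLeaf
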