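import Cfsg.Agent.Lib.Helper9.SpMS8b
import Cfsg.Agent.Lib.Helper5.TensorGen
import Cfsg.Agent.Lib.Helper5.SpMax
import Cfsg.Agent.Lib.Helper5.Symp

/-!
# SpnMax stage 2 (helper27), leaf S8c `tensor_plus_le_wreath` (helper9).  Exact signature of `notes/SpnMax_stage2_leaves.lean`.

`q` odd: the `C4` subgroup `Sp_2 ⊗ O_4^+` of `Sp_8(q)` lies properly inside a `C7` subgroup `Sp_2 ≀ S_3`.  By S8a there is a basis
`B`, `ε : Fin 4 ≃ Fin 2 × Fin 2` with `f₂ (B(x∘ε)) (B(y∘ε)) = detForm x y` and `detForm (u vᵀ) (u' v'ᵀ) = ω(u,u') ω(v,v')`; so with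
`P' = P (1 ⊗ B)` and `e' = e ≫ tau3 ε` the form is `c' · ω ⊗ ω ⊗ ω`.  An element `a ⊗ b` of the `C4` stabiliser in `Sp` has `b` a
similarity of `f₂`; by S8b `B⁻¹ b B = b₁ ⊗ b₂` or `(b₁ ⊗ b₂) swap`, so the element is a pure tensor times possibly the factor
transposition `(1 2)`.  The factor transposition `(0 1)` is in the wreath group and in `Sp`, but not of the shape `a ⊗ b`.
-/

set_option autoImplicit false
set_option linter.unusedSectionVars false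
set_option linter.unusedVariables false

namespace Cfsg.Agent.Lib.Helper9.SpMLeaf

open Cfsg Cfsg.Geo Matrix Module Cfsg.Agent.Lib.Helper27.SpM
open scoped Kronecker

section generic
variable {F : Type*} [Field F] {ι κ : Type} [Fintype ι] [DecidableEq ι] [Fintype κ] [DecidableEq κ]

/-- the conjugate by `P` of the element `w` reindexed along `e` -/
def cjr (e : ι ≃ κ) (P : GL ι F) (w : GL κ F) : GL ι F :=
  (MulAut.conj P).toMonoidHom ((glReindex (F := F) e.symm).toMonoidHom w)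

lemma cjr_val (e : ι ≃ κ) (P : GL ι F) (w : GL κ F) :
    ((cjr e P w : GL ι F) : Matrix ι ι F) =
      (P : Matrix ι ι F) * ((w : Matrix κ κ F).submatrix e e) * ((P⁻¹ : GL ι F) : Matrix ι ι F) := rfl

lemma cjr_mulVec (e : ι ≃ κ) (P : GL ι F) (w : GL κ F) (x : κ → F) :
    ((cjr e P w : GL ι F) : Matrix ι ι F) *ᵥ ((P : Matrix ι ι F) *ᵥ (x ∘ e)) =
      (P : Matrix ι ι F) *ᵥ (((w : Matrix κ κ F) *ᵥ x) ∘ e) := by
  rw [cjr_val, Matrix.mulVec_mulVec, mul_assoc, ← Units.val_mul, inv_mul_cancel, Units.val_one, mul_one,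
    ← Matrix.mulVec_mulVec, Matrix.submatrix_mulVec_equiv, Function.comp_assoc, Equiv.self_comp_symm,
    Function.comp_id]

lemma gl_vec_repr (e : ι ≃ κ) (P : GL ι F) (v : ι → F) :
    (P : Matrix ι ι F) *ᵥ (((((P⁻¹ : GL ι F) : Matrix ι ι F) *ᵥ v) ∘ e.symm) ∘ e) = v := by
  rw [Function.comp_assoc, Equiv.symm_comp_self, Function.comp_id, Matrix.mulVec_mulVec, ← Units.val_mul,
    mul_inv_cancel, Units.val_one, Matrix.one_mulVec]

lemma eq_cjr_of_mulVec (e : ι ≃ κ) (P : GL ι F) (w : GL κ F) (g : GL ι F)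
    (h : ∀ x : κ → F, (g : Matrix ι ι F) *ᵥ ((P : Matrix ι ι F) *ᵥ (x ∘ e)) =
      (P : Matrix ι ι F) *ᵥ (((w : Matrix κ κ F) *ᵥ x) ∘ e)) : g = cjr e P w := by
  apply Units.ext
  apply Matrix.toLin'.injective
  apply LinearMap.ext
  intro v
  rw [Matrix.toLin'_apply, Matrix.toLin'_apply, ← gl_vec_repr e P v, h, cjr_mulVec]

lemma gl_mulVec_injective (P : GL ι F) : Function.Injective ((P : Matrix ι ι F).mulVec) := by
  intro u v huv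
  have := congrArg (((P⁻¹ : GL ι F) : Matrix ι ι F).mulVec) huv
  simpa [Matrix.mulVec_mulVec, ← Units.val_mul] using this

lemma mem_tp_iff {n₁ n₂ : ℕ} (e : ι ≃ Fin n₁ × Fin n₂) (P g : GL ι F) :
    g ∈ tensorProductSubgroup n₁ n₂ e P ↔ ∃ k ∈ kroneckerSubgroup n₁ n₂ F, g = cjr e P k := by
  constructor
  · rintro ⟨y, ⟨k, hk, rfl⟩, rfl⟩
    exact ⟨k, hk, rfl⟩
  · rintro ⟨k, hk, rfl⟩
    exact ⟨_, ⟨k, hk, rfl⟩, rfl⟩

lemma mem_tw_iff {m t : ℕ} (e : ι ≃ (Fin t → Fin m)) (P g : GL ι F) :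
    g ∈ tensorWreathSubgroup m t e P ↔ ∃ w ∈ tensorWreathStandard m t F, g = cjr e P w := by
  constructor
  · rintro ⟨y, ⟨k, hk, rfl⟩, rfl⟩
    exact ⟨k, hk, rfl⟩
  · rintro ⟨k, hk, rfl⟩
    exact ⟨_, ⟨k, hk, rfl⟩, rfl⟩

end generic

section setup
variable {F : Type*} [Field F]

/-- `Fin 2 × Fin 4 ≃ (Fin 3 → Fin 2)` through `ε : Fin 4 ≃ Fin 2 × Fin 2` -/
def tau3 (ε : Fin 4 ≃ Fin 2 × Fin 2) : Fin 2 × Fin 4 ≃ (Fin 3 → Fin 2) where
  toFun p := ![p.1, (ε p.2).1, (ε p.2).2]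
  invFun a := (a 0, ε.symm (a 1, a 2))
  left_inv := by rintro ⟨i, m⟩; simp
  right_inv := by intro a; ext j; fin_cases j <;> simp

lemma tau3_zero (ε : Fin 4 ≃ Fin 2 × Fin 2) (p : Fin 2 × Fin 4) : tau3 ε p 0 = p.1 := rfl
lemma tau3_one (ε : Fin 4 ≃ Fin 2 × Fin 2) (p : Fin 2 × Fin 4) : tau3 ε p 1 = (ε p.2).1 := rfl
lemma tau3_two (ε : Fin 4 ≃ Fin 2 × Fin 2) (p : Fin 2 × Fin 4) : tau3 ε p 2 = (ε p.2).2 := rfl

/-- `1 ⊗ B` as an invertible matrix -/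
def kronOneGL (B : GL (Fin 4) F) : GL (Fin 2 × Fin 4) F :=
  ⟨(1 : Matrix (Fin 2) (Fin 2) F) ⊗ₖ (B : Matrix (Fin 4) (Fin 4) F),
    (1 : Matrix (Fin 2) (Fin 2) F) ⊗ₖ ((B⁻¹ : GL (Fin 4) F) : Matrix (Fin 4) (Fin 4) F),
    by rw [← Matrix.mul_kronecker_mul, one_mul, ← Units.val_mul, mul_inv_cancel, Units.val_one,
      Matrix.one_kronecker_one],
    by rw [← Matrix.mul_kronecker_mul, one_mul, ← Units.val_mul, inv_mul_cancel, Units.val_one,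
      Matrix.one_kronecker_one]⟩

lemma kronOneGL_val (B : GL (Fin 4) F) :
    ((kronOneGL B : GL (Fin 2 × Fin 4) F) : Matrix (Fin 2 × Fin 4) (Fin 2 × Fin 4) F) =
      (1 : Matrix (Fin 2) (Fin 2) F) ⊗ₖ (B : Matrix (Fin 4) (Fin 4) F) := rfl

lemma kronOneGL_inv_val (B : GL (Fin 4) F) :
    (((kronOneGL B)⁻¹ : GL (Fin 2 × Fin 4) F) : Matrix (Fin 2 × Fin 4) (Fin 2 × Fin 4) F) =
      (1 : Matrix (Fin 2) (Fin 2) F) ⊗ₖ ((B⁻¹ : GL (Fin 4) F) : Matrix (Fin 4) (Fin 4) F) := rfl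

variable {ι : Type} [Fintype ι] [DecidableEq ι]

/-- the new base change `P' = P (1 ⊗ B)` -/
def P3 (e : ι ≃ Fin 2 × Fin 4) (P : GL ι F) (B : GL (Fin 4) F) : GL ι F :=
  P * (glReindex (F := F) e.symm) (kronOneGL B)

lemma P3_val (e : ι ≃ Fin 2 × Fin 4) (P : GL ι F) (B : GL (Fin 4) F) :
    ((P3 e P B : GL ι F) : Matrix ι ι F) = (P : Matrix ι ι F) *
      (((1 : Matrix (Fin 2) (Fin 2) F) ⊗ₖ (B : Matrix (Fin 4) (Fin 4) F)).submatrix e e) := rfl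

/-- Lemma A -/
lemma P3_mulVec (e : ι ≃ Fin 2 × Fin 4) (P : GL ι F) (B : GL (Fin 4) F) (ε : Fin 4 ≃ Fin 2 × Fin 2)
    (x : (Fin 3 → Fin 2) → F) :
    ((P3 e P B : GL ι F) : Matrix ι ι F) *ᵥ (x ∘ (e.trans (tau3 ε))) =
      (P : Matrix ι ι F) *ᵥ ((((1 : Matrix (Fin 2) (Fin 2) F) ⊗ₖ (B : Matrix (Fin 4) (Fin 4) F)) *ᵥ
        (x ∘ tau3 ε)) ∘ e) := by
  rw [P3_val, ← Matrix.mulVec_mulVec]
  congr 1
  have : x ∘ (e.trans (tau3 ε)) = (x ∘ tau3 ε) ∘ e := rfl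
  rw [this, Matrix.submatrix_mulVec_equiv, Function.comp_assoc, Equiv.self_comp_symm, Function.comp_id]

/-- pure tensors of a vector of `F²` and a vector of `F^{2×2}` -/
def pt3 (u : Fin 2 → F) (w : Fin 2 × Fin 2 → F) : (Fin 3 → Fin 2) → F := fun a => u (a 0) * w (a 1, a 2)

open Cfsg.Agent.Lib.Helper5.TensorGen in
lemma pt3_comp_tau3 (ε : Fin 4 ≃ Fin 2 × Fin 2) (u : Fin 2 → F) (w : Fin 2 × Fin 2 → F) :
    pt3 u w ∘ tau3 ε = pt u (w ∘ ε) := by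
  ext ⟨i, m⟩
  simp [pt3, pt, tau3]

open Cfsg.Agent.Lib.Helper5.TensorGen in
/-- L1 -/
lemma P3_mulVec_pt3 (e : ι ≃ Fin 2 × Fin 4) (P : GL ι F) (B : GL (Fin 4) F) (ε : Fin 4 ≃ Fin 2 × Fin 2)
    (u : Fin 2 → F) (w : Fin 2 × Fin 2 → F) :
    ((P3 e P B : GL ι F) : Matrix ι ι F) *ᵥ (pt3 u w ∘ (e.trans (tau3 ε))) =
      tau e P u ((B : Matrix (Fin 4) (Fin 4) F) *ᵥ (w ∘ ε)) := by
  rw [P3_mulVec, pt3_comp_tau3, kron_mulVec_pt, Matrix.one_mulVec]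
  rfl

end setup
section form
variable {F : Type*} [Field F]

open Cfsg.Agent.Lib.Helper5 Cfsg.Agent.Lib.Helper5.TensorGen

/-- an alternating bilinear form on `F²` is a multiple of `om` -/
lemma symp2_eq {f₁ : (Fin 2 → F) → (Fin 2 → F) → F} (hf₁ : IsSymplecticForm f₁) (u u' : Fin 2 → F) :
    f₁ u u' = f₁ (Pi.single 0 1) (Pi.single 1 1) * om u u' := by
  rw [bf_eq_formOfGram f₁ hf₁.bilinear u u']
  unfold formOfGram gramMatrix
  simp only [Fin.sum_univ_two, id]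
  rw [hf₁.alternating, hf₁.alternating, hf₁.skew (Pi.single 1 1) (Pi.single 0 1)]
  unfold om; ring

lemma symp2_ne {f₁ : (Fin 2 → F) → (Fin 2 → F) → F} (hf₁ : IsSymplecticForm f₁) :
    f₁ (Pi.single 0 1) (Pi.single 1 1) ≠ 0 := by
  intro h
  have h0 : (Pi.single 0 1 : Fin 2 → F) ≠ 0 := by
    intro h'
    have := congrFun h' 0
    simp at this
  obtain ⟨-, x, hx⟩ := hf₁.nondegenerate _ h0
  rw [symp2_eq hf₁, h, zero_mul] at hx
  exact hx rfl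

lemma single_eq_op (j k : Fin 2) :
    (Pi.single (j, k) (1 : F) : Fin 2 × Fin 2 → F) = op (Pi.single j 1) (Pi.single k 1) := by
  ext ⟨j', k'⟩
  simp only [op, Pi.single_apply, Prod.mk.injEq]
  by_cases h1 : j' = j <;> by_cases h2 : k' = k <;> simp [h1, h2]

lemma single_eq_pt3 (a : Fin 3 → Fin 2) :
    (Pi.single a (1 : F) : (Fin 3 → Fin 2) → F) = pt3 (Pi.single (a 0) 1) (Pi.single (a 1, a 2) 1) := by
  ext a'
  simp only [pt3, Pi.single_apply, Prod.mk.injEq]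
  by_cases h : a' = a
  · subst h; simp
  · rw [if_neg h]
    by_cases h0 : a' 0 = a 0
    · by_cases h1 : a' 1 = a 1
      · by_cases h2 : a' 2 = a 2
        · exfalso; apply h; funext j; fin_cases j
          · exact h0
          · exact h1
          · exact h2
        · simp [h2]
      · simp [h1]
    · simp [h0]

variable {ι : Type} [Fintype ι] [DecidableEq ι]

/-- the form on the new pure tensors -/
lemma form_P3_pt3 (e : ι ≃ Fin 2 × Fin 4) (P : GL ι F) (f : (ι → F) → (ι → F) → F)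
    {f₁ : (Fin 2 → F) → (Fin 2 → F) → F} {f₂ : (Fin 4 → F) → (Fin 4 → F) → F}
    (hf₁ : IsSymplecticForm f₁) (hf₂ : IsSymmetricForm f₂) (c₀ : F)
    (hT : ∀ x y : Fin 2 × Fin 4 → F,
      f ((P : Matrix ι ι F) *ᵥ (x ∘ e)) ((P : Matrix ι ι F) *ᵥ (y ∘ e)) =
        c₀ * formOfGram id (gramMatrix f₁ ⊗ₖ gramMatrix f₂) x y)
    (ε : Fin 4 ≃ Fin 2 × Fin 2) (B : GL (Fin 4) F)
    (hB : ∀ x y : Fin 2 × Fin 2 → F,
      f₂ ((B : Matrix (Fin 4) (Fin 4) F) *ᵥ (x ∘ ε)) ((B : Matrix (Fin 4) (Fin 4) F) *ᵥ (y ∘ ε)) = detForm F x y)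
    (u u' : Fin 2 → F) (w w' : Fin 2 × Fin 2 → F) :
    f (((P3 e P B : GL ι F) : Matrix ι ι F) *ᵥ (pt3 u w ∘ (e.trans (tau3 ε))))
      (((P3 e P B : GL ι F) : Matrix ι ι F) *ᵥ (pt3 u' w' ∘ (e.trans (tau3 ε)))) =
      c₀ * (f₁ u u' * detForm F w w') := by
  rw [P3_mulVec_pt3, P3_mulVec_pt3, form_tau e P f f₁ hf₁.bilinear f₂ hf₂.bilinear c₀ hT, hB]

end form

section power
variable {F : Type*} [Field F]

open Cfsg.Agent.Lib.Helper5 Cfsg.Agent.Lib.Helper5.TensorGen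

/-- (i): the tensor power form structure -/
lemma isTensorPower_P3 (e : (Fin 4 ⊕ Fin 4) ≃ Fin 2 × Fin 4) (P : GL (Fin 4 ⊕ Fin 4) F)
    {f₁ : (Fin 2 → F) → (Fin 2 → F) → F} {f₂ : (Fin 4 → F) → (Fin 4 → F) → F}
    (hf₁ : IsSymplecticForm f₁) (hf₂ : IsSymmetricForm f₂) (c₀ : F) (hc₀ : c₀ ≠ 0)
    (hT : ∀ x y : Fin 2 × Fin 4 → F,
      sympForm 4 F ((P : Matrix _ _ F) *ᵥ (x ∘ e)) ((P : Matrix _ _ F) *ᵥ (y ∘ e)) =
        c₀ * formOfGram id (gramMatrix f₁ ⊗ₖ gramMatrix f₂) x y)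
    (ε : Fin 4 ≃ Fin 2 × Fin 2) (B : GL (Fin 4) F)
    (hB : ∀ x y : Fin 2 × Fin 2 → F,
      f₂ ((B : Matrix (Fin 4) (Fin 4) F) *ᵥ (x ∘ ε)) ((B : Matrix (Fin 4) (Fin 4) F) *ᵥ (y ∘ ε)) = detForm F x y) :
    IsTensorPowerFormStructure id (sympForm 4 F) f₁ (e.trans (tau3 ε)) (P3 e P B) := by
  set c₁ : F := f₁ (Pi.single 0 1) (Pi.single 1 1) with hc₁
  have hc₁0 : c₁ ≠ 0 := symp2_ne hf₁
  refine ⟨c₀ / c₁ ^ 2, div_ne_zero hc₀ (pow_ne_zero 2 hc₁0), ?_⟩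
  set Φ : ((Fin 3 → Fin 2) → F) → ((Fin 3 → Fin 2) → F) → F := fun x y =>
    sympForm 4 F (((P3 e P B : GL _ F) : Matrix _ _ F) *ᵥ (x ∘ (e.trans (tau3 ε))))
      (((P3 e P B : GL _ F) : Matrix _ _ F) *ᵥ (y ∘ (e.trans (tau3 ε)))) with hΦ
  have hbil : IsBilinearForm Φ := by
    refine ⟨?_, ?_, ?_, ?_⟩
    · intro x y v
      have : (x + y) ∘ (e.trans (tau3 ε)) = x ∘ (e.trans (tau3 ε)) + y ∘ (e.trans (tau3 ε)) := rfl
      simp only [hΦ]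
      rw [this, Matrix.mulVec_add, sympForm_add_left]
    · intro c x v
      have : (c • x) ∘ (e.trans (tau3 ε)) = c • (x ∘ (e.trans (tau3 ε))) := rfl
      simp only [hΦ]
      rw [this, Matrix.mulVec_smul, sympForm_smul_left]
    · intro v x y
      have : (x + y) ∘ (e.trans (tau3 ε)) = x ∘ (e.trans (tau3 ε)) + y ∘ (e.trans (tau3 ε)) := rfl
      simp only [hΦ]
      rw [this, Matrix.mulVec_add, sympForm_add_right]
    · intro c v x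
      have : (c • x) ∘ (e.trans (tau3 ε)) = c • (x ∘ (e.trans (tau3 ε))) := rfl
      simp only [hΦ]
      rw [this, Matrix.mulVec_smul, sympForm_smul_right]
  intro x y
  change Φ x y = _
  rw [bf_eq_formOfGram Φ hbil x y]
  unfold formOfGram
  rw [Finset.mul_sum]
  apply Finset.sum_congr rfl; intro a _
  rw [Finset.mul_sum]
  apply Finset.sum_congr rfl; intro b _
  have hG : gramMatrix Φ a b = c₀ / c₁ ^ 2 * ∏ i, gramMatrix f₁ (a i) (b i) := by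
    unfold gramMatrix
    simp only [hΦ]
    rw [single_eq_pt3 a, single_eq_pt3 b,
      form_P3_pt3 e P (sympForm 4 F) hf₁ hf₂ c₀ hT ε B hB, single_eq_op, single_eq_op, detForm_op,
      Fin.prod_univ_three, symp2_eq hf₁ (Pi.single (a 0) 1), symp2_eq hf₁ (Pi.single (a 1) 1),
      symp2_eq hf₁ (Pi.single (a 2) 1), ← hc₁]
    field_simp
  rw [hG]
  ring

end power
section fperm
variable {F : Type*} [Field F]

/-- the factor permutation matrix on `Fin 3 → Fin 2` -/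
def fpMat (σ : Equiv.Perm (Fin 3)) : Matrix (Fin 3 → Fin 2) (Fin 3 → Fin 2) F :=
  fun x y => if y = x ∘ σ then 1 else 0

lemma fpMat_mul (σ σ' : Equiv.Perm (Fin 3)) : (fpMat σ : Matrix _ _ F) * fpMat σ' = fpMat (σ * σ') := by
  ext x y
  rw [Matrix.mul_apply, Finset.sum_eq_single (x ∘ σ)]
  · show (if x ∘ σ = x ∘ σ then (1 : F) else 0) * (if y = (x ∘ σ) ∘ σ' then 1 else 0) =
      if y = x ∘ ⇑(σ * σ') then 1 else 0
    rw [if_pos rfl, one_mul]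
    rfl
  · intro z _ hz
    show (if z = x ∘ σ then (1 : F) else 0) * _ = 0
    rw [if_neg hz, zero_mul]
  · intro h; exact absurd (Finset.mem_univ _) h

lemma fpMat_one : (fpMat (1 : Equiv.Perm (Fin 3)) : Matrix _ _ F) = 1 := by
  ext x y
  show (if y = x ∘ ⇑(1 : Equiv.Perm (Fin 3)) then (1 : F) else 0) = (1 : Matrix _ _ F) x y
  by_cases h : x = y
  · subst h
    rw [Matrix.one_apply_eq, if_pos (show x = x ∘ ⇑(1 : Equiv.Perm (Fin 3)) from rfl)]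
  · rw [Matrix.one_apply_ne h, if_neg]
    intro h'; exact h h'.symm

/-- the factor permutation as an invertible matrix -/
def fpGL (σ : Equiv.Perm (Fin 3)) : GL (Fin 3 → Fin 2) F :=
  ⟨fpMat σ, fpMat σ⁻¹, by rw [fpMat_mul, mul_inv_cancel, fpMat_one],
    by rw [fpMat_mul, inv_mul_cancel, fpMat_one]⟩

lemma fpGL_val (σ : Equiv.Perm (Fin 3)) :
    ((fpGL σ : GL (Fin 3 → Fin 2) F) : Matrix (Fin 3 → Fin 2) (Fin 3 → Fin 2) F) = fpMat σ := rfl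

lemma fpGL_mem (σ : Equiv.Perm (Fin 3)) : (fpGL σ : GL (Fin 3 → Fin 2) F) ∈ tensorWreathStandard 2 3 F :=
  Subgroup.subset_closure (Or.inr ⟨σ, fun _ _ => rfl⟩)

lemma mul_fpMat_apply (N : Matrix (Fin 3 → Fin 2) (Fin 3 → Fin 2) F) (σ : Equiv.Perm (Fin 3))
    (x y : Fin 3 → Fin 2) :
    (N * (fpMat σ : Matrix (Fin 3 → Fin 2) (Fin 3 → Fin 2) F)) x y = N x (y ∘ ⇑(σ⁻¹ : Equiv.Perm (Fin 3))) := by
  rw [Matrix.mul_apply, Finset.sum_eq_single (y ∘ ⇑(σ⁻¹ : Equiv.Perm (Fin 3)))]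
  · have : y = (y ∘ ⇑(σ⁻¹ : Equiv.Perm (Fin 3))) ∘ σ := by
      ext i; simp
    simp only [fpMat]
    rw [if_pos this, mul_one]
  · intro z _ hz
    have : ¬ y = z ∘ σ := by
      intro h; apply hz; rw [h]; ext i; simp
    simp only [fpMat, if_neg this, mul_zero]
  · intro h; exact absurd (Finset.mem_univ _) h

lemma fpMat_mulVec (σ : Equiv.Perm (Fin 3)) (x : (Fin 3 → Fin 2) → F) (a : Fin 3 → Fin 2) :
    ((fpMat σ : Matrix _ _ F) *ᵥ x) a = x (a ∘ σ) := by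
  simp only [Matrix.mulVec, dotProduct, fpMat]
  rw [Finset.sum_eq_single (a ∘ σ)]
  · simp
  · intro z _ hz; rw [if_neg hz, zero_mul]
  · intro h; exact absurd (Finset.mem_univ _) h

end fperm
section contain
variable {F : Type*} [Field F] [Fintype F]

open Cfsg.Agent.Lib.Helper5 Cfsg.Agent.Lib.Helper5.TensorGen Cfsg.Agent.Lib.Helper5.SpMax

theorem two_ne_zero_of_odd_card9 (hodd : Odd (Fintype.card F)) : (2 : F) ≠ 0 := by
  intro h2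
  have : CharP F 2 := CharTwo.of_one_ne_zero_of_two_eq_zero one_ne_zero h2
  have : Fact (Nat.Prime 2) := ⟨Nat.prime_two⟩
  obtain ⟨n, -, hn⟩ := FiniteField.card F 2
  rw [hn] at hodd
  have : Even (2 ^ (n : ℕ)) := (Nat.even_pow' n.ne_zero).2 even_two
  exact (Nat.not_even_iff_odd.2 hodd) this

/-- 4a: the second factor of an element of the tensor product stabiliser in `Sp` is a similarity of `f₂` -/
lemma simil_of_sp (e : (Fin 4 ⊕ Fin 4) ≃ Fin 2 × Fin 4) (P : GL (Fin 4 ⊕ Fin 4) F)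
    {f₁ : (Fin 2 → F) → (Fin 2 → F) → F} {f₂ : (Fin 4 → F) → (Fin 4 → F) → F}
    (hf₁ : IsSymplecticForm f₁) (hf₂ : IsSymmetricForm f₂) (c₀ : F) (hc₀ : c₀ ≠ 0)
    (hT : ∀ x y : Fin 2 × Fin 4 → F,
      sympForm 4 F ((P : Matrix _ _ F) *ᵥ (x ∘ e)) ((P : Matrix _ _ F) *ᵥ (y ∘ e)) =
        c₀ * formOfGram id (gramMatrix f₁ ⊗ₖ gramMatrix f₂) x y)
    (k : GL (Fin 2 × Fin 4) F) (a : GL (Fin 2) F) (b : GL (Fin 4) F)
    (hk : (k : Matrix _ _ F) = (a : Matrix (Fin 2) (Fin 2) F) ⊗ₖ (b : Matrix (Fin 4) (Fin 4) F))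
    (hsp : cjr e P k ∈ spGL 4 F) :
    ∃ μ : F, ∀ v v' : Fin 4 → F, f₂ ((b : Matrix (Fin 4) (Fin 4) F) *ᵥ v) ((b : Matrix (Fin 4) (Fin 4) F) *ᵥ v') =
      μ * f₂ v v' := by
  have hact : ∀ u v, ((cjr e P k : GL _ F) : Matrix _ _ F) *ᵥ tau e P u v =
      tau e P ((a : Matrix (Fin 2) (Fin 2) F) *ᵥ u) ((b : Matrix (Fin 4) (Fin 4) F) *ᵥ v) := by
    intro u v
    unfold tau
    rw [cjr_mulVec, hk, kron_mulVec_pt]
  have hform := form_tau e P (sympForm 4 F) f₁ hf₁.bilinear f₂ hf₂.bilinear c₀ hT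
  have key : ∀ u u' v v', c₀ * (f₁ ((a : Matrix (Fin 2) (Fin 2) F) *ᵥ u) ((a : Matrix (Fin 2) (Fin 2) F) *ᵥ u') *
      f₂ ((b : Matrix (Fin 4) (Fin 4) F) *ᵥ v) ((b : Matrix (Fin 4) (Fin 4) F) *ᵥ v')) =
      c₀ * (f₁ u u' * f₂ v v') := by
    intro u u' v v'
    rw [← hform, ← hform, ← hact, ← hact]
    exact (mem_spGL.1 hsp) _ _
  set c₁ : F := f₁ (Pi.single 0 1) (Pi.single 1 1) with hc₁
  have hc₁0 : c₁ ≠ 0 := symp2_ne hf₁
  set d : F := f₁ ((a : Matrix (Fin 2) (Fin 2) F) *ᵥ Pi.single 0 1) ((a : Matrix (Fin 2) (Fin 2) F) *ᵥ Pi.single 1 1)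
    with hd
  have hd0 : d ≠ 0 := by
    intro hd0
    have h0 : (Pi.single 0 1 : Fin 4 → F) ≠ 0 := by
      intro h'
      have := congrFun h' 0
      simp at this
    obtain ⟨-, x, hx⟩ := hf₂.nondegenerate _ h0
    have := key (Pi.single 0 1) (Pi.single 1 1) (Pi.single 0 1) x
    rw [← hd, hd0, zero_mul, mul_zero, ← hc₁] at this
    exact (mul_ne_zero hc₀ (mul_ne_zero hc₁0 hx)) this.symm
  refine ⟨c₁ / d, fun v v' => ?_⟩
  have h' := mul_left_cancel₀ hc₀ (key (Pi.single 0 1) (Pi.single 1 1) v v')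
  rw [← hd, ← hc₁] at h'
  field_simp
  linear_combination h'

/-- 4b -/
lemma detForm_simil {f₂ : (Fin 4 → F) → (Fin 4 → F) → F} (ε : Fin 4 ≃ Fin 2 × Fin 2) (B : GL (Fin 4) F)
    (hB : ∀ x y : Fin 2 × Fin 2 → F,
      f₂ ((B : Matrix (Fin 4) (Fin 4) F) *ᵥ (x ∘ ε)) ((B : Matrix (Fin 4) (Fin 4) F) *ᵥ (y ∘ ε)) = detForm F x y)
    (b : GL (Fin 4) F) (μ : F)
    (hb : ∀ v v' : Fin 4 → F, f₂ ((b : Matrix (Fin 4) (Fin 4) F) *ᵥ v) ((b : Matrix (Fin 4) (Fin 4) F) *ᵥ v') =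
      μ * f₂ v v') (p q : Fin 2 × Fin 2 → F) :
    detForm F (((glReindex (F := F) ε (B⁻¹ * b * B) : GL (Fin 2 × Fin 2) F) : Matrix _ _ F) *ᵥ p)
      (((glReindex (F := F) ε (B⁻¹ * b * B) : GL (Fin 2 × Fin 2) F) : Matrix _ _ F) *ᵥ q) = μ * detForm F p q := by
  have hval : ∀ p : Fin 2 × Fin 2 → F, (B : Matrix (Fin 4) (Fin 4) F) *ᵥ
      ((((glReindex (F := F) ε (B⁻¹ * b * B) : GL (Fin 2 × Fin 2) F) : Matrix _ _ F) *ᵥ p) ∘ ε) =
      (b : Matrix (Fin 4) (Fin 4) F) *ᵥ ((B : Matrix (Fin 4) (Fin 4) F) *ᵥ (p ∘ ε)) := by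
    intro p
    have h1 : ((glReindex (F := F) ε (B⁻¹ * b * B) : GL (Fin 2 × Fin 2) F) : Matrix _ _ F) =
        ((B⁻¹ * b * B : GL (Fin 4) F) : Matrix (Fin 4) (Fin 4) F).submatrix ε.symm ε.symm := rfl
    rw [h1, Matrix.submatrix_mulVec_equiv, Equiv.symm_symm, Function.comp_assoc, Equiv.symm_comp_self,
      Function.comp_id, Matrix.mulVec_mulVec, Matrix.mulVec_mulVec, ← Units.val_mul, ← Units.val_mul]
    congr 2
    group
  rw [← hB, hval, hval, hb, hB]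

/-- (ii) -/
lemma tp_le_tw (hodd : Odd (Fintype.card F)) (e : (Fin 4 ⊕ Fin 4) ≃ Fin 2 × Fin 4) (P : GL (Fin 4 ⊕ Fin 4) F)
    {f₁ : (Fin 2 → F) → (Fin 2 → F) → F} {f₂ : (Fin 4 → F) → (Fin 4 → F) → F}
    (hf₁ : IsSymplecticForm f₁) (hf₂ : IsSymmetricForm f₂) (c₀ : F) (hc₀ : c₀ ≠ 0)
    (hT : ∀ x y : Fin 2 × Fin 4 → F,
      sympForm 4 F ((P : Matrix _ _ F) *ᵥ (x ∘ e)) ((P : Matrix _ _ F) *ᵥ (y ∘ e)) =
        c₀ * formOfGram id (gramMatrix f₁ ⊗ₖ gramMatrix f₂) x y)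
    (ε : Fin 4 ≃ Fin 2 × Fin 2) (B : GL (Fin 4) F)
    (hB : ∀ x y : Fin 2 × Fin 2 → F,
      f₂ ((B : Matrix (Fin 4) (Fin 4) F) *ᵥ (x ∘ ε)) ((B : Matrix (Fin 4) (Fin 4) F) *ᵥ (y ∘ ε)) = detForm F x y) :
    tensorProductSubgroup 2 4 e P ⊓ spGL 4 F ≤ tensorWreathSubgroup 2 3 (e.trans (tau3 ε)) (P3 e P B) := by
  intro g hg
  obtain ⟨hgT, hgS⟩ := Subgroup.mem_inf.1 hg
  rw [mem_tp_iff] at hgT
  obtain ⟨k, ⟨a, b, hk⟩, rfl⟩ := hgT
  obtain ⟨μ, hμ⟩ := simil_of_sp e P hf₁ hf₂ c₀ hc₀ hT k a b hk hgS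
  have h2 := two_ne_zero_of_odd_card9 hodd
  set b'' : GL (Fin 2 × Fin 2) F := glReindex (F := F) ε (B⁻¹ * b * B) with hb''
  obtain ⟨b₁, b₂, hb⟩ := detForm_similarity h2 b'' μ (detForm_simil ε B hB b μ hμ)
  set w : GL (Fin 3 → Fin 2) F := glReindex (F := F) (tau3 ε) ((kronOneGL B)⁻¹ * k * kronOneGL B) with hw
  have hgw : cjr e P k = cjr (e.trans (tau3 ε)) (P3 e P B) w := by
    apply eq_cjr_of_mulVec
    intro x
    rw [P3_mulVec, cjr_mulVec, P3_mulVec]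
    congr 2
    have h1 : (w : Matrix _ _ F) = (((kronOneGL B)⁻¹ * k * kronOneGL B : GL (Fin 2 × Fin 4) F) :
        Matrix _ _ F).submatrix (tau3 ε).symm (tau3 ε).symm := rfl
    rw [h1, Matrix.submatrix_mulVec_equiv, Equiv.symm_symm, Function.comp_assoc, Equiv.symm_comp_self,
      Function.comp_id, ← kronOneGL_val, Matrix.mulVec_mulVec, Matrix.mulVec_mulVec, ← Units.val_mul,
      ← Units.val_mul]
    congr 2
    group
  rw [mem_tw_iff]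
  refine ⟨w, ?_, hgw⟩
  have hwe : ∀ x y : Fin 3 → Fin 2, (w : Matrix _ _ F) x y =
      (a : Matrix (Fin 2) (Fin 2) F) (x 0) (y 0) * (b'' : Matrix _ _ F) (x 1, x 2) (y 1, y 2) := by
    intro x y
    have h1 : (w : Matrix _ _ F) x y = (((kronOneGL B)⁻¹ * k * kronOneGL B : GL (Fin 2 × Fin 4) F) :
        Matrix _ _ F) ((tau3 ε).symm x) ((tau3 ε).symm y) := rfl
    have h3 : (((kronOneGL B)⁻¹ * k * kronOneGL B : GL (Fin 2 × Fin 4) F) : Matrix _ _ F) =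
        (a : Matrix (Fin 2) (Fin 2) F) ⊗ₖ ((B⁻¹ * b * B : GL (Fin 4) F) : Matrix (Fin 4) (Fin 4) F) := by
      rw [Units.val_mul, Units.val_mul, kronOneGL_inv_val, kronOneGL_val, hk, ← Matrix.mul_kronecker_mul,
        ← Matrix.mul_kronecker_mul, one_mul, mul_one, Units.val_mul, Units.val_mul]
    rw [h1, h3, Matrix.kroneckerMap_apply]
    rfl
  rcases hb with hb | hb
  · apply Subgroup.subset_closure
    left
    refine ⟨![a, b₁, b₂], fun x y => ?_⟩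
    have v0 : (![a, b₁, b₂] : Fin 3 → GL (Fin 2) F) 0 = a := rfl
    have v1 : (![a, b₁, b₂] : Fin 3 → GL (Fin 2) F) 1 = b₁ := rfl
    have v2 : (![a, b₁, b₂] : Fin 3 → GL (Fin 2) F) 2 = b₂ := rfl
    rw [hwe, hb, Matrix.kroneckerMap_apply, Fin.prod_univ_three, v0, v1, v2]
    ring
  · have hpure : w * fpGL (Equiv.swap 1 2) ∈ tensorWreathStandard 2 3 F := by
      apply Subgroup.subset_closure
      left
      refine ⟨![a, b₁, b₂], fun x y => ?_⟩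
      have v0 : (![a, b₁, b₂] : Fin 3 → GL (Fin 2) F) 0 = a := rfl
      have v1 : (![a, b₁, b₂] : Fin 3 → GL (Fin 2) F) 1 = b₁ := rfl
      have v2 : (![a, b₁, b₂] : Fin 3 → GL (Fin 2) F) 2 = b₂ := rfl
      have e0 : (Equiv.swap (1 : Fin 3) 2) 0 = 0 := by decide
      have e1 : (Equiv.swap (1 : Fin 3) 2) 1 = 2 := by decide
      have e2 : (Equiv.swap (1 : Fin 3) 2) 2 = 1 := by decide
      rw [Units.val_mul, fpGL_val, mul_fpMat_apply, hwe, hb]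
      simp only [Function.comp_apply, Equiv.swap_inv, e0, e1, e2]
      rw [mul_swapMat_apply, Matrix.kroneckerMap_apply, Fin.prod_univ_three, v0, v1, v2]
      ring
    have hw' : w = (w * fpGL (Equiv.swap 1 2)) * (fpGL (Equiv.swap 1 2))⁻¹ := by group
    rw [hw']
    exact Subgroup.mul_mem _ hpure (Subgroup.inv_mem _ (fpGL_mem _))

/-- the tensor power Gram sum is invariant under a permutation of the factors -/
lemma tp_form_perm (σ : Equiv.Perm (Fin 3)) (G : Matrix (Fin 2) (Fin 2) F)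
    (x y : (Fin 3 → Fin 2) → F) :
    ∑ a, ∑ b, ((fpMat σ : Matrix _ _ F) *ᵥ x) a * (∏ i, G (a i) (b i)) * ((fpMat σ : Matrix _ _ F) *ᵥ y) b =
      ∑ a, ∑ b, x a * (∏ i, G (a i) (b i)) * y b := by
  set ρ : (Fin 3 → Fin 2) ≃ (Fin 3 → Fin 2) := Equiv.arrowCongr σ.symm (Equiv.refl (Fin 2)) with hρ
  have hρa : ∀ a : Fin 3 → Fin 2, ρ a = a ∘ σ := fun a => rfl
  rw [← Equiv.sum_comp ρ (fun a => ∑ b, x a * (∏ i, G (a i) (b i)) * y b)]
  apply Finset.sum_congr rfl; intro a _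
  rw [← Equiv.sum_comp ρ (fun b => x (ρ a) * (∏ i, G (ρ a i) (b i)) * y b)]
  apply Finset.sum_congr rfl; intro b _
  rw [fpMat_mulVec, fpMat_mulVec]
  have : ∏ i, G (ρ a i) (ρ b i) = ∏ i, G (a i) (b i) := Equiv.prod_comp σ (fun i => G (a i) (b i))
  rw [this, hρa, hρa]

/-- (iii a): factor permutations preserve a tensor power form -/
lemma fperm_mem_sp (e' : (Fin 4 ⊕ Fin 4) ≃ (Fin 3 → Fin 2)) (P' : GL (Fin 4 ⊕ Fin 4) F)
    {f₁ : (Fin 2 → F) → (Fin 2 → F) → F}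
    (hP : IsTensorPowerFormStructure id (sympForm 4 F) f₁ e' P') (σ : Equiv.Perm (Fin 3)) :
    cjr e' P' (fpGL σ) ∈ spGL 4 F := by
  obtain ⟨c, -, hc⟩ := hP
  rw [mem_spGL]
  intro u v
  rw [← gl_vec_repr e' P' u, ← gl_vec_repr e' P' v, cjr_mulVec, cjr_mulVec, hc, hc, fpGL_val]
  simp only [id]
  rw [tp_form_perm]

lemma fp01_pt3 (u y z : Fin 2 → F) :
    (fpMat (Equiv.swap 0 1) : Matrix _ _ F) *ᵥ pt3 u (op y z) = pt3 y (op u z) := by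
  ext a'
  rw [fpMat_mulVec]
  have e0 : (Equiv.swap (0 : Fin 3) 1) 0 = 1 := by decide
  have e1 : (Equiv.swap (0 : Fin 3) 1) 1 = 0 := by decide
  have e2 : (Equiv.swap (0 : Fin 3) 1) 2 = 2 := by decide
  simp only [pt3, op, Function.comp_apply, e0, e1, e2]
  ring

/-- (iii b): the factor transposition `(0 1)` is not in the tensor product stabiliser -/
lemma fperm_not_mem_tp (e : (Fin 4 ⊕ Fin 4) ≃ Fin 2 × Fin 4) (P : GL (Fin 4 ⊕ Fin 4) F)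
    (ε : Fin 4 ≃ Fin 2 × Fin 2) (B : GL (Fin 4) F) :
    cjr (e.trans (tau3 ε)) (P3 e P B) (fpGL (Equiv.swap 0 1)) ∉ tensorProductSubgroup 2 4 e P := by
  intro hmem
  rw [mem_tp_iff] at hmem
  obtain ⟨k, ⟨a, b, hk⟩, hs⟩ := hmem
  have key : ∀ x : (Fin 3 → Fin 2) → F,
      (k : Matrix _ _ F) *ᵥ (((1 : Matrix (Fin 2) (Fin 2) F) ⊗ₖ (B : Matrix (Fin 4) (Fin 4) F)) *ᵥ
        (x ∘ tau3 ε)) =
      ((1 : Matrix (Fin 2) (Fin 2) F) ⊗ₖ (B : Matrix (Fin 4) (Fin 4) F)) *ᵥ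
        (((fpMat (Equiv.swap 0 1) : Matrix _ _ F) *ᵥ x) ∘ tau3 ε) := by
    intro x
    have h1 := cjr_mulVec (e.trans (tau3 ε)) (P3 e P B) (fpGL (Equiv.swap 0 1)) x
    rw [hs, P3_mulVec, P3_mulVec, cjr_mulVec, fpGL_val] at h1
    have h2 := gl_mulVec_injective P h1
    have h3 := congrArg (fun f => f ∘ e.symm) h2
    simpa [Function.comp_assoc] using h3
  have key2 : ∀ u y z : Fin 2 → F,
      pt ((a : Matrix (Fin 2) (Fin 2) F) *ᵥ u)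
        ((b : Matrix (Fin 4) (Fin 4) F) *ᵥ ((B : Matrix (Fin 4) (Fin 4) F) *ᵥ (op y z ∘ ε))) =
      pt y ((B : Matrix (Fin 4) (Fin 4) F) *ᵥ (op u z ∘ ε)) := by
    intro u y z
    have := key (pt3 u (op y z))
    rw [fp01_pt3, pt3_comp_tau3, pt3_comp_tau3, kron_mulVec_pt, kron_mulVec_pt, Matrix.one_mulVec,
      Matrix.one_mulVec, hk, kron_mulVec_pt] at this
    exact this
  set δ0 : Fin 2 → F := Pi.single 0 1 with hδ0
  set δ1 : Fin 2 → F := Pi.single 1 1 with hδ1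
  set V0 : Fin 4 → F := (B : Matrix (Fin 4) (Fin 4) F) *ᵥ (op δ0 δ0 ∘ ε) with hV0
  have hV0ne : (b : Matrix (Fin 4) (Fin 4) F) *ᵥ V0 ≠ 0 := by
    intro h0
    have h1 : (b : Matrix (Fin 4) (Fin 4) F) *ᵥ V0 = (b : Matrix (Fin 4) (Fin 4) F) *ᵥ 0 := by
      rw [h0, Matrix.mulVec_zero]
    have h2 := gl_mulVec_injective b h1
    have h3 : (B : Matrix (Fin 4) (Fin 4) F) *ᵥ (op δ0 δ0 ∘ ε) = (B : Matrix (Fin 4) (Fin 4) F) *ᵥ 0 := by
      rw [← hV0, h2, Matrix.mulVec_zero]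
    have h4 := gl_mulVec_injective B h3
    have h5 := congrFun h4 (ε.symm (0, 0))
    simp [op, hδ0] at h5
  obtain ⟨m, hm⟩ : ∃ m, ((b : Matrix (Fin 4) (Fin 4) F) *ᵥ V0) m ≠ 0 := by
    by_contra hcon
    push Not at hcon
    exact hV0ne (funext hcon)
  have r0 : ((a : Matrix (Fin 2) (Fin 2) F) *ᵥ δ0) 1 = 0 := by
    have := congrFun (key2 δ0 δ0 δ0) (1, m)
    simp only [pt] at this
    rw [← hV0] at this
    have hz : δ0 1 = 0 := by simp [hδ0]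
    rw [hz, zero_mul] at this
    exact (mul_eq_zero.1 this).resolve_right hm
  have r1 : ((a : Matrix (Fin 2) (Fin 2) F) *ᵥ δ1) 1 = 0 := by
    have := congrFun (key2 δ1 δ0 δ0) (1, m)
    simp only [pt] at this
    rw [← hV0] at this
    have hz : δ0 1 = 0 := by simp [hδ0]
    rw [hz, zero_mul] at this
    exact (mul_eq_zero.1 this).resolve_right hm
  have hrow : ∀ v : Fin 2 → F, ((a : Matrix (Fin 2) (Fin 2) F) *ᵥ v) 1 = 0 := by
    intro v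
    have hv : v = v 0 • δ0 + v 1 • δ1 := by
      ext i; fin_cases i <;> simp [hδ0, hδ1]
    rw [hv, Matrix.mulVec_add, Matrix.mulVec_smul, Matrix.mulVec_smul]
    simp only [Pi.add_apply, Pi.smul_apply, r0, r1, smul_zero, add_zero]
  have h1 := hrow (((a⁻¹ : GL (Fin 2) F) : Matrix (Fin 2) (Fin 2) F) *ᵥ δ1)
  rw [Matrix.mulVec_mulVec, ← Units.val_mul, mul_inv_cancel, Units.val_one, Matrix.one_mulVec] at h1
  simp [hδ1] at h1

/-- **S8c**: the `C4` tensor subgroup `Sp_2 ⊗ O_4^+` of `Sp_8(q)`, `q` odd, lies properly inside a `C7` subgroup `Sp_2 ≀ S_3`. -/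
theorem tensor_plus_le_wreath (hodd : Odd (Fintype.card F)) (e : (Fin 4 ⊕ Fin 4) ≃ Fin 2 × Fin 4) (P : GL (Fin 4 ⊕ Fin 4) F)
    (f₁ : (Fin 2 → F) → (Fin 2 → F) → F) (f₂ : (Fin 4 → F) → (Fin 4 → F) → F)
    (hf₁ : IsSymplecticForm f₁) (hf₂ : IsSymmetricForm f₂)
    (hplus : IsPlusTypeOn (fun v : Fin 4 → F => f₂ v v) ⊤)
    (hT : IsTensorFormStructure id (sympForm 4 F) f₁ f₂ e P) :
    ∃ (e' : (Fin 4 ⊕ Fin 4) ≃ (Fin 3 → Fin 2)) (P' : GL (Fin 4 ⊕ Fin 4) F) (f₁' : (Fin 2 → F) → (Fin 2 → F) → F),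
      IsSymplecticForm f₁' ∧ IsTensorPowerFormStructure id (sympForm 4 F) f₁' e' P' ∧
      tensorProductSubgroup 2 4 e P ⊓ spGL 4 F ≤ tensorWreathSubgroup 2 3 e' P' ∧
      ¬ tensorWreathSubgroup 2 3 e' P' ⊓ spGL 4 F ≤ tensorProductSubgroup 2 4 e P := by
  obtain ⟨c₀, hc₀, hT⟩ := hT
  obtain ⟨ε, B, hB⟩ := plus_normal_form (two_ne_zero_of_odd_card9 hodd) hf₂ hplus
  have hpow := isTensorPower_P3 e P hf₁ hf₂ c₀ hc₀ hT ε B hB
  refine ⟨e.trans (tau3 ε), P3 e P B, f₁, hf₁, hpow, tp_le_tw hodd e P hf₁ hf₂ c₀ hc₀ hT ε B hB, ?_⟩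
  intro hle
  have hmem : cjr (e.trans (tau3 ε)) (P3 e P B) (fpGL (Equiv.swap 0 1)) ∈
      tensorWreathSubgroup 2 3 (e.trans (tau3 ε)) (P3 e P B) ⊓ spGL 4 F :=
    Subgroup.mem_inf.2 ⟨(mem_tw_iff _ _ _).2 ⟨_, fpGL_mem _, rfl⟩, fperm_mem_sp _ _ hpow _⟩
  exact fperm_not_mem_tp e P ε B (hle hmem)

end contain

end Cfsg.Agent.Lib.Helper9.SpMLeaf
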