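import Cfsg.Agent.Lib.Helper9.PConstrainedSub
import Cfsg.Agent.Lib.Helper9.PLayerCover
import Cfsg.Agent.Lib.Helper9.PLocal2
import Cfsg.Agent.Lib.Helper24.PSolvable

/-!
Helper lemmas (helper9): `p`-constraint of `p`-local subgroups from `p`-constraint of centralizers of elements
of order `p`, or of maximal `p`-locals.
-/

set_option autoImplicit false

namespace Cfsg.Agent.Lib.Helper9

universe u

/-- If `z ∈ O_p(Y)` has order `p` and `C_Y(z)` has trivial `p`-layer, then so has `Y`. -/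
theorem pLayer_eq_bot_of_centralizer {Y : Type u} [Group Y] [Finite Y] {p : ℕ} [Fact p.Prime]
    {z : Y} (hz : z ∈ Cfsg.pCore p Y) (hzp : orderOf z = p)
    (h : Cfsg.pLayer p ↥(Subgroup.centralizer ({z} : Set Y)) = ⊥) : Cfsg.pLayer p Y = ⊥ := by
  rw [eq_bot_iff]
  apply sSup_le
  intro K₀ hK
  exfalso
  have hK : Cfsg.IsPComponent p K₀ := hK
  set π := QuotientGroup.mk' (Cfsg.pPrimeCore p Y) with hπ
  -- the image of `z` centralizes the image of `K₀`
  have hF : Cfsg.fittingSubgroup (Y ⧸ Cfsg.pPrimeCore p Y) =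
      Cfsg.pCore p (Y ⧸ Cfsg.pPrimeCore p Y) :=
    fittingSubgroup_eq_pCore_of_pPrimeCore_eq_bot p (pPrimeCore_quotient_eq_bot p)
  have hzbar : π z ∈ Cfsg.pCore p (Y ⧸ Cfsg.pPrimeCore p Y) := by
    have hn : ((Cfsg.pCore p Y).map π).Normal :=
      Subgroup.Normal.map (Cfsg.Agent.Lib.Helper24.pCore_normal' p) π (QuotientGroup.mk'_surjective _)
    have hpg : IsPGroup p ↥((Cfsg.pCore p Y).map π) :=
      (Cfsg.Agent.Lib.Helper12.pCore_isPGroup' p).map π
    exact Cfsg.Agent.Lib.Helper12.le_pCore' p _ hn hpg (Subgroup.mem_map_of_mem π hz)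
  have hcen : K₀.map π ≤ Subgroup.centralizer
      (Cfsg.pCore p (Y ⧸ Cfsg.pPrimeCore p Y) : Set (Y ⧸ Cfsg.pPrimeCore p Y)) := by
    have h1 := layer_le_centralizer_fittingSubgroup (G := Y ⧸ Cfsg.pPrimeCore p Y)
    rw [hF] at h1
    exact (component_le_layer hK.2.1).trans h1
  have hcomm : ∀ k ∈ K₀, π z * π k = π k * π z := by
    intro k hk
    exact (Subgroup.mem_centralizer_iff.mp (hcen (Subgroup.mem_map_of_mem π hk))) _ hzbar
  -- `z` normalizes `K₀`
  have hzN : K₀.map (MulAut.conj z).toMonoidHom = K₀ := by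
    apply IsPComponent_map_conj_eq hK
    ext x
    constructor
    · rintro ⟨_, ⟨k, hk, rfl⟩, rfl⟩
      refine ⟨k, hk, ?_⟩
      show π k = π z * π k * (π z)⁻¹
      rw [hcomm k hk, mul_inv_cancel_right]
    · rintro ⟨k, hk, rfl⟩
      refine ⟨π k, Subgroup.mem_map_of_mem π hk, ?_⟩
      show π z * π k * (π z)⁻¹ = π k
      rw [hcomm k hk, mul_inv_cancel_right]
  have hyK : ∀ k ∈ K₀, z * k * z⁻¹ * k⁻¹ ∈ pPrimeCoreIn p K₀ := by
    intro k hk
    rw [pPrimeCoreIn_eq_inf_of_subnormal p hK.1]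
    refine ⟨?_, ?_⟩
    · have h1 : z * k * z⁻¹ ∈ K₀ := by
        rw [← hzN]
        exact ⟨k, hk, rfl⟩
      exact K₀.mul_mem h1 (K₀.inv_mem hk)
    · apply (QuotientGroup.eq_one_iff _).mp
      show π (z * k * z⁻¹ * k⁻¹) = 1
      rw [map_mul, map_mul, map_mul, map_inv, map_inv, hcomm k hk]
      group
  have hcov := le_pLayerOf_centralizer_sup hK z hzp hyK
  -- the `p`-layer of `C_{K₀}(z)` is trivial
  set C : Subgroup Y := Subgroup.centralizer ({z} : Set Y) with hC
  have hsn : ((K₀ ⊓ C).subgroupOf C).IsSubnormal := by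
    rw [Subgroup.inf_subgroupOf_right]
    exact hK.1.subgroupOf
  have h1 := pLayer_eq_bot_of_subnormal p hsn h
  have h2 : Cfsg.pLayer p ↥(K₀ ⊓ C) = ⊥ :=
    pLayer_eq_bot_of_equiv p (Subgroup.subgroupOfEquivOfLe (inf_le_right : K₀ ⊓ C ≤ C)) h1
  have h3 : Cfsg.pLayerOf p (K₀ ⊓ C) = ⊥ := by
    unfold Cfsg.pLayerOf
    rw [h2, Subgroup.map_bot]
  rw [h3, bot_sup_eq] at hcov
  have hdvd : p ∣ Nat.card ↥K₀ := IsPComponent_dvd_card hK
  have hcop := pPrimeCoreIn_coprime p K₀
  have h4 : p ∣ Nat.card ↥(pPrimeCoreIn p K₀) := hdvd.trans (Subgroup.card_dvd_of_le hcov)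
  have h5 : p ∣ Nat.gcd (Nat.card ↥(pPrimeCoreIn p K₀)) p := Nat.dvd_gcd h4 dvd_rfl
  rw [hcop] at h5
  exact (Fact.out : p.Prime).one_lt.ne' (Nat.dvd_one.mp h5)

variable {G : Type u} [Group G]

/-- If `t ∈ T` of order `p` is central in the `p`-group `T` and `C_G(t)` is `p`-constrained then so is `N_G(T)`. -/
theorem isPConstrained_normalizer_of_centralizer [Finite G] {p : ℕ}
    [Fact p.Prime] {T : Subgroup G} (hT : IsPGroup p ↥T) {t : G} (htT : t ∈ T) (htp : orderOf t = p)
    (htZ : T ≤ Subgroup.centralizer ({t} : Set G))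
    (h : Cfsg.IsPConstrained p ↥(Subgroup.centralizer ({t} : Set G))) :
    Cfsg.IsPConstrained p ↥(Subgroup.normalizer (T : Set G)) := by
  have htH : t ∈ Subgroup.normalizer (T : Set G) := Subgroup.le_normalizer htT
  have h1 := isPConstrained_normalizer h
    (P := T.subgroupOf (Subgroup.centralizer ({t} : Set G))) hT.comap_subtype
  have e1 := (Subgroup.normalizer ((T.subgroupOf (Subgroup.centralizer ({t} : Set G)) :
    Subgroup ↥(Subgroup.centralizer ({t} : Set G))) :
      Set ↥(Subgroup.centralizer ({t} : Set G)))).equivMapOfInjective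
        (Subgroup.centralizer ({t} : Set G)).subtype (Subgroup.subtype_injective _)
  have e2 := (Subgroup.centralizer ({(⟨t, htH⟩ : ↥(Subgroup.normalizer (T : Set G)))} :
    Set ↥(Subgroup.normalizer (T : Set G)))).equivMapOfInjective
      (Subgroup.normalizer (T : Set G)).subtype (Subgroup.subtype_injective _)
  have e3 := MulEquiv.subgroupCongr ((map_subtype_normalizer_subgroupOf htZ).trans
    (map_subtype_centralizer_singleton (Subgroup.normalizer (T : Set G)) ⟨t, htH⟩).symm)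
  have h2 := isPConstrained_of_equiv p ((e1.trans e3).trans e2.symm) h1
  rw [isPConstrained_iff_pLayer_eq_bot] at h2 ⊢
  apply pLayer_eq_bot_of_centralizer (z := ⟨t, htH⟩) _ _ h2
  · apply Cfsg.Agent.Lib.Helper1.le_pCore (N := T.subgroupOf (Subgroup.normalizer (T : Set G)))
      ((Subgroup.normal_subgroupOf_iff_le_normalizer Subgroup.le_normalizer).mpr le_rfl)
      hT.comap_subtype
    exact htT
  · rw [Subgroup.orderOf_mk]; exact htp

/-- If `N_G(T) ≤ M` with `M` `p`-constrained and `T` a `p`-subgroup, then `N_G(T)` is `p`-constrained. -/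
theorem isPConstrained_normalizer_of_le [Finite G] {p : ℕ} [Fact p.Prime] {T M : Subgroup G}
    (hT : IsPGroup p ↥T) (hNM : Subgroup.normalizer (T : Set G) ≤ M)
    (h : Cfsg.IsPConstrained p ↥M) : Cfsg.IsPConstrained p ↥(Subgroup.normalizer (T : Set G)) := by
  have hTM : T ≤ M := Subgroup.le_normalizer.trans hNM
  have h1 := isPConstrained_normalizer h (P := T.subgroupOf M) hT.comap_subtype
  have e1 := MulEquiv.subgroupCongr (Subgroup.subgroupOf_normalizer_eq hTM).symm
  have e2 := Subgroup.subgroupOfEquivOfLe hNM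
  exact isPConstrained_of_equiv p (e1.trans e2) h1

end Cfsg.Agent.Lib.Helper9
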