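import Mathlib
import Cfsg.Prelude.Def_Blocks
import Cfsg.Agent.Lib.Helper4.RealExtDefs
import Cfsg.Agent.Lib.Helper6.Clifford
import Cfsg.Agent.Lib.Helper6.Gallagher
import Cfsg.Agent.Lib.Helper6.Gallagher2
import Cfsg.Agent.Lib.Helper6.AbelianQuot
import Cfsg.Agent.Lib.Helper6.CharNorm

/-!
# S4580 leaf (C) (helper9): Gallagher adjust (planner helper4's exact name and binders).

`θ ∈ Irr(N)` real, `η` an extension of `θ` to `G`.  Then `conj η = β η` with `β` a linear character
of `G/N` (Gallagher with `φ = 1`, as in the opening of helper26 `AlpDadeL4b`).  Write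
`|G| = 2^a m`, `m = 2j+1`; `η' := β^(j+1) η` is irreducible, extends `θ`, and
`conj η' = ν η'` with `ν := (conj β)^m`, `ν^(2^a) = 1`.
-/

set_option autoImplicit false

namespace Cfsg.Agent.Lib.Helper9.RealExt

open Cfsg Cfsg.Agent.CharLib Cfsg.Agent.Lib.Helper6 Cfsg.Agent.Lib.Helper4.RealExt
open scoped ComplexConjugate

universe u
variable {G : Type u} [Group G] [Finite G]

omit [Finite G] in
/-- Powers of a linear character times an irreducible character are irreducible. -/
theorem isIrrCharacter_linear_pow_mul [Fintype G] {lam ψ : G → ℂ} (hlam : IsCharacter G lam)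
    (h1 : lam 1 = 1) (hψ : IsIrrCharacter G ψ) (t : ℕ) :
    IsIrrCharacter G (fun g => lam g ^ t * ψ g) := by
  induction t with
  | zero =>
    have : (fun g => lam g ^ 0 * ψ g) = ψ := by funext g; rw [pow_zero, one_mul]
    rw [this]; exact hψ
  | succ t ih =>
    have : (fun g => lam g ^ (t + 1) * ψ g) = lam * (fun g => lam g ^ t * ψ g) := by
      funext g; rw [Pi.mul_apply]; ring
    rw [this]
    exact isIrrCharacter_linear_mul hlam h1 ih

/-- (C) Gallagher adjust: an extension `η'` of the real `θ` with `conj η' = ν η'`,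
`ν` of 2-power order. -/
theorem exists_extension_twist (N : Subgroup G) [N.Normal] (θ : IrrCharacter N)
    (hreal : ∀ n : N, ((θ : N → ℂ) n).im = 0) (η : IrrCharacter G)
    (hη : ∀ n : N, (η : G → ℂ) n = (θ : N → ℂ) n) :
    ∃ (η' : IrrCharacter G) (ν : G → ℂ) (k : ℕ), (∀ n : N, (η' : G → ℂ) n = (θ : N → ℂ) n) ∧
      ν 1 = 1 ∧ (∀ g, ν g ^ 2 ^ k = 1) ∧
      ∀ g, conj ((η' : G → ℂ) g) = ν g * (η' : G → ℂ) g := by
  classical
  have : Fintype G := Fintype.ofFinite G
  have : Fintype N := Fintype.ofFinite N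
  have hχcf : IsClassFunction G (η : G → ℂ) :=
    IsCharacter.isClassFunction (IsIrrCharacter.isCharacter η.2)
  have hχ'cf : IsClassFunction G ((cbar η : IrrCharacter G) : G → ℂ) :=
    IsCharacter.isClassFunction (IsIrrCharacter.isCharacter (cbar η).2)
  have hresθ : resFun N (η : G → ℂ) = (θ : N → ℂ) := by
    funext n; rw [resFun_apply]; exact hη n
  have hirr : IsIrrCharacter N (resFun N (η : G → ℂ)) := by rw [hresθ]; exact θ.2
  have heq : resFun N (η : G → ℂ) = resFun N ((cbar η : IrrCharacter G) : G → ℂ) := by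
    funext n
    rw [resFun_apply, resFun_apply, cbar_apply, hη n]
    exact (Complex.conj_eq_iff_im.mpr (hreal n)).symm
  -- Gallagher with φ = 1
  have h1irr : IsIrrCharacter N (1 : N → ℂ) := isIrrCharacter_one N
  have h1inv : ∀ g : G, conjFun N g (1 : N → ℂ) = 1 := by
    intro g; funext n; rw [conjFun_apply]; rfl
  have hprod : (1 : N → ℂ) * resFun N (η : G → ℂ) = resFun N (η : G → ℂ) := one_mul _
  have hθinv : ∀ g : G, conjFun N g (resFun N (η : G → ℂ)) = resFun N (η : G → ℂ) :=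
    fun g => conjFun_resFun N hχcf g
  have hb := mul_bijOn N h1irr h1inv (by rw [hprod]; exact hirr) (by rw [hprod]; exact hθinv)
    η.2 (rfl : resFun N (η : G → ℂ) = resFun N (η : G → ℂ))
  have htarget : ((cbar η : IrrCharacter G) : G → ℂ) ∈ {ψ | IsIrrCharacter G ψ ∧
      classInner (indFun N ((1 : N → ℂ) * resFun N (η : G → ℂ))) ψ ≠ 0} := by
    refine ⟨(cbar η).2, ?_⟩
    rw [hprod, frobenius_reciprocity N _ hχ'cf]
    have : (fun h : N => ((cbar η : IrrCharacter G) : G → ℂ) h) = resFun N (η : G → ℂ) := by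
      rw [heq]; rfl
    rw [this, classInner_irr hirr hirr, if_pos rfl]
    exact one_ne_zero
  obtain ⟨β, ⟨hβirr, hβ1⟩, hβχ⟩ := hb.surjOn htarget
  have hβχ' : ∀ g : G, β g * (η : G → ℂ) g = conj ((η : G → ℂ) g) := fun g => by
    have := congrFun hβχ g
    rwa [cbar_apply] at this
  -- degrees
  obtain ⟨a, hapos, ha⟩ := IsIrrCharacter.apply_one_pos η.2
  have hχ1 : (η : G → ℂ) 1 ≠ 0 := by rw [ha]; exact_mod_cast hapos.ne'
  have hβone : β 1 = 1 := by
    have := hβχ' 1
    rw [ha, Complex.conj_natCast] at this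
    have ha0 : ((a : ℕ) : ℂ) ≠ 0 := by exact_mod_cast hapos.ne'
    exact mul_right_cancel₀ ha0 (by rw [this, one_mul])
  have hβc : IsCharacter G β := IsIrrCharacter.isCharacter hβirr
  have hβN := (apply_mul_of_indFun_one_ne_zero N hβirr hβ1).2
  have hβn : ∀ n : N, β (n : G) = 1 := by
    intro n
    have := hβN n 1
    rwa [mul_one, hβone] at this
  -- β^|G| = 1
  have hβpow : ∀ g : G, β g ^ Nat.card G = 1 := by
    intro g
    have := map_pow (linCharHom hβc hβone) g (Nat.card G)
    rw [pow_card_eq_one', map_one] at this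
    exact this.symm
  have hzz : ∀ g : G, β g * conj (β g) = 1 :=
    fun g => IsCharacter.mul_conj_eq_one_of_apply_one hβc hβone g
  -- |G| = 2^e * m, m = 2j+1
  obtain ⟨e, m, hmodd, hcard⟩ := Nat.exists_eq_two_pow_mul_odd (Nat.card_pos (α := G)).ne'
  obtain ⟨j, hj⟩ := hmodd
  refine ⟨⟨fun g => β g ^ (j + 1) * (η : G → ℂ) g,
      isIrrCharacter_linear_pow_mul hβc hβone η.2 (j + 1)⟩,
    fun g => conj (β g) ^ m, e, ?_, ?_, ?_, ?_⟩
  · intro n
    change β (n : G) ^ (j + 1) * (η : G → ℂ) n = (θ : N → ℂ) n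
    rw [hβn n, one_pow, one_mul, hη n]
  · change conj (β 1) ^ m = 1
    rw [hβone, map_one, one_pow]
  · intro g
    change (conj (β g) ^ m) ^ 2 ^ e = 1
    rw [← pow_mul, mul_comm, ← hcard, ← map_pow, hβpow g, map_one]
  · intro g
    change conj (β g ^ (j + 1) * (η : G → ℂ) g) =
      conj (β g) ^ m * (β g ^ (j + 1) * (η : G → ℂ) g)
    rw [map_mul, map_pow, ← hβχ' g, hj]
    have hz := hzz g
    calc conj (β g) ^ (j + 1) * (β g * (η : G → ℂ) g)
        = conj (β g) ^ j * (β g * conj (β g)) * (η : G → ℂ) g := by ring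
      _ = conj (β g) ^ j * (β g * conj (β g)) ^ (j + 1) * (η : G → ℂ) g := by
          rw [hz, one_pow]
      _ = conj (β g) ^ (2 * j + 1) * (β g ^ (j + 1) * (η : G → ℂ) g) := by ring

end Cfsg.Agent.Lib.Helper9.RealExt
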