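import Mathlib
import Cfsg.Agent.Lib.Helper5.UTGDefs
import Cfsg.Agent.Lib.Helper23.UTG
import Cfsg.Agent.Lib.Helper23.UTGGA

/-!
S5670 part (G) leaf N1 `iso_of_noniso_q3` (`q ≥ 3`): from a member `x₀ ⊗ y` with non-isotropic `x₀` to a member
`x₁ ⊗ y` with `x₁` isotropic, by the three-term sum of transvections with centres
`(x₀ + t c η x₁) ⊗ y`, `t ∈ {r, 1, 0}`.
By-products: `exists_fixed_ne` (a fixed scalar `≠ 0, 1` for `q ≥ 3`), `mv_tvV_three`, `three_term`.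
-/

set_option autoImplicit false
set_option linter.unusedSectionVars false
set_option linter.unusedVariables false

namespace Cfsg.Agent.Lib.Helper9.UTGLeaf
open Matrix
open Cfsg.Agent.Lib.Helper25.Tens Cfsg.Agent.Lib.Helper25.TensLeaf Cfsg.Agent.Lib.Helper20.UT
open Cfsg.Agent.Lib.Helper5.UTG Cfsg.Agent.Lib.Helper5.SUGen Cfsg.Agent.Lib.Helper5.SUMax
open scoped Kronecker

variable {F : Type*} [Field F] [Fintype F] {a b q : ℕ}

/-- for `q ≥ 3` the fixed field of `x ↦ x ^ q` has an element `≠ 0, 1` (a norm `x ^ (q+1)`) -/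
theorem exists_fixed_ne (hF : Fintype.card F = q ^ 2) (hq : 3 ≤ q) :
    ∃ r : F, r ≠ 0 ∧ r ≠ 1 ∧ r ^ q = r := by
  classical
  have hS : ((Polynomial.nthRoots (q + 1) (1 : F)).toFinset).card ≤ q + 1 :=
    (Multiset.toFinset_card_le _).trans (Polynomial.card_nthRoots _ _)
  have hcard : (insert (0 : F) (Polynomial.nthRoots (q + 1) (1 : F)).toFinset).card <
      (Finset.univ : Finset F).card := by
    rw [Finset.card_univ, hF]
    have h1 := Finset.card_insert_le (0 : F) (Polynomial.nthRoots (q + 1) (1 : F)).toFinset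
    have h2 : q + 2 < q ^ 2 := by nlinarith
    omega
  obtain ⟨x, -, hx⟩ := Finset.exists_mem_notMem_of_card_lt_card hcard
  rw [Finset.mem_insert, Multiset.mem_toFinset, Polynomial.mem_nthRoots (by omega)] at hx
  push_neg at hx
  refine ⟨x ^ (q + 1), pow_ne_zero _ hx.1, hx.2, ?_⟩
  rw [pow_succ, mul_pow, pow_q_pow_q' hF, mul_comm]

section tv3
variable {ι : Type} [Fintype ι] [DecidableEq ι]

/-- the product of three transvections with pairwise perpendicular isotropic centres -/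
theorem mv_tvV_three (s₁ s₂ s₃ : ι → F) (w₁ w₂ w₃ : F) (h₁ : hv q s₁ s₁ = 0) (h₂ : hv q s₂ s₂ = 0)
    (h₃ : hv q s₃ s₃ = 0) (h32 : hv q s₃ s₂ = 0) (h31 : hv q s₃ s₁ = 0) (h21 : hv q s₂ s₁ = 0)
    (v : ι → F) :
    mv (tvV q s₁ w₁ h₁ * tvV q s₂ w₂ h₂ * tvV q s₃ w₃ h₃) v =
      v + (w₃ * hv q v s₃) • s₃ + (w₂ * hv q v s₂) • s₂ + (w₁ * hv q v s₁) • s₁ := by
  rw [mv_mul, mv_mul, mv_tvV, mv_tvV, mv_tvV]
  simp only [hv_add_left, hv_smul_left, h32, h31, h21, mul_zero, add_zero]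

end tv3

/-- the three-term identity in `A` -/
theorem three_term (hF : Fintype.card F = q ^ 2) {c r e₁ : F} (hc : c ^ q = -c) (hr : r ^ q = r)
    (x₀ x₁ u : Fin a → F) (η : F) :
    (e₁ * hv q u (x₀ + (r * (c * η)) • x₁)) • (x₀ + (r * (c * η)) • x₁) +
      ((-r * e₁) * hv q u (x₀ + (1 * (c * η)) • x₁)) • (x₀ + (1 * (c * η)) • x₁) +
      ((-(1 - r) * e₁) * hv q u (x₀ + (0 * (c * η)) • x₁)) • (x₀ + (0 * (c * η)) • x₁) =
    ((r * (1 - r) * c ^ 2 * (η * η ^ q) * e₁) * hv q u x₁) • x₁ := by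
  have hq0 : q ≠ 0 := by
    rintro rfl
    have : 2 ≤ Fintype.card F := Fintype.one_lt_card
    rw [hF] at this; omega
  have key : ∀ t : F, t ^ q = t → hv q u (x₀ + (t * (c * η)) • x₁) =
      hv q u x₀ - t * (c * η ^ q) * hv q u x₁ := by
    intro t ht
    rw [hv_add_right hF, hv_smul_right, mul_pow, mul_pow, ht, hc]; ring
  rw [key r hr, key 1 (one_pow q), key 0 (zero_pow hq0)]
  ext i
  simp only [Pi.add_apply, Pi.smul_apply, smul_eq_mul]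
  ring

variable {M : Subgroup (GL (Idx a b) F)}

/-- N1 (`q ≥ 3`): three-term `Z`-sum / second difference. -/
theorem iso_of_noniso_q3 (h : MCtx a b q M) (hq : 3 ≤ q) {x₀ : Fin a → F} (hx₀ : hv q x₀ x₀ ≠ 0)
    {y : Fin b → F} (hy : hv q y y = 0) (hs : pt x₀ y ∈ SsetI q M) :
    ∃ x₁ : Fin a → F, x₁ ≠ 0 ∧ hv q x₁ x₁ = 0 ∧ pt x₁ y ∈ SsetI q M := by
  have hF := h.hF
  obtain ⟨x₁, hx₁, hη⟩ := Cfsg.Agent.Lib.Helper23.UTGLeaf.exists_iso_not_perp hF h.ha hx₀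
  have hx₁0 : x₁ ≠ 0 := by
    rintro rfl
    exact hη (hv_zero_right hF x₀)
  refine ⟨x₁, hx₁0, hx₁, ?_⟩
  obtain ⟨c, hc0, hc⟩ := Cfsg.Agent.Lib.Helper23.UTLeaf.exists_skew hF
  obtain ⟨r, hr0, hr1, hr⟩ := exists_fixed_ne hF hq
  have hq0 : q ≠ 0 := by omega
  obtain ⟨η, hηdef⟩ : ∃ η : F, η = hv q x₀ x₁ := ⟨_, rfl⟩
  have hη0 : η ≠ 0 := by rw [hηdef]; exact hη
  -- the three centres are members
  have hmem : ∀ t : F, t ^ q = t → pt (x₀ + (t * (c * η)) • x₁) y ∈ SsetI q M := by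
    intro t ht
    have hsk : (t * c) ^ q = -(t * c) := by rw [mul_pow, ht, hc]; ring
    have := SsetI_mv h (kA_mem_M h x₁ hsk hx₁) hs
    rw [mv_kA_pt, ← hηdef, mul_assoc] at this
    exact this
  have hiso : ∀ x x' : Fin a → F, hv q (pt x y) (pt x' y) = 0 := by
    intro x x'
    rw [hv_pt, hy, mul_zero]
  intro e he g' hg'
  obtain ⟨δ, hδ⟩ : ∃ δ : F, δ = r * (1 - r) * c ^ 2 * (η * η ^ q) := ⟨_, rfl⟩
  have hδ0 : δ ≠ 0 := by
    rw [hδ]
    refine mul_ne_zero (mul_ne_zero (mul_ne_zero hr0 ?_) (pow_ne_zero 2 hc0))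
      (mul_ne_zero hη0 (pow_ne_zero q hη0))
    intro h1
    apply hr1
    linear_combination -h1
  have hδq : δ ^ q = δ := by
    rw [hδ, mul_pow, mul_pow, mul_pow, mul_pow, sub_eq_add_neg, add_pow_q hF, neg_pow_q hF, one_pow,
      hr, ← pow_mul, mul_comm 2 q, pow_mul, hc, pow_q_pow_q' hF]
    ring
  obtain ⟨e₁, he₁def⟩ : ∃ e₁ : F, e₁ = e / δ := ⟨_, rfl⟩
  have he₁ : e₁ ^ q = -e₁ := by
    rw [he₁def, div_pow, he, hδq, neg_div]
  have hee : e = δ * e₁ := by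
    rw [he₁def]; field_simp
  have hw₂ : (-r * e₁) ^ q = -(-r * e₁) := by
    rw [mul_pow, neg_pow_q hF, hr, he₁]; ring
  have hw₃ : (-(1 - r) * e₁) ^ q = -(-(1 - r) * e₁) := by
    rw [mul_pow, neg_pow_q hF, sub_eq_add_neg, add_pow_q hF, neg_pow_q hF, one_pow, hr, he₁]; ring
  have m₁ := hmem r hr
  have m₂ := hmem 1 (one_pow q)
  have m₃ := hmem 0 (zero_pow hq0)
  have g₁ := m₁ e₁ he₁ _ (mv_tvV q _ e₁ (hiso _ _))
  have g₂ := m₂ (-r * e₁) hw₂ _ (mv_tvV q _ (-r * e₁) (hiso _ _))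
  have g₃ := m₃ (-(1 - r) * e₁) hw₃ _ (mv_tvV q _ (-(1 - r) * e₁) (hiso _ _))
  have hg : g' = tvV q (pt (x₀ + (r * (c * η)) • x₁) y) e₁ (hiso _ _) *
      tvV q (pt (x₀ + (1 * (c * η)) • x₁) y) (-r * e₁) (hiso _ _) *
      tvV q (pt (x₀ + (0 * (c * η)) • x₁) y) (-(1 - r) * e₁) (hiso _ _) := by
    apply ext_mv
    intro v
    rw [mv_tvV_three _ _ _ _ _ _ _ _ _ (hiso _ _) (hiso _ _) (hiso _ _), hg', hv_pt_right,
      hv_pt_right, hv_pt_right, hv_pt_right, ← pt_smul_left, ← pt_smul_left, ← pt_smul_left,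
      ← pt_smul_left, add_assoc, add_assoc, ← pt_add_left, ← pt_add_left]
    congr 2
    have h3 := three_term hF (e₁ := e₁) hc hr x₀ x₁ (ct (cj q y) v) η
    rw [hee, hδ]
    rw [← h3]
    abel
  rw [hg]
  exact M.mul_mem (M.mul_mem g₁ g₂) g₃

end Cfsg.Agent.Lib.Helper9.UTGLeaf
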