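import Mathlib
import Cfsg.Agent.Lib.Helper9.UTGN1

/-!
S5801 conjunct (8), case `q = 3` (helper8's assembly): the BRIDGE `T1U → T1U'` without a context
(`Helper20.UT.T1U`: centre `x ⊗ y`, `y` isotropic, `x` arbitrary; `Helper5.UTG.T1U'`: both isotropic).
A context-free copy of `Helper9.UTGLeaf.iso_of_noniso_q3` (which only used `hF`, `2 ≤ a`, `K ≤ M ≤ GS`).
-/

set_option autoImplicit false
set_option linter.unusedSectionVars false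
set_option linter.unusedVariables false

namespace Cfsg.Agent.Lib.Helper9.U23Bridge
open Matrix
open Cfsg.Agent.Lib.Helper25.Tens Cfsg.Agent.Lib.Helper25.TensLeaf Cfsg.Agent.Lib.Helper20.UT
open Cfsg.Agent.Lib.Helper5.UTG Cfsg.Agent.Lib.Helper5.SUGen Cfsg.Agent.Lib.Helper5.SUMax
open Cfsg.Agent.Lib.Helper9.UTGLeaf
open scoped Kronecker

variable {F : Type*} [Field F] [Fintype F] {a b q : ℕ} {M : Subgroup (GL (Idx a b) F)}

/-- `SsetI` is `M`-stable (context-free) -/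
lemma SsetI_mv' (hleG : M ≤ GS a b q F) {g : GL (Idx a b) F} (hg : g ∈ M) {s : Idx a b → F}
    (hs : s ∈ SsetI q M) : mv g s ∈ SsetI q M := by
  intro c hc t ht
  have hgU : g ∈ GUI a b q F := (hleG hg).1
  have h1 : g⁻¹ * t * g ∈ M := hs c hc _ (fun v => by
    rw [mv_mul, mv_mul, ht, mv_add, mv_smul, mv_inv_mv, mv_inv_mv, mem_GUI.mp hgU])
  have h2 : t = g * (g⁻¹ * t * g) * g⁻¹ := by group
  rw [h2]
  exact M.mul_mem (M.mul_mem hg h1) (M.inv_mem hg)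

lemma kA_mem_M' (hF : Fintype.card F = q ^ 2) (hle : KG a b F ⊓ GS a b q F ≤ M) (x : Fin a → F) {c : F}
    (hc : c ^ q = -c) (hx : hv q x x = 0) : (kA q x c hx : GL (Idx a b) F) ∈ M :=
  hle ⟨kA_mem_KG q x c hx, Cfsg.Agent.Lib.Helper20.UTLeaf.kA_mem_GS hF x hc hx⟩

/-- N1 (`q ≥ 3`): three-term `Z`-sum / second difference. -/
theorem iso_of_noniso_q3' (hF : Fintype.card F = q ^ 2) (ha : 2 ≤ a) (hq : 3 ≤ q)
    (hle : KG a b F ⊓ GS a b q F ≤ M) (hleG : M ≤ GS a b q F) {x₀ : Fin a → F} (hx₀ : hv q x₀ x₀ ≠ 0)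
    {y : Fin b → F} (hy : hv q y y = 0) (hs : pt x₀ y ∈ SsetI q M) :
    ∃ x₁ : Fin a → F, x₁ ≠ 0 ∧ hv q x₁ x₁ = 0 ∧ pt x₁ y ∈ SsetI q M := by
  obtain ⟨x₁, hx₁, hη⟩ := Cfsg.Agent.Lib.Helper23.UTGLeaf.exists_iso_not_perp hF ha hx₀
  have hx₁0 : x₁ ≠ 0 := by
    rintro rfl
    exact hη (hv_zero_right hF x₀)
  refine ⟨x₁, hx₁0, hx₁, ?_⟩
  obtain ⟨c, hc0, hc⟩ := Cfsg.Agent.Lib.Helper23.UTLeaf.exists_skew hF
  obtain ⟨r, hr0, hr1, hr⟩ := exists_fixed_ne hF hq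
  have hq0 : q ≠ 0 := by omega
  obtain ⟨η, hηdef⟩ : ∃ η : F, η = hv q x₀ x₁ := ⟨_, rfl⟩
  have hη0 : η ≠ 0 := by rw [hηdef]; exact hη
  -- the three centres are members
  have hmem : ∀ t : F, t ^ q = t → pt (x₀ + (t * (c * η)) • x₁) y ∈ SsetI q M := by
    intro t ht
    have hsk : (t * c) ^ q = -(t * c) := by rw [mul_pow, ht, hc]; ring
    have := SsetI_mv' hleG (kA_mem_M' hF hle x₁ hsk hx₁) hs
    rw [mv_kA_pt, ← hηdef, mul_assoc] at this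
    exact this
  have hiso : ∀ x x' : Fin a → F, hv q (pt x y) (pt x' y) = 0 := by
    intro x x'
    rw [hv_pt, hy, mul_zero]
  intro e he g' hg'
  obtain ⟨δ, hδ⟩ : ∃ δ : F, δ = r * (1 - r) * c ^ 2 * (η * η ^ q) := ⟨_, rfl⟩
  have hδ0 : δ ≠ 0 := by
    rw [hδ]
    refine mul_ne_zero (mul_ne_zero (mul_ne_zero hr0 ?_) (pow_ne_zero 2 hc0))
      (mul_ne_zero hη0 (pow_ne_zero q hη0))
    intro h1
    apply hr1
    linear_combination -h1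
  have hδq : δ ^ q = δ := by
    rw [hδ, mul_pow, mul_pow, mul_pow, mul_pow, sub_eq_add_neg, add_pow_q hF, neg_pow_q hF, one_pow,
      hr, ← pow_mul, mul_comm 2 q, pow_mul, hc, pow_q_pow_q' hF]
    ring
  obtain ⟨e₁, he₁def⟩ : ∃ e₁ : F, e₁ = e / δ := ⟨_, rfl⟩
  have he₁ : e₁ ^ q = -e₁ := by
    rw [he₁def, div_pow, he, hδq, neg_div]
  have hee : e = δ * e₁ := by
    rw [he₁def]; field_simp
  have hw₂ : (-r * e₁) ^ q = -(-r * e₁) := by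
    rw [mul_pow, neg_pow_q hF, hr, he₁]; ring
  have hw₃ : (-(1 - r) * e₁) ^ q = -(-(1 - r) * e₁) := by
    rw [mul_pow, neg_pow_q hF, sub_eq_add_neg, add_pow_q hF, neg_pow_q hF, one_pow, hr, he₁]; ring
  have m₁ := hmem r hr
  have m₂ := hmem 1 (one_pow q)
  have m₃ := hmem 0 (zero_pow hq0)
  have g₁ := m₁ e₁ he₁ _ (mv_tvV q _ e₁ (hiso _ _))
  have g₂ := m₂ (-r * e₁) hw₂ _ (mv_tvV q _ (-r * e₁) (hiso _ _))
  have g₃ := m₃ (-(1 - r) * e₁) hw₃ _ (mv_tvV q _ (-(1 - r) * e₁) (hiso _ _))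
  have hg : g' = tvV q (pt (x₀ + (r * (c * η)) • x₁) y) e₁ (hiso _ _) *
      tvV q (pt (x₀ + (1 * (c * η)) • x₁) y) (-r * e₁) (hiso _ _) *
      tvV q (pt (x₀ + (0 * (c * η)) • x₁) y) (-(1 - r) * e₁) (hiso _ _) := by
    apply ext_mv
    intro v
    rw [mv_tvV_three _ _ _ _ _ _ _ _ _ (hiso _ _) (hiso _ _) (hiso _ _), hg', hv_pt_right,
      hv_pt_right, hv_pt_right, hv_pt_right, ← pt_smul_left, ← pt_smul_left, ← pt_smul_left,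
      ← pt_smul_left, add_assoc, add_assoc, ← pt_add_left, ← pt_add_left]
    congr 2
    have h3 := three_term hF (e₁ := e₁) hc hr x₀ x₁ (ct (cj q y) v) η
    rw [hee, hδ]
    rw [← h3]
    abel
  rw [hg]
  exact M.mul_mem (M.mul_mem g₁ g₂) g₃


/-- the bridge `T1U → T1U'` (`q ≥ 3`, `2 ≤ a`) -/
theorem T1U'_of_T1U (hF : Fintype.card F = q ^ 2) (ha : 2 ≤ a) (hq : 3 ≤ q)
    (hle : KG a b F ⊓ GS a b q F ≤ M) (hleG : M ≤ GS a b q F) :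
    Cfsg.Agent.Lib.Helper20.UT.T1U q M → Cfsg.Agent.Lib.Helper5.UTG.T1U' q M := by
  rintro ⟨x, y, hx0, hy0, hy, hs⟩
  by_cases hxx : hv q x x = 0
  · exact ⟨x, y, hx0, hy0, hxx, hy, hs⟩
  · obtain ⟨x₁, hx₁0, hx₁, hs₁⟩ := iso_of_noniso_q3' hF ha hq hle hleG hxx hy hs
    exact ⟨x₁, y, hx₁0, hy0, hx₁, hy, hs₁⟩

/-- the instance at `(2,3)` -/
theorem T1U'_of_T1U_23 {M : Subgroup (GL (Idx 2 3) F)} (hF : Fintype.card F = q ^ 2) (hq : 3 ≤ q)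
    (hle : KG 2 3 F ⊓ GS 2 3 q F ≤ M) (hleG : M ≤ GS 2 3 q F) :
    Cfsg.Agent.Lib.Helper20.UT.T1U q M → Cfsg.Agent.Lib.Helper5.UTG.T1U' q M :=
  T1U'_of_T1U hF le_rfl hq hle hleG

end Cfsg.Agent.Lib.Helper9.U23Bridge
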