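import Mathlib
import Cfsg.Prelude.Def_ClassicalGeometry
import Cfsg.Prelude.Def_GeometricClasses
import Cfsg.Agent.Lib.Helper11.T23UDefs
import Cfsg.Agent.Lib.Helper9.TwistNu

/-!
S5801 conjunct (8), market C4U (helper11), leaf **TW** `twist`: the twist `T_ρ` for the pair of root groups
`X_x`, `g X_x g⁻¹`; an instance of `Cfsg.Agent.Lib.Helper9.TwistNu.exists_twist`
(`N := (x x†) ⊗ 1`, `N'' := g N g⁻¹`, `R := FibA x`, `R'' := g (FibA x)`, `Y := K := R ⊓ R''`,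
`S := {c | c^q = -c}`, `ν := ρ`).
-/

set_option autoImplicit false
set_option linter.unusedSectionVars false
set_option linter.unusedVariables false

namespace Cfsg.Agent.Lib.Helper9.C4UTW
open Matrix Module
open Cfsg.Agent.Lib.Helper25.Tens Cfsg.Agent.Lib.Helper25.TensLeaf
open Cfsg.Agent.Lib.Helper20.UT Cfsg.Agent.Lib.Helper11.T23U
open scoped Kronecker

variable {F : Type*} [Field F] [Fintype F] {q : ℕ} {M : Subgroup (GL (Idx 2 3) F)}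

/-- the nilpotent `N = (x x†) ⊗ 1` of the root group `X_x` -/
private def NA (q : ℕ) (x : Fin 2 → F) : Matrix (Idx 2 3) (Idx 2 3) F :=
  Matrix.vecMulVec x (cj q x) ⊗ₖ (1 : Matrix (Fin 3) (Fin 3) F)

private lemma NA_mulVec (x : Fin 2 → F) (v : Idx 2 3 → F) :
    NA q x *ᵥ v = pt x (ctA (cj q x) v) :=
  Cfsg.Agent.Lib.Helper20.UTLeaf.kron_vecMulVec_one_mulVec x (cj q x) v

private lemma kA_val {x : Fin 2 → F} (hx : hv q x x = 0) (c : F) :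
    ((kA q x c hx : GL (Idx 2 3) F) : Matrix (Idx 2 3) (Idx 2 3) F) = 1 + c • NA q x := by
  apply Matrix.toLin'.injective
  apply LinearMap.ext
  intro v
  have h1 := Cfsg.Agent.Lib.Helper20.UTLeaf.mv_kA (q := q) (b := 3) x c hx v
  unfold mv at h1
  rw [Matrix.toLin'_apply, Matrix.toLin'_apply, Matrix.add_mulVec, Matrix.smul_mulVec,
    Matrix.one_mulVec, h1, NA_mulVec]

/-- **TW** the twist -/
theorem twist (h : MC q M) {x : Fin 2 → F} (hx0 : x ≠ 0) (hx : hv q x x = 0) {g : GL (Idx 2 3) F} (hg : g ∈ M)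
    {x₀ : GL (Idx 2 3) F}
    (hx₀ : x₀ ∈ XA (b := 3) q x hx ⊔ (XA (b := 3) q x hx).map (MulAut.conj g).toMonoidHom)
    (hmap : ∀ v ∈ FibA (b := 3) x, mv x₀ v ∈ mvS g (FibA (b := 3) x)) (ρ : F) (hρ0 : ρ ≠ 0) (hρ : ρ ^ q = ρ) :
    ∃ T ∈ M, (∀ v ∈ FibA (b := 3) x ⊓ mvS g (FibA (b := 3) x), mv T v = v) ∧
      ∀ v ∈ FibA (b := 3) x, mv T v - ρ⁻¹ • v ∈ FibA (b := 3) x ⊓ mvS g (FibA (b := 3) x) := by
  have hF := h.hF
  set R : Submodule F (Idx 2 3 → F) := FibA (b := 3) x with hR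
  set R'' : Submodule F (Idx 2 3 → F) := mvS g (FibA (b := 3) x) with hR''
  set K : Submodule F (Idx 2 3 → F) := R ⊓ R'' with hK
  set N : Matrix (Idx 2 3) (Idx 2 3) F := NA q x with hN
  set N'' : Matrix (Idx 2 3) (Idx 2 3) F :=
    (g : Matrix (Idx 2 3) (Idx 2 3) F) * N * ((g⁻¹ : GL (Idx 2 3) F) : Matrix (Idx 2 3) (Idx 2 3) F) with hN''
  let S : Set F := {c | c ^ q = -c}
  let uN : F → GL (Idx 2 3) F := fun c => kA q x c hx
  let uN'' : F → GL (Idx 2 3) F := fun c => g * kA q x c hx * g⁻¹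
  have hKR : K ≤ R := inf_le_left
  have hKR'' : K ≤ R'' := inf_le_right
  have hRK' : R ⊔ K = R := sup_eq_left.mpr hKR
  have hR''K : R'' ⊔ K = R'' := sup_eq_left.mpr hKR''
  have hNR : ∀ v, N *ᵥ v ∈ R := by
    intro v
    rw [hN, NA_mulVec]
    exact mem_FibA.mpr ⟨_, rfl⟩
  have hN0 : ∀ v ∈ R, N *ᵥ v = 0 := by
    intro v hv
    obtain ⟨y, rfl⟩ := mem_FibA.mp hv
    rw [hN, NA_mulVec, ctA_cj_pt, hx, zero_smul, pt_zero_right]
  have hgg : (g : Matrix (Idx 2 3) (Idx 2 3) F) * ((g⁻¹ : GL (Idx 2 3) F) : Matrix (Idx 2 3) (Idx 2 3) F) = 1 := by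
    rw [← Units.val_mul, mul_inv_cancel, Units.val_one]
  have hgg' : ((g⁻¹ : GL (Idx 2 3) F) : Matrix (Idx 2 3) (Idx 2 3) F) * (g : Matrix (Idx 2 3) (Idx 2 3) F) = 1 := by
    rw [← Units.val_mul, inv_mul_cancel, Units.val_one]
  have hN''v : ∀ v, N'' *ᵥ v = mv g (N *ᵥ (mv g⁻¹ v)) := by
    intro v
    unfold mv
    rw [hN'', Matrix.mulVec_mulVec, Matrix.mulVec_mulVec, Matrix.mul_assoc]
  have hN''R : ∀ v, N'' *ᵥ v ∈ R'' := by
    intro v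
    rw [hN''v]
    exact mem_mvS.mpr ⟨_, hNR _, rfl⟩
  have hN''0 : ∀ v ∈ R'', N'' *ᵥ v = 0 := by
    intro v hv
    obtain ⟨w, hw, rfl⟩ := mem_mvS.mp hv
    rw [hN''v, mv_inv_mv, hN0 w hw, mv_zero]
  have huN : ∀ c, ((uN c : GL (Idx 2 3) F) : Matrix (Idx 2 3) (Idx 2 3) F) = 1 + c • N := fun c => kA_val hx c
  have huN'' : ∀ c, ((uN'' c : GL (Idx 2 3) F) : Matrix (Idx 2 3) (Idx 2 3) F) = 1 + c • N'' := by
    intro c
    show ((g * kA q x c hx * g⁻¹ : GL (Idx 2 3) F) : Matrix (Idx 2 3) (Idx 2 3) F) = _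
    rw [Units.val_mul, Units.val_mul, kA_val hx c, hN'', Matrix.mul_add, Matrix.add_mul, Matrix.mul_one, hgg,
      Matrix.mul_smul, Matrix.smul_mul]
  have hSneg : ∀ c ∈ S, -c ∈ S := by
    intro c hc
    show (-c) ^ q = -(-c)
    rw [neg_pow_q hF, show c ^ q = -c from hc]
  have hSν : ∀ c ∈ S, ρ * c ∈ S := by
    intro c hc
    show (ρ * c) ^ q = -(ρ * c)
    rw [mul_pow, hρ, show c ^ q = -c from hc, mul_neg]
  have hSν' : ∀ c ∈ S, ρ⁻¹ * c ∈ S := by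
    intro c hc
    show (ρ⁻¹ * c) ^ q = -(ρ⁻¹ * c)
    rw [mul_pow, inv_pow, hρ, show c ^ q = -c from hc, mul_neg]
  -- the generating sets
  have hset1 : ({t | ∃ c ∈ S, t = uN c} : Set (GL (Idx 2 3) F)) = XAset (b := 3) q x hx := by
    ext t
    constructor
    · rintro ⟨c, hc, rfl⟩; exact ⟨c, hc, rfl⟩
    · rintro ⟨c, hc, rfl⟩; exact ⟨c, hc, rfl⟩
  have hset2 : ({t | ∃ c ∈ S, t = uN'' c} : Set (GL (Idx 2 3) F)) =
      (MulAut.conj g).toMonoidHom '' XAset (b := 3) q x hx := by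
    ext t
    constructor
    · rintro ⟨c, hc, rfl⟩
      exact ⟨kA q x c hx, ⟨c, hc, rfl⟩, rfl⟩
    · rintro ⟨s, ⟨c, hc, rfl⟩, rfl⟩
      exact ⟨c, hc, rfl⟩
  have hcl : Subgroup.closure ({t | ∃ c ∈ S, t = uN c} ∪ {t | ∃ c ∈ S, t = uN'' c}) =
      XA (b := 3) q x hx ⊔ (XA (b := 3) q x hx).map (MulAut.conj g).toMonoidHom := by
    rw [Subgroup.closure_union, hset1, hset2, ← MonoidHom.map_closure]
    rfl
  have hclM : Subgroup.closure ({t | ∃ c ∈ S, t = uN c} ∪ {t | ∃ c ∈ S, t = uN'' c}) ≤ M := by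
    rw [Subgroup.closure_le]
    have hkM : ∀ c ∈ S, (kA q x c hx : GL (Idx 2 3) F) ∈ M := fun c hc =>
      h.le ⟨kA_mem_KG q x c hx, Cfsg.Agent.Lib.Helper20.UTLeaf.kA_mem_GS hF x hc hx⟩
    rintro t (⟨c, hc, rfl⟩ | ⟨c, hc, rfl⟩)
    · exact hkM c hc
    · exact M.mul_mem (M.mul_mem hg (hkM c hc)) (M.inv_mem hg)
  obtain ⟨T, hT, h1, h2, -⟩ := Cfsg.Agent.Lib.Helper9.TwistNu.exists_twist N N'' R R'' K K hNR hN''R
    (by rw [hRK']; exact hN0) (by rw [hR''K]; exact hN''0) hKR hKR'' le_rfl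
    (by rw [hR''K]) S hSneg ρ hρ0 hSν hSν' uN uN'' huN huN'' x₀ (by rw [hcl]; exact hx₀) hmap
  exact ⟨T, hclM hT, h1, h2⟩

end Cfsg.Agent.Lib.Helper9.C4UTW
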