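import Mathlib
import Cfsg.Prelude.Def_GeometricClasses
import Cfsg.Agent.Lib.Helper15.AltIso

set_option autoImplicit false
open scoped MatrixGroups

namespace Cfsg.Agent.Lib.Helper9.SympA
open Matrix

variable {F : Type*} [Field F] {n : ℕ}

/-- the symplectic-type subgroup of `SL_n(F)` -/
abbrev HS (f : (Fin n → F) → (Fin n → F) → F) : Subgroup (Matrix.SpecialLinearGroup (Fin n) F) :=
  (Cfsg.Geo.similarityGroup f).comap
    (Matrix.SpecialLinearGroup.toGL : Matrix.SpecialLinearGroup (Fin n) F →* GL (Fin n) F)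

/-- the bilinear form of a bilinear function -/
def toBilin (f : (Fin n → F) → (Fin n → F) → F) (hf : Cfsg.Geo.IsBilinearForm f) :
    LinearMap.BilinForm F (Fin n → F) :=
  LinearMap.mk₂ F f hf.add_left hf.smul_left hf.add_right hf.smul_right

@[simp] theorem toBilin_apply (f : (Fin n → F) → (Fin n → F) → F) (hf : Cfsg.Geo.IsBilinearForm f)
    (u v : Fin n → F) : toBilin f hf u v = f u v := rfl

/-- the bilinear form of a matrix -/
def gramBilin (G : Matrix (Fin n) (Fin n) F) : LinearMap.BilinForm F (Fin n → F) :=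
  Matrix.toBilin' G

theorem gramBilin_apply (G : Matrix (Fin n) (Fin n) F) (u v : Fin n → F) :
    gramBilin G u v = u ⬝ᵥ G *ᵥ v := by
  unfold gramBilin
  rw [Matrix.toBilin'_apply']

theorem gramBilin_alt (G : Matrix (Fin n) (Fin n) F) (hG : Gᵀ = -G) (hd : ∀ i, G i i = 0) :
    (gramBilin G).IsAlt := by
  intro u
  rw [gramBilin_apply]
  have hskew : ∀ i j, G j i = - G i j := by
    intro i j
    have := congrFun (congrFun hG i) j
    simpa using this
  have h1 : u ⬝ᵥ G *ᵥ u = ∑ p ∈ (Finset.univ : Finset (Fin n)) ×ˢ (Finset.univ : Finset (Fin n)),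
      u p.1 * G p.1 p.2 * u p.2 := by
    rw [Finset.sum_product]
    unfold dotProduct Matrix.mulVec dotProduct
    apply Finset.sum_congr rfl
    intro i _
    rw [Finset.mul_sum]
    apply Finset.sum_congr rfl
    intro j _
    ring
  rw [h1]
  apply Finset.sum_involution (fun p _ => (p.2, p.1))
  · intro p _
    rw [hskew p.1 p.2]
    ring
  · intro p _ hne heq
    have h2 : p.2 = p.1 := congrArg Prod.fst heq
    apply hne
    rw [h2, hd, mul_zero, zero_mul]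
  · intro p _
    simp
  · intro p _
    rfl

theorem gramBilin_nondeg (G : Matrix (Fin n) (Fin n) F) (hG : G.det ≠ 0) :
    ∀ u, (∀ v, gramBilin G u v = 0) → u = 0 := by
  intro u hu
  have h1 : Matrix.vecMul u G = 0 := by
    funext j
    have := hu (Pi.single j 1)
    rw [gramBilin_apply, Matrix.dotProduct_mulVec, dotProduct_single, mul_one] at this
    exact this
  have hGu : IsUnit G := (Matrix.isUnit_iff_isUnit_det _).mpr (isUnit_iff_ne_zero.mpr hG)
  obtain ⟨Gu, rfl⟩ := hGu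
  have h2 := congrArg (fun w => Matrix.vecMul w ((Gu⁻¹ : (Matrix (Fin n) (Fin n) F)ˣ) : Matrix (Fin n) (Fin n) F)) h1
  simp only [Matrix.vecMul_vecMul, Matrix.zero_vecMul] at h2
  rw [← Units.val_mul, mul_inv_cancel, Units.val_one, Matrix.vecMul_one] at h2
  exact h2

theorem dot_mulVec_mul (G M : Matrix (Fin n) (Fin n) F) (a b : Fin n → F) :
    (M *ᵥ a) ⬝ᵥ G *ᵥ (M *ᵥ b) = a ⬝ᵥ (Mᵀ * G * M) *ᵥ b := by
  rw [← Matrix.mulVec_mulVec, ← Matrix.mulVec_mulVec, Matrix.dotProduct_mulVec _ Mᵀ,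
    Matrix.vecMul_transpose]

/-- transport to an arbitrary symplectic form: if `x` is conjugate to a scalar multiple of a
similitude `M` of a model alternating Gram matrix `G`, and the centralizer of `M` has elements
of every determinant, then `x` is `SL`-conjugate into the similarity group of `f`. -/
theorem transport (f : (Fin n → F) → (Fin n → F) → F) (hf : Cfsg.Geo.IsSymplecticForm f)
    (G M : Matrix (Fin n) (Fin n) F) (hGt : Gᵀ = -G) (hGd : ∀ i, G i i = 0) (hGdet : G.det ≠ 0)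
    (c : F) (hc : c ≠ 0) (hM : Mᵀ * G * M = c • G)
    (hcent : ∀ δ : F, δ ≠ 0 → ∃ c₀ : Matrix (Fin n) (Fin n) F, c₀ * M = M * c₀ ∧ c₀.det = δ)
    (x : Matrix.SpecialLinearGroup (Fin n) F) (g : Matrix (Fin n) (Fin n) F) (hg : g.det ≠ 0)
    (lam : F) (hlam : lam ≠ 0)
    (hx : (x : Matrix (Fin n) (Fin n) F) * g = g * (lam • M)) :
    ∃ P : Matrix.SpecialLinearGroup (Fin n) F, P⁻¹ * x * P ∈ HS f := by
  classical
  set β₁ := toBilin f hf.bilinear with hβ₁
  have halt₁ : β₁.IsAlt := fun u => hf.alternating u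
  have hnd₁ : ∀ u, (∀ v, β₁ u v = 0) → u = 0 := by
    intro u hu
    by_contra hne
    obtain ⟨-, w, hw⟩ := hf.nondegenerate u hne
    exact hw (hu w)
  obtain ⟨θ, hθ⟩ := Cfsg.Agent.Lib.Helper15.AltIso.exists_isometry_of_alt β₁ (gramBilin G) halt₁
    (gramBilin_alt G hGt hGd) hnd₁ (gramBilin_nondeg G hGdet)
  obtain ⟨Θ, hΘ⟩ : ∃ Θ : Matrix (Fin n) (Fin n) F, Θ = LinearMap.toMatrix' (θ : (Fin n → F) →ₗ[F] (Fin n → F)) :=
    ⟨_, rfl⟩
  obtain ⟨Θi, hΘi⟩ : ∃ Θi : Matrix (Fin n) (Fin n) F,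
    Θi = LinearMap.toMatrix' (θ.symm : (Fin n → F) →ₗ[F] (Fin n → F)) := ⟨_, rfl⟩
  have hΘΘi : Θ * Θi = 1 := by
    rw [hΘ, hΘi, ← LinearMap.toMatrix'_comp]
    simp
  have hΘiΘ : Θi * Θ = 1 := by
    rw [hΘ, hΘi, ← LinearMap.toMatrix'_comp]
    simp
  have hΘv : ∀ u, Θ *ᵥ u = θ u := by
    intro u
    rw [hΘ, LinearMap.toMatrix'_mulVec]
    rfl
  have hfΘ : ∀ u v, f (Θ *ᵥ u) (Θ *ᵥ v) = u ⬝ᵥ G *ᵥ v := by
    intro u v
    rw [hΘv, hΘv, ← gramBilin_apply, ← hθ]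
    rfl
  have hΘdet : Θ.det ≠ 0 := by
    intro h
    have := congrArg Matrix.det hΘΘi
    rw [Matrix.det_mul, h, zero_mul, Matrix.det_one] at this
    exact zero_ne_one this
  have hΘidet : Θ.det * Θi.det = 1 := by
    rw [← Matrix.det_mul, hΘΘi, Matrix.det_one]
  obtain ⟨c₀, hc₀M, hc₀det⟩ := hcent (Θ.det / g.det) (div_ne_zero hΘdet hg)
  obtain ⟨Pm, hPm⟩ : ∃ Pm : Matrix (Fin n) (Fin n) F, Pm = g * c₀ * Θi := ⟨_, rfl⟩
  have hPmdet : Pm.det = 1 := by
    rw [hPm, Matrix.det_mul, Matrix.det_mul, hc₀det, mul_div_cancel₀ _ hg, hΘidet]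
  obtain ⟨y, hy⟩ : ∃ y : Matrix (Fin n) (Fin n) F, y = Θ * (lam • M) * Θi := ⟨_, rfl⟩
  have hxP : (x : Matrix (Fin n) (Fin n) F) * Pm = Pm * y := by
    have h1 : (lam • M) * c₀ = c₀ * (lam • M) := by
      rw [Matrix.smul_mul, Matrix.mul_smul, hc₀M]
    calc (x : Matrix (Fin n) (Fin n) F) * Pm
        = ((x : Matrix (Fin n) (Fin n) F) * g) * c₀ * Θi := by rw [hPm]; simp only [Matrix.mul_assoc]
      _ = g * ((lam • M) * c₀) * Θi := by rw [hx]; simp only [Matrix.mul_assoc]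
      _ = g * c₀ * (Θi * Θ) * (lam • M) * Θi := by
          rw [h1, hΘiΘ, Matrix.mul_one]; simp only [Matrix.mul_assoc]
      _ = Pm * y := by rw [hPm, hy]; simp only [Matrix.mul_assoc]
  let P : Matrix.SpecialLinearGroup (Fin n) F := ⟨Pm, hPmdet⟩
  have hPcoe : (P : Matrix (Fin n) (Fin n) F) = Pm := rfl
  have hconj : ((P⁻¹ * x * P : Matrix.SpecialLinearGroup (Fin n) F) : Matrix (Fin n) (Fin n) F) = y := by
    have hinv : ((P⁻¹ : Matrix.SpecialLinearGroup (Fin n) F) : Matrix (Fin n) (Fin n) F) * Pm = 1 := by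
      rw [← hPcoe, ← Matrix.SpecialLinearGroup.coe_mul, inv_mul_cancel, Matrix.SpecialLinearGroup.coe_one]
    rw [Matrix.SpecialLinearGroup.coe_mul, Matrix.SpecialLinearGroup.coe_mul, hPcoe, Matrix.mul_assoc,
      hxP, ← Matrix.mul_assoc, hinv, Matrix.one_mul]
  have hysim : ∀ u v, f (y *ᵥ u) (y *ᵥ v) = (lam * lam * c) * f u v := by
    intro u v
    have hyu : ∀ w, y *ᵥ w = Θ *ᵥ (lam • (M *ᵥ (Θi *ᵥ w))) := by
      intro w
      rw [hy, ← Matrix.mulVec_mulVec, ← Matrix.mulVec_mulVec, Matrix.smul_mulVec]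
    have huu : ∀ w, Θ *ᵥ (Θi *ᵥ w) = w := by
      intro w
      rw [Matrix.mulVec_mulVec, hΘΘi, Matrix.one_mulVec]
    rw [hyu, hyu, hfΘ, Matrix.mulVec_smul, dotProduct_smul, smul_dotProduct, dot_mulVec_mul, hM,
      Matrix.smul_mulVec, dotProduct_smul, ← hfΘ, huu, huu]
    simp only [smul_eq_mul]
    ring
  refine ⟨P, ?_⟩
  rw [Subgroup.mem_comap]
  refine ⟨Units.mk0 (lam * lam * c) (mul_ne_zero (mul_ne_zero hlam hlam) hc), fun u v => ?_⟩
  have : ((Matrix.SpecialLinearGroup.toGL (P⁻¹ * x * P) : GL (Fin n) F) : Matrix (Fin n) (Fin n) F) = y :=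
    hconj
  rw [this]
  exact hysim u v

end Cfsg.Agent.Lib.Helper9.SympA
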