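import Mathlib

/-!
S4581 leaf (GT1): `G` solvable, not a 2-group, all normal 2-subgroups of exponent `≤ 2`: there is a
nontrivial normal subgroup `N₀` with `N₀/N₀'` of odd order and `P ∩ N₀` of exponent `≤ 2`.

Construction: `X` = the last term of the derived series of `G` that is not a 2-group (so `X' = ⁅X,X⁆`
is a normal 2-subgroup); `S = {y ∈ X | y^(2^k) ∈ X' for some k}` is a normal 2-subgroup containing
`P ∩ X`; `N₀` = the subgroup generated by the odd-order elements of `X`.
-/

set_option autoImplicit false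

namespace Cfsg.Agent.Lib.Helper9.RO

universe u

section aux

variable {G : Type u} [Group G]

/-- the subgroup generated by the odd-order elements of `X`. -/
def oddGen (X : Subgroup G) : Subgroup G :=
  Subgroup.closure {x : G | x ∈ X ∧ Odd (orderOf x)}

theorem oddGen_le (X : Subgroup G) : oddGen X ≤ X := by
  rw [oddGen, Subgroup.closure_le]
  intro x hx
  exact hx.1

theorem oddGen_normal (X : Subgroup G) [hX : X.Normal] : (oddGen X).Normal := by
  constructor
  intro n hn g
  unfold oddGen at hn ⊢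
  induction hn using Subgroup.closure_induction with
  | mem x hx =>
    apply Subgroup.subset_closure
    refine ⟨hX.conj_mem x hx.1 g, ?_⟩
    have : orderOf (g * x * g⁻¹) = orderOf x := by
      have := orderOf_injective (MulAut.conj g).toMonoidHom (MulAut.conj g).injective x
      simpa [MulAut.conj_apply] using this
    rw [this]; exact hx.2
  | one => simp
  | mul a b _ _ iha ihb =>
    have : g * (a * b) * g⁻¹ = (g * a * g⁻¹) * (g * b * g⁻¹) := by group
    rw [this]; exact Subgroup.mul_mem _ iha ihb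
  | inv a _ iha =>
    have : g * a⁻¹ * g⁻¹ = (g * a * g⁻¹)⁻¹ := by group
    rw [this]; exact Subgroup.inv_mem _ iha

/-- in a finite commutative group generated by odd-order elements the order is odd. -/
theorem odd_card_of_forall_odd_orderOf {A : Type*} [CommGroup A] [Finite A]
    (h : ∀ a : A, Odd (orderOf a)) : Odd (Nat.card A) := by
  by_contra hc
  rw [Nat.not_odd_iff_even] at hc
  have h2 : 2 ∣ Nat.card A := hc.two_dvd
  haveI : Fact (Nat.Prime 2) := ⟨Nat.prime_two⟩
  obtain ⟨a, ha⟩ := exists_prime_orderOf_dvd_card' 2 h2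
  have := h a
  rw [ha] at this
  exact absurd this (by decide)

theorem odd_card_abelianization_oddGen [Finite G] (X : Subgroup G) :
    Odd (Nat.card (Abelianization (oddGen X))) := by
  classical
  haveI : Finite (Abelianization (oddGen X)) := by
    unfold Abelianization; infer_instance
  apply odd_card_of_forall_odd_orderOf
  -- the odd-order elements of the commutative group form a subgroup
  let O : Subgroup (Abelianization (oddGen X)) :=
    { carrier := {a | Odd (orderOf a)}
      one_mem' := by simp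
      mul_mem' := by
        intro a b ha hb
        change Odd (orderOf a) at ha
        change Odd (orderOf b) at hb
        change Odd (orderOf (a * b))
        have hdvd : orderOf (a * b) ∣ orderOf a * orderOf b :=
          ((Commute.all a b).orderOf_mul_dvd_lcm).trans (Nat.lcm_dvd_mul _ _)
        exact Odd.of_dvd_nat (ha.mul hb) hdvd
      inv_mem' := by
        intro a ha
        change Odd (orderOf a) at ha
        change Odd (orderOf a⁻¹)
        rw [orderOf_inv]; exact ha }
  have key : ∀ y (hy : y ∈ oddGen X), (Abelianization.of ⟨y, hy⟩ : Abelianization (oddGen X)) ∈ O := by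
    intro y hy
    unfold oddGen at hy
    induction hy using Subgroup.closure_induction with
    | mem x hx =>
      show Odd (orderOf _)
      have hdvd : orderOf (Abelianization.of (⟨x, Subgroup.subset_closure hx⟩ : oddGen X)) ∣
          orderOf (⟨x, Subgroup.subset_closure hx⟩ : oddGen X) := orderOf_map_dvd _ _
      have : orderOf (⟨x, Subgroup.subset_closure hx⟩ : oddGen X) = orderOf x := by
        rw [← Subgroup.orderOf_coe]
      rw [this] at hdvd
      exact Odd.of_dvd_nat hx.2 hdvd
    | one =>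
      have : (⟨1, (oddGen X).one_mem⟩ : oddGen X) = 1 := rfl
      rw [this, map_one]; exact O.one_mem
    | mul a b ha hb iha ihb =>
      have : (⟨a * b, (oddGen X).mul_mem ha hb⟩ : oddGen X) = ⟨a, ha⟩ * ⟨b, hb⟩ := rfl
      rw [this, map_mul]; exact O.mul_mem iha ihb
    | inv a ha iha =>
      have : (⟨a⁻¹, (oddGen X).inv_mem ha⟩ : oddGen X) = (⟨a, ha⟩ : oddGen X)⁻¹ := rfl
      rw [this, map_inv]; exact O.inv_mem iha
  intro a
  obtain ⟨y, rfl⟩ := QuotientGroup.mk_surjective a
  exact key y.1 y.2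

end aux

end Cfsg.Agent.Lib.Helper9.RO

namespace Cfsg.Agent.Lib.Helper9.RO

universe u

section main

open scoped commutatorElement

variable {G : Type u} [Group G]

/-- elements of `X` that are of 2-power order modulo `⁅X, X⁆`. -/
def twoPart (X : Subgroup G) [hX : X.Normal] : Subgroup G where
  carrier := {y | y ∈ X ∧ ∃ k : ℕ, y ^ (2 ^ k) ∈ ⁅X, X⁆}
  one_mem' := ⟨X.one_mem, 0, by simp⟩
  mul_mem' := by
    rintro a b ⟨ha, k, hk⟩ ⟨hb, l, hl⟩
    refine ⟨X.mul_mem ha hb, k + l, ?_⟩
    have hcomm : Commute (QuotientGroup.mk' ⁅X, X⁆ a) (QuotientGroup.mk' ⁅X, X⁆ b) := by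
      have h1 : ⁅a, b⁆ ∈ ⁅X, X⁆ := Subgroup.commutator_mem_commutator ha hb
      have h2 : QuotientGroup.mk' ⁅X, X⁆ ⁅a, b⁆ = 1 := (QuotientGroup.eq_one_iff _).mpr h1
      rw [map_commutatorElement, commutatorElement_eq_one_iff_commute] at h2
      exact h2
    have e1 : QuotientGroup.mk' ⁅X, X⁆ (a ^ (2 ^ (k + l))) = 1 := by
      have : QuotientGroup.mk' ⁅X, X⁆ (a ^ 2 ^ k) = 1 := (QuotientGroup.eq_one_iff _).mpr hk
      rw [pow_add, pow_mul, map_pow, this, one_pow]
    have e2 : QuotientGroup.mk' ⁅X, X⁆ (b ^ (2 ^ (k + l))) = 1 := by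
      have : QuotientGroup.mk' ⁅X, X⁆ (b ^ 2 ^ l) = 1 := (QuotientGroup.eq_one_iff _).mpr hl
      rw [pow_add, mul_comm (2 ^ k) (2 ^ l), pow_mul, map_pow, this, one_pow]
    have e3 : QuotientGroup.mk' ⁅X, X⁆ ((a * b) ^ (2 ^ (k + l))) = 1 := by
      rw [map_pow, map_mul, hcomm.mul_pow, ← map_pow, ← map_pow, e1, e2, one_mul]
    exact (QuotientGroup.eq_one_iff _).mp e3
  inv_mem' := by
    rintro a ⟨ha, k, hk⟩
    refine ⟨X.inv_mem ha, k, ?_⟩
    rw [inv_pow]; exact Subgroup.inv_mem _ hk

theorem twoPart_normal (X : Subgroup G) [hX : X.Normal] : (twoPart X).Normal := by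
  constructor
  rintro y ⟨hy, k, hk⟩ g
  refine ⟨hX.conj_mem y hy g, k, ?_⟩
  rw [conj_pow]
  exact (Subgroup.commutator_normal X X).conj_mem _ hk g

theorem twoPart_isPGroup (X : Subgroup G) [hX : X.Normal] (hD : IsPGroup 2 ↥(⁅X, X⁆ : Subgroup G)) :
    IsPGroup 2 ↥(twoPart X) := by
  rintro ⟨y, hy, k, hk⟩
  obtain ⟨j, hj⟩ := hD ⟨y ^ 2 ^ k, hk⟩
  refine ⟨k + j, ?_⟩
  apply Subtype.ext
  have hj' : (y ^ 2 ^ k) ^ 2 ^ j = 1 := by
    have := congrArg Subtype.val hj
    simpa using this
  simp only [Subgroup.coe_pow, Subgroup.coe_one]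
  rw [pow_add, pow_mul]; exact hj'

/-- (GT1) -/
theorem exists_odd_generated_normal {G : Type u} [Group G] [Finite G] [Group.IsSolvable G]
    (P : Sylow 2 G)
    (hB : ∀ Q : Subgroup G, Q.Normal → IsPGroup 2 Q → ∀ x ∈ Q, x ^ 2 = 1)
    (hP : (P : Subgroup G) ≠ ⊤) :
    ∃ N₀ : Subgroup G, N₀.Normal ∧ N₀ ≠ ⊥ ∧ Odd (Nat.card (Abelianization N₀)) ∧
      ∀ x ∈ (P : Subgroup G) ⊓ N₀, x ^ 2 = 1 := by
  classical
  -- `G` is not a 2-group
  have hG2 : ¬ IsPGroup 2 ↥(derivedSeries G 0) := by
    intro h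
    apply hP
    rw [derivedSeries_zero] at h
    have hG : IsPGroup 2 G := by
      intro g
      obtain ⟨k, hk⟩ := h ⟨g, Subgroup.mem_top g⟩
      exact ⟨k, by simpa using congrArg Subtype.val hk⟩
    have hT : IsPGroup 2 ↥(⊤ : Subgroup G) := h
    exact (P.is_maximal' hT le_top).symm
  -- some derived term is a 2-group
  have hex : ∃ n, IsPGroup 2 ↥(derivedSeries G n) := by
    obtain ⟨n, hn⟩ := (Group.isSolvable_def G).mp inferInstance
    refine ⟨n, ?_⟩
    rw [hn]
    exact IsPGroup.of_bot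
  set n₀ := Nat.find hex with hn₀
  have hn₀pos : n₀ ≠ 0 := by
    intro h0
    have := Nat.find_spec hex
    rw [← hn₀, h0] at this
    exact hG2 this
  obtain ⟨i, hi⟩ := Nat.exists_eq_succ_of_ne_zero hn₀pos
  have hXnot : ¬ IsPGroup 2 ↥(derivedSeries G i) := by
    apply Nat.find_min hex
    rw [← hn₀, hi]; exact Nat.lt_succ_self i
  have hD : IsPGroup 2 ↥(derivedSeries G (i + 1)) := by
    have := Nat.find_spec hex
    rw [← hn₀, hi] at this
    exact this
  set X : Subgroup G := derivedSeries G i with hX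
  have hXn : X.Normal := derivedSeries_normal G i
  have hD' : IsPGroup 2 ↥(⁅X, X⁆ : Subgroup G) := by
    have : derivedSeries G (i + 1) = ⁅X, X⁆ := derivedSeries_succ G i
    rw [← this]; exact hD
  refine ⟨oddGen X, oddGen_normal X, ?_, odd_card_abelianization_oddGen X, ?_⟩
  · -- nontrivial
    have : ∃ g : X, ∀ k : ℕ, g ^ 2 ^ k ≠ 1 := by
      by_contra hc
      push_neg at hc
      exact hXnot hc
    obtain ⟨⟨g, hgX⟩, hg⟩ := this
    have hg' : ∀ k : ℕ, g ^ 2 ^ k ≠ 1 := by
      intro k hk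
      apply hg k
      apply Subtype.ext
      simpa using hk
    have hpos : 0 < orderOf g := orderOf_pos g
    obtain ⟨k, m, hm, hkm⟩ := Nat.exists_eq_two_pow_mul_odd (n := orderOf g) hpos.ne'
    have hy : orderOf (g ^ 2 ^ k) = m := by
      rw [orderOf_pow' g (pow_ne_zero k two_ne_zero), hkm]
      have : Nat.gcd (2 ^ k * m) (2 ^ k) = 2 ^ k := Nat.gcd_eq_right (Dvd.intro _ rfl)
      rw [this, Nat.mul_div_cancel_left _ (pow_pos two_pos k)]
    intro hbot
    have hmem : g ^ 2 ^ k ∈ oddGen X := by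
      apply Subgroup.subset_closure
      exact ⟨X.pow_mem hgX _, by rw [hy]; exact hm⟩
    rw [hbot, Subgroup.mem_bot] at hmem
    exact hg' k hmem
  · -- exponent of `P ∩ N₀`
    intro x hx
    rw [Subgroup.mem_inf] at hx
    have hxX : x ∈ X := oddGen_le X hx.2
    have hxS : x ∈ twoPart X := by
      refine ⟨hxX, ?_⟩
      obtain ⟨k, hk⟩ := P.isPGroup' ⟨x, hx.1⟩
      refine ⟨k, ?_⟩
      have : x ^ 2 ^ k = 1 := by simpa using congrArg Subtype.val hk
      rw [this]; exact Subgroup.one_mem _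
    exact hB (twoPart X) (twoPart_normal X) (twoPart_isPGroup X hD') x hxS

end main

end Cfsg.Agent.Lib.Helper9.RO
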