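import Mathlib
import Cfsg.Agent.Lib.Helper5.TWS.Defs
import Cfsg.Agent.Lib.Helper8.TW.Defs
import Cfsg.Agent.Lib.Helper22.TWExtBasic
import Cfsg.Agent.Lib.Helper22.TWExtMore
import Cfsg.Agent.Lib.Helper12.TWIIBZ
import Cfsg.Agent.Lib.Helper12.TWIIBS
import Cfsg.Agent.Lib.Helper12.TWUIIQ2
import Cfsg.Agent.Lib.Helper14.TWIIDefs
import Cfsg.Agent.Lib.Helper14.TWUIIThetaG
import Cfsg.Agent.Lib.Helper14.TWSIIDefs
import Cfsg.Agent.Lib.Helper18.TWSIIU567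
import Cfsg.Agent.Lib.Helper26.TWSIIT6
import Cfsg.Agent.Lib.Helper28.TWIIBE

/-!
# S5668 Stage II-B (sub-planner helper14), leaf N3 `theta_scalar_plane` (helper9)
**`θ` scalar, `k ≥ 4`** (all odd `q`): the T.I. PLANE.  `y'` a partner of `y`, `v ≠ 0` perpendicular to `y, y'`; `d_±` isometries with
`d_± (y ± v) = y`; the commutators of `z₁ = 1 + θ ⊗ N_y` with `slotGL i d_±` are `1 + θ ⊗ (N_{y ± v} - N_y)`, they annihilate each
other and the product is `1 + (2 θ) ⊗ v v†`; its `κ`-conjugate is in `X' ∩ Z_{(i, α₁ v)}`, hence in `G` (`hB`), hence `γ (2θ) γ⁻¹` is scalar.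
Form-free matrix calculus = `Helper12.TWUIILeaf.q2_*` (template `Helper12.TWUIIQ2`).
-/

set_option autoImplicit false
set_option linter.unusedSectionVars false
set_option linter.unusedVariables false

namespace Cfsg.Agent.Lib.Helper9.TWSIILeaf
open Matrix Cfsg.Geo Cfsg.Agent.Lib.Helper18.AschA89 Cfsg.Agent.Lib.Helper8.TW Cfsg.Agent.Lib.Helper5.TWS
  Cfsg.Agent.Lib.Helper14.TWII Cfsg.Agent.Lib.Helper14.TWSII
open Cfsg.Agent.Lib.Helper25.SpT (sf Jm sfv)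
open Cfsg.Agent.Lib.Helper23.TWUQ (NSp)
open Cfsg.Agent.Lib.Helper12.TWUIILeaf (q2_comm q2_ES_mul q2_val_inv q2_comm_val q2_kappa_val q2_InZ)

variable {F : Type*} [Field F] [Fintype F] {t k : ℕ}

/-! ### rank-one matrices `a b†` -/

lemma n3_vv_mul_zero {a b c d : Fin k → F} (h : sf c b = 0) :
    Matrix.vecMulVec a (sfv b) * Matrix.vecMulVec c (sfv d) = 0 := by
  rw [Matrix.vecMulVec_mul_vecMulVec, Cfsg.Agent.Lib.Helper25.SpT.sfv_dot, h, zero_smul]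
  ext x x'
  simp [Matrix.vecMulVec_apply]

/-- for an isometry `d`: `(d p)† d = p†` -/
lemma n3_sfv_vecMul (d : GL (Fin k) F) (hd : d ∈ GSA k F) (p : Fin k → F) :
    sfv ((d : Matrix (Fin k) (Fin k) F) *ᵥ p) ᵥ* (d : Matrix (Fin k) (Fin k) F) = sfv p := by
  funext b
  have h1 : (sfv ((d : Matrix (Fin k) (Fin k) F) *ᵥ p) ᵥ* (d : Matrix (Fin k) (Fin k) F)) b =
      sf ((d : Matrix (Fin k) (Fin k) F) *ᵥ Pi.single b 1) ((d : Matrix (Fin k) (Fin k) F) *ᵥ p) := by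
    rw [← Cfsg.Agent.Lib.Helper25.SpT.sfv_dot, Matrix.dotProduct_mulVec, dotProduct_single_one]
  rw [h1, mem_GSA.1 hd, ← Cfsg.Agent.Lib.Helper25.SpT.sfv_dot, dotProduct_single_one]

lemma n3_sfv_add (a b : Fin k → F) : sfv (a + b) = sfv a + sfv b := by
  unfold sfv
  rw [Matrix.mulVec_add]

lemma n3_sfv_neg (a : Fin k → F) : sfv (-a) = - sfv a := by
  unfold sfv
  rw [Matrix.mulVec_neg]

/-- a product of two mutually annihilating elements -/
lemma n3_prod2 {ι : Type} [Fintype ι] [DecidableEq ι] (A B : Matrix ι ι F) (hAB : A * B = 0) :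
    (1 + A) * (1 + B) = 1 + (A + B) := by
  have h : (1 + A) * (1 + B) = 1 + (A + B) + A * B := by noncomm_ring
  rw [h, hAB, add_zero]

/-! ### the leaf -/

/-- N3 (L) **`θ` scalar, `k ≥ 4`** (all odd `q`, needed for `q = 3`): the T.I. PLANE -/
theorem theta_scalar_plane (hodd : Odd (Fintype.card F)) (hk : Even k) (hk4 : 4 ≤ k)
    (X' : Subgroup (GL (Idx (t + 1) k) F)) (i : Fin (t + 1)) (y : Fin k → F) (hy0 : y ≠ 0)
    (hB : ∀ z : Fin k → F, z ≠ 0 → ∀ u ∈ X', InZ i z u → u ∈ Gstd (t + 1) k F)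
    (α₁ : GL (Fin k) F) (hα₁ : α₁ ∈ DSA k F) (hα₁y : (α₁ : Matrix (Fin k) (Fin k) F) *ᵥ y = y)
    (γ : GL (Idx t k) F) (z₁ : GL (Idx (t + 1) k) F) (θ : Matrix (Idx t k) (Idx t k) F)
    (hz₁ : (z₁ : Matrix (Idx (t + 1) k) (Idx (t + 1) k) F) = 1 + ext i θ * rootN i y (sfv y))
    (hcomm : ∀ α' : GL (Fin k) F, α' ∈ GSA k F →
      (slotGL i α₁ * extGL i γ) * ((slotGL i α')⁻¹ * z₁ * slotGL i α' * z₁⁻¹) * (slotGL i α₁ * extGL i γ)⁻¹ ∈ X') :
    ∃ c : F, θ = c • (1 : Matrix (Idx t k) (Idx t k) F) := by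
  classical
  have h2 : (2 : F) ≠ 0 := Cfsg.Agent.Lib.Helper18.TWSIILeaf.two_ne_zero_S hodd
  -- the t.i. plane `⟨y, v⟩`
  obtain ⟨y', hyy'⟩ := Cfsg.Agent.Lib.Helper26.TWSIILeaf.exists_partner hk y hy0
  obtain ⟨v, hv0, hvy, hvy'⟩ := Cfsg.Agent.Lib.Helper26.TWSIILeaf.exists_A0 hk hk4 y y' hyy'
  have hyv : sf y v = 0 := by rw [Cfsg.Agent.Lib.Helper25.SpT.sf_skew, hvy, neg_zero]
  have hyy : sf y y = 0 := Cfsg.Agent.Lib.Helper25.SpT.sf_self y
  have hvv : sf v v = 0 := Cfsg.Agent.Lib.Helper25.SpT.sf_self v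
  -- all vectors `y + l • v` are mutually perpendicular
  have hPP : ∀ l l' : F, sf (y + l • v) (y + l' • v) = 0 := by
    intro l l'
    rw [Cfsg.Agent.Lib.Helper25.SpT.sf_add_left, Cfsg.Agent.Lib.Helper25.SpT.sf_add_right,
      Cfsg.Agent.Lib.Helper25.SpT.sf_add_right, Cfsg.Agent.Lib.Helper25.SpT.sf_smul_left,
      Cfsg.Agent.Lib.Helper25.SpT.sf_smul_left, Cfsg.Agent.Lib.Helper25.SpT.sf_smul_right,
      Cfsg.Agent.Lib.Helper25.SpT.sf_smul_right, hyy, hyv, hvy, hvv]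
    ring
  have hyP : ∀ l : F, sf y (y + l • v) = 0 := by
    intro l
    have := hPP 0 l
    rwa [zero_smul, add_zero] at this
  have hPy : ∀ l : F, sf (y + l • v) y = 0 := by
    intro l
    have := hPP l 0
    rwa [zero_smul, add_zero] at this
  have hp0 : ∀ l : F, y + l • v ≠ 0 := by
    intro l h0
    have h1 : sf (y + l • v) y' = 1 := by
      rw [Cfsg.Agent.Lib.Helper25.SpT.sf_add_left, Cfsg.Agent.Lib.Helper25.SpT.sf_smul_left, hyy', hvy', mul_zero,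
        add_zero]
    rw [h0, Cfsg.Agent.Lib.Helper25.SpT.sf_zero_left] at h1
    exact zero_ne_one h1
  obtain ⟨Ny, hNy⟩ : ∃ Ny : Matrix (Fin k) (Fin k) F, Ny = Matrix.vecMulVec y (sfv y) := ⟨_, rfl⟩
  have hNyy : Ny * Ny = 0 := by rw [hNy]; exact n3_vv_mul_zero hyy
  have hz₁' : (z₁ : Matrix (Idx (t + 1) k) (Idx (t + 1) k) F) = 1 + ext i θ * slot k (t + 1) i Ny := by
    rw [hz₁, hNy]; rfl
  -- the two commutators
  have key : ∀ l : F, ∃ c : GL (Idx (t + 1) k) F,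
      (c : Matrix (Idx (t + 1) k) (Idx (t + 1) k) F) = 1 + ext i θ * slot k (t + 1) i
        (Matrix.vecMulVec (y + l • v) (sfv (y + l • v)) - Ny) ∧
      (slotGL i α₁ * extGL i γ) * c * (slotGL i α₁ * extGL i γ)⁻¹ ∈ X' := by
    intro l
    obtain ⟨d, hdU, hdp⟩ := Cfsg.Agent.Lib.Helper26.TWSIILeaf.exists_SpA_map hk (y + l • v) y (hp0 l) hy0
    refine ⟨(slotGL i d)⁻¹ * z₁ * slotGL i d * z₁⁻¹, ?_, hcomm d hdU⟩
    have hM' : ((d⁻¹ : GL (Fin k) F) : Matrix (Fin k) (Fin k) F) * Ny * (d : Matrix (Fin k) (Fin k) F) =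
        Matrix.vecMulVec (y + l • v) (sfv (y + l • v)) := by
      rw [hNy, Matrix.mul_vecMulVec, Matrix.vecMulVec_mul]
      have e1 : ((d⁻¹ : GL (Fin k) F) : Matrix (Fin k) (Fin k) F) *ᵥ y = y + l • v := by
        conv_lhs => rw [← hdp]
        rw [Matrix.mulVec_mulVec, ← Units.val_mul, inv_mul_cancel, Units.val_one, Matrix.one_mulVec]
      have e2 : sfv y ᵥ* (d : Matrix (Fin k) (Fin k) F) = sfv (y + l • v) := by
        conv_lhs => rw [← hdp]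
        exact n3_sfv_vecMul d hdU _
      rw [e1, e2]
    rw [q2_comm_val i θ Ny hNyy z₁ hz₁' d (by rw [hM', hNy]; exact n3_vv_mul_zero (hyP l)), hM']
  obtain ⟨c1, hc1, hc1X⟩ := key 1
  obtain ⟨c2, hc2, hc2X⟩ := key (-1)
  obtain ⟨κ, hκ⟩ : ∃ κ : GL (Idx (t + 1) k) F, κ = slotGL i α₁ * extGL i γ := ⟨_, rfl⟩
  rw [← hκ] at hc1X hc2X
  have huX : κ * (c1 * c2) * κ⁻¹ ∈ X' := by
    have e : κ * (c1 * c2) * κ⁻¹ = (κ * c1 * κ⁻¹) * (κ * c2 * κ⁻¹) := by group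
    rw [e]
    exact X'.mul_mem hc1X hc2X
  -- the differences annihilate each other
  have hDD : ∀ l l' : F, (Matrix.vecMulVec (y + l • v) (sfv (y + l • v)) - Ny) *
      (Matrix.vecMulVec (y + l' • v) (sfv (y + l' • v)) - Ny) = 0 := by
    intro l l'
    rw [hNy, sub_mul, mul_sub, mul_sub, n3_vv_mul_zero (hPP l' l), n3_vv_mul_zero (hyP l),
      n3_vv_mul_zero (hPy l'), n3_vv_mul_zero hyy]
    simp
  have hEE : ∀ l l' : F,
      (ext i θ * slot k (t + 1) i (Matrix.vecMulVec (y + l • v) (sfv (y + l • v)) - Ny)) *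
        (ext i θ * slot k (t + 1) i (Matrix.vecMulVec (y + l' • v) (sfv (y + l' • v)) - Ny)) = 0 := by
    intro l l'
    rw [q2_ES_mul, hDD, slot_zero, mul_zero]
  -- the sum of the two differences
  have hsum : (Matrix.vecMulVec (y + (1 : F) • v) (sfv (y + (1 : F) • v)) - Ny) +
      (Matrix.vecMulVec (y + (-1 : F) • v) (sfv (y + (-1 : F) • v)) - Ny) =
      (2 : F) • Matrix.vecMulVec v (sfv v) := by
    rw [hNy, one_smul, neg_one_smul, n3_sfv_add, n3_sfv_add, n3_sfv_neg]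
    ext x x'
    simp only [Matrix.add_apply, Matrix.sub_apply, Matrix.smul_apply, Matrix.vecMulVec_apply,
      Pi.add_apply, Pi.neg_apply, smul_eq_mul]
    ring
  have hval : ((c1 * c2 : GL (Idx (t + 1) k) F) : Matrix (Idx (t + 1) k) (Idx (t + 1) k) F) =
      1 + ext i ((2 : F) • θ) * slot k (t + 1) i (Matrix.vecMulVec v (sfv v)) := by
    rw [Units.val_mul, hc1, hc2, n3_prod2 _ _ (hEE _ _), ← mul_add, ← slot_add, hsum, slot_smul,
      Matrix.mul_smul, Cfsg.Agent.Lib.Helper28.TWIIBLeaf.ext_smul28, Matrix.smul_mul]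
  have hval2 := q2_kappa_val i ((2 : F) • θ) _ (c1 * c2) hval α₁ γ
  rw [← hκ] at hval2
  -- the new vector
  obtain ⟨z, hz⟩ : ∃ z : Fin k → F, z = (α₁ : Matrix (Fin k) (Fin k) F) *ᵥ v := ⟨_, rfl⟩
  obtain ⟨η, hη⟩ : ∃ η : Fin k → F,
      η = sfv v ᵥ* ((α₁⁻¹ : GL (Fin k) F) : Matrix (Fin k) (Fin k) F) := ⟨_, rfl⟩
  have hroot : slot k (t + 1) i ((α₁ : Matrix (Fin k) (Fin k) F) * Matrix.vecMulVec v (sfv v) *
      ((α₁⁻¹ : GL (Fin k) F) : Matrix (Fin k) (Fin k) F)) = rootN i z η := by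
    rw [Matrix.mul_vecMulVec, Matrix.vecMulVec_mul, ← hz, ← hη]
    rfl
  rw [hroot] at hval2
  have hinv_mul : ((α₁⁻¹ : GL (Fin k) F) : Matrix (Fin k) (Fin k) F) * (α₁ : Matrix (Fin k) (Fin k) F) = 1 := by
    rw [← Units.val_mul, inv_mul_cancel, Units.val_one]
  have hz0 : z ≠ 0 := by
    intro h0
    apply hv0
    have : ((α₁⁻¹ : GL (Fin k) F) : Matrix (Fin k) (Fin k) F) *ᵥ z = v := by
      rw [hz, Matrix.mulVec_mulVec, hinv_mul, Matrix.one_mulVec]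
    rw [← this, h0, Matrix.mulVec_zero]
  have hηz : η ⬝ᵥ z = 0 := by
    rw [hη, hz, ← Matrix.dotProduct_mulVec, Matrix.mulVec_mulVec, hinv_mul, Matrix.one_mulVec,
      Cfsg.Agent.Lib.Helper25.SpT.sfv_dot]
    exact hvv
  have hη0 : η ≠ 0 := by
    intro h0
    apply sfv_ne_zero hk hv0
    have : η ᵥ* (α₁ : Matrix (Fin k) (Fin k) F) = sfv v := by
      rw [hη, Matrix.vecMul_vecMul, hinv_mul, Matrix.vecMul_one]
    rw [← this, h0, Matrix.zero_vecMul]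
  have hInZ := q2_InZ i z η hηz _ _ hval2
  have hG := hB z hz0 _ huX hInZ
  obtain ⟨c, hc⟩ := Cfsg.Agent.Lib.Helper14.TWUIILeaf.theta_scalar_of_G (by omega) i z η hz0 hη0 hηz _ _ hG hval2
  refine ⟨(2 : F)⁻¹ * c, ?_⟩
  have h5 : (2 : F) • θ = ((γ⁻¹ : GL (Idx t k) F) : Matrix (Idx t k) (Idx t k) F) *
      ((γ : Matrix (Idx t k) (Idx t k) F) * ((2 : F) • θ) *
        ((γ⁻¹ : GL (Idx t k) F) : Matrix (Idx t k) (Idx t k) F)) *
      (γ : Matrix (Idx t k) (Idx t k) F) := by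
    have e1 : ((γ⁻¹ : GL (Idx t k) F) : Matrix (Idx t k) (Idx t k) F) * (γ : Matrix (Idx t k) (Idx t k) F) = 1 := by
      rw [← Units.val_mul, inv_mul_cancel, Units.val_one]
    rw [← mul_assoc, ← mul_assoc, e1, one_mul, mul_assoc, e1, mul_one]
  have h6 : (2 : F) • θ = c • (1 : Matrix (Idx t k) (Idx t k) F) := by
    rw [h5, hc, Matrix.mul_smul, Matrix.smul_mul, mul_one, ← Units.val_mul, inv_mul_cancel, Units.val_one]
  calc θ = (2 : F)⁻¹ • ((2 : F) • θ) := by rw [smul_smul, inv_mul_cancel₀ h2, one_smul]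
    _ = ((2 : F)⁻¹ * c) • (1 : Matrix (Idx t k) (Idx t k) F) := by rw [h6, smul_smul]

end Cfsg.Agent.Lib.Helper9.TWSIILeaf
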