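/-
helper9: S4715 leaf (CT): orbits of `T` on `Z(D)` have at most `|T : H|` elements.
-/
import Mathlib

set_option autoImplicit false
set_option linter.unusedSectionVars false
set_option linter.unusedVariables false

namespace Cfsg.Agent.Lib.Helper9.HtBoundCT

universe u w

variable {G : Type u} [Group G] [Fintype G]

/-! ## (CT) orbits of `T` on `Z(D)` have at most `|T : H|` elements -/
theorem card_conj_le (D H T : Subgroup G) (hH : H = D ⊔ Subgroup.centralizer (D : Set G))
    (z : G) (hzD : z ∈ D) (hzc : ∀ x ∈ D, x * z = z * x) :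
    Nat.card {z' : G // ∃ t ∈ T, z' = t * z * t⁻¹} ≤ H.relIndex T := by
  classical
  have hHz : H ≤ Subgroup.centralizer ({z} : Set G) := by
    rw [hH]
    apply sup_le
    · intro x hx
      rw [Subgroup.mem_centralizer_iff]
      intro y hy
      rw [Set.mem_singleton_iff] at hy
      subst hy
      exact (hzc x hx).symm
    · apply Subgroup.centralizer_le
      intro y hy
      rw [Set.mem_singleton_iff] at hy
      subst hy
      exact hzD
  have hcomm : ∀ h ∈ H, h * z = z * h := by
    intro h hh
    exact (Subgroup.mem_centralizer_iff.mp (hHz hh) z (Set.mem_singleton z)).symm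
  let f : {z' : G // ∃ t ∈ T, z' = t * z * t⁻¹} → T ⧸ H.subgroupOf T := fun z' =>
    QuotientGroup.mk ⟨z'.2.choose, z'.2.choose_spec.1⟩
  have hf : Function.Injective f := by
    intro a c hac
    have ha := a.2.choose_spec
    have hc := c.2.choose_spec
    simp only [f] at hac
    rw [QuotientGroup.eq, Subgroup.mem_subgroupOf] at hac
    have hmem : (a.2.choose)⁻¹ * c.2.choose ∈ H := by simpa using hac
    have h1 := hcomm _ hmem
    apply Subtype.ext
    rw [ha.2, hc.2]
    -- t_a z t_a⁻¹ = t_c z t_c⁻¹
    have : c.2.choose = a.2.choose * ((a.2.choose)⁻¹ * c.2.choose) := by group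
    rw [this]
    set u := (a.2.choose)⁻¹ * c.2.choose with hu
    have h2 : u * z * u⁻¹ = z := by rw [h1]; group
    calc a.2.choose * z * (a.2.choose)⁻¹ = a.2.choose * (u * z * u⁻¹) * (a.2.choose)⁻¹ := by
          rw [h2]
      _ = a.2.choose * u * z * (a.2.choose * u)⁻¹ := by group
  have := Nat.card_le_card_of_injective f hf
  exact this

end Cfsg.Agent.Lib.Helper9.HtBoundCT
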