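/-
helper9: S4715 leaf (FI): block induction is invariant under group isomorphisms.
-/
import Mathlib
import Cfsg.Agent.Lib.Helper6.HtBoundDefs
import Cfsg.Agent.Lib.Helper23.MajSubLI
import Cfsg.Agent.Lib.Helper6.StabIndex

set_option autoImplicit false
set_option linter.unusedSectionVars false
set_option linter.unusedVariables false

namespace Cfsg.Agent.Lib.Helper9.HtBoundFI

open Cfsg Cfsg.Agent.CharLib Cfsg.Agent.Lib.Helper24 Cfsg.Agent.Lib.Helper6 Cfsg.Agent.Lib.Helper23
open scoped ComplexConjugate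

universe u w

variable {G : Type u} [Group G] [Fintype G] {M : Ideal AlgInt} {p : ℕ} [hpp : Fact p.Prime]

private theorem isConj_iff_map {A A' : Type u} [Group A] [Group A'] (ψ : A ≃* A') (a b : A) :
    IsConj a b ↔ IsConj (ψ a) (ψ b) := by
  constructor
  · intro h
    exact ψ.toMonoidHom.map_isConj h
  · intro h
    have := ψ.symm.toMonoidHom.map_isConj h
    simpa using this

/-- the induced central character is invariant under isomorphisms. -/
theorem inducedCentralChar_iso {A A' : Type u} [Group A] [Group A']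
    (ψ : A ≃* A') (K : Subgroup A) (K' : Subgroup A') (κ : K ≃* K')
    (hκ : ∀ k : K, ((κ k : K') : A') = ψ (k : A)) (ξ' : K' → ℂ) (g : A) :
    inducedCentralChar K (ξ' ∘ κ) g = inducedCentralChar K' ξ' (ψ g) := by
  unfold inducedCentralChar
  apply finsum_mem_eq_of_bijOn (fun k : K => κ k)
  · refine ⟨?_, ?_, ?_⟩
    · intro k hk
      simp only [Set.mem_setOf_eq] at hk ⊢
      rw [hκ]
      exact (isConj_iff_map ψ g (k : A)).mp hk
    · intro k₁ _ k₂ _ h12
      exact κ.injective h12
    · intro k' hk'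
      simp only [Set.mem_setOf_eq] at hk'
      refine ⟨κ.symm k', ?_, κ.apply_symm_apply k'⟩
      simp only [Set.mem_setOf_eq]
      rw [isConj_iff_map ψ, ← hκ, κ.apply_symm_apply]
      exact hk'
  · intro k _
    simp only [Function.comp_apply, map_one]

/-- (FI) block induction is invariant under group isomorphisms. -/
theorem isInducedBlock_pullBlock_iso {A A' : Type u} [Group A] [Group A'] [Finite A]
    (hM : IsPModular p M) (ψ : A ≃* A') (K : Subgroup A) (K' : Subgroup A') (κ : K ≃* K')
    (hκ : ∀ k : K, ((κ k : K') : A') = ψ (k : A)) (b' : Set (IrrCharacter K'))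
    (β' : Set (IrrCharacter A')) (h : IsInducedBlock M K' b' β') :
    IsInducedBlock M K (BlockIso.pullBlock κ b') (BlockIso.pullBlock ψ β') := by
  refine ⟨BlockIso.isPBlock_pullBlock κ h.1, BlockIso.isPBlock_pullBlock ψ h.2.1, ?_⟩
  intro ξ hξ χ hχ g
  have h1 := h.2.2 _ hξ _ hχ (ψ g)
  have hχeq : ((irrCompIso ψ.symm χ : IrrCharacter A') : A' → ℂ) ∘ ψ = (χ : A → ℂ) :=
    congrArg Subtype.val (BlockIso.irrCompIso_irrCompIso_symm ψ χ)
  have hξeq : ((irrCompIso κ.symm ξ : IrrCharacter K') : K' → ℂ) ∘ κ = (ξ : K → ℂ) :=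
    congrArg Subtype.val (BlockIso.irrCompIso_irrCompIso_symm κ ξ)
  rw [← hχeq, centralChar_compIso, ← hξeq, inducedCentralChar_iso ψ K K' κ hκ]
  exact h1

end Cfsg.Agent.Lib.Helper9.HtBoundFI
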