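/-
helper9: S4715 leaf (UQ): uniqueness of the relatively induced block.
-/
import Mathlib
import Cfsg.Agent.Lib.Helper6.HtBoundDefs
import Cfsg.Agent.Lib.Helper23.MajSubLI
import Cfsg.Agent.Lib.Helper6.StabIndex

set_option autoImplicit false
set_option linter.unusedSectionVars false
set_option linter.unusedVariables false

namespace Cfsg.Agent.Lib.Helper9.HtBoundUQ

open Cfsg Cfsg.Agent.CharLib Cfsg.Agent.Lib.Helper24 Cfsg.Agent.Lib.Helper6 Cfsg.Agent.Lib.Helper23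
open scoped ComplexConjugate

universe u w

variable {G : Type u} [Group G] [Fintype G] {M : Ideal AlgInt} {p : ℕ} [hpp : Fact p.Prime]

/-! ## (UQ) uniqueness of the relatively induced block -/
theorem isInducedBlockIn_unique (hM : IsPModular p M) (X H : Subgroup G)
    (b : Set (IrrCharacter H)) (β β' : Set (IrrCharacter X))
    (h : IsInducedBlockIn M X H b β) (h' : IsInducedBlockIn M X H b β') : β = β' := by
  haveI hprime : M.IsPrime := isPrime_of_isPModular hM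
  obtain ⟨ξ₀, hb⟩ := h.1
  obtain ⟨χ₀, hB⟩ := h.2.1
  obtain ⟨χ₀', hB'⟩ := h'.2.1
  have hξ₀ : ξ₀ ∈ b := by rw [hb]; exact mem_blockOf_self ξ₀
  have hχ₀ : χ₀ ∈ β := by rw [hB]; exact mem_blockOf_self χ₀
  have hχ₀' : χ₀' ∈ β' := by rw [hB']; exact mem_blockOf_self χ₀'
  apply isPBlock_eq_of_mem h.2.1 h'.2.1 hχ₀
  rw [hB']
  intro g
  have h1 := h.2.2 ξ₀ hξ₀ χ₀ hχ₀ g
  have h2 := h'.2.2 ξ₀ hξ₀ χ₀' hχ₀' g
  have h3 := memLocalIdeal_sub h1 h2
  rwa [sub_sub_sub_cancel_left] at h3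

end Cfsg.Agent.Lib.Helper9.HtBoundUQ
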