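import Mathlib

/-!
# Upper triangular `3 × 3` matrices: a small toolkit

Used for the element orders of `PSU_3(q)` and `PSL_3(q)`.
-/

set_option autoImplicit false
set_option linter.unusedSectionVars false
set_option linter.unusedVariables false

namespace Cfsg.Agent.Lib.Helper9.UT3

open Matrix

variable {F : Type*} [Field F]

/-- upper triangular `3 × 3` matrices -/
def IsUT (T : Matrix (Fin 3) (Fin 3) F) : Prop := T 1 0 = 0 ∧ T 2 0 = 0 ∧ T 2 1 = 0

theorem isUT_one : IsUT (1 : Matrix (Fin 3) (Fin 3) F) := by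
  refine ⟨?_, ?_, ?_⟩ <;> simp

theorem IsUT.mul {A B : Matrix (Fin 3) (Fin 3) F} (hA : IsUT A) (hB : IsUT B) : IsUT (A * B) := by
  obtain ⟨a1, a2, a3⟩ := hA
  obtain ⟨b1, b2, b3⟩ := hB
  refine ⟨?_, ?_, ?_⟩ <;> simp [Matrix.mul_apply, Fin.sum_univ_three, *]

theorem IsUT.mul_diag {A B : Matrix (Fin 3) (Fin 3) F} (hA : IsUT A) (hB : IsUT B) (i : Fin 3) :
    (A * B) i i = A i i * B i i := by
  obtain ⟨a1, a2, a3⟩ := hA
  obtain ⟨b1, b2, b3⟩ := hB
  fin_cases i <;> simp [Matrix.mul_apply, Fin.sum_univ_three, *]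

theorem IsUT.pow {A : Matrix (Fin 3) (Fin 3) F} (hA : IsUT A) (k : ℕ) :
    IsUT (A ^ k) ∧ ∀ i, (A ^ k) i i = A i i ^ k := by
  induction k with
  | zero =>
    refine ⟨by rw [pow_zero]; exact isUT_one, fun i => ?_⟩
    simp
  | succ k ih =>
    refine ⟨by rw [pow_succ]; exact ih.1.mul hA, fun i => ?_⟩
    rw [pow_succ, ih.1.mul_diag hA, ih.2, pow_succ]

theorem IsUT.smul {A : Matrix (Fin 3) (Fin 3) F} (hA : IsUT A) (c : F) : IsUT (c • A) := by
  obtain ⟨a1, a2, a3⟩ := hA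
  refine ⟨?_, ?_, ?_⟩ <;> simp [*]

/-- unitriangular matrices have nilpotent deviation from `1` -/
theorem IsUT.sub_one_cube {A : Matrix (Fin 3) (Fin 3) F} (hA : IsUT A) (hd : ∀ i, A i i = 1) :
    (A - 1) ^ 3 = 0 := by
  obtain ⟨a1, a2, a3⟩ := hA
  have h0 := hd 0
  have h1 := hd 1
  have h2 := hd 2
  ext i j
  fin_cases i <;> fin_cases j <;>
    simp [pow_succ, Matrix.mul_apply, Fin.sum_univ_three, Matrix.sub_apply, *]

/-- in odd characteristic `p`, unitriangular `3 × 3` matrices have `p`-th power one -/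
theorem IsUT.pow_char {p : ℕ} [Fact p.Prime] [CharP F p] (hp : p ≠ 2)
    {A : Matrix (Fin 3) (Fin 3) F} (hA : IsUT A) (hd : ∀ i, A i i = 1) : A ^ p = 1 := by
  have hpp : p.Prime := Fact.out
  have : CharP (Matrix (Fin 3) (Fin 3) F) p := Matrix.charP p
  have hN := hA.sub_one_cube hd
  have h3 : 3 ≤ p := by
    have := hpp.two_le
    omega
  have hA' : A = (A - 1) + 1 := by abel
  rw [hA', add_pow_char_of_commute (p := p) (Commute.one_right _), one_pow,
    ← Nat.sub_add_cancel h3, pow_add, hN, mul_zero, zero_add]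

/-- a unitriangular matrix commuting with a triangular matrix with distinct diagonal entries
is trivial -/
theorem IsUT.eq_one_of_commute {S U : Matrix (Fin 3) (Fin 3) F} (hS : IsUT S) (hU : IsUT U)
    (hd : ∀ i, U i i = 1) (h01 : S 0 0 ≠ S 1 1) (h02 : S 0 0 ≠ S 2 2) (h12 : S 1 1 ≠ S 2 2)
    (hc : S * U = U * S) : U = 1 := by
  obtain ⟨s1, s2, s3⟩ := hS
  obtain ⟨u1, u2, u3⟩ := hU
  have d0 := hd 0
  have d1 := hd 1
  have d2 := hd 2
  have e01 := congrFun (congrFun hc 0) 1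
  have e12 := congrFun (congrFun hc 1) 2
  have e02 := congrFun (congrFun hc 0) 2
  simp only [Matrix.mul_apply, Fin.sum_univ_three, s1, s3, u1, u3, d0, d1, d2, mul_zero,
    zero_mul, add_zero, zero_add, mul_one, one_mul] at e01 e12 e02
  have x01 : U 0 1 = 0 := by
    have : (S 0 0 - S 1 1) * U 0 1 = 0 := by linear_combination e01
    rcases mul_eq_zero.mp this with h | h
    · exact absurd (sub_eq_zero.mp h) h01
    · exact h
  have x12 : U 1 2 = 0 := by
    have : (S 1 1 - S 2 2) * U 1 2 = 0 := by linear_combination e12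
    rcases mul_eq_zero.mp this with h | h
    · exact absurd (sub_eq_zero.mp h) h12
    · exact h
  have x02 : U 0 2 = 0 := by
    rw [x01, x12] at e02
    have : (S 0 0 - S 2 2) * U 0 2 = 0 := by linear_combination e02
    rcases mul_eq_zero.mp this with h | h
    · exact absurd (sub_eq_zero.mp h) h02
    · exact h
  ext i j
  fin_cases i <;> fin_cases j <;> simp [*]

/-- the determinant of a triangular matrix -/
theorem IsUT.det {A : Matrix (Fin 3) (Fin 3) F} (hA : IsUT A) :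
    A.det = A 0 0 * A 1 1 * A 2 2 := by
  obtain ⟨a1, a2, a3⟩ := hA
  rw [Matrix.det_fin_three, a1, a2, a3]
  ring


/-- a triangular matrix with constant diagonal `μ ≠ 0`: its `p`-th power is scalar -/
theorem IsUT.pow_char_scalar {p : ℕ} [Fact p.Prime] [CharP F p] (hp : p ≠ 2)
    {W : Matrix (Fin 3) (Fin 3) F} (hW : IsUT W) (μ : F) (hμ : μ ≠ 0) (hd : ∀ i, W i i = μ) :
    W ^ p = (μ ^ p) • (1 : Matrix (Fin 3) (Fin 3) F) := by
  have hU : IsUT (μ⁻¹ • W) := hW.smul _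
  have hUd : ∀ i, (μ⁻¹ • W) i i = 1 := by
    intro i
    rw [Matrix.smul_apply, hd i, smul_eq_mul, inv_mul_cancel₀ hμ]
  have h1 := hU.pow_char hp hUd
  have hW' : W = μ • (μ⁻¹ • W) := by
    rw [smul_smul, mul_inv_cancel₀ hμ, one_smul]
  rw [hW', smul_pow, h1]

/-- a triangular matrix commuting... : if `T` has distinct diagonal entries and `T ^ k` has constant
diagonal `μ`, then `T ^ k` is scalar -/
theorem IsUT.pow_scalar_of_distinct {T : Matrix (Fin 3) (Fin 3) F} (hT : IsUT T)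
    (h01 : T 0 0 ≠ T 1 1) (h02 : T 0 0 ≠ T 2 2) (h12 : T 1 1 ≠ T 2 2) (k : ℕ) (μ : F) (hμ : μ ≠ 0)
    (hd : ∀ i, T i i ^ k = μ) : T ^ k = μ • (1 : Matrix (Fin 3) (Fin 3) F) := by
  obtain ⟨hk1, hk2⟩ := hT.pow k
  have hU : IsUT (μ⁻¹ • T ^ k) := hk1.smul _
  have hUd : ∀ i, (μ⁻¹ • T ^ k) i i = 1 := by
    intro i
    rw [Matrix.smul_apply, hk2 i, hd i, smul_eq_mul, inv_mul_cancel₀ hμ]
  have hc : T * (μ⁻¹ • T ^ k) = (μ⁻¹ • T ^ k) * T := by
    rw [Matrix.mul_smul, Matrix.smul_mul, ← pow_succ', ← pow_succ]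
  have h1 := hT.eq_one_of_commute hU hUd h01 h02 h12 hc
  calc T ^ k = μ • (μ⁻¹ • T ^ k) := by rw [smul_smul, mul_inv_cancel₀ hμ, one_smul]
    _ = μ • 1 := by rw [h1]


section arith

variable [Fintype F] {q : ℕ}

theorem gcd_three_cases (q : ℕ) : (Nat.gcd 3 (q + 1) = 1 ∧ ¬ 3 ∣ q + 1) ∨ (Nat.gcd 3 (q + 1) = 3 ∧ 3 ∣ q + 1) := by
  rcases (Nat.dvd_prime Nat.prime_three).mp (Nat.gcd_dvd_left 3 (q + 1)) with h | h
  · left
    refine ⟨h, fun h3 => ?_⟩
    have := Nat.dvd_gcd (dvd_refl 3) h3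
    rw [h] at this
    omega
  · right
    refine ⟨h, ?_⟩
    rw [← h]
    exact Nat.gcd_dvd_right 3 (q + 1)

theorem pow_card_sub_one' (hF : Fintype.card F = q ^ 2) (x : F) (hx : x ≠ 0) :
    x ^ (q ^ 2 - 1) = 1 := by
  have := FiniteField.pow_card_sub_one_eq_one x hx
  rwa [hF] at this

theorem pow_card' (hF : Fintype.card F = q ^ 2) (x : F) : (x ^ q) ^ q = x := by
  rw [← pow_mul, ← pow_two, ← hF]
  exact FiniteField.pow_card x

/-- the three diagonal entries have the same `(q²-1)/d`-th power -/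
theorem diag_pow_K1 (hF : Fintype.card F = q ^ 2) (hq : 2 ≤ q) (t b c : F) (ht : t ≠ 0)
    (hb : b * t = t ^ q) (hc : c * t ^ q = 1) :
    b ^ ((q ^ 2 - 1) / Nat.gcd 3 (q + 1)) = t ^ ((q ^ 2 - 1) / Nat.gcd 3 (q + 1)) ∧
      c ^ ((q ^ 2 - 1) / Nat.gcd 3 (q + 1)) = t ^ ((q ^ 2 - 1) / Nat.gcd 3 (q + 1)) := by
  have hb0 : b ≠ 0 := by
    rintro rfl
    rw [zero_mul] at hb
    exact pow_ne_zero q ht hb.symm
  have hc0 : c ≠ 0 := by
    rintro rfl
    rw [zero_mul] at hc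
    exact zero_ne_one hc
  rcases gcd_three_cases q with ⟨hd, h3⟩ | ⟨hd, h3⟩
  · rw [hd, Nat.div_one, pow_card_sub_one' hF b hb0, pow_card_sub_one' hF c hc0,
      pow_card_sub_one' hF t ht]
    exact ⟨rfl, rfl⟩
  · rw [hd]
    obtain ⟨e, he⟩ := h3
    have hq1 : q ^ 2 - 1 = 3 * ((q - 1) * e) := by
      have : q ^ 2 - 1 = (q - 1) * (q + 1) := by
        have h1 : 1 ≤ q := by omega
        zify [h1, Nat.one_le_pow 2 q h1]
        ring
      rw [this, he]
      ring
    rw [hq1, Nat.mul_div_cancel_left _ (by norm_num : 0 < 3)]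
    obtain ⟨K, hK⟩ : ∃ K, K = (q - 1) * e := ⟨_, rfl⟩
    rw [← hK] at hq1 ⊢
    have h3K : t ^ (3 * K) = 1 := by
      rw [← hq1]
      exact pow_card_sub_one' hF t ht
    -- `t^(qK) * t^K = 1`
    have hqK : t ^ (q * K) * t ^ K = 1 := by
      rw [← pow_add]
      have : q * K + K = e * (3 * K) := by
        have : q + 1 = 3 * e := he
        calc q * K + K = (q + 1) * K := by ring
          _ = e * (3 * K) := by rw [this]; ring
      rw [this, pow_mul', h3K, one_pow]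
    have h1 : b ^ K * t ^ K = t ^ (q * K) := by
      rw [← mul_pow, hb, ← pow_mul]
    have h2 : c ^ K * t ^ (q * K) = 1 := by
      rw [show t ^ (q * K) = (t ^ q) ^ K from pow_mul t q K, ← mul_pow, hc, one_pow]
    have ht3 : t ^ K * t ^ K * t ^ K = 1 := by
      rw [← pow_add, ← pow_add]
      have : K + K + K = 3 * K := by ring
      rw [this, h3K]
    have htK : t ^ K ≠ 0 := pow_ne_zero _ ht
    constructor
    · -- b^K = t^K
      have : b ^ K * (t ^ K * t ^ K) = t ^ K * (t ^ K * t ^ K) := by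
        calc b ^ K * (t ^ K * t ^ K) = (b ^ K * t ^ K) * t ^ K := by ring
          _ = t ^ (q * K) * t ^ K := by rw [h1]
          _ = 1 := hqK
          _ = t ^ K * (t ^ K * t ^ K) := by rw [← ht3]; ring
      exact mul_right_cancel₀ (mul_ne_zero htK htK) this
    · have : c ^ K * t ^ (q * K) = t ^ K * t ^ (q * K) := by
        rw [h2, mul_comm, hqK]
      exact mul_right_cancel₀ (pow_ne_zero _ ht) this

/-- if two diagonal entries coincide, all three have the same `(q+1)/d`-th power -/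
theorem diag_pow_L (hF : Fintype.card F = q ^ 2) (hq : 2 ≤ q) (t b c : F) (ht : t ≠ 0)
    (hb : b * t = t ^ q) (hc : c * t ^ q = 1) (h : t = b ∨ t = c ∨ b = c) :
    b ^ ((q + 1) / Nat.gcd 3 (q + 1)) = t ^ ((q + 1) / Nat.gcd 3 (q + 1)) ∧
      c ^ ((q + 1) / Nat.gcd 3 (q + 1)) = t ^ ((q + 1) / Nat.gcd 3 (q + 1)) := by
  -- the case `t ^ q = t ^ 2` leads to `t = b = c`
  have key : t ^ q = t ^ 2 → b = t ∧ c = t := by
    intro h2
    have h4 : t ^ 4 = t := by
      have := pow_card' hF t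
      rw [h2, ← pow_mul, mul_comm, pow_mul, h2, ← pow_mul] at this
      exact this
    have h3 : t ^ 3 = 1 := by
      have : t ^ 3 * t = 1 * t := by rw [← pow_succ, one_mul]; exact h4
      exact mul_right_cancel₀ ht this
    constructor
    · have : b * t = t * t := by rw [hb, h2, pow_two]
      exact mul_right_cancel₀ ht this
    · have : c * t ^ 2 = t * t ^ 2 := by
        rw [← h2, hc, h2, ← pow_succ', h3]
      exact mul_right_cancel₀ (pow_ne_zero 2 ht) this
  rcases h with h | h | h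
  · -- t = b
    have h2 : t ^ q = t ^ 2 := by rw [← hb, ← h, pow_two]
    obtain ⟨h5, h6⟩ := key h2
    rw [h5, h6]
    exact ⟨rfl, rfl⟩
  · -- t = c
    have h1 : t ^ (q + 1) = 1 := by rw [pow_succ', ← hc, ← h]
    have h2 : b * t ^ 2 = 1 := by
      rw [pow_two, ← mul_assoc, hb, ← pow_succ, h1]
    refine ⟨?_, by rw [← h]⟩
    obtain ⟨L, hL⟩ : ∃ L, L = (q + 1) / Nat.gcd 3 (q + 1) := ⟨_, rfl⟩
    rw [← hL]
    have h3L : t ^ (3 * L) = 1 := by
      rcases gcd_three_cases q with ⟨hd, h3⟩ | ⟨hd, h3⟩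
      · rw [hL, hd, Nat.div_one, mul_comm, pow_mul, h1, one_pow]
      · rw [hL, hd, Nat.mul_div_cancel' h3, h1]
    have h4 : b ^ L * (t ^ L * t ^ L) = 1 := by
      rw [← mul_pow, ← mul_pow, ← pow_two, h2, one_pow]
    have h5 : t ^ L * (t ^ L * t ^ L) = 1 := by
      rw [← pow_add, ← pow_add]
      have : L + (L + L) = 3 * L := by ring
      rw [this, h3L]
    have htL : t ^ L ≠ 0 := pow_ne_zero _ ht
    exact mul_right_cancel₀ (mul_ne_zero htL htL) (h4.trans h5.symm)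
  · -- b = c
    have h1 : b * t ^ q = 1 := by rw [h]; exact hc
    -- apply Frobenius
    have h2 : b ^ q * t = 1 := by
      have := congrArg (fun x => x ^ q) h1
      simp only [mul_pow, one_pow] at this
      rwa [pow_card' hF] at this
    have h3 : b ^ q * t ^ q = t := by
      have := congrArg (fun x => x ^ q) hb
      simp only [mul_pow] at this
      rwa [pow_card' hF] at this
    have h4 : t ^ q = t ^ 2 := by
      have : b ^ q * t * t ^ q = t * (b ^ q * t ^ q) := by ring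
      rw [h2, h3, one_mul] at this
      rw [this, pow_two]
    obtain ⟨h5, h6⟩ := key h4
    rw [h5, h6]
    exact ⟨rfl, rfl⟩

/-- the main statement for triangular matrices of "unitary Borel shape" -/
theorem ut_spec {p : ℕ} [Fact p.Prime] [CharP F p] (hp : p ≠ 2)
    (hF : Fintype.card F = q ^ 2) (hq : 2 ≤ q)
    (T : Matrix (Fin 3) (Fin 3) F) (hT : IsUT T) (t : F) (h0 : T 0 0 = t)
    (h2 : T 2 2 * t ^ q = 1) (hdet : T 0 0 * T 1 1 * T 2 2 = 1) :
    (∃ c : F, T ^ ((q ^ 2 - 1) / Nat.gcd 3 (q + 1)) = c • (1 : Matrix (Fin 3) (Fin 3) F)) ∨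
      (∃ c : F, T ^ (p * (q + 1) / Nat.gcd 3 (q + 1)) = c • (1 : Matrix (Fin 3) (Fin 3) F)) := by
  have ht : t ≠ 0 := by
    rintro rfl
    rw [zero_pow (by omega), mul_zero] at h2
    exact zero_ne_one h2
  have hb : T 1 1 * t = t ^ q := by
    rw [h0] at hdet
    linear_combination (-(T 1 1 * t)) * h2 + t ^ q * hdet
  by_cases hdist : t = T 1 1 ∨ t = T 2 2 ∨ T 1 1 = T 2 2
  · right
    obtain ⟨e1, e2⟩ := diag_pow_L hF hq t (T 1 1) (T 2 2) ht hb h2 hdist
    have hdvd : Nat.gcd 3 (q + 1) ∣ q + 1 := Nat.gcd_dvd_right _ _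
    rw [Nat.mul_div_assoc p hdvd, mul_comm, pow_mul]
    obtain ⟨hk1, hk2⟩ := hT.pow ((q + 1) / Nat.gcd 3 (q + 1))
    refine ⟨_, hk1.pow_char_scalar hp (t ^ ((q + 1) / Nat.gcd 3 (q + 1))) (pow_ne_zero _ ht) ?_⟩
    intro i
    rw [hk2 i]
    fin_cases i
    · simp only [Fin.zero_eta]; rw [h0]
    · exact e1
    · exact e2
  · left
    push Not at hdist
    obtain ⟨n1, n2, n3⟩ := hdist
    obtain ⟨e1, e2⟩ := diag_pow_K1 hF hq t (T 1 1) (T 2 2) ht hb h2
    refine ⟨_, hT.pow_scalar_of_distinct (by rw [h0]; exact n1) (by rw [h0]; exact n2) n3 _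
      (t ^ ((q ^ 2 - 1) / Nat.gcd 3 (q + 1))) (pow_ne_zero _ ht) ?_⟩
    intro i
    fin_cases i
    · simp only [Fin.zero_eta]; rw [h0]
    · exact e1
    · exact e2

end arith


end Cfsg.Agent.Lib.Helper9.UT3
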