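import Mathlib
import Cfsg.Prelude.Def_Classical
import Cfsg.Agent.Lib.Helper14.Unitary
import Cfsg.Agent.Lib.Helper14.Unitary2
import Cfsg.Agent.Lib.Helper14.Unitary3
import Cfsg.Agent.Lib.Helper9.SU3Local
import Cfsg.Agent.Lib.Helper9.SU3Invol
import Cfsg.Agent.Lib.Helper9.UT3

set_option autoImplicit false
set_option linter.unusedSectionVars false
set_option linter.unusedVariables false
set_option linter.style.haveILetI false

namespace Cfsg.Agent.Lib.Helper9.SU3SpecA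

open Cfsg.Agent.Lib.Helper14 Cfsg.Agent.Lib.Helper9.SU3Local Cfsg.Agent.Lib.Helper9.SU3Invol
  Cfsg.Agent.Lib.Helper9.UT3 Matrix Finset

section conj

variable {F : Type*} [Field F]

theorem conj_pow {P Q T M : Matrix (Fin 3) (Fin 3) F} (hPQ : P * Q = 1) (hQP : Q * P = 1)
    (hM : M = P * T * Q) (k : ℕ) : M ^ k = P * T ^ k * Q := by
  induction k with
  | zero => rw [pow_zero, pow_zero, Matrix.mul_one, hPQ]
  | succ k ih =>
    rw [pow_succ, ih, pow_succ]
    rw [hM]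
    calc P * T ^ k * Q * (P * T * Q) = P * T ^ k * (Q * P) * T * Q := by
          simp only [Matrix.mul_assoc]
      _ = P * (T ^ k * T) * Q := by rw [hQP, Matrix.mul_one, Matrix.mul_assoc P]

theorem conj_pow_scalar {P Q T M : Matrix (Fin 3) (Fin 3) F} (hPQ : P * Q = 1) (hQP : Q * P = 1)
    (hM : M = P * T * Q) (k : ℕ) (c : F) (h : T ^ k = c • (1 : Matrix (Fin 3) (Fin 3) F)) :
    M ^ k = c • (1 : Matrix (Fin 3) (Fin 3) F) := by
  rw [conj_pow hPQ hQP hM, h, Matrix.mul_smul, Matrix.mul_one, Matrix.smul_mul, hPQ]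

end conj

section borel

variable {F : Type*} [Field F] [Fintype F] [DecidableEq F] {q : ℕ}

local notation "hh" => Cfsg.hermForm 3 F q

/-- a unitary matrix of determinant one with an isotropic eigenvector is conjugate to a
triangular matrix of "Borel shape" -/
theorem borel_conj (hF : Fintype.card F = q ^ 2) (M : Matrix (Fin 3) (Fin 3) F)
    (hM : IsUni F q 3 M) (hdet : M.det = 1) (w : Fin 3 → F) (hw : w ≠ 0) (hww : hh w w = 0)
    (t : F) (hMw : M *ᵥ w = t • w) :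
    ∃ P Q T : Matrix (Fin 3) (Fin 3) F, P * Q = 1 ∧ Q * P = 1 ∧ M = P * T * Q ∧ IsUT T ∧
      T 0 0 = t ∧ T 2 2 * t ^ q = 1 ∧ T 0 0 * T 1 1 * T 2 2 = 1 := by
  have hq := herm_two_le hF
  obtain ⟨v₀, w₀, hv₀, hw₀, hw₀w₀, hind, hdec⟩ := exists_frame hF w hw hww
  -- `t ≠ 0`
  have h1 : hh (M *ᵥ v₀) (M *ᵥ w) = 1 := by rw [hM, hv₀]
  rw [hMw, hermForm_smul_right] at h1
  have ht : t ≠ 0 := by
    rintro rfl
    rw [zero_pow (by omega), zero_mul] at h1
    exact zero_ne_one h1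
  -- images
  have h2 : hh (M *ᵥ w₀) w = 0 := by
    have : hh (M *ᵥ w₀) (M *ᵥ w) = 0 := by rw [hM, hw₀]
    rw [hMw, hermForm_smul_right] at this
    rcases mul_eq_zero.mp this with h | h
    · exact absurd (pow_eq_zero_iff (by omega) |>.mp h) ht
    · exact h
  obtain ⟨α₁, β₁, hMw₀⟩ := hdec (M *ᵥ w₀)
  rw [h2, zero_smul, zero_add] at hMw₀
  obtain ⟨α₂, β₂, hMv₀⟩ := hdec (M *ᵥ v₀)
  set f := hh (M *ᵥ v₀) w with hf
  set P := colMat w w₀ v₀ with hP
  set T := colMat ![t, 0, 0] ![α₁, β₁, 0] ![α₂, β₂, f] with hT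
  -- `P` is invertible
  have hsurj : Function.Surjective P.mulVec := by
    intro v
    obtain ⟨α, β, hv⟩ := hdec v
    refine ⟨![α, β, hh v w], ?_⟩
    rw [hP, colMat_mulVec]
    show α • w + β • w₀ + hh v w • v₀ = v
    calc α • w + β • w₀ + hh v w • v₀ = hh v w • v₀ + α • w + β • w₀ := by abel
      _ = v := hv.symm
  have hunit : IsUnit P := Matrix.mulVec_surjective_iff_isUnit.mp hsurj
  have hdetP : IsUnit P.det := (Matrix.isUnit_iff_isUnit_det P).mp hunit
  have hMP : M * P = P * T := by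
    rw [hP, colMat_mul, hT, colMat_mul, ← hP]
    congr 1
    · rw [hMw, hP, colMat_mulVec]
      simp
    · rw [hMw₀, hP, colMat_mulVec]
      simp
    · rw [hMv₀, hP, colMat_mulVec]
      simp
      abel
  refine ⟨P, P⁻¹, T, Matrix.mul_nonsing_inv P hdetP, Matrix.nonsing_inv_mul P hdetP, ?_, ?_, ?_, ?_,
    ?_⟩
  · rw [← hMP, Matrix.mul_assoc, Matrix.mul_nonsing_inv P hdetP, Matrix.mul_one]
  · refine ⟨?_, ?_, ?_⟩ <;> simp [hT, colMat]
  · simp [hT, colMat]
  · have : T 2 2 = f := by simp [hT, colMat]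
    rw [this, mul_comm]
    exact h1
  · have hdT : T.det = 1 := by
      have h3 : M.det * P.det = P.det * T.det := by
        rw [← Matrix.det_mul, hMP, Matrix.det_mul]
      rw [hdet, one_mul] at h3
      have hP0 : P.det ≠ 0 := hdetP.ne_zero
      exact (mul_left_cancel₀ hP0 (by rw [mul_one]; exact h3)).symm
    have hUT : IsUT T := by
      refine ⟨?_, ?_, ?_⟩ <;> simp [hT, colMat]
    rw [← hUT.det, hdT]

/-- **Borel case**: a special unitary matrix with an isotropic eigenvector -/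
theorem borel_case {p : ℕ} [Fact p.Prime] [CharP F p] (hp : p ≠ 2)
    (hF : Fintype.card F = q ^ 2) (M : Matrix (Fin 3) (Fin 3) F)
    (hM : IsUni F q 3 M) (hdet : M.det = 1) (w : Fin 3 → F) (hw : w ≠ 0) (hww : hh w w = 0)
    (t : F) (hMw : M *ᵥ w = t • w) :
    (∃ c : F, M ^ ((q ^ 2 - 1) / Nat.gcd 3 (q + 1)) = c • (1 : Matrix (Fin 3) (Fin 3) F)) ∨
      (∃ c : F, M ^ (p * (q + 1) / Nat.gcd 3 (q + 1)) = c • (1 : Matrix (Fin 3) (Fin 3) F)) := by
  obtain ⟨P, Q, T, hPQ, hQP, hMT, hT, h0, h2, h3⟩ := borel_conj hF M hM hdet w hw hww t hMw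
  rcases ut_spec hp hF (herm_two_le hF) T hT t h0 h2 h3 with ⟨c, hc⟩ | ⟨c, hc⟩
  · left
    exact ⟨c, conj_pow_scalar hPQ hQP hMT _ c hc⟩
  · right
    exact ⟨c, conj_pow_scalar hPQ hQP hMT _ c hc⟩

end borel

end Cfsg.Agent.Lib.Helper9.SU3SpecA
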