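import Mathlib
import Cfsg.Prelude.Def_Classical
import Cfsg.Agent.Lib.Helper14.Unitary
import Cfsg.Agent.Lib.Helper14.Unitary2
import Cfsg.Agent.Lib.Helper14.Unitary3
import Cfsg.Agent.Lib.Helper14.HermCount
import Cfsg.Agent.Lib.Helper15.UnitaryForm
import Cfsg.Agent.Lib.Helper9.SU3SpecA
import Cfsg.Agent.Lib.Helper9.UT3

set_option autoImplicit false
set_option linter.unusedSectionVars false
set_option linter.unusedVariables false
set_option linter.style.haveILetI false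

namespace Cfsg.Agent.Lib.Helper9.SU3SpecD

open Cfsg.Agent.Lib.Helper14 Cfsg.Agent.Lib.Helper15 Matrix Finset

section frob

variable {K : Type*} [Field K] [Fintype K] {q n : ℕ}

/-- the Frobenius involution as a star structure -/
@[reducible] def frobStar (hK : Fintype.card K = q ^ 2) : StarRing K where
  star := fun x => x ^ q
  star_involutive := fun x => by
    classical
    show (x ^ q) ^ q = x
    rw [← pow_mul, ← sq, herm_pow_card hK]
  star_mul := fun x y => by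
    show (x * y) ^ q = y ^ q * x ^ q
    rw [mul_pow, mul_comm]
  star_add := fun x y => by
    classical
    exact herm_add_pow hK x y

theorem exists_not_fixed (hK : Fintype.card K = q ^ 2) : ∃ x : K, x ^ q ≠ x := by
  classical
  by_contra hcon
  push Not at hcon
  have h1 := fixStar_card hK
  have h2 : fixStar K q = Finset.univ.erase 0 := by
    ext c
    rw [mem_fixStar, Finset.mem_erase]
    simp [hcon c]
  rw [h2, Finset.card_erase_of_mem (Finset.mem_univ _), Finset.card_univ, hK] at h1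
  have hq := herm_two_le hK
  have h3 : q ^ 2 ≥ 2 * q := by nlinarith
  omega

theorem frob_T (hK : Fintype.card K = q ^ 2) : ∃ d : K, d + d ^ q ≠ 0 := by
  by_contra hcon
  push Not at hcon
  have h1 := hcon 1
  rw [one_pow] at h1
  obtain ⟨x, hx⟩ := exists_not_fixed hK
  apply hx
  have h2 : x + x = 0 := by
    calc x + x = x * (1 + 1) := by ring
      _ = 0 := by rw [h1, mul_zero]
  have h3 := hcon x
  exact (add_left_cancel (h3.trans h2.symm))

theorem frob_S (hK : Fintype.card K = q ^ 2) : ∃ τ : K, τ ≠ 0 ∧ τ ^ q = -τ := by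
  classical
  obtain ⟨x, hx⟩ := exists_not_fixed hK
  refine ⟨x - x ^ q, sub_ne_zero.2 (Ne.symm hx), ?_⟩
  rw [herm_sub_pow hK, ← pow_mul, ← sq, herm_pow_card hK, neg_sub]

theorem frob_N (hK : Fintype.card K = q ^ 2) :
    ∀ x : K, x ^ q = x → x ≠ 0 → ∃ r : K, r ^ q * r = x := by
  classical
  intro x hx hx0
  have h1 := normFiber_of_mem hK x (mem_fixStar.2 ⟨hx0, hx⟩)
  unfold normFiber at h1
  have h2 : 0 < (Finset.univ.filter (fun w : K => w * w ^ q = x)).card := by rw [h1]; omega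
  obtain ⟨w, hw⟩ := Finset.card_pos.1 h2
  rw [Finset.mem_filter] at hw
  exact ⟨w, by rw [mul_comm]; exact hw.2⟩

/-- unitarity as a matrix equation -/
theorem isUni_of_mul_eq_one (hK : Fintype.card K = q ^ 2) (M : Matrix (Fin n) (Fin n) K)
    (h : (Mᵀ.map (fun x => x ^ q)) * M = 1) : IsUni K q n M := by
  classical
  have h2 := congrArg Matrix.transpose h
  rw [Matrix.transpose_mul, Matrix.transpose_one, ← Matrix.transpose_map,
    Matrix.transpose_transpose] at h2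
  have hO : OrthoN K q n n (fun j i => M i j) := by
    intro j l
    have h3 := congrFun (congrFun h2 j) l
    rw [Matrix.mul_apply, Matrix.one_apply] at h3
    unfold Cfsg.hermForm
    rw [← h3]
    rfl
  intro u v
  exact hermForm_mulVec_of_orthoN hK M hO u v

/-- **transfer**: a matrix of determinant one preserving some nondegenerate sesquilinear form is
conjugate to a special unitary matrix -/
theorem transfer (hK : Fintype.card K = q ^ 2) (A Ai h hi : Matrix (Fin 3) (Fin 3) K)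
    (hA1 : A * Ai = 1) (h1 : hi * h = 1)
    (hform : (Aᵀ.map (fun x => x ^ q)) * h * A = h) (hdet : A.det = 1) (N : ℕ)
    (hN : ∀ k : ℕ, (∃ c : K, A ^ k = c • (1 : Matrix (Fin 3) (Fin 3) K)) ↔ N ∣ k) :
    ∃ M : Matrix (Fin 3) (Fin 3) K, IsUni K q 3 M ∧ M.det = 1 ∧
      ∀ k : ℕ, (∃ c : K, M ^ k = c • (1 : Matrix (Fin 3) (Fin 3) K)) ↔ N ∣ k := by
  classical
  letI : StarRing K := frobStar hK
  obtain ⟨τ, hτ⟩ := exists_not_fixed hK
  have hτ' : τ - star τ ≠ 0 := by
    show τ - τ ^ q ≠ 0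
    exact sub_ne_zero.mpr (Ne.symm hτ)
  have hA2 : Ai * A = 1 := mul_eq_one_comm.mp hA1
  have h2 : h * hi = 1 := mul_eq_one_comm.mp h1
  obtain ⟨Q, P, hQP, hPQ, hU⟩ := UnitaryForm.exists_unitary_conj (K := K)
    (frob_T hK) (fun x hx hx0 => frob_N hK x hx hx0) τ hτ' A Ai h hi hA1 hA2 h1 h2 hform
  refine ⟨Q * A * P, isUni_of_mul_eq_one hK _ hU, ?_, ?_⟩
  · rw [Matrix.det_mul, Matrix.det_mul, hdet, mul_one, ← Matrix.det_mul, hQP, Matrix.det_one]
  · intro k
    rw [← hN k]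
    constructor
    · rintro ⟨c, hc⟩
      refine ⟨c, ?_⟩
      have hA : A = P * (Q * A * P) * Q := by
        calc A = (P * Q) * A * (P * Q) := by rw [hPQ, Matrix.one_mul, Matrix.mul_one]
          _ = P * (Q * A * P) * Q := by simp only [Matrix.mul_assoc]
      exact SU3SpecA.conj_pow_scalar hPQ hQP hA k c hc
    · rintro ⟨c, hc⟩
      exact ⟨c, SU3SpecA.conj_pow_scalar hQP hPQ rfl k c hc⟩

end frob

section exist

variable {F : Type*} [Field F] [Fintype F] [DecidableEq F] {q : ℕ}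

/-- elements of prescribed order in a finite field -/
theorem exists_orderOf_eq {K : Type*} [Field K] [Fintype K] (n : ℕ)
    (hn : n ∣ Fintype.card K - 1) : ∃ a : K, orderOf a = n := by
  classical
  obtain ⟨g, hg⟩ := IsCyclic.exists_ofOrder_eq_natCard (α := Kˣ)
  rw [Nat.card_eq_fintype_card, Fintype.card_units] at hg
  obtain ⟨m, hm⟩ := hn
  have hpos : 0 < Fintype.card K - 1 := by
    have := Fintype.one_lt_card (α := K)
    omega
  have hm0 : m ≠ 0 := by
    rintro rfl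
    omega
  refine ⟨((g ^ m : Kˣ) : K), ?_⟩
  rw [orderOf_units, orderOf_pow_of_dvd hm0 (by rw [hg, hm]; exact dvd_mul_left _ _), hg, hm,
    Nat.mul_div_cancel _ (Nat.pos_of_ne_zero hm0)]

theorem sq_sub_one_eq (hq : 1 ≤ q) : q ^ 2 - 1 = (q + 1) * (q - 1) := by
  obtain ⟨r, rfl⟩ : ∃ r, q = r + 1 := ⟨q - 1, by omega⟩
  have : (r + 1) ^ 2 = (r + 1 + 1) * r + 1 := by ring
  rw [this]
  simp

theorem exists_E1 (hF : Fintype.card F = q ^ 2) :
    ∃ M : Matrix (Fin 3) (Fin 3) F, IsUni F q 3 M ∧ M.det = 1 ∧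
      ∀ k : ℕ, (∃ c : F, M ^ k = c • (1 : Matrix (Fin 3) (Fin 3) F)) ↔ (q + 1) ∣ k := by
  have hq2 := herm_two_le hF
  obtain ⟨a, ha⟩ := exists_orderOf_eq (K := F) (q + 1) (by
    rw [hF, sq_sub_one_eq (by omega)]
    exact dvd_mul_right _ _)
  have ha1 : a ^ (q + 1) = 1 := by
    rw [← ha]
    exact pow_orderOf_eq_one a
  have ha0 : a ≠ 0 := by
    rintro rfl
    rw [zero_pow (by omega)] at ha1
    exact zero_ne_one ha1
  have hnorm : a * a ^ q = 1 := by rw [← pow_succ']; exact ha1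
  refine ⟨Matrix.diagonal ![a, a⁻¹, 1], isUni_diagonal _ ?_, ?_, ?_⟩
  · intro i
    fin_cases i
    · exact hnorm
    · show a⁻¹ * a⁻¹ ^ q = 1
      rw [inv_pow, ← mul_inv, hnorm, inv_one]
    · show (1 : F) * 1 ^ q = 1
      rw [one_pow, one_mul]
  · rw [Matrix.det_diagonal, Fin.prod_univ_three]
    show a * a⁻¹ * 1 = 1
    rw [mul_inv_cancel₀ ha0, one_mul]
  · intro k
    rw [Matrix.diagonal_pow, ← ha, orderOf_dvd_iff_pow_eq_one]
    constructor
    · rintro ⟨c, hc⟩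
      have h2 := congrFun (congrFun hc 2) 2
      have h0 := congrFun (congrFun hc 0) 0
      simp only [Matrix.diagonal_apply_eq, Matrix.smul_apply, Matrix.one_apply_eq, smul_eq_mul,
        mul_one, Pi.pow_apply] at h2 h0
      have h2' : (1 : F) ^ k = c := h2
      have h0' : a ^ k = c := h0
      rw [h0', ← h2', one_pow]
    · intro hk
      refine ⟨1, ?_⟩
      rw [one_smul, ← Matrix.diagonal_one]
      congr 1
      funext i
      fin_cases i
      · exact hk
      · show a⁻¹ ^ k = 1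
        rw [inv_pow, hk, inv_one]
      · show (1 : F) ^ k = 1
        exact one_pow k

end exist

section e3

variable {F : Type*} [Field F] [Fintype F] [DecidableEq F] {q : ℕ}

/-- the hyperbolic Gram matrix -/
def JJ (F : Type*) [Field F] : Matrix (Fin 3) (Fin 3) F := !![0, 1, 0; 1, 0, 0; 0, 0, 1]

theorem JJ_mul_JJ : JJ F * JJ F = 1 := by
  ext i j
  fin_cases i <;> fin_cases j <;> simp [JJ, Matrix.mul_apply, Fin.sum_univ_three]

theorem diag_form (hq : q ≠ 0) (x y z : F) (hxy : x ^ q * y = 1) (hyx : y ^ q * x = 1)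
    (hzz : z ^ q * z = 1) :
    ((Matrix.diagonal ![x, y, z])ᵀ.map (fun a => a ^ q)) * JJ F * Matrix.diagonal ![x, y, z] =
      JJ F := by
  ext i j
  fin_cases i <;> fin_cases j <;>
    simp [JJ, Matrix.mul_apply, Matrix.diagonal_apply, hq, hxy, hyx, hzz]

theorem arith_E3 (q k : ℕ) (hq : 2 ≤ q) :
    ((q ^ 2 - 1) ∣ (q + 1) * k ∧ (q ^ 2 - 1) ∣ (q - 2) * k) ↔
      ((q ^ 2 - 1) / Nat.gcd 3 (q + 1)) ∣ k := by
  obtain ⟨n, hn⟩ : ∃ n, n = q ^ 2 - 1 := ⟨_, rfl⟩
  have hn' : n = (q + 1) * (q - 1) := by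
    obtain ⟨r, rfl⟩ : ∃ r, q = r + 1 := ⟨q - 1, by omega⟩
    have : (r + 1) ^ 2 = (r + 1 + 1) * r + 1 := by ring
    rw [hn, this]
    simp
  rw [← hn]
  have hd : Nat.gcd 3 (q + 1) ∣ n := by
    rw [hn']
    exact Dvd.dvd.mul_right (Nat.gcd_dvd_right _ _) _
  have hdpos : 0 < Nat.gcd 3 (q + 1) := Nat.gcd_pos_of_pos_left _ (by norm_num)
  constructor
  · rintro ⟨h1, h2⟩
    have h3 : n ∣ 3 * k := by
      have := Nat.dvd_sub h1 h2
      have e : (q + 1) * k - (q - 2) * k = 3 * k := by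
        rw [← Nat.sub_mul]
        congr 1
        omega
      rwa [e] at this
    have h4 : n ∣ Nat.gcd 3 (q + 1) * k := by
      rw [← Nat.gcd_mul_right]
      exact Nat.dvd_gcd h3 h1
    obtain ⟨n', hn''⟩ := hd
    rw [hn'', Nat.mul_div_cancel_left _ hdpos]
    rw [hn''] at h4
    exact Nat.dvd_of_mul_dvd_mul_left hdpos h4
  · intro h
    rcases UT3.gcd_three_cases q with ⟨hd1, _⟩ | ⟨hd3, m, hm⟩
    · rw [hd1, Nat.div_one] at h
      exact ⟨Dvd.dvd.mul_left h _, Dvd.dvd.mul_left h _⟩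
    · rw [hd3] at h
      have hn3 : n = 3 * (m * (q - 1)) := by rw [hn', hm]; ring
      rw [hn3, Nat.mul_div_cancel_left _ (by norm_num)] at h
      obtain ⟨k', rfl⟩ := h
      have hq2 : q - 2 = 3 * (m - 1) := by omega
      constructor
      · rw [hn3, hm]
        exact ⟨m * k', by ring⟩
      · rw [hn3, hq2]
        exact ⟨(m - 1) * k', by ring⟩

theorem exists_E3 (hF : Fintype.card F = q ^ 2) :
    ∃ M : Matrix (Fin 3) (Fin 3) F, IsUni F q 3 M ∧ M.det = 1 ∧
      ∀ k : ℕ, (∃ c : F, M ^ k = c • (1 : Matrix (Fin 3) (Fin 3) F)) ↔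
        ((q ^ 2 - 1) / Nat.gcd 3 (q + 1)) ∣ k := by
  have hq2 := herm_two_le hF
  obtain ⟨t, ht⟩ := exists_orderOf_eq (K := F) (q ^ 2 - 1) (by rw [hF])
  have ht1 : t ^ (q ^ 2 - 1) = 1 := by
    rw [← ht]
    exact pow_orderOf_eq_one t
  have hqq : 2 ≤ q ^ 2 := by nlinarith
  have ht0 : t ≠ 0 := by
    rintro rfl
    rw [zero_pow (by omega)] at ht1
    exact zero_ne_one ht1
  have htq : (t ^ q) ^ q = t := UT3.pow_card' hF t
  have htq0 : t ^ q ≠ 0 := pow_ne_zero _ ht0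
  obtain ⟨r, hr⟩ : ∃ r, q = r + 2 := ⟨q - 2, by omega⟩
  have hxy : t ^ q * (t ^ q)⁻¹ = 1 := mul_inv_cancel₀ htq0
  have hyx : ((t ^ q)⁻¹) ^ q * t = 1 := by
    rw [inv_pow, htq, inv_mul_cancel₀ ht0]
  have hzz : (t ^ (q - 1)) ^ q * t ^ (q - 1) = 1 := by
    rw [← pow_mul, ← pow_add, ← ht1]
    congr 1
    rw [sq_sub_one_eq (by omega)]
    ring
  have hdet : (Matrix.diagonal ![t, (t ^ q)⁻¹, t ^ (q - 1)]).det = 1 := by
    rw [Matrix.det_diagonal, Fin.prod_univ_three]
    show t * (t ^ q)⁻¹ * t ^ (q - 1) = 1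
    have : t * t ^ (q - 1) = t ^ q := by
      rw [← pow_succ']
      congr 1
      omega
    rw [mul_right_comm, this, mul_inv_cancel₀ htq0]
  have hinv : Matrix.diagonal ![t, (t ^ q)⁻¹, t ^ (q - 1)] *
      Matrix.diagonal ![t⁻¹, t ^ q, (t ^ (q - 1))⁻¹] = 1 := by
    rw [Matrix.diagonal_mul_diagonal, ← Matrix.diagonal_one]
    congr 1
    funext i
    fin_cases i
    · exact mul_inv_cancel₀ ht0
    · exact inv_mul_cancel₀ htq0
    · exact mul_inv_cancel₀ (pow_ne_zero _ ht0)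
  refine transfer hF _ _ (JJ F) (JJ F) hinv JJ_mul_JJ
    (diag_form (by omega) _ _ _ hxy hyx hzz) hdet _ ?_
  intro k
  rw [← arith_E3 q k hq2, ← ht, orderOf_dvd_iff_pow_eq_one, orderOf_dvd_iff_pow_eq_one,
    Matrix.diagonal_pow]
  have e1 : t ^ k = ((t ^ q)⁻¹) ^ k ↔ t ^ ((q + 1) * k) = 1 := by
    rw [inv_pow, ← mul_eq_one_iff_eq_inv₀ (pow_ne_zero _ htq0)]
    have : t ^ k * (t ^ q) ^ k = t ^ ((q + 1) * k) := by ring
    rw [this]
  have e2 : t ^ k = (t ^ (q - 1)) ^ k ↔ t ^ ((q - 2) * k) = 1 := by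
    have hq1 : q - 1 = r + 1 := by omega
    have hq2' : q - 2 = r := by omega
    rw [hq1, hq2']
    have : (t ^ (r + 1)) ^ k = t ^ (r * k) * t ^ k := by ring
    rw [this]
    constructor
    · intro h
      have h' : t ^ (r * k) * t ^ k = 1 * t ^ k := by rw [one_mul]; exact h.symm
      exact mul_right_cancel₀ (pow_ne_zero _ ht0) h'
    · intro h
      rw [h, one_mul]
  rw [← e1, ← e2]
  constructor
  · rintro ⟨c, hc⟩
    have h0 := congrFun (congrFun hc 0) 0
    have h1 := congrFun (congrFun hc 1) 1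
    have h2 := congrFun (congrFun hc 2) 2
    simp only [Matrix.diagonal_apply_eq, Matrix.smul_apply, Matrix.one_apply_eq, smul_eq_mul,
      mul_one, Pi.pow_apply] at h0 h1 h2
    have h0' : t ^ k = c := h0
    have h1' : ((t ^ q)⁻¹) ^ k = c := h1
    have h2' : (t ^ (q - 1)) ^ k = c := h2
    exact ⟨by rw [h0', h1'], by rw [h0', h2']⟩
  · rintro ⟨h1, h2⟩
    refine ⟨t ^ k, ?_⟩
    rw [Matrix.smul_one_eq_diagonal]
    congr 1
    funext i
    fin_cases i
    · rfl
    · exact h1.symm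
    · exact h2.symm

end e3


section e2

variable {F : Type*} [Field F] [Fintype F] [DecidableEq F] {q : ℕ}

/-- a torus element times a transvection, in a hyperbolic basis -/
def TV (a c w : F) : Matrix (Fin 3) (Fin 3) F := !![a, a * c, 0; 0, a, 0; 0, 0, w]

theorem TV_mul (a c w a' c' w' : F) : TV a c w * TV a' c' w' = TV (a * a') (c + c') (w * w') := by
  ext i j
  fin_cases i <;> fin_cases j <;> simp [TV, Matrix.mul_apply, Fin.sum_univ_three] <;> ring

theorem TV_one : TV (1 : F) 0 1 = 1 := by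
  ext i j
  fin_cases i <;> fin_cases j <;> simp [TV]

theorem TV_pow (a c w : F) (k : ℕ) : TV a c w ^ k = TV (a ^ k) ((k : F) * c) (w ^ k) := by
  induction k with
  | zero => simp [TV_one]
  | succ k ih =>
    rw [pow_succ, ih, TV_mul, pow_succ, pow_succ]
    congr 1
    push_cast
    ring

theorem TV_det (a c w : F) : (TV a c w).det = a * a * w := by
  rw [Matrix.det_fin_three]
  simp [TV]

theorem TV_form (hq : q ≠ 0) (a c w : F) (ha : a ^ q * a = 1) (hc : c ^ q = -c)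
    (hw : w ^ q * w = 1) :
    ((TV a c w)ᵀ.map (fun x => x ^ q)) * JJ F * TV a c w = JJ F := by
  ext i j
  fin_cases i <;> fin_cases j <;>
    simp [JJ, TV, Matrix.mul_apply, Fin.sum_univ_three, hq, ha, hw, mul_pow, hc]
  ring

theorem arith_E2 {p : ℕ} (hp : p.Prime) (j : ℕ) (hq : q = p ^ j) (hq2 : 2 ≤ q) (k : ℕ) :
    (p ∣ k ∧ (q + 1) ∣ 3 * k) ↔ (p * (q + 1) / Nat.gcd 3 (q + 1)) ∣ k := by
  have hj : j ≠ 0 := by
    rintro rfl
    rw [pow_zero] at hq
    omega
  have hpq : p ∣ q := by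
    rw [hq]
    exact dvd_pow_self p hj
  have hcop : Nat.Coprime p (q + 1) := by
    rw [Nat.Prime.coprime_iff_not_dvd hp]
    intro h
    have h1 : p ∣ 1 := (Nat.dvd_add_right hpq).mp h
    have := Nat.le_of_dvd one_pos h1
    have := hp.one_lt
    omega
  have hdvd : Nat.gcd 3 (q + 1) ∣ q + 1 := Nat.gcd_dvd_right _ _
  rw [Nat.mul_div_assoc p hdvd]
  have key : (q + 1) ∣ 3 * k ↔ ((q + 1) / Nat.gcd 3 (q + 1)) ∣ k := by
    rcases UT3.gcd_three_cases q with ⟨hd1, h3⟩ | ⟨hd3, m, hm⟩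
    · rw [hd1, Nat.div_one]
      have hc3 : Nat.Coprime (q + 1) 3 :=
        ((Nat.Prime.coprime_iff_not_dvd Nat.prime_three).mpr h3).symm
      constructor
      · intro h
        rw [mul_comm] at h
        exact hc3.dvd_of_dvd_mul_right h
      · intro h
        exact Dvd.dvd.mul_left h _
    · rw [hd3, hm, Nat.mul_div_cancel_left _ (by norm_num)]
      exact Nat.mul_dvd_mul_iff_left (by norm_num)
  rw [key]
  have hcop' : Nat.Coprime p ((q + 1) / Nat.gcd 3 (q + 1)) :=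
    Nat.Coprime.coprime_dvd_right (Nat.div_dvd_of_dvd hdvd) hcop
  constructor
  · rintro ⟨h1, h2⟩
    exact hcop'.mul_dvd_of_dvd_of_dvd h1 h2
  · intro h
    exact ⟨dvd_trans (dvd_mul_right _ _) h, dvd_trans (dvd_mul_left _ _) h⟩


theorem exists_E2 {p : ℕ} [Fact p.Prime] [CharP F p] (j : ℕ) (hq : q = p ^ j)
    (hF : Fintype.card F = q ^ 2) :
    ∃ M : Matrix (Fin 3) (Fin 3) F, IsUni F q 3 M ∧ M.det = 1 ∧
      ∀ k : ℕ, (∃ c : F, M ^ k = c • (1 : Matrix (Fin 3) (Fin 3) F)) ↔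
        (p * (q + 1) / Nat.gcd 3 (q + 1)) ∣ k := by
  have hq2 := herm_two_le hF
  obtain ⟨a, ha⟩ := exists_orderOf_eq (K := F) (q + 1) (by
    rw [hF, sq_sub_one_eq (by omega)]
    exact dvd_mul_right _ _)
  have ha1 : a ^ (q + 1) = 1 := by
    rw [← ha]
    exact pow_orderOf_eq_one a
  have ha0 : a ≠ 0 := by
    rintro rfl
    rw [zero_pow (by omega)] at ha1
    exact zero_ne_one ha1
  have hnorm : a ^ q * a = 1 := by rw [← pow_succ]; exact ha1
  obtain ⟨c, hc0, hc⟩ := frob_S hF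
  have ha20 : a ^ 2 ≠ 0 := pow_ne_zero _ ha0
  have hw : ((a ^ 2)⁻¹) ^ q * (a ^ 2)⁻¹ = 1 := by
    rw [inv_pow, ← mul_inv, inv_eq_one]
    have : (a ^ 2) ^ q * a ^ 2 = (a ^ q * a) ^ 2 := by ring
    rw [this, hnorm, one_pow]
  have hinv : TV a c (a ^ 2)⁻¹ * TV a⁻¹ (-c) (a ^ 2) = 1 := by
    rw [TV_mul, mul_inv_cancel₀ ha0, add_neg_cancel, inv_mul_cancel₀ ha20, TV_one]
  have hdet : (TV a c (a ^ 2)⁻¹).det = 1 := by
    rw [TV_det, ← pow_two, mul_inv_cancel₀ ha20]
  refine transfer hF (TV a c (a ^ 2)⁻¹) (TV a⁻¹ (-c) (a ^ 2)) (JJ F) (JJ F) hinv JJ_mul_JJ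
    (TV_form (by omega) a c _ hnorm hc hw) hdet _ ?_
  intro k
  rw [← arith_E2 (Fact.out) j hq hq2 k, TV_pow, ← CharP.cast_eq_zero_iff F p k, ← ha,
    orderOf_dvd_iff_pow_eq_one]
  have e3 : a ^ (3 * k) = a ^ k * (a ^ 2) ^ k := by ring
  constructor
  · rintro ⟨c', hc'⟩
    have h01 := congrFun (congrFun hc' 0) 1
    have h00 := congrFun (congrFun hc' 0) 0
    have h22 := congrFun (congrFun hc' 2) 2
    simp [TV] at h01 h00 h22
    constructor
    · rcases h01 with h | h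
      · exact absurd h.1 ha0
      · rcases h with h | h
        · exact h
        · exact absurd h hc0
    · rw [e3, h00, ← h22, inv_mul_cancel₀ (pow_ne_zero _ ha20)]
  · rintro ⟨hk, h3k⟩
    refine ⟨a ^ k, ?_⟩
    have hwk : ((a ^ 2)⁻¹) ^ k = a ^ k := by
      rw [inv_pow]
      rw [e3] at h3k
      exact (eq_inv_of_mul_eq_one_left h3k).symm
    rw [hk, zero_mul, hwk]
    ext i j
    fin_cases i <;> fin_cases j <;> simp [TV]

end e2

end Cfsg.Agent.Lib.Helper9.SU3SpecD
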