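import Mathlib

/-! OrbC4 leaf for the S4125 orbit lemma: a cyclic Sylow `p`-subgroup `P = ⟨g⟩` whose subgroup of
order `p` is central (automatic for `p = 2`) is central in its normalizer. -/

set_option autoImplicit false

namespace Cfsg.Agent.Lib.Helper9.OrbLeaf

variable {p q : ℕ} [hp : Fact p.Prime] [hq : Fact q.Prime]

/-- iterating a conjugation `x g x⁻¹ = g ^ k`. -/
theorem conj_pow_iter {G : Type*} [Group G] (x g : G) (k : ℕ) (hk : x * g * x⁻¹ = g ^ k) (j : ℕ) :
    x ^ j * g * (x ^ j)⁻¹ = g ^ (k ^ j) := by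
  induction j with
  | zero => simp
  | succ j ih =>
    have : x ^ (j + 1) * g * (x ^ (j + 1))⁻¹ = x * (x ^ j * g * (x ^ j)⁻¹) * x⁻¹ := by
      rw [pow_succ']; group
    rw [this, ih, ← conj_pow, hk, ← pow_mul, pow_succ']

theorem normalizer_le_centralizer_of_cyclic {G : Type*} [Group G] [Finite G] (P : Sylow p G)
    (g : G) (hg : (P : Subgroup G) = Subgroup.zpowers g)
    (h : p = 2 ∨ ∀ x : G, x * g ^ (orderOf g / p) = g ^ (orderOf g / p) * x) :
    Subgroup.normalizer ((P : Subgroup G) : Set G) ≤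
      Subgroup.centralizer ((P : Subgroup G) : Set G) := by
  intro x hx
  suffices hxg : Commute x g by
    rw [Subgroup.mem_centralizer_iff]
    intro y hy
    have hy' : y ∈ Subgroup.zpowers g := by rw [← hg]; exact hy
    obtain ⟨i, rfl⟩ := Subgroup.mem_zpowers_iff.mp hy'
    exact ((hxg.zpow_right i).eq).symm
  have hpp : p.Prime := hp.out
  -- the order of g is a power of p
  have hcard : Nat.card (P : Subgroup G) = orderOf g := by
    rw [hg]; exact Nat.card_zpowers g
  obtain ⟨m, hm⟩ := (IsPGroup.iff_card (p := p)).mp P.isPGroup'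
  have hn : orderOf g = p ^ m := by rw [← hcard, hm]
  rcases Nat.eq_zero_or_pos m with hm0 | hmpos
  · -- g = 1
    have : g = 1 := by
      rw [← orderOf_eq_one_iff, hn, hm0, pow_zero]
    rw [this]; exact Commute.one_right x
  obtain ⟨m', rfl⟩ : ∃ m', m = m' + 1 := ⟨m - 1, by omega⟩
  -- x g x⁻¹ = g ^ k
  have hconj : x * g * x⁻¹ ∈ Subgroup.zpowers g := by
    rw [← hg]
    exact (Subgroup.mem_normalizer_iff.mp hx g).mp (by rw [hg]; exact Subgroup.mem_zpowers g)
  obtain ⟨k, hk⟩ := (Submonoid.mem_powers_iff _ _).mp (mem_powers_iff_mem_zpowers.mpr hconj)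
  have hk' : x * g * x⁻¹ = g ^ k := hk.symm
  -- k ≡ 1 mod p
  have hk1 : k ≡ 1 [MOD p] := by
    rcases h with h2 | hz
    · -- p = 2: k is odd
      have ho : orderOf (g ^ k) = orderOf g := by
        rw [← hk']
        exact orderOf_injective (MulAut.conj x).toMonoidHom (MulAut.conj x).injective g
      rw [orderOf_pow] at ho
      have hpos : 0 < orderOf g := orderOf_pos g
      have hgcd : (orderOf g).gcd k = 1 := by
        rcases Nat.div_eq_self.mp ho with h0 | h1
        · exact absurd h0 hpos.ne'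
        · exact h1
      have hpn : p ∣ orderOf g := by rw [hn]; exact dvd_pow_self p (Nat.succ_ne_zero m')
      have hnk : ¬ p ∣ k := by
        intro hpk
        have : p ∣ (orderOf g).gcd k := Nat.dvd_gcd hpn hpk
        rw [hgcd] at this
        exact hpp.one_lt.ne' (Nat.dvd_one.mp this)
      subst h2
      have : k % 2 = 1 := by omega
      exact this
    · -- x centralises z = g ^ (n / p)
      have hz' := hz x
      have hnp : orderOf g / p = p ^ m' := by
        rw [hn, pow_succ]; exact Nat.mul_div_cancel _ hpp.pos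
      rw [hnp] at hz'
      have e1 : x * g ^ (p ^ m') * x⁻¹ = g ^ (p ^ m') := by
        rw [hz']; group
      rw [← conj_pow, hk', ← pow_mul] at e1
      have e2 : k * p ^ m' ≡ p ^ m' [MOD orderOf g] := pow_eq_pow_iff_modEq.mp e1
      rw [hn, pow_succ, mul_comm (p ^ m') p] at e2
      have e3 : k * p ^ m' ≡ 1 * p ^ m' [MOD p * p ^ m'] := by rwa [one_mul]
      exact Nat.ModEq.mul_right_cancel' (pow_pos hpp.pos m').ne' e3
  -- k ^ (p ^ m') ≡ 1 mod p ^ (m' + 1)
  have hk2 : k ^ (p ^ m') ≡ 1 [MOD p ^ (m' + 1)] := by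
    have h1 : ((p : ℕ) : ℤ) ∣ (k : ℤ) - 1 := by
      have := (Nat.modEq_iff_dvd.mp hk1.symm)
      simpa using this
    have h2 := dvd_sub_pow_of_dvd_sub h1 m'
    rw [one_pow] at h2
    have h3 : ((k ^ (p ^ m') : ℕ) : ℤ) ≡ ((1 : ℕ) : ℤ) [ZMOD ((p ^ (m' + 1) : ℕ) : ℤ)] := by
      rw [Int.modEq_iff_dvd]
      push_cast
      have : (1 : ℤ) - (k : ℤ) ^ p ^ m' = -((k : ℤ) ^ p ^ m' - 1) := by ring
      rw [this]
      exact (dvd_neg).mpr h2
    exact Int.natCast_modEq_iff.mp h3
  -- x ^ (p ^ m') commutes with g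
  have hc2 : Commute (x ^ (p ^ m')) g := by
    have e := conj_pow_iter x g k hk' (p ^ m')
    have e' : g ^ (k ^ (p ^ m')) = g ^ 1 := by
      rw [pow_eq_pow_iff_modEq, hn]; exact hk2
    rw [e', pow_one] at e
    have : x ^ (p ^ m') * g = g * x ^ (p ^ m') := by
      calc x ^ (p ^ m') * g = (x ^ (p ^ m') * g * (x ^ (p ^ m'))⁻¹) * x ^ (p ^ m') := by group
        _ = g * x ^ (p ^ m') := by rw [e]
    exact this
  -- x ^ M ∈ P for M = |N(P) : P|
  set N := Subgroup.normalizer ((P : Subgroup G) : Set G) with hN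
  have hPN : (P : Subgroup G) ≤ N := Subgroup.le_normalizer
  have : ((P : Subgroup G).subgroupOf N).Normal := Subgroup.normal_in_normalizer
  have hM := Subgroup.pow_index_mem ((P : Subgroup G).subgroupOf N) (⟨x, hx⟩ : N)
  rw [Subgroup.mem_subgroupOf] at hM
  have hM' : x ^ ((P : Subgroup G).relIndex N) ∈ (P : Subgroup G) := by
    simpa [Subgroup.relIndex] using hM
  set M := (P : Subgroup G).relIndex N with hMdef
  have hc1 : Commute (x ^ M) g := by
    rw [hg] at hM'
    obtain ⟨i, hi⟩ := Subgroup.mem_zpowers_iff.mp hM'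
    rw [← hi]
    exact (Commute.refl g).zpow_left i
  -- M is prime to p
  have hMp : ¬ p ∣ M := by
    intro hpM
    exact P.not_dvd_index (hpM.trans (Subgroup.relIndex_dvd_index_of_le hPN))
  have hcop : Nat.Coprime M (p ^ m') :=
    Nat.Coprime.pow_right _ ((Nat.Prime.coprime_iff_not_dvd hpp).mpr hMp).symm
  -- Bezout
  have hb := Nat.gcd_eq_gcd_ab M (p ^ m')
  rw [hcop] at hb
  have hx1 : x = (x ^ M) ^ (M.gcdA (p ^ m')) * (x ^ (p ^ m')) ^ (M.gcdB (p ^ m')) := by
    rw [← zpow_natCast x M, ← zpow_natCast x (p ^ m'), ← zpow_mul, ← zpow_mul, ← zpow_add, ← hb]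
    simp
  rw [hx1]
  exact (hc1.zpow_left _).mul_left (hc2.zpow_left _)

end Cfsg.Agent.Lib.Helper9.OrbLeaf
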