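import Mathlib

/-! OrbD1b leaf for the S4125 orbit lemma (pure finite-field theory): a finite field of odd
characteristic `q`, generated as a ring by a `2`-power root of unity, and carrying an involution
that inverts a square root of `-1`, has at most `q ^ 2` elements. -/

set_option autoImplicit false

namespace Cfsg.Agent.Lib.Helper9.OrbLeaf

variable {p q : ℕ} [hp : Fact p.Prime] [hq : Fact q.Prime]

/-- For `q`, `n` odd, `2 ^ e ∣ q ^ (2 n) - 1` forces `q ^ 2 ≡ 1 [MOD 2 ^ e]`. -/
theorem sq_modEq_one_of_odd {q n e : ℕ} (hq0 : 0 < q) (hq : Nat.Coprime q 2) (hn : Odd n)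
    (h : 2 ^ e ∣ q ^ (2 * n) - 1) : q ^ 2 ≡ 1 [MOD 2 ^ e] := by
  rcases Nat.eq_zero_or_pos e with h0 | hpos
  · rw [h0, pow_zero]; exact Nat.modEq_one
  have hcop : Nat.Coprime q (2 ^ e) := hq.pow_right e
  have h1 : ((q : ZMod (2 ^ e)) ^ 2) ^ n = 1 := by
    rw [← pow_mul]
    have h1' : (1 : ℕ) ≡ q ^ (2 * n) [MOD 2 ^ e] :=
      (Nat.modEq_iff_dvd' (Nat.one_le_pow _ _ hq0)).mpr h
    have h1'' := (ZMod.natCast_eq_natCast_iff _ _ _).mpr h1'
    push_cast at h1''
    exact h1''.symm
  have h2 : ((q : ZMod (2 ^ e)) ^ 2) ^ (2 ^ (e - 1)) = 1 := by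
    have h2' := Nat.ModEq.pow_totient hcop
    rw [Nat.totient_prime_pow Nat.prime_two hpos] at h2'
    have h2'' := (ZMod.natCast_eq_natCast_iff _ _ _).mpr h2'
    push_cast at h2''
    simp only [mul_one] at h2''
    rw [← pow_mul, mul_comm, pow_mul, h2'', one_pow]
  have hg : Nat.gcd n (2 ^ (e - 1)) = 1 :=
    Nat.Coprime.pow_right _ (Nat.coprime_two_right.mpr hn)
  have h3 := (pow_gcd_eq_one (a := (q : ZMod (2 ^ e)) ^ 2)).mpr ⟨h1, h2⟩
  rw [hg, pow_one] at h3
  have h4 : ((q ^ 2 : ℕ) : ZMod (2 ^ e)) = ((1 : ℕ) : ZMod (2 ^ e)) := by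
    push_cast; exact h3
  exact (ZMod.natCast_eq_natCast_iff _ _ _).mp h4

theorem card_le_sq_of_aut {F : Type*} [Field F] [Fintype F] [CharP F q] (hq2 : q ≠ 2)
    (τ : F ≃+* F) (hτ : ∀ x, τ (τ x) = x) (J : F) (hJ : J * J = -1) (hτJ : τ J = -J)
    (α : F) (e : ℕ) (hα : α ^ (2 ^ e) = 1) (hgen : Subring.closure {α} = ⊤) :
    Fintype.card F ≤ q ^ 2 := by
  classical
  have hqp : q.Prime := hq.out
  have h2 : (2 : F) ≠ 0 := by
    intro h
    have h' : ((2 : ℕ) : F) = 0 := by exact_mod_cast h
    rw [CharP.cast_eq_zero_iff F q 2] at h'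
    exact hq2 ((Nat.prime_dvd_prime_iff_eq hqp Nat.prime_two).mp h')
  have hJ0 : J ≠ 0 := by
    rintro rfl
    simp at hJ
  -- the fixed field of τ
  let F0 : Subfield F := RingHom.eqLocusField (τ : F →+* F) (RingHom.id F)
  have hF0 : ∀ x : F, x ∈ F0 ↔ τ x = x := fun x => Iff.rfl
  have hbij : Function.Bijective (fun ab : F0 × F0 => (ab.1 : F) + (ab.2 : F) * J) := by
    constructor
    · rintro ⟨⟨a, ha⟩, ⟨b, hb⟩⟩ ⟨⟨a', ha'⟩, ⟨b', hb'⟩⟩ hab
      simp only at hab
      have ha1 : τ a = a := ha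
      have hb1 : τ b = b := hb
      have ha1' : τ a' = a' := ha'
      have hb1' : τ b' = b' := hb'
      have hab' : a - b * J = a' - b' * J := by
        have := congrArg τ hab
        simp only [map_add, map_mul, ha1, hb1, ha1', hb1', hτJ] at this
        linear_combination this
      have e1 : a = a' := by
        have : 2 * a = 2 * a' := by linear_combination hab + hab'
        exact mul_left_cancel₀ h2 this
      have e2 : b = b' := by
        have : b * J = b' * J := by linear_combination hab - e1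
        exact mul_right_cancel₀ hJ0 this
      subst e1; subst e2; rfl
    · intro x
      have ha : τ ((x + τ x) / 2) = (x + τ x) / 2 := by
        rw [map_div₀, map_add, hτ, map_ofNat, add_comm]
      have hb : τ ((x - τ x) / (2 * J)) = (x - τ x) / (2 * J) := by
        rw [map_div₀, map_sub, hτ, map_mul, map_ofNat, hτJ]
        field_simp
        ring
      refine ⟨(⟨(x + τ x) / 2, ha⟩, ⟨(x - τ x) / (2 * J), hb⟩), ?_⟩
      simp only
      field_simp
      ring
  have : Fintype F0 := Fintype.ofFinite F0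
  have hcard : Fintype.card F = Fintype.card F0 ^ 2 := by
    rw [← Fintype.card_of_bijective hbij, Fintype.card_prod, sq]
  -- -1 is not a square in F0
  have hns : ¬ IsSquare (-1 : F0) := by
    rintro ⟨y, hy⟩
    have hy' : (y : F) * (y : F) = -1 := by
      have := congrArg (fun z : F0 => (z : F)) hy
      simpa using this.symm
    have hprod : ((y : F) - J) * ((y : F) + J) = 0 := by linear_combination hy' - hJ
    have hyτ : τ (y : F) = y := y.2
    have h2J : (2 : F) * J ≠ 0 := mul_ne_zero h2 hJ0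
    rcases mul_eq_zero.mp hprod with h | h
    · have hJy : J = y := by linear_combination -h
      have h1 : τ J = J := by rw [hJy]; exact hyτ
      rw [hτJ] at h1
      exact h2J (by linear_combination -h1)
    · have hJy : J = -y := by linear_combination h
      have h1 : τ J = J := by rw [hJy, map_neg, hyτ]
      rw [hτJ] at h1
      exact h2J (by linear_combination -h1)
  have h43 : Fintype.card F0 % 4 = 3 := by
    by_contra hne
    exact hns (FiniteField.isSquare_neg_one_iff.mpr hne)
  obtain ⟨n, _, hn⟩ := FiniteField.card F0 q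
  have hnodd : Odd (n : ℕ) := by
    by_contra hne
    rw [Nat.not_odd_iff_even] at hne
    obtain ⟨j, hj⟩ := hne
    rw [hn, hj, pow_add] at h43
    have hsq : ∀ a : ℕ, (a * a) % 4 ≠ 3 := by
      intro a
      rw [Nat.mul_mod]
      have := Nat.mod_lt a (show 4 > 0 by norm_num)
      interval_cases (a % 4) <;> simp
    exact hsq _ h43
  -- the order of α
  have hα0 : α ≠ 0 := by
    rintro rfl
    rw [zero_pow (pow_ne_zero e two_ne_zero)] at hα
    exact zero_ne_one hα
  have ho : orderOf α ∣ 2 ^ e := orderOf_dvd_of_pow_eq_one hα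
  obtain ⟨e', _, he'⟩ := (Nat.dvd_prime_pow Nat.prime_two).mp ho
  have hcardq : Fintype.card F = q ^ (2 * (n : ℕ)) := by
    rw [hcard, hn, ← pow_mul, mul_comm]
  have ho2 : orderOf α ∣ q ^ (2 * (n : ℕ)) - 1 := by
    apply orderOf_dvd_of_pow_eq_one
    rw [← hcardq]
    exact FiniteField.pow_card_sub_one_eq_one α hα0
  have hqsq : q ^ 2 ≡ 1 [MOD orderOf α] := by
    rw [he'] at ho2 ⊢
    exact sq_modEq_one_of_odd hqp.pos ((Nat.coprime_primes hqp Nat.prime_two).mpr hq2) hnodd ho2
  have hαq : α ^ (q ^ 2) = α := by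
    have h1 : 1 ≤ q ^ 2 := Nat.one_le_pow _ _ hqp.pos
    have hd : orderOf α ∣ q ^ 2 - 1 := (Nat.modEq_iff_dvd' h1).mp hqsq.symm
    have h3 : α ^ (q ^ 2 - 1) = 1 := orderOf_dvd_iff_pow_eq_one.mp hd
    calc α ^ (q ^ 2) = α ^ (q ^ 2 - 1 + 1) := by rw [Nat.sub_add_cancel h1]
      _ = α := by rw [pow_succ, h3, one_mul]
  -- every element is fixed by x ↦ x ^ (q ^ 2)
  have hall : ∀ x : F, x ^ (q ^ 2) = x := by
    let S : Subring F := RingHom.eqLocus (iterateFrobenius F q 2) (RingHom.id F)
    have hαS : α ∈ S := by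
      change iterateFrobenius F q 2 α = RingHom.id F α
      rw [iterateFrobenius_def]; exact hαq
    have hle : Subring.closure {α} ≤ S :=
      Subring.closure_le.mpr (Set.singleton_subset_iff.mpr hαS)
    rw [hgen] at hle
    intro x
    have hx : x ∈ S := hle (Subring.mem_top x)
    have hx' : iterateFrobenius F q 2 x = RingHom.id F x := hx
    rw [iterateFrobenius_def] at hx'
    exact hx'
  -- count roots of X ^ (q ^ 2) - X
  have hne := FiniteField.X_pow_card_pow_sub_X_ne_zero F (p := q) (n := 2) two_ne_zero hqp.one_lt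
  have hdeg := FiniteField.X_pow_card_pow_sub_X_natDegree_eq F (p := q) (n := 2) two_ne_zero
    hqp.one_lt
  have hsub : (Finset.univ : Finset F).val ⊆
      (Polynomial.X ^ q ^ 2 - Polynomial.X : Polynomial F).roots := by
    intro x _
    rw [Polynomial.mem_roots hne]
    simp [Polynomial.IsRoot, hall x]
  have := Polynomial.card_le_degree_of_subset_roots hsub
  rw [hdeg] at this
  simpa using this

end Cfsg.Agent.Lib.Helper9.OrbLeaf
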