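import Mathlib
import Cfsg.Prelude.Def_GeometricClasses
import Cfsg.Agent.Lib.Helper5.SUMax
import Cfsg.Agent.Lib.Helper18.C2Defs
import Cfsg.Agent.Lib.Helper9.C2L2
import Cfsg.Agent.Lib.Helper6.UADefs
import Cfsg.Agent.Lib.Helper9.UAA2

/-!
S5655 part A (helper6's sub-market), CORES of the leaves A8 `pair_noniso`, A9 `pair_iso`,
A12 `pairGood_all`, with the statements of A7 / A10 / A11 as explicit hypotheses.
-/

set_option autoImplicit false
set_option linter.unusedSectionVars false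
set_option linter.unusedVariables false

namespace Cfsg.Agent.Lib.Helper9.UALeaf
open Cfsg Matrix Cfsg.Agent.Lib.Helper5.UForm Cfsg.Agent.Lib.Helper5.HermBridge
  Cfsg.Agent.Lib.Helper5.SUGen Cfsg.Agent.Lib.Helper5.SUMax Cfsg.Agent.Lib.Helper18.C2
  Cfsg.Agent.Lib.Helper6.UA

variable {F : Type*} [Field F] [Fintype F] {q n t k : ℕ} (hF : Fintype.card F = q ^ 2)
  {D : Fin t → Submodule F (Fin n → F)}
  (hD : Cfsg.Geo.IsNondegenerateMDecomposition (Cfsg.hermForm n F q) k D)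
  {M : Subgroup (GL (Fin n) F)}
include hF hD

/-- hyperbolic closure: `a, b ∈ Sset`, `b` isotropic, `⟪a,b⟫` skew and non-zero: `a + b ∈ Sset` -/
lemma Sset_add {a b : Fin n → F} (ha : a ∈ Sset hF M) (hb : b ∈ Sset hF M)
    (hbb : Cfsg.hermForm n F q b b = 0) (h0 : Cfsg.hermForm n F q a b ≠ 0)
    (hsk : frobQ hF (Cfsg.hermForm n F q a b) = - Cfsg.hermForm n F q a b) :
    a + b ∈ Sset hF M := by
  have hc : frobQ hF (Cfsg.hermForm n F q a b)⁻¹ = -(Cfsg.hermForm n F q a b)⁻¹ := by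
    rw [map_inv₀, hsk, inv_neg]
  have := Sset_tv hF ha hb hbb hc
  rwa [inv_mul_cancel₀ h0, one_smul] at this

/-- norm of a sum of vectors of two different blocks -/
lemma herm_add_add {i j : Fin t} (hij : i ≠ j) {x y : Fin n → F} (hx : x ∈ D i) (hy : y ∈ D j) :
    Cfsg.hermForm n F q (x + y) (x + y) =
      Cfsg.hermForm n F q x x + Cfsg.hermForm n F q y y := by
  have hf := herm_unitary (n := n) hF
  have hxy : Cfsg.hermForm n F q x y = 0 := hD.orthogonal i j hij x hx y hy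
  rw [hf.add_left, u_add_right hf, u_add_right hf, hxy, u_symm_zero hf hxy]
  ring

/-- A8 (core): all isotropic `x + y` with `N(x) ≠ 0` -/
theorem pair_noniso_core
    (hA7 : ∀ {i : Fin t} {a b : Fin n → F}, a ∈ D i → b ∈ D i →
      Cfsg.hermForm n F q a a = Cfsg.hermForm n F q b b → Cfsg.hermForm n F q a a ≠ 0 →
      ∃ g ∈ HU D q, (g : Matrix (Fin n) (Fin n) F) *ᵥ a = b ∧
        ∀ j, j ≠ i → ∀ x ∈ D j, (g : Matrix (Fin n) (Fin n) F) *ᵥ x = x)
    (hk : 2 ≤ k) (hM : M ≤ Cfsg.GU n F q ⊓ Cfsg.Geo.specialLinear (Fin n) F)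
    (hH : HU D q ≤ M) {i j : Fin t} (hij : i ≠ j) {a b : Fin n → F} (ha : a ∈ D i) (hb : b ∈ D j)
    (haa : Cfsg.hermForm n F q a a ≠ 0) (hab : Cfsg.hermForm n F q (a + b) (a + b) = 0)
    (hs : a + b ∈ Sset hF M) :
    ∀ x ∈ D i, ∀ y ∈ D j, Cfsg.hermForm n F q x x ≠ 0 →
      Cfsg.hermForm n F q (x + y) (x + y) = 0 → x + y ∈ Sset hF M := by
  have hf := herm_unitary (n := n) hF
  intro x hx y hy hxx hxy
  rw [herm_add_add hF hD hij ha hb] at hab
  rw [herm_add_add hF hD hij hx hy] at hxy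
  have hbb : Cfsg.hermForm n F q b b = - Cfsg.hermForm n F q a a := by linear_combination hab
  have hyy : Cfsg.hermForm n F q y y = - Cfsg.hermForm n F q x x := by linear_combination hxy
  -- `λ` with `N(λ) = N(x) / N(a)`
  obtain ⟨l, hl⟩ := norm_surj hf.involutive hf.ne_refl
    (Cfsg.hermForm n F q x x / Cfsg.hermForm n F q a a) (div_ne_zero hxx haa)
    (by rw [map_div₀, u_self_fixed hf, u_self_fixed hf])
  have hl0 : l ≠ 0 := by
    rintro rfl
    rw [zero_mul] at hl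
    exact (div_ne_zero hxx haa) hl.symm
  have hσl0 : frobQ hF l ≠ 0 := by rwa [Ne, map_eq_zero]
  have hnx : Cfsg.hermForm n F q (l⁻¹ • x) (l⁻¹ • x) = Cfsg.hermForm n F q a a := by
    rw [hf.smul_left, u_smul_right hf, map_inv₀]
    have : Cfsg.hermForm n F q x x = l * frobQ hF l * Cfsg.hermForm n F q a a := by
      rw [hl, div_mul_cancel₀ _ haa]
    rw [this]
    field_simp
  have hny : Cfsg.hermForm n F q (l⁻¹ • y) (l⁻¹ • y) = Cfsg.hermForm n F q b b := by
    rw [hf.smul_left, u_smul_right hf, map_inv₀, hyy, hbb]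
    have : Cfsg.hermForm n F q x x = l * frobQ hF l * Cfsg.hermForm n F q a a := by
      rw [hl, div_mul_cancel₀ _ haa]
    rw [this]
    field_simp
  -- move `a` to `x / λ`
  obtain ⟨g, hgH, hga, hgfix⟩ := hA7 ha ((D i).smul_mem l⁻¹ hx) hnx.symm haa
  have h1 : l⁻¹ • x + b ∈ Sset hF M := by
    have := Sset_mulVec_mem hF (hH hgH) hgH.2.1 hs
    rwa [Matrix.mulVec_add, hga, hgfix j (Ne.symm hij) b hb] at this
  -- move `b` to `y / λ`
  have hbb0 : Cfsg.hermForm n F q b b ≠ 0 := by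
    rw [hbb]
    exact neg_ne_zero.mpr haa
  obtain ⟨g', hg'H, hg'b, hg'fix⟩ := hA7 hb ((D j).smul_mem l⁻¹ hy) hny.symm hbb0
  have h2 : l⁻¹ • x + l⁻¹ • y ∈ Sset hF M := by
    have := Sset_mulVec_mem hF (hH hg'H) hg'H.2.1 h1
    rwa [Matrix.mulVec_add, hg'b, hg'fix i hij _ ((D i).smul_mem l⁻¹ hx)] at this
  have h3 := Sset_smul hF h2 l
  rwa [smul_add, smul_smul, smul_smul, mul_inv_cancel₀ hl0, one_smul, one_smul] at h3

omit hD in
/-- a fixed element different from `0` and `1` when `q ≠ 2` -/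
lemma exists_fixed_ne (hq : q ≠ 2) : ∃ β : F, frobQ hF β = β ∧ β ≠ 0 ∧ β ≠ 1 := by
  classical
  have hq2 : 2 ≤ q := by
    by_contra hlt
    push Not at hlt
    have h1 : 1 < Fintype.card F := Fintype.one_lt_card
    rw [hF] at h1
    have : q ≤ 1 := by omega
    interval_cases q <;> simp at h1
  have hq3 : 3 ≤ q := by omega
  obtain ⟨ω, hω⟩ := IsCyclic.exists_generator (α := Fˣ)
  have hord : orderOf ω = q ^ 2 - 1 := by
    rw [orderOf_eq_card_of_forall_mem_zpowers hω, Nat.card_eq_fintype_card, Fintype.card_units, hF]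
  refine ⟨((ω ^ (q + 1) : Fˣ) : F), ?_, Units.ne_zero _, ?_⟩
  · rw [frobQ_apply, ← Units.val_pow_eq_pow_val, ← pow_mul]
    have h1 : (q + 1) * q = (q ^ 2 - 1) + (q + 1) := by
      have : 1 ≤ q ^ 2 := Nat.one_le_pow _ _ (by omega)
      zify [this]
      ring
    rw [h1, pow_add, ← hord, pow_orderOf_eq_one, one_mul]
  · intro h1
    have h2 : ω ^ (q + 1) = 1 := Units.ext (by rw [h1, Units.val_one])
    have h3 := orderOf_dvd_of_pow_eq_one h2
    rw [hord] at h3
    have h4 := Nat.le_of_dvd (by omega) h3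
    have h5 : q ^ 2 = q * q := by ring
    have h6 : 3 * q ≤ q * q := Nat.mul_le_mul_right q hq3
    rw [h5] at h4
    generalize q * q = m at h4 h6
    omega

/-- A9 (core): isotropic components -/
theorem pair_iso_core
    (hA10 : ∀ {i : Fin t} {x : Fin n → F}, x ∈ D i → x ≠ 0 → ∀ {μ η : F}, frobQ hF μ = μ →
      (Cfsg.hermForm n F q x x ≠ 0 ∨ η ≠ 0 ∨ 3 ≤ k) →
      ∃ z ∈ D i, Cfsg.hermForm n F q z z = μ ∧ Cfsg.hermForm n F q z x = η)
    (hk : 2 ≤ k) (hex : ¬ (k = 2 ∧ q = 2)) (hH : HU D q ≤ M) {i j : Fin t} (hij : i ≠ j)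
    (hP : ∀ x ∈ D i, ∀ y ∈ D j, Cfsg.hermForm n F q x x ≠ 0 →
      Cfsg.hermForm n F q (x + y) (x + y) = 0 → x + y ∈ Sset hF M) :
    ∀ x ∈ D i, ∀ y ∈ D j, Cfsg.hermForm n F q x x = 0 → Cfsg.hermForm n F q y y = 0 →
      x + y ∈ Sset hF M := by
  have hf := herm_unitary (n := n) hF
  intro x hx y hy hxx hyy
  by_cases hx0 : x = 0
  · rw [hx0, zero_add]
    exact block_iso_mem hF hD hH hy hyy
  by_cases hy0 : y = 0
  · rw [hy0, add_zero]
    exact block_iso_mem hF hD hH hx hxx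
  -- skew `α`, `β` with `α + β ≠ 0`, non-zero unless `3 ≤ k`
  obtain ⟨α, β, hα, hβ, hαβ, hα0, hβ0⟩ : ∃ α β : F, frobQ hF α = -α ∧ frobQ hF β = -β ∧
      α + β ≠ 0 ∧ (α ≠ 0 ∨ 3 ≤ k) ∧ (β ≠ 0 ∨ 3 ≤ k) := by
    by_cases h2 : (2 : F) = 0
    · have hneg : ∀ c : F, -c = c := by
        intro c
        have : c + c = 0 := by linear_combination c * h2
        exact neg_eq_of_add_eq_zero_left this
      by_cases hk3 : 3 ≤ k
      · refine ⟨1, 0, ?_, ?_, ?_, Or.inr hk3, Or.inr hk3⟩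
        · rw [map_one, hneg]
        · rw [map_zero, neg_zero]
        · rw [add_zero]
          exact one_ne_zero
      · have hk2 : k = 2 := by omega
        have hq : q ≠ 2 := fun h => hex ⟨hk2, h⟩
        obtain ⟨β, hβ, hβ0, hβ1⟩ := exists_fixed_ne hF hq
        refine ⟨1, β, ?_, ?_, ?_, Or.inl one_ne_zero, Or.inl hβ0⟩
        · rw [map_one, hneg]
        · rw [hβ, hneg]
        · intro h0
          apply hβ1
          have : β = -1 := by linear_combination h0
          rw [this, hneg]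
    · obtain ⟨c, hc0, hc⟩ := exists_skew hf.involutive hf.ne_refl
      refine ⟨c, c, hc, hc, ?_, Or.inl hc0, Or.inl hc0⟩
      intro h0
      have : (2 : F) * c = 0 := by linear_combination h0
      rcases mul_eq_zero.mp this with h3 | h3
      · exact h2 h3
      · exact hc0 h3
  obtain ⟨y₁, hy₁, hn1, hp1⟩ := hA10 hx hx0 (μ := 1) (η := α) (map_one _)
    (by rcases hα0 with h | h
        · exact Or.inr (Or.inl h)
        · exact Or.inr (Or.inr h))
  obtain ⟨y₂, hy₂, hn2, hp2⟩ := hA10 hy hy0 (μ := -1) (η := β) (by rw [map_neg, map_one])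
    (by rcases hβ0 with h | h
        · exact Or.inr (Or.inl h)
        · exact Or.inr (Or.inr h))
  -- `z₁ = x - y₁`, `z₂ = y - y₂`
  have hxy₁ : Cfsg.hermForm n F q x y₁ = -α := by rw [hf.herm, hp1, hα]
  have hyy₂ : Cfsg.hermForm n F q y y₂ = -β := by rw [hf.herm, hp2, hβ]
  have hz1 : Cfsg.hermForm n F q (x - y₁) (x - y₁) = 1 := by
    rw [u_sub_left hf, u_sub_right hf, u_sub_right hf, hxx, hn1, hp1, hxy₁]
    ring
  have hz2 : Cfsg.hermForm n F q (y - y₂) (y - y₂) = -1 := by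
    rw [u_sub_left hf, u_sub_right hf, u_sub_right hf, hyy, hn2, hp2, hyy₂]
    ring
  have hY : y₁ + y₂ ∈ Sset hF M := by
    apply hP y₁ hy₁ y₂ hy₂
    · rw [hn1]
      exact one_ne_zero
    · rw [herm_add_add hF hD hij hy₁ hy₂, hn1, hn2, add_neg_cancel]
  have hZ : (x - y₁) + (y - y₂) ∈ Sset hF M := by
    apply hP _ ((D i).sub_mem hx hy₁) _ ((D j).sub_mem hy hy₂)
    · rw [hz1]
      exact one_ne_zero
    · rw [herm_add_add hF hD hij ((D i).sub_mem hx hy₁) ((D j).sub_mem hy hy₂), hz1, hz2,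
        add_neg_cancel]
  have hZZ : Cfsg.hermForm n F q ((x - y₁) + (y - y₂)) ((x - y₁) + (y - y₂)) = 0 := by
    rw [herm_add_add hF hD hij ((D i).sub_mem hx hy₁) ((D j).sub_mem hy hy₂), hz1, hz2,
      add_neg_cancel]
  have hYZ : Cfsg.hermForm n F q (y₁ + y₂) ((x - y₁) + (y - y₂)) = α + β := by
    have o1 : Cfsg.hermForm n F q y₁ (y - y₂) = 0 :=
      hD.orthogonal i j hij y₁ hy₁ _ ((D j).sub_mem hy hy₂)
    have o2 : Cfsg.hermForm n F q y₂ (x - y₁) = 0 :=
      hD.orthogonal j i (Ne.symm hij) y₂ hy₂ _ ((D i).sub_mem hx hy₁)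
    rw [hf.add_left, u_add_right hf, u_add_right hf, o1, o2, u_sub_right hf, u_sub_right hf, hp1,
      hp2, hn1, hn2]
    ring
  have := Sset_add hF hD hY hZ hZZ (by rw [hYZ]; exact hαβ)
    (by rw [hYZ, map_add, hα, hβ]; ring)
  have hsum : y₁ + y₂ + ((x - y₁) + (y - y₂)) = x + y := by abel
  rwa [hsum] at this

/-- `PairGood` is symmetric -/
lemma pairGood_symm {i j : Fin t} (h : PairGood hF D M i j) : PairGood hF D M j i := by
  intro x hx y hy hxy
  rw [add_comm] at hxy ⊢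
  exact h y hy x hx hxy

/-- A12 (core): one good pair gives all pairs -/
theorem pairGood_all_core
    (hA11 : ∀ (i j : Fin t), i ≠ j → ∃ g ∈ HU D q, ∀ l, ∀ x ∈ D l,
      (g : Matrix (Fin n) (Fin n) F) *ᵥ x ∈ D (Equiv.swap i j l))
    (hk : 2 ≤ k) (hM : M ≤ Cfsg.GU n F q ⊓ Cfsg.Geo.specialLinear (Fin n) F)
    (hH : HU D q ≤ M) {i j : Fin t} (hij : i ≠ j) (h : PairGood hF D M i j) {i' j' : Fin t}
    (hij' : i' ≠ j') : PairGood hF D M i' j' := by
  -- one swap
  have step : ∀ (a b i j : Fin t), PairGood hF D M i j →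
      PairGood hF D M (Equiv.swap a b i) (Equiv.swap a b j) := by
    intro a b i j hg
    by_cases hab : a = b
    · rw [hab, Equiv.swap_self]
      exact hg
    obtain ⟨g, hgH, hgmap⟩ := hA11 a b hab
    have hinv := inv_mapsTo_of_mapsTo hD.decomp (Equiv.swap a b) g hgmap
    have hgU : g ∈ Cfsg.GU n F q := hgH.2.1
    have hgiU : g⁻¹ ∈ Cfsg.GU n F q := (Cfsg.GU n F q).inv_mem hgU
    intro x hx y hy hxy
    have h1 := hg _ (hinv i x hx) _ (hinv j y hy)
      (by rw [← Matrix.mulVec_add, mem_GU.mp hgiU]; exact hxy)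
    have h2 := Sset_mulVec_mem hF (hH hgH) hgU h1
    rwa [← Matrix.mulVec_add, Matrix.mulVec_mulVec, ← Units.val_mul, mul_inv_cancel,
      Units.val_one, Matrix.one_mulVec] at h2
  -- move `i` to `i'`
  have h1 := step i i' i j h
  rw [Equiv.swap_apply_left] at h1
  set j₁ : Fin t := Equiv.swap i i' j with hj₁
  have hj₁i' : j₁ ≠ i' := by
    intro h0
    have : Equiv.swap i i' j = Equiv.swap i i' i := by rw [← hj₁, h0, Equiv.swap_apply_left]
    exact hij ((Equiv.swap i i').injective this).symm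
  -- move `j₁` to `j'`, fixing `i'`
  have h2 := step j₁ j' i' j₁ h1
  rwa [Equiv.swap_apply_left, Equiv.swap_apply_of_ne_of_ne (Ne.symm hj₁i') hij'] at h2

end Cfsg.Agent.Lib.Helper9.UALeaf
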