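/-
Helper9 library: one-dimensional affine groups over finite fields, their spectra, and a solvable
group with the same set of element orders as `PSL₂(F) × PSL₂(F)`.
-/
import Mathlib
import Cfsg.Agent.Lib.Helper13.PSL2Spectrum

set_option autoImplicit false
set_option linter.unusedSectionVars false
set_option linter.style.haveILetI false

namespace Cfsg.Agent.Lib.Helper9.AffSpec

/-- The one-dimensional affine group `x ↦ a x + b` over a field. -/
@[ext] structure Aff (E : Type*) [Field E] where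
  a : Eˣ
  b : E

namespace Aff

variable {E : Type*} [Field E]

instance : Mul (Aff E) := ⟨fun g h => ⟨g.a * h.a, g.b + g.a * h.b⟩⟩
instance : One (Aff E) := ⟨⟨1, 0⟩⟩
instance : Inv (Aff E) := ⟨fun g => ⟨g.a⁻¹, -((g.a⁻¹ : Eˣ) : E) * g.b⟩⟩

@[simp] theorem mul_a (g h : Aff E) : (g * h).a = g.a * h.a := rfl
@[simp] theorem mul_b (g h : Aff E) : (g * h).b = g.b + g.a * h.b := rfl
@[simp] theorem one_a : (1 : Aff E).a = 1 := rfl
@[simp] theorem one_b : (1 : Aff E).b = 0 := rfl
@[simp] theorem inv_a (g : Aff E) : (g⁻¹).a = g.a⁻¹ := rfl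
@[simp] theorem inv_b (g : Aff E) : (g⁻¹).b = -((g.a⁻¹ : Eˣ) : E) * g.b := rfl

instance : Group (Aff E) where
  mul_assoc g h k := by
    ext <;> simp [mul_assoc, mul_add, add_assoc]
  one_mul g := by ext <;> simp
  mul_one g := by ext <;> simp
  inv_mul_cancel g := by
    ext <;> simp

/-- projection to the linear part. -/
def fst : Aff E →* Eˣ where
  toFun g := g.a
  map_one' := rfl
  map_mul' _ _ := rfl

/-- the linear maps `x ↦ a x`. -/
def inr : Eˣ →* Aff E where
  toFun a := ⟨a, 0⟩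
  map_one' := rfl
  map_mul' _ _ := by ext <;> simp

theorem inr_injective : Function.Injective (inr : Eˣ →* Aff E) := by
  intro a a' h
  exact congrArg Aff.a h

theorem pow_a (g : Aff E) (k : ℕ) : (g ^ k).a = g.a ^ k := map_pow fst g k

theorem trans_pow (b : E) (k : ℕ) : (⟨1, b⟩ : Aff E) ^ k = ⟨1, k • b⟩ := by
  induction k with
  | zero => ext <;> simp
  | succ k ih =>
    rw [pow_succ, ih]
    ext <;> simp [add_smul]

instance : Group.IsSolvable (Aff E) := by
  haveI : Group.IsSolvable (fst (E := E)).ker := by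
    apply Group.isSolvable_of_comm
    rintro ⟨g, hg⟩ ⟨h, hh⟩
    have hg' : g.a = 1 := hg
    have hh' : h.a = 1 := hh
    apply Subtype.ext
    ext
    · simp [mul_comm]
    · simp [hg', hh', add_comm]
  exact Group.isSolvable_of_ker_le_range (fst (E := E)).ker.subtype (fst (E := E)) (by simp)

theorem orderOf_of_a_ne_one (g : Aff E) (h : g.a ≠ 1) : orderOf g = orderOf g.a := by
  have h1 : (1 - (g.a : E)) ≠ 0 := by
    intro h0
    apply h
    apply Units.ext
    rw [Units.val_one]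
    exact (sub_eq_zero.mp h0).symm
  set c : Aff E := ⟨1, g.b / (1 - g.a)⟩ with hc
  have hg : g = MulAut.conj c (inr g.a) := by
    rw [MulAut.conj_apply]
    ext
    · simp [hc, inr]
    · simp [hc, inr]
      field_simp
      ring
  conv_lhs => rw [hg]
  change orderOf ((MulAut.conj c).toMonoidHom (inr g.a)) = _
  rw [orderOf_injective (MulAut.conj c).toMonoidHom (MulAut.conj c).injective,
    orderOf_injective inr inr_injective]

theorem orderOf_trans (p : ℕ) [Fact p.Prime] [CharP E p] (b : E) (hb : b ≠ 0) :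
    orderOf (⟨1, b⟩ : Aff E) = p := by
  apply orderOf_eq_prime
  · rw [trans_pow]
    ext
    · simp
    · simp [CharP.cast_eq_zero E p]
  · intro h
    exact hb (congrArg Aff.b h)

/-- the subgroup of affine maps with linear part in the cyclic group generated by `a₀`. -/
def sub (a₀ : Eˣ) : Subgroup (Aff E) := (Subgroup.zpowers a₀).comap fst

theorem mem_sub (a₀ : Eˣ) (g : Aff E) : g ∈ sub a₀ ↔ g.a ∈ Subgroup.zpowers a₀ := Iff.rfl

theorem spectrum_sub (p : ℕ) [Fact p.Prime] [CharP E p] [Finite E] (a₀ : Eˣ) :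
    Set.range (orderOf : sub a₀ → ℕ) = {k : ℕ | k ∣ p ∨ k ∣ orderOf a₀} := by
  have hp : p.Prime := Fact.out
  haveI : Finite Eˣ := Finite.of_injective (fun u : Eˣ => (u : E)) Units.val_injective
  ext k
  simp only [Set.mem_range, Set.mem_ofPred_eq]
  constructor
  · rintro ⟨⟨g, hg⟩, rfl⟩
    rw [Subgroup.orderOf_mk]
    by_cases ha : g.a = 1
    · left
      apply orderOf_dvd_of_pow_eq_one
      have : g = ⟨1, g.b⟩ := by ext <;> simp [ha]
      rw [this, trans_pow]
      ext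
      · simp
      · simp [CharP.cast_eq_zero E p]
    · right
      rw [orderOf_of_a_ne_one g ha]
      obtain ⟨j, hj⟩ := (mem_sub a₀ g).mp hg
      rw [← hj]
      exact orderOf_dvd_of_pow_eq_one (by
        rw [← zpow_natCast, ← zpow_mul, mul_comm, zpow_mul, zpow_natCast, pow_orderOf_eq_one,
          one_zpow])
  · rintro (hk | hk)
    · rcases (Nat.dvd_prime hp).mp hk with h | h
      · exact ⟨1, by rw [h]; exact orderOf_one⟩
      · refine ⟨⟨⟨1, 1⟩, ?_⟩, ?_⟩
        · rw [mem_sub]; exact Subgroup.one_mem _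
        · rw [Subgroup.orderOf_mk, h]
          exact orderOf_trans p 1 one_ne_zero
    · have hpos : 0 < orderOf a₀ := orderOf_pos a₀
      obtain ⟨c, hc⟩ := hk
      have hc0 : c ≠ 0 := by
        rintro rfl
        rw [mul_zero] at hc; omega
      refine ⟨⟨inr (a₀ ^ c), ?_⟩, ?_⟩
      · rw [mem_sub]; exact Subgroup.pow_mem _ (Subgroup.mem_zpowers a₀) c
      · rw [Subgroup.orderOf_mk, orderOf_injective inr inr_injective,
          orderOf_pow_of_dvd hc0 ⟨k, by rw [hc, mul_comm]⟩, hc, Nat.mul_div_cancel _ (by omega)]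

instance [Finite E] : Finite (Aff E) :=
  haveI : Finite Eˣ := Finite.of_injective (fun u : Eˣ => (u : E)) Units.val_injective
  Finite.of_injective (fun g : Aff E => (g.a, g.b)) (by
    intro g h hgh
    simp only [Prod.mk.injEq] at hgh
    exact Aff.ext hgh.1 hgh.2)

end Aff

theorem exists_unit_orderOf (E : Type*) [Field E] [Finite E] (m : ℕ) (hm : m ∣ Nat.card E - 1)
    (hm0 : 0 < m) : ∃ a : Eˣ, orderOf a = m := by
  classical
  haveI : Fintype E := Fintype.ofFinite E
  obtain ⟨ζ, hζ⟩ := IsCyclic.exists_generator (α := Eˣ)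
  have hord : orderOf ζ = Nat.card E - 1 := by
    rw [orderOf_eq_card_of_forall_mem_zpowers hζ, Nat.card_eq_fintype_card, Fintype.card_units,
      Nat.card_eq_fintype_card]
  obtain ⟨c, hc⟩ := hm
  have hc0 : c ≠ 0 := by
    rintro rfl
    rw [mul_zero] at hc
    have : 1 < Nat.card E := Finite.one_lt_card
    omega
  refine ⟨ζ ^ c, ?_⟩
  rw [orderOf_pow_of_dvd hc0 ⟨m, by rw [hord, hc, mul_comm]⟩, hord, hc,
    Nat.mul_div_cancel _ (by omega)]

theorem range_orderOf_prod {α β : Type*} [Monoid α] [Monoid β] :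
    Set.range (orderOf : α × β → ℕ) =
      Set.image2 Nat.lcm (Set.range (orderOf : α → ℕ)) (Set.range (orderOf : β → ℕ)) := by
  ext k
  simp only [Set.mem_range, Set.mem_image2]
  constructor
  · rintro ⟨⟨x, y⟩, rfl⟩
    exact ⟨_, ⟨x, rfl⟩, _, ⟨y, rfl⟩, (Prod.orderOf (x, y)).symm⟩
  · rintro ⟨_, ⟨x, rfl⟩, _, ⟨y, rfl⟩, rfl⟩
    exact ⟨(x, y), Prod.orderOf (x, y)⟩

theorem image2_lcm_eq (p m₁ m₂ : ℕ) :
    Set.image2 Nat.lcm {k : ℕ | k ∣ p ∨ k ∣ m₁} {k : ℕ | k ∣ p ∨ k ∣ m₂} =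
      Set.image2 Nat.lcm {k : ℕ | k ∣ p ∨ k ∣ m₁ ∨ k ∣ m₂} {k : ℕ | k ∣ p ∨ k ∣ m₁ ∨ k ∣ m₂} := by
  ext k
  simp only [Set.mem_image2, Set.mem_ofPred_eq]
  constructor
  · rintro ⟨a, ha, b, hb, rfl⟩
    refine ⟨a, ?_, b, ?_, rfl⟩
    · rcases ha with h | h
      · exact Or.inl h
      · exact Or.inr (Or.inl h)
    · rcases hb with h | h
      · exact Or.inl h
      · exact Or.inr (Or.inr h)
  · rintro ⟨a, ha, b, hb, rfl⟩
    rcases ha with ha | ha | ha <;> rcases hb with hb | hb | hb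
    · exact ⟨a, Or.inl ha, b, Or.inl hb, rfl⟩
    · exact ⟨b, Or.inr hb, a, Or.inl ha, Nat.lcm_comm _ _⟩
    · exact ⟨a, Or.inl ha, b, Or.inr hb, rfl⟩
    · exact ⟨a, Or.inr ha, b, Or.inl hb, rfl⟩
    · exact ⟨Nat.lcm a b, Or.inr (Nat.lcm_dvd ha hb), 1, Or.inl (one_dvd _), by simp⟩
    · exact ⟨a, Or.inr ha, b, Or.inr hb, rfl⟩
    · exact ⟨b, Or.inl hb, a, Or.inr ha, Nat.lcm_comm _ _⟩
    · exact ⟨b, Or.inr hb, a, Or.inr ha, Nat.lcm_comm _ _⟩
    · exact ⟨1, Or.inl (one_dvd _), Nat.lcm a b, Or.inr (Nat.lcm_dvd ha hb), by simp⟩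

theorem exists_solvable_isospectral {F : Type*} [Field F] [Fintype F]
    (hF : 4 ≤ Fintype.card F) :
    ∃ (H : Type) (_ : Group H) (_ : Finite H), Group.IsSolvable H ∧
      Set.range (orderOf : H → ℕ) =
        Set.range (orderOf : Matrix.ProjectiveSpecialLinearGroup (Fin 2) F ×
          Matrix.ProjectiveSpecialLinearGroup (Fin 2) F → ℕ) := by
  classical
  obtain ⟨p, hpF⟩ := CharP.exists F
  obtain ⟨f, hprime, hcard⟩ := FiniteField.card F p
  haveI : Fact p.Prime := ⟨hprime⟩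
  set q := Fintype.card F with hq
  have hq2 : 2 ≤ q := by omega
  set d := Nat.gcd 2 (q - 1) with hd
  have hd2 : d ∣ 2 := Nat.gcd_dvd_left 2 (q - 1)
  have hdq : d ∣ q - 1 := Nat.gcd_dvd_right 2 (q - 1)
  have hdpos : 0 < d := Nat.pos_of_dvd_of_pos hd2 (by norm_num)
  have hdq' : d ∣ q + 1 := by
    have : q + 1 = (q - 1) + 2 := by omega
    rw [this]
    exact dvd_add hdq hd2
  -- the two model fields
  have hf0 : (f : ℕ) ≠ 0 := f.ne_zero
  have hc1 : Nat.card (GaloisField p f) = q := by rw [GaloisField.card p f hf0, hcard]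
  have hc2 : Nat.card (GaloisField p (2 * f)) = q ^ 2 := by
    rw [GaloisField.card p (2 * f) (by omega), hcard, ← pow_mul, mul_comm]
  -- elements of the right orders
  have hm1 : (q - 1) / d ∣ Nat.card (GaloisField p f) - 1 := by
    rw [hc1]; exact Nat.div_dvd_of_dvd hdq
  have hm1pos : 0 < (q - 1) / d := Nat.div_pos (Nat.le_of_dvd (by omega) hdq) hdpos
  have hm2 : (q + 1) / d ∣ Nat.card (GaloisField p (2 * f)) - 1 := by
    rw [hc2]
    have h1 : (q + 1) / d ∣ q + 1 := Nat.div_dvd_of_dvd hdq'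
    have h2 : q ^ 2 - 1 = (q + 1) * (q - 1) := by
      have := Nat.sq_sub_sq q 1
      simpa using this
    rw [h2]
    exact Dvd.dvd.mul_right h1 _
  have hm2pos : 0 < (q + 1) / d := Nat.div_pos (Nat.le_of_dvd (by omega) hdq') hdpos
  obtain ⟨a₁, ha₁⟩ := exists_unit_orderOf (GaloisField p f) _ hm1 hm1pos
  obtain ⟨a₂, ha₂⟩ := exists_unit_orderOf (GaloisField p (2 * f)) _ hm2 hm2pos
  refine ⟨↥(Aff.sub a₁) × ↥(Aff.sub a₂), inferInstance, inferInstance, inferInstance, ?_⟩
  rw [range_orderOf_prod, range_orderOf_prod, Aff.spectrum_sub p a₁, Aff.spectrum_sub p a₂,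
    Cfsg.Agent.Lib.Helper13.PSL2_spectrum p hF, ha₁, ha₂]
  exact image2_lcm_eq p _ _

end Cfsg.Agent.Lib.Helper9.AffSpec
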