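import Cfsg.Agent.Lib.Helper9.AltAut
import Cfsg.Agent.Lib.Helper9.Standard

set_option autoImplicit false
set_option linter.unusedSectionVars false

namespace Cfsg.Agent.Lib.Helper9.AltStandard

open Equiv Equiv.Perm
open Cfsg.Agent.Lib.Helper9.AltAut

section basic
variable {α : Type*} [DecidableEq α] [Fintype α]

/-- The pointwise stabiliser of `S` in the alternating group. -/
def fixG (S : Finset α) : Subgroup (alternatingGroup α) where
  carrier := {σ | ∀ x ∈ S, (σ : Perm α) x = x}
  mul_mem' := by
    intro a b ha hb x hx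
    rw [Subgroup.coe_mul, Perm.mul_apply, hb x hx, ha x hx]
  one_mem' := by
    intro x _
    rfl
  inv_mem' := by
    intro a ha x hx
    rw [Subgroup.coe_inv, Perm.inv_eq_iff_eq]
    exact (ha x hx).symm

theorem mem_fixG {S : Finset α} {σ : alternatingGroup α} :
    σ ∈ fixG S ↔ ∀ x ∈ S, (σ : Perm α) x = x := Iff.rfl

/-- Three-cycles as elements of the alternating group. -/
def t3 (a b c : α) (hab : a ≠ b) (hac : a ≠ c) (hbc : b ≠ c) : alternatingGroup α :=
  ⟨c3 a b c, (isThreeCycle_c3 hab hac hbc).mem_alternatingGroup⟩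

theorem t3_mem_fixG {S : Finset α} {a b c : α} (hab : a ≠ b) (hac : a ≠ c) (hbc : b ≠ c)
    (ha : a ∉ S) (hb : b ∉ S) (hc : c ∉ S) : t3 a b c hab hac hbc ∈ fixG S := by
  intro x hx
  show c3 a b c x = x
  apply c3_apply_of_ne
  · rintro rfl; exact ha hx
  · rintro rfl; exact hb hx
  · rintro rfl; exact hc hx

/-- Two further points outside `S`. -/
theorem exists_two_notMem {S : Finset α} (x y : α) (h : 4 ≤ Fintype.card α - S.card) :
    ∃ a b : α, a ∉ S ∧ b ∉ S ∧ a ≠ b ∧ a ≠ x ∧ a ≠ y ∧ b ≠ x ∧ b ≠ y := by
  have hcard : 1 < ((S ∪ {x, y})ᶜ).card := by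
    rw [Finset.card_compl]
    have h1 : (S ∪ {x, y}).card ≤ S.card + 2 :=
      (Finset.card_union_le _ _).trans (Nat.add_le_add_left Finset.card_le_two _)
    omega
  obtain ⟨a, ha, b, hb, hab⟩ := Finset.one_lt_card.mp hcard
  simp only [Finset.mem_compl, Finset.mem_union, Finset.mem_insert, Finset.mem_singleton,
    not_or] at ha hb
  exact ⟨a, b, ha.1, hb.1, hab, ha.2.1, ha.2.2, hb.2.1, hb.2.2⟩

theorem centralizer_fixG {S : Finset α} (h : 4 ≤ Fintype.card α - S.card) :
    Subgroup.centralizer ((fixG S : Subgroup (alternatingGroup α)) : Set (alternatingGroup α)) =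
      fixG Sᶜ := by
  ext σ
  constructor
  · intro hσ x hx
    rw [Finset.mem_compl] at hx
    by_contra hne
    obtain ⟨a, b, ha, hb, hab, hax, hay, hbx, hby⟩ :=
      exists_two_notMem (S := S) x ((σ : Perm α) x) h
    have hτ := t3_mem_fixG (S := S) hax.symm hbx.symm hab hx ha hb
    have hcomm := Subgroup.mem_centralizer_iff.mp hσ _ hτ
    have h1 := congrArg (fun t : alternatingGroup α => (t : Perm α) x) hcomm
    simp only [Subgroup.coe_mul, Perm.mul_apply] at h1
    have e1 : ((t3 x a b hax.symm hbx.symm hab : alternatingGroup α) : Perm α) x = a :=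
      c3_apply_fst hax.symm hbx.symm
    have e2 : ((t3 x a b hax.symm hbx.symm hab : alternatingGroup α) : Perm α)
        ((σ : Perm α) x) = (σ : Perm α) x :=
      c3_apply_of_ne hne hay.symm hby.symm
    rw [e1, e2] at h1
    exact hax ((σ : Perm α).injective h1).symm
  · intro hσ
    rw [Subgroup.mem_centralizer_iff]
    intro τ hτ
    apply Subtype.ext
    rw [Subgroup.coe_mul, Subgroup.coe_mul]
    have hd : Perm.Disjoint (τ : Perm α) (σ : Perm α) := by
      intro x
      by_cases hx : x ∈ S
      · exact Or.inl (hτ x hx)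
      · exact Or.inr (hσ x (Finset.mem_compl.mpr hx))
    exact hd.commute.eq

theorem map_conj_fixG (S : Finset α) (g : alternatingGroup α) :
    (fixG S).map (MulAut.conj g).toMonoidHom = fixG (S.image (g : Perm α)) := by
  ext σ
  constructor
  · rintro ⟨τ, hτ, rfl⟩ x hx
    obtain ⟨y, hy, rfl⟩ := Finset.mem_image.mp hx
    show ((g * τ * g⁻¹ : alternatingGroup α) : Perm α) ((g : Perm α) y) = (g : Perm α) y
    simp only [Subgroup.coe_mul, Subgroup.coe_inv, Perm.mul_apply]
    rw [← Perm.mul_apply (g : Perm α)⁻¹, inv_mul_cancel, Perm.one_apply, hτ y hy]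
  · intro hσ
    refine ⟨g⁻¹ * σ * g, ?_, ?_⟩
    · intro x hx
      simp only [Subgroup.coe_mul, Subgroup.coe_inv, Perm.mul_apply]
      rw [hσ _ (Finset.mem_image_of_mem _ hx), ← Perm.mul_apply, inv_mul_cancel, Perm.one_apply]
    · show g * (g⁻¹ * σ * g) * g⁻¹ = σ
      group

/-- The fixed points of `fixG S` are exactly `S`. -/
theorem exists_moving {S : Finset α} (h : 3 ≤ Fintype.card α - S.card) {x : α} (hx : x ∉ S) :
    ∃ σ ∈ fixG S, (σ : Perm α) x ≠ x := by
  have hcard : 1 < ((S ∪ {x})ᶜ).card := by
    rw [Finset.card_compl]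
    have h1 : (S ∪ {x}).card ≤ S.card + 1 :=
      (Finset.card_union_le _ _).trans (by simp)
    omega
  obtain ⟨a, ha, b, hb, hab⟩ := Finset.one_lt_card.mp hcard
  simp only [Finset.mem_compl, Finset.mem_union, Finset.mem_singleton, not_or] at ha hb
  refine ⟨t3 x a b (Ne.symm ha.2) (Ne.symm hb.2) hab,
    t3_mem_fixG _ _ _ hx ha.1 hb.1, ?_⟩
  show c3 x a b x ≠ x
  rw [c3_apply_fst (Ne.symm ha.2) (Ne.symm hb.2)]
  exact ha.2

theorem fixG_injective {S T : Finset α} (hS : 3 ≤ Fintype.card α - S.card)
    (hT : 3 ≤ Fintype.card α - T.card) (h : fixG S = fixG T) : S = T := by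
  ext x
  constructor
  · intro hx
    by_contra hxT
    obtain ⟨σ, hσ, hmove⟩ := exists_moving hT hxT
    rw [← h] at hσ
    exact hmove (hσ x hx)
  · intro hx
    by_contra hxS
    obtain ⟨σ, hσ, hmove⟩ := exists_moving hS hxS
    rw [h] at hσ
    exact hmove (hσ x hx)

end basic

section quasi
variable {α : Type*} [DecidableEq α] [Fintype α]

/-- The alternating group of the complement of `S`, embedded. -/
def emb (S : Finset α) : alternatingGroup {x // x ∉ S} →* alternatingGroup α where
  toFun σ := ⟨ofSubtype (σ : Perm {x // x ∉ S}), by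
    rw [mem_alternatingGroup, sign_ofSubtype]
    exact mem_alternatingGroup.mp σ.2⟩
  map_one' := by
    apply Subtype.ext
    simp
  map_mul' := by
    intro a b
    apply Subtype.ext
    simp

theorem emb_injective (S : Finset α) : Function.Injective (emb S) := by
  intro a b h
  apply Subtype.ext
  exact Perm.ofSubtype_injective (congrArg Subtype.val h)

theorem range_emb (S : Finset α) : (emb S).range = fixG S := by
  ext σ
  constructor
  · rintro ⟨τ, rfl⟩ x hx
    exact ofSubtype_apply_of_not_mem _ (not_not.mpr hx)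
  · intro hσ
    have hpres : ∀ x, (σ : Perm α) x ∉ S ↔ x ∉ S := by
      intro x
      constructor
      · intro hσx hx
        exact hσx (by rw [hσ x hx]; exact hx)
      · intro hx hσx
        have h1 := hσ _ hσx
        have h2 := (σ : Perm α).injective h1
        exact hx (h2 ▸ hσx)
    have hmove : ∀ x, (σ : Perm α) x ≠ x → x ∉ S := fun x hx hxS => hx (hσ x hxS)
    refine ⟨⟨(σ : Perm α).subtypePerm hpres, ?_⟩, ?_⟩
    · rw [mem_alternatingGroup, sign_subtypePerm _ hpres hmove]
      exact mem_alternatingGroup.mp σ.2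
    · apply Subtype.ext
      exact ofSubtype_subtypePerm hpres hmove

/-- The alternating group on at least five points is quasisimple. -/
theorem isQuasisimple_alternatingGroup {β : Type*} [DecidableEq β] [Fintype β]
    (h5 : 5 ≤ Fintype.card β) : Cfsg.IsQuasisimple (alternatingGroup β) := by
  have h5' : 5 ≤ Nat.card β := by rwa [Nat.card_eq_fintype_card]
  have hs : IsSimpleGroup (alternatingGroup β) := alternatingGroup.isSimpleGroup h5'
  have hperf : Group.IsPerfect (alternatingGroup β) :=
    ⟨commutator_alternatingGroup_eq_top h5'⟩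
  have hcne : Subgroup.center (alternatingGroup β) ≠ ⊤ := by
    intro hc
    have hbot : commutator (alternatingGroup β) = ⊥ := by
      rw [commutator_def, Subgroup.commutator_eq_bot_iff_le_centralizer, Subgroup.coe_top,
        Subgroup.centralizer_univ, hc]
    rw [commutator_alternatingGroup_eq_top h5'] at hbot
    exact top_ne_bot hbot
  apply Cfsg.Agent.Lib.Helper9.isQuasisimple_of_normal_le_center hperf hcne
  intro N hN hne
  rcases hN.eq_bot_or_eq_top with h | h
  · rw [h]; exact bot_le
  · exact absurd h hne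

theorem isQuasisimple_fixG {S : Finset α} (h5 : 5 ≤ Fintype.card α - S.card) :
    Cfsg.IsQuasisimple (fixG S) := by
  have hq : Cfsg.IsQuasisimple (alternatingGroup {x // x ∉ S}) := by
    apply isQuasisimple_alternatingGroup
    rw [Fintype.card_subtype_compl, Fintype.card_coe]
    exact h5
  have e1 : alternatingGroup {x // x ∉ S} ≃* (emb S).range :=
    MonoidHom.ofInjective (emb_injective S)
  have e2 : (emb S).range ≃* fixG S := MulEquiv.subgroupCongr (range_emb S)
  exact Cfsg.Agent.Lib.Helper9.isQuasisimple_of_equiv (e1.trans e2) hq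

end quasi

section std
variable {α : Type*} [DecidableEq α] [Fintype α]

/-- A double transposition inside a four-element set. -/
theorem even_card_fixG_compl {S : Finset α} (hS : S.card = 4) :
    Even (Nat.card (fixG Sᶜ)) := by
  let e : S ≃ Fin 4 := Finset.equivFinOfCardEq hS
  have hinj : Function.Injective (fun i : Fin 4 => ((e.symm i : S) : α)) :=
    Subtype.val_injective.comp e.symm.injective
  set a : α := ((e.symm 0 : S) : α) with ha
  set b : α := ((e.symm 1 : S) : α) with hb
  set c : α := ((e.symm 2 : S) : α) with hc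
  set d : α := ((e.symm 3 : S) : α) with hd
  have haS : a ∈ S := (e.symm 0).2
  have hbS : b ∈ S := (e.symm 1).2
  have hcS : c ∈ S := (e.symm 2).2
  have hdS : d ∈ S := (e.symm 3).2
  have hab : a ≠ b := hinj.ne (by decide : (0 : Fin 4) ≠ 1)
  have hcd : c ≠ d := hinj.ne (by decide : (2 : Fin 4) ≠ 3)
  have hmem : swap a b * swap c d ∈ alternatingGroup α := by
    rw [mem_alternatingGroup, Perm.sign_mul, sign_swap hab, sign_swap hcd]
    decide
  have hfix : (⟨swap a b * swap c d, hmem⟩ : alternatingGroup α) ∈ fixG Sᶜ := by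
    intro x hx
    rw [Finset.mem_compl] at hx
    show (swap a b * swap c d) x = x
    have hxa : x ≠ a := by rintro rfl; exact hx haS
    have hxb : x ≠ b := by rintro rfl; exact hx hbS
    have hxc : x ≠ c := by rintro rfl; exact hx hcS
    have hxd : x ≠ d := by rintro rfl; exact hx hdS
    rw [Perm.mul_apply, swap_apply_of_ne_of_ne hxc hxd, swap_apply_of_ne_of_ne hxa hxb]
  have hac : a ≠ c := hinj.ne (by decide : (0 : Fin 4) ≠ 2)
  have had : a ≠ d := hinj.ne (by decide : (0 : Fin 4) ≠ 3)
  have hord : orderOf (⟨⟨swap a b * swap c d, hmem⟩, hfix⟩ : fixG Sᶜ) = 2 := by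
    apply orderOf_eq_prime
    · apply Subtype.ext
      apply Subtype.ext
      show (swap a b * swap c d) ^ 2 = 1
      have hd' : Perm.Disjoint (swap a b) (swap c d) := by
        rw [Perm.disjoint_iff_disjoint_support, support_swap hab, support_swap hcd]
        simp only [Finset.disjoint_insert_left, Finset.mem_insert, Finset.mem_singleton, not_or,
          Finset.disjoint_singleton_left]
        exact ⟨⟨hac, had⟩, hinj.ne (by decide : (1 : Fin 4) ≠ 2),
          hinj.ne (by decide : (1 : Fin 4) ≠ 3)⟩
      rw [pow_two, hd'.commute.symm.mul_mul_mul_comm, swap_mul_self, swap_mul_self, one_mul]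
    · intro h
      have h1 := congrArg (fun t : fixG Sᶜ => ((t : alternatingGroup α) : Perm α) a) h
      simp only [Subgroup.coe_one, Perm.one_apply, Perm.mul_apply] at h1
      rw [swap_apply_of_ne_of_ne hac had, swap_apply_left] at h1
      exact hab h1.symm
  have := orderOf_dvd_natCard (⟨⟨swap a b * swap c d, hmem⟩, hfix⟩ : fixG Sᶜ)
  rw [hord] at this
  exact even_iff_two_dvd.mpr this

/-- An even permutation of order two moves at least four points. -/
theorem four_le_card_support {σ : Perm α} (hσ : σ ∈ alternatingGroup α) (ho : orderOf σ = 2) :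
    4 ≤ σ.support.card := by
  obtain ⟨k, hk⟩ := cycleType_prime_order (σ := σ) (by rw [ho]; exact Nat.prime_two)
  rw [ho] at hk
  have hsum := sum_cycleType σ
  rw [hk, Multiset.sum_replicate, smul_eq_mul] at hsum
  by_contra hlt
  push Not at hlt
  have hk0 : k = 0 := by omega
  subst hk0
  have hsign := sign_of_cycleType σ
  rw [hk, mem_alternatingGroup.mp hσ] at hsign
  simp at hsign
  exact absurd hsign (by decide)

theorem coe_t3 (a b c : α) (hab : a ≠ b) (hac : a ≠ c) (hbc : b ≠ c) :
    ((t3 a b c hab hac hbc : alternatingGroup α) : Perm α) = c3 a b c := rfl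

theorem isStandard_fixG {S : Finset α} (hS : S.card = 4) (hn : 9 ≤ Fintype.card α) :
    Cfsg.IsStandardSubgroup (fixG S) := by
  have hc5 : 5 ≤ Fintype.card α - S.card := by omega
  have hcc : (Sᶜ).card = Fintype.card α - 4 := by rw [Finset.card_compl, hS]
  have hCL : Subgroup.centralizer
      ((fixG S : Subgroup (alternatingGroup α)) : Set (alternatingGroup α)) = fixG Sᶜ :=
    centralizer_fixG (by omega)
  have hCK : Subgroup.centralizer
      ((fixG Sᶜ : Subgroup (alternatingGroup α)) : Set (alternatingGroup α)) = fixG S := by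
    have := centralizer_fixG (S := Sᶜ) (by rw [hcc]; omega)
    rwa [compl_compl] at this
  refine ⟨isQuasisimple_fixG hc5, ?_, ?_, ?_⟩
  · rw [hCL]
    refine ⟨even_card_fixG_compl hS, ?_⟩
    intro g hg
    rw [map_conj_fixG]
    have hTcard : ((Sᶜ).image (g : Perm α)).card = Fintype.card α - 4 := by
      rw [Finset.card_image_of_injective _ (g : Perm α).injective, hcc]
    have hTne : (Sᶜ).image (g : Perm α) ≠ Sᶜ := by
      intro h
      apply hg
      apply Cfsg.Agent.Lib.Helper9.mem_normalizer_of_map_conj_eq
      rw [map_conj_fixG, h]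
    obtain ⟨x, hxT, hxS⟩ : ∃ x ∈ (Sᶜ).image (g : Perm α), x ∈ S := by
      by_contra hcon
      push Not at hcon
      apply hTne
      apply Finset.eq_of_subset_of_card_le
      · intro x hx
        rw [Finset.mem_compl]
        exact hcon x hx
      · rw [hcc, hTcard]
    by_contra hodd
    rw [Nat.not_odd_iff_even, even_iff_two_dvd] at hodd
    obtain ⟨t, ht⟩ := exists_prime_orderOf_dvd_card' 2 hodd
    have htK : (t : alternatingGroup α) ∈ fixG Sᶜ := t.2.1
    have htT : (t : alternatingGroup α) ∈ fixG ((Sᶜ).image (g : Perm α)) := t.2.2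
    have ho : orderOf ((t : alternatingGroup α) : Perm α) = 2 := by
      rw [Subgroup.orderOf_coe, Subgroup.orderOf_coe, ht]
    have h4 := four_le_card_support (t : alternatingGroup α).2 ho
    have hsub : ((t : alternatingGroup α) : Perm α).support ⊆ S.erase x := by
      intro y hy
      rw [Perm.mem_support] at hy
      rw [Finset.mem_erase]
      constructor
      · rintro rfl
        exact hy (htT y hxT)
      · by_contra hyS
        exact hy (htK y (Finset.mem_compl.mpr hyS))
    have := Finset.card_le_card hsub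
    rw [Finset.card_erase_of_mem hxS, hS] at this
    omega
  · intro g hne
    rw [map_conj_fixG] at hne ⊢
    have hTcard : (S.image (g : Perm α)).card = 4 := by
      rw [Finset.card_image_of_injective _ (g : Perm α).injective, hS]
    have hTS : S.image (g : Perm α) ≠ S := by
      intro h
      apply hne
      rw [h]
    obtain ⟨u, huT, huS⟩ : ∃ u ∈ S.image (g : Perm α), u ∉ S := by
      by_contra hcon
      push Not at hcon
      apply hTS
      apply Finset.eq_of_subset_of_card_le hcon
      rw [hS, hTcard]
    obtain ⟨w, hw⟩ : ∃ w, w ∉ S ∪ S.image (g : Perm α) := by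
      by_contra hcon
      push Not at hcon
      have hu : (S ∪ S.image (g : Perm α)) = Finset.univ := Finset.eq_univ_iff_forall.mpr hcon
      have h1 := Finset.card_union_le S (S.image (g : Perm α))
      rw [hu, Finset.card_univ, hS, hTcard] at h1
      omega
    rw [Finset.mem_union, not_or] at hw
    obtain ⟨v, -, hvS, -, -, hvw, hvu, -, -⟩ := exists_two_notMem (S := S) w u (by omega)
    obtain ⟨w', w'', hw'T, hw''T, hw'w'', hw'w, -, hw''w, -⟩ :=
      exists_two_notMem (S := S.image (g : Perm α)) w w (by omega)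
    have hwu : w ≠ u := by
      rintro rfl
      exact hw.2 huT
    have haL := t3_mem_fixG (S := S) hwu hvw.symm hvu.symm hw.1 huS hvS
    have hbL := t3_mem_fixG (S := S.image (g : Perm α)) hw'w.symm hw''w.symm hw'w'' hw.2 hw'T hw''T
    intro hbot
    rw [Subgroup.commutator_eq_bot_iff_le_centralizer] at hbot
    have hcomm := Subgroup.mem_centralizer_iff.mp (hbot haL) _ hbL
    have h1 := congrArg (fun t : alternatingGroup α => (t : Perm α) w) hcomm
    simp only [Subgroup.coe_mul, Perm.mul_apply, coe_t3] at h1
    have huw' : u ≠ w' := by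
      rintro rfl
      exact hw'T huT
    have huw'' : u ≠ w'' := by
      rintro rfl
      exact hw''T huT
    rw [c3_apply_fst hwu hvw.symm, c3_apply_of_ne hwu.symm huw' huw'',
      c3_apply_fst hw'w.symm hw''w.symm] at h1
    have h2 : c3 w u v w = u := c3_apply_fst hwu hvw.symm
    exact hw'w ((c3 w u v).injective (h2.trans h1)).symm
  · apply le_antisymm
    · exact Cfsg.Agent.Lib.Helper9.normalizer_le_normalizer_centralizer _
    · rw [hCL]
      have := Cfsg.Agent.Lib.Helper9.normalizer_le_normalizer_centralizer (fixG Sᶜ)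
      rwa [hCK] at this

end std

end Cfsg.Agent.Lib.Helper9.AltStandard
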