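import Cfsg.Agent.Lib.Helper9.AltAut

set_option autoImplicit false
set_option linter.unusedSectionVars false

namespace Cfsg.Agent.Lib.Helper9.AltSylow

open Equiv Equiv.Perm
open Cfsg.Agent.Lib.Helper9.AltAut

section C
variable {α : Type*} [DecidableEq α] [Fintype α]

theorem exists_order_mul {p q : ℕ} (hp : p.Prime) (hq : q.Prime) (hpq : p ≠ q)
    (hp2 : p ^ 2 ≤ Fintype.card α) (hq2 : q ^ 2 ≤ Fintype.card α) :
    ∃ x : Perm α, x ∈ alternatingGroup α ∧ orderOf x = p * q := by
  wlog hlt : p < q generalizing p q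
  · obtain ⟨x, hx, ho⟩ := this hq hp hpq.symm hq2 hp2 (lt_of_le_of_ne (not_lt.mp hlt) hpq.symm)
    exact ⟨x, hx, by rw [ho, mul_comm]⟩
  have hp2' := hp.two_le
  have hq3 : 3 ≤ q := by omega
  have hqodd : Odd q := hq.odd_of_ne_two (by omega)
  have hcop : Nat.Coprime p q := (Nat.coprime_primes hp hq).mpr hpq
  by_cases h2 : p = 2
  · subst h2
    have hsum : (({2, 2, q} : Multiset ℕ)).sum ≤ Fintype.card α ∧
        ∀ a ∈ ({2, 2, q} : Multiset ℕ), 2 ≤ a := by
      constructor
      · simp only [Multiset.insert_eq_cons, Multiset.sum_cons, Multiset.sum_singleton]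
        nlinarith
      · intro a ha
        simp only [Multiset.insert_eq_cons, Multiset.mem_cons, Multiset.mem_singleton] at ha
        rcases ha with rfl | rfl | rfl <;> omega
    obtain ⟨g, hg⟩ := (Equiv.Perm.exists_with_cycleType_iff α).mpr hsum
    refine ⟨g, ?_, ?_⟩
    · rw [mem_alternatingGroup, sign_of_cycleType, hg]
      simp only [Multiset.insert_eq_cons, Multiset.sum_cons, Multiset.sum_singleton,
        Multiset.card_cons, Multiset.card_singleton]
      apply Even.neg_one_pow
      obtain ⟨k, hk⟩ := hqodd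
      exact ⟨k + 4, by omega⟩
    · rw [← lcm_cycleType, hg]
      simp only [Multiset.insert_eq_cons, Multiset.lcm_cons, Multiset.lcm_singleton,
        normalize_eq]
      show Nat.lcm 2 (Nat.lcm 2 q) = 2 * q
      rw [hcop.lcm_eq_mul]
      exact Nat.lcm_eq_right (Dvd.intro _ rfl)
  · have hpodd : Odd p := hp.odd_of_ne_two h2
    have hsum : (({p, q} : Multiset ℕ)).sum ≤ Fintype.card α ∧
        ∀ a ∈ ({p, q} : Multiset ℕ), 2 ≤ a := by
      constructor
      · simp only [Multiset.insert_eq_cons, Multiset.sum_cons, Multiset.sum_singleton]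
        nlinarith
      · intro a ha
        simp only [Multiset.insert_eq_cons, Multiset.mem_cons, Multiset.mem_singleton] at ha
        rcases ha with rfl | rfl <;> omega
    obtain ⟨g, hg⟩ := (Equiv.Perm.exists_with_cycleType_iff α).mpr hsum
    refine ⟨g, ?_, ?_⟩
    · rw [mem_alternatingGroup, sign_of_cycleType, hg]
      simp only [Multiset.insert_eq_cons, Multiset.sum_cons, Multiset.sum_singleton,
        Multiset.card_cons, Multiset.card_singleton]
      apply Even.neg_one_pow
      obtain ⟨k, hk⟩ := hqodd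
      obtain ⟨l, hl⟩ := hpodd
      exact ⟨k + l + 2, by omega⟩
    · rw [← lcm_cycleType, hg]
      simp only [Multiset.insert_eq_cons, Multiset.lcm_cons, Multiset.lcm_singleton,
        normalize_eq]
      show Nat.lcm p q = p * q
      exact hcop.lcm_eq_mul

end C

section I1
variable {α : Type*} [DecidableEq α] [Fintype α]

theorem prime_sq_not_dvd_factorial {p : ℕ} (hp : p.Prime) : ¬ p ^ 2 ∣ p.factorial := by
  intro h
  obtain ⟨m, rfl⟩ : ∃ m, p = m + 1 := ⟨p - 1, by have := hp.pos; omega⟩
  rw [Nat.factorial_succ, pow_two] at h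
  have h1 := Nat.dvd_of_mul_dvd_mul_left (Nat.succ_pos m) h
  have h2 := (hp.dvd_factorial).mp h1
  omega

theorem commute_of_isPGroup {p : ℕ} [hp : Fact p.Prime] (hn : Fintype.card α < p ^ 2)
    (P : Subgroup (Perm α)) (hP : IsPGroup p P) {g h : Perm α} (hg : g ∈ P) (hh : h ∈ P) :
    g * h = h * g := by
  ext x
  obtain ⟨k, hk⟩ := hP.card_orbit x
  have hle : Nat.card (MulAction.orbit P x) ≤ Fintype.card α := by
    rw [← Nat.card_eq_fintype_card]
    exact Nat.card_le_card_of_injective _ Subtype.val_injective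
  have hk1 : k ≤ 1 := by
    by_contra hcon
    push Not at hcon
    have : p ^ 2 ≤ p ^ k := Nat.pow_le_pow_right hp.out.pos hcon
    omega
  have hdvd : Nat.card (MulAction.orbit P x) ∣ p := by
    rw [hk]
    interval_cases k <;> simp
  let ρ := MulAction.toPermHom P (MulAction.orbit P x)
  have hR : IsPGroup p ρ.range := hP.of_surjective ρ.rangeRestrict ρ.rangeRestrict_surjective
  obtain ⟨j, hj⟩ := IsPGroup.iff_card.mp hR
  have hdiv : Nat.card ρ.range ∣ (Nat.card (MulAction.orbit P x)).factorial := by
    have := Subgroup.card_subgroup_dvd_card ρ.range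
    rwa [Nat.card_perm] at this
  have hj1 : Nat.card ρ.range ∣ p := by
    have h1 : (Nat.card (MulAction.orbit P x)).factorial ∣ p.factorial :=
      Nat.factorial_dvd_factorial (Nat.le_of_dvd hp.out.pos hdvd)
    have h2 : p ^ j ∣ p.factorial := hj ▸ hdiv.trans h1
    have : j ≤ 1 := by
      by_contra hcon
      push Not at hcon
      exact prime_sq_not_dvd_factorial hp.out ((pow_dvd_pow p hcon).trans h2)
    rw [hj]
    interval_cases j <;> simp
  have : IsCyclic ρ.range := isCyclic_of_card_dvd_prime hj1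
  have hcomm : ρ ⟨g, hg⟩ * ρ ⟨h, hh⟩ = ρ ⟨h, hh⟩ * ρ ⟨g, hg⟩ := by
    have := (inferInstance : IsMulCommutative ρ.range).is_comm.comm
      ⟨ρ ⟨g, hg⟩, ⟨_, rfl⟩⟩ ⟨ρ ⟨h, hh⟩, ⟨_, rfl⟩⟩
    exact congrArg Subtype.val this
  have h3 := DFunLike.congr_fun hcomm ⟨x, MulAction.mem_orbit_self x⟩
  have h4 := congrArg Subtype.val h3
  exact h4

end I1

section I4
variable {α : Type*} [DecidableEq α] [Fintype α]

theorem mem_range_iff (h4 : 4 ≤ Fintype.card α) (f : MulAut (alternatingGroup α)) :
    f ∈ (MulAut.conjNormal : Perm α →* MulAut (alternatingGroup α)).range ↔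
      ∀ c : alternatingGroup α, (c : Perm α).IsThreeCycle →
        ((f c : alternatingGroup α) : Perm α).IsThreeCycle := by
  constructor
  · rintro ⟨g, rfl⟩ c hc
    rw [MulAut.conjNormal_apply]
    unfold IsThreeCycle at hc ⊢
    rw [cycleType_conj]
    exact hc
  · intro h
    exact exists_conj_of_preserves h4 f h

theorem card_three (h6 : Fintype.card α = 6) :
    (Finset.univ.filter fun g : Perm α => g.cycleType = {3}).card = 40 := by
  have := card_of_cycleType_mul_eq α ({3} : Multiset ℕ)
  rw [if_pos (by simp [h6])] at this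
  simp only [h6, Multiset.sum_singleton, Multiset.prod_singleton, Multiset.toFinset_singleton,
    Finset.prod_singleton, Multiset.count_singleton_self] at this
  norm_num [Nat.factorial] at this
  omega

theorem card_three_three (h6 : Fintype.card α = 6) :
    (Finset.univ.filter fun g : Perm α => g.cycleType = {3, 3}).card = 40 := by
  have := card_of_cycleType_mul_eq α ({3, 3} : Multiset ℕ)
  rw [if_pos (by simp [h6])] at this
  have e1 : ({3, 3} : Multiset ℕ).toFinset = {3} := by decide
  have e2 : ({3, 3} : Multiset ℕ).count 3 = 2 := by decide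
  have e3 : ({3, 3} : Multiset ℕ).sum = 6 := by decide
  have e4 : ({3, 3} : Multiset ℕ).prod = 9 := by decide
  rw [e1, Finset.prod_singleton, e2, e3, e4, h6,
    show Nat.factorial (6 - 6) * 9 * Nat.factorial 2 = 18 by decide,
    show Nat.factorial 6 = 720 by decide] at this
  omega

theorem cycleType_of_not_mem (h6 : Fintype.card α = 6) (f : MulAut (alternatingGroup α))
    (hf : f ∉ (MulAut.conjNormal : Perm α →* MulAut (alternatingGroup α)).range)
    (c : alternatingGroup α) (hc : (c : Perm α).IsThreeCycle) :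
    ((f c : alternatingGroup α) : Perm α).cycleType = {3, 3} := by
  rw [mem_range_iff (by omega)] at hf
  push Not at hf
  obtain ⟨c₀, hc₀, hnot⟩ := hf
  have ho : orderOf ((f c₀ : alternatingGroup α) : Perm α) = 3 := by
    rw [Subgroup.orderOf_coe, MulEquiv.orderOf_eq, ← Subgroup.orderOf_coe, hc₀.orderOf]
  obtain ⟨k, hk⟩ := cycleType_prime_order (by rw [ho]; exact Nat.prime_three)
  rw [ho] at hk
  have hsum := sum_cycleType_le ((f c₀ : alternatingGroup α) : Perm α)
  rw [hk, Multiset.sum_replicate, smul_eq_mul, h6] at hsum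
  have hk1 : k = 1 := by
    have : k ≠ 0 := by
      rintro rfl
      apply hnot
      unfold IsThreeCycle
      rw [hk]
      rfl
    omega
  subst hk1
  have hconj : IsConj c₀ c :=
    alternatingGroup.isThreeCycle_isConj (by rw [Nat.card_eq_fintype_card]; omega) hc₀ hc
  obtain ⟨a, ha⟩ := isConj_iff.mp hconj
  rw [← ha, map_mul, map_mul, map_inv]
  simp only [Subgroup.coe_mul, Subgroup.coe_inv]
  rw [cycleType_conj, hk]
  rfl

theorem inv_mul_mem (h6 : Fintype.card α = 6) (f g : MulAut (alternatingGroup α))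
    (hf : f ∉ (MulAut.conjNormal : Perm α →* MulAut (alternatingGroup α)).range)
    (hg : g ∉ (MulAut.conjNormal : Perm α →* MulAut (alternatingGroup α)).range) :
    g⁻¹ * f ∈ (MulAut.conjNormal : Perm α →* MulAut (alternatingGroup α)).range := by
  rw [mem_range_iff (by omega)]
  intro c hc
  have h1 := cycleType_of_not_mem h6 f hf c hc
  have mem3 : ∀ x : Perm α, x ∈ (Finset.univ.filter fun x : Perm α => x.cycleType = {3}) →
      x ∈ alternatingGroup α := by
    intro x hx
    have hx' : x.IsThreeCycle := (Finset.mem_filter.mp hx).2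
    exact hx'.mem_alternatingGroup
  have key := Finset.surj_on_of_inj_on_of_card_le
    (s := Finset.univ.filter fun x : Perm α => x.cycleType = {3})
    (t := Finset.univ.filter fun x : Perm α => x.cycleType = {3, 3})
    (fun x hx => ((g ⟨x, mem3 x hx⟩ : alternatingGroup α) : Perm α))
    (fun x hx => by
      rw [Finset.mem_filter]
      exact ⟨Finset.mem_univ _, cycleType_of_not_mem h6 g hg ⟨x, mem3 x hx⟩
        (Finset.mem_filter.mp hx).2⟩)
    (fun x y hx hy hxy => by
      have := g.injective (Subtype.ext hxy)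
      exact congrArg Subtype.val this)
    (by rw [card_three h6, card_three_three h6])
  obtain ⟨c', hc', e⟩ := key ((f c : alternatingGroup α) : Perm α)
    (by rw [Finset.mem_filter]; exact ⟨Finset.mem_univ _, h1⟩)
  have e2 : (g⁻¹ * f) c = ⟨c', mem3 c' hc'⟩ := by
    rw [MulAut.mul_apply]
    apply g.injective
    rw [MulAut.apply_inv_self]
    exact Subtype.ext e
  rw [e2]
  exact (Finset.mem_filter.mp hc').2

end I4

section Final
variable {α : Type*} [DecidableEq α] [Fintype α]

theorem odd_mem (h6 : Fintype.card α = 6) (f : MulAut (alternatingGroup α))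
    (hodd : Odd (orderOf f)) :
    f ∈ (MulAut.conjNormal : Perm α →* MulAut (alternatingGroup α)).range := by
  have hsq : f * f ∈ (MulAut.conjNormal : Perm α →* MulAut (alternatingGroup α)).range := by
    by_cases hf : f ∈ (MulAut.conjNormal : Perm α →* MulAut (alternatingGroup α)).range
    · exact Subgroup.mul_mem _ hf hf
    · have hf' : f⁻¹ ∉ (MulAut.conjNormal : Perm α →* MulAut (alternatingGroup α)).range := by
        rwa [Subgroup.inv_mem_iff]
      have := inv_mul_mem h6 f f⁻¹ hf hf'
      rwa [inv_inv] at this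
  obtain ⟨m, hm⟩ := hodd
  have e : f = (f * f) ^ (m + 1) := by
    rw [← pow_two, ← pow_mul, show 2 * (m + 1) = orderOf f + 1 by omega, pow_succ,
      pow_orderOf_eq_one, one_mul]
  rw [e]
  exact Subgroup.pow_mem _ hsq _

theorem commute_of_le_range {r : ℕ} [Fact r.Prime] (hn : Fintype.card α < r ^ 2)
    (h4 : 4 ≤ Fintype.card α) (R : Subgroup (MulAut (alternatingGroup α))) (hR : IsPGroup r R)
    (hle : R ≤ (MulAut.conjNormal : Perm α →* MulAut (alternatingGroup α)).range)
    {a b : MulAut (alternatingGroup α)} (ha : a ∈ R) (hb : b ∈ R) : a * b = b * a := by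
  obtain ⟨a', rfl⟩ := hle ha
  obtain ⟨b', rfl⟩ := hle hb
  have hinj := conjNormal_injective (α := α) h4
  have hP : IsPGroup r (R.comap (MulAut.conjNormal : Perm α →* MulAut (alternatingGroup α))) :=
    hR.comap_of_injective _ hinj
  have := commute_of_isPGroup hn _ hP (g := a') (h := b') ha hb
  rw [← map_mul, ← map_mul, this]

theorem sylow_abelian (hn : 5 ≤ Fintype.card α) (G : Subgroup (MulAut (alternatingGroup α)))
    (hG : (MulAut.conj : alternatingGroup α →* MulAut (alternatingGroup α)).range ≤ G)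
    (p q : ℕ) [Fact p.Prime] [Fact q.Prime] (hpq : p ≠ q) (h : ∀ g : G, orderOf g ≠ p * q) :
    (∀ P : Sylow p G, IsMulCommutative (P : Subgroup G)) ∨
      (∀ Q : Sylow q G, IsMulCommutative (Q : Subgroup G)) := by
  by_contra hcon
  push Not at hcon
  obtain ⟨⟨P, hP⟩, ⟨Q, hQ⟩⟩ := hcon
  have key : ∀ (r : ℕ) [Fact r.Prime] (R : Sylow r G), ¬ IsMulCommutative (R : Subgroup G) →
      ((R : Subgroup G).map G.subtype ≤
        (MulAut.conjNormal : Perm α →* MulAut (alternatingGroup α)).range) →
      r ^ 2 ≤ Fintype.card α := by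
    intro r _ R hR hle
    by_contra hlt
    push Not at hlt
    apply hR
    refine ⟨⟨fun a b => ?_⟩⟩
    apply Subtype.ext
    apply Subtype.ext
    have hRp : IsPGroup r ((R : Subgroup G).map G.subtype) := R.isPGroup'.map _
    exact commute_of_le_range hlt (by omega) _ hRp hle (Subgroup.mem_map_of_mem _ a.2)
      (Subgroup.mem_map_of_mem _ b.2)
  by_cases h6 : Fintype.card α = 6
  · have hex : ∃ (r : ℕ) (_ : Fact r.Prime) (R : Sylow r G),
        ¬ IsMulCommutative (R : Subgroup G) ∧ r ≠ 2 := by
      by_cases hp2 : p = 2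
      · exact ⟨q, inferInstance, Q, hQ, fun h => hpq (hp2.trans h.symm)⟩
      · exact ⟨p, inferInstance, P, hP, hp2⟩
    obtain ⟨r, hr, R, hR, hr2⟩ := hex
    have hrp : r.Prime := hr.out
    have hle : (R : Subgroup G).map G.subtype ≤
        (MulAut.conjNormal : Perm α →* MulAut (alternatingGroup α)).range := by
      rintro _ ⟨x, hx, rfl⟩
      apply odd_mem h6
      obtain ⟨k, hk⟩ := R.isPGroup' ⟨x, hx⟩
      have hxk : (G.subtype x) ^ r ^ k = 1 := by
        have := congrArg (fun t : (R : Subgroup G) => G.subtype (t : G)) hk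
        simpa using this
      have hdvd : orderOf (G.subtype x) ∣ r ^ k := orderOf_dvd_of_pow_eq_one hxk
      exact ((hrp.odd_of_ne_two hr2).pow).of_dvd_nat hdvd
    have h9 := key r R hR hle
    have h3 : 3 ≤ r := by
      have := hrp.two_le
      omega
    nlinarith
  · have htop : ∀ x : MulAut (alternatingGroup α),
        x ∈ (MulAut.conjNormal : Perm α →* MulAut (alternatingGroup α)).range :=
      fun x => (conjNormal_bijective (by omega) h6).2 x
    have hp2 := key p P hP (fun x _ => htop x)
    have hq2 := key q Q hQ (fun x _ => htop x)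
    obtain ⟨x, hx, ho⟩ := exists_order_mul (α := α) (Fact.out : p.Prime) (Fact.out : q.Prime)
      hpq hp2 hq2
    have hxG : (MulAut.conjNormal x : MulAut (alternatingGroup α)) ∈ G := by
      apply hG
      refine ⟨⟨x, hx⟩, ?_⟩
      exact (MulAut.conjNormal_val (h := (⟨x, hx⟩ : alternatingGroup α))).symm
    apply h ⟨MulAut.conjNormal x, hxG⟩
    rw [← ho, ← Subgroup.orderOf_coe]
    exact orderOf_injective _ (conjNormal_injective (by omega)) x

end Final

end Cfsg.Agent.Lib.Helper9.AltSylow
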