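/-
Helper9 library: abelian Sylow subgroups of the alternating groups.
Burnside's fusion argument gives elements of even order in `N(P)/C(P)` for odd `p`; the Sylow
2-subgroups of `A_n`, `n ≥ 6`, are not abelian; the Sylow 2-subgroups of `A_5`.
-/
import Mathlib
import Cfsg.Agent.Lib.Helper7.SimpleTools

set_option autoImplicit false

namespace Cfsg.Agent.Lib.Helper9.AltSylowA

open Subgroup Equiv.Perm



/-- Burnside: if an element `x` with `x ^ 2 ≠ 1` of an abelian Sylow subgroup is inverted in `G`,
then `N(P)/C(P)` has even order. -/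
theorem two_dvd_index_of_inverted {G : Type*} [Group G] [Finite G] {p : ℕ} [Fact p.Prime]
    (P : Sylow p G) [hP : IsMulCommutative (P : Subgroup G)] {x g : G} (hx : x ∈ P)
    (hg : g * x * g⁻¹ = x⁻¹) (hx2 : x ^ 2 ≠ 1) :
    2 ∣ ((centralizer ((P : Subgroup G) : Set G)).subgroupOf
      (normalizer ((P : Subgroup G) : Set G))).index := by
  obtain ⟨m, hm, hmx⟩ := P.conj_eq_normalizer_conj_of_mem x g⁻¹ hx (by
    rw [inv_inv, hg]; exact inv_mem hx)
  rw [inv_inv, hg] at hmx
  -- the automorphism induced by `m⁻¹`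
  set α : MulAut (P : Subgroup G) := (P : Subgroup G).normalizerMonoidHom ⟨m⁻¹, inv_mem hm⟩ with hα
  have hαx : α ⟨x, hx⟩ = ⟨x, hx⟩⁻¹ := by
    apply Subtype.ext
    rw [hα]
    simp only [normalizerMonoidHom_apply_apply_coe, InvMemClass.coe_inv, inv_inv]
    exact hmx.symm
  have hpow : ∀ k : ℕ, (α ^ k) ⟨x, hx⟩ = if Even k then ⟨x, hx⟩ else ⟨x, hx⟩⁻¹ := by
    intro k
    induction k with
    | zero => simp
    | succ k ih =>
      rw [pow_succ', MulAut.mul_apply, ih]
      by_cases hk : Even k
      · have : ¬ Even (k + 1) := by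
          rw [Nat.even_add_one]; exact not_not.mpr hk
        rw [if_pos hk, if_neg this, hαx]
      · have : Even (k + 1) := by
          rw [Nat.even_add_one]; exact hk
        rw [if_neg hk, if_pos this, map_inv, hαx, inv_inv]
  have heven : 2 ∣ orderOf α := by
    by_contra hodd
    have hodd' : ¬ Even (orderOf α) := fun h => hodd (even_iff_two_dvd.mp h)
    have h1 := hpow (orderOf α)
    rw [pow_orderOf_eq_one, if_neg hodd', MulAut.one_apply] at h1
    apply hx2
    have h2 : (⟨x, hx⟩ : (P : Subgroup G)) * ⟨x, hx⟩ = 1 := by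
      nth_rewrite 1 [h1]
      exact inv_mul_cancel _
    have := congrArg Subtype.val h2
    simpa [pow_two] using this
  have h3 : orderOf α ∣ Nat.card ((P : Subgroup G).normalizerMonoidHom).range := by
    have : orderOf (⟨α, ⟨_, rfl⟩⟩ : ((P : Subgroup G).normalizerMonoidHom).range) = orderOf α :=
      Subgroup.orderOf_mk _ _
    rw [← this]
    exact orderOf_dvd_natCard _
  rw [← normalizerMonoidHom_ker, Subgroup.index_ker]
  exact heven.trans h3




/-- an element of odd prime order `p` of `A_n`, `2p ≤ n`, is inverted by an even permutation -/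
theorem exists_even_inverting {n p : ℕ} (hp : p.Prime) (hn : 2 * p ≤ n)
    (x : Equiv.Perm (Fin n)) (hx : orderOf x = p) :
    ∃ g : Equiv.Perm (Fin n), g ∈ alternatingGroup (Fin n) ∧ g * x * g⁻¹ = x⁻¹ := by
  -- an odd permutation centralising `x`
  have h1 : ¬ Subgroup.centralizer {x} ≤ alternatingGroup (Fin n) := by
    intro h
    rw [Equiv.Perm.centralizer_le_alternating_iff] at h
    obtain ⟨-, hcard, hcount⟩ := h
    obtain ⟨k, hk⟩ := Equiv.Perm.cycleType_prime_order (σ := x) (by rw [hx]; exact hp)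
    rw [hx] at hk
    have hc := hcount p
    rw [hk, Multiset.count_replicate_self] at hc
    have hk0 : k = 0 := by omega
    rw [hk, hk0] at hcard
    simp at hcard
    have := hp.two_le
    omega
  obtain ⟨τ, hτc, hτs⟩ := SetLike.not_le_iff_exists.mp h1
  have hτ : τ * x = x * τ := by
    rw [Subgroup.mem_centralizer_iff] at hτc
    exact (hτc x rfl).symm
  have hτsign : Equiv.Perm.sign τ = -1 := by
    rcases Int.units_eq_one_or (Equiv.Perm.sign τ) with h | h
    · exact absurd (Equiv.Perm.mem_alternatingGroup.mpr h) hτs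
    · exact h
  -- `x` is conjugate to its inverse in the symmetric group
  have h2 : IsConj x x⁻¹ := by
    rw [Equiv.Perm.isConj_iff_cycleType_eq, Equiv.Perm.cycleType_inv]
  obtain ⟨σ, hσ⟩ := isConj_iff.mp h2
  rcases Int.units_eq_one_or (Equiv.Perm.sign σ) with h | h
  · exact ⟨σ, Equiv.Perm.mem_alternatingGroup.mpr h, hσ⟩
  · refine ⟨σ * τ, ?_, ?_⟩
    · rw [Equiv.Perm.mem_alternatingGroup, map_mul, h, hτsign]
      rfl
    · rw [mul_inv_rev, ← hσ]
      have : τ * x * τ⁻¹ = x := by rw [hτ, mul_inv_cancel_right]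
      calc σ * τ * x * (τ⁻¹ * σ⁻¹) = σ * (τ * x * τ⁻¹) * σ⁻¹ := by group
        _ = σ * x * σ⁻¹ := by rw [this]


open Nat in
theorem two_mul_le_of_sq_dvd_factorial {p n : ℕ} (hp : p.Prime) (h : p ^ 2 ∣ n !) : 2 * p ≤ n := by
  by_contra hlt
  push Not at hlt
  have h2 := hp.two_le
  have hn2 : n < p ^ 2 := by nlinarith
  have hlog : Nat.log p n < 2 := by
    rcases Nat.eq_zero_or_pos n with h0 | h0
    · subst h0; simp
    · exact Nat.log_lt_of_lt_pow (by omega) hn2
  have hm := hp.emultiplicity_factorial hlog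
  have hsum : ∑ i ∈ Finset.Ico 1 2, n / p ^ i = n / p := by
    simp
  rw [hsum] at hm
  have hle : n / p ≤ 1 := by
    have : n / p < 2 := Nat.div_lt_of_lt_mul (by omega)
    omega
  have h3 := pow_dvd_iff_le_emultiplicity.mp h
  rw [hm] at h3
  have : (2 : ℕ) ≤ n / p := by exact_mod_cast h3
  omega




/-- rotation of the square, made even by an extra transposition -/
def r6 : Equiv.Perm (Fin 6) := c[0, 1, 2, 3] * Equiv.swap 4 5
/-- reflection of the square, made even by an extra transposition -/
def s6 : Equiv.Perm (Fin 6) := Equiv.swap 0 2 * Equiv.swap 4 5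

theorem r6_sign : Equiv.Perm.sign r6 = 1 := by decide
theorem s6_sign : Equiv.Perm.sign s6 = 1 := by decide
theorem r6_pow : r6 ^ 4 = 1 := by decide
theorem s6_pow : s6 ^ 2 = 1 := by decide
theorem s6_r6 : s6 * r6 * s6⁻¹ = r6⁻¹ := by decide
theorem r6_s6_ne : r6 * s6 ≠ s6 * r6 := by decide

open Classical in
/-- the embedding of `S_6` into `S_n` -/
noncomputable def emb6 (n : ℕ) (h : 6 ≤ n) : Equiv.Perm (Fin 6) →* Equiv.Perm (Fin n) :=
  Equiv.Perm.extendDomainHom (Equiv.ofInjective (Fin.castLE h) (Fin.castLE_injective h))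

theorem emb6_injective (n : ℕ) (h : 6 ≤ n) : Function.Injective (emb6 n h) := by
  classical
  exact Equiv.Perm.extendDomainHom_injective _

theorem emb6_sign (n : ℕ) (h : 6 ≤ n) (e : Equiv.Perm (Fin 6)) :
    Equiv.Perm.sign (emb6 n h e) = Equiv.Perm.sign e := by
  classical
  exact Equiv.Perm.sign_extendDomain e _

/-- the Sylow 2-subgroups of `A_n`, `n ≥ 6`, are not commutative -/
theorem sylow_two_alternating_not_comm (n : ℕ) (h6 : 6 ≤ n)
    (P : Sylow 2 (alternatingGroup (Fin n)))
    (hP : IsMulCommutative (P : Subgroup (alternatingGroup (Fin n)))) : False := by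
  have hr : emb6 n h6 r6 ∈ alternatingGroup (Fin n) := by
    rw [Equiv.Perm.mem_alternatingGroup, emb6_sign, r6_sign]
  have hs : emb6 n h6 s6 ∈ alternatingGroup (Fin n) := by
    rw [Equiv.Perm.mem_alternatingGroup, emb6_sign, s6_sign]
  set r : alternatingGroup (Fin n) := ⟨emb6 n h6 r6, hr⟩ with hrdef
  set s : alternatingGroup (Fin n) := ⟨emb6 n h6 s6, hs⟩ with hsdef
  have hr4 : r ^ 4 = 1 := by
    apply Subtype.ext
    simp only [hrdef, SubgroupClass.coe_pow, OneMemClass.coe_one]
    rw [← map_pow, r6_pow, map_one]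
  have hs2 : s ^ 2 = 1 := by
    apply Subtype.ext
    simp only [hsdef, SubgroupClass.coe_pow, OneMemClass.coe_one]
    rw [← map_pow, s6_pow, map_one]
  have hsr : s * r * s⁻¹ = r⁻¹ := by
    apply Subtype.ext
    simp only [hrdef, hsdef, Subgroup.coe_mul, Subgroup.coe_inv]
    rw [← map_inv, ← map_mul, ← map_mul, s6_r6, map_inv]
  have hne : r * s ≠ s * r := by
    intro h
    have h' := congrArg Subtype.val h
    simp only [hrdef, hsdef, Subgroup.coe_mul] at h'
    rw [← map_mul, ← map_mul] at h'
    exact r6_s6_ne (emb6_injective n h6 h')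
  -- the subgroup generated by `r` and `s` is a 2-group
  have hK : IsPGroup 2 (Subgroup.zpowers r) := by
    rintro ⟨g, hg⟩
    obtain ⟨k, rfl⟩ := Subgroup.mem_zpowers_iff.mp hg
    refine ⟨2, Subtype.ext ?_⟩
    simp only [SubgroupClass.coe_pow, OneMemClass.coe_one]
    rw [← zpow_natCast, ← zpow_mul, mul_comm, zpow_mul, zpow_natCast]
    norm_num
    rw [hr4, one_zpow]
  have hS : IsPGroup 2 (Subgroup.zpowers s) := by
    rintro ⟨g, hg⟩
    obtain ⟨k, rfl⟩ := Subgroup.mem_zpowers_iff.mp hg
    refine ⟨1, Subtype.ext ?_⟩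
    simp only [SubgroupClass.coe_pow, OneMemClass.coe_one]
    rw [← zpow_natCast, ← zpow_mul, mul_comm, zpow_mul, zpow_natCast]
    norm_num
    rw [hs2, one_zpow]
  have hnorm : Subgroup.zpowers s ≤ Subgroup.normalizer (Subgroup.zpowers r : Set _) := by
    rw [Subgroup.zpowers_le]
    rw [Subgroup.mem_normalizer_iff]
    intro h
    have key : ∀ y, y ∈ Subgroup.zpowers r → s * y * s⁻¹ ∈ Subgroup.zpowers r := by
      intro y hy
      obtain ⟨k, rfl⟩ := Subgroup.mem_zpowers_iff.mp hy
      have : s * r ^ k * s⁻¹ = (s * r * s⁻¹) ^ k := by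
        rw [conj_zpow]
      rw [this, hsr]
      exact Subgroup.zpow_mem _ (Subgroup.inv_mem _ (Subgroup.mem_zpowers r)) k
    constructor
    · exact key h
    · intro hh
      have h2 := key _ hh
      have hsinv : s⁻¹ = s := by
        rw [inv_eq_iff_mul_eq_one, ← pow_two, hs2]
      have : s * (s * h * s⁻¹) * s⁻¹ = h := by
        rw [hsinv]
        have hss : s * s = 1 := by rw [← pow_two, hs2]
        calc s * (s * h * s) * s = (s * s) * h * (s * s) := by group
          _ = h := by rw [hss, one_mul, mul_one]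
      rwa [this] at h2
  have hH : IsPGroup 2 (Subgroup.zpowers s ⊔ Subgroup.zpowers r : Subgroup _) :=
    IsPGroup.to_sup_of_normal_right' hS hK hnorm
  obtain ⟨Q, hQ⟩ := hH.exists_le_sylow
  obtain ⟨g, hg⟩ := MulAction.exists_smul_eq (alternatingGroup (Fin n)) Q P
  have hrQ : r ∈ Q := hQ (Subgroup.mem_sup_right (Subgroup.mem_zpowers r))
  have hsQ : s ∈ Q := hQ (Subgroup.mem_sup_left (Subgroup.mem_zpowers s))
  have hPmap : (P : Subgroup (alternatingGroup (Fin n))) =
      (Q : Subgroup (alternatingGroup (Fin n))).map (MulAut.conj g).toMonoidHom := by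
    rw [← hg, Sylow.smul_def, Sylow.pointwise_smul_def, Subgroup.pointwise_smul_def]
    rfl
  have hrP : g * r * g⁻¹ ∈ (P : Subgroup (alternatingGroup (Fin n))) := by
    rw [hPmap]
    exact ⟨r, hrQ, rfl⟩
  have hsP : g * s * g⁻¹ ∈ (P : Subgroup (alternatingGroup (Fin n))) := by
    rw [hPmap]
    exact ⟨s, hsQ, rfl⟩
  have hcomm := hP.is_comm.comm (⟨g * r * g⁻¹, hrP⟩ : (P : Subgroup _)) ⟨g * s * g⁻¹, hsP⟩
  have h' := congrArg Subtype.val hcomm
  simp only [Subgroup.coe_mul] at h'
  apply hne
  have : g * (r * s) * g⁻¹ = g * (s * r) * g⁻¹ := by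
    calc g * (r * s) * g⁻¹ = (g * r * g⁻¹) * (g * s * g⁻¹) := by group
      _ = (g * s * g⁻¹) * (g * r * g⁻¹) := h'
      _ = g * (s * r) * g⁻¹ := by group
  exact mul_left_cancel (mul_right_cancel this)




set_option maxRecDepth 100000 in
theorem sq_eq_one_of_pow_four_a5 : ∀ g : Equiv.Perm (Fin 5), Equiv.Perm.sign g = 1 → g ^ 4 = 1 →
    g ^ 2 = 1 := by decide

theorem card_a5 : Nat.card (alternatingGroup (Fin 5)) = 60 := by
  rw [nat_card_alternatingGroup]
  simp [Nat.factorial]

theorem a5_not_comm : ¬ IsMulCommutative (alternatingGroup (Fin 5)) := by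
  apply Cfsg.Agent.Lib.Helper7.not_comm_of_card_not_prime
  rw [card_a5]
  norm_num

/-- Sylow 2-subgroups of `A_5` -/
theorem sylow_two_a5 (P : Sylow 2 (alternatingGroup (Fin 5))) :
    ((centralizer ((P : Subgroup (alternatingGroup (Fin 5))) : Set (alternatingGroup (Fin 5)))).subgroupOf
      (normalizer ((P : Subgroup (alternatingGroup (Fin 5))) : Set (alternatingGroup (Fin 5))))).index = 3 ∧
    IsKleinFour (P : Subgroup (alternatingGroup (Fin 5))) := by
  have hA := card_a5
  -- `|P| = 4`
  have hP4 : Nat.card (P : Subgroup (alternatingGroup (Fin 5))) = 4 := by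
    obtain ⟨k, hk⟩ := P.2.exists_card_eq
    have h1 := (P : Subgroup (alternatingGroup (Fin 5))).card_mul_index
    have h2 := P.not_dvd_index
    rw [hA, hk] at h1
    have hk3 : k < 6 := by
      by_contra hk6
      push Not at hk6
      have : 2 ^ 6 ≤ 2 ^ k := Nat.pow_le_pow_right (by norm_num) hk6
      have hpos : 0 < (P : Subgroup (alternatingGroup (Fin 5))).index := Nat.pos_of_ne_zero (by
        intro h0; rw [h0] at h1; omega)
      nlinarith
    rw [hk]
    interval_cases k <;> omega
  -- exponent two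
  have hsq : ∀ x : (P : Subgroup (alternatingGroup (Fin 5))), x ^ 2 = 1 := by
    intro x
    have h4 : x ^ 4 = 1 := by
      rw [← hP4]
      exact pow_card_eq_one'
    apply Subtype.ext
    apply Subtype.ext
    have h4' : ((x : alternatingGroup (Fin 5)) : Equiv.Perm (Fin 5)) ^ 4 = 1 := by
      have := congrArg (fun y : (P : Subgroup (alternatingGroup (Fin 5))) =>
        ((y : alternatingGroup (Fin 5)) : Equiv.Perm (Fin 5))) h4
      simpa using this
    have := sq_eq_one_of_pow_four_a5 _ (Equiv.Perm.mem_alternatingGroup.mp (x : alternatingGroup (Fin 5)).2) h4'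
    simpa using this
  have hcomm : ∀ a ∈ (P : Subgroup (alternatingGroup (Fin 5))), ∀ b ∈ (P : Subgroup (alternatingGroup (Fin 5))),
      a * b = b * a :=
    Cfsg.Agent.Lib.Helper7.comm_of_card_prime_sq (p := 2) _ (by rw [hP4]; norm_num)
  refine ⟨?_, ⟨hP4, ?_⟩⟩
  · -- the index
    have hNC := Cfsg.Agent.Lib.Helper7.not_normalizer_le_centralizer a5_not_comm P (by omega) hcomm
    have hmul := Cfsg.Agent.Lib.Helper7.card_centralizer_mul_relIndex (P : Subgroup (alternatingGroup (Fin 5)))
    set N := normalizer ((P : Subgroup (alternatingGroup (Fin 5))) : Set (alternatingGroup (Fin 5))) with hN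
    set C := centralizer ((P : Subgroup (alternatingGroup (Fin 5))) : Set (alternatingGroup (Fin 5))) with hC
    have hPC : (P : Subgroup (alternatingGroup (Fin 5))) ≤ C := by
      intro a ha
      rw [hC, Subgroup.mem_centralizer_iff]
      intro b hb
      exact hcomm b hb a ha
    have hCN : C ≤ N := Subgroup.centralizer_le_normalizer _
    have h4c : 4 ∣ Nat.card C := by
      rw [← hP4]; exact Subgroup.card_dvd_of_le hPC
    have hm60 : Nat.card N ∣ 60 := by
      rw [← hA]; exact Subgroup.card_subgroup_dvd_card N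
    change C.relIndex N = 3
    -- `N ≠ ⊤`
    have hNtop : N ≠ ⊤ := by
      intro h
      have hn : (P : Subgroup (alternatingGroup (Fin 5))).Normal := Subgroup.normalizer_eq_top_iff.mp h
      rcases hn.eq_bot_or_eq_top with hb | ht
      · rw [hb, Subgroup.card_bot] at hP4; omega
      · rw [ht, Subgroup.card_top, hA] at hP4; omega
    have hidx := Cfsg.Agent.Lib.Helper7.card_dvd_factorial_index N hNtop
    have hNidx := N.card_mul_index
    rw [hA] at hidx hNidx
    -- the relative index is not one
    have hrel1 : C.relIndex N ≠ 1 := by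
      intro h
      exact hNC (Subgroup.relIndex_eq_one.mp h)
    have hmpos : 0 < Nat.card N := Nat.card_pos
    have hm : Nat.card N ≤ 60 := Nat.le_of_dvd (by norm_num) hm60
    have hcpos : 0 < Nat.card C := Nat.card_pos
    have hcle : Nat.card C ≤ Nat.card N := Nat.le_of_dvd hmpos ⟨_, hmul.symm⟩
    obtain ⟨c, hc⟩ := h4c
    generalize Nat.card N = m at *
    generalize C.relIndex N = r at *
    generalize N.index = i at *
    rw [hc] at hmul hcpos hcle
    have hc1 : 1 ≤ c := by omega
    have hc' : c ≤ 15 := by omega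
    have hi : i ≤ 60 := by nlinarith
    have hr : r ≤ 15 := by nlinarith
    -- finite search
    interval_cases r
    all_goals first | omega | skip
    all_goals (interval_cases c <;> first | omega | skip)
    all_goals (subst hmul; first | omega | skip)
    all_goals (interval_cases i <;> first | omega | (norm_num [Nat.factorial] at hidx))
  · -- exponent
    have hdvd : Monoid.exponent (P : Subgroup (alternatingGroup (Fin 5))) ∣ 2 :=
      Monoid.exponent_dvd_of_forall_pow_eq_one hsq
    have hne1 : Monoid.exponent (P : Subgroup (alternatingGroup (Fin 5))) ≠ 1 := by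
      intro h
      have := Monoid.exp_eq_one_iff.mp h
      have h1 : Nat.card (P : Subgroup (alternatingGroup (Fin 5))) = 1 := Nat.card_eq_one_iff_unique.mpr ⟨this, ⟨1⟩⟩
      omega
    have := (Nat.dvd_prime Nat.prime_two).mp hdvd
    rcases this with h | h
    · exact absurd h hne1
    · exact h


/-- abelian non-cyclic Sylow `p`-subgroups of `A_n`, `p` odd: `N(P)/C(P)` has even order -/
theorem two_dvd_index_of_odd {n p : ℕ} [Fact p.Prime] (hp2 : p ≠ 2)
    (P : Sylow p (alternatingGroup (Fin n)))
    [hP : IsMulCommutative (P : Subgroup (alternatingGroup (Fin n)))]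
    (hnc : ¬ IsCyclic (P : Subgroup (alternatingGroup (Fin n)))) :
    2 ∣ ((centralizer ((P : Subgroup (alternatingGroup (Fin n))) : Set (alternatingGroup (Fin n)))).subgroupOf
      (normalizer ((P : Subgroup (alternatingGroup (Fin n))) : Set (alternatingGroup (Fin n))))).index := by
  have hp : p.Prime := Fact.out
  obtain ⟨k, hk⟩ := P.2.exists_card_eq
  have hk2 : 2 ≤ k := by
    by_contra hlt
    push Not at hlt
    apply hnc
    interval_cases k
    · rw [pow_zero] at hk
      have : Subsingleton (P : Subgroup (alternatingGroup (Fin n))) :=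
        (Nat.card_eq_one_iff_unique.mp hk).1
      exact isCyclic_of_subsingleton
    · rw [pow_one] at hk
      exact isCyclic_of_prime_card hk
  have hdvd : p ^ 2 ∣ n.factorial := by
    have h1 : p ^ 2 ∣ Nat.card (P : Subgroup (alternatingGroup (Fin n))) := by
      rw [hk]; exact pow_dvd_pow p hk2
    have h2 : Nat.card (P : Subgroup (alternatingGroup (Fin n))) ∣ Nat.card (alternatingGroup (Fin n)) :=
      Subgroup.card_subgroup_dvd_card _
    have h3 : Nat.card (alternatingGroup (Fin n)) ∣ Nat.card (Equiv.Perm (Fin n)) :=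
      Subgroup.card_subgroup_dvd_card _
    have h4 : Nat.card (Equiv.Perm (Fin n)) = n.factorial := by
      rw [Nat.card_perm, Nat.card_eq_fintype_card, Fintype.card_fin]
    rw [← h4]
    exact h1.trans (h2.trans h3)
  have hn2 := two_mul_le_of_sq_dvd_factorial hp hdvd
  obtain ⟨x, hx⟩ := exists_prime_orderOf_dvd_card' (G := (P : Subgroup (alternatingGroup (Fin n)))) p
    (by rw [hk]; exact dvd_pow_self p (by omega))
  have hx' : orderOf (((x : alternatingGroup (Fin n)) : Equiv.Perm (Fin n))) = p := by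
    rw [Subgroup.orderOf_coe, Subgroup.orderOf_coe]; exact hx
  obtain ⟨g, hg, hgx⟩ := exists_even_inverting hp hn2 _ hx'
  apply two_dvd_index_of_inverted P (x := (x : alternatingGroup (Fin n))) (g := ⟨g, hg⟩) x.2
  · apply Subtype.ext
    simpa using hgx
  · intro h2
    have h3 : orderOf (x : alternatingGroup (Fin n)) = p := by
      rw [Subgroup.orderOf_coe]; exact hx
    have h4 := orderOf_dvd_of_pow_eq_one h2
    rw [h3] at h4
    have := (Nat.prime_dvd_prime_iff_eq hp Nat.prime_two).mp h4
    exact hp2 this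

end Cfsg.Agent.Lib.Helper9.AltSylowA
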