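/- helper9: B&G Theorem 15.2(c) (S1356), part B: the standard factorisation `M = K U M_σ`,
`F(M) ≤ M'` when `κ(M) ≠ ∅`, and the case `M_σ` nilpotent. -/
import Mathlib
import Cfsg.Agent.Lib.Helper9.BG156A
import Cfsg.Agent.Lib.Helper9.BG152H
import Cfsg.Agent.Lib.Helper1.BGKap4
import Cfsg.Agent.Lib.Helper2.BGCorF
import Cfsg.Agent.Lib.Helper8.BGEx5
import Cfsg.Agent.S1351
import Cfsg.Agent.S1352
import Cfsg.Agent.S1359
import Cfsg.Agent.S1420
import Cfsg.Agent.S1439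

set_option autoImplicit false
set_option linter.style.haveILetI false
set_option linter.unusedSectionVars false
open scoped commutatorElement Pointwise

namespace Cfsg.Agent.Lib.Helper9.BG156

open Subgroup Cfsg Cfsg.Agent.Lib.Helper24.BG36Nab Cfsg.Agent.Lib.Helper9.BG152
open Cfsg.Agent.Lib.Helper2.BGCor (le_normalizer_sigmaCore sigmaCore_le)

variable {G : Type*} [Group G]

/-- `M` normalizes `C_M(X)` when it normalizes `X`. -/
theorem le_normalizer_inf_centralizer {M X : Subgroup G} (h : M ≤ normalizer (X : Set G)) :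
    M ≤ normalizer ((M ⊓ centralizer (X : Set G) : Subgroup G) : Set G) := by
  have key : ∀ g ∈ M, ∀ c ∈ M ⊓ centralizer (X : Set G), g * c * g⁻¹ ∈ M ⊓ centralizer (X : Set G) :=
    fun g hg c hc => ⟨M.mul_mem (M.mul_mem hg hc.1) (M.inv_mem hg),
      conj_mem_centralizer_of_mem_normalizer (h hg) hc.2⟩
  intro g hg
  rw [mem_normalizer_iff]
  intro c
  refine ⟨key g hg c, fun hc => ?_⟩
  have := key g⁻¹ (M.inv_mem hg) _ hc
  have e : g⁻¹ * (g * c * g⁻¹) * g⁻¹⁻¹ = c := by group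
  rwa [e] at this

variable [Finite G]

/-- a normal subgroup of `M` meeting the Hall subgroup `K` trivially has order coprime to `|K|`. -/
theorem coprime_of_inf_eq_bot {π : Set ℕ} {K M X : Subgroup G} (hK : IsPiHallOf π K M)
    (hXM : X ≤ M) (hn : M ≤ normalizer (X : Set G)) (hXK : X ⊓ K = ⊥) :
    (Nat.card X).Coprime (Nat.card K) := by
  apply Nat.coprime_of_dvd
  intro p hp hpX hpK
  haveI : Fact p.Prime := ⟨hp⟩
  obtain ⟨y, hy⟩ := exists_prime_orderOf_dvd_card' (G := ↥X) p hpX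
  have hyp : (y : G) ^ p = 1 := by
    have : y ^ p = 1 := by rw [← hy]; exact pow_orderOf_eq_one y
    exact congrArg Subtype.val this
  obtain ⟨h, hh, hc⟩ := exists_conj_mem_hall hK hp hpK (hXM y.2) hyp
  have h1 : h * (y : G) * h⁻¹ ∈ X := (mem_normalizer_iff.mp (hn hh) _).mp y.2
  have h2 : h * (y : G) * h⁻¹ ∈ X ⊓ K := ⟨h1, hc⟩
  rw [hXK, mem_bot] at h2
  have h3 : (y : G) = 1 := by
    have : (y : G) = h⁻¹ * (h * (y : G) * h⁻¹) * h := by group
    rw [this, h2]; group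
  have h4 : y = 1 := Subtype.ext h3
  rw [h4, orderOf_one] at hy
  exact hp.one_lt.ne hy

section decomp

variable {M K U : Subgroup G} (hHall : IsPiHallOf (sigma M) (sigmaCore M) M)
  (hKU : IsSigmaDecomposition M K U)
include hHall hKU

/-- `|M : U M_σ| = |K|`. -/
theorem relIndex_U_sup_sigmaCore : (U ⊔ sigmaCore M).relIndex M = Nat.card K := by
  obtain ⟨hUM, hKσM, hUK, hprod⟩ := hKU.compl
  have hKM : K ≤ M := le_sup_left.trans hKσM
  have hc : Cfsg.Agent.Lib.Helper1.IsComplIn U (K ⊔ sigmaCore M) M :=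
    ⟨hUM, hKσM, disjoint_iff.mpr hUK, fun m hm => by
      obtain ⟨a, ha, b, hb, rfl⟩ := hprod m hm
      exact ⟨a, ha, b, hb, rfl⟩⟩
  have h1 := hc.card_mul_card
  have h2 := Cfsg.Agent.Lib.Helper4.card_sup_mul_card_inf K (sigmaCore M)
    (hKM.trans (le_normalizer_sigmaCore M))
  rw [Cfsg.Agent.Lib.Helper1.BGZhat.K_inf_sigmaCore hHall hKU.hall, Subgroup.card_bot, mul_one]
    at h2
  have h3 := Cfsg.Agent.Lib.Helper4.card_sup_mul_card_inf U (sigmaCore M)
    (hUM.trans (le_normalizer_sigmaCore M))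
  have hUs : U ⊓ sigmaCore M = ⊥ := by
    rw [eq_bot_iff, ← hUK]
    exact inf_le_inf_left U le_sup_right
  rw [hUs, Subgroup.card_bot, mul_one] at h3
  have hNM : U ⊔ sigmaCore M ≤ M := sup_le hUM hHall.1
  have h4 := Cfsg.Agent.Lib.Helper9.card_eq_card_mul_relIndex hNM
  have h5 : Nat.card ↥(U ⊔ sigmaCore M) * (U ⊔ sigmaCore M).relIndex M =
      Nat.card ↥(U ⊔ sigmaCore M) * Nat.card K := by
    rw [← h4, ← h1, h2, h3]; ring
  exact Nat.eq_of_mul_eq_mul_left Nat.card_pos h5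

/-- a subgroup of `M` of order coprime to `|K|` lies in `U M_σ`. -/
theorem le_U_sup_sigmaCore {X : Subgroup G} (hXM : X ≤ M)
    (hcop : (Nat.card X).Coprime (Nat.card K)) : X ≤ U ⊔ sigmaCore M := by
  apply le_of_coprime_relIndex (sup_le hKU.compl.1 hHall.1)
    (Cfsg.Agent.Lib.Helper1.BGKap.le_normalizer_U_sup_sigmaCore hKU) hXM
  rw [relIndex_U_sup_sigmaCore hHall hKU]
  exact hcop

end decomp

/-- no non-identity element of `K` centralizes `M_σ`. -/
theorem not_sigmaCore_le_centralizer (hG : IsMinSimpleOddOrder G) {M K : Subgroup G}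
    (hM : IsCoatom M) (hK : IsPiHallOf (kappa M) K M) {k : G} (hk : k ∈ K) (hk1 : k ≠ 1) :
    ¬ sigmaCore M ≤ centralizer ({k} : Set G) := by
  intro hc
  have hK1 : K ≠ ⊥ := fun h => hk1 (by rw [h, mem_bot] at hk; exact hk)
  have hcyc := (Cfsg.Agent.S1351.result hG M hM).2 K hK
  have h30 := (Cfsg.Agent.S1430.result hG M hM K hK hK1).1 k hk hk1
  have h54 := (Cfsg.Agent.S1354.result hG M hM K hcyc hK).1
  have hKs : sigmaCore M ⊓ centralizer (K : Set G) = sigmaCore M := by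
    rw [← h30]; exact inf_eq_left.mpr hc
  have hcard : Nat.card ↥(sigmaCore M ⊓ centralizer (K : Set G)) ≠ 1 :=
    fun h => h54 (Subgroup.card_eq_one.mp h)
  obtain ⟨r, hr, hrd⟩ := Nat.exists_prime_and_dvd hcard
  haveI : Fact r.Prime := ⟨hr⟩
  obtain ⟨S⟩ : Nonempty (Sylow r ↥(sigmaCore M)) := inferInstance
  have h31 := ((Cfsg.Agent.S1431.result hG M hM K hK hK1).2.2.1 r hr hrd S).2.2
  apply h31
  rw [hKs]
  exact Subgroup.map_subtype_le _

/-- `K ≠ 1` when `κ(M) ≠ ∅`. -/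
theorem K_ne_bot_of_nonempty {M K : Subgroup G} (hK : IsPiHallOf (kappa M) K M)
    (hκ : (kappa M).Nonempty) : K ≠ ⊥ := by
  obtain ⟨p, hp⟩ := hκ
  intro hK1
  have hpM : p ∣ Nat.card M := hp.2.1
  have h1 := Cfsg.Agent.Lib.Helper9.card_eq_card_mul_relIndex hK.1
  rw [hK1, Subgroup.card_bot, one_mul] at h1
  rw [h1] at hpM
  exact hK.2.2 p hp.1 hp (by rw [hK1]; exact hpM)

/-- `F(M) ≤ M'` when `κ(M) ≠ ∅`. -/
theorem fittingOf_le_commutator (hG : IsMinSimpleOddOrder G) {M : Subgroup G} (hM : IsCoatom M)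
    (hκ : (kappa M).Nonempty) : fittingOf M ≤ ⁅M, M⁆ := by
  obtain ⟨⟨K, hK⟩, hcyc⟩ := Cfsg.Agent.S1351.result hG M hM
  obtain ⟨⟨U, hKU⟩, -⟩ := Cfsg.Agent.S1352.result hG M hM K (hcyc K hK) hK
  have hHall := (Cfsg.Agent.S1350.result hG M hM).1
  have hK1 := K_ne_bot_of_nonempty hK hκ
  have h65 := (Cfsg.Agent.S1365.result hG M hM K U hKU hK1).1
  obtain ⟨-, h39b, h39c⟩ := Cfsg.Agent.S1439.result hG M hM
  rw [h39c, h65]
  apply sup_le
  · exact (Cfsg.Agent.Lib.Helper17.PrimeAct.fittingOf_le _).trans le_sup_right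
  · apply le_U_sup_sigmaCore hHall hKU
    · exact (Subgroup.map_subtype_le _).trans (Cfsg.Agent.Lib.Helper17.PrimeAct.fittingOf_le M)
    · apply Nat.coprime_of_dvd
      intro p hp hpT hpK
      have h1 : p ∈ tau2 M := h39b p hp hpT
      have h2 : p ∈ kappa M := hK.2.1 p hp hpK
      exact h1.2.2.2 (Cfsg.Agent.Lib.Helper2.BGCor.pRankLE_one_of_kappa h2)

/-- the case `M_σ` nilpotent: `M'' ≤ M_σ` and `C_M(M_σ)` is nilpotent. -/
theorem caseA (hG : IsMinSimpleOddOrder G) {M : Subgroup G} (hM : IsCoatom M)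
    (hnil : Group.IsNilpotent (sigmaCore M)) :
    ⁅⁅M, M⁆, ⁅M, M⁆⁆ ≤ fittingOf M ∧ M ⊓ centralizer (sigmaCore M : Set G) ≤ fittingOf M := by
  obtain ⟨⟨K, hK⟩, hcyc⟩ := Cfsg.Agent.S1351.result hG M hM
  obtain ⟨⟨U, hKU⟩, -⟩ := Cfsg.Agent.S1352.result hG M hM K (hcyc K hK) hK
  have hHall := (Cfsg.Agent.S1350.result hG M hM).1
  have hsM : sigmaCore M ≤ M := hHall.1
  have hMs : M ≤ normalizer ((sigmaCore M : Subgroup G) : Set G) := le_normalizer_sigmaCore M
  have hsF : sigmaCore M ≤ fittingOf M :=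
    Cfsg.Agent.Lib.Helper17.PrimeAct.le_fittingOf _ _ hsM hMs hnil
  have hUM : U ≤ M := hKU.compl.1
  constructor
  · -- `M'' ≤ M_σ`
    have hE := Cfsg.Agent.Lib.Helper1.BGZhat.isComplIn_U_sup_K hHall hKU
    have hEab := (Cfsg.Agent.S1420.result hG M hM _ hE).2.1
    have hEM : U ⊔ K ≤ M := hE.1
    have hM_le : M ≤ (U ⊔ K) ⊔ sigmaCore M := by
      intro m hm
      obtain ⟨a, ha, b, hb, rfl⟩ := hE.2.2.2 m hm
      exact Subgroup.mul_mem _ (Subgroup.mem_sup_left ha) (Subgroup.mem_sup_right hb)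
    have h1 : ⁅M, M⁆ ≤ ⁅U ⊔ K, U ⊔ K⁆ ⊔ sigmaCore M :=
      (Subgroup.commutator_mono hM_le hM_le).trans
        (commutator_sup_le (hEM.trans hMs) (hEM.trans hMs))
    have hE'M : ⁅U ⊔ K, U ⊔ K⁆ ≤ M := (Subgroup.commutator_mono hEM hEM).trans
      (Subgroup.commutator_le_self M)
    have h2 : ⁅⁅M, M⁆, ⁅M, M⁆⁆ ≤ ⁅⁅U ⊔ K, U ⊔ K⁆, ⁅U ⊔ K, U ⊔ K⁆⁆ ⊔ sigmaCore M :=
      (Subgroup.commutator_mono h1 h1).trans
        (commutator_sup_le (hE'M.trans hMs) (hE'M.trans hMs))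
    have h3 : ⁅⁅U ⊔ K, U ⊔ K⁆, ⁅U ⊔ K, U ⊔ K⁆⁆ = ⊥ := by
      rw [Subgroup.commutator_eq_bot_iff_le_centralizer]
      intro a ha
      rw [mem_centralizer_iff]
      intro b hb
      have := hEab.is_comm.comm (⟨b, hb⟩ : ↥⁅U ⊔ K, U ⊔ K⁆) ⟨a, ha⟩
      exact congrArg Subtype.val this
    rw [h3, bot_sup_eq] at h2
    exact h2.trans hsF
  · -- `C_M(M_σ)` is nilpotent
    set C : Subgroup G := M ⊓ centralizer ((sigmaCore M : Subgroup G) : Set G) with hC
    have hCM : C ≤ M := inf_le_left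
    have hMC : M ≤ normalizer (C : Set G) := le_normalizer_inf_centralizer hMs
    have hs1 : sigmaCore M ≠ ⊥ := Cfsg.Agent.Lib.Helper8.BGEx.sigmaCore_ne_bot_of_coatom hG hM
    -- `C ∩ K = 1`
    have hCK : C ⊓ K = ⊥ := by
      rw [eq_bot_iff]
      intro k hk
      rw [mem_bot]
      by_contra hk1
      apply not_sigmaCore_le_centralizer hG hM hK hk.2 hk1
      intro s hs
      rw [mem_centralizer_iff]
      intro z hz
      rw [Set.mem_singleton_iff] at hz
      rw [hz]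
      exact ((mem_centralizer_iff.mp hk.1.2) s hs).symm
    have hcop := coprime_of_inf_eq_bot hK hCM hMC hCK
    have hCN : C ≤ U ⊔ sigmaCore M := le_U_sup_sigmaCore hHall hKU hCM hcop
    -- the abelian group `B`
    set B : Subgroup G := Subgroup.closure ((U : Set G) ∩ sigmaHat M) with hB
    have hBab := Cfsg.Agent.S1359.result hG M hM K U hKU
    have hBM : B ≤ M := by
      rw [hB, Subgroup.closure_le]
      exact fun x hx => hUM hx.1
    have hCB : C ≤ B ⊔ sigmaCore M := by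
      intro c hc
      obtain ⟨u, hu, s, hs, rfl⟩ :=
        Cfsg.Agent.Lib.Helper1.BGZhat.exists_mul_of_mem_sup (hUM.trans hMs) (hCN hc)
      refine Subgroup.mul_mem _ (Subgroup.mem_sup_left ?_) (Subgroup.mem_sup_right hs)
      apply Subgroup.subset_closure
      refine ⟨hu, hUM hu, ?_⟩
      have hcc := mem_centralizer_iff.mp hc.2
      -- `u = (u s) s⁻¹` commutes with a non-identity element of `M_σ`
      by_cases hs1' : s = 1
      · obtain ⟨y, hy1⟩ := (Subgroup.ne_bot_iff_exists_ne_one).mp hs1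
        refine ⟨y.1, y.2, fun h => hy1 (Subtype.ext h), ?_⟩
        have := hcc y.1 y.2
        rw [hs1', mul_one] at this
        exact this.symm
      · refine ⟨s, hs, hs1', ?_⟩
        have := hcc s hs
        -- `s * (u * s) = u * s * s`
        calc u * s = s * (u * s) * s⁻¹ := by rw [this]; group
          _ = s * u := by group
    have hcomm : ⁅C, C⁆ ≤ sigmaCore M := by
      have h1 : ⁅C, C⁆ ≤ ⁅B, B⁆ ⊔ sigmaCore M :=
        (Subgroup.commutator_mono hCB hCB).trans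
          (commutator_sup_le (hBM.trans hMs) (hBM.trans hMs))
      have h3 : ⁅B, B⁆ = ⊥ := by
        rw [Subgroup.commutator_eq_bot_iff_le_centralizer]
        intro a ha
        rw [mem_centralizer_iff]
        intro b hb
        have := hBab.is_comm.comm (⟨b, hb⟩ : ↥B) ⟨a, ha⟩
        exact congrArg Subtype.val this
      rw [h3, bot_sup_eq] at h1
      exact h1
    have hCnil : Group.IsNilpotent ↥C := by
      apply isNilpotent_of_commutator_le (hCM.trans hMs) ?_ hcomm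
      intro x hx
      rw [mem_centralizer_iff]
      intro c hc
      exact ((mem_centralizer_iff.mp hc.2) x hx.2).symm
    exact Cfsg.Agent.Lib.Helper17.PrimeAct.le_fittingOf _ _ hCM hMC hCnil

end Cfsg.Agent.Lib.Helper9.BG156
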