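/- helper9: B&G Theorem 15.2(c) (S1356), part C: the case `M_σ` not nilpotent, and the final
statement. -/
import Mathlib
import Cfsg.Agent.Lib.Helper9.BG156B
import Cfsg.Agent.S1373

set_option autoImplicit false
set_option linter.style.haveILetI false
set_option linter.unusedSectionVars false
open scoped commutatorElement Pointwise

namespace Cfsg.Agent.Lib.Helper9.BG156

open Subgroup Cfsg Cfsg.Agent.Lib.Helper24.BG36Nab Cfsg.Agent.Lib.Helper9.BG152
open Cfsg.Agent.Lib.Helper2.BGCor (le_normalizer_sigmaCore sigmaCore_le)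

variable {G : Type*} [Group G] [Finite G]

section caseB

variable {M K U : Subgroup G} (h : Hyp M K U) {D : Subgroup G} (hD : DHyp M K D)
include h hD

/-- `D'` centralizes `Q`. -/
theorem commutator_D_le_centralizer : ⁅D, D⁆ ≤ centralizer ((QOf M K : Subgroup G) : Set G) := by
  have hq : (qOf M K).Prime := h.hq
  haveI : Fact (qOf M K).Prime := ⟨hq⟩
  obtain ⟨A, Y, cf⟩ := h.exists_cf hD
  have hA : QOf M K ⊓ centralizer (D : Set G) = A := h.cent_eq hD cf
  have hY : Y = QOf M K := h.Y_eq_Q hD cf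
  obtain ⟨-, -, -, -, hfd⟩ := h.frob_data hD cf
  intro d hd
  have hdD : d ∈ D := Subgroup.commutator_le_self D hd
  apply mem_centralizer_of_stab h.Q_isPGroup (h.A_le_Q hD cf)
  · intro a ha
    exact ((mem_centralizer_iff.mp (h.A_cent hD cf ha)) d hdD)
  · intro x hx
    exact hfd d hd x (by rw [hY]; exact hx)
  · have h1 : orderOf d ∣ Nat.card D := by
      have := orderOf_dvd_natCard (⟨d, hdD⟩ : ↥D)
      rwa [Subgroup.orderOf_mk] at this
    exact Nat.Coprime.coprime_dvd_left h1 (h.D_cop_q hD)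

/-- `C_M(Q) ∩ K = 1`. -/
theorem cent_Q_inf_K : (M ⊓ centralizer ((QOf M K : Subgroup G) : Set G)) ⊓ K = ⊥ := by
  have hq : (qOf M K).Prime := h.hq
  rw [eq_bot_iff]
  intro k hk
  rw [mem_bot]
  by_contra hk1
  have h1 : QOf M K ≤ sigmaCore M ⊓ centralizer ({k} : Set G) := by
    intro x hx
    refine ⟨h.Q_le hx, ?_⟩
    show x ∈ centralizer ({k} : Set G)
    rw [mem_centralizer_iff]
    intro z hz
    rw [Set.mem_singleton_iff] at hz
    rw [hz]
    exact ((mem_centralizer_iff.mp hk.1.2) x hx).symm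
  rw [h.prime_action k hk.2 hk1] at h1
  have h2 : Nat.card (QOf M K) ∣ qOf M K := Subgroup.card_dvd_of_le h1
  obtain ⟨hKp, -, -, -, h3, -⟩ := h.main_D hD
  have h4 : (qOf M K) ^ 2 ∣ Nat.card (QOf M K) := by
    rw [h3]
    exact Dvd.dvd.mul_left (pow_dvd_pow _ hKp.two_le) _
  have h5 : (qOf M K) ^ 2 ∣ qOf M K := h4.trans h2
  have h6 := Nat.le_of_dvd hq.pos h5
  have h7 : qOf M K < (qOf M K) ^ 2 := by
    rw [pow_two]
    exact lt_mul_self hq.one_lt
  omega

/-- `C_M(Q) ≤ M_σ`. -/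
theorem cent_Q_le_sigmaCore :
    M ⊓ centralizer ((QOf M K : Subgroup G) : Set G) ≤ sigmaCore M := by
  have hMC : M ≤ normalizer ((M ⊓ centralizer ((QOf M K : Subgroup G) : Set G) : Subgroup G) :
      Set G) := le_normalizer_inf_centralizer h.M_le_normalizer_Q
  apply le_of_coprime_relIndex (sigmaCore_le M) (le_normalizer_sigmaCore M) inf_le_left
  rw [h.relIndex_sigmaCore]
  exact coprime_of_inf_eq_bot h.hKU.hall inf_le_left hMC (cent_Q_inf_K h hD)

/-- `C_M(Q)` is nilpotent, hence in `F(M)`. -/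
theorem cent_Q_le_fittingOf :
    M ⊓ centralizer ((QOf M K : Subgroup G) : Set G) ≤ fittingOf M := by
  set C : Subgroup G := M ⊓ centralizer ((QOf M K : Subgroup G) : Set G) with hC
  have hMC : M ≤ normalizer (C : Set G) := le_normalizer_inf_centralizer h.M_le_normalizer_Q
  have hCs : C ≤ sigmaCore M := cent_Q_le_sigmaCore h hD
  have hCN : C ≤ normalizer ((QOf M K : Subgroup G) : Set G) :=
    inf_le_left.trans h.M_le_normalizer_Q
  have h1 : Group.IsNilpotent ↥(im (QOf M K) (sigmaCore M)) :=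
    h.isNilpotent_im h.Q_le h.M_le_normalizer_Q h.C_le_Q
  have h2 : Group.IsNilpotent ↥(im (QOf M K) C) := nilp_of_le' (im_mono hCs) h1
  have hCnil : Group.IsNilpotent ↥C := by
    apply isNilpotent_of_im hCN ?_ h2
    intro x hx
    rw [mem_centralizer_iff]
    intro c hc
    exact ((mem_centralizer_iff.mp hc.2) x hx.2).symm
  exact Cfsg.Agent.Lib.Helper17.PrimeAct.le_fittingOf _ _ inf_le_left hMC hCnil

/-- `Q ≤ F(M)`. -/
theorem Q_le_fittingOf : QOf M K ≤ fittingOf M :=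
  h.Q_le_fittingHallOf.trans (Cfsg.Agent.Lib.Helper9.fittingHallOf_le_fittingOf M)

/-- the case `M_σ` not nilpotent. -/
theorem caseB :
    ⁅⁅M, M⁆, ⁅M, M⁆⁆ ≤ fittingOf M ∧
    M ⊓ centralizer (fittingHallOf M : Set G) ≤ fittingOf M := by
  constructor
  · rw [← sigmaCore_eq_commutator h.hG h.hM h.hKU h.hnn]
    have hDM : D ≤ M := (h.D_le hD).trans (sigmaCore_le M)
    have h1 : sigmaCore M ≤ D ⊔ QOf M K := by
      rw [sup_comm]; exact h.sigmaCore_le_sup hD
    have h2 : ⁅sigmaCore M, sigmaCore M⁆ ≤ ⁅D, D⁆ ⊔ QOf M K :=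
      (Subgroup.commutator_mono h1 h1).trans
        (commutator_sup_le (hDM.trans h.M_le_normalizer_Q) (hDM.trans h.M_le_normalizer_Q))
    refine h2.trans (sup_le ?_ (Q_le_fittingOf h hD))
    refine le_trans ?_ (cent_Q_le_fittingOf h hD)
    exact le_inf ((Subgroup.commutator_le_self D).trans hDM) (commutator_D_le_centralizer h hD)
  · refine le_trans ?_ (cent_Q_le_fittingOf h hD)
    apply inf_le_inf_left
    apply Subgroup.centralizer_le
    exact h.Q_le_fittingHallOf

end caseB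

/-- B&G Theorem 15.2(c) (= S1356), given the conclusion of S1373. -/
theorem thm15_2c (hG : IsMinSimpleOddOrder G) {M : Subgroup G} (hM : IsCoatom M) :
    ⁅⁅M, M⁆, ⁅M, M⁆⁆ ≤ fittingOf M ∧
    fittingOf M = (M ⊓ centralizer (fittingHallOf M : Set G)) ⊔ fittingHallOf M ∧
    ((kappa M).Nonempty → fittingOf M ≤ ⁅M, M⁆) := by
  have key : ⁅⁅M, M⁆, ⁅M, M⁆⁆ ≤ fittingOf M ∧
      M ⊓ centralizer (fittingHallOf M : Set G) ≤ fittingOf M := by
    by_cases hnil : Group.IsNilpotent (sigmaCore M)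
    · have e := Cfsg.Agent.Lib.Helper9.BG144.sigmaCore_eq_fittingHallOf hG hM hnil
      rw [← e]
      exact caseA hG hM hnil
    · obtain ⟨⟨K, hK⟩, hcyc⟩ := Cfsg.Agent.S1351.result hG M hM
      obtain ⟨⟨U, hKU⟩, -⟩ := Cfsg.Agent.S1352.result hG M hM K (hcyc K hK) hK
      have h : Hyp M K U := ⟨hG, hM, hKU, hnil,
        Cfsg.Agent.S1373.result hG M hM K U hKU (K_ne_bot hG hM hKU hnil)
          (U_eq_bot hG hM hKU hnil)⟩
      obtain ⟨D, hD⟩ := h.exists_dhyp
      exact caseB h hD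
  refine ⟨key.1, ?_, fittingOf_le_commutator hG hM⟩
  apply le_antisymm (fittingOf_le_sup M)
  exact sup_le key.2 (Cfsg.Agent.Lib.Helper9.fittingHallOf_le_fittingOf M)

end Cfsg.Agent.Lib.Helper9.BG156
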