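import Mathlib
import Cfsg.Prelude.Def_Blocks
import Cfsg.Prelude.Def_Perm
import Cfsg.Agent.Lib.Helper13.BRPDefs
import Cfsg.Agent.Lib.Helper21.S4503R
import Cfsg.Agent.Lib.Lead.ItoD
import Cfsg.Agent.S0732
import Cfsg.Agent.Lib.Helper9.BRPPERM

/-! S4504 Layer A leaf **BRP-KERA** (helper9): an element fixing every Sylow `p`-subgroup centralizes the normal
closure of `P` (`|P| = p`, `P` not normal). -/

set_option autoImplicit false

namespace Cfsg.Agent.Lib.Helper9.BRPKERA

open Cfsg Cfsg.Agent.Lib.Helper8.DOM Cfsg.Agent.Lib.Helper27.DO Cfsg.Agent.CharLib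
open Cfsg.Agent.Lib.Helper13.BRP Cfsg.Agent.Lib.Helper21.S4503R

universe u

variable {p : ℕ} [Fact p.Prime] {G : Type u} [Group G] [Finite G]

omit [Finite G] in
/-- an element of the kernel of the action on the Sylow subgroups commutes with the elements of `P` -/
theorem commute_of_forall_smul (P : Sylow p G) (hP : Nat.card (P : Subgroup G) = p)
    (hnn : ¬ (P : Subgroup G).Normal) (g : G) (hg : ∀ Q : Sylow p G, g • Q = Q) (x : G)
    (hx : x ∈ (P : Subgroup G)) : g * x = x * g := by
  have hgN : g ∈ Subgroup.normalizer ((P : Subgroup G) : Set G) := Sylow.smul_eq_iff_mem_normalizer.mp (hg P)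
  have hzP : g * x * g⁻¹ * x⁻¹ ∈ (P : Subgroup G) :=
    mul_mem ((Subgroup.mem_normalizer_iff.mp hgN x).mp hx) (inv_mem hx)
  have hginv : ∀ Q : Sylow p G, g⁻¹ • Q = Q := by
    intro Q
    conv_lhs => rw [← hg Q]
    rw [inv_smul_smul]
  have hzfix : ∀ Q : Sylow p G, (g * x * g⁻¹ * x⁻¹) • Q = Q := by
    intro Q
    rw [mul_smul, mul_smul, mul_smul, hginv, smul_inv_smul, hg]
  have hz1 : g * x * g⁻¹ * x⁻¹ = 1 := by
    by_contra hne
    apply hnn
    have hall : ∀ Q : Sylow p G, Q = P := fun Q =>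
      Cfsg.Agent.Lib.Helper9.BRPPERM.eq_of_smul_of_ne_one P Q hP _ hzP hne (hzfix Q)
    apply (Subgroup.normalizer_eq_top_iff).mp
    rw [eq_top_iff]
    intro h _
    exact Sylow.smul_eq_iff_mem_normalizer.mp (hall (h • P))
  have : g * x * g⁻¹ = x := by
    have h := congrArg (· * x) hz1
    simpa using h
  calc g * x = g * x * g⁻¹ * g := by group
    _ = x * g := by rw [this]

/-- KERA : an element fixing every Sylow `p`-subgroup centralizes the normal closure of `P` (`P` not normal). -/
theorem mem_centralizer_normalClosure (P : Sylow p G) (hP : Nat.card (P : Subgroup G) = p)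
    (hnn : ¬ (P : Subgroup G).Normal) (g : G) (hg : ∀ Q : Sylow p G, g • Q = Q) :
    g ∈ Subgroup.centralizer ((Subgroup.normalClosure ((P : Subgroup G) : Set G) : Subgroup G) : Set G) := by
  have hle : Subgroup.normalClosure ((P : Subgroup G) : Set G) ≤ Subgroup.centralizer ({g} : Set G) := by
    unfold Subgroup.normalClosure
    rw [Subgroup.closure_le]
    intro a ha
    obtain ⟨x, hx, hxa⟩ := Group.mem_conjugatesOfSet_iff.mp ha
    obtain ⟨c, hc⟩ := isConj_iff.mp hxa
    -- `c⁻¹ g c` fixes every Sylow subgroup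
    have hg' : ∀ Q : Sylow p G, (c⁻¹ * g * c) • Q = Q := by
      intro Q
      rw [mul_smul, mul_smul, hg, inv_smul_smul]
    have hcomm := commute_of_forall_smul P hP hnn (c⁻¹ * g * c) hg' x hx
    rw [SetLike.mem_coe, Subgroup.mem_centralizer_singleton_iff, ← hc]
    calc c * x * c⁻¹ * g = c * (x * (c⁻¹ * g * c)) * c⁻¹ := by group
      _ = c * ((c⁻¹ * g * c) * x) * c⁻¹ := by rw [hcomm]
      _ = g * (c * x * c⁻¹) := by group
  rw [Subgroup.mem_centralizer_iff]
  intro h hh
  have := Subgroup.mem_centralizer_singleton_iff.mp (hle hh)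
  exact this

end Cfsg.Agent.Lib.Helper9.BRPKERA
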