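import Mathlib
import Cfsg.Prelude.Def_Blocks
import Cfsg.Prelude.Def_Perm
import Cfsg.Agent.Lib.Helper13.BRPDefs
import Cfsg.Agent.Lib.Helper21.S4503R
import Cfsg.Agent.Lib.Lead.ItoD
import Cfsg.Agent.S0732
import Cfsg.Agent.Lib.Lead.CharMore
import Cfsg.Agent.Lib.Helper6.DefectOrder
import Cfsg.Agent.Lib.Helper16.BREZCHAR
import Cfsg.Agent.Lib.Helper24.IrrFacts

/-! S4504 Layer A leaf **BRP-KERB** (helper9): Schur: if a faithful character of `G` restricts irreducibly to `H`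
then `C_G(H) ≤ Z(G)`. -/

set_option autoImplicit false

namespace Cfsg.Agent.Lib.Helper9.BRPKERB

open Cfsg Cfsg.Agent.Lib.Helper8.DOM Cfsg.Agent.Lib.Helper27.DO Cfsg.Agent.CharLib
open Cfsg.Agent.Lib.Helper13.BRP Cfsg.Agent.Lib.Helper21.S4503R
open scoped ComplexConjugate

universe u

/-- an irreducible character has norm `χ(1)` at a central element -/
theorem norm_eq_of_central {L : Type u} [Group L] [Finite L] (ξ : IrrCharacter L) (z : L)
    (hz : ∀ h : L, h * z = z * h) : ‖(ξ : L → ℂ) z‖ = (charDegree (ξ : L → ℂ) : ℝ) := by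
  classical
  let _ : Fintype L := Fintype.ofFinite L
  have h1 := Cfsg.Agent.Lib.Helper6.irr_mul_central ξ z hz z⁻¹
  rw [inv_mul_cancel, Cfsg.Agent.Lib.Helper24.irr_apply_inv] at h1
  have hcent : Subgroup.centralizer ({z} : Set L) = ⊤ := by
    rw [Subgroup.centralizer_eq_top_iff_subset]
    intro w hw
    rw [Set.mem_singleton_iff] at hw
    rw [hw, SetLike.mem_coe, Subgroup.mem_center_iff]
    exact hz
  unfold centralChar at h1
  rw [hcent, Subgroup.index_top, Nat.cast_one, one_mul] at h1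
  have hd := Cfsg.Agent.Lib.Helper24.irr_apply_one ξ
  have hd0 := Cfsg.Agent.Lib.Helper24.irr_apply_one_ne_zero ξ
  -- `ξ 1 * ξ 1 = ξ z * conj (ξ z)`
  have h2 : (ξ : L → ℂ) 1 * (ξ : L → ℂ) 1 = (ξ : L → ℂ) z * conj ((ξ : L → ℂ) z) := by
    calc (ξ : L → ℂ) 1 * (ξ : L → ℂ) 1
        = ((ξ : L → ℂ) z / (ξ : L → ℂ) 1 * conj ((ξ : L → ℂ) z)) * (ξ : L → ℂ) 1 := by rw [← h1]
      _ = (ξ : L → ℂ) z * conj ((ξ : L → ℂ) z) := by field_simp
  rw [Complex.mul_conj, hd] at h2
  have h3 : ((charDegree (ξ : L → ℂ) : ℝ) * (charDegree (ξ : L → ℂ) : ℝ)) = Complex.normSq ((ξ : L → ℂ) z) := by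
    exact_mod_cast h2
  rw [Complex.normSq_eq_norm_sq] at h3
  have h4 : ‖(ξ : L → ℂ) z‖ ^ 2 = (charDegree (ξ : L → ℂ) : ℝ) ^ 2 := by
    rw [← h3]; ring
  exact (sq_eq_sq₀ (norm_nonneg _) (Nat.cast_nonneg _)).mp h4

/-- KERB : Schur: the centralizer of a subgroup on which a faithful character restricts irreducibly is the centre. -/
theorem centralizer_le_center_of_restrict_irr {G : Type u} [Group G] [Finite G] (H : Subgroup G)
    (χ : G → ℂ) (hχ : IsCharacter G χ) (hfaith : ∀ g : G, χ g = χ 1 → g = 1)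
    (hres : IsIrrCharacter H (fun h : H => χ h)) :
    Subgroup.centralizer (H : Set G) ≤ Subgroup.center G := by
  intro g hg
  have hirrG : IsIrrCharacter G χ := Cfsg.Agent.CharLib.Ito.isIrrCharacter_of_restrict H hχ hres
  -- the subgroup `L = H ⊔ ⟨g⟩`
  obtain ⟨L, hL⟩ : ∃ L : Subgroup G, L = H ⊔ Subgroup.zpowers g := ⟨_, rfl⟩
  have hHL : H ≤ L := hL ▸ le_sup_left
  have hgL : g ∈ L := hL ▸ (le_sup_right : Subgroup.zpowers g ≤ H ⊔ Subgroup.zpowers g) (Subgroup.mem_zpowers g)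
  have hLc : L ≤ Subgroup.centralizer ({g} : Set G) := by
    rw [hL]
    apply sup_le
    · intro h hh
      rw [Subgroup.mem_centralizer_singleton_iff]
      exact (Subgroup.mem_centralizer_iff.mp hg h hh)
    · rw [Subgroup.zpowers_le]
      rw [Subgroup.mem_centralizer_singleton_iff]
  -- the restriction to `L` is irreducible
  have hχL : IsCharacter L (fun l : L => χ l) := IsCharacter.restrict hχ L
  have hresL : IsIrrCharacter (H.subgroupOf L) (fun y : H.subgroupOf L => (fun l : L => χ l) y) := by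
    have := Cfsg.Agent.CharLib.IsIrrCharacter.comp_mulEquiv hres (Subgroup.subgroupOfEquivOfLe hHL)
    have e : ((fun h : H => χ h) ∘ (Subgroup.subgroupOfEquivOfLe hHL)) =
        (fun y : H.subgroupOf L => (fun l : L => χ l) y) := by
      funext y
      rfl
    rw [e] at this
    exact this
  have hirrL : IsIrrCharacter L (fun l : L => χ l) :=
    Cfsg.Agent.CharLib.Ito.isIrrCharacter_of_restrict (H.subgroupOf L) hχL hresL
  -- `g` is central in `L`
  have hz : ∀ h : L, h * (⟨g, hgL⟩ : L) = ⟨g, hgL⟩ * h := by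
    intro h
    apply Subtype.ext
    have := Subgroup.mem_centralizer_singleton_iff.mp (hLc h.2)
    exact this
  have hnorm := norm_eq_of_central (⟨fun l : L => χ l, hirrL⟩ : IrrCharacter L) ⟨g, hgL⟩ hz
  have hdeg : charDegree (fun l : L => χ l) = charDegree χ := charDegree_restrict L χ
  have hnorm' : ‖χ g‖ = (charDegree χ : ℝ) := by
    rw [← hdeg]
    exact hnorm
  exact Cfsg.Agent.Lib.Helper16.BREZCHAR.mem_center_of_norm_eq (⟨χ, hirrG⟩ : IrrCharacter G) hfaith g hnorm'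

end Cfsg.Agent.Lib.Helper9.BRPKERB
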