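/-
helper9: S3282 batch 2, sub-leaf LAT-S `lat_struct` of LAT (notes/S3282_LAT_leaves.lean): the structure of the rows
`m i` forced by the Gram matrix (pure integers).
-/
import Mathlib

set_option autoImplicit false

namespace Cfsg.Agent.Lib.Helper9.BSWCLATS

variable {B I : Type*} [Fintype B] [DecidableEq B] [Fintype I] [DecidableEq I]

omit [Fintype B] in
/-- peel off one signed unit vector from an integer vector of small norm -/
theorem peel (v : B → ℤ) (S : Finset B) (n : ℕ) (hn : n + 1 ≤ 3)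
    (h : ∑ χ ∈ S, (v χ) ^ 2 = (n : ℤ) + 1) :
    ∃ a ∈ S, (v a = 1 ∨ v a = -1) ∧ ∑ χ ∈ S.erase a, (v χ) ^ 2 = n := by
  have hex : ∃ a ∈ S, v a ≠ 0 := by
    by_contra hcon
    push Not at hcon
    have h0 : ∑ χ ∈ S, (v χ) ^ 2 = 0 :=
      Finset.sum_eq_zero (fun χ hχ => by rw [hcon χ hχ]; ring)
    rw [h0] at h
    omega
  obtain ⟨a, ha, hva⟩ := hex
  have hsplit := Finset.add_sum_erase S (fun χ => (v χ) ^ 2) ha
  have hnonneg : 0 ≤ ∑ χ ∈ S.erase a, (v χ) ^ 2 := Finset.sum_nonneg (fun _ _ => sq_nonneg _)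
  have hle : (v a) ^ 2 ≤ 3 := by
    have : (n : ℤ) + 1 ≤ 3 := by exact_mod_cast hn
    linarith
  have hva' : v a = 1 ∨ v a = -1 := by
    have h1 : -1 ≤ v a := by nlinarith
    have h2 : v a ≤ 1 := by nlinarith
    omega
  refine ⟨a, ha, hva', ?_⟩
  have h1 : (v a) ^ 2 = 1 := by rcases hva' with h | h <;> rw [h] <;> norm_num
  linarith

omit [Fintype B] [DecidableEq B] in
theorem zero_of_sum_sq (v : B → ℤ) (S : Finset B) (h : ∑ χ ∈ S, (v χ) ^ 2 = 0) :
    ∀ χ ∈ S, v χ = 0 := by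
  intro χ hχ
  have := (Finset.sum_eq_zero_iff_of_nonneg (fun _ _ => sq_nonneg _)).mp h χ hχ
  exact pow_eq_zero_iff (two_ne_zero) |>.mp this

/-- a vector with `v triv = 1` and norm `3` -/
theorem two_of_norm (v : B → ℤ) (triv : B) (hv : v triv = 1) (hn : ∑ χ, (v χ) ^ 2 = 3) :
    ∃ a₀ a₁ : B, a₀ ≠ a₁ ∧ a₀ ≠ triv ∧ a₁ ≠ triv ∧ (v a₀ = 1 ∨ v a₀ = -1) ∧ (v a₁ = 1 ∨ v a₁ = -1) ∧
      ∀ χ, χ ≠ triv → χ ≠ a₀ → χ ≠ a₁ → v χ = 0 := by
  have h0 : ∑ χ ∈ Finset.univ.erase triv, (v χ) ^ 2 = ((1 : ℕ) : ℤ) + 1 := by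
    have := Finset.add_sum_erase Finset.univ (fun χ => (v χ) ^ 2) (Finset.mem_univ triv)
    simp only [hv] at this
    push_cast
    linarith
  obtain ⟨a₀, ha₀, hv₀, h1⟩ := peel v _ 1 (by norm_num) h0
  have h1' : ∑ χ ∈ (Finset.univ.erase triv).erase a₀, (v χ) ^ 2 = ((0 : ℕ) : ℤ) + 1 := by
    rw [h1]; norm_num
  obtain ⟨a₁, ha₁, hv₁, h2⟩ := peel v _ 0 (by norm_num) h1'
  have hz := zero_of_sum_sq v _ (by rw [h2]; norm_num)
  refine ⟨a₀, a₁, ?_, (Finset.mem_erase.mp ha₀).1, ?_, hv₀, hv₁, ?_⟩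
  · exact fun h => (Finset.mem_erase.mp ha₁).1 h.symm
  · exact (Finset.mem_erase.mp (Finset.mem_erase.mp ha₁).2).1
  · intro χ h1 h2 h3
    apply hz
    simp [Finset.mem_erase, h1, h2, h3]

/-- a vector with `v triv = 1` and norm `4` -/
theorem three_of_norm (v : B → ℤ) (triv : B) (hv : v triv = 1) (hn : ∑ χ, (v χ) ^ 2 = 4) :
    ∃ c : Fin 3 → B, Function.Injective c ∧ (∀ q, c q ≠ triv) ∧ (∀ q, v (c q) = 1 ∨ v (c q) = -1) ∧
      ∀ χ, χ ≠ triv → (∀ q, χ ≠ c q) → v χ = 0 := by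
  have h0 : ∑ χ ∈ Finset.univ.erase triv, (v χ) ^ 2 = ((2 : ℕ) : ℤ) + 1 := by
    have := Finset.add_sum_erase Finset.univ (fun χ => (v χ) ^ 2) (Finset.mem_univ triv)
    simp only [hv] at this
    push_cast
    linarith
  obtain ⟨a₀, ha₀, hv₀, h1⟩ := peel v _ 2 (by norm_num) h0
  have h1' : ∑ χ ∈ (Finset.univ.erase triv).erase a₀, (v χ) ^ 2 = ((1 : ℕ) : ℤ) + 1 := by
    rw [h1]; norm_num
  obtain ⟨a₁, ha₁, hv₁, h2⟩ := peel v _ 1 (by norm_num) h1'
  have h2' : ∑ χ ∈ ((Finset.univ.erase triv).erase a₀).erase a₁, (v χ) ^ 2 = ((0 : ℕ) : ℤ) + 1 := by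
    rw [h2]; norm_num
  obtain ⟨a₂, ha₂, hv₂, h3⟩ := peel v _ 0 (by norm_num) h2'
  have hz := zero_of_sum_sq v _ (by rw [h3]; norm_num)
  have e01 : a₁ ≠ a₀ := (Finset.mem_erase.mp ha₁).1
  have e0t : a₀ ≠ triv := (Finset.mem_erase.mp ha₀).1
  have e1t : a₁ ≠ triv := (Finset.mem_erase.mp (Finset.mem_erase.mp ha₁).2).1
  have e21 : a₂ ≠ a₁ := (Finset.mem_erase.mp ha₂).1
  have e20 : a₂ ≠ a₀ := (Finset.mem_erase.mp (Finset.mem_erase.mp ha₂).2).1
  have e2t : a₂ ≠ triv := (Finset.mem_erase.mp (Finset.mem_erase.mp (Finset.mem_erase.mp ha₂).2).2).1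
  refine ⟨![a₀, a₁, a₂], ?_, ?_, ?_, ?_⟩
  · intro q q' h
    fin_cases q <;> fin_cases q' <;> simp_all
  · intro q
    fin_cases q <;> simp_all
  · intro q
    fin_cases q <;> simp_all
  · intro χ h1 h2
    apply hz
    have q0 := h2 0
    have q1 := h2 1
    have q2 := h2 2
    simp only [Matrix.cons_val_zero, Matrix.cons_val_one, Matrix.cons_val_two, Matrix.head_cons,
      Matrix.tail_cons] at q0 q1 q2
    simp [Finset.mem_erase, h1, q0, q1, q2]

theorem dot (y y' : B) (t t' : ℤ) :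
    ∑ χ, (if χ = y then t else 0) * (if χ = y' then t' else 0) = if y = y' then t * t' else 0 := by
  by_cases h : y = y'
  · subst h
    simp
  · rw [if_neg h]
    apply Finset.sum_eq_zero
    intro χ _
    by_cases h1 : χ = y
    · subst h1; simp [h]
    · simp [h1]

theorem sum3 (g : B → ℤ) (x y z : B) (hxy : x ≠ y) (hxz : x ≠ z) (hyz : y ≠ z)
    (h0 : ∀ χ, χ ≠ x → χ ≠ y → χ ≠ z → g χ = 0) : ∑ χ, g χ = g x + g y + g z := by
  rw [← Finset.sum_subset (Finset.subset_univ ({x, y, z} : Finset B))]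
  · rw [Finset.sum_insert (by simp [hxy, hxz]), Finset.sum_insert (by simp [hyz]),
      Finset.sum_singleton]
    ring
  · intro χ _ hχ
    simp only [Finset.mem_insert, Finset.mem_singleton, not_or] at hχ
    exact h0 χ hχ.1 hχ.2.1 hχ.2.2

theorem dich (x y s t : ℤ) (hx : x = 1 ∨ x = -1) (hy : y = 1 ∨ y = -1)
    (hs : s = 0 ∨ s = 1 ∨ s = -1) (ht : t = 0 ∨ t = 1 ∨ t = -1) (h : x * s + y * t = 1) :
    (x * s = 1 ∧ t = 0) ∨ (y * t = 1 ∧ s = 0) := by
  rcases hx with rfl | rfl <;> rcases hy with rfl | rfl <;> rcases hs with rfl | rfl | rfl <;>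
    rcases ht with rfl | rfl | rfl <;> simp at h ⊢

omit [Fintype B] in
/-- one half of the row decomposition -/
theorem row_decomp_aux (w v : B → ℤ) (triv : B) (c : Fin 3 → B)
    (hwc : ∀ q, w (c q) = 1 ∨ w (c q) = -1)
    (hw0 : ∀ χ, χ ≠ triv → (∀ q, χ ≠ c q) → w χ = 0)
    (hv : v triv = 1) (a a' : B) (haa' : a ≠ a') (hat : a ≠ triv) (hat' : a' ≠ triv)
    (hva : v a = 1 ∨ v a = -1) (hva' : v a' = 1 ∨ v a' = -1)
    (hv0 : ∀ χ, χ ≠ triv → χ ≠ a → χ ≠ a' → v χ = 0)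
    (h1 : v a * w a = 1) (h2 : w a' = 0) :
    ∃ (q : Fin 3) (b : B) (s : ℤ), (s = 1 ∨ s = -1) ∧ b ≠ triv ∧ (∀ q', b ≠ c q') ∧
      ∀ χ, v χ = (if χ = triv then 1 else 0) + (if χ = c q then w (c q) else 0)
        + (if χ = b then s else 0) := by
  have hwa : w a ≠ 0 := by
    intro h; rw [h] at h1; simp at h1
  obtain ⟨q, hq⟩ : ∃ q, a = c q := by
    by_contra hcon
    push Not at hcon
    exact hwa (hw0 a hat hcon)
  have hvw : v a = w a := by
    rcases hva with h | h <;> rcases hwc q with h' | h' <;> rw [← hq] at h' <;> rw [h, h'] at h1 <;>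
      simp at h1 <;> rw [h, h']
  refine ⟨q, a', v a', hva', hat', ?_, ?_⟩
  · intro q' h
    rcases hwc q' with h' | h' <;> rw [← h, h2] at h' <;> simp at h'
  · intro χ
    by_cases h3 : χ = triv
    · subst h3
      have e1 : ¬ (χ = c q) := by rw [← hq]; exact fun h => hat h.symm
      have e2 : ¬ (χ = a') := fun h => hat' h.symm
      simp [hv, e1, e2]
    · by_cases h4 : χ = a
      · subst h4
        have e2 : ¬ (χ = a') := haa'
        simp [h3, e2, ← hq, hvw]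
      · by_cases h5 : χ = a'
        · subst h5
          have e1 : ¬ (χ = c q) := by rw [← hq]; exact h4
          simp [h3, e1]
        · have e1 : ¬ (χ = c q) := by rw [← hq]; exact h4
          simp [h3, h5, e1, hv0 χ h3 h4 h5]

/-- decomposition of a row `v` (norm `3`, `v triv = 1`, inner product `2` with `w`) against `w` -/
theorem row_decomp (w v : B → ℤ) (triv : B) (c : Fin 3 → B)
    (hwc : ∀ q, w (c q) = 1 ∨ w (c q) = -1)
    (hw0 : ∀ χ, χ ≠ triv → (∀ q, χ ≠ c q) → w χ = 0) (hwt : w triv = 1)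
    (hv : v triv = 1) (hn : ∑ χ, (v χ) ^ 2 = 3) (hvw : ∑ χ, v χ * w χ = 2) :
    ∃ (q : Fin 3) (b : B) (s : ℤ), (s = 1 ∨ s = -1) ∧ b ≠ triv ∧ (∀ q', b ≠ c q') ∧
      ∀ χ, v χ = (if χ = triv then 1 else 0) + (if χ = c q then w (c q) else 0)
        + (if χ = b then s else 0) := by
  obtain ⟨a₀, a₁, h01, h0t, h1t, hv₀, hv₁, hz⟩ := two_of_norm v triv hv hn
  have hsum : ∑ χ, v χ * w χ = v triv * w triv + v a₀ * w a₀ + v a₁ * w a₁ := by
    apply sum3 _ triv a₀ a₁ (Ne.symm h0t) (Ne.symm h1t) h01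
    intro χ h1 h2 h3
    rw [hz χ h1 h2 h3, zero_mul]
  rw [hsum, hv, hwt] at hvw
  have hwval : ∀ χ, χ ≠ triv → (w χ = 0 ∨ w χ = 1 ∨ w χ = -1) := by
    intro χ hχ
    by_cases h : ∃ q, χ = c q
    · obtain ⟨q, rfl⟩ := h
      exact Or.inr (hwc q)
    · push Not at h
      exact Or.inl (hw0 χ hχ h)
  rcases dich (v a₀) (v a₁) (w a₀) (w a₁) hv₀ hv₁ (hwval a₀ h0t) (hwval a₁ h1t) (by linarith) with
    ⟨h1, h2⟩ | ⟨h1, h2⟩
  · exact row_decomp_aux w v triv c hwc hw0 hv a₀ a₁ h01 h0t h1t hv₀ hv₁ hz h1 h2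
  · exact row_decomp_aux w v triv c hwc hw0 hv a₁ a₀ (Ne.symm h01) h1t h0t hv₁ hv₀
      (fun χ h1 h2 h3 => hz χ h1 h3 h2) h1 h2

theorem gram_decomp (triv A A' a a' : B) (α α' s s' : ℤ) (hAt : A ≠ triv) (hA't : A' ≠ triv)
    (hat : a ≠ triv) (ha't : a' ≠ triv) (hAa' : A ≠ a') (haA' : a ≠ A') :
    ∑ χ, ((if χ = triv then 1 else 0) + (if χ = A then α else 0) + (if χ = a then s else 0)) *
      ((if χ = triv then (1 : ℤ) else 0) + (if χ = A' then α' else 0) + (if χ = a' then s' else 0)) =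
    1 + (if A = A' then α * α' else 0) + (if a = a' then s * s' else 0) := by
  simp only [add_mul, mul_add, Finset.sum_add_distrib, dot]
  simp [Ne.symm hA't, Ne.symm ha't, hAt, hAa', hat, haA']

omit [Fintype B] in
theorem decomp_unique (triv : B) (c : Fin 3 → B) (hc : Function.Injective c) (hct : ∀ q, c q ≠ triv)
    (e : Fin 3 → ℤ) (he : ∀ q, e q = 1 ∨ e q = -1) (q q' : Fin 3) (a a' : B) (s s' : ℤ)
    (hs : s = 1 ∨ s = -1) (hat : a ≠ triv) (hac : ∀ r, a ≠ c r) (ha'c : ∀ r, a' ≠ c r)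
    (h : ∀ χ : B, ((if χ = triv then 1 else 0) + (if χ = c q then e q else 0) + (if χ = a then s else 0) : ℤ) =
      (if χ = triv then 1 else 0) + (if χ = c q' then e q' else 0) + (if χ = a' then s' else 0)) :
    q' = q ∧ a' = a ∧ s' = s := by
  have hq : q' = q := by
    by_contra hne
    have h1 := h (c q)
    have e1 : ¬ (c q = c q') := fun h' => hne (hc h').symm
    have e2 : ¬ (c q = a) := fun h' => hac q h'.symm
    have e3 : ¬ (c q = a') := fun h' => ha'c q h'.symm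
    simp [hct q, e1, e2, e3] at h1
    rcases he q with h' | h' <;> rw [h'] at h1 <;> norm_num at h1
  subst hq
  have h2 := h a
  have e1 : ¬ (a = c q') := hac q'
  simp only [hat, e1, if_false, if_true, zero_add] at h2
  by_cases haa : a = a'
  · subst haa
    simp at h2
    exact ⟨rfl, rfl, h2.symm⟩
  · simp [haa] at h2
    rcases hs with h' | h' <;> rw [h'] at h2 <;> norm_num at h2

/-- **LAT-S** (structure; pure integer lattice, no degrees / test). -/
theorem lat_struct (inv : I → I) (hinv : ∀ i, inv (inv i) = i) (ν : I) (hν : ∀ i, inv i = i ↔ i = ν)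
    (m : I → B → ℤ) (hminv : ∀ i, m (inv i) = m i)
    (triv : B) (htriv : ∀ i, m i triv = 1)
    (hgram : ∀ i j, ∑ χ, m i χ * m j χ =
      2 + (if i = j then 1 else 0) + (if i = inv j then 1 else 0)) :
    ∃ (c : Fin 3 → B) (e : Fin 3 → ℤ) (p : I → Fin 3) (b : I → B) (fs : I → ℤ),
      Function.Injective c ∧ (∀ q, c q ≠ triv) ∧ (∀ q, e q = 1 ∨ e q = -1) ∧
      (∀ χ, m ν χ = (if χ = triv then 1 else 0) + ∑ q, (if χ = c q then e q else 0)) ∧
      (∀ i, i ≠ ν → (fs i = 1 ∨ fs i = -1) ∧ b i ≠ triv ∧ (∀ q, b i ≠ c q) ∧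
        ∀ χ, m i χ = (if χ = triv then 1 else 0) + (if χ = c (p i) then e (p i) else 0)
          + (if χ = b i then fs i else 0)) ∧
      (∀ i, i ≠ ν → p (inv i) = p i ∧ b (inv i) = b i ∧ fs (inv i) = fs i) ∧
      (∀ i j, i ≠ ν → j ≠ ν → j ≠ i → j ≠ inv i →
        (p i = p j → b i ≠ b j) ∧ (p i ≠ p j → b i = b j ∧ fs i = fs j)) := by
  have hinvν : inv ν = ν := (hν ν).mpr rfl
  have hnν : ∑ χ, (m ν χ) ^ 2 = 4 := by
    have h := hgram ν ν
    simp only [hinvν, if_true] at h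
    simp only [sq]
    linarith
  obtain ⟨c, hc, hct, hwc, hw0⟩ := three_of_norm (m ν) triv (htriv ν) hnν
  have hrow : ∀ i, ∃ (q : Fin 3) (b : B) (s : ℤ), i ≠ ν → ((s = 1 ∨ s = -1) ∧ b ≠ triv ∧
      (∀ q', b ≠ c q') ∧
      ∀ χ, m i χ = (if χ = triv then 1 else 0) + (if χ = c q then m ν (c q) else 0)
        + (if χ = b then s else 0)) := by
    intro i
    by_cases hi : i = ν
    · exact ⟨0, triv, 1, fun h => absurd hi h⟩
    · have hne : ¬ (i = inv i) := fun h => hi ((hν i).mp h.symm)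
      have hni : ∑ χ, (m i χ) ^ 2 = 3 := by
        have h := hgram i i
        simp only [if_true, hne, if_false] at h
        simp only [sq]
        linarith
      have hiν : ∑ χ, m i χ * m ν χ = 2 := by
        have h := hgram i ν
        rw [hinvν] at h
        simp only [hi, if_false] at h
        linarith
      obtain ⟨q, b, s, h⟩ := row_decomp (m ν) (m i) triv c hwc hw0 (htriv ν) (htriv i) hni hiν
      exact ⟨q, b, s, fun _ => h⟩
  choose p b fs hpbs using hrow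
  have hinvne : ∀ i, i ≠ ν → inv i ≠ ν := by
    intro i hi h
    apply hi
    rw [← hinv i, h, hinvν]
  refine ⟨c, fun q => m ν (c q), p, b, fs, hc, hct, hwc, ?_, ?_, ?_, ?_⟩
  · intro χ
    by_cases h1 : χ = triv
    · subst h1
      have : ∀ q, ¬ (χ = c q) := fun q h => hct q h.symm
      simp [htriv ν, this]
    · by_cases h2 : ∃ q₀, χ = c q₀
      · obtain ⟨q₀, rfl⟩ := h2
        simp [h1, hc.eq_iff]
      · push Not at h2
        have : ∀ q, ¬ (χ = c q) := h2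
        simp [h1, this, hw0 χ h1 h2]
  · intro i hi
    exact hpbs i hi
  · intro i hi
    obtain ⟨h1, h2, h3, h4⟩ := hpbs i hi
    obtain ⟨h1', h2', h3', h4'⟩ := hpbs (inv i) (hinvne i hi)
    have := decomp_unique triv c hc hct (fun q => m ν (c q)) hwc (p i) (p (inv i)) (b i) (b (inv i))
      (fs i) (fs (inv i)) h1 h2 h3 h3' (by
        intro χ
        rw [← h4 χ, ← h4' χ, hminv i])
    exact this
  · intro i j hi hj hji hjinv
    obtain ⟨h1, h2, h3, h4⟩ := hpbs i hi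
    obtain ⟨h1', h2', h3', h4'⟩ := hpbs j hj
    have hg := hgram i j
    have e1 : ¬ (i = j) := fun h => hji h.symm
    have e2 : ¬ (i = inv j) := fun h => hjinv (by rw [h, hinv])
    simp only [e1, e2, if_false, add_zero] at hg
    have hg' : ∑ χ, m i χ * m j χ = 1 + (if c (p i) = c (p j) then m ν (c (p i)) * m ν (c (p j)) else 0)
        + (if b i = b j then fs i * fs j else 0) := by
      rw [← gram_decomp triv (c (p i)) (c (p j)) (b i) (b j) _ _ _ _ (hct _) (hct _) h2 h2'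
        (fun h => h3' _ h.symm) (h3 _)]
      apply Finset.sum_congr rfl
      intro χ _
      rw [h4 χ, h4' χ]
    rw [hg'] at hg
    constructor
    · intro hp hb
      rw [hp, hb] at hg
      simp only [if_true] at hg
      have : m ν (c (p j)) * m ν (c (p j)) = 1 := by
        rcases hwc (p j) with h | h <;> rw [h] <;> norm_num
      rw [this] at hg
      rcases h1 with h | h <;> rcases h1' with h' | h' <;> rw [h, h'] at hg <;> norm_num at hg
    · intro hp
      have e3 : ¬ (c (p i) = c (p j)) := fun h => hp (hc h)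
      simp only [e3, if_false, add_zero] at hg
      by_cases hb : b i = b j
      · refine ⟨hb, ?_⟩
        simp only [hb, if_true] at hg
        rcases h1 with h | h <;> rcases h1' with h' | h' <;> rw [h, h'] at hg ⊢ <;> norm_num at hg
      · simp [hb] at hg

end Cfsg.Agent.Lib.Helper9.BSWCLATS
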