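import Cfsg.Agent.Lib.Helper11.CTDData

/-! S3352 CTD leaf **A1** (helper9): the pointwise stabilizer of `e_p, e_q` in `SL(I, F)` is generated by the
transvections `1 + t E_ab` with `b ∉ {p, q}` (from helper4's general `CTASTAB.fix_le_closure`). -/

set_option autoImplicit false

namespace Cfsg.Agent.Lib.Helper9.CTDA1

open Matrix
open Cfsg.Agent.Lib.Helper8.StSL
open Cfsg.Agent.Lib.Helper11.CTA
open Cfsg.Agent.Lib.Helper11.CTD

variable {I : Type*} [Fintype I] [DecidableEq I] {F : Type*} [Field F]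

/-- A1 (STAB2): the pointwise stabilizer of `e_p, e_q` is generated by the transvections `1 + t E_ab`, `b ∉ {p, q}` -/
theorem stab2_le_closure {p q : I} (hpq : p ≠ q) (k : SpecialLinearGroup I F)
    (hp : (k : Matrix I I F) *ᵥ ev p = ev p) (hq : (k : Matrix I I F) *ᵥ ev q = ev q) :
    k ∈ Subgroup.closure {g : SpecialLinearGroup I F | ∃ a b, a ≠ b ∧ b ≠ p ∧ b ≠ q ∧ ∃ t : F, g = tv a b t} := by
  have h := Cfsg.Agent.Lib.Helper4.CTASTAB.fix_le_closure (F := F) _ {p, q} rfl k (by
    intro j hj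
    rw [Finset.mem_insert, Finset.mem_singleton] at hj
    rcases hj with rfl | rfl
    · exact hp
    · exact hq)
  refine Subgroup.closure_mono ?_ h
  rintro g ⟨a, b, hab, hb, t, rfl⟩
  refine ⟨a, b, hab, fun hbp => hb ?_, fun hbq => hb ?_, t, rfl⟩
  · rw [hbp]
    exact Finset.mem_insert_self _ _
  · rw [hbq]
    exact Finset.mem_insert_of_mem (Finset.mem_singleton_self _)

end Cfsg.Agent.Lib.Helper9.CTDA1
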