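import Cfsg.Agent.Lib.Helper11.CTDData

/-! S3352 CTD leaf **A4** (helper9): conjugating a transvection `1 + t E_ab` by `g` with `g e_a = e_c` and
`g^{-T} e_b = e_d` gives `1 + t E_cd`. -/

set_option autoImplicit false

namespace Cfsg.Agent.Lib.Helper9.CTDA4

open Matrix
open Cfsg.Agent.Lib.Helper8.StSL
open Cfsg.Agent.Lib.Helper11.CTA
open Cfsg.Agent.Lib.Helper11.CTD

variable {I : Type*} [Fintype I] [DecidableEq I] {F : Type*} [Field F]

/-- A4 (CONJTV): conjugating a transvection -/
theorem conj_tv_of_mulVec (g : SpecialLinearGroup I F) {a b c d : I} (hab : a ≠ b) (hcd : c ≠ d)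
    (h1 : (g : Matrix I I F) *ᵥ ev a = ev c)
    (h2 : ((itSL g : SpecialLinearGroup I F) : Matrix I I F) *ᵥ ev b = ev d) (t : F) :
    g * tv a b t * g⁻¹ = tv c d t := by
  have hg : ∀ i, (g : Matrix I I F) i a = if i = c then 1 else 0 := by
    intro i
    have h := congrFun h1 i
    rw [Matrix.mulVec_single_one] at h
    rw [show (g : Matrix I I F) i a = (g : Matrix I I F).col a i from rfl, h]
    exact Pi.single_apply c (1 : F) i
  have hg' : ∀ j, ((g⁻¹ : SpecialLinearGroup I F) : Matrix I I F) b j = if j = d then 1 else 0 := by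
    intro j
    have h := congrFun h2 j
    rw [itSL_mulVec, Matrix.single_one_vecMul] at h
    rw [show ((g⁻¹ : SpecialLinearGroup I F) : Matrix I I F) b j =
      ((g⁻¹ : SpecialLinearGroup I F) : Matrix I I F).row b j from rfl, h]
    exact Pi.single_apply d (1 : F) j
  suffices key : ((g * tv a b t * g⁻¹ : SpecialLinearGroup I F) : Matrix I I F) =
      ((tv c d t : SpecialLinearGroup I F) : Matrix I I F) from Subtype.ext key
  rw [Matrix.SpecialLinearGroup.coe_mul, Matrix.SpecialLinearGroup.coe_mul, tv_coe hab, tv_coe hcd, mul_add, add_mul,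
    mul_one, ← Matrix.SpecialLinearGroup.coe_mul, mul_inv_cancel, Matrix.SpecialLinearGroup.coe_one]
  congr 1
  ext i j
  rw [Matrix.mul_apply, Finset.sum_eq_single b]
  · rw [Matrix.mul_single_apply_same, hg, hg', Matrix.single_apply]
    by_cases hi : i = c <;> by_cases hj : j = d
    · subst hi; subst hj; simp
    · subst hi; simp [hj, Ne.symm hj]
    · subst hj; simp [hi, Ne.symm hi]
    · simp [hi, hj, Ne.symm hi]
  · intro k _ hk
    rw [Matrix.mul_single_apply_of_ne t a b i k hk, zero_mul]
  · intro h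
    exact absurd (Finset.mem_univ b) h

end Cfsg.Agent.Lib.Helper9.CTDA4
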