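/-
helper9: Package E of helper23's S4064 project (CTI-groups): the main induction
`tri_of_isCTI_of` (parametrized by the other packages) and the final glue `S4064_of_tri`.
-/
import Cfsg.Agent.Lib.Helper23.CTIDefs
import Cfsg.Agent.Lib.Helper17.CTIA1
import Cfsg.Agent.Lib.Helper9.Transport
import Cfsg.Agent.Lib.Lead.FrobConj
import Cfsg.Agent.S0042
import Cfsg.Agent.S0183

set_option autoImplicit false

namespace Cfsg.Agent.Lib.Helper9.CTIE

open Cfsg Cfsg.Agent.Lib.Helper23.CTI

/-- a Frobenius group has a nontrivial normal nilpotent subgroup (its kernel), hence a nontrivial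
Fitting subgroup -/
theorem fitting_ne_bot_of_frobAlt {G : Type*} [Group G] [Finite G] (h : FrobAlt G) :
    Cfsg.fittingSubgroup G ≠ ⊥ := by
  obtain ⟨H, hH, _⟩ := h
  obtain ⟨K, hK, hKn, _, hKne, _⟩ := Cfsg.Agent.CharLib.frob_setup H hH
  obtain ⟨N, hN, hNn, hNnil⟩ := Cfsg.Agent.S0042.result H hH
  have hNK : N = K := SetLike.coe_injective (hN.trans hK.symm)
  subst hNK
  intro hbot
  apply hKne
  have := Cfsg.Agent.Lib.Helper1.le_fittingSubgroup hNn hNnil
  rw [hbot] at this
  exact le_bot_iff.mp this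

/-- the image in `G` of the Fitting subgroup of a normal subgroup is normal and nilpotent -/
theorem fitting_image {G : Type*} [Group G] [Finite G] (G₁ : Subgroup G) [G₁.Normal] :
    ((Cfsg.fittingSubgroup ↥G₁).map G₁.subtype).Normal ∧
      Group.IsNilpotent ↥((Cfsg.fittingSubgroup ↥G₁).map G₁.subtype) := by
  refine ⟨ConjAct.normal_of_characteristic_of_normal, ?_⟩
  have := Cfsg.Agent.Lib.Helper1.fittingSubgroup_isNilpotent ↥G₁
  exact Group.nilpotent_of_mulEquiv
    ((Cfsg.fittingSubgroup ↥G₁).equivMapOfInjective G₁.subtype G₁.subtype_injective)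

/-- PACKAGE E: the main induction of S4064, parametrized by packages A3, A4, B and the simple
case. -/
theorem tri_of_isCTI_of.{u}
    (hA3 : ∀ (G : Type u) [Group G] [Finite G], IsCTI G → Subgroup.center G ≠ ⊥ →
      Group.IsNilpotent G)
    (hA4 : ∀ (G : Type u) [Group G] [Finite G], IsCTI G → Subgroup.center G = ⊥ →
      ∀ (A : Subgroup G) [A.Normal], Group.IsNilpotent A → A ≠ ⊥ →
        (∀ K : Subgroup G, K ≠ ⊤ → Tri K) → FrobAlt G)
    (hB : ∀ (G : Type u) [Group G] [Finite G], IsCTI G → ∀ (S : Subgroup G) [S.Normal],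
      PSLlike S → S = ⊤)
    (hS : ∀ (G : Type u) [Group G] [Finite G], IsCTI G → IsSimpleGroup G →
      ¬ IsMulCommutative G → Even (Nat.card G) → PSLlike G)
    (G : Type u) [Group G] [Finite G] (h : IsCTI G) : Tri G := by
  suffices H : ∀ n : ℕ, ∀ (G : Type u) [Group G] [Finite G], Nat.card G = n → IsCTI G → Tri G from
    H _ G rfl h
  intro n
  induction n using Nat.strong_induction_on with
  | _ n ih =>
    intro G _ _ hn h
    have IH : ∀ K : Subgroup G, K ≠ ⊤ → Tri K := by
      intro K hK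
      have hlt : Nat.card K < n := by
        rw [← hn]
        rcases lt_or_eq_of_le (Subgroup.card_le_card_group K) with h' | h'
        · exact h'
        · exact absurd ((Subgroup.card_eq_iff_eq_top K).mp h') hK
      exact ih _ hlt K rfl (Cfsg.Agent.Lib.Helper17.CTIA.isCTI_subgroup h K)
    by_cases hZ : Subgroup.center G ≠ ⊥
    · exact Or.inl (hA3 G h hZ)
    rw [not_not] at hZ
    by_cases hA : ∃ A : Subgroup G, A.Normal ∧ Group.IsNilpotent A ∧ A ≠ ⊥
    · obtain ⟨A, hAn, hAnil, hA1⟩ := hA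
      exact Or.inr (Or.inl (hA4 G h hZ A hAnil hA1 IH))
    by_cases htriv : Subsingleton G
    · exact Or.inl inferInstance
    have hnt : Nontrivial G := not_subsingleton_iff_nontrivial.mp htriv
    -- `G` is simple
    have hsimple : IsSimpleGroup G := by
      refine { exists_pair_ne := hnt.exists_pair_ne, eq_bot_or_eq_top_of_normal := ?_ }
      intro G₁ hG₁
      by_contra hne
      rw [not_or] at hne
      obtain ⟨hb, ht⟩ := hne
      rcases IH G₁ ht with hnil | hfrob | hpsl
      · exact hA ⟨G₁, hG₁, hnil, hb⟩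
      · have hF := fitting_ne_bot_of_frobAlt hfrob
        obtain ⟨h1, h2⟩ := fitting_image G₁
        refine hA ⟨_, h1, h2, ?_⟩
        intro hbot
        apply hF
        rw [Subgroup.map_eq_bot_iff_of_injective _ G₁.subtype_injective] at hbot
        exact hbot
      · exact ht (hB G h G₁ hpsl)
    -- `G` is not commutative since its centre is trivial
    have hnc : ¬ IsMulCommutative G := by
      intro hc
      obtain ⟨x, hx⟩ := exists_ne (1 : G)
      have hxc : x ∈ Subgroup.center G := by
        rw [Subgroup.mem_center_iff]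
        intro y
        exact hc.is_comm.comm y x
      rw [hZ, Subgroup.mem_bot] at hxc
      exact hx hxc
    rcases Nat.even_or_odd (Nat.card G) with heven | hodd
    · exact Or.inr (Or.inr (hS G h hsimple hnc heven))
    · exfalso
      have hCN : Cfsg.IsCNGroup G := fun g hg => Cfsg.Agent.Lib.Helper17.CTIA.isCTI_cn h g hg
      have hsol : Group.IsSolvable G := Cfsg.Agent.S0183.result hodd hCN
      have hcomm := (IsSimpleGroup.comm_iff_isSolvable (G := G)).2 hsol
      exact hnc ⟨⟨fun a b => hcomm a b⟩⟩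

/-- the exact conclusion of S4064 from the trichotomy, given Package D -/
theorem S4064_of_tri.{u}
    (hD : ∀ (G : Type u) [Group G] [Finite G], PSLlike G → ∃ n : ℕ, 2 ≤ n ∧
      Nonempty (G ≃* Matrix.ProjectiveSpecialLinearGroup (Fin 2) (GaloisField 2 n)))
    {G : Type u} [Group G] [Finite G] (h : Tri G) :
    Group.IsNilpotent G ∨
    (∃ H : Subgroup G, Cfsg.IsFrobeniusComplement H ∧
      (IsCyclic H ∨ ∃ m : ℕ, Odd m ∧
        Nonempty (H ≃* Multiplicative (ZMod m) × QuaternionGroup 2))) ∨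
    (∃ n : ℕ, 2 ≤ n ∧
      Nonempty (G ≃* Matrix.ProjectiveSpecialLinearGroup (Fin 2) (GaloisField 2 n))) := by
  rcases h with h | h | h
  · exact Or.inl h
  · exact Or.inr (Or.inl h)
  · exact Or.inr (Or.inr (hD G h))

/-- S4064 from all the packages (hypothesis `hTI` in the form of the frozen statement) -/
theorem S4064_of.{u}
    (hA3 : ∀ (G : Type u) [Group G] [Finite G], IsCTI G → Subgroup.center G ≠ ⊥ →
      Group.IsNilpotent G)
    (hA4 : ∀ (G : Type u) [Group G] [Finite G], IsCTI G → Subgroup.center G = ⊥ →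
      ∀ (A : Subgroup G) [A.Normal], Group.IsNilpotent A → A ≠ ⊥ →
        (∀ K : Subgroup G, K ≠ ⊤ → Tri K) → FrobAlt G)
    (hB : ∀ (G : Type u) [Group G] [Finite G], IsCTI G → ∀ (S : Subgroup G) [S.Normal],
      PSLlike S → S = ⊤)
    (hS : ∀ (G : Type u) [Group G] [Finite G], IsCTI G → IsSimpleGroup G →
      ¬ IsMulCommutative G → Even (Nat.card G) → PSLlike G)
    (hD : ∀ (G : Type u) [Group G] [Finite G], PSLlike G → ∃ n : ℕ, 2 ≤ n ∧
      Nonempty (G ≃* Matrix.ProjectiveSpecialLinearGroup (Fin 2) (GaloisField 2 n)))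
    {G : Type u} [Group G] [Finite G]
    (hTI : ∀ x : G, Cfsg.IsTISubset (Subgroup.centralizer ({x} : Set G) : Set G)) :
    Group.IsNilpotent G ∨
    (∃ H : Subgroup G, Cfsg.IsFrobeniusComplement H ∧
      (IsCyclic H ∨ ∃ m : ℕ, Odd m ∧
        Nonempty (H ≃* Multiplicative (ZMod m) × QuaternionGroup 2))) ∨
    (∃ n : ℕ, 2 ≤ n ∧
      Nonempty (G ≃* Matrix.ProjectiveSpecialLinearGroup (Fin 2) (GaloisField 2 n))) :=
  S4064_of_tri hD (tri_of_isCTI_of hA3 hA4 hB hS G hTI)

end Cfsg.Agent.Lib.Helper9.CTIE
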