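import Mathlib

set_option autoImplicit false
set_option linter.unusedSectionVars false
set_option linter.style.haveILetI false

namespace Cfsg.Agent.Lib.Helper9.ClassTwoBound

theorem card_hom_le (Y : Type*) [CommGroup Y] [Finite Y] : Nat.card (Y →* ℤˣ) ≤ Nat.card Y := by
  haveI : NeZero (Monoid.exponent Y) := ⟨Monoid.exponent_ne_zero_of_finite⟩
  have h := CommGroup.card_monoidHom_of_hasEnoughRootsOfUnity Y ℂ
  rw [← h]
  let ι : ℤˣ →* ℂˣ := Units.map (Int.castRingHom ℂ).toMonoidHom
  have hι : Function.Injective ι := by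
    intro a b hab
    have : ((ι a : ℂˣ) : ℂ) = ((ι b : ℂˣ) : ℂ) := by rw [hab]
    simp only [ι, Units.coe_map, RingHom.toMonoidHom_eq_coe, MonoidHom.coe_coe, eq_intCast] at this
    exact Units.ext (by exact_mod_cast this)
  haveI : Finite (Y →* ℂˣ) := Nat.finite_of_card_ne_zero (by rw [h]; exact Nat.card_pos.ne')
  apply Nat.card_le_card_of_injective (fun φ : Y →* ℤˣ => ι.comp φ)
  intro φ ψ hφψ
  ext y
  have := DFunLike.congr_fun hφψ y
  have h2 : ι (φ y) = ι (ψ y) := this
  rw [hι h2]

section

variable {E : Type*} [Group E]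

open Classical in
/-- The commutation sign. -/
noncomputable def csign (x y : E) : ℤˣ := if x * y = y * x then 1 else -1

theorem csign_eq_one_iff (x y : E) : csign x y = 1 ↔ x * y = y * x := by
  unfold csign
  split_ifs with h
  · simp [h]
  · simp only [h, iff_false]
    decide

theorem csign_symm (x y : E) : csign x y = csign y x := by
  unfold csign
  by_cases h : x * y = y * x
  · rw [if_pos h, if_pos h.symm]
  · rw [if_neg h, if_neg (fun h' => h h'.symm)]

variable (z : E) (hz : z ≠ 1) (hz2 : z * z = 1) (hzc : ∀ x : E, z * x = x * z)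
  (hcomm : ∀ x y : E, x * y = y * x ∨ x * y = z * (y * x))

include hz hz2 hzc hcomm

theorem csign_mul_right (e a b : E) : csign e (a * b) = csign e a * csign e b := by
  have key : ∀ x y : E, csign x y = -1 → x * y = z * (y * x) := by
    intro x y h
    rcases hcomm x y with h1 | h1
    · rw [(csign_eq_one_iff x y).2 h1] at h
      exact absurd h (by decide)
    · exact h1
  have hne : ∀ x y : E, x * y = z * (y * x) → csign x y = -1 := by
    intro x y h
    unfold csign
    rw [if_neg]
    intro h'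
    rw [h'] at h
    apply hz
    have := mul_right_cancel (a := z) (b := y * x) (c := 1) (by rw [one_mul]; exact h.symm)
    exact this
  have hcases : ∀ x y : E, csign x y = 1 ∨ csign x y = -1 := by
    intro x y
    unfold csign
    split_ifs <;> simp
  rcases hcases e a with ha | ha <;> rcases hcases e b with hb | hb
  · rw [ha, hb, one_mul, csign_eq_one_iff]
    rw [csign_eq_one_iff] at ha hb
    rw [← mul_assoc, ha, mul_assoc, hb, mul_assoc]
  · rw [ha, hb, one_mul]
    apply hne
    rw [csign_eq_one_iff] at ha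
    have hb' := key e b hb
    rw [← mul_assoc, ha, mul_assoc, hb', ← mul_assoc, ← mul_assoc, ← hzc a, mul_assoc, mul_assoc, mul_assoc]
  · rw [ha, hb, mul_one]
    apply hne
    rw [csign_eq_one_iff] at hb
    have ha' := key e a ha
    rw [← mul_assoc, ha', mul_assoc, mul_assoc, hb, mul_assoc]
  · rw [ha, hb]
    have ha' := key e a ha
    have hb' := key e b hb
    have : csign e (a * b) = 1 := by
      rw [csign_eq_one_iff, ← mul_assoc, ha', mul_assoc, mul_assoc, hb']
      calc z * (a * (z * (b * e))) = z * (a * z * (b * e)) := by rw [mul_assoc a z]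
        _ = z * (z * a * (b * e)) := by rw [hzc a]
        _ = z * z * (a * (b * e)) := by simp only [mul_assoc]
        _ = a * b * e := by rw [hz2, one_mul, mul_assoc]
    rw [this]
    decide

theorem csign_mul_left (e e' a : E) : csign (e * e') a = csign e a * csign e' a := by
  rw [csign_symm, csign_mul_right z hz hz2 hzc hcomm, csign_symm a e, csign_symm a e']

theorem card_mul_card_le [Finite E] (A S : Subgroup E) (hA : ∀ a ∈ A, ∀ b ∈ A, a * b = b * a)
    (hmax : ∀ e : E, (∀ a ∈ A, e * a = a * e) → e ∈ A)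
    (hSA : S ≤ A) (hS : ∀ s ∈ S, ∀ e : E, e * s = s * e) :
    Nat.card E * Nat.card S ≤ Nat.card A * Nat.card A := by
  letI : CommGroup A :=
    { (inferInstance : Group A) with mul_comm := fun a b => Subtype.ext (hA a a.2 b b.2) }
  let S' : Subgroup A := S.subgroupOf A
  let lam : E → (A →* ℤˣ) := fun e =>
    { toFun := fun a => csign e (a : E)
      map_one' := by
        change csign e ((1 : A) : E) = 1
        rw [Subgroup.coe_one, csign_eq_one_iff, mul_one, one_mul]
      map_mul' := fun a b => by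
        change csign e ((a * b : A) : E) = csign e a * csign e b
        rw [Subgroup.coe_mul, csign_mul_right z hz hz2 hzc hcomm] }
  have hlam : ∀ e (a : A), lam e a = csign e (a : E) := fun _ _ => rfl
  have hker : ∀ e, S' ≤ (lam e).ker := by
    intro e a ha
    rw [MonoidHom.mem_ker, hlam, csign_eq_one_iff]
    exact hS a (Subgroup.mem_subgroupOf.1 ha) e
  let Ψ : E →* ((A ⧸ S') →* ℤˣ) :=
    { toFun := fun e => QuotientGroup.lift S' (lam e) (hker e)
      map_one' := by
        ext a
        change ((lam 1 a : ℤˣ) : ℤ) = ((1 : ℤˣ) : ℤ)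
        rw [hlam, (csign_eq_one_iff _ _).2 (by rw [one_mul, mul_one])]
      map_mul' := fun e e' => by
        ext a
        change ((lam (e * e') a : ℤˣ) : ℤ) = ((lam e a * lam e' a : ℤˣ) : ℤ)
        rw [hlam, hlam, hlam, csign_mul_left z hz hz2 hzc hcomm] }
  have hΨ : ∀ e (a : A), Ψ e (QuotientGroup.mk a) = csign e (a : E) := fun _ _ => rfl
  have hΨker : Ψ.ker ≤ A := by
    intro e he
    apply hmax
    intro a ha
    rw [MonoidHom.mem_ker] at he
    have := DFunLike.congr_fun he (QuotientGroup.mk (⟨a, ha⟩ : A))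
    rw [hΨ, MonoidHom.one_apply, csign_eq_one_iff] at this
    exact this
  have h1 := Subgroup.card_mul_index Ψ.ker
  rw [Subgroup.index_ker] at h1
  have h2 : Nat.card Ψ.range ≤ Nat.card ((A ⧸ S') →* ℤˣ) := by
    haveI : Finite ((A ⧸ S') →* ℤˣ) := by
      apply Finite.of_injective (fun φ : (A ⧸ S') →* ℤˣ => (φ : (A ⧸ S') → ℤˣ))
      exact DFunLike.coe_injective
    exact Nat.card_le_card_of_injective _ Subtype.val_injective
  have h3 := card_hom_le (A ⧸ S')
  have h4 := Subgroup.card_eq_card_quotient_mul_card_subgroup S'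
  have h5 : Nat.card S' = Nat.card S := Nat.card_congr (Subgroup.subgroupOfEquivOfLe hSA).toEquiv
  have h6 : Nat.card Ψ.ker ≤ Nat.card A := Subgroup.card_le_of_le hΨker
  calc Nat.card E * Nat.card S = Nat.card Ψ.ker * Nat.card Ψ.range * Nat.card S := by rw [h1]
    _ ≤ Nat.card A * Nat.card (A ⧸ S') * Nat.card S' := by
        rw [h5]
        exact Nat.mul_le_mul_right _ (Nat.mul_le_mul h6 (h2.trans h3))
    _ = Nat.card A * Nat.card A := by rw [mul_assoc, ← h4]

end

section main

variable {E : Type*} [Group E] [Finite E]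
  (z : E) (hz : z ≠ 1) (hz2 : z * z = 1) (hzc : ∀ x : E, z * x = x * z)
  (hcomm : ∀ x y : E, x * y = y * x ∨ x * y = z * (y * x))
  (hsq : ∀ x : E, x * x = 1 ∨ x * x = z)

include hz hz2 hzc hcomm hsq

theorem card_le_two_pow (m : ℕ)
    (h_ab : ∀ B : Subgroup E, (∀ a ∈ B, ∀ b ∈ B, a * b = b * a) → (∀ b ∈ B, b * b = 1) →
      Nat.card B ≤ 2 ^ m)
    (h_ext : ∀ B : Subgroup E, (∀ a ∈ B, ∀ b ∈ B, a * b = b * a) → (∀ b ∈ B, b * b = 1) →
      z ∈ B → Nat.card B = 2 ^ m → ∃ a ∈ B, a ≠ 1 ∧ a ≠ z ∧ ∀ e : E, e * a = a * e) :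
    Nat.card E ≤ 2 ^ (2 * m) := by
  classical
  -- a maximal abelian subgroup containing `z`
  let 𝒜 := {A : Subgroup E // (∀ a ∈ A, ∀ b ∈ A, a * b = b * a) ∧ z ∈ A}
  have hne : Nonempty 𝒜 := by
    refine ⟨⟨Subgroup.zpowers z, ?_, Subgroup.mem_zpowers z⟩⟩
    intro a ha b hb
    obtain ⟨i, rfl⟩ := Subgroup.mem_zpowers_iff.1 ha
    obtain ⟨j, rfl⟩ := Subgroup.mem_zpowers_iff.1 hb
    exact (Commute.refl z).zpow_zpow i j
  obtain ⟨⟨A, hAc, hzA⟩, hAmax⟩ := Finite.exists_max (fun A : 𝒜 => Nat.card A.1)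
  have hmax : ∀ e : E, (∀ a ∈ A, e * a = a * e) → e ∈ A := by
    intro e he
    let T : Set E := insert e (A : Set E)
    have hT : T ⊆ Subgroup.centralizer T := by
      intro x hx
      rw [SetLike.mem_coe, Subgroup.mem_centralizer_iff]
      intro y hy
      rcases hx with rfl | hx <;> rcases hy with rfl | hy
      · rfl
      · exact (he y hy).symm
      · exact he x hx
      · exact hAc y hy x hx
    have hcl : Subgroup.closure T ≤ Subgroup.centralizer (Subgroup.closure T : Set E) := by
      rw [Subgroup.centralizer_closure]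
      rw [Subgroup.closure_le]
      exact hT
    have hA' : ∀ a ∈ Subgroup.closure T, ∀ b ∈ Subgroup.closure T, a * b = b * a := by
      intro a ha b hb
      have := Subgroup.mem_centralizer_iff.1 (hcl hb) a ha
      exact this
    have hle : A ≤ Subgroup.closure T := by
      intro a ha
      exact Subgroup.subset_closure (Set.mem_insert_of_mem _ ha)
    have h1 := hAmax ⟨Subgroup.closure T, hA', hle hzA⟩
    have h2 : Subgroup.closure T = A := (Subgroup.eq_of_le_of_card_ge hle h1).symm
    rw [← h2]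
    exact Subgroup.subset_closure (Set.mem_insert _ _)
  -- the elements of `A` of order at most two
  let B : Subgroup E :=
    { carrier := {a | a ∈ A ∧ a * a = 1}
      mul_mem' := by
        rintro a b ⟨ha, ha2⟩ ⟨hb, hb2⟩
        refine ⟨A.mul_mem ha hb, ?_⟩
        calc a * b * (a * b) = a * (b * a) * b := by simp only [mul_assoc]
          _ = a * (a * b) * b := by rw [hAc b hb a ha]
          _ = (a * a) * (b * b) := by simp only [mul_assoc]
          _ = 1 := by rw [ha2, hb2, one_mul]
      one_mem' := ⟨A.one_mem, one_mul 1⟩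
      inv_mem' := by
        rintro a ⟨ha, ha2⟩
        refine ⟨A.inv_mem ha, ?_⟩
        rw [← mul_inv_rev, ha2, inv_one] }
  have hBA : B ≤ A := fun a ha => ha.1
  have hBc : ∀ a ∈ B, ∀ b ∈ B, a * b = b * a := fun a ha b hb => hAc a ha.1 b hb.1
  have hB2 : ∀ b ∈ B, b * b = 1 := fun b hb => hb.2
  have hzB : z ∈ B := ⟨hzA, hz2⟩
  -- `|A| ≤ 2 |B|`
  have hAB : Nat.card A ≤ 2 * Nat.card B := by
    by_cases hex : ∃ a₀ ∈ A, a₀ * a₀ ≠ 1
    · obtain ⟨a₀, ha₀, ha₀2⟩ := hex
      have ha₀z : a₀ * a₀ = z := (hsq a₀).resolve_left ha₀2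
      let φ : A → B × Bool := fun a =>
        if h : (a : E) * a = 1 then (⟨a, a.2, h⟩, false)
        else (⟨a₀⁻¹ * a, A.mul_mem (A.inv_mem ha₀) a.2, by
          have haz : (a : E) * a = z := (hsq a).resolve_left h
          calc a₀⁻¹ * a * (a₀⁻¹ * a) = a₀⁻¹ * (a * a₀⁻¹) * a := by simp only [mul_assoc]
            _ = a₀⁻¹ * (a₀⁻¹ * a) * a := by rw [hAc a a.2 a₀⁻¹ (A.inv_mem ha₀)]
            _ = (a₀ * a₀)⁻¹ * (a * a) := by simp only [mul_assoc, mul_inv_rev]
            _ = 1 := by rw [ha₀z, haz, inv_mul_cancel]⟩, true)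
      have hφ : Function.Injective φ := by
        intro a b hab
        by_cases ha : (a : E) * a = 1 <;> by_cases hb : (b : E) * b = 1
        · simp only [φ, dif_pos ha, dif_pos hb, Prod.mk.injEq, and_true] at hab
          have h3 : (a : E) = b := congrArg (fun x : B => (x : E)) hab
          exact Subtype.ext h3
        · simp only [φ, dif_pos ha, dif_neg hb, Prod.mk.injEq] at hab
          exact absurd hab.2 (by decide)
        · simp only [φ, dif_neg ha, dif_pos hb, Prod.mk.injEq] at hab
          exact absurd hab.2 (by decide)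
        · simp only [φ, dif_neg ha, dif_neg hb, Prod.mk.injEq, and_true] at hab
          have h3 : a₀⁻¹ * (a : E) = a₀⁻¹ * b := congrArg (fun x : B => (x : E)) hab
          exact Subtype.ext (mul_left_cancel h3)
      have := Nat.card_le_card_of_injective φ hφ
      rwa [Nat.card_prod, Nat.card_eq_fintype_card (α := Bool), Fintype.card_bool, mul_comm] at this
    · push Not at hex
      have : A ≤ B := fun a ha => ⟨ha, hex a ha⟩
      have := Subgroup.card_le_of_le this
      omega
  -- `|B|` is a power of two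
  have hBp : IsPGroup 2 B := by
    intro b
    refine ⟨1, ?_⟩
    rw [pow_one, pow_two]
    exact Subtype.ext (hB2 b b.2)
  obtain ⟨k, hk⟩ := hBp.exists_card_eq
  have hBle := h_ab B hBc hB2
  rw [hk] at hBle
  have hkm : k ≤ m := (Nat.pow_le_pow_iff_right (by norm_num)).1 hBle
  rcases Nat.lt_or_ge k m with hlt | hge
  · -- small `B`
    have h1 : Nat.card B ≤ 2 ^ (m - 1) := by
      rw [hk]
      exact Nat.pow_le_pow_right (by norm_num) (by omega)
    have h2 : Nat.card A ≤ 2 ^ m := by
      calc Nat.card A ≤ 2 * Nat.card B := hAB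
        _ ≤ 2 * 2 ^ (m - 1) := Nat.mul_le_mul_left _ h1
        _ = 2 ^ m := by rw [← pow_succ']; congr 1; omega
    have h3 := card_mul_card_le z hz hz2 hzc hcomm A ⊥ hAc hmax bot_le (by
      intro s hs e
      rw [Subgroup.mem_bot] at hs
      rw [hs, mul_one, one_mul])
    rw [Subgroup.card_bot, mul_one] at h3
    calc Nat.card E ≤ Nat.card A * Nat.card A := h3
      _ ≤ 2 ^ m * 2 ^ m := Nat.mul_le_mul h2 h2
      _ = 2 ^ (2 * m) := by rw [← pow_add, two_mul]
  · -- extremal `B`
    have hkm' : k = m := le_antisymm hkm hge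
    rw [hkm'] at hk
    obtain ⟨a, haB, ha1, haz, hac⟩ := h_ext B hBc hB2 hzB hk
    let S : Subgroup E := Subgroup.center E ⊓ A
    have hzS : z ∈ S :=
      Subgroup.mem_inf.2 ⟨Subgroup.mem_center_iff.2 (fun g => (hzc g).symm), hzA⟩
    have haS : a ∈ S :=
      Subgroup.mem_inf.2 ⟨Subgroup.mem_center_iff.2 (fun g => hac g), hBA haB⟩
    have hord : orderOf z = 2 := by
      haveI : Fact (Nat.Prime 2) := ⟨Nat.prime_two⟩
      exact orderOf_eq_prime (by rw [pow_two]; exact hz2) hz
    have hZS : Subgroup.zpowers z ≤ S := by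
      rw [Subgroup.zpowers_le]
      exact hzS
    have hcardZ : Nat.card (Subgroup.zpowers z) = 2 := by
      rw [Nat.card_zpowers, hord]
    have haZ : a ∉ Subgroup.zpowers z := by
      intro h
      obtain ⟨i, hi⟩ := Subgroup.mem_zpowers_iff.1 h
      rw [← zpow_mod_orderOf, hord, Nat.cast_ofNat] at hi
      rcases Int.emod_two_eq_zero_or_one i with h0 | h0
      · rw [h0] at hi
        simp at hi
        exact ha1 hi.symm
      · rw [h0] at hi
        simp at hi
        exact haz hi.symm
    have hdvd := Subgroup.card_dvd_of_le hZS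
    rw [hcardZ] at hdvd
    have hne2 : Nat.card S ≠ 2 := by
      intro h
      have : Subgroup.zpowers z = S := Subgroup.eq_of_le_of_card_ge hZS (by rw [h, hcardZ])
      exact haZ (this ▸ haS)
    have hpos : 0 < Nat.card S := Nat.card_pos
    have h4 : 4 ≤ Nat.card S := by
      obtain ⟨c, hc⟩ := hdvd
      omega
    have h3 := card_mul_card_le z hz hz2 hzc hcomm A S hAc hmax inf_le_right (by
      intro s hs e
      exact (Subgroup.mem_center_iff.1 (Subgroup.mem_inf.1 hs).1 e))
    have h2 : Nat.card A ≤ 2 * 2 ^ m := by rw [← hk]; exact hAB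
    have h5 : Nat.card E * 4 ≤ 4 * 2 ^ (2 * m) := by
      calc Nat.card E * 4 ≤ Nat.card E * Nat.card S := Nat.mul_le_mul_left _ h4
        _ ≤ Nat.card A * Nat.card A := h3
        _ ≤ (2 * 2 ^ m) * (2 * 2 ^ m) := Nat.mul_le_mul h2 h2
        _ = 4 * 2 ^ (2 * m) := by rw [two_mul m, pow_add]; ring
    omega

end main

end Cfsg.Agent.Lib.Helper9.ClassTwoBound
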