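/-
Helper9 library: the commuting graph on elementary abelian `p`-subgroups of order at least `p ^ k`
(`Cfsg.IsKConnected`), conjugation invariance, connectedness inside a `p`-subgroup,
and the equivalence "strongly `p`-embedded subgroup iff not `1`-connected".
-/
import Mathlib
import Cfsg.Prelude.Def_Balance

set_option autoImplicit false

open scoped Pointwise

namespace Cfsg.Agent.Lib.Helper9

universe u

variable {G : Type u} [Group G]

/-- the edge relation of the commuting graph -/
def KRel (p k : ℕ) (A B : Subgroup G) : Prop :=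
  Cfsg.IsElementaryAbelian p A ∧ p ^ k ≤ Nat.card ↥A ∧ Cfsg.IsElementaryAbelian p B ∧
    p ^ k ≤ Nat.card ↥B ∧ ∀ a ∈ A, ∀ b ∈ B, a * b = b * a

theorem isKConnected_iff (p k : ℕ) : Cfsg.IsKConnected p k G ↔
    ∀ E E' : Subgroup G, Cfsg.IsElementaryAbelian p E → p ^ k ≤ Nat.card ↥E →
      Cfsg.IsElementaryAbelian p E' → p ^ k ≤ Nat.card ↥E' →
        Relation.ReflTransGen (KRel p k) E E' := Iff.rfl

theorem KRel.symm {p k : ℕ} {A B : Subgroup G} (h : KRel p k A B) : KRel p k B A :=
  ⟨h.2.2.1, h.2.2.2.1, h.1, h.2.1, fun a ha b hb => (h.2.2.2.2 b hb a ha).symm⟩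

theorem isElementaryAbelian_map {H : Type*} [Group H] (f : G →* H) {p : ℕ} {A : Subgroup G}
    (hA : Cfsg.IsElementaryAbelian p A) : Cfsg.IsElementaryAbelian p (A.map f) := by
  haveI := hA.1
  refine ⟨inferInstance, ?_⟩
  rintro _ ⟨a, ha, rfl⟩
  rw [← map_pow, hA.2 a ha, map_one]

theorem KRel.map_conj {p k : ℕ} {A B : Subgroup G} (h : KRel p k A B) (g : G) :
    KRel p k (A.map (MulAut.conj g).toMonoidHom) (B.map (MulAut.conj g).toMonoidHom) := by
  refine ⟨isElementaryAbelian_map _ h.1, ?_, isElementaryAbelian_map _ h.2.2.1, ?_, ?_⟩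
  · rw [Subgroup.card_map_of_injective (MulAut.conj g).injective]; exact h.2.1
  · rw [Subgroup.card_map_of_injective (MulAut.conj g).injective]; exact h.2.2.2.1
  · rintro _ ⟨a, ha, rfl⟩ _ ⟨b, hb, rfl⟩
    simp only [MulEquiv.coe_toMonoidHom]
    rw [← map_mul, ← map_mul, h.2.2.2.2 a ha b hb]

theorem reflTransGen_map_conj {p k : ℕ} {A B : Subgroup G}
    (h : Relation.ReflTransGen (KRel p k) A B) (g : G) :
    Relation.ReflTransGen (KRel p k) (A.map (MulAut.conj g).toMonoidHom)
      (B.map (MulAut.conj g).toMonoidHom) :=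
  Relation.ReflTransGen.lift (fun A : Subgroup G => A.map (MulAut.conj g).toMonoidHom)
    (fun _ _ hab => KRel.map_conj hab g) _ _ h

theorem reflTransGen_symm {p k : ℕ} {A B : Subgroup G}
    (h : Relation.ReflTransGen (KRel p k) A B) : Relation.ReflTransGen (KRel p k) B A := by
  induction h with
  | refl => exact Relation.ReflTransGen.refl
  | tail _ hbc ih => exact Relation.ReflTransGen.head hbc.symm ih

theorem map_conj_mul (A : Subgroup G) (g h : G) :
    A.map (MulAut.conj (g * h)).toMonoidHom =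
      (A.map (MulAut.conj h).toMonoidHom).map (MulAut.conj g).toMonoidHom := by
  rw [Subgroup.map_map]
  congr 1
  ext x
  simp [mul_assoc]

theorem map_conj_one (A : Subgroup G) : A.map (MulAut.conj (1 : G)).toMonoidHom = A := by
  ext x
  simp

/-- the cyclic group generated by an element of order `p` is a vertex -/
theorem isElementaryAbelian_zpowers {p : ℕ} {z : G} (hz : orderOf z = p) :
    Cfsg.IsElementaryAbelian p (Subgroup.zpowers z) := by
  refine ⟨inferInstance, ?_⟩
  intro a ha
  obtain ⟨k, rfl⟩ := Subgroup.mem_zpowers_iff.mp ha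
  rw [← zpow_natCast, ← zpow_mul, mul_comm, zpow_mul, zpow_natCast, ← hz, pow_orderOf_eq_one,
    one_zpow]

/-- Two vertices inside a common `p`-subgroup are joined (through a central subgroup of order `p`). -/
theorem reflTransGen_of_le_pGroup [Finite G] {p : ℕ} [Fact p.Prime] {S A A' : Subgroup G}
    (hS : IsPGroup p ↥S) (hA : Cfsg.IsElementaryAbelian p A) (hAc : p ^ 1 ≤ Nat.card ↥A)
    (hAS : A ≤ S) (hA' : Cfsg.IsElementaryAbelian p A') (hAc' : p ^ 1 ≤ Nat.card ↥A')
    (hAS' : A' ≤ S) : Relation.ReflTransGen (KRel p 1) A A' := by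
  have hp : p.Prime := Fact.out
  have hS1 : S ≠ ⊥ := by
    rintro rfl
    have : A = ⊥ := le_bot_iff.mp hAS
    rw [this, Subgroup.card_bot, pow_one] at hAc
    exact absurd hAc (by have := hp.one_lt; omega)
  haveI : Nontrivial ↥S := (Subgroup.nontrivial_iff_ne_bot S).mpr hS1
  haveI : Nontrivial ↥(Subgroup.center ↥S) := hS.center_nontrivial
  have hZ : IsPGroup p ↥(Subgroup.center ↥S) := hS.to_subgroup _
  obtain ⟨k, hk⟩ := IsPGroup.iff_card.mp hZ
  have hk0 : k ≠ 0 := by
    rintro rfl
    rw [pow_zero] at hk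
    have := (Finite.one_lt_card_iff_nontrivial (α := ↥(Subgroup.center ↥S))).mpr inferInstance
    omega
  have hdvd : p ∣ Nat.card ↥(Subgroup.center ↥S) := by
    rw [hk]; exact dvd_pow_self p hk0
  obtain ⟨z, hz⟩ := exists_prime_orderOf_dvd_card' p hdvd
  have hzp : orderOf (((z : ↥S) : G)) = p := by
    rw [Subgroup.orderOf_coe, Subgroup.orderOf_coe]; exact hz
  have hcomm : ∀ s ∈ S, ∀ b ∈ Subgroup.zpowers (((z : ↥S) : G)), s * b = b * s := by
    intro s hs b hb
    obtain ⟨n, rfl⟩ := Subgroup.mem_zpowers_iff.mp hb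
    have h1 := (Subgroup.mem_center_iff.mp z.2) ⟨s, hs⟩
    have h2 : s * ((z : ↥S) : G) = ((z : ↥S) : G) * s := by
      have := congrArg Subtype.val h1
      simpa using this
    exact (Commute.zpow_right h2 n).eq
  have hZv : Cfsg.IsElementaryAbelian p (Subgroup.zpowers (((z : ↥S) : G))) :=
    isElementaryAbelian_zpowers hzp
  have hZc : p ^ 1 ≤ Nat.card ↥(Subgroup.zpowers (((z : ↥S) : G))) := by
    rw [Nat.card_zpowers, hzp, pow_one]
  have h1 : KRel p 1 A (Subgroup.zpowers (((z : ↥S) : G))) :=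
    ⟨hA, hAc, hZv, hZc, fun a ha b hb => hcomm a (hAS ha) b hb⟩
  have h2 : KRel p 1 (Subgroup.zpowers (((z : ↥S) : G))) A' :=
    ⟨hZv, hZc, hA', hAc', fun b hb a ha => (hcomm a (hAS' ha) b hb).symm⟩
  exact Relation.ReflTransGen.tail (Relation.ReflTransGen.single h1) h2

/-- A `p`-subgroup `X` of `H`, where `H` contains the Sylow `p`-subgroup `S` of `G`, lies in an
`H`-conjugate of `S`. -/
theorem exists_le_map_conj_sylow [Finite G] {p : ℕ} [Fact p.Prime] (S : Sylow p G)
    {H X : Subgroup G} (hSH : (S : Subgroup G) ≤ H) (hXH : X ≤ H) (hX : IsPGroup p ↥X) :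
    ∃ h ∈ H, X ≤ (S : Subgroup G).map (MulAut.conj h).toMonoidHom := by
  obtain ⟨Q, hQ⟩ := (hX.comap_subtype (K := H)).exists_le_sylow
  obtain ⟨h, hh⟩ := MulAction.exists_smul_eq ↥H (S.subtype hSH) Q
  refine ⟨(h : G), h.2, ?_⟩
  intro x hx
  have h1 : (⟨x, hXH hx⟩ : ↥H) ∈ (Q : Subgroup ↥H) := hQ hx
  rw [← hh, Sylow.smul_def, Sylow.pointwise_smul_def] at h1
  obtain ⟨s, hs, hsx⟩ := (Subgroup.mem_smul_pointwise_iff_exists _ _ _).mp h1
  rw [Sylow.coe_subtype, Subgroup.mem_subgroupOf] at hs
  refine ⟨(s : G), hs, ?_⟩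
  have := congrArg Subtype.val hsx
  simpa [MulAut.smul_def] using this

theorem isPGroup_of_isElementaryAbelian {p : ℕ} {A : Subgroup G}
    (hA : Cfsg.IsElementaryAbelian p A) : IsPGroup p ↥A := by
  intro a
  refine ⟨1, ?_⟩
  apply Subtype.ext
  rw [pow_one]
  simpa using hA.2 a a.2

theorem dvd_card_of_vertex [Finite G] {p : ℕ} [Fact p.Prime] {A : Subgroup G}
    (hA : Cfsg.IsElementaryAbelian p A) (hAc : p ^ 1 ≤ Nat.card ↥A) : p ∣ Nat.card ↥A := by
  have hp : p.Prime := Fact.out
  obtain ⟨k, hk⟩ := IsPGroup.iff_card.mp (isPGroup_of_isElementaryAbelian hA)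
  have hk0 : k ≠ 0 := by
    rintro rfl
    rw [pow_zero] at hk
    rw [hk, pow_one] at hAc
    have := hp.one_lt
    omega
  rw [hk]
  exact dvd_pow_self p hk0

/-- A strongly `p`-embedded subgroup disconnects the commuting graph. -/
theorem not_isKConnected_of_stronglyPEmbedded [Finite G] {p : ℕ} [Fact p.Prime] (H : Subgroup G)
    (hH : H ≠ ⊤) (hp : p ∣ Nat.card ↥H)
    (hTI : ∀ g : G, g ∉ H → ¬ p ∣ Nat.card ↥(H ⊓ H.map (MulAut.conj g).toMonoidHom)) :
    ¬ Cfsg.IsKConnected p 1 G := by
  intro hcon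
  rw [isKConnected_iff] at hcon
  obtain ⟨x, hx⟩ := exists_prime_orderOf_dvd_card' p hp
  have hxp : orderOf (x : G) = p := by rw [Subgroup.orderOf_coe]; exact hx
  have hEH : Subgroup.zpowers (x : G) ≤ H := Subgroup.zpowers_le.mpr x.2
  have hE : Cfsg.IsElementaryAbelian p (Subgroup.zpowers (x : G)) :=
    isElementaryAbelian_zpowers hxp
  have hEc : p ^ 1 ≤ Nat.card ↥(Subgroup.zpowers (x : G)) := by
    rw [Nat.card_zpowers, hxp, pow_one]
  obtain ⟨g, hg⟩ : ∃ g : G, g ∉ H := by
    by_contra hall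
    push_neg at hall
    exact hH (eq_top_iff.mpr (fun y _ => hall y))
  have key : ∀ B : Subgroup G,
      Relation.ReflTransGen (KRel p 1) (Subgroup.zpowers (x : G)) B → B ≤ H := by
    intro B hB
    induction hB with
    | refl => exact hEH
    | tail _ hAB ih =>
      intro b hb
      by_contra hbH
      apply hTI b hbH
      refine dvd_trans (dvd_card_of_vertex hAB.1 hAB.2.1) (Subgroup.card_dvd_of_le ?_)
      intro a ha
      rw [Subgroup.mem_inf]
      refine ⟨ih ha, a, ih ha, ?_⟩
      simp only [MulEquiv.coe_toMonoidHom, MulAut.conj_apply]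
      rw [← hAB.2.2.2.2 a ha b hb, mul_inv_cancel_right]
  have h1 := hcon _ ((Subgroup.zpowers (x : G)).map (MulAut.conj g).toMonoidHom) hE hEc
    (isElementaryAbelian_map _ hE)
    (by rw [Subgroup.card_map_of_injective (MulAut.conj g).injective]; exact hEc)
  have h2 := key _ h1
  apply hTI g hg
  refine dvd_trans (dvd_card_of_vertex (isElementaryAbelian_map _ hE)
    (by rw [Subgroup.card_map_of_injective (MulAut.conj g).injective]; exact hEc))
    (Subgroup.card_dvd_of_le (le_inf h2 (Subgroup.map_mono hEH)))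

/-- If the commuting graph is disconnected there is a strongly `p`-embedded subgroup. -/
theorem exists_stronglyPEmbedded_of_not_isKConnected [Finite G] {p : ℕ} [Fact p.Prime]
    (h : ¬ Cfsg.IsKConnected p 1 G) :
    ∃ H : Subgroup G, H ≠ ⊤ ∧ p ∣ Nat.card ↥H ∧
      ∀ g : G, g ∉ H → ¬ p ∣ Nat.card ↥(H ⊓ H.map (MulAut.conj g).toMonoidHom) := by
  rw [isKConnected_iff] at h
  push_neg at h
  obtain ⟨E, E', hE, hEc, hE', hEc', hnot⟩ := h
  -- the stabilizer of the connected component of `E`
  let H : Subgroup G :=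
    { carrier := {g | Relation.ReflTransGen (KRel p 1) E (E.map (MulAut.conj g).toMonoidHom)}
      one_mem' := by
        show Relation.ReflTransGen (KRel p 1) E (E.map (MulAut.conj (1 : G)).toMonoidHom)
        rw [map_conj_one]
      mul_mem' := by
        intro a b ha hb
        show Relation.ReflTransGen (KRel p 1) E (E.map (MulAut.conj (a * b)).toMonoidHom)
        rw [map_conj_mul]
        exact ha.trans (reflTransGen_map_conj hb a)
      inv_mem' := by
        intro a ha
        show Relation.ReflTransGen (KRel p 1) E (E.map (MulAut.conj a⁻¹).toMonoidHom)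
        have h1 := reflTransGen_map_conj ha a⁻¹
        rw [← map_conj_mul, inv_mul_cancel, map_conj_one] at h1
        exact reflTransGen_symm h1 }
  have hmemH : ∀ g : G, g ∈ H ↔
      Relation.ReflTransGen (KRel p 1) E (E.map (MulAut.conj g).toMonoidHom) := fun g => Iff.rfl
  have hEp : IsPGroup p ↥E := isPGroup_of_isElementaryAbelian hE
  obtain ⟨S, hES⟩ := hEp.exists_le_sylow
  have hvert : ∀ g : G, Cfsg.IsElementaryAbelian p (E.map (MulAut.conj g).toMonoidHom) ∧
      p ^ 1 ≤ Nat.card ↥(E.map (MulAut.conj g).toMonoidHom) := fun g =>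
    ⟨isElementaryAbelian_map _ hE,
      by rw [Subgroup.card_map_of_injective (MulAut.conj g).injective]; exact hEc⟩
  have hSH : (S : Subgroup G) ≤ H := by
    intro s hs
    rw [hmemH]
    apply reflTransGen_of_le_pGroup S.isPGroup' hE hEc hES (hvert s).1 (hvert s).2
    rintro _ ⟨e, he, rfl⟩
    simp only [MulEquiv.coe_toMonoidHom, MulAut.conj_apply]
    exact (S : Subgroup G).mul_mem ((S : Subgroup G).mul_mem hs (hES he))
      ((S : Subgroup G).inv_mem hs)
  -- every vertex inside `H` is joined to `E`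
  have hclaim : ∀ X : Subgroup G, X ≤ H → Cfsg.IsElementaryAbelian p X → p ^ 1 ≤ Nat.card ↥X →
      Relation.ReflTransGen (KRel p 1) E X := by
    intro X hXH hX hXc
    obtain ⟨t, ht, hXS⟩ := exists_le_map_conj_sylow S hSH hXH (isPGroup_of_isElementaryAbelian hX)
    have h1 : Relation.ReflTransGen (KRel p 1) (E.map (MulAut.conj t).toMonoidHom) X :=
      reflTransGen_of_le_pGroup (S.isPGroup'.map _) (hvert t).1 (hvert t).2
        (Subgroup.map_mono hES) hX hXc hXS
    exact ((hmemH t).mp ht).trans h1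
  refine ⟨H, ?_, ?_, ?_⟩
  · intro htop
    apply hnot
    obtain ⟨S', hES'⟩ := (isPGroup_of_isElementaryAbelian hE').exists_le_sylow
    obtain ⟨g, hg⟩ := MulAction.exists_smul_eq G S S'
    have hS' : (S' : Subgroup G) = (S : Subgroup G).map (MulAut.conj g).toMonoidHom := by
      rw [← hg, Sylow.smul_def, Sylow.pointwise_smul_def, Subgroup.pointwise_smul_def]
      rfl
    have hgH : g ∈ H := htop ▸ Subgroup.mem_top g
    have h1 : Relation.ReflTransGen (KRel p 1) (E.map (MulAut.conj g).toMonoidHom) E' := by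
      apply reflTransGen_of_le_pGroup S'.isPGroup' (hvert g).1 (hvert g).2 _ hE' hEc' hES'
      rw [hS']
      exact Subgroup.map_mono hES
    exact ((hmemH g).mp hgH).trans h1
  · exact dvd_trans (dvd_card_of_vertex hE hEc) (Subgroup.card_dvd_of_le (hES.trans hSH))
  · intro g hg hdvd
    apply hg
    obtain ⟨y, hy⟩ := exists_prime_orderOf_dvd_card' p hdvd
    have hyp : orderOf (y : G) = p := by rw [Subgroup.orderOf_coe]; exact hy
    have hyH : (y : G) ∈ H := (Subgroup.mem_inf.mp y.2).1
    have hyHg : (y : G) ∈ H.map (MulAut.conj g).toMonoidHom := (Subgroup.mem_inf.mp y.2).2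
    have hX : Cfsg.IsElementaryAbelian p (Subgroup.zpowers (y : G)) :=
      isElementaryAbelian_zpowers hyp
    have hXc : p ^ 1 ≤ Nat.card ↥(Subgroup.zpowers (y : G)) := by
      rw [Nat.card_zpowers, hyp, pow_one]
    have h1 := hclaim _ (Subgroup.zpowers_le.mpr hyH) hX hXc
    -- the conjugate by `g⁻¹` also lies in `H`
    have hX1H : (Subgroup.zpowers (y : G)).map (MulAut.conj g⁻¹).toMonoidHom ≤ H := by
      rw [Subgroup.map_le_iff_le_comap, Subgroup.zpowers_le, Subgroup.mem_comap]
      obtain ⟨t, ht, hty⟩ := hyHg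
      rw [← hty]
      simp only [MulEquiv.coe_toMonoidHom, MulAut.conj_apply, inv_inv]
      have : g⁻¹ * (g * t * g⁻¹) * g = t := by group
      rw [this]
      exact ht
    have h2 := hclaim _ hX1H (isElementaryAbelian_map _ hX)
      (by rw [Subgroup.card_map_of_injective (MulAut.conj g⁻¹).injective]; exact hXc)
    have h3 := reflTransGen_map_conj h2 g
    rw [← map_conj_mul, mul_inv_cancel, map_conj_one] at h3
    rw [hmemH]
    exact h1.trans (reflTransGen_symm h3)

end Cfsg.Agent.Lib.Helper9
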