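/-
helper9: S4645 leaf (CH): subgroups of a cyclic subgroup are normalized by its normalizer.
-/
import Mathlib

set_option autoImplicit false

namespace Cfsg.Agent.Lib.Helper9.CycCH

universe u

private theorem conj_mem_of_cyclic {G : Type u} [Group G] (P Q : Subgroup G)
    (hcyc : IsCyclic P) (hQP : Q ≤ P) (g : G)
    (hg : g ∈ Subgroup.normalizer (P : Set G)) (h : G) (hh : h ∈ Q) :
    g * h * g⁻¹ ∈ Q := by
  obtain ⟨z, hz⟩ := hcyc.exists_generator
  have hzP : (z : G) ∈ P := z.2
  have hgz : g * (z : G) * g⁻¹ ∈ P := (Subgroup.mem_normalizer_iff.mp hg (z : G)).mp hzP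
  obtain ⟨m, hm⟩ := hz ⟨g * (z : G) * g⁻¹, hgz⟩
  obtain ⟨k, hk⟩ := hz ⟨h, hQP hh⟩
  have hm' : (z : G) ^ m = g * (z : G) * g⁻¹ := by
    have := congrArg Subtype.val hm
    simpa using this
  have hk' : (z : G) ^ k = h := by
    have := congrArg Subtype.val hk
    simpa using this
  have : g * h * g⁻¹ = h ^ m := by
    rw [← hk', ← zpow_mul, mul_comm k m, zpow_mul, hm']
    rw [← MulAut.conj_apply, ← MulAut.conj_apply, map_zpow]
  rw [this]
  exact Q.zpow_mem hh m

/-- (CH) subgroups of a cyclic subgroup are normalized by its normalizer. -/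
theorem normalizer_le_normalizer_of_cyclic {G : Type u} [Group G] [Finite G] (P Q : Subgroup G)
    (hcyc : IsCyclic P) (hQP : Q ≤ P) :
    Subgroup.normalizer (P : Set G) ≤ Subgroup.normalizer (Q : Set G) := by
  intro g hg
  rw [Subgroup.mem_normalizer_iff]
  intro h
  constructor
  · exact conj_mem_of_cyclic P Q hcyc hQP g hg h
  · intro hh
    have hg' : g⁻¹ ∈ Subgroup.normalizer (P : Set G) := inv_mem hg
    have := conj_mem_of_cyclic P Q hcyc hQP g⁻¹ hg' _ hh
    simpa [mul_assoc] using this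

end Cfsg.Agent.Lib.Helper9.CycCH
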