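/-
helper9: S4645 leaf (GT): the pure subgroup-counting step  T' = T ⊔ C_G(Q).
-/
import Mathlib

set_option autoImplicit false

namespace Cfsg.Agent.Lib.Helper9.CycGT

universe u

/-- (GT) the counting argument. -/
theorem stab_eq_sup {G : Type u} [Group G] [Finite G] (P Q T T' : Subgroup G)
    (hTN : T ≤ Subgroup.normalizer (Q : Set G))
    (hCQT' : Subgroup.centralizer (Q : Set G) ≤ T')
    (hfree : T ⊓ Subgroup.centralizer (Q : Set G) = Subgroup.centralizer (P : Set G))
    (hprod : ∀ x ∈ T', ∃ y ∈ T, ∃ c ∈ Subgroup.centralizer (Q : Set G), x = y * c)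
    (hidx : ((Subgroup.centralizer (Q : Set G)).subgroupOf T').index =
      ((T ⊓ Subgroup.centralizer (Q : Set G)).subgroupOf
        (T ⊓ Subgroup.normalizer (Q : Set G))).index) :
    T' = T ⊔ Subgroup.centralizer (Q : Set G) ∧
      (Subgroup.centralizer (Q : Set G)).relIndex T' =
        (Subgroup.centralizer (P : Set G)).relIndex T := by
  set C := Subgroup.centralizer (Q : Set G) with hC
  have hTNQ : T ⊓ Subgroup.normalizer (Q : Set G) = T := inf_eq_left.mpr hTN
  have hidx' : C.relIndex T' = (T ⊓ C).relIndex T := by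
    rw [hTNQ] at hidx
    exact hidx
  have h2 : C.relIndex T' = (Subgroup.centralizer (P : Set G)).relIndex T := by
    rw [hidx', hfree]
  refine ⟨?_, h2⟩
  -- `T` normalizes `C`
  have hNC : Subgroup.normalizer (Q : Set G) ≤ Subgroup.normalizer (C : Set G) := by
    intro g hg
    rw [Subgroup.mem_normalizer_iff]
    have key : ∀ g : G, g ∈ Subgroup.normalizer (Q : Set G) → ∀ h ∈ C, g * h * g⁻¹ ∈ C := by
      intro g hg h hh
      rw [hC, Subgroup.mem_centralizer_iff]
      intro q hq
      have hq' : g⁻¹ * q * g ∈ Q := by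
        have := (Subgroup.mem_normalizer_iff.mp (inv_mem hg) q).mp hq
        simpa using this
      have hcomm := Subgroup.mem_centralizer_iff.mp hh _ hq'
      -- hcomm : g⁻¹ * q * g * h = h * (g⁻¹ * q * g)
      calc q * (g * h * g⁻¹) = g * ((g⁻¹ * q * g) * h) * g⁻¹ := by group
        _ = g * (h * (g⁻¹ * q * g)) * g⁻¹ := by rw [hcomm]
        _ = g * h * g⁻¹ * q := by group
    intro h
    constructor
    · exact key g hg h
    · intro hh
      have := key g⁻¹ (inv_mem hg) _ hh
      simpa [mul_assoc] using this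
  have hTNC : T ≤ Subgroup.normalizer (C : Set G) := hTN.trans hNC
  have hle : T' ≤ T ⊔ C := by
    intro x hx
    obtain ⟨y, hy, c, hc, rfl⟩ := hprod x hx
    exact mul_mem (Subgroup.mem_sup_left hy) (Subgroup.mem_sup_right hc)
  -- second isomorphism theorem
  have hiso : C.relIndex (T ⊔ C) = C.relIndex T := by
    letI := Subgroup.normal_subgroupOf_of_le_normalizer hTNC
    letI := Subgroup.normal_subgroupOf_sup_of_le_normalizer hTNC
    exact Nat.card_congr
      (QuotientGroup.quotientInfEquivProdNormalizerQuotient T C hTNC).toEquiv.symm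
  have hinf : (T ⊓ C).relIndex T = C.relIndex T := by
    rw [inf_comm]; exact Subgroup.inf_relIndex_right C T
  have heq : C.relIndex T' = C.relIndex (T ⊔ C) := by
    rw [hidx', hinf, hiso]
  have hmul := Subgroup.relIndex_mul_relIndex C T' (T ⊔ C) hCQT' hle
  have hne : C.relIndex T' ≠ 0 := by
    exact (Subgroup.index_ne_zero_of_finite)
  have hone : T'.relIndex (T ⊔ C) = 1 := by
    rw [← heq] at hmul
    have : C.relIndex T' * T'.relIndex (T ⊔ C) = C.relIndex T' * 1 := by rw [hmul, mul_one]
    exact Nat.eq_of_mul_eq_mul_left (Nat.pos_of_ne_zero hne) this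
  exact le_antisymm hle (Subgroup.relIndex_eq_one.mp hone)

end Cfsg.Agent.Lib.Helper9.CycGT
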