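import Mathlib

set_option autoImplicit false

namespace Cfsg.Agent.Lib.Helper9.Ord3A

open Polynomial Matrix

section Cyclic

variable {F : Type*} [Field F] {V : Type*} [AddCommGroup V] [Module F V] [FiniteDimensional F V]

/-- every endomorphism of a finite-dimensional space has a vector whose annihilator is generated by
the minimal polynomial -/
theorem exists_cyclic (f : Module.End F V) :
    ∃ v : V, ∀ p : F[X], (Polynomial.aeval f p) v = 0 → minpoly F f ∣ p := by
  obtain ⟨x, hx⟩ := Module.exists_ker_toSpanSingleton_eq_annihilator F[X] (Module.AEval' f)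
  obtain ⟨v, rfl⟩ := (Module.AEval'.of f).surjective x
  refine ⟨v, fun p hp => ?_⟩
  have h1 : p ∈ LinearMap.ker (LinearMap.toSpanSingleton F[X] _ (Module.AEval'.of f v)) := by
    rw [LinearMap.mem_ker, LinearMap.toSpanSingleton_apply, ← Module.AEval.of_aeval_smul]
    show (Module.AEval'.of f) ((aeval f p) v) = 0
    rw [hp, map_zero]
  rw [hx, ← Polynomial.span_minpoly_eq_annihilator, Ideal.mem_span_singleton] at h1
  exact h1

end Cyclic

variable {F : Type*} [Field F]

theorem aeval_mulVec (x : Matrix (Fin 3) (Fin 3) F) (p : F[X]) (v : Fin 3 → F) :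
    (aeval (Matrix.toLin' x) p) v = (aeval x p) *ᵥ v := by
  have h : aeval (Matrix.toLin' x) p = Matrix.toLin' (aeval x p) := by
    have := Polynomial.aeval_algHom_apply (Matrix.toLinAlgEquiv' : Matrix (Fin 3) (Fin 3) F ≃ₐ[F] _).toAlgHom x p
    exact this
  rw [h, Matrix.toLin'_apply]

/-- a matrix whose minimal polynomial has degree three has a cyclic vector -/
theorem exists_cyc_of_natDegree (x : Matrix (Fin 3) (Fin 3) F)
    (hdeg : (minpoly F x).natDegree = 3) :
    ∃ v : Fin 3 → F, LinearIndependent F ![v, x *ᵥ v, x *ᵥ (x *ᵥ v)] := by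
  obtain ⟨v, hv⟩ := exists_cyclic (Matrix.toLin' x)
  have hmin : minpoly F (Matrix.toLin' x) = minpoly F x := Matrix.minpoly_toLin' x
  rw [hmin] at hv
  refine ⟨v, ?_⟩
  rw [Fintype.linearIndependent_iff]
  intro g hg
  rw [Fin.sum_univ_three] at hg
  replace hg : g 0 • v + g 1 • (x *ᵥ v) + g 2 • (x *ᵥ (x *ᵥ v)) = 0 := hg
  obtain ⟨p, hp⟩ : ∃ p : F[X], p = C (g 0) + C (g 1) * X + C (g 2) * X ^ 2 := ⟨_, rfl⟩
  have hpv : (aeval (Matrix.toLin' x) p) v = 0 := by
    rw [aeval_mulVec, hp]
    simp only [map_add, map_mul, aeval_C, aeval_X, map_pow, Matrix.add_mulVec]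
    rw [← hg]
    simp only [Algebra.algebraMap_eq_smul_one, Matrix.smul_mulVec, Matrix.one_mulVec, smul_mul_assoc,
      one_mul, pow_two, Matrix.mulVec_mulVec]
  have hdvd := hv p hpv
  have hp0 : p = 0 := by
    by_contra hne
    have h1 := Polynomial.natDegree_le_of_dvd hdvd hne
    have h2 : p.natDegree ≤ 2 := by
      rw [hp]
      compute_degree
    omega
  have hc0 := congrArg (fun r : F[X] => r.coeff 0) hp0
  have hc1 := congrArg (fun r : F[X] => r.coeff 1) hp0
  have hc2 := congrArg (fun r : F[X] => r.coeff 2) hp0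
  simp only [hp, coeff_add, coeff_C_mul, coeff_C_zero, coeff_X_zero, coeff_X_pow, coeff_zero] at hc0
  simp only [hp, coeff_add, coeff_C_mul, coeff_C, coeff_X_one, coeff_X_pow, coeff_zero] at hc1
  simp only [hp, coeff_add, coeff_C_mul, coeff_C, coeff_X, coeff_X_pow, coeff_zero] at hc2
  intro i
  fin_cases i
  · simpa using hc0
  · simpa using hc1
  · simpa using hc2


/-- a root of the characteristic polynomial is a root of every annihilating polynomial -/
theorem eval_eq_zero_of_charpoly_root (x : Matrix (Fin 3) (Fin 3) F) (a : F)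
    (ha : x.charpoly.eval a = 0) (p : F[X]) (hp : aeval x p = 0) : p.eval a = 0 := by
  rw [Matrix.eval_charpoly] at ha
  obtain ⟨v, hv0, hv⟩ := Matrix.exists_mulVec_eq_zero_iff.mpr ha
  have hxv : x *ᵥ v = a • v := by
    rw [Matrix.sub_mulVec, sub_eq_zero] at hv
    rw [← hv]
    ext i
    simp [Matrix.mulVec, dotProduct, Matrix.scalar, Matrix.diagonal_apply]
  have hev : Module.End.HasEigenvector (Matrix.toLin' x) a v := by
    refine ⟨?_, hv0⟩
    rw [Module.End.mem_eigenspace_iff, Matrix.toLin'_apply, hxv]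
  have h1 := Module.End.aeval_apply_of_hasEigenvector (p := p) hev
  rw [aeval_mulVec, hp, Matrix.zero_mulVec] at h1
  rcases smul_eq_zero.mp h1.symm with h | h
  · exact h
  · exact absurd h hv0

theorem minpoly_dvd_cube (x : Matrix (Fin 3) (Fin 3) F) (hx3 : x ^ 3 = 1) :
    minpoly F x ∣ X ^ 3 - 1 := by
  apply minpoly.dvd
  simp [hx3]

/-- Lemma Q: a non-scalar matrix with `x³ = 1` satisfying a quadratic has determinant `≠ 1` -/
theorem det_ne_one_of_natDegree_two (h3 : (3 : F) ≠ 0) (x : Matrix (Fin 3) (Fin 3) F)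
    (hx3 : x ^ 3 = 1) (hdeg : (minpoly F x).natDegree = 2) : x.det ≠ 1 := by
  intro hdet
  have hint : IsIntegral F x := Matrix.isIntegral x
  have hm : (minpoly F x).Monic := minpoly.monic hint
  have hdvd3 := minpoly_dvd_cube x hx3
  obtain ⟨r, hr⟩ := Matrix.minpoly_dvd_charpoly x
  have hχm : x.charpoly.Monic := Matrix.charpoly_monic x
  have hrm : r.Monic := by
    rw [hr] at hχm
    exact hm.of_mul_monic_left hχm
  have hχdeg : x.charpoly.natDegree = 3 := by
    rw [Matrix.charpoly_natDegree_eq_dim, Fintype.card_fin]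
  have hrdeg : r.natDegree = 1 := by
    have := congrArg Polynomial.natDegree hr
    rw [hm.natDegree_mul hrm, hχdeg, hdeg] at this
    omega
  obtain ⟨a, ha⟩ : ∃ a : F, r = X - C a := by
    refine ⟨-r.coeff 0, ?_⟩
    rw [map_neg, sub_neg_eq_add]
    exact hrm.eq_X_add_C hrdeg
  -- `a` is a root of the minimal polynomial
  have haχ : x.charpoly.eval a = 0 := by
    rw [hr, ha, eval_mul, eval_sub, eval_X, eval_C, sub_self, mul_zero]
  have ham : (minpoly F x).eval a = 0 :=
    eval_eq_zero_of_charpoly_root x a haχ _ (minpoly.aeval F x)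
  obtain ⟨s, hs⟩ := (Polynomial.dvd_iff_isRoot.mpr ham)
  have hsm : s.Monic := by
    have := hm
    rw [hs] at this
    exact (monic_X_sub_C a).of_mul_monic_left this
  have hsdeg : s.natDegree = 1 := by
    have := congrArg Polynomial.natDegree hs
    rw [(monic_X_sub_C a).natDegree_mul hsm, hdeg, natDegree_X_sub_C] at this
    omega
  obtain ⟨b, hb⟩ : ∃ b : F, s = X - C b := by
    refine ⟨-s.coeff 0, ?_⟩
    rw [map_neg, sub_neg_eq_add]
    exact hsm.eq_X_add_C hsdeg
  -- `a³ = 1`, `b³ = 1`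
  have ha3 : a ^ 3 = 1 := by
    obtain ⟨t, ht⟩ := hdvd3
    have := congrArg (Polynomial.eval a) ht
    rw [hs] at this
    simp only [eval_mul, eval_sub, eval_X, eval_C, eval_pow, eval_one, sub_self, zero_mul] at this
    exact sub_eq_zero.mp this
  have hb3 : b ^ 3 = 1 := by
    obtain ⟨t, ht⟩ := hdvd3
    have := congrArg (Polynomial.eval b) ht
    rw [hs, hb] at this
    simp only [eval_mul, eval_sub, eval_X, eval_C, eval_pow, eval_one, sub_self, zero_mul, mul_zero]
      at this
    exact sub_eq_zero.mp this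
  -- the determinant
  have hdet' : x.det = a * a * b := by
    rw [Matrix.det_eq_sign_charpoly_coeff, hr, hs, ha, hb, Fintype.card_fin]
    have : ((X - C a) * (X - C b) * (X - C a) : F[X]).coeff 0 = -(a * a * b) := by
      rw [Polynomial.coeff_zero_eq_eval_zero]
      simp only [eval_mul, eval_sub, eval_X, eval_C]
      ring
    rw [this]
    ring
  -- `a ≠ b` by separability
  have hab : a ≠ b := by
    intro hab
    obtain ⟨t, ht⟩ := hdvd3
    rw [hs, hb, ← hab] at ht
    have hd := congrArg (fun f : F[X] => (Polynomial.derivative f).eval a) ht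
    simp only [derivative_sub, derivative_X_pow, derivative_one, derivative_mul, derivative_X,
      derivative_C, sub_zero, eval_mul, eval_sub, eval_X, eval_C, eval_add, eval_pow, sub_self,
      mul_zero, zero_mul, add_zero, mul_one, one_mul] at hd
    have ha0 : a ≠ 0 := by
      intro h0
      rw [h0] at ha3
      simp at ha3
    have : (3 : F) * a ^ 2 = 0 := by
      simpa using hd
    rcases mul_eq_zero.mp this with h | h
    · exact h3 h
    · exact ha0 (pow_eq_zero_iff (by norm_num) |>.mp h)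
  apply hab
  have h1 : a * a * b = 1 := by rw [← hdet', hdet]
  have : b = a := by
    calc b = (a ^ 3) * b := by rw [ha3, one_mul]
      _ = a * (a * a * b) := by ring
      _ = a := by rw [h1, mul_one]
  exact this.symm

/-- a non-scalar matrix of determinant one with `x³ = 1` (in characteristic `≠ 3`) has a cyclic
vector -/
theorem exists_cyc3 (h3 : (3 : F) ≠ 0) (x : Matrix (Fin 3) (Fin 3) F) (hx3 : x ^ 3 = 1)
    (hns : ∀ c : F, x ≠ c • (1 : Matrix (Fin 3) (Fin 3) F)) (hdet : x.det = 1) :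
    ∃ v : Fin 3 → F, LinearIndependent F ![v, x *ᵥ v, x *ᵥ (x *ᵥ v)] := by
  apply exists_cyc_of_natDegree
  have hint : IsIntegral F x := Matrix.isIntegral x
  have hm : (minpoly F x).Monic := minpoly.monic hint
  have hdvd3 := minpoly_dvd_cube x hx3
  have hle : (minpoly F x).natDegree ≤ 3 := by
    have h0 : (X ^ 3 - 1 : F[X]) ≠ 0 := by
      intro h
      have := congrArg (fun f : F[X] => f.coeff 3) h
      simp [coeff_one] at this
    have := Polynomial.natDegree_le_of_dvd hdvd3 h0
    have h2 : (X ^ 3 - 1 : F[X]).natDegree = 3 := by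
      rw [show (1 : F[X]) = C 1 from (map_one C).symm]
      exact natDegree_X_pow_sub_C
    omega
  have hpos : 0 < (minpoly F x).natDegree := minpoly.natDegree_pos hint
  rcases Nat.lt_or_ge (minpoly F x).natDegree 3 with hlt | hge
  · exfalso
    rcases Nat.lt_or_ge (minpoly F x).natDegree 2 with hlt2 | hge2
    · have h1 : (minpoly F x).natDegree = 1 := by omega
      have := hm.eq_X_add_C h1
      have hx := minpoly.aeval F x
      rw [this] at hx
      simp only [map_add, aeval_X, aeval_C] at hx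
      apply hns (-(minpoly F x).coeff 0)
      rw [neg_smul, ← Algebra.algebraMap_eq_smul_one]
      exact eq_neg_of_add_eq_zero_left hx
    · exact det_ne_one_of_natDegree_two h3 x hx3 (by omega) hdet
  · omega


/-- the companion matrix of `X³ - 1` -/
def Cm (F : Type*) [Field F] : Matrix (Fin 3) (Fin 3) F := !![0, 0, 1; 1, 0, 0; 0, 1, 0]

/-- the all-ones matrix -/
def Jm (F : Type*) [Field F] : Matrix (Fin 3) (Fin 3) F := !![1, 1, 1; 1, 1, 1; 1, 1, 1]

/-- the matrix with columns `v, x v, x² v` -/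
def colMat (x : Matrix (Fin 3) (Fin 3) F) (v : Fin 3 → F) : Matrix (Fin 3) (Fin 3) F :=
  Matrix.of fun i j => (![v, x *ᵥ v, x *ᵥ (x *ᵥ v)] j) i

theorem mul_colMat (x : Matrix (Fin 3) (Fin 3) F) (hx3 : x ^ 3 = 1) (v : Fin 3 → F) :
    x * colMat x v = colMat x v * Cm F := by
  ext i j
  have hL : (x * colMat x v) i j = (x *ᵥ (![v, x *ᵥ v, x *ᵥ (x *ᵥ v)] j)) i := by
    rw [Matrix.mul_apply, Matrix.mulVec, dotProduct]
    rfl
  rw [hL, Matrix.mul_apply, Fin.sum_univ_three]
  fin_cases j
  · simp [Cm, colMat]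
  · simp [Cm, colMat]
  · have h4 : x * (x * x) = 1 := by rw [← pow_two, ← pow_succ', hx3]
    simp [Cm, colMat, h4]

theorem det_colMat_ne_zero (x : Matrix (Fin 3) (Fin 3) F) (v : Fin 3 → F)
    (hv : LinearIndependent F ![v, x *ᵥ v, x *ᵥ (x *ᵥ v)]) : (colMat x v).det ≠ 0 := by
  have h1 : (colMat x v).col = ![v, x *ᵥ v, x *ᵥ (x *ᵥ v)] := by
    funext j i
    rfl
  have h2 : IsUnit (colMat x v) := by
    rw [← Matrix.linearIndependent_cols_iff_isUnit, h1]
    exact hv
  exact ((Matrix.isUnit_iff_isUnit_det _).mp h2).ne_zero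

theorem det_one_add_Jm (b : F) : (1 + b • Jm F).det = 1 + 3 * b := by
  rw [Matrix.det_fin_three]
  simp [Jm]
  ring

theorem Jm_comm (b : F) : (1 + b • Jm F) * Cm F = Cm F * (1 + b • Jm F) := by
  ext i j
  fin_cases i <;> fin_cases j <;> simp [Jm, Cm, Matrix.mul_apply, Fin.sum_univ_three]

/-- two matrices with `x³ = 1`, each with a cyclic vector, are conjugate under `SL₃` -/
theorem conj_of_cyc (h3 : (3 : F) ≠ 0) (x y : Matrix (Fin 3) (Fin 3) F) (hx3 : x ^ 3 = 1)
    (hy3 : y ^ 3 = 1) (v w : Fin 3 → F)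
    (hv : LinearIndependent F ![v, x *ᵥ v, x *ᵥ (x *ᵥ v)])
    (hw : LinearIndependent F ![w, y *ᵥ w, y *ᵥ (y *ᵥ w)]) :
    ∃ g : Matrix (Fin 3) (Fin 3) F, g.det = 1 ∧ x * g = g * y := by
  obtain ⟨P, hP⟩ : ∃ P, P = colMat x v := ⟨_, rfl⟩
  obtain ⟨R, hR⟩ : ∃ R, R = colMat y w := ⟨_, rfl⟩
  have hdP : P.det ≠ 0 := by rw [hP]; exact det_colMat_ne_zero x v hv
  have hdR : R.det ≠ 0 := by rw [hR]; exact det_colMat_ne_zero y w hw
  have hxP : x * P = P * Cm F := by rw [hP]; exact mul_colMat x hx3 v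
  have hyR : y * R = R * Cm F := by rw [hR]; exact mul_colMat y hy3 w
  have hRu : IsUnit R.det := isUnit_iff_ne_zero.mpr hdR
  have hRR : R * R⁻¹ = 1 := Matrix.mul_nonsing_inv R hRu
  have hRR' : R⁻¹ * R = 1 := Matrix.nonsing_inv_mul R hRu
  obtain ⟨b, hb⟩ : ∃ b : F, b = (R.det / P.det - 1) / 3 := ⟨_, rfl⟩
  have hcdet : (1 + b • Jm F).det = R.det / P.det := by
    rw [det_one_add_Jm, hb]
    field_simp
    ring
  have hCR : Cm F * R⁻¹ = R⁻¹ * y := by
    calc Cm F * R⁻¹ = R⁻¹ * R * Cm F * R⁻¹ := by rw [hRR', one_mul]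
      _ = R⁻¹ * (y * R) * R⁻¹ := by rw [hyR, ← mul_assoc]
      _ = R⁻¹ * y * (R * R⁻¹) := by simp only [mul_assoc]
      _ = R⁻¹ * y := by rw [hRR, mul_one]
  refine ⟨P * (1 + b • Jm F) * R⁻¹, ?_, ?_⟩
  · rw [Matrix.det_mul, Matrix.det_mul, hcdet, Matrix.det_nonsing_inv, Ring.inverse_eq_inv']
    field_simp
  · calc x * (P * (1 + b • Jm F) * R⁻¹) = x * P * (1 + b • Jm F) * R⁻¹ := by
          simp only [mul_assoc]
      _ = P * (Cm F * (1 + b • Jm F)) * R⁻¹ := by rw [hxP]; simp only [mul_assoc]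
      _ = P * ((1 + b • Jm F) * Cm F) * R⁻¹ := by rw [Jm_comm]
      _ = P * (1 + b • Jm F) * (Cm F * R⁻¹) := by simp only [mul_assoc]
      _ = P * (1 + b • Jm F) * R⁻¹ * y := by rw [hCR]; simp only [mul_assoc]


theorem scalar_cube (x : Matrix (Fin 3) (Fin 3) F) (hdet : x.det = 1) (z : F)
    (hx : x ^ 3 = z • (1 : Matrix (Fin 3) (Fin 3) F)) : z ^ 3 = 1 := by
  have := congrArg Matrix.det hx
  rw [Matrix.det_pow, hdet, one_pow, Matrix.det_smul, Matrix.det_one, mul_one, Fintype.card_fin] at this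
  exact this.symm

/-- if `X³ - z` is irreducible, no matrix of determinant one has cube `z` unless `z = 1` -/
theorem scalar_eq_one_of_irreducible (x : Matrix (Fin 3) (Fin 3) F) (hdet : x.det = 1) (z : F)
    (hx : x ^ 3 = z • (1 : Matrix (Fin 3) (Fin 3) F)) (hirr : Irreducible (X ^ 3 - C z : F[X])) :
    z = 1 := by
  have hmon : (X ^ 3 - C z : F[X]).Monic := monic_X_pow_sub_C z (by norm_num)
  have hae : aeval x (X ^ 3 - C z : F[X]) = 0 := by
    simp [hx, Algebra.algebraMap_eq_smul_one]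
  have hmin : (X ^ 3 - C z : F[X]) = minpoly F x := minpoly.eq_of_irreducible_of_monic hirr hae hmon
  have hχ : x.charpoly = X ^ 3 - C z := by
    apply Polynomial.eq_of_monic_of_dvd_of_natDegree_le hmon (Matrix.charpoly_monic x)
    · rw [hmin]
      exact Matrix.minpoly_dvd_charpoly x
    · rw [Matrix.charpoly_natDegree_eq_dim, Fintype.card_fin, natDegree_X_pow_sub_C]
  have := Matrix.det_eq_sign_charpoly_coeff x
  rw [hχ, hdet, Fintype.card_fin] at this
  simp [coeff_X_pow] at this
  rw [this]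
  ring

section Finite

variable [Fintype F]

/-- over a finite field with `9 ∤ q - 1`, `X³ - z` is irreducible for a primitive cube root of
unity `z` -/
theorem irreducible_cube_sub (z : F) (hz3 : z ^ 3 = 1) (hz1 : z ≠ 1)
    (h9 : ¬ 9 ∣ Fintype.card F - 1) : Irreducible (X ^ 3 - C z : F[X]) := by
  have hdeg : (X ^ 3 - C z : F[X]).natDegree = 3 := natDegree_X_pow_sub_C
  rw [Polynomial.irreducible_iff_roots_eq_zero_of_degree_le_three (by omega) (by omega)]
  rw [Multiset.eq_zero_iff_forall_notMem]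
  intro a ha
  have hne : (X ^ 3 - C z : F[X]) ≠ 0 := (monic_X_pow_sub_C z (by norm_num)).ne_zero
  rw [Polynomial.mem_roots hne, Polynomial.IsRoot] at ha
  simp only [eval_sub, eval_pow, eval_X, eval_C] at ha
  have ha3 : a ^ 3 = z := sub_eq_zero.mp ha
  have ha0 : a ≠ 0 := by
    intro h0
    rw [h0] at ha3
    rw [← ha3] at hz3
    simp at hz3
  have h9a : a ^ 3 ^ (1 + 1) = 1 := by
    show a ^ 3 ^ 2 = 1
    rw [show (3 : ℕ) ^ 2 = 3 * 3 by norm_num, pow_mul, ha3, hz3]
  have h3a : ¬ a ^ 3 ^ 1 = 1 := by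
    rw [pow_one, ha3]
    exact hz1
  have hord : orderOf a = 3 ^ (1 + 1) := orderOf_eq_prime_pow h3a h9a
  apply h9
  have : orderOf a ∣ Fintype.card F - 1 :=
    orderOf_dvd_of_pow_eq_one (FiniteField.pow_card_sub_one_eq_one a ha0)
  rw [hord] at this
  exact this

end Finite

end Cfsg.Agent.Lib.Helper9.Ord3A
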