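/-
Helper9 library: cyclic vectors for `n × n` matrices with `x ^ n = 1`; two such matrices with
cyclic vectors are conjugate under `SL_n` (when `n` is invertible in the field).
-/
import Mathlib
import Cfsg.Agent.Lib.Helper9.Ord3A

set_option autoImplicit false
set_option linter.unusedSectionVars false

namespace Cfsg.Agent.Lib.Helper9.CycN

open Matrix Polynomial

variable {F : Type*} [Field F] {n : ℕ} [NeZero n]

theorem aeval_mulVec (x : Matrix (Fin n) (Fin n) F) (p : F[X]) (v : Fin n → F) :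
    (aeval (Matrix.toLin' x) p) v = (aeval x p) *ᵥ v := by
  have h : aeval (Matrix.toLin' x) p = Matrix.toLin' (aeval x p) := by
    have := Polynomial.aeval_algHom_apply
      (Matrix.toLinAlgEquiv' : Matrix (Fin n) (Fin n) F ≃ₐ[F] _).toAlgHom x p
    exact this
  rw [h, Matrix.toLin'_apply]

/-- a matrix has a vector whose annihilator is generated by the minimal polynomial -/
theorem exists_cyc (x : Matrix (Fin n) (Fin n) F) :
    ∃ v : Fin n → F, ∀ p : F[X], (aeval x p) *ᵥ v = 0 → minpoly F x ∣ p := by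
  obtain ⟨v, hv⟩ := Ord3A.exists_cyclic (Matrix.toLin' x)
  have hmin : minpoly F (Matrix.toLin' x) = minpoly F x := Matrix.minpoly_toLin' x
  rw [hmin] at hv
  refine ⟨v, fun p hp => hv p ?_⟩
  rw [aeval_mulVec, hp]

/-- the annihilator property gives independence of the first `n` powers -/
theorem indep_pow (x : Matrix (Fin n) (Fin n) F) (v : Fin n → F) (m : F[X])
    (hm : m.natDegree = n) (hv : ∀ p : F[X], (aeval x p) *ᵥ v = 0 → m ∣ p) :
    LinearIndependent F (fun j : Fin n => (x ^ (j : ℕ)) *ᵥ v) := by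
  rw [Fintype.linearIndependent_iff]
  intro g hg
  obtain ⟨p, hp⟩ : ∃ p : F[X], p = ∑ j : Fin n, C (g j) * X ^ (j : ℕ) := ⟨_, rfl⟩
  have hpv : (aeval x p) *ᵥ v = 0 := by
    rw [hp, map_sum, Matrix.sum_mulVec, ← hg]
    apply Finset.sum_congr rfl
    intro j _
    rw [map_mul, aeval_C, map_pow, aeval_X, Algebra.algebraMap_eq_smul_one, Matrix.smul_mul,
      one_mul, Matrix.smul_mulVec]
  have hdvd := hv p hpv
  have hdeg : p.degree < n := by
    rw [hp]
    exact Polynomial.degree_sum_fin_lt g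
  have hp0 : p = 0 := by
    by_contra hne
    have h1 := Polynomial.natDegree_le_of_dvd hdvd hne
    have h2 : p.natDegree < n := (Polynomial.natDegree_lt_iff_degree_lt hne).mpr hdeg
    omega
  intro i
  have hc := congrArg (fun r : F[X] => r.coeff (i : ℕ)) hp0
  simp only [hp, Polynomial.finsetSum_coeff, coeff_C_mul, coeff_X_pow, coeff_zero] at hc
  rw [Finset.sum_eq_single i] at hc
  · simpa using hc
  · intro b _ hb
    have : (i : ℕ) ≠ (b : ℕ) := fun h => hb (Fin.ext h.symm)
    simp [this]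
  · intro h
    exact absurd (Finset.mem_univ i) h

/-- the matrix with columns `v, x v, …, x ^ (n-1) v` -/
def colMat (x : Matrix (Fin n) (Fin n) F) (v : Fin n → F) : Matrix (Fin n) (Fin n) F :=
  Matrix.of fun a (j : Fin n) => ((x ^ (j : ℕ)) *ᵥ v) a

/-- the cyclic shift matrix -/
def shiftMat (F : Type*) [Field F] (n : ℕ) [NeZero n] : Matrix (Fin n) (Fin n) F :=
  Matrix.of fun k j => if k = j + 1 then 1 else 0

/-- the all-ones matrix -/
def onesMat (F : Type*) [Field F] (n : ℕ) : Matrix (Fin n) (Fin n) F :=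
  Matrix.of fun _ _ => 1

theorem mul_colMat (x : Matrix (Fin n) (Fin n) F) (hxn : x ^ n = 1) (v : Fin n → F) :
    x * colMat x v = colMat x v * shiftMat F n := by
  ext a j
  have hL : (x * colMat x v) a j = (x *ᵥ ((x ^ (j : ℕ)) *ᵥ v)) a := by
    rw [Matrix.mul_apply, Matrix.mulVec, dotProduct]
    rfl
  have hR : (colMat x v * shiftMat F n) a j = ((x ^ ((j + 1 : Fin n) : ℕ)) *ᵥ v) a := by
    rw [Matrix.mul_apply]
    simp only [shiftMat, Matrix.of_apply, mul_ite, mul_one, mul_zero]
    rw [Finset.sum_ite_eq']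
    simp [colMat]
  rw [hL, hR, Matrix.mulVec_mulVec, ← pow_succ']
  have hval : ((j + 1 : Fin n) : ℕ) = ((j : ℕ) + 1) % n := by
    rw [Fin.val_add, Fin.val_one', Nat.add_mod_mod]
  rw [hval, ← pow_eq_pow_mod _ hxn]

theorem det_colMat_ne_zero (x : Matrix (Fin n) (Fin n) F) (v : Fin n → F)
    (hv : LinearIndependent F (fun j : Fin n => (x ^ (j : ℕ)) *ᵥ v)) : (colMat x v).det ≠ 0 := by
  have h1 : (colMat x v).col = fun j : Fin n => (x ^ (j : ℕ)) *ᵥ v := by
    funext j i
    rfl
  have h2 : IsUnit (colMat x v) := by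
    rw [← Matrix.linearIndependent_cols_iff_isUnit, h1]
    exact hv
  exact ((Matrix.isUnit_iff_isUnit_det _).mp h2).ne_zero

theorem det_one_add_ones (b : F) : (1 + b • onesMat F n).det = 1 + n * b := by
  have h : b • onesMat F n = Matrix.replicateCol Unit (fun _ : Fin n => b) *
      Matrix.replicateRow Unit (fun _ : Fin n => (1 : F)) := by
    ext i j
    simp [onesMat, Matrix.mul_apply]
  rw [h, Matrix.det_one_add_replicateCol_mul_replicateRow]
  simp [dotProduct]

theorem ones_mul_shift : onesMat F n * shiftMat F n = onesMat F n := by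
  ext a j
  rw [Matrix.mul_apply]
  simp only [shiftMat, onesMat, Matrix.of_apply, one_mul]
  rw [Finset.sum_ite_eq']
  simp

theorem shift_mul_ones : shiftMat F n * onesMat F n = onesMat F n := by
  ext a j
  rw [Matrix.mul_apply]
  simp only [shiftMat, onesMat, Matrix.of_apply, mul_one]
  rw [Finset.sum_eq_single (a - 1)]
  · simp
  · intro b _ hb
    rw [if_neg]
    intro h
    apply hb
    rw [h]
    exact (add_sub_cancel_right b 1).symm
  · intro h
    exact absurd (Finset.mem_univ _) h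

theorem ones_comm (b : F) :
    (1 + b • onesMat F n) * shiftMat F n = shiftMat F n * (1 + b • onesMat F n) := by
  rw [add_mul, mul_add, one_mul, mul_one, Matrix.smul_mul, Matrix.mul_smul, ones_mul_shift,
    shift_mul_ones]

/-- two matrices with `x ^ n = 1`, each with a cyclic vector, are conjugate under `SL_n` -/
theorem conj_of_cyc (hn : (n : F) ≠ 0) (x y : Matrix (Fin n) (Fin n) F) (hx : x ^ n = 1)
    (hy : y ^ n = 1) (v w : Fin n → F)
    (hv : LinearIndependent F (fun j : Fin n => (x ^ (j : ℕ)) *ᵥ v))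
    (hw : LinearIndependent F (fun j : Fin n => (y ^ (j : ℕ)) *ᵥ w)) :
    ∃ g : Matrix (Fin n) (Fin n) F, g.det = 1 ∧ x * g = g * y := by
  obtain ⟨P, hP⟩ : ∃ P, P = colMat x v := ⟨_, rfl⟩
  obtain ⟨R, hR⟩ : ∃ R, R = colMat y w := ⟨_, rfl⟩
  have hdP : P.det ≠ 0 := by rw [hP]; exact det_colMat_ne_zero x v hv
  have hdR : R.det ≠ 0 := by rw [hR]; exact det_colMat_ne_zero y w hw
  have hxP : x * P = P * shiftMat F n := by rw [hP]; exact mul_colMat x hx v
  have hyR : y * R = R * shiftMat F n := by rw [hR]; exact mul_colMat y hy w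
  have hRu : IsUnit R.det := isUnit_iff_ne_zero.mpr hdR
  have hRR : R * R⁻¹ = 1 := Matrix.mul_nonsing_inv R hRu
  have hRR' : R⁻¹ * R = 1 := Matrix.nonsing_inv_mul R hRu
  obtain ⟨b, hb⟩ : ∃ b : F, b = (R.det / P.det - 1) / n := ⟨_, rfl⟩
  have hcdet : (1 + b • onesMat F n).det = R.det / P.det := by
    rw [det_one_add_ones, hb]
    field_simp
    ring
  have hCR : shiftMat F n * R⁻¹ = R⁻¹ * y := by
    calc shiftMat F n * R⁻¹ = R⁻¹ * R * shiftMat F n * R⁻¹ := by rw [hRR', one_mul]
      _ = R⁻¹ * (y * R) * R⁻¹ := by rw [hyR, ← mul_assoc]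
      _ = R⁻¹ * y * (R * R⁻¹) := by simp only [mul_assoc]
      _ = R⁻¹ * y := by rw [hRR, mul_one]
  refine ⟨P * (1 + b • onesMat F n) * R⁻¹, ?_, ?_⟩
  · rw [Matrix.det_mul, Matrix.det_mul, hcdet, Matrix.det_nonsing_inv, Ring.inverse_eq_inv']
    field_simp
  · calc x * (P * (1 + b • onesMat F n) * R⁻¹) = x * P * (1 + b • onesMat F n) * R⁻¹ := by
          simp only [mul_assoc]
      _ = P * (shiftMat F n * (1 + b • onesMat F n)) * R⁻¹ := by rw [hxP]; simp only [mul_assoc]
      _ = P * ((1 + b • onesMat F n) * shiftMat F n) * R⁻¹ := by rw [ones_comm]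
      _ = P * (1 + b • onesMat F n) * (shiftMat F n * R⁻¹) := by simp only [mul_assoc]
      _ = P * (1 + b • onesMat F n) * R⁻¹ * y := by rw [hCR]; simp only [mul_assoc]

/-- a root of the characteristic polynomial is a root of every annihilating polynomial -/
theorem eval_eq_zero_of_charpoly_root (x : Matrix (Fin n) (Fin n) F) (a : F)
    (ha : x.charpoly.eval a = 0) (p : F[X]) (hp : aeval x p = 0) : p.eval a = 0 := by
  rw [Matrix.eval_charpoly] at ha
  obtain ⟨v, hv0, hv⟩ := Matrix.exists_mulVec_eq_zero_iff.mpr ha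
  have hxv : x *ᵥ v = a • v := by
    rw [Matrix.sub_mulVec, sub_eq_zero] at hv
    rw [← hv]
    ext i
    simp [Matrix.mulVec, dotProduct, Matrix.scalar, Matrix.diagonal_apply]
  have hev : Module.End.HasEigenvector (Matrix.toLin' x) a v := by
    refine ⟨?_, hv0⟩
    rw [Module.End.mem_eigenspace_iff, Matrix.toLin'_apply, hxv]
  have h1 := Module.End.aeval_apply_of_hasEigenvector (p := p) hev
  rw [aeval_mulVec, hp, Matrix.zero_mulVec] at h1
  rcases smul_eq_zero.mp h1.symm with h | h
  · exact h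
  · exact absurd h hv0

end Cfsg.Agent.Lib.Helper9.CycN
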