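/-
helper9: DEFECT-ONE cluster, Part M (planner helper8), leaf TRACE `exists_tr1_eq`:
for `φ` commuting with `N = N_G(P)` (`|P| = p`, `p ∤ |N : P|`, char `F = p`) there are a `G`-equivariant `ψ` and a
`γ` with `ψ = φ + tr1_N γ`.
-/
import Mathlib
import Cfsg.Prelude.Def_BlockRank
import Cfsg.Agent.Lib.Helper8.DOMDefs
import Cfsg.Agent.Lib.Helper27.BlkAlgDefs2
import Cfsg.Agent.Lib.Helper27.BlkAlgL3
import Cfsg.Agent.Lib.Helper19.BlkAlgB1
import Cfsg.Agent.Lib.Helper18.BlkAlgB3

set_option autoImplicit false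

namespace Cfsg.Agent.Lib.Helper9.DOMTRACE

open Cfsg Cfsg.Agent.Lib.Helper8.DOM Cfsg.Agent.Lib.Helper27.BlkAlg

universe u v w

/-! ### group theory: the stabilizers of `N` on `G/N \ {N}` have order prime to `p` -/

section grp

variable {G : Type v} [Group G] (p : ℕ) [Fact p.Prime]

/-- elements of order `p` of `N_G(P)` lie in `P` when `p ∤ |N_G(P) : P|` -/
theorem mem_of_orderOf_eq (P : Subgroup G) (hidx : ¬ p ∣ P.relIndex (Nz P)) (n : G) (hn : n ∈ Nz P)
    (ho : orderOf n = p) : n ∈ P := by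
  have hp : p.Prime := Fact.out
  set N := Nz P with hN
  set P' : Subgroup N := P.subgroupOf N with hP'
  have : P'.Normal := Subgroup.normal_in_normalizer
  let n' : N := ⟨n, hn⟩
  have hon' : orderOf n' = p := by
    rw [← ho]; exact Subgroup.orderOf_mk n hn
  set q : N ⧸ P' := QuotientGroup.mk n' with hq
  have h1 : orderOf q ∣ p := by
    rw [← hon']
    exact orderOf_map_dvd (QuotientGroup.mk' P') n'
  have h2 : orderOf q ∣ P.relIndex N := by
    have : orderOf q ∣ Nat.card (N ⧸ P') := orderOf_dvd_natCard q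
    rwa [← Subgroup.index_eq_card] at this
  rcases (Nat.dvd_prime hp).mp h1 with h | h
  · rw [orderOf_eq_one_iff] at h
    have : n' ∈ P' := (QuotientGroup.eq_one_iff n').mp h
    exact this
  · rw [h] at h2
    exact absurd h2 hidx

/-- if `n` and `g⁻¹ n g` are elements of order `p` of `N_G(P)` then `g ∈ N_G(P)` -/
theorem mem_normalizer_of_conj [Finite G] (P : Subgroup G) (hP : Nat.card P = p) (hidx : ¬ p ∣ P.relIndex (Nz P))
    (g n : G) (hn : n ∈ Nz P) (hgn : g⁻¹ * n * g ∈ Nz P) (ho : orderOf n = p) : g ∈ Nz P := by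
  have hp : p.Prime := Fact.out
  have hnP : n ∈ P := mem_of_orderOf_eq p P hidx n hn ho
  have ho' : orderOf (g⁻¹ * n * g) = p := by
    have : g⁻¹ * n * g = MulAut.conj g⁻¹ n := by simp
    rw [this, MulEquiv.orderOf_eq, ho]
  have hgnP : g⁻¹ * n * g ∈ P := mem_of_orderOf_eq p P hidx _ hgn ho'
  have hn1 : (⟨n, hnP⟩ : P) ≠ 1 := by
    intro h
    have : n = 1 := congrArg Subtype.val h
    rw [this, orderOf_one] at ho
    exact hp.one_lt.ne ho
  -- `g⁻¹ P g ≤ P`
  have hle : P.map (MulAut.conj g⁻¹).toMonoidHom ≤ P := by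
    rintro _ ⟨h, hh, rfl⟩
    have hz : (⟨h, hh⟩ : P) ∈ Subgroup.zpowers (⟨n, hnP⟩ : P) := mem_zpowers_of_prime_card hP hn1
    obtain ⟨k, hk⟩ := hz
    have hk' : n ^ k = h := by
      have := congrArg Subtype.val hk
      simpa using this
    rw [← hk']
    show (MulAut.conj g⁻¹) (n ^ k) ∈ P
    rw [map_zpow]
    apply P.zpow_mem
    simpa [MulAut.conj_apply] using hgnP
  have heq : P.map (MulAut.conj g⁻¹).toMonoidHom = P := by
    apply Subgroup.eq_of_le_of_card_ge hle
    rw [Subgroup.card_map_of_injective (MulAut.conj g⁻¹).injective]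
  have : g⁻¹ ∈ Nz P := Subgroup.mem_normalizer_iff_map_conj_eq.mpr heq
  simpa using (Nz P).inv_mem this

end grp

section modules

variable {F : Type u} [Field F] {G : Type v} [Group G] [Finite G]
variable {V : Type w} [AddCommGroup V] [Module F V]
variable (p : ℕ) [Fact p.Prime] [CharP F p]

/-- sum over the group of a function of `n • c` = (order of the stabilizer) • sum over the orbit -/
theorem sum_smul_eq {N : Type*} [Group N] [Fintype N] {X : Type*} [DecidableEq X] [MulAction N X]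
    {M : Type*} [AddCommMonoid M] (c : X) (f : X → M) :
    ∑ n : N, f (n • c) =
      Nat.card (MulAction.stabilizer N c) • ∑ b ∈ Finset.univ.image (fun n : N => n • c), f b := by
  classical
  rw [Finset.sum_comp f (fun n : N => n • c), Finset.smul_sum]
  apply Finset.sum_congr rfl
  intro b hb
  obtain ⟨m, -, rfl⟩ := Finset.mem_image.mp hb
  congr 1
  rw [Nat.card_eq_fintype_card, Fintype.card_subtype]
  apply Finset.card_bij (fun n _ => m⁻¹ * n)
  · intro n hn
    simp only [Finset.mem_filter, Finset.mem_univ, true_and] at hn ⊢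
    rw [MulAction.mem_stabilizer_iff, mul_smul, hn, inv_smul_smul]
  · intro a _ b _ hab
    exact mul_left_cancel hab
  · intro s hs
    simp only [Finset.mem_filter, Finset.mem_univ, true_and] at hs
    refine ⟨m * s, ?_, by simp⟩
    simp only [Finset.mem_filter, Finset.mem_univ, true_and]
    rw [mul_smul, MulAction.mem_stabilizer_iff.mp hs]


/-- TRACE -/
theorem exists_tr1_eq (ρ : Representation F G V) (P : Subgroup G) (hP : Nat.card P = p)
    (hidx : ¬ p ∣ P.relIndex (Nz P))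
    (φ : V →ₗ[F] V) (hφ : Comm ρ (Nz P) φ) :
    ∃ ψ γ : V →ₗ[F] V, Comm ρ ⊤ ψ ∧ ψ = φ + tr1 ρ ρ (Nz P) γ := by
  classical
  have hp : p.Prime := Fact.out
  set N := Nz P with hN
  have : Fintype N := Fintype.ofFinite _
  have : Fintype (G ⧸ N) := Fintype.ofFinite _
  have hφ' : ∀ n ∈ N, ρ n * φ * ρ n⁻¹ = φ := by
    intro n hn
    have h1 : ρ n * φ = φ * ρ n := hφ n hn
    rw [h1, mul_assoc, ← map_mul, mul_inv_cancel, map_one, mul_one]
  let Φ : G ⧸ N → Module.End F V := fun c => ρ c.out * φ * ρ c.out⁻¹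
  have hΦmk : ∀ g : G, Φ (g : G ⧸ N) = ρ g * φ * ρ g⁻¹ := by
    intro g
    obtain ⟨n, hn⟩ := QuotientGroup.mk_out_eq_mul N g
    show ρ (g : G ⧸ N).out * φ * ρ (g : G ⧸ N).out⁻¹ = _
    rw [hn, mul_inv_rev, map_mul, map_mul]
    have h2 := hφ' n n.2
    calc ρ g * ρ n * φ * (ρ (n : G)⁻¹ * ρ g⁻¹)
        = ρ g * (ρ n * φ * ρ (n : G)⁻¹) * ρ g⁻¹ := by simp only [mul_assoc]
      _ = _ := by rw [h2]
  have hΦsmul : ∀ (h : G) (c : G ⧸ N), ρ h * Φ c * ρ h⁻¹ = Φ (h • c) := by
    intro h c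
    induction c using QuotientGroup.induction_on with
    | H g =>
      have h3 : h • (g : G ⧸ N) = ((h * g : G) : G ⧸ N) := rfl
      rw [h3, hΦmk, hΦmk, mul_inv_rev, map_mul, map_mul]
      simp only [mul_assoc]
  set c₀ : G ⧸ N := ((1 : G) : G ⧸ N) with hc₀
  have hΦc₀ : Φ c₀ = φ := by
    rw [hc₀, hΦmk]; simp
  -- `ψ`
  set ψ : Module.End F V := ∑ c : G ⧸ N, Φ c with hψ
  have hψconj : ∀ h : G, ρ h * ψ * ρ h⁻¹ = ψ := by
    intro h
    rw [hψ, Finset.mul_sum, Finset.sum_mul]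
    simp only [hΦsmul]
    exact Equiv.sum_comp (MulAction.toPerm h : (G ⧸ N) ≃ (G ⧸ N)) Φ
  have hψcomm : Comm ρ ⊤ ψ := by
    intro h _
    show ρ h * ψ = ψ * ρ h
    conv_rhs => rw [← hψconj h]
    rw [mul_assoc, ← map_mul, inv_mul_cancel, map_one, mul_one]
  -- orbits of `N` on `G ⧸ N`
  let O : G ⧸ N → Finset (G ⧸ N) := fun c => Finset.univ.image (fun n : N => n • c)
  have hO1 : ∀ c, c ∈ O c := fun c => Finset.mem_image.mpr ⟨1, Finset.mem_univ _, one_smul _ _⟩
  have hO2 : ∀ c c', c' ∈ O c → O c' = O c := by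
    intro c c' hc'
    obtain ⟨m, -, rfl⟩ := Finset.mem_image.mp hc'
    ext b
    simp only [O, Finset.mem_image, Finset.mem_univ, true_and]
    constructor
    · rintro ⟨n, rfl⟩
      exact ⟨n * m, mul_smul _ _ _⟩
    · rintro ⟨n, rfl⟩
      exact ⟨n * m⁻¹, by rw [← mul_smul, inv_mul_cancel_right]⟩
  have hsmulc₀ : ∀ n : N, n • c₀ = c₀ := by
    intro n
    have h3 : n • c₀ = (((n : G) * 1 : G) : G ⧸ N) := rfl
    rw [h3, hc₀, QuotientGroup.eq]
    simp
  have hO0 : ∀ c, c₀ ∈ O c → c = c₀ := by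
    intro c hc
    have h4 := hO2 c c₀ hc
    have h5 : c ∈ O c₀ := h4 ▸ hO1 c
    obtain ⟨n, -, rfl⟩ := Finset.mem_image.mp h5
    exact hsmulc₀ n
  -- stabilizers
  have hS : ∀ c, c ≠ c₀ → ((Nat.card (MulAction.stabilizer N c) : ℕ) : F) ≠ 0 := by
    intro c hc h0
    rw [CharP.cast_eq_zero_iff F p] at h0
    obtain ⟨x, hx⟩ := exists_prime_orderOf_dvd_card' p h0
    induction c using QuotientGroup.induction_on with
    | H g =>
      apply hc
      have hxs : (x : N) • (g : G ⧸ N) = (g : G ⧸ N) := MulAction.mem_stabilizer_iff.mp x.2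
      have h3 : (x : N) • (g : G ⧸ N) = (((((x : N) : G)) * g : G) : G ⧸ N) := rfl
      rw [h3, QuotientGroup.eq] at hxs
      have hgn : g⁻¹ * (((x : N) : G)) * g ∈ N := by
        have := N.inv_mem hxs
        simpa [mul_assoc] using this
      have ho : orderOf (((x : N) : G)) = p := by
        rw [Subgroup.orderOf_coe, Subgroup.orderOf_coe, hx]
      have hg : g ∈ N := mem_normalizer_of_conj p P hP hidx g _ (x : N).2 hgn ho
      rw [hc₀, QuotientGroup.eq]
      simpa using hg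
  -- representatives
  let pick : Finset (G ⧸ N) → G ⧸ N := fun s => if h : s.Nonempty then h.choose else c₀
  have hpick : ∀ s : Finset (G ⧸ N), s.Nonempty → pick s ∈ s := by
    intro s hs
    simp only [pick, dif_pos hs]
    exact hs.choose_spec
  let rep : G ⧸ N → G ⧸ N := fun c => pick (O c)
  have hrep : ∀ c, rep c ∈ O c := fun c => hpick _ ⟨c, hO1 c⟩
  have hrepO : ∀ c, O (rep c) = O c := fun c => hO2 c _ (hrep c)
  have hrep' : ∀ c c', c' ∈ O c → rep c' = rep c := by
    intro c c' h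
    show pick (O c') = pick (O c)
    rw [hO2 c c' h]
  set R : Finset (G ⧸ N) := Finset.univ.filter (fun c => c ≠ c₀ ∧ rep c = c) with hR
  set γ : Module.End F V :=
    ∑ c ∈ R, ((Nat.card (MulAction.stabilizer N c) : ℕ) : F)⁻¹ • Φ c with hγ
  refine ⟨ψ, γ, hψcomm, ?_⟩
  -- the relative trace of `γ`
  have htr : tr1 ρ ρ N γ = ∑ n : N, ρ (n : G) * γ * ρ ((n : G)⁻¹) := by
    rw [tr1_eq_sum]
    apply Finset.sum_congr rfl
    intro n _
    rw [mul_assoc]
    rfl
  have h1 : ∑ n : N, ρ (n : G) * γ * ρ ((n : G)⁻¹) =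
      ∑ c ∈ R, ((Nat.card (MulAction.stabilizer N c) : ℕ) : F)⁻¹ • ∑ n : N, Φ (n • c) := by
    simp only [hγ, Finset.mul_sum, Finset.sum_mul, mul_smul_comm, smul_mul_assoc, hΦsmul]
    rw [Finset.sum_comm]
    apply Finset.sum_congr rfl
    intro c _
    rw [Finset.smul_sum]
    rfl
  have h2 : ∀ c ∈ R, ((Nat.card (MulAction.stabilizer N c) : ℕ) : F)⁻¹ • ∑ n : N, Φ (n • c) =
      ∑ b ∈ O c, Φ b := by
    intro c hc
    have hc' : c ≠ c₀ := (Finset.mem_filter.mp hc).2.1
    rw [sum_smul_eq c Φ, ← Nat.cast_smul_eq_nsmul F, smul_smul, inv_mul_cancel₀ (hS c hc'), one_smul]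
  have h3 : ∑ c ∈ R, ∑ b ∈ O c, Φ b = ∑ b ∈ Finset.univ.erase c₀, Φ b := by
    rw [← Finset.sum_biUnion]
    · apply Finset.sum_congr _ (fun _ _ => rfl)
      ext b
      simp only [Finset.mem_biUnion, Finset.mem_erase, Finset.mem_univ, and_true]
      constructor
      · rintro ⟨c, hc, hb⟩ hb0
        have hc' : c ≠ c₀ := (Finset.mem_filter.mp hc).2.1
        rw [hb0] at hb
        exact hc' (hO0 c hb)
      · intro hb
        refine ⟨rep b, ?_, ?_⟩
        · rw [hR, Finset.mem_filter]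
          refine ⟨Finset.mem_univ _, ?_, ?_⟩
          · intro h0
            have : c₀ ∈ O b := h0 ▸ hrep b
            exact hb (hO0 b this)
          · exact hrep' b (rep b) (hrep b)
        · rw [hrepO b]; exact hO1 b
    · intro c hc c' hc' hne
      rw [Function.onFun, Finset.disjoint_left]
      intro b hb hb'
      apply hne
      have e1 : rep c = c := (Finset.mem_filter.mp hc).2.2
      have e2 : rep c' = c' := (Finset.mem_filter.mp hc').2.2
      rw [← e1, ← e2, ← hrep' c b hb, ← hrep' c' b hb']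
  rw [htr, h1, Finset.sum_congr rfl h2, h3, hψ, ← hΦc₀]
  exact (Finset.add_sum_erase Finset.univ Φ (Finset.mem_univ c₀)).symm

end modules

end Cfsg.Agent.Lib.Helper9.DOMTRACE
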