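import Mathlib

/-!
S2264/S2265 leaf (G2): a matrix preserving an invertible Gram matrix has a self-reciprocal
characteristic polynomial.
-/

set_option autoImplicit false

namespace Cfsg.Agent.Lib.Helper9.EOrdG2

open Polynomial Matrix

variable {F : Type*} [Field F] [Fintype F]

/-- LEAF G2 -/
theorem charpoly_mirror_of_preserves {ι : Type*} [Fintype ι] [DecidableEq ι] (A M : Matrix ι ι F)
    (hM : IsUnit M.det) (h : A.transpose * M * A = M) :
    A.charpoly.natDegree = Fintype.card ι ∧ A.charpoly.coeff 0 ≠ 0 ∧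
      Associated A.charpoly.mirror A.charpoly := by
  have hM0 : M.det ≠ 0 := hM.ne_zero
  have hdet : A.det * A.det = 1 := by
    have h1 := congrArg Matrix.det h
    rw [det_mul, det_mul, det_transpose] at h1
    have h2 : (A.det * A.det) * M.det = 1 * M.det := by
      rw [one_mul]
      calc A.det * A.det * M.det = A.det * M.det * A.det := by ring
        _ = M.det := h1
    exact mul_right_cancel₀ hM0 h2
  have hA0 : A.det ≠ 0 := by
    intro h0
    rw [h0, mul_zero] at hdet
    exact zero_ne_one hdet
  have hAdu : IsUnit A.det := isUnit_iff_ne_zero.mpr hA0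
  have hAu : IsUnit A := (Matrix.isUnit_iff_isUnit_det A).mpr hAdu
  have hinv : A⁻¹ = M⁻¹ * A.transpose * M := by
    apply Matrix.inv_eq_left_inv
    rw [mul_assoc, mul_assoc, ← mul_assoc A.transpose, h, Matrix.nonsing_inv_mul _ hM]
  have hcp : A⁻¹.charpoly = A.charpoly := by
    rw [hinv]
    have hMu : IsUnit M := (Matrix.isUnit_iff_isUnit_det M).mpr hM
    obtain ⟨u, hu⟩ := hMu
    rw [← hu, Matrix.charpoly_units_conj', Matrix.charpoly_transpose]
  have hc0 : A.charpoly.coeff 0 ≠ 0 := by
    intro h0
    have := Matrix.det_eq_sign_charpoly_coeff A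
    rw [h0, mul_zero] at this
    exact hA0 this
  refine ⟨Matrix.charpoly_natDegree_eq_dim A, hc0, ?_⟩
  have hmir : A.charpoly.mirror = A.charpoly.reverse := by
    rw [Polynomial.mirror]
    have : A.charpoly.natTrailingDegree = 0 := by
      rw [Polynomial.natTrailingDegree_eq_zero]
      right
      exact hc0
    rw [this, pow_zero, mul_one]
  rw [hmir, Matrix.reverse_charpoly]
  have hci := Matrix.charpoly_inv A hAu
  rw [hcp] at hci
  -- A.charpoly = unit * charpolyRev
  have hunit : IsUnit ((-1 : F[X]) ^ Fintype.card ι * C (Ring.inverse A.det)) := by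
    refine IsUnit.mul ?_ ?_
    · exact (isUnit_neg_one (α := F[X])).pow _  
    · rw [Polynomial.isUnit_C]
      rw [Ring.inverse_eq_inv']
      exact isUnit_iff_ne_zero.mpr (inv_ne_zero hA0)
  obtain ⟨u, hu⟩ := hunit
  refine ⟨u, ?_⟩
  rw [hci, hu, mul_comm]

end Cfsg.Agent.Lib.Helper9.EOrdG2
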