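import Mathlib
import Cfsg.Agent.Lib.Helper9.Ext27A
import Cfsg.Agent.Lib.Helper9.Ord3A

set_option autoImplicit false

namespace Cfsg.Agent.Lib.Helper9.Ext27B
open Matrix
open Cfsg.Agent.Lib.Helper9

variable {F : Type*} [Field F]

/-- a matrix commuting with a diagonal matrix with distinct entries is diagonal -/
theorem diag_of_commute {n : ℕ} (M : Matrix (Fin n) (Fin n) F) (d : Fin n → F)
    (hd : Function.Injective d) (hM : M * Matrix.diagonal d = Matrix.diagonal d * M) :
    M = Matrix.diagonal (fun i => M i i) := by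
  ext i j
  by_cases hij : i = j
  · subst hij
    simp
  · rw [Matrix.diagonal_apply_ne _ hij]
    have h1 := congrFun (congrFun hM i) j
    rw [Matrix.mul_diagonal, Matrix.diagonal_mul] at h1
    have h2 : M i j * (d j - d i) = 0 := by linear_combination h1
    rcases mul_eq_zero.mp h2 with h | h
    · exact h
    · exact absurd (hd (sub_eq_zero.mp h)).symm hij

/-- two matrices commuting with a diagonal matrix with distinct entries commute -/
theorem commute_of_commute_diag {n : ℕ} (A B : Matrix (Fin n) (Fin n) F) (d : Fin n → F)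
    (hd : Function.Injective d) (hA : A * Matrix.diagonal d = Matrix.diagonal d * A)
    (hB : B * Matrix.diagonal d = Matrix.diagonal d * B) : A * B = B * A := by
  rw [diag_of_commute A d hd hA, diag_of_commute B d hd hB, Matrix.diagonal_mul_diagonal,
    Matrix.diagonal_mul_diagonal]
  congr 1
  funext i
  exact mul_comm _ _

/-- an element of order 3 and determinant 1 centralizing two non-commuting matrices is scalar -/
theorem scalar_of_cube_central (h3 : (3 : F) ≠ 0) (ω : F) (hω : ω ^ 2 + ω + 1 = 0)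
    (c A B : Matrix (Fin 3) (Fin 3) F) (hc3 : c ^ 3 = 1) (hdet : c.det = 1)
    (hcA : c * A = A * c) (hcB : c * B = B * c) (hAB : A * B ≠ B * A) :
    ∃ t : F, c = t • (1 : Matrix (Fin 3) (Fin 3) F) := by
  obtain ⟨h, d, hh, hch, hd3⟩ := Ext27A.exists_diag_cube h3 ω hω c hc3
  have hu : IsUnit h.det := isUnit_iff_ne_zero.mpr hh
  have hhi : h * h⁻¹ = 1 := Matrix.mul_nonsing_inv h hu
  have hih : h⁻¹ * h = 1 := Matrix.nonsing_inv_mul h hu
  have hprod : d 0 * d 1 * d 2 = 1 := by
    have := congrArg Matrix.det hch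
    rw [Matrix.det_mul, Matrix.det_mul, hdet, one_mul, Matrix.det_diagonal,
      Fin.prod_univ_three] at this
    have h4 : h.det * (d 0 * d 1 * d 2 - 1) = 0 := by linear_combination -this
    rcases mul_eq_zero.mp h4 with h5 | h5
    · exact absurd h5 hh
    · exact sub_eq_zero.mp h5
  have hcD : c = h * Matrix.diagonal d * h⁻¹ := by
    rw [← hch, mul_assoc, hhi, mul_one]
  by_cases hall : d 0 = d 1 ∧ d 1 = d 2
  · refine ⟨d 0, ?_⟩
    have hD : Matrix.diagonal d = d 0 • (1 : Matrix (Fin 3) (Fin 3) F) := by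
      ext i j
      fin_cases i <;> fin_cases j <;> simp [hall.1, ← hall.2]
    rw [hcD, hD, Matrix.mul_smul, Matrix.smul_mul, mul_one, hhi]
  · exfalso
    have hinj : Function.Injective d := by
      have h0 := hd3 0
      have h1 := hd3 1
      have h2 := hd3 2
      have e01 : d 0 = d 1 → d 1 = d 2 := by
        intro e
        rw [e] at hprod
        -- d1^2 d2 = 1, d1^3 = 1
        have : d 1 * d 1 * (d 2 - d 1) = 0 := by linear_combination hprod - h1
        rcases mul_eq_zero.mp this with h5 | h5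
        · have : d 1 = 0 := by
            rcases mul_eq_zero.mp h5 with h6 | h6 <;> exact h6
          rw [this] at h1
          norm_num at h1
        · exact (sub_eq_zero.mp h5).symm
      have e12 : d 1 = d 2 → d 0 = d 1 := by
        intro e
        rw [← e] at hprod
        have : d 1 * d 1 * (d 0 - d 1) = 0 := by linear_combination hprod - h1
        rcases mul_eq_zero.mp this with h5 | h5
        · have : d 1 = 0 := by
            rcases mul_eq_zero.mp h5 with h6 | h6 <;> exact h6
          rw [this] at h1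
          norm_num at h1
        · exact sub_eq_zero.mp h5
      have e02 : d 0 = d 2 → d 0 = d 1 := by
        intro e
        rw [← e] at hprod
        have : d 0 * d 0 * (d 1 - d 0) = 0 := by linear_combination hprod - h0
        rcases mul_eq_zero.mp this with h5 | h5
        · have : d 0 = 0 := by
            rcases mul_eq_zero.mp h5 with h6 | h6 <;> exact h6
          rw [this] at h0
          norm_num at h0
        · exact (sub_eq_zero.mp h5).symm
      have n01 : d 0 ≠ d 1 := fun e => hall ⟨e, e01 e⟩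
      have n12 : d 1 ≠ d 2 := fun e => hall ⟨e12 e, e⟩
      have n02 : d 0 ≠ d 2 := fun e => n01 (e02 e)
      intro i j hij
      fin_cases i <;> fin_cases j <;> first | rfl | (exfalso; simp at hij; first | exact n01 hij | exact n12 hij | exact n02 hij | exact n01 hij.symm | exact n12 hij.symm | exact n02 hij.symm)
    have conjc : ∀ M : Matrix (Fin 3) (Fin 3) F, c * M = M * c →
        (h⁻¹ * M * h) * Matrix.diagonal d = Matrix.diagonal d * (h⁻¹ * M * h) := by
      intro M hM
      have e1 : Matrix.diagonal d = h⁻¹ * c * h := by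
        rw [mul_assoc, hch, ← mul_assoc, hih, one_mul]
      rw [e1]
      calc h⁻¹ * M * h * (h⁻¹ * c * h) = h⁻¹ * M * (h * h⁻¹) * c * h := by simp only [mul_assoc]
        _ = h⁻¹ * (M * c) * h := by rw [hhi, mul_one]; simp only [mul_assoc]
        _ = h⁻¹ * (c * M) * h := by rw [hM]
        _ = h⁻¹ * c * (h * h⁻¹) * M * h := by rw [hhi, mul_one]; simp only [mul_assoc]
        _ = h⁻¹ * c * h * (h⁻¹ * M * h) := by simp only [mul_assoc]
    have hcomm := commute_of_commute_diag _ _ d hinj (conjc A hcA) (conjc B hcB)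
    apply hAB
    have e2 : h⁻¹ * A * h * (h⁻¹ * B * h) = h⁻¹ * (A * B) * h := by
      calc h⁻¹ * A * h * (h⁻¹ * B * h) = h⁻¹ * A * (h * h⁻¹) * B * h := by simp only [mul_assoc]
        _ = h⁻¹ * (A * B) * h := by rw [hhi, mul_one]; simp only [mul_assoc]
    have e3 : h⁻¹ * B * h * (h⁻¹ * A * h) = h⁻¹ * (B * A) * h := by
      calc h⁻¹ * B * h * (h⁻¹ * A * h) = h⁻¹ * B * (h * h⁻¹) * A * h := by simp only [mul_assoc]
        _ = h⁻¹ * (B * A) * h := by rw [hhi, mul_one]; simp only [mul_assoc]
    rw [e2, e3] at hcomm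
    calc A * B = h * (h⁻¹ * (A * B) * h) * h⁻¹ := by
          rw [mul_assoc h⁻¹, ← mul_assoc h, hhi, one_mul, mul_assoc, hhi, mul_one]
      _ = h * (h⁻¹ * (B * A) * h) * h⁻¹ := by rw [hcomm]
      _ = B * A := by
          rw [mul_assoc h⁻¹, ← mul_assoc h, hhi, one_mul, mul_assoc, hhi, mul_one]

/-- the diagonal generator `diag(1, ω, ω²)` -/
def Xm (ω : F) : Matrix (Fin 3) (Fin 3) F := Matrix.diagonal ![1, ω, ω ^ 2]

theorem inj3 {α : Type*} (x0 x1 x2 : α) (h01 : x0 ≠ x1) (h02 : x0 ≠ x2) (h12 : x1 ≠ x2) :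
    Function.Injective ![x0, x1, x2] := by
  intro i j hij
  fin_cases i <;> fin_cases j <;> simp_all

theorem std_form (h3 : (3 : F) ≠ 0) (ω : F) (hω : ω ^ 2 + ω + 1 = 0)
    (a b : Matrix (Fin 3) (Fin 3) F) (ha : a ^ 3 = 1) (hb : b ^ 3 = 1)
    (hab : a * b = ω • (b * a)) :
    ∃ (m : Matrix (Fin 3) (Fin 3) F) (l : F), m.det ≠ 0 ∧ l ^ 3 = 1 ∧
      a * m = m * (l • Xm ω) ∧ b * m = m * Ord3A.Cm F := by
  have hω3 : ω ^ 3 = 1 := by linear_combination (ω - 1) * hω
  have hω1 : ω ≠ 1 := by
    intro h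
    rw [h] at hω
    apply h3
    linear_combination hω
  have hω0 : ω ≠ 0 := by
    intro h
    rw [h] at hω3
    norm_num at hω3
  obtain ⟨h, d, hh, hah, hd3⟩ := Ext27A.exists_diag_cube h3 ω hω a ha
  set v : Fin 3 → F := fun i => h i 0 with hv
  have hv0 : v ≠ 0 := by
    intro h0
    apply hh
    apply Matrix.det_eq_zero_of_column_eq_zero 0
    intro i
    exact congrFun h0 i
  set l := d 0 with hl
  have hl3 : l ^ 3 = 1 := hd3 0
  have hl0 : l ≠ 0 := by
    intro h
    rw [h] at hl3
    norm_num at hl3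
  have hav : a *ᵥ v = l • v := by
    funext i
    have := congrFun (congrFun hah i) 0
    rw [Matrix.mul_diagonal] at this
    have hL : (a * h) i 0 = (a *ᵥ v) i := by
      rw [Matrix.mul_apply, Matrix.mulVec, dotProduct]
    rw [← hL, this]
    simp [hv, hl, mul_comm]
  have hab' : ∀ u : Fin 3 → F, a *ᵥ (b *ᵥ u) = ω • (b *ᵥ (a *ᵥ u)) := by
    intro u
    rw [Matrix.mulVec_mulVec, hab, Matrix.smul_mulVec, Matrix.mulVec_mulVec]
  have hbinj : ∀ u : Fin 3 → F, b *ᵥ u = 0 → u = 0 := by
    intro u hu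
    have : (b ^ 3) *ᵥ u = 0 := by
      rw [pow_succ, ← Matrix.mulVec_mulVec, hu, Matrix.mulVec_zero]
    rwa [hb, Matrix.one_mulVec] at this
  have hav1 : a *ᵥ (b *ᵥ v) = (ω * l) • (b *ᵥ v) := by
    rw [hab', hav, Matrix.mulVec_smul, smul_smul]
  have hav2 : a *ᵥ (b *ᵥ (b *ᵥ v)) = (ω ^ 2 * l) • (b *ᵥ (b *ᵥ v)) := by
    rw [hab', hav1, Matrix.mulVec_smul, smul_smul]
    congr 1
    ring
  have hv1 : b *ᵥ v ≠ 0 := fun h => hv0 (hbinj _ h)
  have hv2 : b *ᵥ (b *ᵥ v) ≠ 0 := fun h => hv1 (hbinj _ h)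
  have hli : LinearIndependent F ![v, b *ᵥ v, b *ᵥ (b *ᵥ v)] := by
    apply Module.End.eigenvectors_linearIndependent' (Matrix.toLin' a) ![l, ω * l, ω ^ 2 * l]
    · intro i j hij
      have n01 : l ≠ ω * l := by
        intro e
        have : l * (ω - 1) = 0 := by linear_combination -e
        rcases mul_eq_zero.mp this with h5 | h5
        · exact hl0 h5
        · exact hω1 (sub_eq_zero.mp h5)
      have n02 : l ≠ ω ^ 2 * l := by
        intro e
        have : l * (ω - 1) * (ω + 1) = 0 := by linear_combination -e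
        rcases mul_eq_zero.mp this with h5 | h5
        · rcases mul_eq_zero.mp h5 with h6 | h6
          · exact hl0 h6
          · exact hω1 (sub_eq_zero.mp h6)
        · apply hω0
          have : ω ^ 2 = 0 := by linear_combination hω - h5
          exact pow_eq_zero_iff (by norm_num) |>.mp this
      have n12 : ω * l ≠ ω ^ 2 * l := by
        intro e
        have : l * ω * (ω - 1) = 0 := by linear_combination -e
        rcases mul_eq_zero.mp this with h5 | h5
        · rcases mul_eq_zero.mp h5 with h6 | h6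
          · exact hl0 h6
          · exact hω0 h6
        · exact hω1 (sub_eq_zero.mp h5)
      exact inj3 _ _ _ n01 n02 n12 hij
    · intro i
      rw [Module.End.hasEigenvector_iff, Module.End.mem_eigenspace_iff]
      fin_cases i
      · exact ⟨by simpa using hav, hv0⟩
      · exact ⟨by simpa using hav1, hv1⟩
      · exact ⟨by simpa using hav2, hv2⟩
  refine ⟨Ord3A.colMat b v, l, Ord3A.det_colMat_ne_zero b v hli, hl3, ?_, Ord3A.mul_colMat b hb v⟩
  ext i j
  have hL : (a * Ord3A.colMat b v) i j = (a *ᵥ (![v, b *ᵥ v, b *ᵥ (b *ᵥ v)] j)) i := by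
    rw [Matrix.mul_apply, Matrix.mulVec, dotProduct]
    rfl
  rw [hL, Xm, ← Matrix.diagonal_smul, Matrix.mul_diagonal]
  fin_cases j
  · show (a *ᵥ v) i = v i * (l • ![1, ω, ω ^ 2]) 0
    rw [hav]
    simp [mul_comm]
  · show (a *ᵥ (b *ᵥ v)) i = (b *ᵥ v) i * (l • ![1, ω, ω ^ 2]) 1
    rw [hav1]
    simp only [Pi.smul_apply, smul_eq_mul, Matrix.cons_val_one, Matrix.cons_val_zero]
    ring
  · show (a *ᵥ (b *ᵥ (b *ᵥ v))) i = (b *ᵥ (b *ᵥ v)) i * (l • ![1, ω, ω ^ 2]) 2
    rw [hav2]
    simp only [Pi.smul_apply, smul_eq_mul, Matrix.cons_val_two, Matrix.cons_val_one,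
      Matrix.cons_val_zero, Matrix.tail_cons, Matrix.head_cons]
    ring

end Cfsg.Agent.Lib.Helper9.Ext27B
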