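import Mathlib
import Cfsg.Agent.Lib.Helper9.Ext27B

set_option autoImplicit false

namespace Cfsg.Agent.Lib.Helper9.Ext27C
open Matrix
open Cfsg.Agent.Lib.Helper9 Cfsg.Agent.Lib.Helper9.Ext27B

variable {F : Type*} [Field F]

/-- minus the transposition matrix swapping the last two coordinates -/
def Tm (F : Type*) [Field F] : Matrix (Fin 3) (Fin 3) F := !![-1, 0, 0; 0, 0, -1; 0, -1, 0]

theorem Xm_mul_Cm (ω : F) (hω3 : ω ^ 3 = 1) :
    Xm ω * Ord3A.Cm F = ω • (Ord3A.Cm F * Xm ω) := by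
  ext i j
  fin_cases i <;> fin_cases j <;>
    simp only [Xm, Ord3A.Cm, Matrix.mul_apply, Fin.sum_univ_three, Matrix.smul_apply, smul_eq_mul,
      Matrix.diagonal_apply, Matrix.of_apply, Matrix.cons_val_zero,
      Matrix.cons_val_one, Matrix.cons_val_two, Matrix.cons_val_fin_one, Matrix.head_cons,
      Matrix.tail_cons, Fin.zero_eta, Fin.mk_one, Fin.reduceFinMk, Fin.reduceEq,
      Fin.isValue, ↓reduceIte] <;>
    first | ring1 | linear_combination -hω3

theorem diag_mul_Xm (ω s : F) (d : Fin 3 → F) :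
    (s • Matrix.diagonal d) * Xm ω = Xm ω * (s • Matrix.diagonal d) := by
  rw [Xm, Matrix.smul_mul, Matrix.mul_smul, Matrix.diagonal_mul_diagonal,
    Matrix.diagonal_mul_diagonal]
  congr 2
  funext i
  exact mul_comm _ _

theorem Tm_mul_Xm (ω s : F) (hω3 : ω ^ 3 = 1) :
    (s • Tm F) * Xm ω = Xm ω ^ 2 * (s • Tm F) := by
  rw [Xm, Matrix.diagonal_pow]
  ext i j
  fin_cases i <;> fin_cases j <;>
    simp only [Tm, Matrix.mul_apply, Fin.sum_univ_three, Matrix.smul_apply, smul_eq_mul,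
      Matrix.diagonal_apply, Matrix.of_apply, Matrix.cons_val_zero,
      Matrix.cons_val_one, Matrix.cons_val_two, Matrix.cons_val_fin_one, Matrix.head_cons,
      Matrix.tail_cons, Fin.zero_eta, Fin.mk_one, Fin.reduceFinMk, Fin.reduceEq,
      Fin.isValue, ↓reduceIte, Pi.pow_apply] <;>
    first | ring1 | linear_combination (s * ω) * hω3

theorem Tm_mul_Cm (s : F) :
    (s • Tm F) * Ord3A.Cm F = Ord3A.Cm F ^ 2 * (s • Tm F) := by
  rw [pow_two]
  ext i j
  fin_cases i <;> fin_cases j <;>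
    simp only [Tm, Ord3A.Cm, Matrix.mul_apply, Fin.sum_univ_three, Matrix.smul_apply, smul_eq_mul,
      Matrix.diagonal_apply, Matrix.of_apply, Matrix.cons_val_zero,
      Matrix.cons_val_one, Matrix.cons_val_two, Matrix.cons_val_fin_one, Matrix.head_cons,
      Matrix.tail_cons, Fin.zero_eta, Fin.mk_one, Fin.reduceFinMk, Fin.reduceEq,
      Fin.isValue, ↓reduceIte] <;>
    ring1

theorem mu3 (ω : F) (hω : ω ^ 2 + ω + 1 = 0) (t : F) (ht : t ^ 3 = 1) : ∃ n : ℕ, t = ω ^ n := by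
  have : (t - 1) * (t - ω) * (t - ω ^ 2) = 0 := by
    have hω3 : ω ^ 3 = 1 := by linear_combination (ω - 1) * hω
    linear_combination ht - hω3 + (t * ω - t ^ 2) * hω
  rcases mul_eq_zero.mp this with h | h
  · rcases mul_eq_zero.mp h with h | h
    · exact ⟨0, by rw [pow_zero]; exact sub_eq_zero.mp h⟩
    · exact ⟨1, by rw [pow_one]; exact sub_eq_zero.mp h⟩
  · exact ⟨2, sub_eq_zero.mp h⟩

theorem diag_mul_Cm (ω : F) (hω : ω ^ 2 + ω + 1 = 0) (s : F) (d : Fin 3 → F)
    (hd : ∀ k, d k ^ 3 = 1) :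
    ∃ i j : ℕ, (s • Matrix.diagonal d) * Ord3A.Cm F =
      (ω ^ i • (Xm ω ^ j * Ord3A.Cm F)) * (s • Matrix.diagonal d) := by
  have hω3 : ω ^ 3 = 1 := by linear_combination (ω - 1) * hω
  obtain ⟨n0, h0⟩ := mu3 ω hω (d 0) (hd 0)
  obtain ⟨n1, h1⟩ := mu3 ω hω (d 1) (hd 1)
  obtain ⟨n2, h2⟩ := mu3 ω hω (d 2) (hd 2)
  have p3 : ∀ k : ℕ, ω ^ (3 * k) = 1 := fun k => by rw [pow_mul, hω3, one_pow]
  refine ⟨n0 + 2 * n2, n0 + n1 + n2, ?_⟩
  rw [Xm, Matrix.diagonal_pow]
  have e02 : d 0 = ω ^ (n0 + 2 * n2) * d 2 := by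
    rw [h0, h2, ← pow_add, show n0 + 2 * n2 + n2 = n0 + 3 * n2 by ring, pow_add, p3, mul_one]
  have e10 : d 1 = ω ^ (n0 + 2 * n2) * ω ^ (n0 + n1 + n2) * d 0 := by
    rw [h1, h0, ← pow_add, ← pow_add,
      show n0 + 2 * n2 + (n0 + n1 + n2) + n0 = n1 + 3 * (n0 + n2) by ring, pow_add, p3, mul_one]
  have e21 : d 2 = ω ^ (n0 + 2 * n2) * (ω ^ 2) ^ (n0 + n1 + n2) * d 1 := by
    rw [h2, h1, ← pow_mul, ← pow_add, ← pow_add,
      show n0 + 2 * n2 + 2 * (n0 + n1 + n2) + n1 = n2 + 3 * (n0 + n1 + n2) by ring, pow_add, p3,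
      mul_one]
  ext i j
  fin_cases i <;> fin_cases j <;>
    simp only [Ord3A.Cm, Matrix.mul_apply, Fin.sum_univ_three, Matrix.smul_apply, smul_eq_mul,
      Matrix.diagonal_apply, Matrix.of_apply, Matrix.cons_val_zero,
      Matrix.cons_val_one, Matrix.cons_val_two, Matrix.cons_val_fin_one, Matrix.head_cons,
      Matrix.tail_cons, Fin.zero_eta, Fin.mk_one, Fin.reduceFinMk, Fin.reduceEq,
      Fin.isValue, ↓reduceIte, Pi.pow_apply] <;>
    first | ring1 | linear_combination s * e02 | linear_combination s * e10 | linear_combination s * e21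

theorem scalar_of_commute (ω : F) (hω : ω ^ 2 + ω + 1 = 0) (h3 : (3 : F) ≠ 0)
    (y : Matrix (Fin 3) (Fin 3) F) (hX : y * Xm ω = Xm ω * y)
    (hC : y * Ord3A.Cm F = Ord3A.Cm F * y) : y = (y 0 0) • (1 : Matrix (Fin 3) (Fin 3) F) := by
  have hω3 : ω ^ 3 = 1 := by linear_combination (ω - 1) * hω
  have hω1 : ω ≠ 1 := by
    intro h
    rw [h] at hω
    apply h3
    linear_combination hω
  have hω0 : ω ≠ 0 := by
    intro h
    rw [h] at hω3
    norm_num at hω3
  have hinj : Function.Injective ![1, ω, ω ^ 2] := by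
    apply inj3
    · exact fun h => hω1 h.symm
    · intro h
      have : (ω - 1) * (ω + 1) = 0 := by linear_combination -h
      rcases mul_eq_zero.mp this with h5 | h5
      · exact hω1 (sub_eq_zero.mp h5)
      · apply hω0
        have : ω ^ 2 = 0 := by linear_combination hω - h5
        exact pow_eq_zero_iff (by norm_num) |>.mp this
    · intro h
      have : ω * (ω - 1) = 0 := by linear_combination -h
      rcases mul_eq_zero.mp this with h5 | h5
      · exact hω0 h5
      · exact hω1 (sub_eq_zero.mp h5)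
  have hdiag := diag_of_commute y _ hinj hX
  have h10 := congrFun (congrFun hC 1) 0
  have h21 := congrFun (congrFun hC 2) 1
  simp only [Ord3A.Cm, Matrix.mul_apply, Fin.sum_univ_three, Matrix.smul_apply, smul_eq_mul,
      Matrix.diagonal_apply, Matrix.of_apply, Matrix.cons_val_zero,
      Matrix.cons_val_one, Matrix.cons_val_two, Matrix.cons_val_fin_one, Matrix.head_cons,
      Matrix.tail_cons, Fin.zero_eta, Fin.mk_one, Fin.reduceFinMk, Fin.reduceEq,
      Fin.isValue, ↓reduceIte] at h10 h21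
  rw [hdiag]
  ext i j
  fin_cases i <;> fin_cases j <;>
    simp only [Matrix.smul_apply, smul_eq_mul,
      Matrix.diagonal_apply, Matrix.one_apply, Fin.zero_eta, Fin.mk_one, Fin.reduceFinMk, Fin.reduceEq,
      Fin.isValue, ↓reduceIte] <;>
    first | ring1 | linear_combination h10 | linear_combination h21 | linear_combination h10 + h21

end Cfsg.Agent.Lib.Helper9.Ext27C
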