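import Mathlib
import Cfsg.Agent.Lib.Helper9.Ext27C

set_option autoImplicit false

namespace Cfsg.Agent.Lib.Helper9.Ext27D
open Matrix
open Cfsg.Agent.Lib.Helper9 Cfsg.Agent.Lib.Helper9.Ext27B Cfsg.Agent.Lib.Helper9.Ext27C

variable {F : Type*} [Field F]

/-- adjust the determinant of a diagonalizing matrix -/
theorem adjust_det (x h : Matrix (Fin 3) (Fin 3) F) (e : Fin 3 → F) (hh : h.det ≠ 0)
    (hxh : x * h = h * Matrix.diagonal e) (δ : F) :
    ∃ h' : Matrix (Fin 3) (Fin 3) F, h'.det = δ ∧ x * h' = h' * Matrix.diagonal e := by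
  refine ⟨h * Matrix.diagonal ![δ / h.det, 1, 1], ?_, ?_⟩
  · rw [Matrix.det_mul, Matrix.det_diagonal, Fin.prod_univ_three]
    simp only [Matrix.cons_val_zero, Matrix.cons_val_one, Matrix.cons_val_two, Matrix.head_cons,
      Matrix.tail_cons, mul_one]
    field_simp
  · rw [← mul_assoc, hxh, mul_assoc, mul_assoc, Matrix.diagonal_mul_diagonal,
      Matrix.diagonal_mul_diagonal]
    congr 2
    funext i
    exact mul_comm _ _

theorem exists_conj_cube (h3 : (3 : F) ≠ 0) (ω : F) (hω : ω ^ 2 + ω + 1 = 0)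
    (x : Matrix (Fin 3) (Fin 3) F) (z c₀ : F)
    (hx : x ^ 3 = z • (1 : Matrix (Fin 3) (Fin 3) F)) (hc : c₀ ^ 3 * z = 1) (δ : F) :
    ∃ (h : Matrix (Fin 3) (Fin 3) F) (d : Fin 3 → F) (s : F),
      h.det = δ ∧ x * h = h * (s • Matrix.diagonal d) ∧ s ≠ 0 ∧ ∀ k, d k ^ 3 = 1 := by
  have hc0 : c₀ ≠ 0 := by
    intro h
    rw [h] at hc
    norm_num at hc
  have hy : (c₀ • x) ^ 3 = 1 := by
    rw [smul_pow, hx, smul_smul, hc, one_smul]
  obtain ⟨h, d, hh, hyh, hd⟩ := Ext27A.exists_diag_cube h3 ω hω (c₀ • x) hy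
  have hxh : x * h = h * Matrix.diagonal (fun k => c₀⁻¹ * d k) := by
    have e1 : Matrix.diagonal (fun k => c₀⁻¹ * d k) = c₀⁻¹ • Matrix.diagonal d := by
      rw [← Matrix.diagonal_smul]
      rfl
    rw [e1, Matrix.mul_smul, ← hyh, Matrix.smul_mul, smul_smul, inv_mul_cancel₀ hc0, one_smul]
  obtain ⟨h', hdet, hxh'⟩ := adjust_det x h _ hh hxh δ
  refine ⟨h', d, c₀⁻¹, hdet, ?_, inv_ne_zero hc0, hd⟩
  rw [hxh', ← Matrix.diagonal_smul]
  rfl

theorem Tm_diag (h2 : (2 : F) ≠ 0) (d : Fin 3 → F)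
    (hd : (d 0 = 1 ∧ d 1 = -1 ∧ d 2 = -1) ∨ (d 0 = -1 ∧ d 1 = 1 ∧ d 2 = -1) ∨
      (d 0 = -1 ∧ d 1 = -1 ∧ d 2 = 1)) :
    ∃ Q : Matrix (Fin 3) (Fin 3) F, Q.det ≠ 0 ∧ Tm F * Q = Q * Matrix.diagonal d := by
  rcases hd with ⟨h0, h1, h2'⟩ | ⟨h0, h1, h2'⟩ | ⟨h0, h1, h2'⟩
  · refine ⟨!![0, 1, 0; 1, 0, 1; -1, 0, 1], ?_, ?_⟩
    · rw [Matrix.det_fin_three]
      simp only [Matrix.of_apply, Matrix.cons_val_zero, Matrix.cons_val_one, Matrix.cons_val_two,
        Matrix.head_cons, Matrix.tail_cons]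
      intro h
      apply h2
      linear_combination -h
    · ext i j
      fin_cases i <;> fin_cases j <;>
        simp only [Tm, Matrix.mul_apply, Fin.sum_univ_three, Matrix.smul_apply, smul_eq_mul,
          Matrix.diagonal_apply, Matrix.of_apply, Matrix.cons_val_zero,
          Matrix.cons_val_one, Matrix.cons_val_two, Matrix.cons_val_fin_one, Matrix.head_cons,
          Matrix.tail_cons, Fin.zero_eta, Fin.mk_one, Fin.reduceFinMk, Fin.reduceEq,
          Fin.isValue, ↓reduceIte, h0, h1, h2'] <;>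
        ring1
  · refine ⟨!![1, 0, 0; 0, 1, 1; 0, -1, 1], ?_, ?_⟩
    · rw [Matrix.det_fin_three]
      simp only [Matrix.of_apply, Matrix.cons_val_zero, Matrix.cons_val_one, Matrix.cons_val_two,
        Matrix.head_cons, Matrix.tail_cons]
      intro h
      apply h2
      linear_combination h
    · ext i j
      fin_cases i <;> fin_cases j <;>
        simp only [Tm, Matrix.mul_apply, Fin.sum_univ_three, Matrix.smul_apply, smul_eq_mul,
          Matrix.diagonal_apply, Matrix.of_apply, Matrix.cons_val_zero,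
          Matrix.cons_val_one, Matrix.cons_val_two, Matrix.cons_val_fin_one, Matrix.head_cons,
          Matrix.tail_cons, Fin.zero_eta, Fin.mk_one, Fin.reduceFinMk, Fin.reduceEq,
          Fin.isValue, ↓reduceIte, h0, h1, h2'] <;>
        ring1
  · refine ⟨!![1, 0, 0; 0, 1, 1; 0, 1, -1], ?_, ?_⟩
    · rw [Matrix.det_fin_three]
      simp only [Matrix.of_apply, Matrix.cons_val_zero, Matrix.cons_val_one, Matrix.cons_val_two,
        Matrix.head_cons, Matrix.tail_cons]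
      intro h
      apply h2
      linear_combination -h
    · ext i j
      fin_cases i <;> fin_cases j <;>
        simp only [Tm, Matrix.mul_apply, Fin.sum_univ_three, Matrix.smul_apply, smul_eq_mul,
          Matrix.diagonal_apply, Matrix.of_apply, Matrix.cons_val_zero,
          Matrix.cons_val_one, Matrix.cons_val_two, Matrix.cons_val_fin_one, Matrix.head_cons,
          Matrix.tail_cons, Fin.zero_eta, Fin.mk_one, Fin.reduceFinMk, Fin.reduceEq,
          Fin.isValue, ↓reduceIte, h0, h1, h2'] <;>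
        ring1

theorem exists_conj_sq (h2 : (2 : F) ≠ 0)
    (x : Matrix (Fin 3) (Fin 3) F) (hdet : x.det = 1) (z : F)
    (hx : x ^ 2 = z • (1 : Matrix (Fin 3) (Fin 3) F))
    (hns : ∀ t : F, x ≠ t • (1 : Matrix (Fin 3) (Fin 3) F)) (δ : F) :
    ∃ (h : Matrix (Fin 3) (Fin 3) F) (s : F),
      h.det = δ ∧ x * h = h * (s • Tm F) ∧ s ≠ 0 := by
  have hz3 : z ^ 3 = 1 := by
    have := congrArg Matrix.det hx
    rw [Matrix.det_pow, hdet, one_pow, Matrix.det_smul, Matrix.det_one, mul_one,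
      Fintype.card_fin] at this
    exact this.symm
  have hz0 : z ≠ 0 := by
    intro h
    rw [h] at hz3
    norm_num at hz3
  have hy : (z • x) ^ 2 = 1 := by
    rw [smul_pow, hx, smul_smul, ← pow_succ, hz3, one_smul]
  have hydet : (z • x).det = 1 := by
    rw [Matrix.det_smul, Fintype.card_fin, hz3, hdet, mul_one]
  obtain ⟨h, d, hh, hyh, hd⟩ := Ext27A.exists_diag_sq h2 (z • x) hy
  have hu : IsUnit h.det := isUnit_iff_ne_zero.mpr hh
  have hhi : h * h⁻¹ = 1 := Matrix.mul_nonsing_inv h hu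
  have hprod : d 0 * d 1 * d 2 = 1 := by
    have := congrArg Matrix.det hyh
    rw [Matrix.det_mul, Matrix.det_mul, hydet, one_mul, Matrix.det_diagonal,
      Fin.prod_univ_three] at this
    have h4 : h.det * (d 0 * d 1 * d 2 - 1) = 0 := by linear_combination -this
    rcases mul_eq_zero.mp h4 with h5 | h5
    · exact absurd h5 hh
    · exact sub_eq_zero.mp h5
  have hpm : ∀ k, d k = 1 ∨ d k = -1 := by
    intro k
    have : (d k - 1) * (d k + 1) = 0 := by linear_combination hd k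
    rcases mul_eq_zero.mp this with h5 | h5
    · exact Or.inl (sub_eq_zero.mp h5)
    · exact Or.inr (eq_neg_of_add_eq_zero_left h5)
  have hne : (1 : F) ≠ -1 := by
    intro h
    apply h2
    linear_combination h
  have hnotall : ¬ (d 0 = 1 ∧ d 1 = 1 ∧ d 2 = 1) := by
    rintro ⟨h0, h1, h2'⟩
    have hD : Matrix.diagonal d = (1 : Matrix (Fin 3) (Fin 3) F) := by
      ext i j
      fin_cases i <;> fin_cases j <;> simp [h0, h1, h2']
    have : z • x = 1 := by
      calc z • x = z • x * (h * h⁻¹) := by rw [hhi, mul_one]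
        _ = h * Matrix.diagonal d * h⁻¹ := by rw [← mul_assoc, hyh]
        _ = 1 := by rw [hD, mul_one, hhi]
    apply hns z⁻¹
    calc x = z⁻¹ • (z • x) := by rw [smul_smul, inv_mul_cancel₀ hz0, one_smul]
      _ = z⁻¹ • 1 := by rw [this]
  have hpat : (d 0 = 1 ∧ d 1 = -1 ∧ d 2 = -1) ∨ (d 0 = -1 ∧ d 1 = 1 ∧ d 2 = -1) ∨
      (d 0 = -1 ∧ d 1 = -1 ∧ d 2 = 1) := by
    rcases hpm 0 with h0 | h0 <;> rcases hpm 1 with h1 | h1 <;> rcases hpm 2 with h2' | h2'
    · exact absurd ⟨h0, h1, h2'⟩ hnotall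
    · rw [h0, h1, h2'] at hprod
      exact absurd (by linear_combination -hprod) hne
    · rw [h0, h1, h2'] at hprod
      exact absurd (by linear_combination -hprod) hne
    · exact Or.inl ⟨h0, h1, h2'⟩
    · rw [h0, h1, h2'] at hprod
      exact absurd (by linear_combination -hprod) hne
    · exact Or.inr (Or.inl ⟨h0, h1, h2'⟩)
    · exact Or.inr (Or.inr ⟨h0, h1, h2'⟩)
    · rw [h0, h1, h2'] at hprod
      exact absurd (by linear_combination -hprod) hne
  obtain ⟨Q, hQ, hTQ⟩ := Tm_diag h2 d hpat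
  have hQu : IsUnit Q.det := isUnit_iff_ne_zero.mpr hQ
  have hQi : Q * Q⁻¹ = 1 := Matrix.mul_nonsing_inv Q hQu
  have hiQ : Q⁻¹ * Q = 1 := Matrix.nonsing_inv_mul Q hQu
  obtain ⟨h', hdet', hyh'⟩ := adjust_det (z • x) h d hh hyh (δ * Q.det)
  refine ⟨h' * Q⁻¹, z⁻¹, ?_, ?_, inv_ne_zero hz0⟩
  · rw [Matrix.det_mul, hdet', Matrix.det_nonsing_inv, Ring.inverse_eq_inv', mul_assoc,
      mul_inv_cancel₀ hQ, mul_one]
  · have e1 : Matrix.diagonal d * Q⁻¹ = Q⁻¹ * Tm F := by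
      calc Matrix.diagonal d * Q⁻¹ = Q⁻¹ * (Q * Matrix.diagonal d) * Q⁻¹ := by
            rw [← mul_assoc, hiQ, one_mul]
        _ = Q⁻¹ * (Tm F * Q) * Q⁻¹ := by rw [hTQ]
        _ = Q⁻¹ * Tm F := by rw [mul_assoc, mul_assoc, hQi, mul_one]
    have e2 : (z • x) * (h' * Q⁻¹) = h' * Q⁻¹ * Tm F := by
      rw [← mul_assoc, hyh', mul_assoc, e1, mul_assoc]
    calc x * (h' * Q⁻¹) = z⁻¹ • ((z • x) * (h' * Q⁻¹)) := by
          rw [Matrix.smul_mul, smul_smul, inv_mul_cancel₀ hz0, one_smul]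
      _ = h' * Q⁻¹ * (z⁻¹ • Tm F) := by rw [e2, Matrix.mul_smul]

end Cfsg.Agent.Lib.Helper9.Ext27D
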