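import Mathlib

set_option autoImplicit false

namespace Cfsg.Agent.Lib.Helper9.Ext27E

section Exp3

variable {G : Type*} [Group G]

/-- in a group of exponent three every element commutes with its conjugates -/
theorem exp3_comm_conj (h3 : ∀ g : G, g ^ 3 = 1) (x y : G) :
    Commute x (y⁻¹ * x * y) := by
  have hy2 : y * y = y⁻¹ := by
    have := h3 y
    rw [pow_three] at this
    exact eq_inv_of_mul_eq_one_right this
  have hy2' : y⁻¹ * y⁻¹ = y := by
    rw [← mul_inv_rev, hy2, inv_inv]
  have h1 : x * y⁻¹ * x = y * x⁻¹ * y := by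
    have := h3 (x * y⁻¹)
    rw [pow_three] at this
    have h' : (x * y⁻¹ * x) * (y⁻¹ * x * y⁻¹) = 1 := by
      rw [← this]; simp only [mul_assoc]
    rw [eq_inv_of_mul_eq_one_left h']
    simp [mul_assoc]
  have h2 : x * y * x = y⁻¹ * x⁻¹ * y⁻¹ := by
    have := h3 (x * y)
    rw [pow_three] at this
    have h' : (x * y * x) * (y * x * y) = 1 := by
      rw [← this]; simp only [mul_assoc]
    rw [eq_inv_of_mul_eq_one_left h']
    simp [mul_assoc]
  show x * (y⁻¹ * x * y) = y⁻¹ * x * y * x
  calc x * (y⁻¹ * x * y) = (x * y⁻¹ * x) * y := by simp only [mul_assoc]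
    _ = y * x⁻¹ * (y * y) := by rw [h1]; simp only [mul_assoc]
    _ = y * x⁻¹ * y⁻¹ := by rw [hy2]
    _ = (y⁻¹ * y⁻¹) * x⁻¹ * y⁻¹ := by rw [hy2']
    _ = y⁻¹ * (y⁻¹ * x⁻¹ * y⁻¹) := by simp only [mul_assoc]
    _ = y⁻¹ * (x * y * x) := by rw [h2]
    _ = y⁻¹ * x * y * x := by simp only [mul_assoc]

/-- in a group of exponent three, commutators are central in the subgroup generated -/
theorem exp3_comm_left (h3 : ∀ g : G, g ^ 3 = 1) (x y : G) :
    Commute x (x⁻¹ * y⁻¹ * x * y) := by
  have h := exp3_comm_conj h3 x y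
  have : x⁻¹ * y⁻¹ * x * y = x⁻¹ * (y⁻¹ * x * y) := by simp only [mul_assoc]
  rw [this]
  exact (Commute.refl x).inv_right.mul_right h

theorem exp3_comm_right (h3 : ∀ g : G, g ^ 3 = 1) (x y : G) :
    Commute y (x⁻¹ * y⁻¹ * x * y) := by
  have h := exp3_comm_conj h3 y⁻¹ x
  -- y⁻¹ commutes with x⁻¹ y⁻¹ x
  have h' : Commute y (x⁻¹ * y⁻¹ * x) := by
    have := h.inv_left
    rwa [inv_inv] at this
  exact h'.mul_right (Commute.refl y)

end Exp3

section Norm

variable {G : Type*} [Group G]

theorem conj_mem_normalizer [Finite G] (a b n m : G)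
    (ha : n * a * n⁻¹ ∈ Subgroup.closure ({a, b} : Set G))
    (hb : n * b * n⁻¹ ∈ Subgroup.closure ({a, b} : Set G)) :
    m * n * m⁻¹ ∈ Subgroup.normalizer
      ((Subgroup.closure ({m * a * m⁻¹, m * b * m⁻¹} : Set G) : Subgroup G) : Set G) := by
  set H := Subgroup.closure ({a, b} : Set G) with hH
  have hn : n ∈ Subgroup.normalizer (H : Set G) := by
    apply Subgroup.mem_normalizer_fintype
    intro g hg
    have hle : H ≤ H.comap (MulAut.conj n).toMonoidHom := by
      rw [hH, Subgroup.closure_le]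
      intro g hg
      rcases hg with rfl | rfl
      · exact ha
      · exact hb
    exact hle hg
  have hmap : Subgroup.closure ({m * a * m⁻¹, m * b * m⁻¹} : Set G) =
      H.map (MulAut.conj m).toMonoidHom := by
    rw [hH, MonoidHom.map_closure, Set.image_pair]
    rfl
  rw [hmap]
  apply Subgroup.le_normalizer_map (MulAut.conj m).toMonoidHom
  exact ⟨n, hn, rfl⟩

end Norm

section Count

variable {G : Type*} [Group G]

/-- a nonabelian subgroup of a group of order 27 is everything -/
theorem eq_of_noncomm (R H : Subgroup G) (hR : Nat.card R = 27) (hle : H ≤ R) (a b : G)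
    (ha : a ∈ H) (hb : b ∈ H) (hab : a * b ≠ b * a) : H = R := by
  have hfin : Finite R := Nat.finite_of_card_ne_zero (by rw [hR]; norm_num)
  have hdvd : Nat.card H ∣ 27 := by
    rw [← hR]
    exact Subgroup.card_dvd_of_le hle
  have h27 : (27 : ℕ) = 3 ^ 3 := by norm_num
  rw [h27] at hdvd
  obtain ⟨k, hk, hcard⟩ := (Nat.dvd_prime_pow Nat.prime_three).mp hdvd
  have hcomm : (∀ x y : H, x * y = y * x) → False := by
    intro h
    apply hab
    have := h ⟨a, ha⟩ ⟨b, hb⟩
    exact congrArg Subtype.val this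
  interval_cases k
  · exfalso
    apply hcomm
    intro x y
    have : Subsingleton H := (Nat.card_eq_one_iff_unique.mp (by rw [hcard]; norm_num)).1
    rw [Subsingleton.elim x y]
  · exfalso
    apply hcomm
    have : Fact (Nat.Prime 3) := ⟨Nat.prime_three⟩
    have hc : IsCyclic H := isCyclic_of_prime_card (p := 3) (by rw [hcard]; norm_num)
    have := IsCyclic.isMulCommutative (α := H)
    intro x y
    exact mul_comm' x y
  · exfalso
    apply hcomm
    have : Fact (Nat.Prime 3) := ⟨Nat.prime_three⟩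
    have := IsPGroup.isMulCommutative_of_card_eq_prime_sq (p := 3) (G := H) hcard
    intro x y
    exact mul_comm' x y
  · apply Subgroup.eq_of_le_of_card_ge hle
    rw [hR, hcard]
    norm_num

/-- an element of prime order at least five normalizing a group of order 27 and centralizing a
nontrivial element of it centralizes the group -/
theorem centralizes_of_prime_order (R : Subgroup G) (hR : Nat.card R = 27) (c : G) (hcR : c ∈ R)
    (hc1 : c ≠ 1) (y : G) (hy : y ∈ Subgroup.normalizer (R : Set G)) (r : ℕ) [Fact r.Prime]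
    (hr : 5 ≤ r) (hyr : y ^ r = 1) (hyc : y * c = c * y) : ∀ g ∈ R, y * g = g * y := by
  classical
  have hfin : Finite R := Nat.finite_of_card_ne_zero (by rw [hR]; norm_num)
  have : Fintype R := Fintype.ofFinite R
  have hmem : ∀ (k : ℕ) (g : G), g ∈ R → y ^ k * g * (y ^ k)⁻¹ ∈ R := by
    intro k g hg
    have : y ^ k ∈ Subgroup.normalizer (R : Set G) := Subgroup.pow_mem _ hy k
    exact (Subgroup.mem_normalizer_iff.mp this g).mp hg
  let f : Function.End R := fun g => ⟨y * g * y⁻¹, by
    have := hmem 1 g g.2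
    rwa [pow_one] at this⟩
  have hfk : ∀ (k : ℕ) (g : R), ((f ^ k) g : G) = y ^ k * g * (y ^ k)⁻¹ := by
    intro k
    induction k with
    | zero =>
      intro g
      show (g : G) = y ^ 0 * g * (y ^ 0)⁻¹
      simp
    | succ k ih =>
      intro g
      rw [pow_succ' f]
      show y * ((f ^ k) g : G) * y⁻¹ = _
      rw [ih g, pow_succ']
      simp only [mul_assoc, mul_inv_rev]
  have hf : f ^ r ^ 1 = 1 := by
    rw [pow_one]
    funext g
    apply Subtype.ext
    rw [hfk r g, hyr]
    show (1 : G) * g * 1⁻¹ = g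
    simp
  have hmod := Equiv.Perm.card_fixedPoints_modEq (p := r) (n := 1) hf
  -- the fixed points form a subgroup
  let K : Subgroup R := (Subgroup.centralizer ({y} : Set G)).subgroupOf R
  have hKfix : ∀ g : R, g ∈ K ↔ g ∈ Function.fixedPoints f := by
    intro g
    rw [Subgroup.mem_subgroupOf, Subgroup.mem_centralizer_iff, Function.mem_fixedPoints,
      Function.IsFixedPt]
    constructor
    · intro h
      apply Subtype.ext
      show y * (g : G) * y⁻¹ = g
      rw [h y rfl, mul_assoc, mul_inv_cancel, mul_one]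
    · intro h z hz
      rw [Set.mem_singleton_iff] at hz
      subst hz
      have h' : z * (g : G) * z⁻¹ = g := congrArg Subtype.val h
      calc z * (g : G) = z * g * z⁻¹ * z := by simp only [inv_mul_cancel_right]
        _ = g * z := by rw [h']
  have hcardK : Fintype.card (Function.fixedPoints f) = Nat.card K := by
    rw [← Nat.card_eq_fintype_card]
    apply Nat.card_congr
    exact (Equiv.subtypeEquivRight (fun g => (hKfix g))).symm
  have hKdvd : Nat.card K ∣ 27 := by
    rw [← hR]
    exact Subgroup.card_subgroup_dvd_card K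
  have hKne : Nat.card K ≠ 1 := by
    intro h1
    have hsub : Subsingleton K := (Nat.card_eq_one_iff_unique.mp h1).1
    have hcK : (⟨c, hcR⟩ : R) ∈ K := by
      rw [Subgroup.mem_subgroupOf, Subgroup.mem_centralizer_iff]
      intro z hz
      rw [Set.mem_singleton_iff] at hz
      subst hz
      exact hyc
    have := Subsingleton.elim (⟨⟨c, hcR⟩, hcK⟩ : K) 1
    apply hc1
    exact congrArg (fun k : K => ((k : R) : G)) this
  have h27 : (27 : ℕ) = 3 ^ 3 := by norm_num
  rw [h27] at hKdvd
  obtain ⟨k, hk, hcard⟩ := (Nat.dvd_prime_pow Nat.prime_three).mp hKdvd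
  rw [Fintype.card_eq_nat_card, hR, hcardK, hcard] at hmod
  have hrp : r.Prime := Fact.out
  have hKtop : K = ⊤ := by
    interval_cases k
    · exact absurd hcard hKne
    · exfalso
      have h1 : r ∣ 27 - 3 := (Nat.modEq_iff_dvd' (by norm_num)).mp hmod.symm
      have h2 : r ∣ 2 ^ 3 * 3 := by norm_num at h1 ⊢; exact h1
      rcases (Nat.Prime.dvd_mul hrp).mp h2 with h | h
      · have := (Nat.prime_dvd_prime_iff_eq hrp Nat.prime_two).mp (hrp.dvd_of_dvd_pow h)
        omega
      · have := (Nat.prime_dvd_prime_iff_eq hrp Nat.prime_three).mp h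
        omega
    · exfalso
      have h1 : r ∣ 27 - 9 := (Nat.modEq_iff_dvd' (by norm_num)).mp hmod.symm
      have h2 : r ∣ 2 * 3 ^ 2 := by norm_num at h1 ⊢; exact h1
      rcases (Nat.Prime.dvd_mul hrp).mp h2 with h | h
      · have := (Nat.prime_dvd_prime_iff_eq hrp Nat.prime_two).mp h
        omega
      · have := (Nat.prime_dvd_prime_iff_eq hrp Nat.prime_three).mp (hrp.dvd_of_dvd_pow h)
        omega
    · apply Subgroup.eq_top_of_le_card
      rw [hR, hcard]
      norm_num
  intro g hg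
  have : (⟨g, hg⟩ : R) ∈ K := by rw [hKtop]; exact Subgroup.mem_top _
  rw [Subgroup.mem_subgroupOf, Subgroup.mem_centralizer_iff] at this
  exact this y rfl

/-- the 3-part of the relative index -/
theorem not_dvd_relIndex [Finite G] (R N S : Subgroup G) (hR : Nat.card R = 27) (hRN : R ≤ N)
    (hRS : R ≤ S) (h81 : ¬ 81 ∣ Nat.card S) : ¬ 3 ∣ N.relIndex S := by
  intro h3
  apply h81
  have h1 : Nat.card (N.subgroupOf S) * N.relIndex S = Nat.card S :=
    Subgroup.card_mul_index (N.subgroupOf S)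
  have h2 : Nat.card (R.subgroupOf S) = 27 := by
    rw [Nat.card_congr (Subgroup.subgroupOfEquivOfLe hRS).toEquiv, hR]
  have h3' : R.subgroupOf S ≤ N.subgroupOf S := by
    intro g hg
    rw [Subgroup.mem_subgroupOf] at hg ⊢
    exact hRN hg
  have h4 : 27 ∣ Nat.card (N.subgroupOf S) := by
    rw [← h2]
    exact Subgroup.card_dvd_of_le h3'
  rw [← h1]
  exact Nat.mul_dvd_mul h4 h3

end Count

section Arith

set_option maxRecDepth 1000000 in
theorem aux243 : ∀ r : ℕ, r < 243 → (r % 9 = 4 ∨ r % 9 = 7) →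
    (((r : ZMod 243) ^ 3 - 1) * ((r : ZMod 243) ^ 3 - r) * ((r : ZMod 243) ^ 3 - (r : ZMod 243) ^ 2)) ≠ 0 := by
  decide

theorem prod_mod243 (q : ℕ) (hq : q % 9 = 4 ∨ q % 9 = 7) :
    ¬ 243 ∣ (q ^ 3 - q ^ 0) * (q ^ 3 - q ^ 1) * (q ^ 3 - q ^ 2) := by
  intro h
  have hq1 : 1 ≤ q := by omega
  have e0 : q ^ 0 ≤ q ^ 3 := Nat.pow_le_pow_right hq1 (by norm_num)
  have e1 : q ^ 1 ≤ q ^ 3 := Nat.pow_le_pow_right hq1 (by norm_num)
  have e2 : q ^ 2 ≤ q ^ 3 := Nat.pow_le_pow_right hq1 (by norm_num)
  have hz : (((q ^ 3 - q ^ 0) * (q ^ 3 - q ^ 1) * (q ^ 3 - q ^ 2) : ℕ) : ZMod 243) = 0 :=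
    (ZMod.natCast_eq_zero_iff _ 243).mpr h
  rw [Nat.cast_mul, Nat.cast_mul, Nat.cast_sub e0, Nat.cast_sub e1, Nat.cast_sub e2] at hz
  push_cast at hz
  have hq243 : (q : ZMod 243) = ((q % 243 : ℕ) : ZMod 243) := (ZMod.natCast_mod q 243).symm
  rw [hq243, pow_zero, pow_one] at hz
  have hlt : q % 243 < 243 := Nat.mod_lt _ (by norm_num)
  have hmod : (q % 243) % 9 = q % 9 := Nat.mod_mod_of_dvd q (by norm_num)
  exact aux243 (q % 243) hlt (by rw [hmod]; exact hq) hz

end Arith

end Cfsg.Agent.Lib.Helper9.Ext27E
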