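import Mathlib
import Cfsg.Prelude.Def_GeometricClasses
import Cfsg.Agent.Lib.Helper9.Ext27D
import Cfsg.Agent.Lib.Helper9.Ext27E

set_option autoImplicit false

namespace Cfsg.Agent.Lib.Helper9.Ext27F
open Matrix
open scoped MatrixGroups
open Cfsg.Agent.Lib.Helper9 Cfsg.Agent.Lib.Helper9.Ext27B Cfsg.Agent.Lib.Helper9.Ext27C
  Cfsg.Agent.Lib.Helper9.Ext27D Cfsg.Agent.Lib.Helper9.Ext27E

variable {F : Type*} [Field F]

theorem mem_SL_iff (x : GL (Fin 3) F) :
    x ∈ Cfsg.Geo.specialLinear (Fin 3) F ↔ (x : Matrix (Fin 3) (Fin 3) F).det = 1 := by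
  unfold Cfsg.Geo.specialLinear
  rw [MonoidHom.mem_ker]
  constructor
  · intro h
    have := congrArg Units.val h
    rwa [Matrix.GeneralLinearGroup.val_det_apply] at this
  · intro h
    apply Units.ext
    rw [Matrix.GeneralLinearGroup.val_det_apply]
    exact h

section Finite

variable [Fintype F]

theorem card_SL :
    Nat.card (Cfsg.Geo.specialLinear (Fin 3) F) * (Fintype.card F - 1) =
      Nat.card (GL (Fin 3) F) := by
  unfold Cfsg.Geo.specialLinear
  let d : GL (Fin 3) F →* Fˣ := Matrix.GeneralLinearGroup.det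
  have hsurj : Function.Surjective d := Matrix.GeneralLinearGroup.det_surjective
  have h1 := Subgroup.card_mul_index d.ker
  rw [Subgroup.index_ker] at h1
  rw [← h1]
  congr 1
  have : d.range = ⊤ := MonoidHom.range_eq_top.mpr hsurj
  rw [this, Nat.card_congr (Subgroup.topEquiv (G := Fˣ)).toEquiv, Nat.card_units,
    Nat.card_eq_fintype_card]

theorem not_81_dvd (hq : Fintype.card F % 9 = 4 ∨ Fintype.card F % 9 = 7) :
    ¬ 81 ∣ Nat.card (Cfsg.Geo.specialLinear (Fin 3) F) := by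
  intro h
  have h1 := card_SL (F := F)
  rw [Matrix.card_GL_field, Fin.prod_univ_three] at h1
  apply prod_mod243 (Fintype.card F) hq
  have h3 : 3 ∣ Fintype.card F - 1 := by omega
  have : (243 : ℕ) = 81 * 3 := by norm_num
  simp only [Fin.val_zero, Fin.val_one, Fin.val_two] at h1
  rw [← h1, this]
  exact Nat.mul_dvd_mul h h3

end Finite

theorem det_Xm (ω : F) (hω3 : ω ^ 3 = 1) : (Xm ω).det = 1 := by
  rw [Xm, Matrix.det_diagonal, Fin.prod_univ_three]
  simp only [Matrix.cons_val_zero, Matrix.cons_val_one, Matrix.cons_val_two, Matrix.head_cons,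
    Matrix.tail_cons]
  linear_combination hω3

theorem det_Cm : (Ord3A.Cm F).det = 1 := by
  rw [Matrix.det_fin_three]
  simp only [Ord3A.Cm, Matrix.of_apply, Matrix.cons_val_zero, Matrix.cons_val_one,
    Matrix.cons_val_two, Matrix.head_cons, Matrix.tail_cons]
  ring

theorem det_Tm : (Tm F).det = 1 := by
  rw [Matrix.det_fin_three]
  simp only [Tm, Matrix.of_apply, Matrix.cons_val_zero, Matrix.cons_val_one,
    Matrix.cons_val_two, Matrix.head_cons, Matrix.tail_cons]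
  ring

theorem structure_thm (h3 : (3 : F) ≠ 0) (ω₀ : F) (hω₀ : ω₀ ^ 2 + ω₀ + 1 = 0)
    (R : Subgroup (GL (Fin 3) F)) (hR : Nat.card R = 27) (hRe : Monoid.exponent R = 3)
    (hRna : ¬ IsMulCommutative R) :
    ∃ (ω : F) (xg cg mg wg : GL (Fin 3) F), ω ^ 2 + ω + 1 = 0 ∧
      (xg : Matrix (Fin 3) (Fin 3) F) = Xm ω ∧ (cg : Matrix (Fin 3) (Fin 3) F) = Ord3A.Cm F ∧
      (wg : Matrix (Fin 3) (Fin 3) F) = ω • (1 : Matrix (Fin 3) (Fin 3) F) ∧ wg ∈ R ∧
      R = Subgroup.closure {mg * xg * mg⁻¹, mg * cg * mg⁻¹} := by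
  have hnc : ∃ a b : R, a * b ≠ b * a := by
    by_contra hcon
    push Not at hcon
    exact hRna (isMulCommutative_iff.mpr hcon)
  obtain ⟨a₀, b₀, hab⟩ := hnc
  have h3R : ∀ g : R, g ^ 3 = 1 := fun g => by
    have := Monoid.pow_exponent_eq_one g
    rwa [hRe] at this
  set c : R := a₀⁻¹ * b₀⁻¹ * a₀ * b₀ with hc
  have hca : Commute a₀ c := exp3_comm_left h3R a₀ b₀
  have hcb : Commute b₀ c := exp3_comm_right h3R a₀ b₀
  have habc : a₀ * b₀ = b₀ * a₀ * c := by rw [hc]; group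
  have hc1 : c ≠ 1 := by
    intro h
    apply hab
    rw [habc, h, mul_one]
  -- the matrix map
  let mat : R → Matrix (Fin 3) (Fin 3) F := fun g => ((g : GL (Fin 3) F) : Matrix (Fin 3) (Fin 3) F)
  have mat_mul : ∀ g h : R, mat (g * h) = mat g * mat h := fun g h => by
    simp only [mat, Subgroup.coe_mul, Units.val_mul]
  have mat_one : mat 1 = 1 := by simp only [mat, Subgroup.coe_one, Units.val_one]
  have mat_pow : ∀ (g : R) (k : ℕ), mat (g ^ k) = mat g ^ k := fun g k => by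
    simp only [mat, Subgroup.coe_pow, Units.val_pow_eq_pow_val]
  have mat_inj : ∀ g h : R, mat g = mat h → g = h := fun g h e =>
    Subtype.ext (Units.ext e)
  have hA3 : mat a₀ ^ 3 = 1 := by rw [← mat_pow, h3R, mat_one]
  have hB3 : mat b₀ ^ 3 = 1 := by rw [← mat_pow, h3R, mat_one]
  have hC3 : mat c ^ 3 = 1 := by rw [← mat_pow, h3R, mat_one]
  have hdetc : (mat c).det = 1 := by
    have h1 : Matrix.GeneralLinearGroup.det ((c : R) : GL (Fin 3) F) = 1 := by
      rw [hc]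
      simp only [Subgroup.coe_mul, Subgroup.coe_inv, map_mul, map_inv]
      have hcomm : ∀ x y : Fˣ, x⁻¹ * y⁻¹ * x * y = 1 := fun x y => by
        rw [mul_assoc, mul_comm x y, ← mul_assoc, mul_assoc x⁻¹, inv_mul_cancel, mul_one,
          inv_mul_cancel]
      exact hcomm _ _
    have := congrArg Units.val h1
    rwa [Matrix.GeneralLinearGroup.val_det_apply] at this
  have hcA : mat c * mat a₀ = mat a₀ * mat c := by
    rw [← mat_mul, ← mat_mul, hca.eq]
  have hcB : mat c * mat b₀ = mat b₀ * mat c := by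
    rw [← mat_mul, ← mat_mul, hcb.eq]
  have hAB : mat a₀ * mat b₀ ≠ mat b₀ * mat a₀ := by
    intro h
    apply hab
    apply mat_inj
    rw [mat_mul, mat_mul, h]
  obtain ⟨t, ht⟩ := scalar_of_cube_central h3 ω₀ hω₀ (mat c) (mat a₀) (mat b₀) hC3 hdetc hcA hcB hAB
  have ht3 : t ^ 3 = 1 := by
    have := hC3
    rw [ht, smul_pow, one_pow] at this
    have := congrFun (congrFun this 0) 0
    simpa using this
  have ht1 : t ≠ 1 := by
    intro h
    apply hc1
    apply mat_inj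
    rw [ht, h, one_smul, mat_one]
  have htω : t ^ 2 + t + 1 = 0 := by
    have : (t - 1) * (t ^ 2 + t + 1) = 0 := by linear_combination ht3
    rcases mul_eq_zero.mp this with h | h
    · exact absurd (sub_eq_zero.mp h) ht1
    · exact h
  have ht0 : t ≠ 0 := by
    intro h
    rw [h] at ht3
    norm_num at ht3
  have hABt : mat a₀ * mat b₀ = t • (mat b₀ * mat a₀) := by
    rw [← mat_mul, habc, mat_mul, mat_mul, ht, Matrix.mul_smul, mul_one]
  obtain ⟨m, l, hm, hl3, hAm, hBm⟩ := std_form h3 t htω (mat a₀) (mat b₀) hA3 hB3 hABt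
  have hl0 : l ≠ 0 := by
    intro h
    rw [h] at hl3
    norm_num at hl3
  obtain ⟨n, hn⟩ := mu3 t htω l⁻¹ (by rw [inv_pow, hl3, inv_one])
  obtain ⟨mg, hmg⟩ : ∃ mg : GL (Fin 3) F, (mg : Matrix (Fin 3) (Fin 3) F) = m :=
    ⟨Matrix.GeneralLinearGroup.mkOfDetNeZero m hm, rfl⟩
  obtain ⟨xg, hxg⟩ : ∃ xg : GL (Fin 3) F, (xg : Matrix (Fin 3) (Fin 3) F) = Xm t :=
    ⟨Matrix.GeneralLinearGroup.mkOfDetNeZero (Xm t) (by rw [det_Xm t ht3]; exact one_ne_zero), rfl⟩
  obtain ⟨cg, hcg⟩ : ∃ cg : GL (Fin 3) F, (cg : Matrix (Fin 3) (Fin 3) F) = Ord3A.Cm F :=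
    ⟨Matrix.GeneralLinearGroup.mkOfDetNeZero (Ord3A.Cm F) (by rw [det_Cm]; exact one_ne_zero), rfl⟩
  set a : R := c ^ n * a₀ with ha
  have hmata : mat a = l⁻¹ • mat a₀ := by
    rw [ha, mat_mul, mat_pow, ht, smul_pow, one_pow, ← hn, Matrix.smul_mul, one_mul]
  have key1 : mg * xg = (a : GL (Fin 3) F) * mg := by
    apply Units.ext
    rw [Units.val_mul, Units.val_mul, hmg, hxg]
    show m * Xm t = mat a * m
    rw [hmata, Matrix.smul_mul, hAm, Matrix.mul_smul, smul_smul, inv_mul_cancel₀ hl0, one_smul]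
  have key2 : mg * cg = (b₀ : GL (Fin 3) F) * mg := by
    apply Units.ext
    rw [Units.val_mul, Units.val_mul, hmg, hcg]
    exact hBm.symm
  have ha' : mg * xg * mg⁻¹ = a := by rw [key1, mul_inv_cancel_right]
  have hb' : mg * cg * mg⁻¹ = b₀ := by rw [key2, mul_inv_cancel_right]
  have hne : (a : GL (Fin 3) F) * b₀ ≠ b₀ * a := by
    intro h
    apply hAB
    have h' : mat a * mat b₀ = mat b₀ * mat a := by
      have := congrArg (fun g : GL (Fin 3) F => (g : Matrix (Fin 3) (Fin 3) F)) h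
      simpa only [Units.val_mul] using this
    rw [hmata, Matrix.smul_mul, Matrix.mul_smul] at h'
    have hli : l⁻¹ ≠ 0 := inv_ne_zero hl0
    have := congrArg (fun M => l • M) h'
    simpa only [smul_smul, mul_inv_cancel₀ hl0, one_smul] using this
  have hH : Subgroup.closure ({(a : GL (Fin 3) F), (b₀ : GL (Fin 3) F)} : Set (GL (Fin 3) F)) = R := by
    apply eq_of_noncomm R _ hR _ a b₀ (Subgroup.subset_closure (by simp))
      (Subgroup.subset_closure (by simp)) hne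
    rw [Subgroup.closure_le]
    intro g hg
    rcases hg with rfl | rfl
    · exact a.2
    · exact b₀.2
  refine ⟨t, xg, cg, mg, (c : GL (Fin 3) F), htω, hxg, hcg, ht, c.2, ?_⟩
  rw [ha', hb', hH]

/-- the scalar `ω` is the commutator of the two generators -/
theorem wg_mem (ω : F) (hω3 : ω ^ 3 = 1) (xg cg wg : GL (Fin 3) F)
    (hxg : (xg : Matrix (Fin 3) (Fin 3) F) = Xm ω)
    (hcg : (cg : Matrix (Fin 3) (Fin 3) F) = Ord3A.Cm F)
    (hwg : (wg : Matrix (Fin 3) (Fin 3) F) = ω • (1 : Matrix (Fin 3) (Fin 3) F)) :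
    wg ∈ Subgroup.closure ({xg, cg} : Set (GL (Fin 3) F)) := by
  have h : xg * cg = wg * cg * xg := by
    apply Units.ext
    rw [Units.val_mul, Units.val_mul, Units.val_mul, hxg, hcg, hwg, Xm_mul_Cm ω hω3,
      Matrix.smul_mul, one_mul, Matrix.smul_mul]
  have h' : wg = xg * cg * xg⁻¹ * cg⁻¹ := by
    rw [h]; group
  have hx : xg ∈ Subgroup.closure ({xg, cg} : Set (GL (Fin 3) F)) :=
    Subgroup.subset_closure (by simp)
  have hc : cg ∈ Subgroup.closure ({xg, cg} : Set (GL (Fin 3) F)) :=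
    Subgroup.subset_closure (by simp)
  rw [h']
  exact Subgroup.mul_mem _ (Subgroup.mul_mem _ (Subgroup.mul_mem _ hx hc) (Subgroup.inv_mem _ hx))
    (Subgroup.inv_mem _ hc)

theorem norm_diag (ω : F) (hω : ω ^ 2 + ω + 1 = 0) (xg cg ng : GL (Fin 3) F)
    (hxg : (xg : Matrix (Fin 3) (Fin 3) F) = Xm ω)
    (hcg : (cg : Matrix (Fin 3) (Fin 3) F) = Ord3A.Cm F) (s : F) (d : Fin 3 → F)
    (hd : ∀ k, d k ^ 3 = 1)
    (hng : (ng : Matrix (Fin 3) (Fin 3) F) = s • Matrix.diagonal d) :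
    ng * xg * ng⁻¹ ∈ Subgroup.closure ({xg, cg} : Set (GL (Fin 3) F)) ∧
      ng * cg * ng⁻¹ ∈ Subgroup.closure ({xg, cg} : Set (GL (Fin 3) F)) := by
  have hω3 : ω ^ 3 = 1 := by linear_combination (ω - 1) * hω
  have hx : xg ∈ Subgroup.closure ({xg, cg} : Set (GL (Fin 3) F)) :=
    Subgroup.subset_closure (by simp)
  have hc : cg ∈ Subgroup.closure ({xg, cg} : Set (GL (Fin 3) F)) :=
    Subgroup.subset_closure (by simp)
  obtain ⟨wg, hwg⟩ : ∃ wg : GL (Fin 3) F,
      (wg : Matrix (Fin 3) (Fin 3) F) = ω • (1 : Matrix (Fin 3) (Fin 3) F) :=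
    ⟨Matrix.GeneralLinearGroup.mkOfDetNeZero (ω • (1 : Matrix (Fin 3) (Fin 3) F)) (by
      rw [Matrix.det_smul, Matrix.det_one, Fintype.card_fin, hω3, mul_one]
      exact one_ne_zero), rfl⟩
  have hw := wg_mem ω hω3 xg cg wg hxg hcg hwg
  constructor
  · have h : ng * xg = xg * ng := by
      apply Units.ext
      rw [Units.val_mul, Units.val_mul, hxg, hng, diag_mul_Xm]
    rw [h, mul_inv_cancel_right]
    exact hx
  · obtain ⟨i, j, hij⟩ := diag_mul_Cm ω hω s d hd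
    have h : ng * cg = (wg ^ i * xg ^ j * cg) * ng := by
      apply Units.ext
      simp only [Units.val_mul, Units.val_pow_eq_pow_val, hxg, hcg, hng, hwg]
      rw [hij, smul_pow, one_pow]
      simp only [Matrix.smul_mul, one_mul]
    rw [h, mul_inv_cancel_right]
    exact Subgroup.mul_mem _ (Subgroup.mul_mem _ (Subgroup.pow_mem _ hw i) (Subgroup.pow_mem _ hx j))
      hc

theorem norm_T (ω : F) (hω3 : ω ^ 3 = 1) (xg cg ng : GL (Fin 3) F)
    (hxg : (xg : Matrix (Fin 3) (Fin 3) F) = Xm ω)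
    (hcg : (cg : Matrix (Fin 3) (Fin 3) F) = Ord3A.Cm F) (s : F)
    (hng : (ng : Matrix (Fin 3) (Fin 3) F) = s • Tm F) :
    ng * xg * ng⁻¹ ∈ Subgroup.closure ({xg, cg} : Set (GL (Fin 3) F)) ∧
      ng * cg * ng⁻¹ ∈ Subgroup.closure ({xg, cg} : Set (GL (Fin 3) F)) := by
  have hx : xg ∈ Subgroup.closure ({xg, cg} : Set (GL (Fin 3) F)) :=
    Subgroup.subset_closure (by simp)
  have hc : cg ∈ Subgroup.closure ({xg, cg} : Set (GL (Fin 3) F)) :=
    Subgroup.subset_closure (by simp)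
  constructor
  · have h : ng * xg = xg ^ 2 * ng := by
      apply Units.ext
      rw [Units.val_mul, Units.val_mul, Units.val_pow_eq_pow_val, hxg, hng, Tm_mul_Xm ω s hω3]
    rw [h, mul_inv_cancel_right]
    exact Subgroup.pow_mem _ hx 2
  · have h : ng * cg = cg ^ 2 * ng := by
      apply Units.ext
      rw [Units.val_mul, Units.val_mul, Units.val_pow_eq_pow_val, hcg, hng, Tm_mul_Cm s]
    rw [h, mul_inv_cancel_right]
    exact Subgroup.pow_mem _ hc 2

theorem transfer (x mg : GL (Fin 3) F)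
    (h N₀ : Matrix (Fin 3) (Fin 3) F)
    (hdet : h.det = (mg : Matrix (Fin 3) (Fin 3) F).det)
    (hxh : (x : Matrix (Fin 3) (Fin 3) F) * h = h * N₀) :
    ∃ g ∈ Cfsg.Geo.specialLinear (Fin 3) F, ∃ ng : GL (Fin 3) F,
      (ng : Matrix (Fin 3) (Fin 3) F) = N₀ ∧ g⁻¹ * x * g = mg * ng * mg⁻¹ := by
  have hh : h.det ≠ 0 := by
    rw [hdet]
    exact Matrix.GeneralLinearGroup.det_ne_zero mg
  obtain ⟨hg, hhg⟩ : ∃ hg : GL (Fin 3) F, (hg : Matrix (Fin 3) (Fin 3) F) = h :=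
    ⟨Matrix.GeneralLinearGroup.mkOfDetNeZero h hh, rfl⟩
  have hu : IsUnit h.det := isUnit_iff_ne_zero.mpr hh
  refine ⟨hg * mg⁻¹, ?_, hg⁻¹ * x * hg, ?_, ?_⟩
  · rw [mem_SL_iff, Units.val_mul, Matrix.det_mul, hhg, hdet, Matrix.coe_units_inv,
      Matrix.det_nonsing_inv, Ring.inverse_eq_inv',
      mul_inv_cancel₀ (Matrix.GeneralLinearGroup.det_ne_zero mg)]
  · have e : hg * (hg⁻¹ * x * hg) = x * hg := by group
    have e' := congrArg (fun g : GL (Fin 3) F => (g : Matrix (Fin 3) (Fin 3) F)) e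
    simp only [Units.val_mul] at e'
    rw [hhg, hxh] at e'
    -- h * ↑(hg⁻¹) * ... ; cancel
    have e'' : h * ((hg⁻¹ * x * hg : GL (Fin 3) F) : Matrix (Fin 3) (Fin 3) F) = h * N₀ := by
      rw [← e']
      simp only [Units.val_mul, hhg, mul_assoc]
    calc ((hg⁻¹ * x * hg : GL (Fin 3) F) : Matrix (Fin 3) (Fin 3) F)
        = h⁻¹ * (h * ((hg⁻¹ * x * hg : GL (Fin 3) F) : Matrix (Fin 3) (Fin 3) F)) := by
          rw [← mul_assoc, Matrix.nonsing_inv_mul h hu, one_mul]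
      _ = N₀ := by rw [e'', ← mul_assoc, Matrix.nonsing_inv_mul h hu, one_mul]
  · group

end Cfsg.Agent.Lib.Helper9.Ext27F
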