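/-
Helper9 library: arithmetic and explicit elements for the order-three statement on `PSL₃(q)`:
elements with a two-dimensional eigenspace whose cube is scalar, and `9 ∤ |SL₃(q)|` for
`q ≡ 2, 5 (mod 9)`.
-/
import Mathlib
import Cfsg.Agent.Lib.Helper13.SL2

set_option autoImplicit false
set_option linter.unusedSectionVars false

namespace Cfsg.Agent.Lib.Helper9.Ord3C

open Matrix

variable {F : Type*} [Field F]

/-- an element of `SL₃(F)` whose cube is scalar, which is not scalar, and which has a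
two-dimensional eigenspace -/
def Bad (x : Matrix.SpecialLinearGroup (Fin 3) F) : Prop :=
  (∃ z : F, ((x ^ 3 : Matrix.SpecialLinearGroup (Fin 3) F) : Matrix (Fin 3) (Fin 3) F)
      = z • (1 : Matrix (Fin 3) (Fin 3) F)) ∧
  (∀ z : F, (x : Matrix (Fin 3) (Fin 3) F) ≠ z • (1 : Matrix (Fin 3) (Fin 3) F)) ∧
  ∃ (c : F) (w₁ w₂ : Fin 3 → F), LinearIndependent F ![w₁, w₂] ∧
    (x : Matrix (Fin 3) (Fin 3) F) *ᵥ w₁ = c • w₁ ∧ (x : Matrix (Fin 3) (Fin 3) F) *ᵥ w₂ = c • w₂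

theorem indep_e (i j : Fin 3) (hij : i ≠ j) :
    LinearIndependent F ![(Pi.single i 1 : Fin 3 → F), (Pi.single j 1 : Fin 3 → F)] := by
  rw [LinearIndependent.pair_iff]
  intro a b hab
  have h1 := congrFun hab i
  have h2 := congrFun hab j
  simp [hij, hij.symm] at h1 h2
  exact ⟨h1, h2⟩

/-- in characteristic three a transvection is such an element -/
theorem bad_char3 (h3 : (3 : F) = 0) : ∃ x : Matrix.SpecialLinearGroup (Fin 3) F, Bad x := by
  have hdet : (!![1, 1, 0; 0, 1, 0; 0, 0, 1] : Matrix (Fin 3) (Fin 3) F).det = 1 := by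
    rw [Matrix.det_fin_three]; simp
  obtain ⟨x, hx⟩ : ∃ x : Matrix.SpecialLinearGroup (Fin 3) F,
      (x : Matrix (Fin 3) (Fin 3) F) = !![1, 1, 0; 0, 1, 0; 0, 0, 1] := ⟨⟨_, hdet⟩, rfl⟩
  refine ⟨x, ⟨1, ?_⟩, ?_, 1, Pi.single 0 1, Pi.single 2 1, indep_e 0 2 (by decide), ?_, ?_⟩
  · rw [Matrix.SpecialLinearGroup.coe_pow, hx, one_smul]
    have h2 : (1 : F) + (1 + 1) = 0 := by rw [← h3]; norm_num
    ext i j
    fin_cases i <;> fin_cases j <;>
      simp [pow_succ, Matrix.mul_apply, Fin.sum_univ_three] <;> first | exact h2 | skip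
  · intro z hz
    rw [hx] at hz
    have := congrFun (congrFun hz 0) 1
    simp at this
  · rw [hx, one_smul]
    ext i
    fin_cases i <;> simp [Matrix.mulVec, dotProduct, Fin.sum_univ_three]
  · rw [hx, one_smul]
    ext i
    fin_cases i <;> simp [Matrix.mulVec, dotProduct, Fin.sum_univ_three]

/-- an element of order nine in the field gives such an element -/
theorem bad_of_order9 (ζ : F) (h9 : ζ ^ 9 = 1) (h3 : ζ ^ 3 ≠ 1) :
    ∃ x : Matrix.SpecialLinearGroup (Fin 3) F, Bad x := by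
  have hdet : (!![ζ, 0, 0; 0, ζ, 0; 0, 0, ζ ^ 7] : Matrix (Fin 3) (Fin 3) F).det = 1 := by
    rw [Matrix.det_fin_three]; simp
    rw [← h9]; ring
  obtain ⟨x, hx⟩ : ∃ x : Matrix.SpecialLinearGroup (Fin 3) F,
      (x : Matrix (Fin 3) (Fin 3) F) = !![ζ, 0, 0; 0, ζ, 0; 0, 0, ζ ^ 7] := ⟨⟨_, hdet⟩, rfl⟩
  have hζ0 : ζ ≠ 0 := by
    intro h0
    rw [h0] at h9
    simp at h9
  refine ⟨x, ⟨ζ ^ 3, ?_⟩, ?_, ζ, Pi.single 0 1, Pi.single 1 1, indep_e 0 1 (by decide), ?_, ?_⟩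
  · rw [Matrix.SpecialLinearGroup.coe_pow, hx]
    have h21 : ζ ^ 7 * ζ ^ 7 * ζ ^ 7 = ζ ^ 3 := by
      calc ζ ^ 7 * ζ ^ 7 * ζ ^ 7 = ζ ^ 9 * ζ ^ 9 * ζ ^ 3 := by ring
        _ = ζ ^ 3 := by rw [h9, one_mul, one_mul]
    ext i j
    fin_cases i <;> fin_cases j <;>
      simp [pow_succ, Matrix.mul_apply, Fin.sum_univ_three] <;>
      first | linear_combination h21 | skip
  · intro z hz
    rw [hx] at hz
    have e0 := congrFun (congrFun hz 0) 0
    have e2 := congrFun (congrFun hz 2) 2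
    simp at e0 e2
    apply h3
    have h6 : ζ ^ 6 = 1 := by
      have : ζ ^ 6 * ζ = 1 * ζ := by
        rw [one_mul, ← pow_succ, e2, ← e0]
      exact mul_right_cancel₀ hζ0 this
    calc ζ ^ 3 = ζ ^ 6 * ζ ^ 3 := by rw [h6, one_mul]
      _ = ζ ^ 9 := by ring
      _ = 1 := h9
  · rw [hx]
    ext i
    fin_cases i <;> simp [Matrix.mulVec, dotProduct, Fin.sum_univ_three]
  · rw [hx]
    ext i
    fin_cases i <;> simp [Matrix.mulVec, dotProduct, Fin.sum_univ_three]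

section Finite

variable [Fintype F]

theorem exists_order9 (h : 9 ∣ Fintype.card F - 1) : ∃ ζ : F, ζ ^ 9 = 1 ∧ ζ ^ 3 ≠ 1 := by
  classical
  obtain ⟨g, hg⟩ := IsCyclic.exists_generator (α := Fˣ)
  have hord : orderOf g = Fintype.card F - 1 := by
    rw [orderOf_eq_card_of_forall_mem_zpowers hg, Nat.card_eq_fintype_card, Fintype.card_units]
  obtain ⟨m, hm⟩ := h
  have hpos : 0 < Fintype.card F - 1 := by
    have := Fintype.one_lt_card (α := F)
    omega
  have hm0 : 0 < m := by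
    rcases Nat.eq_zero_or_pos m with h0 | h0
    · rw [h0] at hm; omega
    · exact h0
  refine ⟨((g ^ m : Fˣ) : F), ?_, ?_⟩
  · rw [← Units.val_pow_eq_pow_val, ← pow_mul, mul_comm, ← hm, ← hord, pow_orderOf_eq_one,
      Units.val_one]
  · rw [← Units.val_pow_eq_pow_val, ← pow_mul]
    intro h1
    have h2 : g ^ (m * 3) = 1 := Units.ext h1
    exact pow_ne_one_of_lt_orderOf (by omega) (by rw [hord, hm]; omega) h2

theorem prod_mod9 (q : ℕ) (hq : q % 9 = 2 ∨ q % 9 = 5) :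
    ¬ 9 ∣ (q ^ 3 - q ^ 0) * (q ^ 3 - q ^ 1) * (q ^ 3 - q ^ 2) := by
  intro h
  have hq1 : 1 ≤ q := by omega
  have e0 : q ^ 0 ≤ q ^ 3 := Nat.pow_le_pow_right hq1 (by norm_num)
  have e1 : q ^ 1 ≤ q ^ 3 := Nat.pow_le_pow_right hq1 (by norm_num)
  have e2 : q ^ 2 ≤ q ^ 3 := Nat.pow_le_pow_right hq1 (by norm_num)
  have hz : (((q ^ 3 - q ^ 0) * (q ^ 3 - q ^ 1) * (q ^ 3 - q ^ 2) : ℕ) : ZMod 9) = 0 :=
    (ZMod.natCast_eq_zero_iff _ 9).mpr h
  rw [Nat.cast_mul, Nat.cast_mul, Nat.cast_sub e0, Nat.cast_sub e1, Nat.cast_sub e2] at hz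
  push_cast at hz
  have hq9 : (q : ZMod 9) = ((q % 9 : ℕ) : ZMod 9) := (ZMod.natCast_mod q 9).symm
  rcases hq with hq | hq
  · rw [hq] at hq9
    rw [hq9] at hz
    revert hz
    decide
  · rw [hq] at hq9
    rw [hq9] at hz
    revert hz
    decide

/-- `9 ∤ |SL₃(q)|` for `q ≡ 2, 5 (mod 9)` -/
theorem not_nine_dvd (hq : Fintype.card F % 9 = 2 ∨ Fintype.card F % 9 = 5) :
    ¬ 9 ∣ Nat.card (Matrix.SpecialLinearGroup (Fin 3) F) := by
  intro h
  have h1 := Cfsg.Agent.Lib.Helper13.card_SL_mul (F := F) 3 (by norm_num)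
  have h2 : 9 ∣ Nat.card (GL (Fin 3) F) := by
    rw [← h1]
    exact Dvd.dvd.mul_right h _
  rw [Matrix.card_GL_field, Fin.prod_univ_three] at h2
  exact prod_mod9 _ hq h2

/-- no subgroup of `SL₃(q)`, `q ≡ 2, 5 (mod 9)`, has both order and index divisible by three -/
theorem order_contra (hq : Fintype.card F % 9 = 2 ∨ Fintype.card F % 9 = 5)
    (N : Subgroup (Matrix.SpecialLinearGroup (Fin 3) F)) (h3 : 3 ∣ N.index)
    (s : Matrix.SpecialLinearGroup (Fin 3) F) (hs : s ∈ N) (hs3 : s ^ 3 = 1) (hs1 : s ≠ 1) :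
    False := by
  have : Fact (Nat.Prime 3) := ⟨Nat.prime_three⟩
  have hord : orderOf s = 3 := orderOf_eq_prime hs3 hs1
  have hd : 3 ∣ Nat.card N := by
    have := Subgroup.orderOf_dvd_natCard N hs
    rw [hord] at this
    exact this
  apply not_nine_dvd hq
  rw [← N.card_mul_index]
  exact Nat.mul_dvd_mul hd h3

end Finite

end Cfsg.Agent.Lib.Helper9.Ord3C
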