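import Mathlib
import Cfsg.Prelude.Def_GeometricClasses
import Cfsg.Agent.Lib.Helper9.Ext27F
import Cfsg.Agent.Lib.Helper9.Ord3C

set_option autoImplicit false

namespace Cfsg.Agent.Lib.Helper9.Ext27G
open Matrix
open scoped MatrixGroups
open Cfsg.Agent.Lib.Helper9 Cfsg.Agent.Lib.Helper9.Ext27B Cfsg.Agent.Lib.Helper9.Ext27C
  Cfsg.Agent.Lib.Helper9.Ext27D Cfsg.Agent.Lib.Helper9.Ext27E Cfsg.Agent.Lib.Helper9.Ext27F

variable {F : Type*} [Field F]

theorem cancel_right_unit (g : GL (Fin 3) F) (A B : Matrix (Fin 3) (Fin 3) F)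
    (h : A * (g : Matrix (Fin 3) (Fin 3) F) = B * g) : A = B :=
  (g.isUnit.mul_left_inj).mp h

/-- an element centralizing both conjugated generators is scalar -/
theorem scalar_of_centralizes (h3 : (3 : F) ≠ 0) (ω : F) (hω : ω ^ 2 + ω + 1 = 0)
    (xg cg mg y : GL (Fin 3) F)
    (hxg : (xg : Matrix (Fin 3) (Fin 3) F) = Xm ω)
    (hcg : (cg : Matrix (Fin 3) (Fin 3) F) = Ord3A.Cm F)
    (hyx : y * (mg * xg * mg⁻¹) = (mg * xg * mg⁻¹) * y)
    (hyc : y * (mg * cg * mg⁻¹) = (mg * cg * mg⁻¹) * y) :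
    ∃ t : F, (y : Matrix (Fin 3) (Fin 3) F) = t • (1 : Matrix (Fin 3) (Fin 3) F) := by
  set y' : GL (Fin 3) F := mg⁻¹ * y * mg with hy'
  have h1 : y' * xg = xg * y' := by
    have : y' * xg = mg⁻¹ * (y * (mg * xg * mg⁻¹)) * mg := by rw [hy']; group
    rw [this, hyx, hy']; group
  have h2 : y' * cg = cg * y' := by
    have : y' * cg = mg⁻¹ * (y * (mg * cg * mg⁻¹)) * mg := by rw [hy']; group
    rw [this, hyc, hy']; group
  have m1 : (y' : Matrix (Fin 3) (Fin 3) F) * Xm ω = Xm ω * y' := by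
    have := congrArg (fun g : GL (Fin 3) F => (g : Matrix (Fin 3) (Fin 3) F)) h1
    simpa only [Units.val_mul, hxg] using this
  have m2 : (y' : Matrix (Fin 3) (Fin 3) F) * Ord3A.Cm F = Ord3A.Cm F * y' := by
    have := congrArg (fun g : GL (Fin 3) F => (g : Matrix (Fin 3) (Fin 3) F)) h2
    simpa only [Units.val_mul, hcg] using this
  have hsc := scalar_of_commute ω hω h3 _ m1 m2
  refine ⟨(y' : Matrix (Fin 3) (Fin 3) F) 0 0, ?_⟩
  have h4 : mg * y' = y * mg := by rw [hy']; group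
  have m4 := congrArg (fun g : GL (Fin 3) F => (g : Matrix (Fin 3) (Fin 3) F)) h4
  simp only [Units.val_mul] at m4
  apply cancel_right_unit mg
  rw [← m4, hsc, Matrix.mul_smul, Matrix.smul_mul, mul_one, one_mul]
  simp

theorem forward_big (h3 : (3 : F) ≠ 0) (ω : F) (hω : ω ^ 2 + ω + 1 = 0)
    (R : Subgroup (GL (Fin 3) F)) (hR : Nat.card R = 27)
    (xg cg mg wg : GL (Fin 3) F)
    (hxg : (xg : Matrix (Fin 3) (Fin 3) F) = Xm ω)
    (hcg : (cg : Matrix (Fin 3) (Fin 3) F) = Ord3A.Cm F)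
    (hwg : (wg : Matrix (Fin 3) (Fin 3) F) = ω • (1 : Matrix (Fin 3) (Fin 3) F)) (hwgR : wg ∈ R)
    (hRcl : R = Subgroup.closure {mg * xg * mg⁻¹, mg * cg * mg⁻¹})
    (r : ℕ) [Fact r.Prime] (hr : 5 ≤ r) (y : GL (Fin 3) F)
    (hy : y ∈ Cfsg.Geo.subgroupNormalizer R) (hyr : y ^ r = 1) :
    ∃ t : F, (y : Matrix (Fin 3) (Fin 3) F) = t • (1 : Matrix (Fin 3) (Fin 3) F) := by
  have hω1 : ω ≠ 1 := by
    intro h
    rw [h] at hω
    apply h3
    linear_combination hω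
  have hw1 : wg ≠ 1 := by
    intro h
    have := congrArg (fun g : GL (Fin 3) F => (g : Matrix (Fin 3) (Fin 3) F) 0 0) h
    simp only [hwg, Units.val_one, Matrix.smul_apply, Matrix.one_apply_eq, smul_eq_mul,
      mul_one] at this
    exact hω1 this
  have hyw : y * wg = wg * y := by
    apply Units.ext
    rw [Units.val_mul, Units.val_mul, hwg, Matrix.mul_smul, Matrix.smul_mul, mul_one, one_mul]
  have hcen := centralizes_of_prime_order R hR wg hwgR hw1 y hy r hr hyr hyw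
  have hxR : mg * xg * mg⁻¹ ∈ R := by
    rw [hRcl]
    exact Subgroup.subset_closure (by simp)
  have hcR : mg * cg * mg⁻¹ ∈ R := by
    rw [hRcl]
    exact Subgroup.subset_closure (by simp)
  exact scalar_of_centralizes h3 ω hω xg cg mg y hxg hcg (hcen _ hxR) (hcen _ hcR)

section Finite

variable [Fintype F]

/-- Cauchy: a non-scalar element of order `r ≥ 5` -/
theorem cauchy_nonscalar (r : ℕ) [Fact r.Prime] (hr : 5 ≤ r)
    (hdvd : r ∣ Nat.card (Cfsg.Geo.specialLinear (Fin 3) F)) :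
    ∃ x ∈ Cfsg.Geo.specialLinear (Fin 3) F, x ^ r = 1 ∧
      ∀ z : F, (x : Matrix (Fin 3) (Fin 3) F) ≠ z • (1 : Matrix (Fin 3) (Fin 3) F) := by
  obtain ⟨x, hx⟩ := exists_prime_orderOf_dvd_card' (G := Cfsg.Geo.specialLinear (Fin 3) F) r hdvd
  refine ⟨x, x.2, ?_, ?_⟩
  · have := pow_orderOf_eq_one x
    rw [hx] at this
    have := congrArg Subtype.val this
    simpa using this
  · intro z hz
    have hdet := (mem_SL_iff (x : GL (Fin 3) F)).mp x.2
    rw [hz, Matrix.det_smul, Matrix.det_one, Fintype.card_fin, mul_one] at hdet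
    have hx3 : x ^ 3 = 1 := by
      apply Subtype.ext
      apply Units.ext
      simp only [Subgroup.coe_pow, Units.val_pow_eq_pow_val, Subgroup.coe_one, Units.val_one]
      rw [hz, smul_pow, one_pow, hdet, one_smul]
    have := orderOf_dvd_of_pow_eq_one hx3
    rw [hx] at this
    have := Nat.le_of_dvd (by norm_num) this
    omega

theorem exists_omega (h : 3 ∣ Fintype.card F - 1) : ∃ ω : F, ω ^ 2 + ω + 1 = 0 := by
  classical
  have : Fact (Nat.Prime 3) := ⟨Nat.prime_three⟩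
  have hcard : 3 ∣ Nat.card Fˣ := by
    rw [Nat.card_units, Nat.card_eq_fintype_card]
    exact h
  obtain ⟨u, hu⟩ := exists_prime_orderOf_dvd_card' (G := Fˣ) 3 hcard
  have hu3 : (u : F) ^ 3 = 1 := by
    have := pow_orderOf_eq_one u
    rw [hu] at this
    have := congrArg Units.val this
    simpa using this
  have hu1 : (u : F) ≠ 1 := by
    intro h1
    have : u = 1 := Units.ext h1
    rw [this, orderOf_one] at hu
    norm_num at hu
  refine ⟨(u : F), ?_⟩
  have : ((u : F) - 1) * ((u : F) ^ 2 + u + 1) = 0 := by linear_combination hu3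
  rcases mul_eq_zero.mp this with h5 | h5
  · exact absurd (sub_eq_zero.mp h5) hu1
  · exact h5

theorem exists_cube_root (h : 9 ∣ Fintype.card F - 1) (z : F) (hz : z ^ 3 = 1) :
    ∃ c₀ : F, c₀ ^ 3 * z = 1 := by
  obtain ⟨ζ, hζ9, hζ3⟩ := Ord3C.exists_order9 h
  have hη : (ζ ^ 3) ^ 2 + ζ ^ 3 + 1 = 0 := by
    have : (ζ ^ 3 - 1) * ((ζ ^ 3) ^ 2 + ζ ^ 3 + 1) = 0 := by linear_combination hζ9
    rcases mul_eq_zero.mp this with h5 | h5
    · exact absurd (sub_eq_zero.mp h5) hζ3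
    · exact h5
  obtain ⟨n, hn⟩ := mu3 (ζ ^ 3) hη z hz
  refine ⟨ζ ^ (8 * n), ?_⟩
  rw [hn, ← pow_mul, ← pow_mul, ← pow_add, show 8 * n * 3 + 3 * n = 9 * (3 * n) by ring, pow_mul,
    hζ9, one_pow]

end Finite

end Cfsg.Agent.Lib.Helper9.Ext27G
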