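import Mathlib
import Cfsg.Prelude.Def_GeometricClasses
import Cfsg.Agent.Lib.Helper9.Ext27G

set_option autoImplicit false

namespace Cfsg.Agent.Lib.Helper9.Ext27H
open Matrix
open scoped MatrixGroups
open Cfsg.Agent.Lib.Helper9 Cfsg.Agent.Lib.Helper9.Ext27B Cfsg.Agent.Lib.Helper9.Ext27C
  Cfsg.Agent.Lib.Helper9.Ext27D Cfsg.Agent.Lib.Helper9.Ext27E Cfsg.Agent.Lib.Helper9.Ext27F

variable {F : Type*} [Field F]

/-- first half of the structure theorem: a non-commuting pair with scalar commutator -/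
theorem structure_pre (h3 : (3 : F) ≠ 0) (ω₀ : F) (hω₀ : ω₀ ^ 2 + ω₀ + 1 = 0)
    (R : Subgroup (GL (Fin 3) F)) (hRe : Monoid.exponent R = 3)
    (hRna : ¬ IsMulCommutative R) :
    ∃ (a₀ b₀ wg : GL (Fin 3) F) (t : F), a₀ ∈ R ∧ b₀ ∈ R ∧ wg ∈ R ∧ t ^ 2 + t + 1 = 0 ∧
      (wg : Matrix (Fin 3) (Fin 3) F) = t • (1 : Matrix (Fin 3) (Fin 3) F) ∧
      (a₀ : Matrix (Fin 3) (Fin 3) F) ^ 3 = 1 ∧ (b₀ : Matrix (Fin 3) (Fin 3) F) ^ 3 = 1 ∧
      (a₀ : Matrix (Fin 3) (Fin 3) F) * (b₀ : Matrix (Fin 3) (Fin 3) F) =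
        t • ((b₀ : Matrix (Fin 3) (Fin 3) F) * (a₀ : Matrix (Fin 3) (Fin 3) F)) := by
  have hnc : ∃ a b : R, a * b ≠ b * a := by
    by_contra hcon
    push Not at hcon
    exact hRna (isMulCommutative_iff.mpr hcon)
  obtain ⟨a₀, b₀, hab⟩ := hnc
  have h3R : ∀ g : R, g ^ 3 = 1 := fun g => by
    have := Monoid.pow_exponent_eq_one g
    rwa [hRe] at this
  set c : R := a₀⁻¹ * b₀⁻¹ * a₀ * b₀ with hc
  have hca : Commute a₀ c := exp3_comm_left h3R a₀ b₀
  have hcb : Commute b₀ c := exp3_comm_right h3R a₀ b₀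
  have habc : a₀ * b₀ = b₀ * a₀ * c := by rw [hc]; group
  have hc1 : c ≠ 1 := by
    intro h
    apply hab
    rw [habc, h, mul_one]
  let mat : R → Matrix (Fin 3) (Fin 3) F := fun g => ((g : GL (Fin 3) F) : Matrix (Fin 3) (Fin 3) F)
  have mat_mul : ∀ g h : R, mat (g * h) = mat g * mat h := fun g h => by
    simp only [mat, Subgroup.coe_mul, Units.val_mul]
  have mat_one : mat 1 = 1 := by simp only [mat, Subgroup.coe_one, Units.val_one]
  have mat_pow : ∀ (g : R) (k : ℕ), mat (g ^ k) = mat g ^ k := fun g k => by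
    simp only [mat, Subgroup.coe_pow, Units.val_pow_eq_pow_val]
  have mat_inj : ∀ g h : R, mat g = mat h → g = h := fun g h e =>
    Subtype.ext (Units.ext e)
  have hA3 : mat a₀ ^ 3 = 1 := by rw [← mat_pow, h3R, mat_one]
  have hB3 : mat b₀ ^ 3 = 1 := by rw [← mat_pow, h3R, mat_one]
  have hC3 : mat c ^ 3 = 1 := by rw [← mat_pow, h3R, mat_one]
  have hdetc : (mat c).det = 1 := by
    have h1 : Matrix.GeneralLinearGroup.det ((c : R) : GL (Fin 3) F) = 1 := by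
      rw [hc]
      simp only [Subgroup.coe_mul, Subgroup.coe_inv, map_mul, map_inv]
      have hcomm : ∀ x y : Fˣ, x⁻¹ * y⁻¹ * x * y = 1 := fun x y => by
        rw [mul_assoc, mul_comm x y, ← mul_assoc, mul_assoc x⁻¹, inv_mul_cancel, mul_one,
          inv_mul_cancel]
      exact hcomm _ _
    have := congrArg Units.val h1
    rwa [Matrix.GeneralLinearGroup.val_det_apply] at this
  have hcA : mat c * mat a₀ = mat a₀ * mat c := by
    rw [← mat_mul, ← mat_mul, hca.eq]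
  have hcB : mat c * mat b₀ = mat b₀ * mat c := by
    rw [← mat_mul, ← mat_mul, hcb.eq]
  have hAB : mat a₀ * mat b₀ ≠ mat b₀ * mat a₀ := by
    intro h
    apply hab
    apply mat_inj
    rw [mat_mul, mat_mul, h]
  obtain ⟨t, ht⟩ := scalar_of_cube_central h3 ω₀ hω₀ (mat c) (mat a₀) (mat b₀) hC3 hdetc hcA hcB hAB
  have ht3 : t ^ 3 = 1 := by
    have := hC3
    rw [ht, smul_pow, one_pow] at this
    have := congrFun (congrFun this 0) 0
    simpa using this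
  have ht1 : t ≠ 1 := by
    intro h
    apply hc1
    apply mat_inj
    rw [ht, h, one_smul, mat_one]
  have htω : t ^ 2 + t + 1 = 0 := by
    have : (t - 1) * (t ^ 2 + t + 1) = 0 := by linear_combination ht3
    rcases mul_eq_zero.mp this with h | h
    · exact absurd (sub_eq_zero.mp h) ht1
    · exact h
  have hABt : mat a₀ * mat b₀ = t • (mat b₀ * mat a₀) := by
    rw [← mat_mul, habc, mat_mul, mat_mul, ht, Matrix.mul_smul, mul_one]
  exact ⟨a₀, b₀, c, t, a₀.2, b₀.2, c.2, htω, ht, hA3, hB3, hABt⟩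

/-- second half of the structure theorem: from a standard basis to generators -/
theorem structure_post (h3 : (3 : F) ≠ 0)
    (R : Subgroup (GL (Fin 3) F)) (hR : Nat.card R = 27)
    (a₀ b₀ wg : GL (Fin 3) F) (t : F) (ha₀ : a₀ ∈ R) (hb₀ : b₀ ∈ R) (hwg : wg ∈ R)
    (htω : t ^ 2 + t + 1 = 0)
    (hwgm : (wg : Matrix (Fin 3) (Fin 3) F) = t • (1 : Matrix (Fin 3) (Fin 3) F))
    (hABt : (a₀ : Matrix (Fin 3) (Fin 3) F) * (b₀ : Matrix (Fin 3) (Fin 3) F) =
        t • ((b₀ : Matrix (Fin 3) (Fin 3) F) * (a₀ : Matrix (Fin 3) (Fin 3) F)))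
    (m : Matrix (Fin 3) (Fin 3) F) (l : F) (hm : m.det ≠ 0) (hl3 : l ^ 3 = 1)
    (hAm : (a₀ : Matrix (Fin 3) (Fin 3) F) * m = m * (l • Xm t))
    (hBm : (b₀ : Matrix (Fin 3) (Fin 3) F) * m = m * Ord3A.Cm F) :
    ∃ (xg cg mg : GL (Fin 3) F),
      (xg : Matrix (Fin 3) (Fin 3) F) = Xm t ∧ (cg : Matrix (Fin 3) (Fin 3) F) = Ord3A.Cm F ∧
      (mg : Matrix (Fin 3) (Fin 3) F) = m ∧
      R = Subgroup.closure {mg * xg * mg⁻¹, mg * cg * mg⁻¹} := by
  have ht3 : t ^ 3 = 1 := by linear_combination (t - 1) * htω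
  have ht1 : t ≠ 1 := by
    intro h
    rw [h] at htω
    apply h3
    linear_combination htω
  have hl0 : l ≠ 0 := by
    intro h
    rw [h] at hl3
    norm_num at hl3
  have hAB : (a₀ : Matrix (Fin 3) (Fin 3) F) * (b₀ : Matrix (Fin 3) (Fin 3) F) ≠
      (b₀ : Matrix (Fin 3) (Fin 3) F) * (a₀ : Matrix (Fin 3) (Fin 3) F) := by
    intro h
    rw [h] at hABt
    have h1 : (1 - t) • ((b₀ : Matrix (Fin 3) (Fin 3) F) * (a₀ : Matrix (Fin 3) (Fin 3) F)) = 0 := by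
      rw [sub_smul, one_smul, ← hABt, sub_self]
    rcases smul_eq_zero.mp h1 with h5 | h5
    · exact ht1 (sub_eq_zero.mp h5).symm
    · have h6 : ((b₀ * a₀ : GL (Fin 3) F) : Matrix (Fin 3) (Fin 3) F) = 0 := by
        rw [Units.val_mul]; exact h5
      exact (b₀ * a₀).isUnit.ne_zero h6
  obtain ⟨n, hn⟩ := mu3 t htω l⁻¹ (by rw [inv_pow, hl3, inv_one])
  obtain ⟨mg, hmg⟩ : ∃ mg : GL (Fin 3) F, (mg : Matrix (Fin 3) (Fin 3) F) = m :=
    ⟨Matrix.GeneralLinearGroup.mkOfDetNeZero m hm, rfl⟩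
  obtain ⟨xg, hxg⟩ : ∃ xg : GL (Fin 3) F, (xg : Matrix (Fin 3) (Fin 3) F) = Xm t :=
    ⟨Matrix.GeneralLinearGroup.mkOfDetNeZero (Xm t) (by rw [det_Xm t ht3]; exact one_ne_zero), rfl⟩
  obtain ⟨cg, hcg⟩ : ∃ cg : GL (Fin 3) F, (cg : Matrix (Fin 3) (Fin 3) F) = Ord3A.Cm F :=
    ⟨Matrix.GeneralLinearGroup.mkOfDetNeZero (Ord3A.Cm F) (by rw [det_Cm]; exact one_ne_zero), rfl⟩
  set a : GL (Fin 3) F := wg ^ n * a₀ with ha
  have haR : a ∈ R := Subgroup.mul_mem _ (Subgroup.pow_mem _ hwg n) ha₀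
  have hmata : (a : Matrix (Fin 3) (Fin 3) F) = l⁻¹ • (a₀ : Matrix (Fin 3) (Fin 3) F) := by
    rw [ha, Units.val_mul, Units.val_pow_eq_pow_val, hwgm, smul_pow, one_pow, ← hn,
      Matrix.smul_mul, one_mul]
  have key1 : mg * xg = a * mg := by
    apply Units.ext
    rw [Units.val_mul, Units.val_mul, hmg, hxg, hmata, Matrix.smul_mul, hAm, Matrix.mul_smul,
      smul_smul, inv_mul_cancel₀ hl0, one_smul]
  have key2 : mg * cg = b₀ * mg := by
    apply Units.ext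
    rw [Units.val_mul, Units.val_mul, hmg, hcg]
    exact hBm.symm
  have ha' : mg * xg * mg⁻¹ = a := by rw [key1, mul_inv_cancel_right]
  have hb' : mg * cg * mg⁻¹ = b₀ := by rw [key2, mul_inv_cancel_right]
  have hne : a * b₀ ≠ b₀ * a := by
    intro h
    apply hAB
    have h' : (a : Matrix (Fin 3) (Fin 3) F) * (b₀ : Matrix (Fin 3) (Fin 3) F) =
        (b₀ : Matrix (Fin 3) (Fin 3) F) * (a : Matrix (Fin 3) (Fin 3) F) := by
      rw [← Units.val_mul, ← Units.val_mul, h]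
    rw [hmata, Matrix.smul_mul, Matrix.mul_smul] at h'
    have := congrArg (fun M => l • M) h'
    simpa only [smul_smul, mul_inv_cancel₀ hl0, one_smul] using this
  have hH : Subgroup.closure ({a, b₀} : Set (GL (Fin 3) F)) = R := by
    apply eq_of_noncomm R _ hR _ a b₀ (Subgroup.subset_closure (by simp))
      (Subgroup.subset_closure (by simp)) hne
    rw [Subgroup.closure_le]
    intro g hg
    rcases hg with rfl | rfl
    · exact haR
    · exact hb₀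
  refine ⟨xg, cg, mg, hxg, hcg, hmg, ?_⟩
  rw [ha', hb', hH]

end Cfsg.Agent.Lib.Helper9.Ext27H
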