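import Mathlib
import Cfsg.Prelude.Def_GeometricClasses

set_option autoImplicit false
open scoped MatrixGroups

namespace Cfsg.Agent.Lib.Helper9.ExtA
open Matrix

variable {F : Type*} [Field F] {n : ℕ} (K : Subalgebra F (Matrix (Fin n) (Fin n) F))

/-- the extension-field subgroup of `SL_n(F)` -/
abbrev HK : Subgroup (Matrix.SpecialLinearGroup (Fin n) F) :=
  (Cfsg.Geo.subalgebraNormalizer K).comap
    (Matrix.SpecialLinearGroup.toGL : Matrix.SpecialLinearGroup (Fin n) F →* GL (Fin n) F)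

theorem one_ne_zero_of_field (hK : Cfsg.Geo.IsFieldSubalgebra 2 K) :
    (1 : Matrix (Fin n) (Fin n) F) ≠ 0 := by
  intro h
  have h1 : ∀ k : K, k = 0 := by
    intro k
    apply Subtype.ext
    have : (k : Matrix (Fin n) (Fin n) F) = (k : Matrix (Fin n) (Fin n) F) * 1 := (Matrix.mul_one _).symm
    rw [this, h, Matrix.mul_zero]
    rfl
  have h2 : Module.finrank F K = 0 := by
    have : Subsingleton K := ⟨fun a b => by rw [h1 a, h1 b]⟩
    exact Module.finrank_zero_of_subsingleton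
  rw [hK.finrank_eq] at h2
  omega

/-- in degree 2 every element is `a + b κ` -/
theorem exists_repr (hK : Cfsg.Geo.IsFieldSubalgebra 2 K) (κ : Matrix (Fin n) (Fin n) F)
    (hκ : κ ∈ K) (hns : ∀ c : F, κ ≠ c • 1) (k : Matrix (Fin n) (Fin n) F) (hk : k ∈ K) :
    ∃ a b : F, k = a • 1 + b • κ := by
  classical
  have h10 := one_ne_zero_of_field K hK
  let v : Fin 2 → K := ![1, ⟨κ, hκ⟩]
  have hli : LinearIndependent F v := by
    rw [LinearIndependent.pair_iff]
    intro s t hst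
    have hst' : s • (1 : Matrix (Fin n) (Fin n) F) + t • κ = 0 := by
      have := congrArg (Subtype.val) hst
      simpa using this
    by_cases ht : t = 0
    · subst ht
      rw [zero_smul, add_zero] at hst'
      refine ⟨?_, rfl⟩
      by_contra hs
      apply h10
      have := congrArg (fun M => s⁻¹ • M) hst'
      simpa [smul_smul, inv_mul_cancel₀ hs] using this
    · exfalso
      apply hns (-(s / t))
      have h1 : t • κ = -(s • (1 : Matrix (Fin n) (Fin n) F)) := by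
        rw [eq_neg_iff_add_eq_zero, add_comm]
        exact hst'
      have h2 := congrArg (fun M => t⁻¹ • M) h1
      simp only [smul_smul, inv_mul_cancel₀ ht, one_smul, smul_neg] at h2
      rw [h2, neg_smul]
      congr 2
      field_simp
  have hcard : Fintype.card (Fin 2) = Module.finrank F K := by
    rw [hK.finrank_eq]
    rfl
  have : FiniteDimensional F K := Module.finite_of_finrank_pos (by rw [hK.finrank_eq]; norm_num)
  let bas := basisOfLinearIndependentOfCardEqFinrank hli hcard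
  have hrep := bas.sum_repr ⟨k, hk⟩
  rw [Fin.sum_univ_two] at hrep
  have hb0 : bas 0 = 1 := by
    simp only [bas, coe_basisOfLinearIndependentOfCardEqFinrank, v]
    rfl
  have hb1 : bas 1 = ⟨κ, hκ⟩ := by
    simp only [bas, coe_basisOfLinearIndependentOfCardEqFinrank, v]
    rfl
  rw [hb0, hb1] at hrep
  refine ⟨bas.repr ⟨k, hk⟩ 0, bas.repr ⟨k, hk⟩ 1, ?_⟩
  have := congrArg Subtype.val hrep
  exact this.symm

theorem exists_nonscalar (hK : Cfsg.Geo.IsFieldSubalgebra 2 K) :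
    ∃ κ ∈ K, ∀ c : F, κ ≠ c • (1 : Matrix (Fin n) (Fin n) F) := by
  by_contra hcon
  push Not at hcon
  have h1 : Module.finrank F K ≤ 1 := by
    apply finrank_le_one (1 : K)
    intro w
    obtain ⟨c, hc⟩ := hcon w.1 w.2
    refine ⟨c, ?_⟩
    apply Subtype.ext
    simpa using hc.symm
  rw [hK.finrank_eq] at h1
  omega

/-- nonzero elements of `K` act injectively -/
theorem eq_zero_of_mulVec (hK : Cfsg.Geo.IsFieldSubalgebra 2 K) (τ : Matrix (Fin n) (Fin n) F)
    (hτ : τ ∈ K) (hτ0 : τ ≠ 0) (v : Fin n → F) (hv : τ *ᵥ v = 0) : v = 0 := by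
  obtain ⟨τ', hτ', hmul⟩ := hK.inv τ hτ hτ0
  have hcomm := hK.comm τ hτ τ' hτ'
  rw [hcomm] at hmul
  have := congrArg (fun w => τ' *ᵥ w) hv
  simp only [Matrix.mulVec_mulVec, hmul, Matrix.one_mulVec, Matrix.mulVec_zero] at this
  exact this

/-- membership in the normalizer from the action on a generator -/
theorem mem_normalizer (hK : Cfsg.Geo.IsFieldSubalgebra 2 K) (κ : Matrix (Fin n) (Fin n) F)
    (hκ : κ ∈ K) (hns : ∀ c : F, κ ≠ c • 1) (y : GL (Fin n) F) (α β : F) (hβ : β ≠ 0)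
    (hy : (y : Matrix (Fin n) (Fin n) F) * κ = (α • 1 + β • κ) * (y : Matrix (Fin n) (Fin n) F)) :
    y ∈ Cfsg.Geo.subalgebraNormalizer K := by
  obtain ⟨Y, hY⟩ : ∃ Y : Matrix (Fin n) (Fin n) F, Y = (y : Matrix (Fin n) (Fin n) F) := ⟨_, rfl⟩
  obtain ⟨Yi, hYi⟩ : ∃ Yi : Matrix (Fin n) (Fin n) F,
    Yi = ((y⁻¹ : GL (Fin n) F) : Matrix (Fin n) (Fin n) F) := ⟨_, rfl⟩
  have hYYi : Y * Yi = 1 := by rw [hY, hYi, ← Units.val_mul, mul_inv_cancel, Units.val_one]
  have hYiY : Yi * Y = 1 := by rw [hY, hYi, ← Units.val_mul, inv_mul_cancel, Units.val_one]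
  rw [← hY] at hy
  have h1 : Y * κ * Yi = α • 1 + β • κ := by
    rw [hy, Matrix.mul_assoc, hYYi, Matrix.mul_one]
  have h2 : Yi * κ * Y = (-(α / β)) • 1 + β⁻¹ • κ := by
    have h3 : κ = Yi * (α • 1 + β • κ) * Y := by
      rw [Matrix.mul_assoc, ← hy, ← Matrix.mul_assoc, hYiY, Matrix.one_mul]
    have h4 : Yi * (α • 1 + β • κ) * Y = α • 1 + β • (Yi * κ * Y) := by
      rw [Matrix.mul_add, Matrix.add_mul, Matrix.mul_smul, Matrix.smul_mul, Matrix.mul_one, hYiY,
        Matrix.mul_smul, Matrix.smul_mul]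
    rw [h4] at h3
    have h5 : β • (Yi * κ * Y) = κ - α • 1 := by
      rw [eq_sub_iff_add_eq, add_comm]
      exact h3.symm
    have h6 := congrArg (fun M => β⁻¹ • M) h5
    simp only [smul_smul, inv_mul_cancel₀ hβ, one_smul] at h6
    rw [h6, smul_sub, smul_smul, sub_eq_add_neg, add_comm, ← neg_smul]
    congr 2
    field_simp
  show ∀ k : Matrix (Fin n) (Fin n) F, k ∈ K ↔
    (y : Matrix (Fin n) (Fin n) F) * k * ((y⁻¹ : GL (Fin n) F) : Matrix (Fin n) (Fin n) F) ∈ K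
  intro k
  rw [← hY, ← hYi]
  constructor
  · intro hk
    obtain ⟨a, b, rfl⟩ := exists_repr K hK κ hκ hns k hk
    have : Y * (a • 1 + b • κ) * Yi = a • 1 + b • (Y * κ * Yi) := by
      rw [Matrix.mul_add, Matrix.add_mul, Matrix.mul_smul, Matrix.smul_mul, Matrix.mul_one, hYYi,
        Matrix.mul_smul, Matrix.smul_mul]
    rw [this, h1]
    exact K.add_mem (K.smul_mem K.one_mem a) (K.smul_mem (K.add_mem (K.smul_mem K.one_mem α)
      (K.smul_mem hκ β)) b)
  · intro hk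
    obtain ⟨a, b, hab⟩ := exists_repr K hK κ hκ hns _ hk
    have hk' : k = Yi * (a • 1 + b • κ) * Y := by
      rw [← hab]
      calc k = (Yi * Y) * k * (Yi * Y) := by rw [hYiY, Matrix.one_mul, Matrix.mul_one]
        _ = Yi * (Y * k * Yi) * Y := by simp only [Matrix.mul_assoc]
    have : Yi * (a • 1 + b • κ) * Y = a • 1 + b • (Yi * κ * Y) := by
      rw [Matrix.mul_add, Matrix.add_mul, Matrix.mul_smul, Matrix.smul_mul, Matrix.mul_one, hYiY,
        Matrix.mul_smul, Matrix.smul_mul]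
    rw [hk', this, h2]
    exact K.add_mem (K.smul_mem K.one_mem a) (K.smul_mem (K.add_mem (K.smul_mem K.one_mem _)
      (K.smul_mem hκ _)) b)

/-- a scalar plus a rank one matrix does not normalize a field subalgebra of degree 2 when
`n ≥ 3` -/
theorem not_normalizes (hK : Cfsg.Geo.IsFieldSubalgebra 2 K) (hn : 3 ≤ n) (a b : Fin n → F)
    (ha : a ≠ 0) (hb : b ≠ 0) (α β : F) (hα : α ≠ 0) (hβ : β ≠ 0) (y : GL (Fin n) F)
    (hy : (y : Matrix (Fin n) (Fin n) F) = α • 1 + β • Matrix.vecMulVec a b) :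
    y ∉ Cfsg.Geo.subalgebraNormalizer K := by
  classical
  intro hmem
  obtain ⟨κ, hκ, hns⟩ := exists_nonscalar K hK
  obtain ⟨Y, hY⟩ : ∃ Y : Matrix (Fin n) (Fin n) F, Y = (y : Matrix (Fin n) (Fin n) F) := ⟨_, rfl⟩
  obtain ⟨Yi, hYi⟩ : ∃ Yi : Matrix (Fin n) (Fin n) F,
    Yi = ((y⁻¹ : GL (Fin n) F) : Matrix (Fin n) (Fin n) F) := ⟨_, rfl⟩
  have hYiY : Yi * Y = 1 := by rw [hY, hYi, ← Units.val_mul, inv_mul_cancel, Units.val_one]
  have hκ' : Y * κ * Yi ∈ K := by
    rw [hY, hYi]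
    exact (hmem κ).mp hκ
  obtain ⟨κ', hκ'def⟩ : ∃ κ' : Matrix (Fin n) (Fin n) F, κ' = Y * κ * Yi := ⟨_, rfl⟩
  rw [← hκ'def] at hκ'
  have hYκ : Y * κ = κ' * Y := by
    rw [hκ'def, Matrix.mul_assoc, hYiY, Matrix.mul_one]
  obtain ⟨N, hN⟩ : ∃ N : Matrix (Fin n) (Fin n) F, N = Matrix.vecMulVec a b := ⟨_, rfl⟩
  rw [← hY, ← hN] at hy
  -- α (κ - κ') = β (κ' N - N κ)
  have hrel : α • (κ - κ') = β • (κ' * N - N * κ) := by
    rw [hy, Matrix.add_mul, Matrix.mul_add, Matrix.smul_mul, Matrix.mul_smul, Matrix.one_mul,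
      Matrix.mul_one, Matrix.smul_mul, Matrix.mul_smul] at hYκ
    rw [smul_sub, smul_sub]
    rw [sub_eq_sub_iff_add_eq_add]
    rw [add_comm (β • (κ' * N))]
    exact hYκ
  have hNv : ∀ v, N *ᵥ v = (b ⬝ᵥ v) • a := by
    intro v
    rw [hN, Matrix.vecMulVec_mulVec]
    funext i
    simp [mul_comm]
  have hNκv : ∀ v, (N * κ) *ᵥ v = ((b ᵥ* κ) ⬝ᵥ v) • a := by
    intro v
    rw [hN, Matrix.vecMulVec_mul, Matrix.vecMulVec_mulVec]
    funext i
    simp [mul_comm]
  by_cases hκκ : κ' = κ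
  · -- N commutes with κ
    rw [hκκ, sub_self, smul_zero] at hrel
    have hcomm : κ * N = N * κ := by
      have := congrArg (fun M => β⁻¹ • M) hrel
      simp only [smul_zero, smul_smul, inv_mul_cancel₀ hβ, one_smul] at this
      exact sub_eq_zero.mp this.symm
    obtain ⟨j, hj⟩ : ∃ j, b j ≠ 0 := by
      by_contra h
      push Not at h
      exact hb (funext h)
    have hbv : b ⬝ᵥ (Pi.single j 1 : Fin n → F) = b j := by
      rw [dotProduct_single, mul_one]
    have h1 : (κ * N) *ᵥ (Pi.single j 1 : Fin n → F) = (N * κ) *ᵥ (Pi.single j 1 : Fin n → F) := by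
      rw [hcomm]
    rw [← Matrix.mulVec_mulVec, hNv, hNκv, hbv, Matrix.mulVec_smul] at h1
    -- κ a = μ a
    obtain ⟨μ, hμ⟩ : ∃ μ : F, κ *ᵥ a = μ • a := by
      refine ⟨(b j)⁻¹ * ((b ᵥ* κ) ⬝ᵥ (Pi.single j 1 : Fin n → F)), ?_⟩
      have := congrArg (fun w => (b j)⁻¹ • w) h1
      simp only [smul_smul, inv_mul_cancel₀ hj, one_smul] at this
      exact this
    apply hns μ
    by_contra hne
    have hτ : κ - μ • 1 ∈ K := K.sub_mem hκ (K.smul_mem K.one_mem μ)
    have hτ0 : κ - μ • 1 ≠ 0 := fun h => hne (sub_eq_zero.mp h)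
    apply ha
    apply eq_zero_of_mulVec K hK _ hτ hτ0
    rw [Matrix.sub_mulVec, hμ, Matrix.smul_mulVec, Matrix.one_mulVec, sub_self]
  · -- τ = κ - κ' is invertible but vanishes on a nonzero vector
    have hτ : κ - κ' ∈ K := K.sub_mem hκ hκ'
    have hτ0 : κ - κ' ≠ 0 := fun h => hκκ (sub_eq_zero.mp h).symm
    let L : (Fin n → F) →ₗ[F] (Fin 2 → F) :=
      LinearMap.pi ![(dotProductBilin F F b : (Fin n → F) →ₗ[F] F),
        (dotProductBilin F F (b ᵥ* κ) : (Fin n → F) →ₗ[F] F)]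
    have hker : LinearMap.ker L ≠ ⊥ := by
      apply LinearMap.ker_ne_bot_of_finrank_lt
      rw [Module.finrank_fin_fun, Module.finrank_fin_fun]
      omega
    obtain ⟨v, hvker, hv0⟩ := Submodule.exists_mem_ne_zero_of_ne_bot hker
    have hL := LinearMap.mem_ker.mp hvker
    have hbv : b ⬝ᵥ v = 0 := by
      have := congrFun hL 0
      simpa [L] using this
    have hbκv : (b ᵥ* κ) ⬝ᵥ v = 0 := by
      have := congrFun hL 1
      simpa [L] using this
    apply hv0
    apply eq_zero_of_mulVec K hK _ hτ hτ0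
    have hR : (κ' * N - N * κ) *ᵥ v = 0 := by
      rw [Matrix.sub_mulVec, ← Matrix.mulVec_mulVec, hNv, hNκv, hbv, hbκv, zero_smul,
        Matrix.mulVec_zero, sub_self]
    have h1 : α • ((κ - κ') *ᵥ v) = 0 := by
      rw [← Matrix.smul_mulVec, hrel, Matrix.smul_mulVec, hR, smul_zero]
    have h2 := congrArg (fun w => α⁻¹ • w) h1
    simp only [smul_smul, inv_mul_cancel₀ hα, one_smul, smul_zero] at h2
    exact h2

end Cfsg.Agent.Lib.Helper9.ExtA
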