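import Mathlib
import Cfsg.Agent.Lib.Helper9.ExtA

set_option autoImplicit false
open scoped MatrixGroups

namespace Cfsg.Agent.Lib.Helper9.ExtB
open Matrix Cfsg.Agent.Lib.Helper9.ExtA

variable {F : Type*} [Field F] {n : ℕ} (K : Subalgebra F (Matrix (Fin n) (Fin n) F))

/-- conjugates of a scalar plus a rank one matrix do not normalize `K` -/
theorem not_conj_rank_one (hK : Cfsg.Geo.IsFieldSubalgebra 2 K) (hn : 3 ≤ n)
    (x : Matrix.SpecialLinearGroup (Fin n) F) (u w : Fin n → F) (hu : u ≠ 0) (hw : w ≠ 0)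
    (α β : F) (hα : α ≠ 0) (hβ : β ≠ 0)
    (hx : (x : Matrix (Fin n) (Fin n) F) = α • 1 + β • Matrix.vecMulVec u w)
    (P : Matrix.SpecialLinearGroup (Fin n) F) : P⁻¹ * x * P ∉ HK K := by
  intro hmem
  rw [Subgroup.mem_comap] at hmem
  obtain ⟨Q, hQ⟩ : ∃ Q : Matrix (Fin n) (Fin n) F, Q = (P : Matrix (Fin n) (Fin n) F) := ⟨_, rfl⟩
  obtain ⟨Qi, hQi⟩ : ∃ Qi : Matrix (Fin n) (Fin n) F,
    Qi = ((P⁻¹ : Matrix.SpecialLinearGroup (Fin n) F) : Matrix (Fin n) (Fin n) F) := ⟨_, rfl⟩
  have hQiQ : Qi * Q = 1 := by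
    rw [hQi, hQ, ← Matrix.SpecialLinearGroup.coe_mul, inv_mul_cancel, Matrix.SpecialLinearGroup.coe_one]
  have hQQi : Q * Qi = 1 := by
    rw [hQi, hQ, ← Matrix.SpecialLinearGroup.coe_mul, mul_inv_cancel, Matrix.SpecialLinearGroup.coe_one]
  have hy : ((Matrix.SpecialLinearGroup.toGL (P⁻¹ * x * P) : GL (Fin n) F) : Matrix (Fin n) (Fin n) F) =
      α • 1 + β • Matrix.vecMulVec (Qi *ᵥ u) (w ᵥ* Q) := by
    have h1 : ((Matrix.SpecialLinearGroup.toGL (P⁻¹ * x * P) : GL (Fin n) F) : Matrix (Fin n) (Fin n) F) =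
        Qi * (x : Matrix (Fin n) (Fin n) F) * Q := by
      rw [hQi, hQ]
      rfl
    rw [h1, hx, Matrix.mul_add, Matrix.add_mul, Matrix.mul_smul, Matrix.smul_mul, Matrix.mul_one, hQiQ,
      Matrix.mul_smul, Matrix.smul_mul, Matrix.mul_vecMulVec, Matrix.vecMulVec_mul]
  refine not_normalizes K hK hn (Qi *ᵥ u) (w ᵥ* Q) ?_ ?_ α β hα hβ _ hy hmem
  · intro h
    apply hu
    have := congrArg (fun v => Q *ᵥ v) h
    simpa [Matrix.mulVec_mulVec, hQQi] using this
  · intro h
    apply hw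
    have := congrArg (fun v => v ᵥ* Qi) h
    simpa [Matrix.vecMul_vecMul, hQQi] using this

/-- characteristic 2: a transvection is not conjugate into the extension field subgroup -/
theorem exists_not_conj_two [CharP F 2] (hK : Cfsg.Geo.IsFieldSubalgebra 2 K) (hn : 3 ≤ n) :
    ∃ x : Matrix.SpecialLinearGroup (Fin n) F,
      (x : Matrix (Fin n) (Fin n) F) * (x : Matrix (Fin n) (Fin n) F) = (1 : F) • 1 ∧
      (∀ z : F, (x : Matrix (Fin n) (Fin n) F) ≠ z • 1) ∧
      ∀ P : Matrix.SpecialLinearGroup (Fin n) F, P⁻¹ * x * P ∉ HK K := by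
  classical
  let i₀ : Fin n := ⟨0, by omega⟩
  let i₁ : Fin n := ⟨1, by omega⟩
  have h01 : i₀ ≠ i₁ := by simp [i₀, i₁, Fin.ext_iff]
  have h2 : (2 : F) = 0 := by
    have := CharP.cast_eq_zero F 2
    exact_mod_cast this
  obtain ⟨N, hN⟩ : ∃ N : Matrix (Fin n) (Fin n) F,
    N = Matrix.vecMulVec (Pi.single i₀ 1) (Pi.single i₁ 1) := ⟨_, rfl⟩
  have hNN : N * N = 0 := by
    rw [hN, Matrix.vecMulVec_mul_vecMulVec]
    have : (Pi.single i₁ (1 : F) : Fin n → F) ⬝ᵥ Pi.single i₀ 1 = 0 := by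
      rw [single_dotProduct, one_mul, Pi.single_eq_of_ne h01.symm]
    rw [this, zero_smul, Matrix.vecMulVec_zero]
  obtain ⟨X, hX⟩ : ∃ X : Matrix (Fin n) (Fin n) F, X = 1 + N := ⟨_, rfl⟩
  have hXX : X * X = 1 := by
    rw [hX, Matrix.add_mul, Matrix.mul_add, Matrix.mul_add, Matrix.one_mul, Matrix.mul_one,
      Matrix.one_mul, hNN, add_zero]
    have : N + N = 0 := by
      rw [← two_smul F N, h2, zero_smul]
    rw [add_assoc, this, add_zero]
  have hXdet : X.det = 1 := by
    have h1 := congrArg Matrix.det hXX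
    rw [Matrix.det_mul, Matrix.det_one] at h1
    have h3 : (X.det - 1) * (X.det - 1) = 0 := by
      have : (X.det - 1) * (X.det - 1) = X.det * X.det - 2 * X.det + 1 := by ring
      rw [this, h1, h2]
      ring_nf
      exact_mod_cast (by rw [h2] : (2 : F) = 0)
    rcases mul_eq_zero.mp h3 with h | h <;> exact sub_eq_zero.mp h
  let x : Matrix.SpecialLinearGroup (Fin n) F := ⟨X, hXdet⟩
  have hxX : (x : Matrix (Fin n) (Fin n) F) = X := rfl
  refine ⟨x, by rw [hxX, hXX, one_smul], ?_, ?_⟩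
  · intro z hz
    rw [hxX, hX, hN] at hz
    have e01 := congrFun (congrFun hz i₀) i₁
    simp [Matrix.vecMulVec_apply, Matrix.one_apply_ne h01] at e01
  · intro P
    refine not_conj_rank_one K hK hn x (Pi.single i₀ 1) (Pi.single i₁ 1) ?_ ?_ 1 1 one_ne_zero
      one_ne_zero (by rw [hxX, hX, hN, one_smul, one_smul]) P
    · intro h
      have := congrFun h i₀
      simp at this
    · intro h
      have := congrFun h i₁
      simp at this

/-- odd characteristic: a reflection-type involution is not conjugate into the extension field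
subgroup -/
theorem exists_not_conj_odd (h2 : (2 : F) ≠ 0) (hK : Cfsg.Geo.IsFieldSubalgebra 2 K) (hn : 3 ≤ n)
    (lam : F) (hlam : lam ^ n = -1) :
    ∃ x : Matrix.SpecialLinearGroup (Fin n) F,
      (x : Matrix (Fin n) (Fin n) F) * (x : Matrix (Fin n) (Fin n) F) = (lam * lam) • 1 ∧
      (∀ z : F, (x : Matrix (Fin n) (Fin n) F) ≠ z • 1) ∧
      ∀ P : Matrix.SpecialLinearGroup (Fin n) F, P⁻¹ * x * P ∉ HK K := by
  classical
  have hlam0 : lam ≠ 0 := by
    rintro rfl
    rw [zero_pow (by omega)] at hlam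
    have : (1 : F) = 0 := by
      have h1 : (0 : F) + 1 = -1 + 1 := by rw [← hlam]
      rw [zero_add, neg_add_cancel] at h1
      exact h1
    exact one_ne_zero this
  let i₀ : Fin n := ⟨0, by omega⟩
  let i₁ : Fin n := ⟨1, by omega⟩
  have h01 : i₀ ≠ i₁ := by simp [i₀, i₁, Fin.ext_iff]
  let d : Fin n → F := Function.update (fun _ => (1 : F)) i₀ (-1)
  have hd0 : d i₀ = -1 := by simp [d]
  have hdne : ∀ j, j ≠ i₀ → d j = 1 := by
    intro j hj
    simp [d, Function.update_of_ne hj]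
  obtain ⟨X, hX⟩ : ∃ X : Matrix (Fin n) (Fin n) F, X = lam • Matrix.diagonal d := ⟨_, rfl⟩
  have hXdet : X.det = 1 := by
    rw [hX, Matrix.det_smul, Fintype.card_fin, Matrix.det_diagonal,
      Finset.prod_update_of_mem (Finset.mem_univ _), hlam]
    simp
  have hXX : X * X = (lam * lam) • 1 := by
    rw [hX, Matrix.smul_mul, Matrix.mul_smul, smul_smul, Matrix.diagonal_mul_diagonal]
    congr 1
    rw [← Matrix.diagonal_one]
    congr 1
    funext j
    by_cases hj : j = i₀
    · rw [hj, hd0]; ring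
    · rw [hdne j hj]; ring
  have hXform : X = lam • 1 + (-(2 * lam)) • Matrix.vecMulVec (Pi.single i₀ 1) (Pi.single i₀ 1) := by
    rw [hX]
    ext i j
    simp only [Matrix.smul_apply, Matrix.add_apply, Matrix.vecMulVec_apply, smul_eq_mul]
    by_cases hij : i = j
    · subst hij
      rw [Matrix.diagonal_apply_eq, Matrix.one_apply_eq]
      by_cases hi : i = i₀
      · subst hi
        rw [hd0]
        simp
        ring
      · rw [hdne i hi, Pi.single_eq_of_ne hi]
        ring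
    · rw [Matrix.diagonal_apply_ne _ hij, Matrix.one_apply_ne hij]
      by_cases hi : i = i₀
      · have hj : j ≠ i₀ := fun h => hij (hi.trans h.symm)
        rw [Pi.single_eq_of_ne hj]
        ring
      · rw [Pi.single_eq_of_ne hi]
        ring
  let x : Matrix.SpecialLinearGroup (Fin n) F := ⟨X, hXdet⟩
  have hxX : (x : Matrix (Fin n) (Fin n) F) = X := rfl
  refine ⟨x, by rw [hxX]; exact hXX, ?_, ?_⟩
  · intro z hz
    rw [hxX, hX] at hz
    have e0 := congrFun (congrFun hz i₀) i₀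
    have e1 := congrFun (congrFun hz i₁) i₁
    simp only [Matrix.smul_apply, Matrix.diagonal_apply_eq, Matrix.one_apply_eq, smul_eq_mul,
      mul_one] at e0 e1
    rw [hd0] at e0
    rw [hdne i₁ h01.symm] at e1
    apply hlam0
    have : (2 : F) * lam = 0 := by linear_combination e1 - e0
    rcases mul_eq_zero.mp this with h | h
    · exact absurd h h2
    · exact h
  · intro P
    refine not_conj_rank_one K hK hn x (Pi.single i₀ 1) (Pi.single i₀ 1) ?_ ?_ lam (-(2 * lam)) hlam0
      (neg_ne_zero.mpr (mul_ne_zero h2 hlam0)) (by rw [hxX]; exact hXform) P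
    · intro h
      have := congrFun h i₀
      simp at this
    · intro h
      have := congrFun h i₀
      simp at this

end Cfsg.Agent.Lib.Helper9.ExtB
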