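import Mathlib
import Cfsg.Agent.Lib.Helper9.ExtA

set_option autoImplicit false
open scoped MatrixGroups

namespace Cfsg.Agent.Lib.Helper9.ExtC
open Matrix Cfsg.Agent.Lib.Helper9.ExtA

variable {F : Type*} [Field F] {n : ℕ} (K : Subalgebra F (Matrix (Fin n) (Fin n) F))

/-- transport to an arbitrary quadratic field subalgebra: `κ ∈ K` is conjugate to a model `κ₀`,
`M₀` normalizes the model, `x` is conjugate to a scalar multiple of `M₀`, and the centralizer of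
`M₀` has elements of every determinant. -/
theorem transport (hK : Cfsg.Geo.IsFieldSubalgebra 2 K) (κ : Matrix (Fin n) (Fin n) F)
    (hκ : κ ∈ K) (hns : ∀ c : F, κ ≠ c • 1)
    (κ₀ M₀ g₁ : Matrix (Fin n) (Fin n) F) (hg₁ : g₁.det ≠ 0) (hκg : κ * g₁ = g₁ * κ₀)
    (α β : F) (hβ : β ≠ 0) (hM : M₀ * κ₀ = (α • 1 + β • κ₀) * M₀)
    (hcent : ∀ δ : F, δ ≠ 0 → ∃ c₀ : Matrix (Fin n) (Fin n) F, c₀ * M₀ = M₀ * c₀ ∧ c₀.det = δ)
    (x : Matrix.SpecialLinearGroup (Fin n) F) (g₂ : Matrix (Fin n) (Fin n) F) (hg₂ : g₂.det ≠ 0)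
    (lam : F) (hlam : lam ≠ 0)
    (hx : (x : Matrix (Fin n) (Fin n) F) * g₂ = g₂ * (lam • M₀)) :
    ∃ P : Matrix.SpecialLinearGroup (Fin n) F, P⁻¹ * x * P ∈ HK K := by
  classical
  obtain ⟨gi, hgi⟩ : ∃ gi : Matrix (Fin n) (Fin n) F, gi = g₁⁻¹ := ⟨_, rfl⟩
  have hggi : g₁ * gi = 1 := by
    rw [hgi]; exact Matrix.mul_nonsing_inv g₁ (isUnit_iff_ne_zero.mpr hg₁)
  have hgig : gi * g₁ = 1 := by
    rw [hgi]; exact Matrix.nonsing_inv_mul g₁ (isUnit_iff_ne_zero.mpr hg₁)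
  have hgidet : g₁.det * gi.det = 1 := by
    rw [← Matrix.det_mul, hggi, Matrix.det_one]
  obtain ⟨c₀, hc₀M, hc₀det⟩ := hcent (g₁.det / g₂.det) (div_ne_zero hg₁ hg₂)
  obtain ⟨Pm, hPm⟩ : ∃ Pm : Matrix (Fin n) (Fin n) F, Pm = g₂ * c₀ * gi := ⟨_, rfl⟩
  have hPmdet : Pm.det = 1 := by
    rw [hPm, Matrix.det_mul, Matrix.det_mul, hc₀det, mul_div_cancel₀ _ hg₂, hgidet]
  obtain ⟨y, hy⟩ : ∃ y : Matrix (Fin n) (Fin n) F, y = g₁ * (lam • M₀) * gi := ⟨_, rfl⟩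
  have hxP : (x : Matrix (Fin n) (Fin n) F) * Pm = Pm * y := by
    have h1 : (lam • M₀) * c₀ = c₀ * (lam • M₀) := by
      rw [Matrix.smul_mul, Matrix.mul_smul, hc₀M]
    calc (x : Matrix (Fin n) (Fin n) F) * Pm
        = ((x : Matrix (Fin n) (Fin n) F) * g₂) * c₀ * gi := by rw [hPm]; simp only [Matrix.mul_assoc]
      _ = g₂ * ((lam • M₀) * c₀) * gi := by rw [hx]; simp only [Matrix.mul_assoc]
      _ = g₂ * c₀ * (gi * g₁) * (lam • M₀) * gi := by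
          rw [h1, hgig, Matrix.mul_one]; simp only [Matrix.mul_assoc]
      _ = Pm * y := by rw [hPm, hy]; simp only [Matrix.mul_assoc]
  let P : Matrix.SpecialLinearGroup (Fin n) F := ⟨Pm, hPmdet⟩
  have hPcoe : (P : Matrix (Fin n) (Fin n) F) = Pm := rfl
  have hconj : ((P⁻¹ * x * P : Matrix.SpecialLinearGroup (Fin n) F) : Matrix (Fin n) (Fin n) F) = y := by
    have hinv : ((P⁻¹ : Matrix.SpecialLinearGroup (Fin n) F) : Matrix (Fin n) (Fin n) F) * Pm = 1 := by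
      rw [← hPcoe, ← Matrix.SpecialLinearGroup.coe_mul, inv_mul_cancel, Matrix.SpecialLinearGroup.coe_one]
    rw [Matrix.SpecialLinearGroup.coe_mul, Matrix.SpecialLinearGroup.coe_mul, hPcoe, Matrix.mul_assoc,
      hxP, ← Matrix.mul_assoc, hinv, Matrix.one_mul]
  refine ⟨P, ?_⟩
  rw [Subgroup.mem_comap]
  refine mem_normalizer K hK κ hκ hns _ α β hβ ?_
  have : ((Matrix.SpecialLinearGroup.toGL (P⁻¹ * x * P) : GL (Fin n) F) : Matrix (Fin n) (Fin n) F) = y :=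
    hconj
  rw [this]
  -- y κ = (α + β κ) y
  have hgiκ : gi * κ = κ₀ * gi := by
    calc gi * κ = gi * κ * (g₁ * gi) := by rw [hggi, Matrix.mul_one]
      _ = gi * (κ * g₁) * gi := by simp only [Matrix.mul_assoc]
      _ = (gi * g₁) * κ₀ * gi := by rw [hκg]; simp only [Matrix.mul_assoc]
      _ = κ₀ * gi := by rw [hgig, Matrix.one_mul]
  calc y * κ = g₁ * (lam • M₀) * (gi * κ) := by rw [hy]; simp only [Matrix.mul_assoc]
    _ = lam • (g₁ * (M₀ * κ₀) * gi) := by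
        rw [hgiκ]
        simp only [Matrix.mul_assoc, Matrix.smul_mul, Matrix.mul_smul]
    _ = lam • (g₁ * ((α • 1 + β • κ₀) * M₀) * gi) := by rw [hM]
    _ = lam • ((α • g₁ + β • (g₁ * κ₀)) * M₀ * gi) := by
        congr 1
        simp only [Matrix.mul_add, Matrix.add_mul, Matrix.mul_assoc, Matrix.smul_mul, Matrix.mul_smul,
          Matrix.one_mul, Matrix.mul_one]
    _ = lam • ((α • g₁ + β • (κ * g₁)) * M₀ * gi) := by rw [hκg]
    _ = (α • 1 + β • κ) * y := by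
        rw [hy]
        simp only [Matrix.mul_add, Matrix.add_mul, Matrix.mul_assoc, Matrix.smul_mul, Matrix.mul_smul,
          Matrix.one_mul, Matrix.mul_one, smul_add, smul_smul, mul_comm]

end Cfsg.Agent.Lib.Helper9.ExtC
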