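import Mathlib
import Cfsg.Agent.Lib.Helper9.SympA

set_option autoImplicit false
set_option linter.unusedSectionVars false
open scoped MatrixGroups

namespace Cfsg.Agent.Lib.Helper9.SympB
open Matrix Cfsg.Agent.Lib.Helper9.SympA

variable {F : Type*} [Field F] {n : ℕ} {o : Type*} [Fintype o] [DecidableEq o]

/-- the standard 2 × 2 alternating matrix -/
def J2 (F : Type*) [Field F] : Matrix (Fin 2) (Fin 2) F := !![0, 1; -1, 0]

theorem J2_transpose : (J2 F)ᵀ = -J2 F := by
  unfold J2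
  ext i j
  fin_cases i <;> fin_cases j <;> simp

theorem J2_det : (J2 F).det = 1 := by
  unfold J2
  rw [Matrix.det_fin_two]
  simp

theorem J2_diag (k : Fin 2) : J2 F k k = 0 := by
  unfold J2
  fin_cases k <;> simp

theorem J2_sim (B : Matrix (Fin 2) (Fin 2) F) : Bᵀ * J2 F * B = B.det • J2 F := by
  unfold J2
  rw [Matrix.det_fin_two]
  ext i j
  fin_cases i <;> fin_cases j <;>
    simp [Matrix.mul_apply, Fin.sum_univ_two] <;> ring

/-- the model Gram matrix -/
def G0 (e : Fin 2 × o ≃ Fin n) : Matrix (Fin n) (Fin n) F :=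
  Matrix.reindex e e (Matrix.blockDiagonal (fun _ : o => J2 F))

/-- the block diagonal model matrix -/
def BD (e : Fin 2 × o ≃ Fin n) (B : o → Matrix (Fin 2) (Fin 2) F) :
    Matrix (Fin n) (Fin n) F :=
  Matrix.reindex e e (Matrix.blockDiagonal B)

theorem BD_mul (e : Fin 2 × o ≃ Fin n) (B B' : o → Matrix (Fin 2) (Fin 2) F) :
    BD e B * BD e B' = BD e (fun i => B i * B' i) := by
  unfold BD
  rw [Matrix.reindex_apply, Matrix.reindex_apply, Matrix.submatrix_mul_equiv,
    ← Matrix.blockDiagonal_mul]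
  rfl

theorem BD_transpose (e : Fin 2 × o ≃ Fin n) (B : o → Matrix (Fin 2) (Fin 2) F) :
    (BD e B)ᵀ = BD e (fun i => (B i)ᵀ) := by
  unfold BD
  rw [Matrix.reindex_apply, Matrix.reindex_apply, Matrix.transpose_submatrix,
    Matrix.blockDiagonal_transpose]

theorem BD_smul (e : Fin 2 × o ≃ Fin n) (B : o → Matrix (Fin 2) (Fin 2) F) (c : F) :
    c • BD e B = BD e (fun i => c • B i) := by
  unfold BD
  rw [Matrix.reindex_apply, Matrix.reindex_apply]
  have h1 : (Matrix.blockDiagonal fun i => c • B i) = c • Matrix.blockDiagonal B :=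
    Matrix.blockDiagonal_smul c B
  rw [h1]
  rfl

theorem BD_det (e : Fin 2 × o ≃ Fin n) (B : o → Matrix (Fin 2) (Fin 2) F) :
    (BD e B).det = ∏ i, (B i).det := by
  unfold BD
  rw [Matrix.det_reindex_self, Matrix.det_blockDiagonal]

theorem BD_one (e : Fin 2 × o ≃ Fin n) :
    BD e (fun _ => (1 : Matrix (Fin 2) (Fin 2) F)) = 1 := by
  unfold BD
  have : Matrix.blockDiagonal (fun _ : o => (1 : Matrix (Fin 2) (Fin 2) F)) = 1 :=
    Matrix.blockDiagonal_one
  rw [this]
  ext i j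
  simp [Matrix.one_apply]

theorem G0_eq (e : Fin 2 × o ≃ Fin n) : G0 (F := F) e = BD e (fun _ => J2 F) := rfl

theorem G0_transpose (e : Fin 2 × o ≃ Fin n) : (G0 (F := F) e)ᵀ = -G0 e := by
  rw [G0_eq, BD_transpose]
  have : (fun _ : o => (J2 F)ᵀ) = fun _ => (-1 : F) • J2 F := by
    funext i
    rw [J2_transpose, neg_one_smul]
  rw [this, ← BD_smul, neg_one_smul]

theorem G0_diag (e : Fin 2 × o ≃ Fin n) (i : Fin n) : G0 (F := F) e i i = 0 := by
  unfold G0
  rw [Matrix.reindex_apply, Matrix.submatrix_apply]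
  obtain ⟨k, j⟩ := e.symm i
  rw [Matrix.blockDiagonal_apply, if_pos rfl, J2_diag]

theorem G0_det (e : Fin 2 × o ≃ Fin n) : (G0 (F := F) e).det = 1 := by
  rw [G0_eq, BD_det]
  simp [J2_det]

theorem BD_sim (e : Fin 2 × o ≃ Fin n) (B : o → Matrix (Fin 2) (Fin 2) F) (c : F)
    (hB : ∀ i, (B i).det = c) : (BD e B)ᵀ * G0 e * BD e B = c • G0 e := by
  rw [G0_eq, BD_transpose, BD_mul, BD_mul, BD_smul]
  congr 1
  funext i
  rw [J2_sim, hB]

/-- block model lemma -/
theorem block_conj (f : (Fin n → F) → (Fin n → F) → F) (hf : Cfsg.Geo.IsSymplecticForm f)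
    (e : Fin 2 × o ≃ Fin n) (B : o → Matrix (Fin 2) (Fin 2) F) (c : F) (hc : c ≠ 0)
    (hB : ∀ i, (B i).det = c) (i₀ : o)
    (hcent : ∀ δ : F, δ ≠ 0 → ∃ c₂ : Matrix (Fin 2) (Fin 2) F,
      c₂ * B i₀ = B i₀ * c₂ ∧ c₂.det = δ)
    (x : Matrix.SpecialLinearGroup (Fin n) F) (g : Matrix (Fin n) (Fin n) F) (hg : g.det ≠ 0)
    (lam : F) (hlam : lam ≠ 0)
    (hx : (x : Matrix (Fin n) (Fin n) F) * g = g * (lam • BD e B)) :
    ∃ P : Matrix.SpecialLinearGroup (Fin n) F, P⁻¹ * x * P ∈ HS f := by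
  classical
  refine transport f hf (G0 e) (BD e B) (G0_transpose e) (G0_diag e)
    (by rw [G0_det]; exact one_ne_zero) c hc (BD_sim e B c hB) ?_ x g hg lam hlam hx
  intro δ hδ
  obtain ⟨c₂, hc₂, hc₂det⟩ := hcent δ hδ
  refine ⟨BD e (Function.update (fun _ => (1 : Matrix (Fin 2) (Fin 2) F)) i₀ c₂), ?_, ?_⟩
  · rw [BD_mul, BD_mul]
    congr 1
    funext i
    by_cases hi : i = i₀
    · subst hi
      simp only [Function.update_self]
      exact hc₂
    · simp only [Function.update_of_ne hi, Matrix.one_mul, Matrix.mul_one]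
  · rw [BD_det]
    have : ∀ i, (Function.update (fun _ => (1 : Matrix (Fin 2) (Fin 2) F)) i₀ c₂ i).det =
        Function.update (fun _ => (1 : F)) i₀ c₂.det i := by
      intro i
      by_cases hi : i = i₀
      · subst hi
        simp
      · simp [Function.update_of_ne hi]
    simp_rw [this]
    rw [Finset.prod_update_of_mem (Finset.mem_univ _)]
    simp [hc₂det]

end Cfsg.Agent.Lib.Helper9.SympB
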