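import Mathlib
import Cfsg.Agent.Lib.Helper9.ExtC
import Cfsg.Agent.Lib.Helper9.SympB

set_option autoImplicit false
set_option linter.unusedSectionVars false
open scoped MatrixGroups

namespace Cfsg.Agent.Lib.Helper9.ExtD
open Matrix Cfsg.Agent.Lib.Helper9.ExtA Cfsg.Agent.Lib.Helper9.SympB

variable {F : Type*} [Field F] {n : ℕ} {o : Type*} [Fintype o] [DecidableEq o]

theorem BD_add (e : Fin 2 × o ≃ Fin n) (B B' : o → Matrix (Fin 2) (Fin 2) F) :
    BD e B + BD e B' = BD e (fun i => B i + B' i) := by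
  unfold BD
  rw [Matrix.reindex_apply, Matrix.reindex_apply, Matrix.reindex_apply]
  have : (Matrix.blockDiagonal fun i => B i + B' i) =
      Matrix.blockDiagonal B + Matrix.blockDiagonal B' := Matrix.blockDiagonal_add B B'
  rw [this]
  rfl

/-- block model lemma for quadratic field subalgebras -/
theorem block_conj (K : Subalgebra F (Matrix (Fin n) (Fin n) F))
    (hK : Cfsg.Geo.IsFieldSubalgebra 2 K) (κ : Matrix (Fin n) (Fin n) F)
    (hκ : κ ∈ K) (hns : ∀ c : F, κ ≠ c • 1)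
    (e : Fin 2 × o ≃ Fin n) (X : Matrix (Fin 2) (Fin 2) F)
    (g₁ : Matrix (Fin n) (Fin n) F) (hg₁ : g₁.det ≠ 0) (hκg : κ * g₁ = g₁ * BD e (fun _ => X))
    (B : o → Matrix (Fin 2) (Fin 2) F) (α β : F) (hβ : β ≠ 0)
    (hB : ∀ i, B i * X = (α • 1 + β • X) * B i) (i₀ : o)
    (hcent : ∀ δ : F, δ ≠ 0 → ∃ c₂ : Matrix (Fin 2) (Fin 2) F,
      c₂ * B i₀ = B i₀ * c₂ ∧ c₂.det = δ)
    (x : Matrix.SpecialLinearGroup (Fin n) F) (g₂ : Matrix (Fin n) (Fin n) F) (hg₂ : g₂.det ≠ 0)
    (lam : F) (hlam : lam ≠ 0)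
    (hx : (x : Matrix (Fin n) (Fin n) F) * g₂ = g₂ * (lam • BD e B)) :
    ∃ P : Matrix.SpecialLinearGroup (Fin n) F, P⁻¹ * x * P ∈ HK K := by
  classical
  refine Cfsg.Agent.Lib.Helper9.ExtC.transport K hK κ hκ hns (BD e (fun _ => X)) (BD e B) g₁ hg₁ hκg
    α β hβ ?_ ?_ x g₂ hg₂ lam hlam hx
  · rw [BD_mul, ← BD_one e, BD_smul, BD_smul, BD_add, BD_mul]
    congr 1
    funext i
    exact hB i
  · intro δ hδ
    obtain ⟨c₂, hc₂, hc₂det⟩ := hcent δ hδ
    refine ⟨BD e (Function.update (fun _ => (1 : Matrix (Fin 2) (Fin 2) F)) i₀ c₂), ?_, ?_⟩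
    · rw [BD_mul, BD_mul]
      congr 1
      funext i
      by_cases hi : i = i₀
      · subst hi
        simp only [Function.update_self]
        exact hc₂
      · simp only [Function.update_of_ne hi, Matrix.one_mul, Matrix.mul_one]
    · rw [BD_det]
      have : ∀ i, (Function.update (fun _ => (1 : Matrix (Fin 2) (Fin 2) F)) i₀ c₂ i).det =
          Function.update (fun _ => (1 : F)) i₀ c₂.det i := by
        intro i
        by_cases hi : i = i₀
        · subst hi
          simp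
        · simp [Function.update_of_ne hi]
      simp_rw [this]
      rw [Finset.prod_update_of_mem (Finset.mem_univ _)]
      simp [hc₂det]

end Cfsg.Agent.Lib.Helper9.ExtD
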