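import Mathlib
import Cfsg.Agent.Lib.Helper9.SympB
import Cfsg.Agent.Lib.Helper9.SubfieldF

set_option autoImplicit false
set_option linter.unusedSectionVars false
open scoped MatrixGroups

namespace Cfsg.Agent.Lib.Helper9.SympC
open Matrix Cfsg.Agent.Lib.Helper9.SympA Cfsg.Agent.Lib.Helper9.SympB

universe u
variable {F : Type u} [Field F] [Fintype F] {n : ℕ}

/-- from conjugacy of endomorphisms to matrices -/
theorem matrix_of_conj (A B : Matrix (Fin n) (Fin n) F)
    (h : Cfsg.Agent.Lib.Helper15.SemisimpleConj.Conj (Matrix.toLin' A) (Matrix.toLin' B)) :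
    ∃ g : Matrix (Fin n) (Fin n) F, g.det ≠ 0 ∧ A * g = g * B := by
  obtain ⟨E, hE⟩ := h
  refine ⟨LinearMap.toMatrix' (E.symm : (Fin n → F) →ₗ[F] (Fin n → F)), ?_, ?_⟩
  · intro hdet
    have h1 : LinearMap.toMatrix' (E.symm : (Fin n → F) →ₗ[F] (Fin n → F)) *
        LinearMap.toMatrix' (E : (Fin n → F) →ₗ[F] (Fin n → F)) = 1 := by
      rw [← LinearMap.toMatrix'_comp]
      simp
    have := congrArg Matrix.det h1
    rw [Matrix.det_mul, hdet, zero_mul, Matrix.det_one] at this
    exact zero_ne_one this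
  · apply Matrix.toLin'.injective
    rw [Matrix.toLin'_mul, Matrix.toLin'_mul, Matrix.toLin'_toMatrix']
    apply LinearMap.ext
    intro v
    simp only [LinearMap.comp_apply, LinearEquiv.coe_coe]
    apply E.injective
    rw [hE, E.apply_symm_apply, E.apply_symm_apply]

/-- case of a nonsquare scalar -/
theorem nonsquare_conj (hodd : Odd (Fintype.card F)) (f : (Fin n → F) → (Fin n → F) → F)
    (hf : Cfsg.Geo.IsSymplecticForm f) (hn : 1 ≤ n)
    (x : Matrix.SpecialLinearGroup (Fin n) F) (z : F) (hz : ¬ IsSquare z)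
    (hx : (x : Matrix (Fin n) (Fin n) F) * (x : Matrix (Fin n) (Fin n) F) = z • 1) :
    ∃ P : Matrix.SpecialLinearGroup (Fin n) F, P⁻¹ * x * P ∈ HS f := by
  classical
  obtain ⟨m, hm, -⟩ := Cfsg.Agent.Lib.Helper9.SubfieldF.det_of_sq_nonsquare _ z hz hx
  have hz0 : z ≠ 0 := by
    rintro rfl
    exact hz ⟨0, by simp⟩
  have hcard : Fintype.card (Fin 2 × Fin m) = Fintype.card (Fin n) := by
    simp [hm]
  let e : Fin 2 × Fin m ≃ Fin n := Fintype.equivOfCardEq hcard
  let X2 : Matrix (Fin 2) (Fin 2) F := !![0, z; 1, 0]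
  have hX2 : X2 * X2 = z • 1 := by
    ext i j
    fin_cases i <;> fin_cases j <;> simp [X2, Matrix.mul_apply, Fin.sum_univ_two]
  have hMM : BD e (fun _ : Fin m => X2) * BD e (fun _ : Fin m => X2) = z • 1 := by
    rw [BD_mul]
    have : (fun _ : Fin m => X2 * X2) = fun _ => z • (1 : Matrix (Fin 2) (Fin 2) F) := by
      funext i
      exact hX2
    rw [this, ← BD_smul, BD_one]
  have hconj := Cfsg.Agent.Lib.Helper15.PGLInvol.conj_of_nonsq
    (Matrix.toLin' (x : Matrix (Fin n) (Fin n) F)) (Matrix.toLin' (BD e (fun _ : Fin m => X2))) z hz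
    (by rw [Module.End.mul_eq_comp, ← Matrix.toLin'_mul, hx, map_smul, Matrix.toLin'_one]; rfl)
    (by rw [Module.End.mul_eq_comp, ← Matrix.toLin'_mul, hMM, map_smul, Matrix.toLin'_one]; rfl)
  obtain ⟨g, hg, hxg⟩ := matrix_of_conj _ _ hconj
  have hm0 : 0 < m := by omega
  refine block_conj f hf e (fun _ : Fin m => X2) (-z) (neg_ne_zero.mpr hz0) ?_ ⟨0, hm0⟩ ?_ x g hg 1
    one_ne_zero (by rw [one_smul]; exact hxg)
  · intro i
    simp [X2, Matrix.det_fin_two]
  · intro δ hδ
    -- a² - z b² = δ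
    have hsolve : ∃ a b : F, a * a - z * (b * b) = δ := by
      have hcard : Fintype.card F % 2 = 1 := Nat.odd_iff.mp hodd
      have hf2 : (Polynomial.X ^ 2 - Polynomial.C δ : Polynomial F).degree = 2 :=
        Polynomial.degree_X_pow_sub_C (by norm_num) δ
      have hg2 : (Polynomial.C (-z) * Polynomial.X ^ 2 : Polynomial F).degree = 2 := by
        rw [Polynomial.degree_C_mul_X_pow 2 (neg_ne_zero.mpr hz0)]
        rfl
      obtain ⟨a, b, hab⟩ := FiniteField.exists_root_sum_quadratic hf2 hg2 hcard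
      refine ⟨a, b, ?_⟩
      simp only [Polynomial.eval_sub, Polynomial.eval_pow, Polynomial.eval_X, Polynomial.eval_C,
        Polynomial.eval_mul] at hab
      linear_combination hab
    obtain ⟨a, b, hab⟩ := hsolve
    refine ⟨a • 1 + b • X2, ?_, ?_⟩
    · rw [Matrix.add_mul, Matrix.mul_add, Matrix.smul_mul, Matrix.mul_smul, Matrix.one_mul,
        Matrix.mul_one, Matrix.smul_mul, Matrix.mul_smul]
    · rw [← hab]
      simp [X2, Matrix.det_fin_two]
      ring

end Cfsg.Agent.Lib.Helper9.SympC
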