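import Mathlib
import Cfsg.Agent.Lib.Helper9.ExtD
import Cfsg.Agent.Lib.Helper9.SympC
import Cfsg.Agent.Lib.Helper9.Ext27A
import Cfsg.Agent.Lib.Helper15.FiniteFieldPow

set_option autoImplicit false
set_option linter.unusedSectionVars false
open scoped MatrixGroups

namespace Cfsg.Agent.Lib.Helper9.ExtE
open Matrix Cfsg.Agent.Lib.Helper9.ExtA Cfsg.Agent.Lib.Helper9.SympB

universe u
variable {F : Type u} [Field F] {n : ℕ}

/-- a generator of `K` whose square is a nonsquare scalar (odd characteristic) -/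
theorem exists_sqrt_gen (h2 : (2 : F) ≠ 0) (K : Subalgebra F (Matrix (Fin n) (Fin n) F))
    (hK : Cfsg.Geo.IsFieldSubalgebra 2 K) :
    ∃ κ ∈ K, ∃ z₂ : F, κ * κ = z₂ • 1 ∧ ¬ IsSquare z₂ ∧ ∀ c : F, κ ≠ c • (1 : Matrix (Fin n) (Fin n) F) := by
  obtain ⟨κ₁, hκ₁, hns₁⟩ := exists_nonscalar K hK
  obtain ⟨a, b, hab⟩ := exists_repr K hK κ₁ hκ₁ hns₁ (κ₁ * κ₁) (K.mul_mem hκ₁ hκ₁)
  obtain ⟨κ, hκdef⟩ : ∃ κ : Matrix (Fin n) (Fin n) F, κ = κ₁ - (b / 2) • 1 := ⟨_, rfl⟩
  have hκK : κ ∈ K := by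
    rw [hκdef]
    exact K.sub_mem hκ₁ (K.smul_mem K.one_mem _)
  have hns : ∀ c : F, κ ≠ c • (1 : Matrix (Fin n) (Fin n) F) := by
    intro c hc
    apply hns₁ (c + b / 2)
    rw [add_smul, ← hc, hκdef, sub_add_cancel]
  have hκκ : κ * κ = (a + b * b / 4) • 1 := by
    rw [hκdef]
    simp only [Matrix.sub_mul, Matrix.mul_sub, Matrix.smul_mul, Matrix.mul_smul, Matrix.one_mul,
      Matrix.mul_one, hab, add_smul, smul_sub, smul_smul]
    have h4 : (4 : F) ≠ 0 := by
      have : (4 : F) = 2 * 2 := by norm_num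
      rw [this]
      exact mul_ne_zero h2 h2
    have e1 : b • κ₁ = (b / 2) • κ₁ + (b / 2) • κ₁ := by
      rw [← add_smul]
      congr 1
      field_simp
      ring
    have e2 : (b * b / 4) • (1 : Matrix (Fin n) (Fin n) F) = (b / 2 * (b / 2)) • 1 := by
      congr 1
      field_simp
      ring
    rw [e1, e2]
    abel
  refine ⟨κ, hκK, a + b * b / 4, hκκ, ?_, hns⟩
  rintro ⟨s, hs⟩
  -- (κ - s)(κ + s) = 0
  have hprod : (κ - s • 1) * (κ + s • 1) = 0 := by
    simp only [Matrix.sub_mul, Matrix.mul_add, Matrix.smul_mul, Matrix.mul_smul, Matrix.one_mul,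
      Matrix.mul_one, hκκ, hs, smul_sub, smul_smul]
    abel
  have hm : κ - s • 1 ∈ K := K.sub_mem hκK (K.smul_mem K.one_mem _)
  have hm0 : κ - s • 1 ≠ 0 := fun h => hns s (sub_eq_zero.mp h)
  obtain ⟨w, hw, hmw⟩ := hK.inv _ hm hm0
  have hwm : w * (κ - s • 1) = 1 := by
    rw [hK.comm w hw _ hm]
    exact hmw
  apply hns (-s)
  have : κ + s • 1 = 0 := by
    calc κ + s • 1 = (w * (κ - s • 1)) * (κ + s • 1) := by rw [hwm, Matrix.one_mul]
      _ = 0 := by rw [Matrix.mul_assoc, hprod, Matrix.mul_zero]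
  rw [neg_smul, eq_neg_iff_add_eq_zero]
  exact this

variable {o : Type*} [Fintype o] [DecidableEq o]

/-- the model block -/
def X2 (z : F) : Matrix (Fin 2) (Fin 2) F := !![0, z; 1, 0]

theorem X2_mul (z : F) : X2 z * X2 z = z • 1 := by
  ext i j
  fin_cases i <;> fin_cases j <;> simp [X2, Matrix.mul_apply, Fin.sum_univ_two]

theorem BD_X2_mul (z : F) (e : Fin 2 × o ≃ Fin n) :
    BD e (fun _ : o => X2 z) * BD e (fun _ : o => X2 z) = z • 1 := by
  rw [BD_mul]
  have : (fun _ : o => X2 z * X2 z) = fun _ => z • (1 : Matrix (Fin 2) (Fin 2) F) := by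
    funext i
    exact X2_mul z
  rw [this, ← BD_smul, BD_one]

/-- any square root of a nonsquare scalar is conjugate to the block model -/
theorem gen_conj [Fintype F] (A : Matrix (Fin n) (Fin n) F) (z : F) (hz : ¬ IsSquare z)
    (hA : A * A = z • 1) (e : Fin 2 × o ≃ Fin n) :
    ∃ g : Matrix (Fin n) (Fin n) F, g.det ≠ 0 ∧ A * g = g * BD e (fun _ : o => X2 z) := by
  classical
  have hconj := Cfsg.Agent.Lib.Helper15.PGLInvol.conj_of_nonsq
    (Matrix.toLin' A) (Matrix.toLin' (BD e (fun _ : o => X2 z))) z hz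
    (by rw [Module.End.mul_eq_comp, ← Matrix.toLin'_mul, hA, map_smul, Matrix.toLin'_one]; rfl)
    (by rw [Module.End.mul_eq_comp, ← Matrix.toLin'_mul, BD_X2_mul, map_smul, Matrix.toLin'_one]; rfl)
  exact Cfsg.Agent.Lib.Helper9.SympC.matrix_of_conj _ _ hconj


/-- two nonsquares differ by a square -/
theorem exists_sq_ratio [Fintype F] (hodd : Odd (Fintype.card F)) (a b : F) (ha : ¬ IsSquare a)
    (hb : ¬ IsSquare b) : ∃ c : F, c ≠ 0 ∧ a = b * (c * c) := by
  have hchar : ringChar F ≠ 2 := by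
    intro h
    rw [FiniteField.even_card_iff_char_two] at h
    rw [Nat.odd_iff] at hodd
    omega
  have ha0 : a ≠ 0 := by
    rintro rfl
    exact ha ⟨0, by simp⟩
  have hb0 : b ≠ 0 := by
    rintro rfl
    exact hb ⟨0, by simp⟩
  have h1 : a ^ (Fintype.card F / 2) = -1 := by
    rcases FiniteField.pow_dichotomy hchar ha0 with h | h
    · exact absurd ((FiniteField.isSquare_iff hchar ha0).mpr h) ha
    · exact h
  have h2 : b ^ (Fintype.card F / 2) = -1 := by
    rcases FiniteField.pow_dichotomy hchar hb0 with h | h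
    · exact absurd ((FiniteField.isSquare_iff hchar hb0).mpr h) hb
    · exact h
  have hab0 : a / b ≠ 0 := div_ne_zero ha0 hb0
  have h3 : IsSquare (a / b) := by
    rw [FiniteField.isSquare_iff hchar hab0, div_pow, h1, h2]
    simp
  obtain ⟨c, hc⟩ := h3
  refine ⟨c, ?_, ?_⟩
  · rintro rfl
    rw [mul_zero] at hc
    exact hab0 hc
  · rw [← hc]
    field_simp

/-- norm equation -/
theorem exists_norm_eq [Fintype F] (hodd : Odd (Fintype.card F)) (z δ : F) (hz0 : z ≠ 0) :
    ∃ a b : F, a * a - z * (b * b) = δ := by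
  have hcard : Fintype.card F % 2 = 1 := Nat.odd_iff.mp hodd
  have hf2 : (Polynomial.X ^ 2 - Polynomial.C δ : Polynomial F).degree = 2 :=
    Polynomial.degree_X_pow_sub_C (by norm_num) δ
  have hg2 : (Polynomial.C (-z) * Polynomial.X ^ 2 : Polynomial F).degree = 2 := by
    rw [Polynomial.degree_C_mul_X_pow 2 (neg_ne_zero.mpr hz0)]
    rfl
  obtain ⟨a, b, hab⟩ := FiniteField.exists_root_sum_quadratic hf2 hg2 hcard
  refine ⟨a, b, ?_⟩
  simp only [Polynomial.eval_sub, Polynomial.eval_pow, Polynomial.eval_X, Polynomial.eval_C,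
    Polynomial.eval_mul] at hab
  linear_combination hab

/-- case of a nonsquare scalar -/
theorem nonsquare_conj [Fintype F] (hodd : Odd (Fintype.card F))
    (K : Subalgebra F (Matrix (Fin n) (Fin n) F)) (hK : Cfsg.Geo.IsFieldSubalgebra 2 K) (hn : 1 ≤ n)
    (x : Matrix.SpecialLinearGroup (Fin n) F) (z : F) (hz : ¬ IsSquare z)
    (hx : (x : Matrix (Fin n) (Fin n) F) * (x : Matrix (Fin n) (Fin n) F) = z • 1) :
    ∃ P : Matrix.SpecialLinearGroup (Fin n) F, P⁻¹ * x * P ∈ HK K := by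
  classical
  have h2 : (2 : F) ≠ 0 := Cfsg.Agent.Lib.Helper15.two_ne_zero_of_odd_card hodd
  obtain ⟨κ, hκ, z₂, hκκ, hz₂, hns⟩ := exists_sqrt_gen h2 K hK
  obtain ⟨m, hm, -⟩ := Cfsg.Agent.Lib.Helper9.SubfieldF.det_of_sq_nonsquare κ z₂ hz₂ hκκ
  have hz₂0 : z₂ ≠ 0 := by
    rintro rfl
    exact hz₂ ⟨0, by simp⟩
  have hcard : Fintype.card (Fin 2 × Fin m) = Fintype.card (Fin n) := by
    simp [hm]
  let e : Fin 2 × Fin m ≃ Fin n := Fintype.equivOfCardEq hcard
  obtain ⟨c, hc0, hc⟩ := exists_sq_ratio hodd z z₂ hz hz₂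
  obtain ⟨g₁, hg₁, hκg₁⟩ := gen_conj κ z₂ hz₂ hκκ e
  obtain ⟨x', hx'⟩ : ∃ x' : Matrix (Fin n) (Fin n) F, x' = c⁻¹ • (x : Matrix (Fin n) (Fin n) F) := ⟨_, rfl⟩
  have hx'x' : x' * x' = z₂ • 1 := by
    rw [hx', Matrix.smul_mul, Matrix.mul_smul, hx, smul_smul, smul_smul, hc]
    congr 1
    field_simp
  obtain ⟨g₂, hg₂, hxg₂⟩ := gen_conj x' z₂ hz₂ hx'x' e
  have hxx' : (x : Matrix (Fin n) (Fin n) F) = c • x' := by
    rw [hx', smul_smul, mul_inv_cancel₀ hc0, one_smul]
  have hm0 : 0 < m := by omega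
  refine Cfsg.Agent.Lib.Helper9.ExtD.block_conj K hK κ hκ hns e (X2 z₂) g₁ hg₁ hκg₁
    (fun _ : Fin m => X2 z₂) 0 1 one_ne_zero ?_ ⟨0, hm0⟩ ?_ x g₂ hg₂ c hc0 ?_
  · intro i
    rw [zero_smul, zero_add, one_smul]
  · intro δ _
    obtain ⟨a, b, hab⟩ := exists_norm_eq hodd z₂ δ hz₂0
    refine ⟨a • 1 + b • X2 z₂, ?_, ?_⟩
    · rw [Matrix.add_mul, Matrix.mul_add, Matrix.smul_mul, Matrix.mul_smul, Matrix.one_mul,
        Matrix.mul_one, Matrix.smul_mul, Matrix.mul_smul]
    · rw [← hab]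
      simp [X2, Matrix.det_fin_two]
      ring
  · rw [hxx', Matrix.smul_mul, hxg₂, Matrix.mul_smul]


/-- square scalar, both eigenspaces of even dimension -/
theorem square_conj [Fintype F] (hodd : Odd (Fintype.card F))
    (K : Subalgebra F (Matrix (Fin n) (Fin n) F)) (hK : Cfsg.Geo.IsFieldSubalgebra 2 K) (hn : 1 ≤ n)
    (hne : Even n)
    (x : Matrix.SpecialLinearGroup (Fin n) F) (lam : F) (hlam : lam ≠ 0)
    (hx : (x : Matrix (Fin n) (Fin n) F) * (x : Matrix (Fin n) (Fin n) F) = (lam * lam) • 1)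
    (hpow : lam ^ n ≠ -1) :
    ∃ P : Matrix.SpecialLinearGroup (Fin n) F, P⁻¹ * x * P ∈ HK K := by
  have h2 : (2 : F) ≠ 0 := Cfsg.Agent.Lib.Helper15.two_ne_zero_of_odd_card hodd
  classical
  have hne1 : (-1 : F) ≠ 1 := by
    intro h
    apply h2
    have : (1 : F) + 1 = 0 := by
      nth_rewrite 1 [← h]
      ring
    rw [← this]; norm_num
  obtain ⟨t, ht⟩ : ∃ t : Matrix (Fin n) (Fin n) F, t = lam⁻¹ • (x : Matrix (Fin n) (Fin n) F) := ⟨_, rfl⟩
  have ht2 : t ^ 2 = 1 := by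
    rw [pow_two, ht, Matrix.smul_mul, Matrix.mul_smul, hx, smul_smul, smul_smul]
    have : lam⁻¹ * lam⁻¹ * (lam * lam) = 1 := by field_simp
    rw [this, one_smul]
  obtain ⟨h, d, hdet, hth, hd⟩ := Cfsg.Agent.Lib.Helper9.Ext27A.exists_diag_sq h2 t ht2
  have hd' : ∀ i, d i = 1 ∨ d i = -1 := by
    intro i
    have h1 : (d i - 1) * (d i + 1) = 0 := by
      have := hd i
      linear_combination this
    rcases mul_eq_zero.mp h1 with h | h
    · left; linear_combination h
    · right; linear_combination h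
  have hxt : (x : Matrix (Fin n) (Fin n) F) = lam • t := by
    rw [ht, smul_smul, mul_inv_cancel₀ hlam, one_smul]
  -- determinant of t
  have htdet : t.det = ∏ i, d i := by
    have := congrArg Matrix.det hth
    rw [Matrix.det_mul, Matrix.det_mul, Matrix.det_diagonal, mul_comm] at this
    exact mul_left_cancel₀ hdet this
  have hprod : ∏ i, d i = (-1) ^ Fintype.card {i // ¬ d i = 1} := by
    have h1 : ∀ i, d i = if d i = 1 then 1 else -1 := by
      intro i
      rcases hd' i with h | h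
      · rw [if_pos h, h]
      · rw [if_neg (by rw [h]; exact hne1), h]
    rw [Finset.prod_congr rfl (fun i _ => h1 i), Finset.prod_ite, Finset.prod_const_one, one_mul,
      Finset.prod_const, Fintype.card_subtype]
  have hdetx : lam ^ n * (-1) ^ Fintype.card {i // ¬ d i = 1} = 1 := by
    have := x.2
    rw [hxt, Matrix.det_smul, Fintype.card_fin, htdet, hprod] at this
    exact this
  have hbeven : Even (Fintype.card {i // ¬ d i = 1}) := by
    by_contra hodd
    rw [Nat.not_even_iff_odd] at hodd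
    rw [hodd.neg_one_pow] at hdetx
    apply hpow
    linear_combination -hdetx
  have hsum : Fintype.card {i // d i = 1} + Fintype.card {i // ¬ d i = 1} = n := by
    rw [Fintype.card_subtype_compl, Fintype.card_fin]
    have := Fintype.card_subtype_le (fun i : Fin n => d i = 1)
    rw [Fintype.card_fin] at this
    omega
  have haeven : Even (Fintype.card {i // d i = 1}) := by
    have : Even (Fintype.card {i // d i = 1} + Fintype.card {i // ¬ d i = 1}) := by rw [hsum]; exact hne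
    exact (Nat.even_add.mp this).mpr hbeven
  obtain ⟨a', ha'⟩ := haeven
  obtain ⟨b', hb'⟩ := hbeven
  have hc1 : Fintype.card {i // d i = 1} = Fintype.card (Fin 2 × Fin a') := by
    rw [ha']; simp; ring
  have hc2 : Fintype.card {i // ¬ d i = 1} = Fintype.card (Fin 2 × Fin b') := by
    rw [hb']; simp; ring
  let ep : {i // d i = 1} ≃ Fin 2 × Fin a' := Fintype.equivOfCardEq hc1
  let em : {i // ¬ d i = 1} ≃ Fin 2 × Fin b' := Fintype.equivOfCardEq hc2
  let e : Fin 2 × (Fin a' ⊕ Fin b') ≃ Fin n :=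
    (Equiv.prodSumDistrib (Fin 2) (Fin a') (Fin b')).trans
      ((ep.symm.sumCongr em.symm).trans (Equiv.sumCompl (fun i => d i = 1)))
  let s : Fin a' ⊕ Fin b' → F := fun o => Sum.elim (fun _ => 1) (fun _ => -1) o
  have hde : ∀ p : Fin 2 × (Fin a' ⊕ Fin b'), d (e p) = s p.2 := by
    rintro ⟨k, i | j⟩
    · have : e (k, Sum.inl i) = ((ep.symm (k, i) : {i // d i = 1}) : Fin n) := rfl
      rw [this]
      exact (ep.symm (k, i)).2
    · have : e (k, Sum.inr j) = ((em.symm (k, j) : {i // ¬ d i = 1}) : Fin n) := rfl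
      rw [this]
      rcases hd' (em.symm (k, j) : {i // ¬ d i = 1}) with h | h
      · exact absurd h (em.symm (k, j)).2
      · exact h
  let B : Fin a' ⊕ Fin b' → Matrix (Fin 2) (Fin 2) F := fun o => Matrix.diagonal (fun _ => s o)
  have hBD : BD e B = Matrix.diagonal d := by
    unfold BD
    rw [Matrix.blockDiagonal_diagonal]
    ext i j
    rw [Matrix.reindex_apply, Matrix.submatrix_apply]
    by_cases hij : i = j
    · subst hij
      rw [Matrix.diagonal_apply_eq, Matrix.diagonal_apply_eq]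
      have := hde (e.symm i)
      rw [Equiv.apply_symm_apply] at this
      exact this.symm
    · rw [Matrix.diagonal_apply_ne _ hij, Matrix.diagonal_apply_ne]
      intro h
      exact hij (e.symm.injective h)
  have hxh : (x : Matrix (Fin n) (Fin n) F) * h = h * (lam • BD e B) := by
    rw [hBD, hxt, Matrix.smul_mul, hth, Matrix.mul_smul]
  let i₀ : Fin a' ⊕ Fin b' := (e.symm ⟨0, hn⟩).2
  obtain ⟨κ, hκ, z₂, hκκ, hz₂, hns⟩ := exists_sqrt_gen h2 K hK
  obtain ⟨g₁, hg₁, hκg₁⟩ := gen_conj κ z₂ hz₂ hκκ e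
  refine Cfsg.Agent.Lib.Helper9.ExtD.block_conj K hK κ hκ hns e (X2 z₂) g₁ hg₁ hκg₁
    B 0 1 one_ne_zero ?_ i₀ ?_ x h hdet lam hlam hxh
  · intro o
    rw [zero_smul, zero_add, one_smul]
    simp only [B]
    have : Matrix.diagonal (fun _ : Fin 2 => s o) = s o • (1 : Matrix (Fin 2) (Fin 2) F) := by
      ext i j
      by_cases hij : i = j
      · subst hij; simp
      · simp [hij]
    rw [this, Matrix.smul_mul, Matrix.mul_smul, Matrix.one_mul, Matrix.mul_one]
  · intro δ _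
    refine ⟨Matrix.diagonal ![δ, 1], ?_, ?_⟩
    · simp only [B]
      rw [Matrix.diagonal_mul_diagonal, Matrix.diagonal_mul_diagonal]
      congr 1
      funext k
      ring
    · rw [Matrix.det_diagonal, Fin.prod_univ_two]
      simp

end Cfsg.Agent.Lib.Helper9.ExtE
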