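import Mathlib
import Cfsg.Agent.Lib.Helper9.ExtE

set_option autoImplicit false
set_option linter.unusedSectionVars false
open scoped MatrixGroups

namespace Cfsg.Agent.Lib.Helper9.ExtF
open Matrix Polynomial Cfsg.Agent.Lib.Helper9.ExtA Cfsg.Agent.Lib.Helper9.ExtE
  Cfsg.Agent.Lib.Helper15.SemisimpleConj Cfsg.Agent.Lib.Helper15.PGLInvol

universe u
variable {F : Type u} [Field F]

/-- endomorphisms with the same irreducible quadratic relation are conjugate -/
theorem conj_of_quadratic {V : Type u} [AddCommGroup V] [Module F V] [FiniteDimensional F V]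
    (T T' : Module.End F V) (a b : F) (hirr : ∀ r : F, r * r ≠ a + b * r)
    (hT : T * T = a • (1 : Module.End F V) + b • T)
    (hT' : T' * T' = a • (1 : Module.End F V) + b • T') : Conj T T' := by
  set P : F[X] := X ^ 2 - (C b * X + C a) with hP
  have hdeg : (C b * X + C a : F[X]).degree < ((2 : ℕ) : WithBot ℕ) := by
    refine lt_of_le_of_lt (Polynomial.degree_linear_le) ?_
    norm_num
  have hPm : P.Monic := by
    rw [hP]
    exact Polynomial.monic_X_pow_sub hdeg
  have hPd : P.natDegree = 2 := by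
    rw [hP, Polynomial.natDegree_sub_eq_left_of_natDegree_lt, natDegree_X_pow]
    rw [natDegree_X_pow]
    have := Polynomial.natDegree_linear_le (a := b) (b := a)
    omega
  have hPi : Irreducible P := by
    apply Polynomial.irreducible_of_degree_le_three_of_not_isRoot
    · rw [hPd]; simp
    · intro x hx
      apply hirr x
      rw [IsRoot.def, hP, eval_sub, eval_pow, eval_X, eval_add, eval_mul, eval_C, eval_C, eval_X,
        sub_eq_zero] at hx
      rw [← sq, hx]; ring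
  have haev : ∀ S : Module.End F V, S * S = a • (1 : Module.End F V) + b • S → aeval S P = 0 := by
    intro S hS
    rw [hP, map_sub, map_pow, aeval_X, map_add, map_mul, aeval_C, aeval_C, aeval_X, sq, hS,
      Algebra.algebraMap_eq_smul_one, Algebra.algebraMap_eq_smul_one, smul_mul_assoc, one_mul]
    abel
  have h1 := charpoly_isotypic P hPm hPi (Module.finrank F V) V T rfl (haev T hT)
  have h3 := charpoly_isotypic P hPm hPi (Module.finrank F V) V T' rfl (haev T' hT')
  exact conj_of_charpoly_eq P hPi.squarefree (Module.finrank F V) V V T T' rfl (haev T hT)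
    (haev T' hT') (by rw [h1, h3])


/-- matrix version -/
theorem matrix_conj_of_quadratic [Fintype F] {n : ℕ} (A B : Matrix (Fin n) (Fin n) F) (a b : F)
    (hirr : ∀ r : F, r * r ≠ a + b * r) (hA : A * A = a • 1 + b • A) (hB : B * B = a • 1 + b • B) :
    ∃ g : Matrix (Fin n) (Fin n) F, g.det ≠ 0 ∧ A * g = g * B := by
  classical
  have hconj := conj_of_quadratic (Matrix.toLin' A) (Matrix.toLin' B) a b hirr
    (by rw [Module.End.mul_eq_comp, ← Matrix.toLin'_mul, hA, map_add, map_smul, map_smul,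
          Matrix.toLin'_one]; rfl)
    (by rw [Module.End.mul_eq_comp, ← Matrix.toLin'_mul, hB, map_add, map_smul, map_smul,
          Matrix.toLin'_one]; rfl)
  exact Cfsg.Agent.Lib.Helper9.SympC.matrix_of_conj _ _ hconj

/-- the quadratic relation of a generator has no root in `F` -/
theorem no_root {n : ℕ} (K : Subalgebra F (Matrix (Fin n) (Fin n) F))
    (hK : Cfsg.Geo.IsFieldSubalgebra 2 K) (κ : Matrix (Fin n) (Fin n) F) (hκ : κ ∈ K)
    (hns : ∀ c : F, κ ≠ c • 1) (a b : F) (hab : κ * κ = a • 1 + b • κ) (r : F) :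
    r * r ≠ a + b * r := by
  intro hr
  have hprod : (κ - r • 1) * (κ - (b - r) • 1) = 0 := by
    simp only [Matrix.sub_mul, Matrix.mul_sub, Matrix.smul_mul, Matrix.mul_smul, Matrix.one_mul,
      Matrix.mul_one, hab, sub_smul, smul_sub, smul_smul]
    have : (b * r) • (1 : Matrix (Fin n) (Fin n) F) = (r * r) • 1 - a • 1 := by
      rw [hr, add_smul]
      abel
    rw [this]
    abel
  have hm : κ - r • 1 ∈ K := K.sub_mem hκ (K.smul_mem K.one_mem _)
  have hm0 : κ - r • 1 ≠ 0 := fun h => hns r (sub_eq_zero.mp h)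
  obtain ⟨w, hw, hmw⟩ := hK.inv _ hm hm0
  have hwm : w * (κ - r • 1) = 1 := by
    rw [hK.comm w hw _ hm]
    exact hmw
  apply hns (b - r)
  have : κ - (b - r) • 1 = 0 := by
    calc κ - (b - r) • 1 = (w * (κ - r • 1)) * (κ - (b - r) • 1) := by rw [hwm, Matrix.one_mul]
      _ = 0 := by rw [Matrix.mul_assoc, hprod, Matrix.mul_zero]
  exact sub_eq_zero.mp this

/-- a nonzero square-zero `2 × 2` matrix is conjugate to a multiple of the elementary one -/
theorem nilp_two_conj (N : Matrix (Fin 2) (Fin 2) F) (hNN : N * N = 0) (hN0 : N ≠ 0) (β : F)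
    (hβ : β ≠ 0) :
    ∃ g : Matrix (Fin 2) (Fin 2) F, g.det ≠ 0 ∧ N * g = g * !![0, β; 0, 0] := by
  have e00 := congrFun (congrFun hNN 0) 0
  have e01 := congrFun (congrFun hNN 0) 1
  have e10 := congrFun (congrFun hNN 1) 0
  have e11 := congrFun (congrFun hNN 1) 1
  simp only [Matrix.mul_apply, Fin.sum_univ_two, Matrix.zero_apply] at e00 e01 e10 e11
  by_cases hr : N 1 0 = 0
  · have hp : N 0 0 = 0 := by
      rw [hr, mul_zero, add_zero] at e00
      exact mul_self_eq_zero.mp e00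
    have ht : N 1 1 = 0 := by
      rw [hr, zero_mul, zero_add] at e11
      exact mul_self_eq_zero.mp e11
    have hq : N 0 1 ≠ 0 := by
      intro hq
      apply hN0
      ext i j
      fin_cases i <;> fin_cases j <;> simp [hp, hq, hr, ht]
    refine ⟨!![N 0 1, 0; 0, β], ?_, ?_⟩
    · rw [Matrix.det_fin_two_of]
      simp [hq, hβ]
    · ext i j
      fin_cases i <;> fin_cases j <;> simp [Matrix.mul_apply, Fin.sum_univ_two, hp, hr, ht, mul_comm]
  · refine ⟨!![N 0 0, β; N 1 0, 0], ?_, ?_⟩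
    · rw [Matrix.det_fin_two_of]
      simp [hr, hβ]
    · ext i j
      fin_cases i <;> fin_cases j <;> simp [Matrix.mul_apply, Fin.sum_univ_two]
      · exact e00
      · exact e10


/-- `n = 2`, odd characteristic, square scalar -/
theorem two_split_conj [Fintype F] (hodd : Odd (Fintype.card F))
    (K : Subalgebra F (Matrix (Fin 2) (Fin 2) F)) (hK : Cfsg.Geo.IsFieldSubalgebra 2 K)
    (x : Matrix.SpecialLinearGroup (Fin 2) F) (lam : F) (hlam : lam ≠ 0)
    (hx : (x : Matrix (Fin 2) (Fin 2) F) * (x : Matrix (Fin 2) (Fin 2) F) = (lam * lam) • 1)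
    (hxns : ∀ z : F, (x : Matrix (Fin 2) (Fin 2) F) ≠ z • 1) :
    ∃ P : Matrix.SpecialLinearGroup (Fin 2) F, P⁻¹ * x * P ∈ HK K := by
  classical
  have h2 : (2 : F) ≠ 0 := Cfsg.Agent.Lib.Helper15.two_ne_zero_of_odd_card hodd
  obtain ⟨t, ht⟩ : ∃ t : Matrix (Fin 2) (Fin 2) F, t = lam⁻¹ • (x : Matrix (Fin 2) (Fin 2) F) := ⟨_, rfl⟩
  have ht2 : t ^ 2 = 1 := by
    rw [pow_two, ht, Matrix.smul_mul, Matrix.mul_smul, hx, smul_smul, smul_smul]
    have : lam⁻¹ * lam⁻¹ * (lam * lam) = 1 := by field_simp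
    rw [this, one_smul]
  obtain ⟨h, d, hdet, hth, hd⟩ := Cfsg.Agent.Lib.Helper9.Ext27A.exists_diag_sq h2 t ht2
  have hxt : (x : Matrix (Fin 2) (Fin 2) F) = lam • t := by
    rw [ht, smul_smul, mul_inv_cancel₀ hlam, one_smul]
  have hd01 : d 0 ≠ d 1 := by
    intro heq
    have hdiag : Matrix.diagonal d = d 0 • (1 : Matrix (Fin 2) (Fin 2) F) := by
      ext i j
      fin_cases i <;> fin_cases j <;> simp [heq]
    rw [hdiag, Matrix.mul_smul, Matrix.mul_one] at hth
    have hhi : h * h⁻¹ = 1 := Matrix.mul_nonsing_inv h (isUnit_iff_ne_zero.mpr hdet)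
    have htd : t = d 0 • 1 := by
      calc t = t * (h * h⁻¹) := by rw [hhi, Matrix.mul_one]
        _ = (t * h) * h⁻¹ := by rw [Matrix.mul_assoc]
        _ = d 0 • 1 := by rw [hth, Matrix.smul_mul, hhi]
    apply hxns (lam * d 0)
    rw [hxt, htd, smul_smul]
  have hd1 : d 1 = -d 0 := by
    have h0 := hd 0
    have h1 := hd 1
    have h3 : (d 1 - d 0) * (d 1 + d 0) = 0 := by linear_combination h1 - h0
    rcases mul_eq_zero.mp h3 with h | h
    · exact absurd (sub_eq_zero.mp h).symm hd01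
    · linear_combination h
  obtain ⟨κ, hκ, z₂, hκκ, hz₂, hns⟩ := exists_sqrt_gen h2 K hK
  obtain ⟨g₁, hg₁, hκg₁⟩ := matrix_conj_of_quadratic κ (X2 z₂) z₂ 0
    (fun r hr => hz₂ ⟨r, by rw [hr]; ring⟩) (by rw [hκκ, zero_smul, add_zero])
    (by rw [X2_mul, zero_smul, add_zero])
  refine Cfsg.Agent.Lib.Helper9.ExtC.transport K hK κ hκ hns (X2 z₂) (Matrix.diagonal d) g₁ hg₁ hκg₁
    0 (-1) (neg_ne_zero.mpr one_ne_zero) ?_ ?_ x h hdet lam hlam ?_
  · ext i j
    fin_cases i <;> fin_cases j <;> simp [X2, Matrix.mul_apply, Fin.sum_univ_two, hd1, mul_comm]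
  · intro δ _
    refine ⟨Matrix.diagonal ![δ, 1], ?_, ?_⟩
    · rw [Matrix.diagonal_mul_diagonal, Matrix.diagonal_mul_diagonal]
      congr 1
      funext k
      ring
    · rw [Matrix.det_diagonal, Fin.prod_univ_two]
      simp
  · rw [hxt, Matrix.smul_mul, hth, Matrix.mul_smul]

/-- `n = 2`, characteristic 2 -/
theorem two_char_two_conj [Fintype F] [CharP F 2]
    (K : Subalgebra F (Matrix (Fin 2) (Fin 2) F)) (hK : Cfsg.Geo.IsFieldSubalgebra 2 K)
    (x : Matrix.SpecialLinearGroup (Fin 2) F) (z : F)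
    (hx : (x : Matrix (Fin 2) (Fin 2) F) * (x : Matrix (Fin 2) (Fin 2) F) = z • 1)
    (hxns : ∀ z : F, (x : Matrix (Fin 2) (Fin 2) F) ≠ z • 1) :
    ∃ P : Matrix.SpecialLinearGroup (Fin 2) F, P⁻¹ * x * P ∈ HK K := by
  classical
  have hp2 : Fact (Nat.Prime 2) := ⟨Nat.prime_two⟩
  have h20 : (2 : F) = 0 := by
    have := CharP.cast_eq_zero F 2
    exact_mod_cast this
  have hfrob : ∀ δ : F, ∃ s : F, s * s = δ := by
    intro δ
    obtain ⟨s, hs⟩ := Finite.surjective_of_injective (frobenius_inj F 2) δ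
    exact ⟨s, by rwa [frobenius_def, sq] at hs⟩
  obtain ⟨κ, hκ, hns⟩ := exists_nonscalar K hK
  obtain ⟨a, b, hab⟩ := exists_repr K hK κ hκ hns (κ * κ) (K.mul_mem hκ hκ)
  have hirr := no_root K hK κ hκ hns a b hab
  have hb : b ≠ 0 := by
    rintro rfl
    obtain ⟨s, hs⟩ := hfrob a
    exact hirr s (by rw [hs]; ring)
  obtain ⟨Xc, hXcdef⟩ : ∃ Xc : Matrix (Fin 2) (Fin 2) F, Xc = !![0, a; 1, b] := ⟨_, rfl⟩
  have hXc : Xc * Xc = a • 1 + b • Xc := by
    rw [hXcdef]
    ext i j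
    fin_cases i <;> fin_cases j <;> simp [Matrix.mul_apply, Fin.sum_univ_two] <;> ring
  obtain ⟨g₁, hg₁, hκg₁⟩ := matrix_conj_of_quadratic κ Xc a b hirr hab hXc
  obtain ⟨s, hs⟩ := hfrob z
  have hs0 : s ≠ 0 := by
    rintro rfl
    rw [mul_zero] at hs
    rw [← hs, zero_smul] at hx
    have hd := congrArg Matrix.det hx
    rw [Matrix.det_mul, x.2, Matrix.det_zero, mul_one] at hd
    exact one_ne_zero hd
  obtain ⟨N, hN⟩ : ∃ N : Matrix (Fin 2) (Fin 2) F, N = (x : Matrix (Fin 2) (Fin 2) F) - s • 1 := ⟨_, rfl⟩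
  have hNN : N * N = 0 := by
    rw [hN]
    simp only [Matrix.sub_mul, Matrix.mul_sub, Matrix.smul_mul, Matrix.mul_smul, Matrix.one_mul,
      Matrix.mul_one, hx, smul_sub, smul_smul, hs]
    have : s • (x : Matrix (Fin 2) (Fin 2) F) + s • (x : Matrix (Fin 2) (Fin 2) F) = 0 := by
      rw [← two_smul F, h20, zero_smul]
    have h2 : z • (1 : Matrix (Fin 2) (Fin 2) F) + z • 1 = 0 := by
      rw [← two_smul F, h20, zero_smul]
    calc z • (1 : Matrix (Fin 2) (Fin 2) F) - s • (x : Matrix (Fin 2) (Fin 2) F) -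
          (s • (x : Matrix (Fin 2) (Fin 2) F) - z • 1)
        = (z • (1 : Matrix (Fin 2) (Fin 2) F) + z • 1) -
          (s • (x : Matrix (Fin 2) (Fin 2) F) + s • (x : Matrix (Fin 2) (Fin 2) F)) := by abel
      _ = 0 := by rw [this, h2, sub_zero]
  have hN0 : N ≠ 0 := by
    intro h
    apply hxns s
    rw [hN] at h
    exact sub_eq_zero.mp h
  obtain ⟨g₂, hg₂, hNg₂⟩ := nilp_two_conj N hNN hN0 (s * b) (mul_ne_zero hs0 hb)
  obtain ⟨M₀, hM₀⟩ : ∃ M₀ : Matrix (Fin 2) (Fin 2) F, M₀ = !![1, b; 0, 1] := ⟨_, rfl⟩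
  have hsM : s • M₀ = s • 1 + !![0, s * b; 0, 0] := by
    rw [hM₀]
    ext i j
    fin_cases i <;> fin_cases j <;> simp
  have hxg : (x : Matrix (Fin 2) (Fin 2) F) * g₂ = g₂ * (s • M₀) := by
    have hxN : (x : Matrix (Fin 2) (Fin 2) F) = s • 1 + N := by rw [hN]; abel
    rw [hxN, hsM, Matrix.add_mul, Matrix.mul_add, hNg₂, Matrix.smul_mul, Matrix.mul_smul,
      Matrix.one_mul, Matrix.mul_one]
  have hbb : b + b = 0 := by
    rw [← two_mul, h20, zero_mul]
  refine Cfsg.Agent.Lib.Helper9.ExtC.transport K hK κ hκ hns Xc M₀ g₁ hg₁ hκg₁ b 1 one_ne_zero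
    ?_ ?_ x g₂ hg₂ s hs0 hxg
  · rw [hM₀, hXcdef]
    ext i j
    fin_cases i <;> fin_cases j <;> simp [Matrix.mul_apply, Fin.sum_univ_two]
    · ring
    · linear_combination hbb
  · intro δ _
    obtain ⟨s', hs'⟩ := hfrob δ
    refine ⟨s' • 1, ?_, ?_⟩
    · rw [Matrix.smul_mul, Matrix.mul_smul, Matrix.one_mul, Matrix.mul_one]
    · rw [Matrix.det_smul, Matrix.det_one, mul_one, Fintype.card_fin, sq, hs']

end Cfsg.Agent.Lib.Helper9.ExtF
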