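/-
Helper9 library: 2-components are normal in the extended 2-layer.
-/
import Cfsg.Agent.Lib.Helper9.PComponent3
import Cfsg.Agent.Lib.Helper4.Basic

set_option autoImplicit false

namespace Cfsg.Agent.Lib.Helper9

universe u

variable {X : Type u} [Group X]

/-- If a Sylow `p`-subgroup `T` of a subgroup `Y` lies in a Sylow `p`-subgroup `S` of `X`,
then `T = S ∩ Y`. -/
theorem sylow_map_subtype_eq_inf (p : ℕ) [Fact p.Prime] (Y : Subgroup X)
    (T : Sylow p ↥Y) (S : Sylow p X) (hTS : (T : Subgroup ↥Y).map Y.subtype ≤ S) :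
    (T : Subgroup ↥Y).map Y.subtype = (S : Subgroup X) ⊓ Y := by
  apply le_antisymm (le_inf hTS (Subgroup.map_subtype_le _))
  have hQ : IsPGroup p ↥(((S : Subgroup X) ⊓ Y).subgroupOf Y) :=
    (S.isPGroup'.to_le inf_le_left).comap_subtype
  have hle : (T : Subgroup ↥Y) ≤ ((S : Subgroup X) ⊓ Y).subgroupOf Y := by
    intro t ht
    rw [Subgroup.mem_subgroupOf]
    exact Subgroup.mem_inf.mpr ⟨hTS ⟨t, ht, rfl⟩, t.2⟩
  have := T.is_maximal' hQ hle
  rw [← this, Subgroup.map_subgroupOf_eq_of_le inf_le_right]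

/-- The centralizer of a Sylow `p`-subgroup of `L_{p'}(X) O_{p',p}(X)` normalizes every
`p`-component. -/
theorem centralizer_sylow_le_normalizer_pComponent [Finite X] {p : ℕ} [Fact p.Prime]
    (T : Sylow p ↥(Cfsg.pLayer p X ⊔ Cfsg.pPrimePCore p X)) {K : Subgroup X}
    (hK : Cfsg.IsPComponent p K) :
    Subgroup.centralizer (((T : Subgroup ↥(Cfsg.pLayer p X ⊔ Cfsg.pPrimePCore p X)).map
      (Cfsg.pLayer p X ⊔ Cfsg.pPrimePCore p X).subtype : Subgroup X) : Set X) ≤
      Subgroup.normalizer (K : Set X) := by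
  obtain ⟨S, hS⟩ := IsPGroup.exists_le_sylow
    (T.isPGroup'.map (Cfsg.pLayer p X ⊔ Cfsg.pPrimePCore p X).subtype)
  have hA := sylow_map_subtype_eq_inf p _ T S hS
  have hKL : K ≤ Cfsg.pLayer p X := le_sSup hK
  have hKY : K ≤ Cfsg.pLayer p X ⊔ Cfsg.pPrimePCore p X := hKL.trans le_sup_left
  intro g hg
  apply mem_normalizer_of_map_conj_eq
  apply IsPComponent_map_conj_eq_of_mem_centralizer hK (D := (S : Subgroup X) ⊓ K) inf_le_right
    (S.isPGroup'.to_le inf_le_left)
  · rw [Subgroup.inf_relIndex_right]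
    exact Cfsg.Agent.Lib.Helper4.not_dvd_relIndex_of_isSubnormal hK.1 S
  · refine Subgroup.centralizer_le ?_ hg
    rw [hA]
    intro x hx
    exact Subgroup.mem_inf.mpr ⟨(Subgroup.mem_inf.mp hx).1, hKY (Subgroup.mem_inf.mp hx).2⟩

/-- A 2-component lies in the extended 2-layer and is normalized by it. -/
theorem extendedTwoLayer_le_normalizer_pComponent [Finite X] {K : Subgroup X}
    (hK : Cfsg.IsPComponent 2 K) :
    K ≤ Cfsg.extendedTwoLayer X ∧
      Cfsg.extendedTwoLayer X ≤ Subgroup.normalizer (K : Set X) := by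
  have h2 : Fact (Nat.Prime 2) := ⟨Nat.prime_two⟩
  have T : Sylow 2 ↥(Cfsg.pLayer 2 X ⊔ Cfsg.pPrimePCore 2 X) := default
  rw [extendedTwoLayer_eq T]
  constructor
  · have hKL : K ≤ Cfsg.pLayer 2 X := le_sSup hK
    exact hKL.trans (le_sup_of_le_left le_sup_left)
  · apply sup_le (sup_le (pLayer_le_normalizer_pComponent hK)
      (pPrimeCore_le_normalizer_pComponent hK))
    exact (pPrimeCoreIn_le 2 _).trans (centralizer_sylow_le_normalizer_pComponent T hK)

end Cfsg.Agent.Lib.Helper9
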