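import Mathlib
import Cfsg.Prelude.Def_Blocks
import Cfsg.Agent.Lib.Helper24.LocalRing
import Cfsg.Agent.Lib.Helper9.FRBDefs
import Cfsg.Agent.Lib.Helper12.FRBAVG
import Cfsg.Agent.Lib.Helper12.FRBREV
import Cfsg.Agent.Lib.Helper12.FRBCTRLIN
import Cfsg.Agent.Lib.Helper12.FRBPOLY
import Cfsg.Agent.Lib.Helper17.FRBCTRPOW
import Cfsg.Agent.Lib.Helper14.FRBWORD
import Cfsg.Agent.Lib.Helper14.FRBKER
import Cfsg.Agent.Lib.Helper2.FRBSPEC
import Cfsg.Agent.Lib.Helper2.FRBINT
import Cfsg.Agent.Lib.Helper8.FRBINTER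
import Cfsg.Agent.Lib.Helper14.FRBDIM
import Cfsg.Agent.Lib.Helper6.Knoerr

set_option autoImplicit false

namespace Cfsg.Agent.Lib.Helper9.FRBSpine

open Cfsg Cfsg.Agent.Lib.Helper9.FRB Cfsg.Agent.Lib.Helper24
open Cfsg.Agent.Lib.Helper12.FRBAVG Cfsg.Agent.Lib.Helper12.FRBREV Cfsg.Agent.Lib.Helper12.FRBCTRLIN
open Cfsg.Agent.Lib.Helper12.FRBPOLY Cfsg.Agent.Lib.Helper17.FRBCTRPOW Cfsg.Agent.Lib.Helper14.FRBWORD
open Cfsg.Agent.Lib.Helper14.FRBKER Cfsg.Agent.Lib.Helper2.FRBSPEC Cfsg.Agent.Lib.Helper2.FRBINT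
open Cfsg.Agent.Lib.Helper8.FRBINTER Cfsg.Agent.Lib.Helper14.FRBDIM

variable {G : Type*} [Group G]

/-- `aeval x P * tot = P(1) • tot` when `x * tot = tot`. -/
theorem aeval_mul_tot [Finite G] (x : MonoidAlgebra ℝ G) (hx : x * tot = tot) (P : Polynomial ℝ) :
    Polynomial.aeval x P * tot = P.eval 1 • (tot : MonoidAlgebra ℝ G) := by
  induction P using Polynomial.induction_on' with
  | add P₁ P₂ h₁ h₂ => rw [map_add, add_mul, h₁, h₂, Polynomial.eval_add, add_smul]
  | monomial n c =>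
    rw [Polynomial.aeval_monomial, Polynomial.eval_monomial, one_pow, mul_one]
    have hpow : ∀ n : ℕ, x ^ n * tot = tot := by
      intro n
      induction n with
      | zero => simp
      | succ n ih => rw [pow_succ, mul_assoc, hx, ih]
    rw [mul_assoc, hpow, Algebra.algebraMap_eq_smul_one, smul_mul_assoc, one_mul]

open Classical in
/-- IDEM: the spectral idempotent on the unit eigenvalues. -/
theorem idem_exists [Fintype G] {p : ℕ} {M : Ideal AlgInt} (hM : IsPModular p M) (Q R : Subgroup G)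
    (hQ : ¬ p ∣ Nat.card Q) (hR : ¬ p ∣ Nat.card R) :
    ∃ f y : MonoidAlgebra ℝ G, f * f = f ∧ rev f = f ∧ f = avg Q * avg R * avg Q * y ∧
      f * avg Q = f ∧ avg Q * f = f ∧ (∑ k : G, f.coeff k = 1) ∧
      ∀ N : ℕ, 0 < N → ∃ h : Polynomial ℝ, (∀ i, MemLocalRing M ((h.coeff i : ℝ) : ℂ)) ∧
        f = Polynomial.aeval ((avg Q * avg R * avg Q) ^ N) h := by
  haveI hMp : M.IsPrime := isPrime_of_isPModular hM
  have hM1 : (1 : AlgInt) ∉ M := one_not_mem_of_isPModular hM
  set x : MonoidAlgebra ℝ G := avg Q * avg R * avg Q with hxdef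
  have hxrev : rev x = x := by
    rw [hxdef, rev_mul, rev_mul, rev_avg, rev_avg, mul_assoc]
  obtain ⟨S, hS1, hS2, hS3⟩ := spec x hxrev
  have hD : ¬ p ∣ (Nat.card Q) ^ 2 * Nat.card R := by
    intro h
    rcases (hM.1.dvd_mul).1 h with h | h
    · exact hQ (hM.1.dvd_of_dvd_pow h)
    · exact hR h
  have hSint : ∀ l ∈ S, MemLocalRing M ((l : ℝ) : ℂ) := by
    intro l hl
    obtain ⟨v, hv, hxv⟩ := hS3 l hl
    exact eig_memLocalRing hM x _ hD (fun k => triple_int Q R k) l v hv hxv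
  have hxtot : x * tot = tot := by
    rw [hxdef, mul_assoc, mul_assoc, avg_mul_tot, avg_mul_tot, avg_mul_tot]
  have h1S : (1 : ℝ) ∈ S := hS2 1 tot tot_ne_zero (by rw [one_smul, hxtot])
  obtain ⟨h0, h0c, h0e⟩ := unit_poly hM S hSint 1 one_pos
  have h0e' : ∀ l ∈ S, h0.eval l = if MemLocalIdeal M ((l : ℝ) : ℂ) then 0 else 1 := by
    intro l hl
    have := h0e l hl
    rwa [pow_one] at this
  set f : MonoidAlgebra ℝ G := Polynomial.aeval x h0 with hfdef
  set g0 : Polynomial ℝ := Lagrange.interpolate S id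
    (fun l : ℝ => if MemLocalIdeal M ((l : ℝ) : ℂ) then (0 : ℝ) else l⁻¹) with hg0def
  have hg0 : ∀ l ∈ S, g0.eval l = if MemLocalIdeal M ((l : ℝ) : ℂ) then (0 : ℝ) else l⁻¹ := by
    intro l hl
    have := Lagrange.eval_interpolate_at_node
      (fun l : ℝ => if MemLocalIdeal M ((l : ℝ) : ℂ) then (0 : ℝ) else l⁻¹)
      (s := S) (v := id) (Set.injOn_id _) hl
    rw [hg0def]
    exact this
  set y : MonoidAlgebra ℝ G := Polynomial.aeval x g0 with hydef
  have hne : ∀ l : ℝ, ¬ MemLocalIdeal M ((l : ℝ) : ℂ) → l ≠ 0 := by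
    intro l hl h0
    apply hl
    rw [h0]
    simpa using memLocalIdeal_zero (M := M) hM1
  have hfy : f = x * y := by
    have h1 : x * y = Polynomial.aeval x (Polynomial.X * g0) := by
      rw [map_mul, Polynomial.aeval_X]
    rw [h1]
    apply hS1
    intro l hl
    rw [Polynomial.eval_mul, Polynomial.eval_X, h0e' l hl, hg0 l hl]
    split_ifs with h
    · simp
    · rw [mul_inv_cancel₀ (hne l h)]
  have hyx : f = y * x := by
    have h1 : y * x = Polynomial.aeval x (g0 * Polynomial.X) := by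
      rw [map_mul, Polynomial.aeval_X]
    rw [h1]
    apply hS1
    intro l hl
    rw [Polynomial.eval_mul, Polynomial.eval_X, h0e' l hl, hg0 l hl]
    split_ifs with h
    · simp
    · rw [inv_mul_cancel₀ (hne l h)]
  have hff : f * f = f := by
    have h1 : f * f = Polynomial.aeval x (h0 * h0) := by rw [map_mul]
    rw [h1]
    apply hS1
    intro l hl
    rw [Polynomial.eval_mul, h0e' l hl]
    split_ifs <;> simp
  have hsym : rev f = f := rev_aeval x hxrev h0
  have hxQ : x * avg Q = x := by rw [hxdef, mul_assoc, avg_mul_self]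
  have hQx : avg Q * x = x := by rw [hxdef, ← mul_assoc, ← mul_assoc, avg_mul_self]
  refine ⟨f, y, hff, hsym, hfy, ?_, ?_, ?_, ?_⟩
  · rw [hyx, mul_assoc, hxQ]
  · rw [hfy, ← mul_assoc, hQx]
  · rw [← mul_tot_coeff_one, hfdef, aeval_mul_tot x hxtot]
    rw [MonoidAlgebra.coeff_smul_apply, tot_coeff, smul_eq_mul, mul_one, h0e' 1 h1S]
    rw [if_neg]
    simpa using not_memLocalIdeal_one (M := M)
  · intro N hN
    obtain ⟨hk, hkc, hke⟩ := unit_poly hM S hSint N hN
    refine ⟨hk, hkc, ?_⟩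
    have h1 : Polynomial.aeval (x ^ N) hk = Polynomial.aeval x (hk.comp (Polynomial.X ^ N)) := by
      rw [Polynomial.aeval_comp, map_pow, Polynomial.aeval_X]
    rw [h1]
    apply hS1
    intro l hl
    rw [Polynomial.eval_comp, Polynomial.eval_pow, Polynomial.eval_X, hke l hl, h0e' l hl]

theorem memLocalRing_natCast {p : ℕ} {M : Ideal AlgInt} (hM : IsPModular p M) (n : ℕ) :
    MemLocalRing M ((n : ℕ) : ℂ) := by
  have := memLocalRing_of_algInt (M := M) (n : AlgInt) (one_not_mem_of_isPModular hM)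
  simpa using this

theorem memLocalRing_inv_natCast {p : ℕ} {M : Ideal AlgInt} (hM : IsPModular p M) (d : ℕ)
    (hd : ¬ p ∣ d) : MemLocalRing M (((d : ℕ) : ℂ)⁻¹) := by
  refine ⟨1, (d : AlgInt), natCast_not_mem_of_not_dvd hM hd, ?_⟩
  simp

/-- VANISH: the class trace of `f` vanishes on `p`-singular elements. -/
theorem vanish [Fintype G] {p : ℕ} {M : Ideal AlgInt} (hM : IsPModular p M) (Q R : Subgroup G)
    (hQ : ¬ p ∣ Nat.card Q) (hR : ¬ p ∣ Nat.card R) (a : ℕ)
    (ha : ∀ h : G, ¬ p ∣ orderOf (h ^ p ^ a)) (f : MonoidAlgebra ℝ G)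
    (hf : ∀ N : ℕ, 0 < N → ∃ h : Polynomial ℝ, (∀ i, MemLocalRing M ((h.coeff i : ℝ) : ℂ)) ∧
        f = Polynomial.aeval ((avg Q * avg R * avg Q) ^ N) h)
    (g : G) (hg : p ∣ orderOf g) : ctr g f = 0 := by
  haveI hMp : M.IsPrime := isPrime_of_isPModular hM
  have hM1 : (1 : AlgInt) ∉ M := one_not_mem_of_isPModular hM
  have hp : p.Prime := hM.1
  have hg1 : g ≠ 1 := by
    intro h
    rw [h, orderOf_one] at hg
    exact hp.one_lt.ne' (Nat.dvd_one.1 hg)
  have hn : ¬ p ∣ Nat.card R * Nat.card Q := by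
    intro h
    rcases (hp.dvd_mul).1 h with h | h
    · exact hR h
    · exact hQ h
  suffices h : ((ctr g f : ℝ) : ℂ) = 0 by exact_mod_cast h
  apply inter_pow hM
  intro k'
  have hNpos : 0 < p ^ (k' + a) := pow_pos hp.pos _
  obtain ⟨h, hc, hfe⟩ := hf (p ^ (k' + a)) hNpos
  set x : MonoidAlgebra ℝ G := avg Q * avg R * avg Q with hxdef
  have hsum : ctr g f = ∑ i ∈ Finset.range (h.natDegree + 1),
      h.coeff i * ctr g ((x ^ (p ^ (k' + a))) ^ i) := by
    rw [hfe, Polynomial.aeval_eq_sum_range, ctr_sum]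
    apply Finset.sum_congr rfl
    intro i _
    rw [ctr_smul]
  have hterm : ∀ i : ℕ, ∃ w : ℂ, MemLocalRing M w ∧
      ((h.coeff i * ctr g ((x ^ (p ^ (k' + a))) ^ i) : ℝ) : ℂ) = (p : ℂ) ^ (k' + 1) * w := by
    intro i
    rcases Nat.eq_zero_or_pos i with hi | hi
    · refine ⟨0, memLocalRing_of_memLocalIdeal (memLocalIdeal_zero hM1), ?_⟩
      rw [hi, pow_zero, ctr_one_of_ne g hg1]
      simp
    · rw [← pow_mul, hxdef, ctr_triple_pow Q R g _ (Nat.mul_pos hNpos hi)]
      obtain ⟨c, hc'⟩ := ctr_pow Q R g (p ^ (k' + a) * i)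
      have hw := word_count (G := G) (𝔄 := R × Q) (fun w => ((w.1 : G) * (w.2 : G))) p a (k' + a) i
        hp hi ha g hg
      have hexp : k' + a + 1 - a = k' + 1 := by omega
      rw [hexp] at hw
      obtain ⟨W', hW'⟩ := hw
      refine ⟨((h.coeff i : ℝ) : ℂ) * ((((Nat.card R * Nat.card Q : ℕ) : ℂ)⁻¹) ^ (p ^ (k' + a) * i)
        * (c : ℂ) * (W' : ℂ)), ?_, ?_⟩
      · apply memLocalRing_mul (hc i)
        apply memLocalRing_mul
        · apply memLocalRing_mul
          · have h1 := memLocalRing_inv_natCast hM _ hn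
            generalize (((Nat.card R * Nat.card Q : ℕ) : ℂ)⁻¹) = t at h1
            induction (p ^ (k' + a) * i) with
            | zero =>
              rw [pow_zero]
              simpa using memLocalRing_natCast hM 1
            | succ n ih => rw [pow_succ]; exact memLocalRing_mul ih h1
          · exact memLocalRing_natCast hM c
        · exact memLocalRing_natCast hM W'
      · rw [hc', hW']
        push_cast
        ring
  choose w hwm hwe using hterm
  refine ⟨(p : ℂ) * ∑ i ∈ Finset.range (h.natDegree + 1), w i, ?_, ?_⟩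
  · apply memLocalRing_mul
    · simpa using memLocalRing_natCast hM p
    · exact sum_memLocalRing _ _ (fun i _ => hwm i)
  · rw [hsum]
    push_cast
    rw [Finset.mul_sum, Finset.mul_sum]
    apply Finset.sum_congr rfl
    intro i _
    have := hwe i
    push_cast at this
    rw [this]
    ring

theorem factorization_three (p q r a b c : ℕ) (hp : p.Prime) (hq : q.Prime) (hr : r.Prime)
    (hpq : p ≠ q) (hqr : q ≠ r) : (p ^ a * q ^ b * r ^ c).factorization q = b := by
  have h1 : p ^ a ≠ 0 := pow_ne_zero _ hp.ne_zero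
  have h2 : q ^ b ≠ 0 := pow_ne_zero _ hq.ne_zero
  have h3 : r ^ c ≠ 0 := pow_ne_zero _ hr.ne_zero
  rw [Nat.factorization_mul (mul_ne_zero h1 h2) h3, Nat.factorization_mul h1 h2,
    Nat.factorization_pow, Nat.factorization_pow, Nat.factorization_pow,
    hp.factorization, hq.factorization, hr.factorization]
  simp [Finsupp.single_apply, hpq, hqr.symm]

/-- FINAL: Isaacs 15.6. -/
theorem s4427 {G : Type*} [Group G] [Finite G] (p q r a b c : ℕ) (hp : p.Prime) (hq : q.Prime)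
    (hr : r.Prime) (hpq : p ≠ q) (hpr : p ≠ r) (hqr : q ≠ r)
    (hG : Nat.card G = p ^ a * q ^ b * r ^ c)
    (hcount : Nat.card {g : G // ¬ p ∣ orderOf g} = q ^ b * r ^ c) :
    ∃ N : Subgroup G, N.Normal ∧ Nat.card N = q ^ b * r ^ c := by
  classical
  haveI : Fintype G := Fintype.ofFinite G
  haveI : Fact p.Prime := ⟨hp⟩
  haveI : Fact q.Prime := ⟨hq⟩
  haveI : Fact r.Prime := ⟨hr⟩
  obtain ⟨M, hM⟩ := Cfsg.Agent.Lib.Helper6.exists_isPModular p
  obtain ⟨Q⟩ := (inferInstance : Nonempty (Sylow q G))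
  obtain ⟨R⟩ := (inferInstance : Nonempty (Sylow r G))
  have hQc : Nat.card (Q : Subgroup G) = q ^ b := by
    rw [Sylow.card_eq_multiplicity Q, hG, factorization_three p q r a b c hp hq hr hpq hqr]
  have hRc : Nat.card (R : Subgroup G) = r ^ c := by
    rw [Sylow.card_eq_multiplicity R, hG]
    have : p ^ a * q ^ b * r ^ c = p ^ a * r ^ c * q ^ b := by ring
    rw [this, factorization_three p r q a c b hp hr hq hpr hqr.symm]
  have hQp : ¬ p ∣ Nat.card (Q : Subgroup G) := by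
    rw [hQc]
    intro h
    exact hpq ((Nat.prime_dvd_prime_iff_eq hp hq).1 (hp.dvd_of_dvd_pow h))
  have hRp : ¬ p ∣ Nat.card (R : Subgroup G) := by
    rw [hRc]
    intro h
    exact hpr ((Nat.prime_dvd_prime_iff_eq hp hr).1 (hp.dvd_of_dvd_pow h))
  have hpn : ¬ p ∣ q ^ b * r ^ c := by
    intro h
    rcases (hp.dvd_mul).1 h with h | h
    · exact hpq ((Nat.prime_dvd_prime_iff_eq hp hq).1 (hp.dvd_of_dvd_pow h))
    · exact hpr ((Nat.prime_dvd_prime_iff_eq hp hr).1 (hp.dvd_of_dvd_pow h))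
  have ha : ∀ h : G, ¬ p ∣ orderOf (h ^ p ^ a) := by
    intro h hd
    apply hpn
    apply dvd_trans hd
    apply orderOf_dvd_of_pow_eq_one
    rw [← pow_mul, ← mul_assoc, ← hG]
    exact pow_card_eq_one'
  have hcop : (Nat.card (Q : Subgroup G)).Coprime (Nat.card (R : Subgroup G)) := by
    rw [hQc, hRc]
    exact Nat.Coprime.pow _ _ ((Nat.coprime_primes hq hr).2 hqr)
  obtain ⟨f, y, hff, hsym, hfy, hfQ, hQf, heps, hfN⟩ :=
    idem_exists hM (Q : Subgroup G) (R : Subgroup G) hQp hRp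
  have hvan : ∀ g : G, p ∣ orderOf g → ctr g f = 0 :=
    fun g hg => vanish hM (Q : Subgroup G) (R : Subgroup G) hQp hRp a ha f hfN g hg
  have hsum : ∑ g : G, ctr g f = (Fintype.card G : ℝ) := by
    rw [sum_ctr, heps, mul_one]
  have hsq := dim_bound (Q : Subgroup G) (R : Subgroup G) hcop f y hff hsym hfy hfQ hQf
  -- numerics
  have hcardG : (Fintype.card G : ℝ) = (p : ℝ) ^ a * ((q : ℝ) ^ b * (r : ℝ) ^ c) := by
    rw [← Nat.card_eq_fintype_card, hG]
    push_cast
    ring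
  have hnpos : (0 : ℝ) < (q : ℝ) ^ b * (r : ℝ) ^ c := by
    have h1 : (0 : ℝ) < (q : ℝ) := by exact_mod_cast hq.pos
    have h2 : (0 : ℝ) < (r : ℝ) := by exact_mod_cast hr.pos
    positivity
  have hPpos : (0 : ℝ) < (p : ℝ) ^ a := by
    have h1 : (0 : ℝ) < (p : ℝ) := by exact_mod_cast hp.pos
    positivity
  have hsq' : ∑ g : G, (ctr g f) ^ 2 ≤ (Fintype.card G : ℝ) * (p : ℝ) ^ a := by
    refine le_trans hsq (le_of_eq ?_)
    rw [hQc, hRc, hcardG]
    push_cast
    field_simp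
  have hTcard : ((Finset.univ.filter (fun g : G => ¬ p ∣ orderOf g)).card : ℝ)
      = (q : ℝ) ^ b * (r : ℝ) ^ c := by
    have h1 : (Finset.univ.filter (fun g : G => ¬ p ∣ orderOf g)).card = q ^ b * r ^ c := by
      rw [← hcount, Nat.card_eq_fintype_card, Fintype.card_subtype]
    rw [h1]
    push_cast
    ring
  have hkey : ∑ g ∈ Finset.univ.filter (fun g : G => ¬ p ∣ orderOf g),
      (ctr g f - (p : ℝ) ^ a) ^ 2 ≤ 0 := by
    have e1 : ∑ g ∈ Finset.univ.filter (fun g : G => ¬ p ∣ orderOf g), ctr g f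
        = ∑ g : G, ctr g f := by
      rw [Finset.sum_filter]
      apply Finset.sum_congr rfl
      intro g _
      by_cases h : p ∣ orderOf g
      · simp [h, hvan g h]
      · simp [h]
    have e2 : ∑ g ∈ Finset.univ.filter (fun g : G => ¬ p ∣ orderOf g), (ctr g f) ^ 2
        = ∑ g : G, (ctr g f) ^ 2 := by
      rw [Finset.sum_filter]
      apply Finset.sum_congr rfl
      intro g _
      by_cases h : p ∣ orderOf g
      · simp [h, hvan g h]
      · simp [h]
    have e3 : ∑ g ∈ Finset.univ.filter (fun g : G => ¬ p ∣ orderOf g),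
        (ctr g f - (p : ℝ) ^ a) ^ 2
        = ∑ g ∈ Finset.univ.filter (fun g : G => ¬ p ∣ orderOf g), (ctr g f) ^ 2
          - 2 * (p : ℝ) ^ a * ∑ g ∈ Finset.univ.filter (fun g : G => ¬ p ∣ orderOf g), ctr g f
          + ((Finset.univ.filter (fun g : G => ¬ p ∣ orderOf g)).card : ℝ) * ((p : ℝ) ^ a) ^ 2 := by
      rw [Finset.mul_sum, ← Finset.sum_sub_distrib, ← nsmul_eq_mul, ← Finset.sum_const,
        ← Finset.sum_add_distrib]
      apply Finset.sum_congr rfl
      intro g _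
      ring
    rw [e3, e1, e2, hsum, hTcard]
    have := hsq'
    rw [hcardG] at this ⊢
    nlinarith [this]
  have hT : ∀ g : G, ¬ p ∣ orderOf g → ctr g f = (p : ℝ) ^ a := by
    intro g hg
    have h0 := (Finset.sum_eq_zero_iff_of_nonneg (fun g _ => sq_nonneg _)).1
      (le_antisymm hkey (Finset.sum_nonneg (fun g _ => sq_nonneg _))) g
      (Finset.mem_filter.2 ⟨Finset.mem_univ g, hg⟩)
    have := pow_eq_zero_iff (two_ne_zero) |>.1 h0
    linarith
  have h1T : ¬ p ∣ orderOf (1 : G) := by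
    rw [orderOf_one]
    exact fun h => hp.one_lt.ne' (Nat.dvd_one.1 h)
  obtain ⟨N, hN, hNmem⟩ := ker_normal f hff hsym
  refine ⟨N, hN, ?_⟩
  rw [← hcount]
  apply Nat.card_congr
  apply Equiv.subtypeEquivRight
  intro g
  rw [hNmem g, hT 1 h1T]
  constructor
  · intro h hd
    rw [hvan g hd] at h
    exact hPpos.ne h
  · intro h
    exact hT g h

end Cfsg.Agent.Lib.Helper9.FRBSpine
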