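/-
Helper9 library: minimal Frobenius groups `r ^ e : q`, products of such groups with pairwise
coprime orders, and the critical groups of S3599.
-/
import Mathlib
import Cfsg.Agent.Lib.Helper9.AffSpec

set_option autoImplicit false
set_option linter.unusedSectionVars false
set_option linter.style.haveILetI false

namespace Cfsg.Agent.Lib.Helper9.FrobCritical

open Cfsg.Agent.Lib.Helper9.AffSpec

section Aff

variable {E : Type*} [Field E]

/-- translations form the kernel of `fst`; it has the cardinality of `E`. -/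
theorem card_ker_fst [Finite E] : Nat.card (Aff.fst : Aff E →* Eˣ).ker = Nat.card E := by
  refine Nat.card_congr ?_
  refine ⟨fun g => g.1.b, fun b => ⟨⟨1, b⟩, by rw [MonoidHom.mem_ker]; rfl⟩, ?_, ?_⟩
  · rintro ⟨g, hg⟩
    rw [MonoidHom.mem_ker] at hg
    apply Subtype.ext
    ext
    · exact congrArg Units.val hg.symm
    · rfl
  · intro b
    rfl

theorem card_sub [Finite E] (a₀ : Eˣ) :
    Nat.card (Aff.sub a₀) = orderOf a₀ * Nat.card E := by
  rw [← Nat.card_zpowers, ← Nat.card_prod]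
  refine Nat.card_congr ?_
  refine ⟨fun g => (⟨g.1.a, g.2⟩, g.1.b), fun x => ⟨⟨x.1.1, x.2⟩, x.1.2⟩, ?_, ?_⟩
  · rintro ⟨g, hg⟩
    rfl
  · rintro ⟨⟨u, hu⟩, b⟩
    rfl

theorem conj_trans (y : Aff E) (b : E) : y * ⟨1, b⟩ * y⁻¹ = ⟨1, y.a * b⟩ := by
  ext
  · simp
  · simp only [Aff.mul_b, Aff.mul_a, Aff.inv_b, mul_one, Units.val_one, one_mul]
    have : (y.a : E) * (-((y.a⁻¹ : Eˣ) : E) * y.b) = - y.b := by
      rw [neg_mul, mul_neg, ← mul_assoc, ← Units.val_mul, mul_inv_cancel, Units.val_one, one_mul]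
    rw [this]
    ring


/-- the additive group of translation parts lying in a subgroup. -/
def transPart (H : Subgroup (Aff E)) : AddSubgroup E where
  carrier := {b | (⟨1, b⟩ : Aff E) ∈ H}
  zero_mem' := H.one_mem
  add_mem' := by
    intro a b ha hb
    have := H.mul_mem ha hb
    have h2 : (⟨1, a⟩ : Aff E) * ⟨1, b⟩ = ⟨1, a + b⟩ := by ext <;> simp
    rw [h2] at this
    exact this
  neg_mem' := by
    intro a ha
    have := H.inv_mem ha
    have h2 : (⟨1, a⟩ : Aff E)⁻¹ = ⟨1, -a⟩ := by ext <;> simp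
    rw [h2] at this
    exact this

theorem mem_transPart (H : Subgroup (Aff E)) (b : E) : b ∈ transPart H ↔ (⟨1, b⟩ : Aff E) ∈ H :=
  Iff.rfl

theorem ker_fst_le_of_stable [Finite E] (r q e : ℕ) [hr : Fact r.Prime] [hq : Fact q.Prime]
    (hcard : Nat.card E = r ^ e) (hmin : ∀ k : ℕ, k ≠ 0 → q ∣ r ^ k - 1 → e ≤ k)
    (H : Subgroup (Aff E)) (u : Eˣ) (hu1 : u ≠ 1) (huq : u ^ q = 1)
    (hst : ∀ b : E, (⟨1, b⟩ : Aff E) ∈ H → (⟨1, u * b⟩ : Aff E) ∈ H)
    (b₀ : E) (hb₀ : b₀ ≠ 0) (hb₀H : (⟨1, b₀⟩ : Aff E) ∈ H) :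
    (Aff.fst : Aff E →* Eˣ).ker ≤ H := by
  classical
  set T := transPart H with hT
  haveI : Fintype T := Fintype.ofFinite T
  let f : Function.End T := fun t => ⟨u * t.1, hst _ t.2⟩
  have hfpow : ∀ (k : ℕ) (t : T), ((f ^ k) t).1 = ((u : E) ^ k) * t.1 := by
    intro k
    induction k with
    | zero =>
      intro t
      rw [pow_zero, pow_zero, one_mul]
      rfl
    | succ k ih =>
      intro t
      rw [pow_succ']
      show (u : E) * ((f ^ k) t).1 = _
      rw [ih, pow_succ']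
      ring
  have hfq : f ^ q ^ 1 = 1 := by
    rw [pow_one]
    funext t
    apply Subtype.ext
    rw [hfpow]
    have : ((u : E) ^ q) = 1 := by
      rw [← Units.val_pow_eq_pow_val, huq, Units.val_one]
    rw [this, one_mul]
    rfl
  have hmod := Equiv.Perm.card_fixedPoints_modEq (f := f) (p := q) (n := 1) hfq
  have hfix : Fintype.card (Function.fixedPoints f) = 1 := by
    rw [Fintype.card_eq_one_iff]
    refine ⟨⟨0, ?_⟩, ?_⟩
    · show f 0 = 0
      apply Subtype.ext
      show (u : E) * (0 : T).1 = (0 : T).1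
      simp
    · rintro ⟨t, ht⟩
      apply Subtype.ext
      apply Subtype.ext
      show t.1 = 0
      have h1 : (u : E) * t.1 = t.1 := congrArg Subtype.val ht
      have h2 : ((u : E) - 1) * t.1 = 0 := by rw [sub_mul, h1, one_mul, sub_self]
      rcases mul_eq_zero.mp h2 with h | h
      · exfalso
        apply hu1
        apply Units.ext
        rw [Units.val_one]
        exact sub_eq_zero.mp h
      · exact h
  rw [hfix] at hmod
  have hdvd : Nat.card T ∣ Nat.card E := AddSubgroup.card_addSubgroup_dvd_card T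
  rw [hcard] at hdvd
  obtain ⟨k, hke, hk⟩ := (Nat.dvd_prime_pow hr.out).mp hdvd
  have hk0 : k ≠ 0 := by
    rintro rfl
    rw [pow_zero] at hk
    have hsub : Subsingleton T := (Nat.card_eq_one_iff_unique.mp hk).1
    have : (⟨b₀, hb₀H⟩ : T) = 0 := Subsingleton.elim _ _
    exact hb₀ (congrArg Subtype.val this)
  have hqd : q ∣ r ^ k - 1 := by
    rw [← Nat.card_eq_fintype_card, hk] at hmod
    exact (Nat.modEq_iff_dvd' (Nat.one_le_pow _ _ hr.out.pos)).mp hmod.symm
  have hek := hmin k hk0 hqd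
  have hkeq : k = e := le_antisymm hke hek
  have htop : T = ⊤ := by
    apply (AddSubgroup.card_eq_iff_eq_top T).mp
    rw [hk, hkeq, hcard]
  intro g hg
  rw [MonoidHom.mem_ker] at hg
  have hgb : g.b ∈ T := by rw [htop]; trivial
  have : g = ⟨1, g.b⟩ := by
    ext
    · exact congrArg Units.val hg
    · rfl
  rw [this]
  exact hgb


section Frob

variable [Finite E] (r q e : ℕ) [hr : Fact r.Prime] [hq : Fact q.Prime] [CharP E r]
  (hrq : r ≠ q) (hcard : Nat.card E = r ^ e) (hmin : ∀ k : ℕ, k ≠ 0 → q ∣ r ^ k - 1 → e ≤ k)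
  (a₀ : Eˣ) (ha₀ : orderOf a₀ = q)

include hrq hcard hmin ha₀

theorem a_pow_eq_one_of_mem (g : Aff E) (hg : g ∈ Aff.sub a₀) : g.a ^ q = 1 := by
  have h1 : orderOf g.a ∣ orderOf a₀ := orderOf_dvd_of_mem_zpowers hg
  rw [ha₀] at h1
  exact orderOf_dvd_iff_pow_eq_one.mp h1

theorem trans_pow_r (b : E) : (⟨1, b⟩ : Aff E) ^ r = 1 := by
  rw [Aff.trans_pow]
  ext
  · simp
  · simp

/-- a subgroup of the minimal Frobenius group whose order is divisible by both primes is
everything. -/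
theorem eq_top_of_dvd_card (H : Subgroup (Aff.sub a₀)) (h1 : r ∣ Nat.card H)
    (h2 : q ∣ Nat.card H) : H = ⊤ := by
  obtain ⟨x, hx⟩ := exists_prime_orderOf_dvd_card' r h1
  obtain ⟨y, hy⟩ := exists_prime_orderOf_dvd_card' q h2
  set H' : Subgroup (Aff E) := H.map (Aff.sub a₀).subtype with hH'
  have hxo : orderOf (x.1.1 : Aff E) = r := by
    rw [Subgroup.orderOf_coe, Subgroup.orderOf_coe, hx]
  have hyo : orderOf (y.1.1 : Aff E) = q := by
    rw [Subgroup.orderOf_coe, Subgroup.orderOf_coe, hy]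
  have hxH : (x.1.1 : Aff E) ∈ H' := ⟨x.1, x.2, rfl⟩
  have hyH : (y.1.1 : Aff E) ∈ H' := ⟨y.1, y.2, rfl⟩
  have hxa : (x.1.1 : Aff E).a = 1 := by
    by_contra hne
    have h3 := Aff.orderOf_of_a_ne_one _ hne
    have h4 : orderOf (x.1.1 : Aff E).a ∣ orderOf a₀ := orderOf_dvd_of_mem_zpowers x.1.2
    rw [← h3, hxo, ha₀] at h4
    exact hrq ((Nat.prime_dvd_prime_iff_eq hr.out hq.out).mp h4)
  have hya : (y.1.1 : Aff E).a ≠ 1 := by
    intro h
    have h3 : (y.1.1 : Aff E) = ⟨1, (y.1.1 : Aff E).b⟩ := by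
      ext
      · exact congrArg Units.val h
      · rfl
    have h4 : (y.1.1 : Aff E) ^ r = 1 := by
      rw [h3]; exact trans_pow_r r q e hrq hcard hmin a₀ ha₀ _
    have h5 := orderOf_dvd_of_pow_eq_one h4
    rw [hyo] at h5
    exact hrq ((Nat.prime_dvd_prime_iff_eq hq.out hr.out).mp h5).symm
  have hxb : (x.1.1 : Aff E).b ≠ 0 := by
    intro h
    have h3 : (x.1.1 : Aff E) = 1 := by
      ext
      · exact congrArg Units.val hxa
      · exact h
    rw [h3, orderOf_one] at hxo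
    exact hr.out.one_lt.ne hxo
  have hxeq : (x.1.1 : Aff E) = ⟨1, (x.1.1 : Aff E).b⟩ := by
    ext
    · exact congrArg Units.val hxa
    · rfl
  have hker : (Aff.fst : Aff E →* Eˣ).ker ≤ H' := by
    refine ker_fst_le_of_stable r q e hcard hmin H' (y.1.1 : Aff E).a hya
      (a_pow_eq_one_of_mem r q e hrq hcard hmin a₀ ha₀ _ y.1.2) ?_ _ hxb (hxeq ▸ hxH)
    intro b hb
    rw [← conj_trans]
    exact H'.mul_mem (H'.mul_mem hyH hb) (H'.inv_mem hyH)
  have hc1 : Nat.card H' = Nat.card H :=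
    Subgroup.card_map_of_injective (Aff.sub a₀).subtype_injective
  have hd1 : r ^ e ∣ Nat.card H := by
    rw [← hc1, ← hcard, ← card_ker_fst]
    exact Subgroup.card_dvd_of_le hker
  have hcop : Nat.Coprime (r ^ e) q :=
    Nat.Coprime.pow_left _ ((Nat.coprime_primes hr.out hq.out).mpr hrq)
  have hd2 : r ^ e * q ∣ Nat.card H := hcop.mul_dvd_of_dvd_of_dvd hd1 h2
  have hd3 : Nat.card (Aff.sub a₀) ∣ Nat.card H := by
    rw [card_sub, ha₀, hcard, mul_comm]; exact hd2
  exact (Subgroup.card_eq_iff_eq_top H).mp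
    (Nat.dvd_antisymm (Subgroup.card_subgroup_dvd_card H) hd3)

/-- a non-trivial normal subgroup of the minimal Frobenius group contains the kernel. -/
theorem card_dvd_of_normal (N : Subgroup (Aff.sub a₀)) [hN : N.Normal] (hne : N ≠ ⊥) :
    r ^ e ∣ Nat.card N := by
  set N' : Subgroup (Aff E) := N.map (Aff.sub a₀).subtype with hN'
  have hconj : ∀ g : Aff E, g ∈ Aff.sub a₀ → ∀ n : Aff E, n ∈ N' → g * n * g⁻¹ ∈ N' := by
    rintro g hg n ⟨n₀, hn₀, rfl⟩
    exact ⟨⟨g, hg⟩ * n₀ * ⟨g, hg⟩⁻¹, hN.conj_mem n₀ hn₀ ⟨g, hg⟩, rfl⟩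
  obtain ⟨n, hn, hn1⟩ := N.bot_or_exists_ne_one.resolve_left hne
  have hnN : (n.1 : Aff E) ∈ N' := ⟨n, hn, rfl⟩
  have ha1 : a₀ ≠ 1 := by
    rintro rfl
    rw [orderOf_one] at ha₀
    exact hq.out.one_lt.ne ha₀
  have haq : a₀ ^ q = 1 := by rw [← ha₀]; exact pow_orderOf_eq_one a₀
  -- a nonzero translation in N'
  obtain ⟨b, hb0, hbN⟩ : ∃ b : E, b ≠ 0 ∧ (⟨1, b⟩ : Aff E) ∈ N' := by
    by_cases hna : (n.1 : Aff E).a = 1
    · refine ⟨(n.1 : Aff E).b, ?_, ?_⟩
      · intro h
        apply hn1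
        apply Subtype.ext
        ext
        · exact congrArg Units.val hna
        · exact h
      · have : (n.1 : Aff E) = ⟨1, (n.1 : Aff E).b⟩ := by
          ext
          · exact congrArg Units.val hna
          · rfl
        rw [← this]; exact hnN
    · refine ⟨1 - ((n.1 : Aff E).a : E), ?_, ?_⟩
      · intro h
        apply hna
        apply Units.ext
        rw [Units.val_one]
        exact (sub_eq_zero.mp h).symm
      · have ht : (⟨1, 1⟩ : Aff E) ∈ Aff.sub a₀ := by
          rw [Aff.mem_sub]; exact Subgroup.one_mem _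
        have h3 := N'.mul_mem (hconj _ ht _ hnN) (N'.inv_mem hnN)
        have h4 : (⟨1, 1⟩ : Aff E) * n.1 * (⟨1, 1⟩ : Aff E)⁻¹ * (n.1 : Aff E)⁻¹ =
            ⟨1, 1 - ((n.1 : Aff E).a : E)⟩ := by
          ext
          · simp
          · simp only [Aff.mul_b, Aff.mul_a, Aff.inv_b, Aff.inv_a, one_mul, inv_one, Units.val_one,
              mul_one]
            have : ((n.1 : Aff E).a : E) * (-(((n.1 : Aff E).a⁻¹ : Eˣ) : E) * (n.1 : Aff E).b) =
                - (n.1 : Aff E).b := by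
              rw [neg_mul, mul_neg, ← mul_assoc, ← Units.val_mul, mul_inv_cancel, Units.val_one,
                one_mul]
            rw [this]
            ring
        rw [h4] at h3
        exact h3
  have hker : (Aff.fst : Aff E →* Eˣ).ker ≤ N' := by
    refine ker_fst_le_of_stable r q e hcard hmin N' a₀ ha1 haq ?_ b hb0 hbN
    intro c hc
    have hmem : (⟨a₀, 0⟩ : Aff E) ∈ Aff.sub a₀ := by
      rw [Aff.mem_sub]; exact Subgroup.mem_zpowers a₀
    have := hconj _ hmem _ hc
    rw [conj_trans] at this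
    exact this
  have hc1 : Nat.card N' = Nat.card N :=
    Subgroup.card_map_of_injective (Aff.sub a₀).subtype_injective
  rw [← hc1, ← hcard, ← card_ker_fst]
  exact Subgroup.card_dvd_of_le hker

end Frob

end Aff

/-- abstract properties of a minimal Frobenius group `r^e : q`. -/
structure IsMinFrob (X : Type) [Group X] (r q e : ℕ) : Prop where
  card : Nat.card X = r ^ e * q
  spec : Set.range (orderOf : X → ℕ) = {k | k ∣ r ∨ k ∣ q}
  top_of_dvd : ∀ H : Subgroup X, r ∣ Nat.card H → q ∣ Nat.card H → H = ⊤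
  dvd_of_normal : ∀ N : Subgroup X, N.Normal → N ≠ ⊥ → r ^ e ∣ Nat.card N

section Prod

variable {ι : Type} [Fintype ι] [DecidableEq ι] (X : ι → Type) [∀ i, Group (X i)]
  [∀ i, Finite (X i)] (r q e : ι → ℕ) (hr : ∀ i, (r i).Prime) (hq : ∀ i, (q i).Prime)
  (hX : ∀ i, IsMinFrob (X i) (r i) (q i) (e i))
  (hrq : ∀ i, r i ≠ q i)
  (hdisj : ∀ i j, i ≠ j → r i ≠ r j ∧ r i ≠ q j ∧ q i ≠ r j ∧ q i ≠ q j)

/-- the spectrum set. -/
def specSet : Set ℕ :=
  {m : ℕ | ∃ c : ι → ℕ, (∀ i, c i = 1 ∨ c i = r i ∨ c i = q i) ∧ m = ∏ i, c i}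

include hr hq hX hrq hdisj

theorem coprime_card {i j : ι} (hij : i ≠ j) :
    Nat.Coprime (Nat.card (X i)) (Nat.card (X j)) := by
  rw [(hX i).card, (hX j).card]
  obtain ⟨h1, h2, h3, h4⟩ := hdisj i j hij
  have c1 := (Nat.coprime_primes (hr i) (hr j)).mpr h1
  have c2 := (Nat.coprime_primes (hr i) (hq j)).mpr h2
  have c3 := (Nat.coprime_primes (hq i) (hr j)).mpr h3
  have c4 := (Nat.coprime_primes (hq i) (hq j)).mpr h4
  apply Nat.Coprime.mul_left
  · apply Nat.Coprime.mul_right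
    · exact Nat.Coprime.pow _ _ c1
    · exact Nat.Coprime.pow_left _ c2
  · apply Nat.Coprime.mul_right
    · exact Nat.Coprime.pow_right _ c3
    · exact c4

theorem orderOf_pi (x : ∀ i, X i) : orderOf x = ∏ i, orderOf (x i) := by
  rw [Pi.orderOf]
  apply Finset.lcm_eq_prod
  intro i _ j _ hij
  exact Nat.Coprime.of_dvd (orderOf_dvd_natCard _) (orderOf_dvd_natCard _)
    (coprime_card X r q e hr hq hX hrq hdisj hij)

theorem range_orderOf_pi :
    Set.range (orderOf : (∀ i, X i) → ℕ) = specSet r q := by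
  ext m
  constructor
  · rintro ⟨x, rfl⟩
    refine ⟨fun i => orderOf (x i), ?_, orderOf_pi X r q e hr hq hX hrq hdisj x⟩
    intro i
    have h1 : orderOf (x i) ∈ Set.range (orderOf : X i → ℕ) := ⟨_, rfl⟩
    rw [(hX i).spec] at h1
    rcases h1 with h | h
    · rcases (Nat.dvd_prime (hr i)).mp h with h | h
      · exact Or.inl h
      · exact Or.inr (Or.inl h)
    · rcases (Nat.dvd_prime (hq i)).mp h with h | h
      · exact Or.inl h
      · exact Or.inr (Or.inr h)
  · rintro ⟨c, hc, rfl⟩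
    have h2 : ∀ i, ∃ y : X i, orderOf y = c i := by
      intro i
      have h1 : c i ∈ Set.range (orderOf : X i → ℕ) := by
        rw [(hX i).spec]
        rcases hc i with h | h | h
        · left; rw [h]; exact one_dvd _
        · left; rw [h]
        · right; rw [h]
      exact h1
    choose y hy using h2
    refine ⟨y, ?_⟩
    rw [orderOf_pi X r q e hr hq hX hrq hdisj]
    exact Finset.prod_congr rfl (fun i _ => hy i)

theorem r_mem_specSet (j : ι) : r j ∈ specSet r q := by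
  refine ⟨fun i => if i = j then r j else 1, ?_, ?_⟩
  · intro i
    by_cases h : i = j
    · subst h; simp
    · simp [h]
  · simp

theorem q_mem_specSet (j : ι) : q j ∈ specSet r q := by
  refine ⟨fun i => if i = j then q j else 1, ?_, ?_⟩
  · intro i
    by_cases h : i = j
    · subst h; simp
    · simp [h]
  · simp

/-- an element of prime order `ℓ` dividing only `|X j|` is supported at `j`. -/
theorem eq_mulSingle_of_orderOf (j : ι) (ℓ : ℕ) (hℓ : ∀ i, i ≠ j → Nat.Coprime ℓ (Nat.card (X i)))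
    (g : ∀ i, X i) (hg : orderOf g = ℓ) : g = Pi.mulSingle j (g j) := by
  funext i
  by_cases hij : i = j
  · subst hij; simp
  · rw [Pi.mulSingle_eq_of_ne hij]
    have h1 : orderOf (g i) ∣ ℓ := by
      rw [← hg]; exact orderOf_apply_dvd_orderOf i
    have h2 : orderOf (g i) ∣ Nat.card (X i) := orderOf_dvd_natCard _
    have h3 : orderOf (g i) ∣ 1 := by
      rw [← (hℓ i hij)]
      exact Nat.dvd_gcd h1 h2
    exact orderOf_eq_one_iff.mp (Nat.dvd_one.mp h3)

theorem coprime_r_card {i j : ι} (hij : i ≠ j) : Nat.Coprime (r j) (Nat.card (X i)) := by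
  rw [(hX i).card]
  obtain ⟨h1, h2, h3, h4⟩ := hdisj i j hij
  apply Nat.Coprime.mul_right
  · exact Nat.Coprime.pow_right _ ((Nat.coprime_primes (hr j) (hr i)).mpr (Ne.symm h1))
  · exact (Nat.coprime_primes (hr j) (hq i)).mpr (Ne.symm h3)

theorem coprime_q_card {i j : ι} (hij : i ≠ j) : Nat.Coprime (q j) (Nat.card (X i)) := by
  rw [(hX i).card]
  obtain ⟨h1, h2, h3, h4⟩ := hdisj i j hij
  apply Nat.Coprime.mul_right
  · exact Nat.Coprime.pow_right _ ((Nat.coprime_primes (hq j) (hr i)).mpr (Ne.symm h2))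
  · exact (Nat.coprime_primes (hq j) (hq i)).mpr (Ne.symm h4)

/-- Step 1: a subgroup with a quotient having the full spectrum is everything. -/
theorem eq_top_of_spec (H : Subgroup (∀ i, X i)) (N : Subgroup H) [N.Normal]
    (hspec : Set.range (orderOf : H ⧸ N → ℕ) = specSet r q) : H = ⊤ := by
  have key : ∀ (j : ι) (ℓ : ℕ), ℓ.Prime → ℓ ∈ specSet r q →
      (∀ i, i ≠ j → Nat.Coprime ℓ (Nat.card (X i))) →
      ℓ ∣ Nat.card (H.comap (MonoidHom.mulSingle X j)) := by
    intro j ℓ hℓp hℓ hcop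
    rw [← hspec] at hℓ
    obtain ⟨z, hz⟩ := hℓ
    have h1 : ℓ ∣ Nat.card (H ⧸ N) := hz ▸ orderOf_dvd_natCard z
    have h2 : ℓ ∣ Nat.card H := by
      rw [Subgroup.card_eq_card_quotient_mul_card_subgroup N]
      exact Dvd.dvd.mul_right h1 _
    haveI : Fact ℓ.Prime := ⟨hℓp⟩
    obtain ⟨h, hh⟩ := exists_prime_orderOf_dvd_card' ℓ h2
    have hg : orderOf (h : ∀ i, X i) = ℓ := by rw [Subgroup.orderOf_coe, hh]
    have heq := eq_mulSingle_of_orderOf X r q e hr hq hX hrq hdisj j ℓ hcop _ hg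
    have hmem : (h : ∀ i, X i) j ∈ H.comap (MonoidHom.mulSingle X j) := by
      rw [Subgroup.mem_comap]
      show Pi.mulSingle j ((h : ∀ i, X i) j) ∈ H
      rw [← heq]
      exact h.2
    have hord : orderOf ((h : ∀ i, X i) j) = ℓ := by
      rw [← hg]
      conv_rhs => rw [heq]
      exact (orderOf_piMulSingle j _).symm
    rw [← hord]
    exact Subgroup.orderOf_dvd_natCard _ hmem
  have htop : ∀ j, H.comap (MonoidHom.mulSingle X j) = ⊤ := by
    intro j
    apply (hX j).top_of_dvd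
    · exact key j (r j) (hr j) (r_mem_specSet X r q e hr hq hX hrq hdisj j)
        (fun i hij => coprime_r_card X r q e hr hq hX hrq hdisj hij)
    · exact key j (q j) (hq j) (q_mem_specSet X r q e hr hq hX hrq hdisj j)
        (fun i hij => coprime_q_card X r q e hr hq hX hrq hdisj hij)
  rw [eq_top_iff]
  intro x _
  apply Subgroup.pi_mem_of_mulSingle_mem
  intro j
  have : x j ∈ H.comap (MonoidHom.mulSingle X j) := by rw [htop j]; trivial
  exact this


/-- Step 2: a normal subgroup with quotient having the full spectrum is trivial. -/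
theorem eq_bot_of_spec (N : Subgroup (⊤ : Subgroup (∀ i, X i))) [hN : N.Normal]
    (hspec : Set.range (orderOf : (⊤ : Subgroup (∀ i, X i)) ⧸ N → ℕ) = specSet r q) :
    N = ⊥ := by
  by_contra hne
  obtain ⟨n, hn, hn1⟩ := N.bot_or_exists_ne_one.resolve_left hne
  have hn1' : (n.1 : ∀ i, X i) ≠ 1 := fun h => hn1 (Subtype.ext h)
  obtain ⟨j, hj⟩ := Function.ne_iff.mp hn1'
  set N' : Subgroup (∀ i, X i) := N.map (⊤ : Subgroup (∀ i, X i)).subtype with hN'
  haveI hN'n : N'.Normal :=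
    Subgroup.Normal.map hN _ (fun x => ⟨⟨x, Subgroup.mem_top x⟩, rfl⟩)
  have hnN' : (n.1 : ∀ i, X i) ∈ N' := ⟨n, hn, rfl⟩
  set m : ℕ := ∏ i ∈ Finset.univ.erase j, Nat.card (X i) with hm
  have hpow : (n.1 : ∀ i, X i) ^ m = Pi.mulSingle j (((n.1 : ∀ i, X i) j) ^ m) := by
    funext i
    by_cases hij : i = j
    · subst hij; simp
    · rw [Pi.mulSingle_eq_of_ne hij, Pi.pow_apply]
      have hdvd : Nat.card (X i) ∣ m :=
        Finset.dvd_prod_of_mem _ (Finset.mem_erase.mpr ⟨hij, Finset.mem_univ i⟩)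
      obtain ⟨c, hc⟩ := hdvd
      rw [hc, pow_mul, pow_card_eq_one', one_pow]
  have hcopm : Nat.Coprime (Nat.card (X j)) m := by
    apply Nat.Coprime.prod_right
    intro i hi
    exact coprime_card X r q e hr hq hX hrq hdisj (Finset.ne_of_mem_erase hi).symm
  have hy1 : ((n.1 : ∀ i, X i) j) ^ m ≠ 1 := by
    intro h
    have h1 : orderOf ((n.1 : ∀ i, X i) j) ∣ m := orderOf_dvd_of_pow_eq_one h
    have h2 : orderOf ((n.1 : ∀ i, X i) j) ∣ Nat.card (X j) := orderOf_dvd_natCard _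
    have h3 : orderOf ((n.1 : ∀ i, X i) j) ∣ 1 := by
      rw [← hcopm]; exact Nat.dvd_gcd h2 h1
    exact hj (orderOf_eq_one_iff.mp (Nat.dvd_one.mp h3))
  set Nj : Subgroup (X j) := N'.comap (MonoidHom.mulSingle X j) with hNj
  haveI : Nj.Normal := Subgroup.Normal.comap hN'n _
  have hyN : ((n.1 : ∀ i, X i) j) ^ m ∈ Nj := by
    rw [hNj, Subgroup.mem_comap]
    show Pi.mulSingle j (((n.1 : ∀ i, X i) j) ^ m) ∈ N'
    rw [← hpow]
    exact N'.pow_mem hnN' m
  have hNj_ne : Nj ≠ ⊥ := by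
    intro h
    rw [h, Subgroup.mem_bot] at hyN
    exact hy1 hyN
  have hd1 : r j ^ e j ∣ Nat.card Nj := (hX j).dvd_of_normal Nj inferInstance hNj_ne
  have hd2 : Nat.card Nj ∣ Nat.card N' := by
    have h1 : Nat.card (Nj.map (MonoidHom.mulSingle X j)) = Nat.card Nj :=
      Subgroup.card_map_of_injective (Pi.mulSingle_injective j)
    rw [← h1]
    exact Subgroup.card_dvd_of_le (Subgroup.map_comap_le _ _)
  have hc1 : Nat.card N' = Nat.card N :=
    Subgroup.card_map_of_injective (⊤ : Subgroup (∀ i, X i)).subtype_injective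
  have hd3 : r j ^ e j ∣ Nat.card N := hc1 ▸ hd1.trans hd2
  have hrspec := r_mem_specSet X r q e hr hq hX hrq hdisj j
  rw [← hspec] at hrspec
  obtain ⟨z, hz⟩ := hrspec
  have hd4 : r j ∣ Nat.card ((⊤ : Subgroup (∀ i, X i)) ⧸ N) := hz ▸ orderOf_dvd_natCard z
  have hcard : Nat.card (⊤ : Subgroup (∀ i, X i)) = r j ^ e j * (q j * m) := by
    rw [Subgroup.card_top, Nat.card_pi, ← Finset.mul_prod_erase Finset.univ _ (Finset.mem_univ j),
      (hX j).card, mul_assoc]
  have hd5 : r j * r j ^ e j ∣ r j ^ e j * (q j * m) := by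
    rw [← hcard, Subgroup.card_eq_card_quotient_mul_card_subgroup N]
    exact Nat.mul_dvd_mul hd4 hd3
  rw [mul_comm (r j)] at hd5
  have hd6 : r j ∣ q j * m :=
    (Nat.mul_dvd_mul_iff_left (pow_pos (hr j).pos _)).mp hd5
  have hcop1 : Nat.Coprime (r j) (q j) := (Nat.coprime_primes (hr j) (hq j)).mpr (hrq j)
  have hcop2 : Nat.Coprime (r j) m := by
    apply Nat.Coprime.prod_right
    intro i hi
    exact coprime_r_card X r q e hr hq hX hrq hdisj (Finset.ne_of_mem_erase hi)
  have hd7 : r j ∣ 1 := by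
    have := (Nat.Coprime.mul_right hcop1 hcop2)
    rw [← this]
    exact Nat.dvd_gcd dvd_rfl hd6
  exact (hr j).one_lt.ne' (Nat.dvd_one.mp hd7)

/-- criticality of the product. -/
theorem critical (H : Subgroup (∀ i, X i)) (N : Subgroup H) [hNn : N.Normal]
    (hspec : Set.range (orderOf : H ⧸ N → ℕ) = specSet r q) : H = ⊤ ∧ N = ⊥ := by
  have h1 := eq_top_of_spec X r q e hr hq hX hrq hdisj H N hspec
  subst h1
  exact ⟨rfl, eq_bot_of_spec X r q e hr hq hX hrq hdisj N hspec⟩

theorem card_pi_frob : Nat.card (∀ i, X i) = ∏ i, r i ^ e i * q i := by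
  rw [Nat.card_pi]
  exact Finset.prod_congr rfl (fun i _ => (hX i).card)

end Prod


section FrDef

/-- the multiplicative order of `r` modulo `q`. -/
noncomputable def expo (r q : ℕ) : ℕ := orderOf ((r : ZMod q))

theorem expo_facts {r q : ℕ} (hr : r.Prime) (hq : q.Prime) (hrq : r ≠ q) :
    expo r q ≠ 0 ∧ q ∣ r ^ expo r q - 1 ∧ ∀ k : ℕ, k ≠ 0 → q ∣ r ^ k - 1 → expo r q ≤ k := by
  haveI : Fact q.Prime := ⟨hq⟩
  have hcop : Nat.Coprime r q := (Nat.coprime_primes hr hq).mpr hrq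
  set u : (ZMod q)ˣ := ZMod.unitOfCoprime r hcop with hu
  have hur : ((u : (ZMod q)ˣ) : ZMod q) = (r : ZMod q) := ZMod.coe_unitOfCoprime r hcop
  have hexp : expo r q = orderOf u := by
    unfold expo
    rw [← hur, orderOf_units]
  have hpos : 0 < expo r q := by rw [hexp]; exact orderOf_pos u
  have hone : ∀ k : ℕ, (r : ZMod q) ^ k = 1 ↔ q ∣ r ^ k - 1 := by
    intro k
    have h1 : 1 ≤ r ^ k := Nat.one_le_pow _ _ hr.pos
    rw [← Nat.modEq_iff_dvd' h1, ← ZMod.natCast_eq_natCast_iff]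
    push_cast
    exact eq_comm
  refine ⟨hpos.ne', ?_, ?_⟩
  · rw [← hone]
    exact pow_orderOf_eq_one _
  · intro k hk hdvd
    rw [← hone] at hdvd
    exact Nat.le_of_dvd (Nat.pos_of_ne_zero hk) (orderOf_dvd_of_pow_eq_one hdvd)

/-- the field with `r ^ expo r q` elements. -/
abbrev FrField (r q : ℕ) (hr : r.Prime) : Type := @GaloisField r ⟨hr⟩ (expo r q)

theorem card_FrField (r q : ℕ) (hr : r.Prime) (hq : q.Prime) (hrq : r ≠ q) :
    Nat.card (FrField r q hr) = r ^ expo r q :=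
  @GaloisField.card r ⟨hr⟩ (expo r q) (expo_facts hr hq hrq).1

theorem exists_gen (r q : ℕ) (hr : r.Prime) (hq : q.Prime) (hrq : r ≠ q) :
    ∃ a : (FrField r q hr)ˣ, orderOf a = q := by
  apply exists_unit_orderOf _ q _ hq.pos
  rw [card_FrField r q hr hq hrq]
  exact (expo_facts hr hq hrq).2.1

/-- a unit of order `q`. -/
noncomputable def gen (r q : ℕ) (hr : r.Prime) (hq : q.Prime) (hrq : r ≠ q) :
    (FrField r q hr)ˣ := Classical.choose (exists_gen r q hr hq hrq)

theorem orderOf_gen (r q : ℕ) (hr : r.Prime) (hq : q.Prime) (hrq : r ≠ q) :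
    orderOf (gen r q hr hq hrq) = q :=
  Classical.choose_spec (exists_gen r q hr hq hrq)

/-- the minimal Frobenius group `r ^ e : q`. -/
def Fr (r q : ℕ) (hr : r.Prime) (hq : q.Prime) (hrq : r ≠ q) : Type :=
  ↥(Aff.sub (gen r q hr hq hrq))

noncomputable instance (r q : ℕ) (hr : r.Prime) (hq : q.Prime) (hrq : r ≠ q) :
    Group (Fr r q hr hq hrq) := by unfold Fr; infer_instance

instance (r q : ℕ) (hr : r.Prime) (hq : q.Prime) (hrq : r ≠ q) :
    Finite (Fr r q hr hq hrq) := by unfold Fr; infer_instance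

theorem isMinFrob_Fr (r q : ℕ) (hr : r.Prime) (hq : q.Prime) (hrq : r ≠ q) :
    IsMinFrob (Fr r q hr hq hrq) r q (expo r q) := by
  haveI : Fact r.Prime := ⟨hr⟩
  haveI : Fact q.Prime := ⟨hq⟩
  have hc := card_FrField r q hr hq hrq
  have hm := (expo_facts hr hq hrq).2.2
  have ho := orderOf_gen r q hr hq hrq
  refine ⟨?_, ?_, ?_, ?_⟩
  · show Nat.card (Aff.sub (gen r q hr hq hrq)) = _
    rw [card_sub, ho, hc, mul_comm]
  · show Set.range (orderOf : Aff.sub (gen r q hr hq hrq) → ℕ) = _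
    rw [Aff.spectrum_sub r, ho]
  · intro H h1 h2
    exact eq_top_of_dvd_card r q (expo r q) hrq hc hm _ ho H h1 h2
  · intro N hN hne
    exact card_dvd_of_normal r q (expo r q) hrq hc hm _ ho N (hN := hN) hne

end FrDef

section Assembly

theorem fin2_rev_ne (x : Fin 2) : x ≠ x.rev := by
  fin_cases x <;> decide

theorem fin2_eq_rev_of_ne {x y : Fin 2} (h : x ≠ y) : y = x.rev := by
  fin_cases x <;> fin_cases y <;> first | (exfalso; exact h rfl) | rfl

theorem fin2_or_iff (x : Fin 2) (f : Fin 2 → ℕ) (t : ℕ) :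
    (t = 1 ∨ t = f x ∨ t = f x.rev) ↔ (t = 1 ∨ t = f 0 ∨ t = f 1) := by
  fin_cases x
  · exact Iff.rfl
  · show (t = 1 ∨ t = f 1 ∨ t = f 0) ↔ _
    tauto

variable (s : ℕ) (p : Fin s → Fin 2 → ℕ) (hp : ∀ j i, (p j i).Prime)
  (hinj : ∀ j i j' i', p j i = p j' i' → j = j' ∧ i = i')

include hinj in
theorem p_ne_rev (b : Fin s → Fin 2) (j : Fin s) : p j (b j) ≠ p j (b j).rev := fun h =>
  fin2_rev_ne (b j) (hinj _ _ _ _ h).2

/-- the product of minimal Frobenius groups attached to a choice of bits. -/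
def GG (b : Fin s → Fin 2) : Type :=
  ∀ j : Fin s, Fr (p j (b j)) (p j (b j).rev) (hp j _) (hp j _) (p_ne_rev s p hinj b j)

noncomputable instance (b : Fin s → Fin 2) : Group (GG s p hp hinj b) := by
  unfold GG; infer_instance

instance (b : Fin s → Fin 2) : Finite (GG s p hp hinj b) := by
  unfold GG; infer_instance

include hinj in
theorem disj (b : Fin s → Fin 2) (i j : Fin s) (hij : i ≠ j) :
    p i (b i) ≠ p j (b j) ∧ p i (b i) ≠ p j (b j).rev ∧ p i (b i).rev ≠ p j (b j) ∧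
      p i (b i).rev ≠ p j (b j).rev :=
  ⟨fun h => hij (hinj _ _ _ _ h).1, fun h => hij (hinj _ _ _ _ h).1,
    fun h => hij (hinj _ _ _ _ h).1, fun h => hij (hinj _ _ _ _ h).1⟩

/-- the target spectrum. -/
def Om : Set ℕ :=
  {m : ℕ | ∃ c : Fin s → ℕ, (∀ j, c j = 1 ∨ c j = p j 0 ∨ c j = p j 1) ∧ m = ∏ j, c j}

theorem specSet_eq_Om (b : Fin s → Fin 2) :
    specSet (fun j => p j (b j)) (fun j => p j (b j).rev) = Om s p := by
  ext m
  constructor
  · rintro ⟨c, hc, rfl⟩
    exact ⟨c, fun j => (fin2_or_iff (b j) (p j) (c j)).mp (hc j), rfl⟩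
  · rintro ⟨c, hc, rfl⟩
    exact ⟨c, fun j => (fin2_or_iff (b j) (p j) (c j)).mpr (hc j), rfl⟩

theorem GG_spec (b : Fin s → Fin 2) :
    Set.range (orderOf : GG s p hp hinj b → ℕ) = Om s p := by
  rw [← specSet_eq_Om s p b]
  exact range_orderOf_pi
    (fun j => Fr (p j (b j)) (p j (b j).rev) (hp j _) (hp j _) (p_ne_rev s p hinj b j))
    (fun j => p j (b j)) (fun j => p j (b j).rev) (fun j => expo (p j (b j)) (p j (b j).rev))
    (fun j => hp j _) (fun j => hp j _) (fun j => isMinFrob_Fr _ _ _ _ _)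
    (fun j => p_ne_rev s p hinj b j) (disj s p hinj b)

theorem GG_critical (b : Fin s → Fin 2) (H : Subgroup (GG s p hp hinj b)) (N : Subgroup H)
    [hN : N.Normal] (hspec : Set.range (orderOf : H ⧸ N → ℕ) = Om s p) : H = ⊤ ∧ N = ⊥ := by
  rw [← specSet_eq_Om s p b] at hspec
  exact critical
    (fun j => Fr (p j (b j)) (p j (b j).rev) (hp j _) (hp j _) (p_ne_rev s p hinj b j))
    (fun j => p j (b j)) (fun j => p j (b j).rev) (fun j => expo (p j (b j)) (p j (b j).rev))
    (fun j => hp j _) (fun j => hp j _) (fun j => isMinFrob_Fr _ _ _ _ _)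
    (fun j => p_ne_rev s p hinj b j) (disj s p hinj b) H N (hNn := hN) hspec

theorem GG_card (b : Fin s → Fin 2) :
    Nat.card (GG s p hp hinj b) =
      ∏ j, p j (b j) ^ expo (p j (b j)) (p j (b j).rev) * p j (b j).rev :=
  card_pi_frob
    (fun j => Fr (p j (b j)) (p j (b j).rev) (hp j _) (hp j _) (p_ne_rev s p hinj b j))
    (fun j => p j (b j)) (fun j => p j (b j).rev) (fun j => expo (p j (b j)) (p j (b j).rev))
    (fun j => hp j _) (fun j => hp j _) (fun j => isMinFrob_Fr _ _ _ _ _)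
    (fun j => p_ne_rev s p hinj b j) (disj s p hinj b)

theorem fact_term (r q e P : ℕ) (hr : r.Prime) (hq : q.Prime) :
    (r ^ e * q).factorization P = e * (if r = P then 1 else 0) + (if q = P then 1 else 0) := by
  rw [Nat.factorization_mul (pow_ne_zero _ hr.ne_zero) hq.ne_zero, Nat.factorization_pow,
    hr.factorization, hq.factorization]
  simp [Finsupp.single_apply]

theorem factorization_card (b : Fin s → Fin 2) (j : Fin s) (P : ℕ) :
    (Nat.card (GG s p hp hinj b)).factorization P =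
      expo (p j (b j)) (p j (b j).rev) * (if p j (b j) = P then 1 else 0) +
        (if p j (b j).rev = P then 1 else 0) +
      ∑ i ∈ Finset.univ.erase j, (expo (p i (b i)) (p i (b i).rev) * (if p i (b i) = P then 1 else 0) +
        (if p i (b i).rev = P then 1 else 0)) := by
  rw [GG_card, Nat.factorization_prod, Finsupp.finset_sum_apply,
    ← Finset.add_sum_erase Finset.univ _ (Finset.mem_univ j)]
  · rw [fact_term _ _ _ _ (hp _ _) (hp _ _)]
    congr 1
    apply Finset.sum_congr rfl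
    intro i _
    rw [fact_term _ _ _ _ (hp _ _) (hp _ _)]
  · intro i _
    exact mul_ne_zero (pow_ne_zero _ (hp _ _).ne_zero) (hp _ _).ne_zero

include hinj in
theorem factorization_card_left (b : Fin s → Fin 2) (j : Fin s) :
    (Nat.card (GG s p hp hinj b)).factorization (p j (b j)) = expo (p j (b j)) (p j (b j).rev) := by
  rw [factorization_card s p hp hinj b j, Finset.sum_eq_zero]
  · rw [if_pos rfl, if_neg (p_ne_rev s p hinj b j).symm]
    simp
  · intro i hi
    have hij := Finset.ne_of_mem_erase hi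
    obtain ⟨h1, h2, h3, h4⟩ := disj s p hinj b i j hij
    rw [if_neg h1, if_neg h3, mul_zero, add_zero]

include hinj in
theorem factorization_card_right (b : Fin s → Fin 2) (j : Fin s) :
    (Nat.card (GG s p hp hinj b)).factorization (p j (b j).rev) = 1 := by
  rw [factorization_card s p hp hinj b j, Finset.sum_eq_zero]
  · rw [if_pos rfl, if_neg (p_ne_rev s p hinj b j)]
    simp
  · intro i hi
    have hij := Finset.ne_of_mem_erase hi
    obtain ⟨h1, h2, h3, h4⟩ := disj s p hinj b i j hij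
    rw [if_neg h2, if_neg h4, mul_zero, add_zero]

include hinj in
theorem card_ne_of_ne (b b' : Fin s → Fin 2) (hbb : b ≠ b') :
    Nat.card (GG s p hp hinj b) ≠ Nat.card (GG s p hp hinj b') := by
  intro heq
  obtain ⟨j, hj⟩ := Function.ne_iff.mp hbb
  have hrev : b' j = (b j).rev := fin2_eq_rev_of_ne hj
  have hrev' : (b' j).rev = b j := by rw [hrev, Fin.rev_rev]
  have e1 := factorization_card_left s p hp hinj b j
  have e2 := factorization_card_right s p hp hinj b' j
  rw [hrev'] at e2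
  rw [heq, e2] at e1
  have e3 := factorization_card_right s p hp hinj b j
  have e4 := factorization_card_left s p hp hinj b' j
  rw [hrev'] at e4
  rw [hrev] at e4
  rw [heq, e4] at e3
  -- e1 : 1 = expo P P', e3 : expo P' P = 1
  have hP := hp j (b j)
  have hP' := hp j (b j).rev
  have hne := p_ne_rev s p hinj b j
  have d1 := (expo_facts hP hP' hne).2.1
  have d2 := (expo_facts hP' hP hne.symm).2.1
  rw [← e1, pow_one] at d1
  rw [e3, pow_one] at d2
  have l1 := Nat.le_of_dvd (by have := hP.two_le; omega) d1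
  have l2 := Nat.le_of_dvd (by have := hP'.two_le; omega) d2
  have := hP.two_le
  omega

include hp hinj in
/-- S3599: `2 ^ s` pairwise non-isomorphic critical groups. -/
theorem exists_critical_family :
    ∃ (G : Fin (2 ^ s) → Type) (_ : ∀ a, Group (G a)) (_ : ∀ a, Fintype (G a)),
      (∀ a b, a ≠ b → ¬ Nonempty (G a ≃* G b)) ∧
      ∀ a, Set.range (orderOf : (G a) → ℕ) = {m : ℕ | ∃ c : Fin s → ℕ,
          (∀ j, c j = 1 ∨ c j = p j 0 ∨ c j = p j 1) ∧ m = ∏ j, c j} ∧
        ∀ (H : Subgroup (G a)) (N : Subgroup ↥H) [N.Normal], (H ≠ ⊤ ∨ N ≠ ⊥) →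
          Set.range (orderOf : (↥H ⧸ N) → ℕ) ≠ {m : ℕ | ∃ c : Fin s → ℕ,
            (∀ j, c j = 1 ∨ c j = p j 0 ∨ c j = p j 1) ∧ m = ∏ j, c j} := by
  classical
  refine ⟨fun a => GG s p hp hinj (finFunctionFinEquiv.symm a), fun a => inferInstance,
    fun a => Fintype.ofFinite _, ?_, ?_⟩
  · rintro a b hab ⟨f⟩
    exact card_ne_of_ne s p hp hinj _ _
      (fun h => hab (finFunctionFinEquiv.symm.injective h)) (Nat.card_congr f.toEquiv)
  · intro a
    refine ⟨GG_spec s p hp hinj _, ?_⟩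
    intro H N hN hne hspec
    obtain ⟨h1, h2⟩ := GG_critical s p hp hinj _ H N hspec
    rcases hne with h | h
    · exact h h1
    · exact h h2

end Assembly

end Cfsg.Agent.Lib.Helper9.FrobCritical
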