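/-
helper9: S4561 leaf (Q1) `kerLam_normal` (planner helper21, `notes/S4561_leaves.lean`).
-/
import Mathlib
import Cfsg.Agent.Lib.Helper21.GagDefs

set_option autoImplicit false

namespace Cfsg.Agent.Lib.Helper9.GagQ1

open RegularWreathProduct Cfsg.Agent.Lib.Helper21.Gag

universe u

variable {G : Type u} [Group G] {n : ℕ} {H : Type u} [Group H] {Z : Subgroup H}
  {lam : H → ℂˣ} {s : G → H} {m : ℕ}

/-- (Q1) `kerLam D` is normal. -/
theorem kerLam_normal (D : GDatum G n H Z lam s m) : (kerLam D).Normal := by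
  constructor
  intro k hk h
  rw [mem_kerLam] at hk ⊢
  exact ⟨D.normal.conj_mem k hk.1 h, by rw [D.lam_conj h k hk.1, hk.2]⟩

end Cfsg.Agent.Lib.Helper9.GagQ1
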