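import Cfsg.Agent.Lib.Helper14.HNx.G100

/-!
S2082 (Out(HN) = 2, owner helper15): LEAF D2 (helper9), exact signature of `notes/S2082_leavesD.lean`:
a permutation of the 100 points of `L100Table` commuting with `Y = π(y)` and `Y' = π(x⁻¹ y x)` is trivial.
`⟨Y, Y'⟩` has the two orbits of length 50 containing 0 and 1 (`orbWords`: for every point a positive word in `Y, Y'`
from 0 or from 1), and the words `stab0` (resp. `stab1`) fix 0 (resp. 1) and have no other common fixed point; all of it
is checked by kernel evaluation on the table.
-/

set_option autoImplicit false
set_option maxRecDepth 100000

namespace Cfsg.Agent.Lib.Helper9.HnO

open Cfsg.Agent.Lib.Helper14.HNx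
open Cfsg.Agent.Lib.Helper28.TC2Upper Cfsg.Agent.Lib.Helper28.TC2Lower

/-- expansion of a positive word in `Y` (`false`), `Y'` (`true`) into a table path -/
def expandW : List Bool → List ℕ
  | [] => []
  | b :: w => (bif b then [0, 2, 1] else [2]) ++ expandW w

/-- the permutation of a positive word (letters applied from left to right) -/
def pwD2 (Y Y' : Equiv.Perm (Fin G100.T.n)) : List Bool → Equiv.Perm (Fin G100.T.n)
  | [] => 1
  | b :: w => pwD2 Y Y' w * (bif b then Y' else Y)

theorem walkT_app (u w : List ℕ) (p : ℕ) : G100.T.walkT (u ++ w) p = G100.T.walkT w (G100.T.walkT u p) := by
  induction u generalizing p with
  | nil => rfl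
  | cons l ls ih =>
    rw [List.cons_append, Table.walkT_cons, Table.walkT_cons, ih]

theorem pwD2_val (Y Y' : Equiv.Perm (Fin G100.T.n))
    (hY : ∀ p : Fin G100.T.n, (Y p).val = G100.T.walkT [2] p.val)
    (hY' : ∀ p : Fin G100.T.n, (Y' p).val = G100.T.walkT [0, 2, 1] p.val) (w : List Bool) (p : Fin G100.T.n) :
    (pwD2 Y Y' w p).val = G100.T.walkT (expandW w) p.val := by
  induction w generalizing p with
  | nil => rfl
  | cons b w ih =>
    show (pwD2 Y Y' w ((bif b then Y' else Y) p)).val = G100.T.walkT ((bif b then [0, 2, 1] else [2]) ++ expandW w) p.val
    rw [ih, walkT_app]
    cases b
    · rw [cond_false, cond_false, hY]
    · rw [cond_true, cond_true, hY']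

theorem pwD2_comm (Y Y' c : Equiv.Perm (Fin G100.T.n)) (h1 : c * Y = Y * c) (h2 : c * Y' = Y' * c)
    (w : List Bool) : c * pwD2 Y Y' w = pwD2 Y Y' w * c := by
  induction w with
  | nil => show c * 1 = 1 * c; rw [mul_one, one_mul]
  | cons b w ih =>
    show c * (pwD2 Y Y' w * (bif b then Y' else Y)) = pwD2 Y Y' w * (bif b then Y' else Y) * c
    have hb : c * (bif b then Y' else Y) = (bif b then Y' else Y) * c := by
      cases b
      · exact h1
      · exact h2
    rw [← mul_assoc, ih, mul_assoc, hb, mul_assoc]

/-- the words of `ws` fix `b` and have no other common fixed point -/
noncomputable def stabChk (b : ℕ) (ws : List (List Bool)) : Bool :=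
  and (ws.all fun w => Nat.beq (G100.T.walkT (expandW w) b) b)
    (allLoop (fun q => or (Nat.beq q b)
      (ws.any fun w => not (Nat.beq (G100.T.walkT (expandW w) q) q))) 100)

/-- every point is the image of 0 or of 1 under its word -/
noncomputable def orbChk (ws : List (List Bool)) : Bool :=
  allLoop (fun q => or (Nat.beq (G100.T.walkT (expandW (ws.getD q [])) 0) q)
    (Nat.beq (G100.T.walkT (expandW (ws.getD q [])) 1) q)) 100

def stab0 : List (List Bool) :=
  [[true, true],
    [false, false, false, false, false, false, false, false, false, false, false, false, false, false, false, false, false, false, false, false, false],
    [true, true, true, true, false, false, true, true, true, true, false, false, true, true, true, true, false, false],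
    [false, false, true, false, false, false, true, false]]

def stab1 : List (List Bool) :=
  [[true, true, true],
    [false, false, true, true, true, true, false, false, true, true, true, true, false, false, true, true, true, true],
    [false, false, true, true, true, false, false, false, true, true, true, false, false, false, true, true, true, false],
    [true, false, true, true, true, false, true, true]]

def orbWords : List (List Bool) :=
  [[],
    [],
    [false],
    [false, false],
    [false],
    [true],
    [true, true],
    [true],
    [true, false],
    [false, true, false, false, false],
    [true, false, true],
    [false, true, false, false, false, true],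
    [true, false],
    [true, false, false, true, false],
    [false, true],
    [false, true],
    [false, false, true, false, false],
    [false, true, false, false],
    [false, false, true],
    [true, false, true, false],
    [false, false, true, false, false, false],
    [false, true, true, false, true],
    [true, false, false],
    [true, false, false, true],
    [false, false, true, false, false, false, false],
    [false, true, false],
    [false, false, true, false],
    [true, false, true, false],
    [false, false, true, true],
    [true, false, true, false, false],
    [false, true, true],
    [true, false, false, false],
    [false, true, true, false],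
    [false, true, false, false, false, true, true],
    [true, false, true],
    [false, false, true, false, true, false],
    [true, false, true, true],
    [true, false, true, false, false],
    [false, false, true, true, false],
    [true, false, true, false, false, false, true, false],
    [false, false, true, false, true],
    [false, true, true, false, false, true],
    [false, true, true, true],
    [false, true, true, false, false],
    [true, false, false, true, true, true, false],
    [true, false, true, true, false, true],
    [false, false, true, false, true, false, false],
    [true, false, true, true, false],
    [false, true, false, false, true],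
    [true, false, true, false, false, false],
    [false, false, true, true, false, false],
    [false, true, false, false, true, false, false, false],
    [true, false, true, false, false, false, true],
    [false, false, true, false, true, false, false, true],
    [true, false, false, true, true, false],
    [false, true, true, false, false, false, false],
    [true, false, true, false, false, true],
    [false, true, true, true, false],
    [false, true, true, true, false, false],
    [true, false, false, true, true],
    [false, true, true, false, false, false],
    [true, false, true, false, false, true, true],
    [false, true, true, false, false, false, true],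
    [true, false, false, true, true, true],
    [true, false, true, true, false, false, false, false],
    [true, false, true, true, false, true, true],
    [false, false, true, false, true, false, false, false],
    [true, false, true, true, false, false],
    [false, true, false, false, true, false],
    [true, false, true, true, false, true, true, false],
    [false, true, false, false, true, true],
    [false, true, false, false, true, true, false],
    [true, false, true, false, false, true],
    [false, false, true, true, false, false, false],
    [false, true, false, false, true, false, false],
    [false, false, true, false, true, false, false, false, false],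
    [true, false, false, true, true, false, false],
    [false, false, true, false, true, true],
    [true, false, false, false, true],
    [true, false, false, false, true, false],
    [false, false, true, false, true, true, true, true],
    [false, true, true, false, false, true, true],
    [true, false, true, true, false, false, false, true],
    [true, false, true, true, false, false, false],
    [true, false, true, true, false, true, true, true],
    [true, false, true, true, false, true, true, true, false],
    [true, false, true, false, false, true, false],
    [false, false, true, false, true, true, false],
    [false, false, true, false, true, true, false, false],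
    [false, false, true, false, true, true, true, false],
    [true, false, true, false, false, true, false, false],
    [false, false, true, false, true, true, true],
    [true, false, true, true, false, true, true, true, false, false],
    [false, false, true, true, false, false, true],
    [true, false, true, true, false, false, true],
    [true, false, true, true, false, false, true, false],
    [false, false, true, true, false, false, true, true],
    [false, false, true, false, true, false, false, false, false, true],
    [true, false, true, false, false, true, false, false, true],
    [false, false, true, false, true, true, false, false, true]]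

theorem stab0_ok : stabChk 0 stab0 = true := by decide +kernel

theorem stab1_ok : stabChk 1 stab1 = true := by decide +kernel

theorem orb_ok : orbChk orbWords = true := by decide +kernel

theorem nat_eq_of_beq {a b : ℕ} (h : Nat.beq a b = true) : a = b := Nat.eq_of_beq_eq_true h

/-- **LEAF D2**: a permutation of the 100 points commuting with `Y = π(y)` and `Y' = π(x⁻¹ y x)` is trivial. -/
theorem D2 (Y Y' c : Equiv.Perm (Fin G100.T.n))
    (hY : ∀ p : Fin G100.T.n, (Y p).val = G100.T.walkT [2] p.val)
    (hY' : ∀ p : Fin G100.T.n, (Y' p).val = G100.T.walkT [0, 2, 1] p.val)
    (h1 : c * Y = Y * c) (h2 : c * Y' = Y' * c) : c = 1 := by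
  have hval := pwD2_val Y Y' hY hY'
  have hcomm : ∀ (w : List Bool) (p : Fin G100.T.n), c (pwD2 Y Y' w p) = pwD2 Y Y' w (c p) := by
    intro w p
    have := congrArg (fun f : Equiv.Perm (Fin G100.T.n) => f p) (pwD2_comm Y Y' c h1 h2 w)
    simpa [Equiv.Perm.mul_apply] using this
  -- `c` fixes a base point with a good stabiliser
  have hbase : ∀ (b : ℕ) (hb : b < G100.T.n) (ws : List (List Bool)), stabChk b ws = true →
      c ⟨b, hb⟩ = ⟨b, hb⟩ := by
    intro b hb ws h
    unfold stabChk at h
    rw [Bool.and_eq_true, List.all_eq_true, allLoop_eq_true] at h
    obtain ⟨hfix, hothers⟩ := h
    have h3 := hothers (c ⟨b, hb⟩).val (c ⟨b, hb⟩).2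
    rw [Bool.or_eq_true, List.any_eq_true] at h3
    rcases h3 with h3 | ⟨w, hw, hwq⟩
    · exact Fin.ext (nat_eq_of_beq h3)
    · exfalso
      have hwb : pwD2 Y Y' w ⟨b, hb⟩ = ⟨b, hb⟩ := by
        apply Fin.ext
        rw [hval]
        exact nat_eq_of_beq (hfix w hw)
      have h4 : pwD2 Y Y' w (c ⟨b, hb⟩) = c ⟨b, hb⟩ := by rw [← hcomm, hwb]
      have h5 := congrArg Fin.val h4
      rw [hval] at h5
      rw [h5] at hwq
      have : Nat.beq (c ⟨b, hb⟩).val (c ⟨b, hb⟩).val = true := Nat.beq_refl _
      rw [this] at hwq
      exact Bool.noConfusion hwq
  have hc0 : c ⟨0, by decide⟩ = ⟨0, by decide⟩ := hbase 0 (by decide) stab0 stab0_ok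
  have hc1 : c ⟨1, by decide⟩ = ⟨1, by decide⟩ := hbase 1 (by decide) stab1 stab1_ok
  ext q
  have h := orb_ok
  unfold orbChk at h
  rw [allLoop_eq_true] at h
  have hq := h q.val q.2
  rw [Bool.or_eq_true] at hq
  rw [Equiv.Perm.one_apply]
  congr 1
  rcases hq with hq | hq
  · have e : pwD2 Y Y' (orbWords.getD q.val []) ⟨0, by decide⟩ = q := by
      apply Fin.ext
      rw [hval]
      exact nat_eq_of_beq hq
    rw [← e, hcomm, hc0]
  · have e : pwD2 Y Y' (orbWords.getD q.val []) ⟨1, by decide⟩ = q := by
      apply Fin.ext
      rw [hval]
      exact nat_eq_of_beq hq
    rw [← e, hcomm, hc1]

end Cfsg.Agent.Lib.Helper9.HnO
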