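/-
helper9: S4648 leaf (INTCL) `memLocalRing_of_isIntegral` - the local ring at `M` is integrally closed in `ℂ`.
-/
import Mathlib
import Cfsg.Prelude.Def_BlockRank
import Cfsg.Prelude.Def_BrauerPairs
import Cfsg.Agent.Lib.Helper27.SymAlgDefs
import Cfsg.Agent.Lib.Helper27.BlkAlgDefs2
import Cfsg.Agent.Lib.Helper18.BlkAlgB2
import Cfsg.Agent.Lib.Helper18.BlkAlgB3
import Cfsg.Agent.Lib.Helper19.BlkAlgB1
import Cfsg.Agent.Lib.Helper24.BlkAlgB5a

set_option autoImplicit false

namespace Cfsg.Agent.Lib.Helper9.K4INTCL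

open Cfsg Cfsg.Agent.Lib.Helper6 Cfsg.Agent.Lib.Helper24
open Cfsg.Agent.Lib.Helper27.SymAlg Cfsg.Agent.Lib.Helper27.BlkAlg
open Cfsg.Agent.Lib.Helper24.BlkAlgB5a (gmat)

universe u

section ring

variable (M : Ideal AlgInt) [M.IsMaximal]

/-- (INTCL) the local ring at `M` is integrally closed in `ℂ` -/
theorem memLocalRing_of_isIntegral {z : ℂ} (hz : IsIntegral (localSubring M) z) :
    MemLocalRing M z := by
  have h1M : (1 : AlgInt) ∉ M := Ideal.IsPrime.one_notMem inferInstance
  have h0M : (0 : AlgInt) ∈ M := M.zero_mem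
  let ι : AlgInt →+* localSubring M :=
    { toFun := fun a => ⟨(a : ℂ), memLocalRing_of_algInt a h1M⟩
      map_one' := rfl
      map_mul' := fun _ _ => rfl
      map_zero' := rfl
      map_add' := fun _ _ => rfl }
  letI : Algebra AlgInt (localSubring M) := ι.toAlgebra
  haveI : IsScalarTower AlgInt (localSubring M) ℂ := IsScalarTower.of_algebraMap_eq (fun x => rfl)
  haveI : IsLocalization M.primeCompl (localSubring M) := by
    rw [isLocalization_iff]
    refine ⟨?_, ?_, ?_⟩
    · rintro ⟨b, hb⟩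
      have hb0 : (b : ℂ) ≠ 0 := by
        intro h0
        apply hb
        have : b = 0 := Subtype.ext h0
        rw [this]
        exact h0M
      refine IsUnit.of_mul_eq_one (⟨((b : ℂ))⁻¹, ⟨1, b, hb, by simp⟩⟩ : localSubring M) ?_
      apply Subtype.ext
      show (b : ℂ) * ((b : ℂ))⁻¹ = 1
      exact mul_inv_cancel₀ hb0
    · rintro ⟨w, a, b, hb, hab⟩
      have hb0 : (b : ℂ) ≠ 0 := by
        intro h0
        apply hb
        have : b = 0 := Subtype.ext h0
        rw [this]
        exact h0M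
      refine ⟨(a, ⟨b, hb⟩), ?_⟩
      apply Subtype.ext
      show w * (b : ℂ) = (a : ℂ)
      rw [← hab, div_mul_cancel₀ _ hb0]
    · intro x y hxy
      refine ⟨1, ?_⟩
      have : (x : ℂ) = (y : ℂ) := congrArg (fun t : localSubring M => (t : ℂ)) hxy
      have hxy' : x = y := Subtype.ext this
      rw [hxy']
  obtain ⟨⟨m, hm⟩, hmz⟩ :=
    IsIntegral.exists_multiple_integral_of_isLocalization M.primeCompl z hz
  have hmz' : IsIntegral AlgInt ((m : ℂ) * z) := hmz
  have hint : IsIntegral ℤ ((m : ℂ) * z) := isIntegral_trans _ hmz'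
  have hm0 : (m : ℂ) ≠ 0 := by
    intro h0
    apply hm
    have : m = 0 := Subtype.ext h0
    rw [this]
    exact h0M
  refine ⟨⟨(m : ℂ) * z, hint⟩, m, hm, ?_⟩
  show (m : ℂ) * z / (m : ℂ) = z
  rw [mul_comm, mul_div_assoc, div_self hm0, mul_one]

end ring

end Cfsg.Agent.Lib.Helper9.K4INTCL
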