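/-
helper9: S4648 leaf (LIFT) `exists_idem_lift` - idempotents of the group algebra over the residue field lift to
idempotents with local-integer coefficients.

Route (a variant of the planner's, without matrices): `b` := any lift in `O_M[G]` (a finite `O_M`-module), so `b` is
integral over `O_M`: `f(b) = 0`, `f` monic.  `f` splits over `ℂ` with roots integral over `O_M`, hence in `O_M` (INTCL).
`f = f₁ f₀`, `f₁` := the factors `X - ρ` with `ρ ≡ 1`, `f₀` := the others; coprime over `O_M`: `U f₀ + W f₁ = 1`;
`a := (U f₀)(b)` is idempotent, and its reduction is `g(ε) = g(1) ε + g(0) (1 - ε)`, `g = Ū f̄₀`.  From `f̄(ε) = 0`: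
`f̄₁(1) ε = 0` and `f̄₀(0) (1 - ε) = 0` (the other factors `f̄₀(1)`, `f̄₁(0)` are non-zero), so `g(1) ε = ε`, `g(0)(1-ε) = 0`.
-/
import Mathlib
import Cfsg.Prelude.Def_BlockRank
import Cfsg.Prelude.Def_BrauerPairs
import Cfsg.Agent.Lib.Helper27.SymAlgDefs
import Cfsg.Agent.Lib.Helper27.BlkAlgDefs2
import Cfsg.Agent.Lib.Helper18.BlkAlgB2
import Cfsg.Agent.Lib.Helper18.BlkAlgB3
import Cfsg.Agent.Lib.Helper19.BlkAlgB1
import Cfsg.Agent.Lib.Helper24.BlkAlgB5a
import Cfsg.Agent.Lib.Helper9.K4INTCL

set_option autoImplicit false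

namespace Cfsg.Agent.Lib.Helper9.K4LIFT

open Cfsg Cfsg.Agent.Lib.Helper6 Cfsg.Agent.Lib.Helper24
open Cfsg.Agent.Lib.Helper27.SymAlg Cfsg.Agent.Lib.Helper27.BlkAlg
open Cfsg.Agent.Lib.Helper24.BlkAlgB5a (gmat)

universe u

section abstract_part

open Polynomial

variable {R F A B : Type*} [CommRing R] [Field F] [Ring A] [Ring B] [Algebra R A] [Algebra F B]

/-- `aeval` through a semilinear ring homomorphism. -/
theorem map_aeval_semilinear (red : R →+* F) (π : A →+* B)
    (hπ : ∀ r : R, π (algebraMap R A r) = algebraMap F B (red r)) (b : A) (q : R[X]) :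
    π (aeval b q) = aeval (π b) (q.map red) := by
  induction q using Polynomial.induction_on' with
  | add p q hp hq => rw [map_add, map_add, Polynomial.map_add, map_add, hp, hq]
  | monomial n r =>
    rw [aeval_monomial, map_mul, map_pow, hπ, Polynomial.map_monomial, aeval_monomial]

/-- A polynomial in an idempotent, on the idempotent. -/
theorem aeval_idem_mul (ε : B) (hε : ε * ε = ε) (h : F[X]) :
    aeval ε h * ε = h.eval 1 • ε := by
  induction h using Polynomial.induction_on' with
  | add p q hp hq => rw [map_add, add_mul, hp, hq, eval_add, add_smul]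
  | monomial n c =>
    have h1 : ε ^ (n + 1) = ε := IsIdempotentElem.pow_succ_eq n hε
    rw [aeval_monomial, eval_monomial, one_pow, mul_one, mul_assoc, ← pow_succ, h1, Algebra.smul_def]

/-- A polynomial in an idempotent, on the complementary idempotent. -/
theorem aeval_idem_mul_compl (ε : B) (hε : ε * ε = ε) (h : F[X]) :
    aeval ε h * (1 - ε) = h.eval 0 • (1 - ε) := by
  induction h using Polynomial.induction_on' with
  | add p q hp hq => rw [map_add, add_mul, hp, hq, eval_add, add_smul]
  | monomial n c =>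
    rw [aeval_monomial, eval_monomial]
    rcases n with _ | n
    · rw [pow_zero, pow_zero, mul_one, mul_one, Algebra.smul_def]
    · have h1 : ε ^ (n + 1) = ε := IsIdempotentElem.pow_succ_eq n hε
      have h2 : ε ^ (n + 1) * (1 - ε) = 0 := by
        rw [h1, mul_sub, mul_one, hε, sub_self]
      rw [mul_assoc, h2, mul_zero, zero_pow (Nat.succ_ne_zero n), mul_zero, zero_smul]

theorem isCoprime_multiset_prod_left {S : Type*} [CommRing S] (m : Multiset S) (x : S)
    (h : ∀ y ∈ m, IsCoprime y x) : IsCoprime m.prod x := by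
  induction m using Multiset.induction_on with
  | empty =>
    rw [Multiset.prod_zero]
    exact isCoprime_one_left
  | cons a m ih =>
    rw [Multiset.prod_cons]
    exact IsCoprime.mul_left (h a (Multiset.mem_cons_self a m))
      (ih fun y hy => h y (Multiset.mem_cons_of_mem hy))

theorem eval_map_prod_X_sub_C (red : R →+* F) (s : Multiset R) (x : F) :
    ((s.map (fun ρ => (X - C ρ : R[X]))).prod.map red).eval x = (s.map (fun ρ => x - red ρ)).prod := by
  rw [Polynomial.map_multiset_prod, Polynomial.eval_multiset_prod, Multiset.map_map, Multiset.map_map]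
  congr 1
  apply Multiset.map_congr rfl
  intro ρ _
  simp

/-- Lifting an idempotent through a semilinear ring homomorphism, given a split polynomial killing a lift `b`. -/
theorem exists_idem_of_split (red : R →+* F) (hunit : ∀ r : R, red r ≠ 0 → IsUnit r)
    (π : A →+* B) (hπ : ∀ r : R, π (algebraMap R A r) = algebraMap F B (red r))
    (b : A) (s : Multiset R) (hs : aeval b (s.map (fun ρ => (X - C ρ : R[X]))).prod = 0)
    (hε : π b * π b = π b) : ∃ a : A, a * a = a ∧ π a = π b := by
  classical
  set s1 := s.filter (fun ρ => red ρ = 1) with hs1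
  set s0 := s.filter (fun ρ => ¬ red ρ = 1) with hs0
  have hsum : s1 + s0 = s := Multiset.filter_add_not _ s
  set f1 : R[X] := (s1.map (fun ρ => (X - C ρ : R[X]))).prod with hf1
  set f0 : R[X] := (s0.map (fun ρ => (X - C ρ : R[X]))).prod with hf0
  have hf : f1 * f0 = (s.map (fun ρ => (X - C ρ : R[X]))).prod := by
    rw [hf1, hf0, ← Multiset.prod_add, ← Multiset.map_add, hsum]
  have hcop : IsCoprime f0 f1 := by
    apply isCoprime_multiset_prod_left
    intro y hy
    obtain ⟨ρ0, hρ0, rfl⟩ := Multiset.mem_map.mp hy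
    apply IsCoprime.symm
    apply isCoprime_multiset_prod_left
    intro y' hy'
    obtain ⟨ρ1, hρ1, rfl⟩ := Multiset.mem_map.mp hy'
    apply Polynomial.isCoprime_X_sub_C_of_isUnit_sub
    apply hunit
    rw [map_sub, (Multiset.mem_filter.mp hρ1).2]
    intro h0
    exact (Multiset.mem_filter.mp hρ0).2 (sub_eq_zero.mp h0).symm
  obtain ⟨U, W, hUW⟩ := hcop
  refine ⟨aeval b (U * f0), ?_, ?_⟩
  · have h1 : aeval b (U * f0) * aeval b (W * f1) = 0 := by
      rw [← map_mul]
      have : U * f0 * (W * f1) = U * W * (f1 * f0) := by ring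
      rw [this, hf, map_mul, hs, mul_zero]
    have h2 : aeval b (W * f1) = 1 - aeval b (U * f0) := by
      rw [eq_sub_iff_add_eq, ← map_add, add_comm, hUW, map_one]
    rw [h2, mul_sub, mul_one, sub_eq_zero] at h1
    exact h1.symm
  · have key := map_aeval_semilinear red π hπ b
    rw [key]
    set ε := π b with hεdef
    set g : F[X] := (U * f0).map red with hg
    have hsplit : aeval ε g = aeval ε g * ε + aeval ε g * (1 - ε) := by
      rw [← mul_add, add_sub_cancel, mul_one]
    rw [hsplit, aeval_idem_mul ε hε, aeval_idem_mul_compl ε hε]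
    have hfε : aeval ε ((f1 * f0).map red) = 0 := by
      rw [← key, hf, hs, map_zero]
    have e1 := aeval_idem_mul ε hε ((f1 * f0).map red)
    have e0 := aeval_idem_mul_compl ε hε ((f1 * f0).map red)
    rw [hfε, zero_mul, Polynomial.map_mul, eval_mul] at e1 e0
    have hf0_1 : (f0.map red).eval 1 ≠ 0 := by
      rw [hf0, eval_map_prod_X_sub_C]
      apply Multiset.prod_ne_zero
      intro h0
      obtain ⟨ρ, hρ, h⟩ := Multiset.mem_map.mp h0
      exact (Multiset.mem_filter.mp hρ).2 (sub_eq_zero.mp h).symm
    have hf1_0 : (f1.map red).eval 0 ≠ 0 := by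
      rw [hf1, eval_map_prod_X_sub_C]
      apply Multiset.prod_ne_zero
      intro h0
      obtain ⟨ρ, hρ, h⟩ := Multiset.mem_map.mp h0
      rw [(Multiset.mem_filter.mp hρ).2] at h
      exact one_ne_zero (sub_eq_zero.mp h).symm
    have hf1_1ε : (f1.map red).eval 1 • ε = 0 := by
      have h3 : (f0.map red).eval 1 • ((f1.map red).eval 1 • ε) = 0 := by
        rw [smul_smul, mul_comm]
        exact e1.symm
      rw [← inv_smul_smul₀ hf0_1 ((f1.map red).eval 1 • ε), h3, smul_zero]
    have hf0_0ε : (f0.map red).eval 0 • (1 - ε) = 0 := by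
      have h3 : (f1.map red).eval 0 • ((f0.map red).eval 0 • (1 - ε)) = 0 := by
        rw [smul_smul]
        exact e0.symm
      rw [← inv_smul_smul₀ hf1_0 ((f0.map red).eval 0 • (1 - ε)), h3, smul_zero]
    have hg1 : g.eval 1 • ε = ε := by
      have h4 : g = 1 - (W * f1).map red := by
        rw [eq_sub_iff_add_eq, hg, ← Polynomial.map_add, hUW, Polynomial.map_one]
      rw [h4, eval_sub, eval_one, sub_smul, one_smul, Polynomial.map_mul, eval_mul, mul_smul, hf1_1ε,
        smul_zero, sub_zero]
    have hg0 : g.eval 0 • (1 - ε) = 0 := by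
      rw [hg, Polynomial.map_mul, eval_mul, mul_smul, hf0_0ε, smul_zero]
    rw [hg1, hg0, add_zero]

end abstract_part

section ring

variable (M : Ideal AlgInt) [M.IsMaximal]

open Polynomial in
/-- A monic polynomial over the local ring splits there. -/
theorem exists_roots_multiset (f : (localSubring M)[X]) (hf : f.Monic) :
    ∃ s : Multiset (localSubring M), f = (s.map (fun ρ => (X - C ρ : (localSubring M)[X]))).prod := by
  set ι : localSubring M →+* ℂ := (localSubring M).subtype with hι
  have hinj : Function.Injective ι := Subtype.coe_injective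
  set f' : ℂ[X] := f.map ι with hf'def
  have hf' : f'.Monic := hf.map ι
  have hsplit : f'.Splits := IsAlgClosed.splits f'
  have hprod : f' = (f'.roots.map (fun ρ => (X - C ρ : ℂ[X]))).prod := hsplit.eq_prod_roots_of_monic hf'
  have hmem : ∀ ρ ∈ f'.roots, MemLocalRing M ρ := by
    intro ρ hρ
    apply Cfsg.Agent.Lib.Helper9.K4INTCL.memLocalRing_of_isIntegral M
    refine ⟨f, hf, ?_⟩
    have h1 := (Polynomial.mem_roots hf'.ne_zero).mp hρ
    rw [IsRoot.def, hf'def, eval_map] at h1
    exact h1
  refine ⟨f'.roots.attach.map (fun ρ => (⟨ρ.1, hmem ρ.1 ρ.2⟩ : localSubring M)), ?_⟩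
  apply Polynomial.map_injective ι hinj
  rw [Polynomial.map_multiset_prod, Multiset.map_map, Multiset.map_map]
  have h2 : (f'.roots.attach.map
      ((Polynomial.map ι ∘ fun ρ => (X - C ρ : (localSubring M)[X])) ∘
        fun ρ => (⟨ρ.1, hmem ρ.1 ρ.2⟩ : localSubring M))) =
      (f'.roots.attach.map Subtype.val).map (fun ρ => (X - C ρ : ℂ[X])) := by
    rw [Multiset.map_map]
    apply Multiset.map_congr rfl
    intro ρ _
    simp [hι]
  rw [h2, Multiset.attach_map_val]
  exact hprod

/-- (LIFT) idempotents of the group algebra over the residue field lift to idempotents with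
local-integer coefficients -/
theorem exists_idem_lift {p : ℕ} (hM : IsPModular p M) {G : Type u} [Group G] [Fintype G]
    (ε : MonoidAlgebra (ResField M) G) (hε : ε * ε = ε) :
    ∃ a : G → ℂ, (∀ g, MemLocalRing M (a g)) ∧ conv a a = a ∧ redFun M a = ε := by
  classical
  -- the ring homomorphism
  set π : MonoidAlgebra (localSubring M) G →+* MonoidAlgebra (ResField M) G :=
    MonoidAlgebra.mapRingHom G (red M) with hπdef
  -- the bridge to coefficient functions
  have hbridge_mem : ∀ (x : MonoidAlgebra (localSubring M) G) (g : G),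
      MemLocalRing M ((x.coeff g : localSubring M) : ℂ) := fun x g => (x.coeff g).2
  have hbridge_red : ∀ x : MonoidAlgebra (localSubring M) G,
      redFun M (fun g => ((x.coeff g : localSubring M) : ℂ)) = π x := by
    intro x
    apply MonoidAlgebra.ext
    apply Finsupp.ext
    intro g
    rw [Cfsg.Agent.Lib.Helper18.BlkAlgB2.coeff_redFun, redC_of_mem M (hbridge_mem x g), hπdef,
      MonoidAlgebra.coeff_mapRingHom]
  have hbridge_mul : ∀ x y : MonoidAlgebra (localSubring M) G,
      conv (fun g => ((x.coeff g : localSubring M) : ℂ)) (fun g => ((y.coeff g : localSubring M) : ℂ)) =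
        fun g => (((x * y).coeff g : localSubring M) : ℂ) := by
    intro x y
    funext g
    rw [MonoidAlgebra.coeff_mul_apply_left, Finsupp.sum_fintype _ _ (fun i => zero_mul _)]
    unfold conv
    push_cast
    rfl
  -- a lift of ε
  obtain ⟨b, hb⟩ : ∃ b : MonoidAlgebra (localSubring M) G, π b = ε := by
    refine ⟨∑ g : G, MonoidAlgebra.single g (Function.surjInv (red_surjective M) (ε.coeff g)), ?_⟩
    apply MonoidAlgebra.ext
    apply Finsupp.ext
    intro g
    rw [hπdef, MonoidAlgebra.coeff_mapRingHom, MonoidAlgebra.coeff_sum, Finsupp.finsetSum_apply]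
    simp only [MonoidAlgebra.coeff_single, Finsupp.single_apply]
    rw [Finset.sum_ite_eq' Finset.univ g]
    simp only [Finset.mem_univ, if_true]
    exact Function.surjInv_eq (red_surjective M) (ε.coeff g)
  -- `b` is integral
  haveI : Module.Finite (localSubring M) (MonoidAlgebra (localSubring M) G) := inferInstance
  have hint : IsIntegral (localSubring M) b := Algebra.IsIntegral.isIntegral b
  obtain ⟨f, hfm, hfb⟩ := hint
  obtain ⟨s, hs⟩ := exists_roots_multiset M f hfm
  have hfb' : Polynomial.aeval b
      (s.map (fun ρ => (Polynomial.X - Polynomial.C ρ : Polynomial (localSubring M)))).prod = 0 := by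
    rw [← hs]
    exact hfb
  have hunit : ∀ r : localSubring M, red M r ≠ 0 → IsUnit r := by
    intro r hr
    have hr' : ¬ MemLocalIdeal M (r : ℂ) := fun h => hr ((red_eq_zero_iff M r).mpr h)
    have hinv : MemLocalRing M ((r : ℂ)⁻¹) := memLocalRing_inv r.2 hr'
    have hr0 : (r : ℂ) ≠ 0 := by
      intro h0
      apply hr'
      rw [h0]
      exact memLocalIdeal_zero (M := M) (Ideal.IsPrime.one_notMem inferInstance)
    refine IsUnit.of_mul_eq_one (⟨(r : ℂ)⁻¹, hinv⟩ : localSubring M) ?_
    apply Subtype.ext
    show (r : ℂ) * (r : ℂ)⁻¹ = 1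
    exact mul_inv_cancel₀ hr0
  have hπalg : ∀ r : localSubring M,
      π (algebraMap (localSubring M) (MonoidAlgebra (localSubring M) G) r) =
        algebraMap (ResField M) (MonoidAlgebra (ResField M) G) (red M r) := by
    intro r
    rw [hπdef, MonoidAlgebra.coe_algebraMap, MonoidAlgebra.coe_algebraMap]
    simp
  obtain ⟨a, haa, hab⟩ := exists_idem_of_split (red M) hunit π hπalg b s hfb' (by rw [hb]; exact hε)
  refine ⟨fun g => ((a.coeff g : localSubring M) : ℂ), hbridge_mem a, ?_, ?_⟩
  · rw [hbridge_mul a a, haa]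
  · rw [hbridge_red a, hab, hb]

end ring

end Cfsg.Agent.Lib.Helper9.K4LIFT
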