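/-
helper9: S4637 leaf (L4) `card_eq_four_of_major_involution` (planner helper27, statement frozen in
`notes/S4637_leaves.lean`): a `2`-block of defect `2` with a major subsection `(z, b)`, `z` an
involution, `l(b) = 1`, has exactly four irreducible characters.
Proof: the generalized decomposition numbers `n_χ` at `z` are rational integers (`z` is central of
order `2` in `C`), `∑ n_χ² = Cm`, `Cm * C' = 4`, `n_χ C' n_ψ / 2^{h ψ}` is a local unit for `χ` of
height zero (5H): `C'` is odd, so `C' = 1`, `Cm = 4`, all `n_χ ≠ 0`, and `n_χ² = 4` is impossible.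
-/
import Cfsg.Agent.Lib.Helper27.MajSubMain
import Cfsg.Agent.Lib.Helper22.MajSubLF
import Cfsg.Agent.Lib.Helper9.TwoMajZ

set_option autoImplicit false

namespace Cfsg.Agent.Lib.Helper9.KleinL4

open Cfsg Cfsg.Agent.CharLib Cfsg.Agent.Lib.Helper24 Cfsg.Agent.Lib.Helper6 Cfsg.Agent.Lib.Helper23
open Cfsg.Agent.Lib.Helper23.Subsec Cfsg.Agent.Lib.Helper27.MajSub
open scoped ComplexConjugate

universe u

variable {G : Type u} [Group G] [Fintype G] {M : Ideal AlgInt}

/-- the arithmetic: nonzero integers `n i` with `∑ n i ^ 2 = 4` and one of them odd are four. -/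
theorem card_eq_four_of_sum_sq {ι : Type*} [Fintype ι] (n : ι → ℤ) (i₀ : ι)
    (hne : ∀ i, n i ≠ 0) (hodd : ¬ (2 : ℤ) ∣ n i₀) (hsum : ∑ i, n i ^ 2 = 4) :
    Fintype.card ι = 4 := by
  classical
  have hge1 : ∀ i, 1 ≤ n i ^ 2 := by
    intro i
    have h1 : 0 < n i ^ 2 := by
      have := hne i
      positivity
    omega
  -- every `n i ^ 2 = 1`
  have hall : ∀ i, n i ^ 2 = 1 := by
    intro i₁
    by_contra hne1
    have h4 : 4 ≤ n i₁ ^ 2 := by
      have h1 := hge1 i₁
      have h2 : n i₁ ^ 2 ≠ 1 := hne1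
      by_contra hlt
      have h3 : n i₁ ^ 2 = 2 ∨ n i₁ ^ 2 = 3 := by omega
      have habs : |n i₁| < 2 := by
        by_contra h5
        have h6 : 2 ≤ |n i₁| := by omega
        have h7 : 4 ≤ |n i₁| ^ 2 := by nlinarith
        rw [sq_abs] at h7
        omega
      have h8 : |n i₁| = 0 ∨ |n i₁| = 1 := by
        have := abs_nonneg (n i₁)
        omega
      rcases h8 with h8 | h8
      · have := abs_eq_zero.mp h8
        exact hne i₁ this
      · have h9 : |n i₁| ^ 2 = 1 := by rw [h8]; norm_num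
        rw [sq_abs] at h9
        exact hne1 h9
    by_cases hi : i₀ = i₁
    · -- then `n i₀ ^ 2 = 4`
      have h5 : n i₁ ^ 2 ≤ 4 := by
        rw [← hsum]
        exact Finset.single_le_sum (f := fun i => n i ^ 2) (fun i _ => by positivity)
          (Finset.mem_univ i₁)
      have h6 : n i₁ ^ 2 = 4 := by omega
      apply hodd
      rw [hi]
      have h7 : (n i₁ - 2) * (n i₁ + 2) = 0 := by ring_nf; omega
      rcases mul_eq_zero.mp h7 with h8 | h8
      · exact ⟨1, by omega⟩
      · exact ⟨-1, by omega⟩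
    · have h5 : n i₀ ^ 2 + n i₁ ^ 2 ≤ ∑ i, n i ^ 2 := by
        have h6 : ∑ i ∈ ({i₀, i₁} : Finset ι), n i ^ 2 ≤ ∑ i, n i ^ 2 :=
          Finset.sum_le_sum_of_subset_of_nonneg (Finset.subset_univ _)
            (fun i _ _ => by positivity)
        rw [Finset.sum_pair hi] at h6
        exact h6
      have := hge1 i₀
      omega
  have h1 : ∑ i : ι, n i ^ 2 = (Fintype.card ι : ℤ) := by
    rw [Finset.sum_congr rfl (fun i _ => hall i)]
    simp
  rw [hsum] at h1
  exact_mod_cast h1.symm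

/-- (L4) a `2`-block of defect `2` with a major subsection `(z, b)`, `z` an involution, `l(b) = 1`,
has exactly four irreducible characters. -/
theorem card_eq_four_of_major_involution (hM : IsPModular 2 M) (z : G) (hz2 : orderOf z = 2)
    (B : Set (IrrCharacter G)) (hB : IsPBlock M B)
    (b : Set (IrrCharacter (Subgroup.centralizer ({z} : Set G))))
    (hind : IsInducedBlock M (Subgroup.centralizer ({z} : Set G)) b B)
    (hdef : blockDefect 2 b = blockDefect 2 B) (hd : blockDefect 2 B = 2)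
    (hl : blockRank 2 b = 1) : Nat.card B = 4 := by
  classical
  have hprime : M.IsPrime := isPrime_of_isPModular hM
  set C := Subgroup.centralizer ({z} : Set G) with hCdef
  let _ : Fintype C := Fintype.ofFinite C
  let _ := fintypeIrr C
  let _ := fintypeIrr G
  obtain ⟨ψ₀, hb⟩ := hind.1
  subst hb
  set e := blockOf M (ψ₀ : C → ℂ) with he
  have he' : IsPBlock M e := ⟨ψ₀, rfl⟩
  have hz : ∃ k : ℕ, orderOf z = 2 ^ k := ⟨1, by rw [hz2, pow_one]⟩
  have hde : blockDefect 2 e = 2 := by rw [hdef, hd]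
  have hzC : z ∈ C := by
    rw [hCdef, Subgroup.mem_centralizer_singleton_iff]
  have hcomm : ∀ c ∈ C, c * z = z * c := by
    intro c hc
    rw [hCdef, Subgroup.mem_centralizer_singleton_iff] at hc
    exact hc
  -- the basic set
  set Nm : Matrix (IrrCharacter C) (IrrCharacter C) ℤ := Matrix.of (nMat 2 e) with hNm
  have hsymm : Nm.transpose = Nm := by
    ext ζ ζ'
    simp only [Matrix.transpose_apply, hNm, Matrix.of_apply]
    exact Cfsg.Agent.Lib.Helper8.MajSubNB.nMat_symm e ζ' ζ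
  have hpd0 : (((2 : ℕ) : ℤ) ^ blockDefect 2 e) ≠ 0 := pow_ne_zero _ (by norm_num)
  have hsq : Nm * Nm = (((2 : ℕ) : ℤ) ^ blockDefect 2 e) • Nm := by
    ext ζ ζ''
    simp only [Matrix.mul_apply, Matrix.smul_apply, hNm, Matrix.of_apply, smul_eq_mul]
    exact Cfsg.Agent.Lib.Helper19.MajSubNB3.nMat_sq hM e he' ζ ζ''
  obtain ⟨r, D, E, C', hED, hN, hC'symm, hCC', htr⟩ :=
    Cfsg.Agent.Lib.Helper7.MajSubLAT.exists_basic Nm hsymm _ hpd0 hsq
  have hr : r = 1 := by
    have h1 : Nm.trace = ((2 : ℕ) : ℤ) ^ blockDefect 2 e * (blockRank 2 e : ℤ) := by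
      rw [Matrix.trace]
      simp only [Matrix.diag_apply, hNm, Matrix.of_apply]
      exact Cfsg.Agent.Lib.Helper19.MajSubNB4.nMat_trace hM e he'
    rw [h1] at htr
    have := mul_left_cancel₀ hpd0 htr
    rw [hl] at this
    exact_mod_cast this.symm
  subst hr
  -- the index type
  set ι := {χ : IrrCharacter G // χ ∈ B} with hι
  have hBne : B.Nonempty := by
    obtain ⟨χ₁, rfl⟩ := hB
    exact ⟨χ₁, mem_blockOf_self χ₁⟩
  obtain ⟨χ₀, hχ₀, hχ₀min⟩ := exists_minVal (p := 2) hBne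
  set i₀ : ι := ⟨χ₀, hχ₀⟩ with hi₀def
  have hi₀ : blockHeight 2 B (χ₀ : G → ℂ) = 0 := (blockHeight_eq_zero_iff hχ₀).mpr hχ₀min
  -- `z` as an element of the centre of `C`
  have hzcen : (⟨z, hzC⟩ : C) ∈ Subgroup.center C := by
    rw [Subgroup.mem_center_iff]
    intro g
    apply Subtype.ext
    exact hcomm g g.2
  set w : Subgroup.center C := ⟨⟨z, hzC⟩, hzcen⟩ with hw
  have hw2 : w ^ 2 = 1 := by
    apply Subtype.ext
    apply Subtype.ext
    have h1 : z ^ 2 = 1 := by rw [← hz2]; exact pow_orderOf_eq_one z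
    simpa using h1
  have hcent : ∀ ζ : IrrCharacter C, centHom C ζ w = 1 ∨ centHom C ζ w = -1 := by
    intro ζ
    have h1 : (centHom C ζ w) ^ 2 = 1 := by rw [← map_pow, hw2, map_one]
    have h2 : (centHom C ζ w - 1) * (centHom C ζ w + 1) = 0 := by linear_combination h1
    rcases mul_eq_zero.mp h2 with h3 | h3
    · left; exact sub_eq_zero.mp h3
    · right; exact eq_neg_of_add_eq_zero_left h3
  -- the generalized decomposition numbers are integers
  have hint : ∀ χ : IrrCharacter G, ∃ n : ℤ, gdec C e D z χ 0 = (n : ℂ) := by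
    intro χ
    unfold gdec
    have hterm : ∀ ζ : IrrCharacter C, ∃ n : ℤ, zCoeff C e z χ ζ * ((D ζ 0 : ℤ) : ℂ) = (n : ℂ) := by
      intro ζ
      by_cases hζ : ζ ∈ e
      · have h1 := Cfsg.Agent.Lib.Helper22.MajSubLF.zCoeff_center_of_mem C e w χ ζ hζ
        have h2 : (((w : C)) : G) = z := rfl
        rw [h2] at h1
        rcases hcent ζ with h3 | h3
        · refine ⟨(resMult C χ ζ : ℤ) * D ζ 0, ?_⟩
          rw [h1, h3]; push_cast; ring
        · refine ⟨-((resMult C χ ζ : ℤ) * D ζ 0), ?_⟩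
          rw [h1, h3]; push_cast; ring
      · refine ⟨0, ?_⟩
        rw [Cfsg.Agent.Lib.Helper22.MajSubLF.zCoeff_of_not_mem C e z χ ζ hζ]
        simp
    choose f hf using hterm
    refine ⟨∑ ζ, f ζ, ?_⟩
    push_cast
    exact Finset.sum_congr rfl (fun ζ _ => hf ζ)
  choose nn hnn using hint
  set n : ι → ℤ := fun i => nn (i : IrrCharacter G) with hn
  -- the Gram relation
  have hgram : ∑ i : ι, n i ^ 2 = (D.transpose * D) 0 0 := by
    have h1 := Cfsg.Agent.Lib.Helper27.MajSubMain.gram_gdec hM z hz C rfl B hB ψ₀ hind D E C' hED hN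
      hC'symm hCC' 0 0
    rw [Finset.sum_subtype (Finset.univ.filter (· ∈ B)) (p := (· ∈ B)) (fun χ => by simp)] at h1
    have h2 : ((∑ i : ι, n i ^ 2 : ℤ) : ℂ) = (((D.transpose * D) 0 0 : ℤ) : ℂ) := by
      rw [← h1]
      push_cast
      apply Finset.sum_congr rfl
      intro i _
      rw [hnn, map_intCast, hn]
      ring
    exact_mod_cast h2
  -- `Cm * C' = 4`
  have hmul : (D.transpose * D) 0 0 * C' 0 0 = 4 := by
    have h1 := congrFun (congrFun hCC' 0) 0
    rw [hde] at h1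
    simpa [Matrix.mul_apply, Fin.sum_univ_one] using h1
  -- (5H)
  have h5H : ∀ j : ι, LocUnit M (((n i₀ * C' 0 0 * n j : ℤ) : ℂ) /
      (2 : ℂ) ^ blockHeight 2 B ((j : IrrCharacter G) : G → ℂ)) := by
    intro j
    have h1 := (Cfsg.Agent.Lib.Helper23.MajSubH5.contrib_5H hM z hz C rfl B e hind hdef
      χ₀ (j : IrrCharacter G) hχ₀ hi₀ j.2).1
    have h2 := Cfsg.Agent.Lib.Helper27.MajSubMain.contrib_eq_gdec hM z C hzC hcomm e he' D C' hN
      χ₀ (j : IrrCharacter G)
    rw [← hdef, h2] at h1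
    simp only [Fin.sum_univ_one, Fin.isValue] at h1
    rw [hnn, hnn, map_intCast] at h1
    have h3 : (((n i₀ * C' 0 0 * n j : ℤ)) : ℂ) = (nn χ₀ : ℂ) * (C' 0 0 : ℂ) * (nn (j : IrrCharacter G) : ℂ) := by
      rw [hn]; push_cast; rfl
    rw [h3]
    simpa using h1
  -- consequences
  have hne : ∀ j : ι, n j ≠ 0 := by
    intro j h0
    have h1 := (h5H j).2
    apply h1
    rw [h0, mul_zero]
    simp only [Int.cast_zero, zero_div]
    exact memLocalIdeal_zero hprime.one_notMem
  have hunit0 : ¬ (2 : ℤ) ∣ n i₀ * C' 0 0 * n i₀ := by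
    have h1 := (h5H i₀).2
    have h2 : blockHeight 2 B (((i₀ : ι) : IrrCharacter G) : G → ℂ) = 0 := hi₀
    rw [h2, pow_zero, div_one] at h1
    intro hdvd
    exact h1 ((Cfsg.Agent.Lib.Helper9.TwoMajZ.memLocalIdeal_intCast_iff hM _).mpr hdvd)
  have hodd : ¬ (2 : ℤ) ∣ n i₀ := by
    intro hdvd
    apply hunit0
    exact Dvd.dvd.mul_left hdvd _
  have hC'odd : ¬ (2 : ℤ) ∣ C' 0 0 := by
    intro hdvd
    apply hunit0
    exact Dvd.dvd.mul_right (Dvd.dvd.mul_left hdvd _) _
  -- `C' = 1`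
  have hCmpos : 0 < (D.transpose * D) 0 0 := by
    rw [← hgram]
    have h1 : n i₀ ^ 2 ≤ ∑ i : ι, n i ^ 2 :=
      Finset.single_le_sum (f := fun i => n i ^ 2) (fun i _ => by positivity) (Finset.mem_univ i₀)
    have h2 : 0 < n i₀ ^ 2 := by
      have := hne i₀
      positivity
    omega
  have hC'1 : C' 0 0 = 1 := by
    have hC'pos : 0 < C' 0 0 := by
      by_contra hle
      have : C' 0 0 ≤ 0 := by omega
      nlinarith
    have hC'le : C' 0 0 ≤ 4 := by nlinarith
    have : C' 0 0 = 1 ∨ C' 0 0 = 2 ∨ C' 0 0 = 3 ∨ C' 0 0 = 4 := by omega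
    rcases this with h | h | h | h
    · exact h
    · exfalso; apply hC'odd; rw [h]
    · exfalso
      rw [h] at hmul
      omega
    · exfalso; apply hC'odd; rw [h]; exact ⟨2, by norm_num⟩
  have hsum : ∑ i : ι, n i ^ 2 = 4 := by
    rw [hgram]
    rw [hC'1, mul_one] at hmul
    exact hmul
  have hcard := card_eq_four_of_sum_sq n i₀ hne hodd hsum
  rw [Nat.card_eq_fintype_card]
  exact hcard

end Cfsg.Agent.Lib.Helper9.KleinL4
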