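/-
helper9: S5286 (Leary-Stancu) wave-2 leaves (C) and (B): the stabilizer of the vertex `1` in `G F` is
`ι(S)`, and the orbit of the vertex `1` is prefix-closed.
-/
import Mathlib
import Cfsg.Agent.Lib.Helper21.LSBasic
import Cfsg.Agent.Lib.Helper5.LSSG
import Cfsg.Agent.Lib.Helper29.LSPS
import Cfsg.Agent.Lib.Helper20.LSPC
import Cfsg.Agent.Lib.Helper20.LSRED
import Cfsg.Agent.Lib.Helper23.LSGEO

set_option autoImplicit false
universe u
open Cfsg
open Cfsg.Agent.Lib.Helper21.LS

namespace Cfsg.Agent.Lib.Helper9.LSC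

variable {Ω : Type u} [Group Ω] {S : Subgroup Ω} (F : FusionSystem S)

/-- all chosen permutations are good (from (SG)). -/
theorem sigGood_all [Finite ↥S] (i : Idx F) : SigGood F i (sig F i) :=
  sigGood_sig_of_exists F i (Cfsg.Agent.Lib.Helper5.LSSG.exists_sigGood F i)

/-- two reduced lists with the same value are equal. -/
theorem eq_of_isReduced_of_mk_eq {α : Type*} [DecidableEq α] {L₁ L₂ : List (α × Bool)}
    (h₁ : FreeGroup.IsReduced L₁) (h₂ : FreeGroup.IsReduced L₂)
    (h : FreeGroup.mk L₁ = FreeGroup.mk L₂) : L₁ = L₂ := by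
  have := congrArg FreeGroup.toWord h
  rwa [FreeGroup.toWord_mk, FreeGroup.toWord_mk, h₁.reduce_eq, h₂.reduce_eq] at this

/-- every element of `G F` is the value of a reduced word. -/
theorem exists_reduced [Finite ↥S] (g : Ghat F) (hg : g ∈ G F) :
    ∃ (s0 : ↥S) (l : List (Step F)), Reduced F l ∧ evalR F s0 l = g :=
  Cfsg.Agent.Lib.Helper20.LSRED.exists_reduced_of F
    (fun b a h => Cfsg.Agent.Lib.Helper29.LSPS.pinch_prod F (sigGood_all F) b a h) g hg

/-- (GEO) with (PC) plugged in. -/
theorem evalR_cons_left [Finite ↥S] (s0 : ↥S) (a : Step F) (l : List (Step F))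
    (h : Reduced F (a :: l)) :
    ∃ L : List (X F × Bool),
      FreeGroup.IsReduced (L ++ [lsmul (evalR F s0 l).right (letter F a.i a.ε)]) ∧
      FreeGroup.mk L = (evalR F s0 l).left ∧
      FreeGroup.mk (L ++ [lsmul (evalR F s0 l).right (letter F a.i a.ε)]) =
        (evalR F s0 (a :: l)).left :=
  Cfsg.Agent.Lib.Helper23.LSGEO.evalR_cons_left_of F
    (fun b a h => Cfsg.Agent.Lib.Helper20.LSPC.not_cancel_of_not_pinch F (sigGood_all F) b a h) s0 a l h

/-- (C) the stabilizer of the vertex `1` in `G F` is `ι(S)`. -/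
theorem mem_range_of_left_eq_one [Finite ↥S] (g : Ghat F) (hg : g ∈ G F) (h1 : g.left = 1) :
    g ∈ Set.range (iotaHat F) := by
  classical
  obtain ⟨s0, l, hred, rfl⟩ := exists_reduced F g hg
  cases l with
  | nil => exact ⟨s0, rfl⟩
  | cons a l =>
    exfalso
    obtain ⟨L, hL1, _, hL3⟩ := evalR_cons_left F s0 a l hred
    rw [h1] at hL3
    have h2 : FreeGroup.mk (L ++ [lsmul (evalR F s0 l).right (letter F a.i a.ε)]) =
        FreeGroup.mk ([] : List (X F × Bool)) := by rw [hL3]; rfl
    have := eq_of_isReduced_of_mk_eq hL1 FreeGroup.IsReduced.nil h2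
    simp at this

/-- (B), word form. -/
theorem exists_mem_left_eq_prefix_evalR [Finite ↥S] (s0 : ↥S) (l : List (Step F))
    (hl : Reduced F l) (L L' : List (X F × Bool))
    (hred : FreeGroup.IsReduced (L ++ L')) (hL : FreeGroup.mk (L ++ L') = (evalR F s0 l).left) :
    ∃ g' ∈ G F, g'.left = FreeGroup.mk L := by
  classical
  induction l generalizing L L' with
  | nil =>
    have h2 : FreeGroup.mk (L ++ L') = FreeGroup.mk ([] : List (X F × Bool)) := by
      rw [hL]; rfl
    have h3 := eq_of_isReduced_of_mk_eq hred FreeGroup.IsReduced.nil h2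
    have hLnil : L = [] := (List.append_eq_nil_iff.mp h3).1
    refine ⟨1, (G F).one_mem, ?_⟩
    rw [hLnil]; rfl
  | cons a l ih =>
    obtain ⟨L₀, hL1, hL2, hL3⟩ := evalR_cons_left F s0 a l hl
    have hl' : Reduced F l := by
      unfold Reduced at hl ⊢
      exact hl.tail
    have h2 : L ++ L' = L₀ ++ [lsmul (evalR F s0 l).right (letter F a.i a.ε)] :=
      eq_of_isReduced_of_mk_eq hred hL1 (hL.trans hL3.symm)
    rcases List.eq_nil_or_concat L' with h | ⟨L'', x, h⟩
    · -- `L' = []`
      subst h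
      rw [List.append_nil] at h2
      refine ⟨evalR F s0 (a :: l), evalR_mem F s0 (a :: l), ?_⟩
      rw [← hL3, h2]
    · subst h
      rw [List.concat_eq_append, ← List.append_assoc] at h2
      have h3 : L ++ L'' = L₀ := List.append_inj_left' h2 rfl
      have hred0 : FreeGroup.IsReduced L₀ :=
        hL1.infix ⟨[], [lsmul (evalR F s0 l).right (letter F a.i a.ε)], by simp⟩
      apply ih hl' L L''
      · rw [h3]; exact hred0
      · rw [h3]; exact hL2

/-- (B) the orbit of the vertex `1` under `G F` is prefix-closed. -/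
theorem exists_mem_left_eq_prefix [Finite ↥S] (g : Ghat F) (hg : g ∈ G F) (L L' : List (X F × Bool))
    (hred : FreeGroup.IsReduced (L ++ L')) (hL : FreeGroup.mk (L ++ L') = g.left) :
    ∃ g' ∈ G F, g'.left = FreeGroup.mk L := by
  obtain ⟨s0, l, hl, rfl⟩ := exists_reduced F g hg
  exact exists_mem_left_eq_prefix_evalR F s0 l hl L L' hred hL

end Cfsg.Agent.Lib.Helper9.LSC
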