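/-
helper9: S5286 (Leary-Stancu) wave-2 leaf (FIN), `_of` form over (FP).
-/
import Mathlib
import Cfsg.Agent.Lib.Helper9.LSC
import Cfsg.Agent.Lib.Helper22.LSFP

set_option autoImplicit false
universe u
open Cfsg
open Cfsg.Agent.Lib.Helper21.LS

namespace Cfsg.Agent.Lib.Helper9.LSFIN

variable {Ω : Type u} [Group Ω] {S : Subgroup Ω} (F : FusionSystem S)

/-- (FIN), `_of` form over (FP): finite subgroups of `G F` are conjugate into `ι(S)`. -/
theorem finite_subgroup_conj_of [Finite ↥S]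
    (hFP : ∀ (H : Subgroup (Ghat F)) [Finite H],
      ∃ (L L' : List (X F × Bool)), FreeGroup.IsReduced (L ++ L') ∧
        (∃ h ∈ H, h.left = FreeGroup.mk (L ++ L')) ∧
        ∀ h ∈ H, vact h (FreeGroup.mk L) = FreeGroup.mk L)
    (H : Subgroup (Ghat F)) (hH : H ≤ G F) [Finite H] :
    ∃ g ∈ G F, ∀ h ∈ H, g * h * g⁻¹ ∈ Set.range (iotaHat F) := by
  obtain ⟨L, L', hred, ⟨h₀, hh₀, hh₀L⟩, hfix⟩ := hFP H
  obtain ⟨k, hk, hkL⟩ := Cfsg.Agent.Lib.Helper9.LSC.exists_mem_left_eq_prefix F h₀ (hH hh₀) L L'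
    hred hh₀L.symm
  refine ⟨k⁻¹, (G F).inv_mem hk, ?_⟩
  intro h hh
  rw [inv_inv]
  apply Cfsg.Agent.Lib.Helper9.LSC.mem_range_of_left_eq_one F
  · exact (G F).mul_mem ((G F).mul_mem ((G F).inv_mem hk) (hH hh)) hk
  · have h1 : vact (k⁻¹ * h * k) (1 : FreeGroup (X F)) = 1 := by
      rw [vact_mul, vact_mul, vact_one_left, hkL, hfix h hh, ← hkL, ← vact_one_left k, ← vact_mul,
        inv_mul_cancel, vact_one]
    rw [vact_one_left] at h1
    exact h1

/-- (FIN) finite subgroups of `G F` are conjugate into `ι(S)`. -/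
theorem finite_subgroup_conj [Finite ↥S] (H : Subgroup (Ghat F)) (hH : H ≤ G F) [Finite H] :
    ∃ g ∈ G F, ∀ h ∈ H, g * h * g⁻¹ ∈ Set.range (iotaHat F) :=
  finite_subgroup_conj_of F
    (fun H _ => Cfsg.Agent.Lib.Helper22.LSFP.exists_fixed_vertex (Γ := Sig S) (Y := X F) H) H hH

end Cfsg.Agent.Lib.Helper9.LSFIN
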