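/-
helper9: S5286 (Leary-Stancu) wave-2 leaf (REAL), `_of` form over (D).
-/
import Mathlib
import Cfsg.Agent.Lib.Helper9.LSC
import Cfsg.Agent.Lib.Helper17.LSD

set_option autoImplicit false
universe u
open Cfsg
open Cfsg.Agent.Lib.Helper21.LS

namespace Cfsg.Agent.Lib.Helper9.LSREAL

variable {Ω : Type u} [Group Ω] {S : Subgroup Ω} (F : FusionSystem S)

/-- (REAL), `_of` form over (D). -/
theorem isRealizedBy_iota_of [Finite ↥S]
    (hD : ∀ (g : Ghat F) (_ : g ∈ G F) (R : Subgroup Ω) (hR : R ≤ S)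
      (_ : ∀ x : R, g⁻¹ * iotaHat F ⟨(x : Ω), hR x.2⟩ * g ∈ Set.range (iotaHat F)),
      ∃ ψ ∈ F.Hom R, ∀ (x : R) (y : ↥S), (y : Ω) = ψ x →
        iotaHat F y = g⁻¹ * iotaHat F ⟨(x : Ω), hR x.2⟩ * g) :
    F.IsRealizedBy (iota F) := by
  refine ⟨?_, ?_⟩
  · intro a b hab
    apply iotaHat_injective F
    have := congrArg Subtype.val hab
    exact this
  · intro P hP φ hφ
    constructor
    · intro hmem
      let i : Idx F := ⟨P, φ, hmem⟩
      refine ⟨⟨t F i, t_mem F i⟩, ?_⟩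
      intro x
      apply Subtype.ext
      have := t_conj F i (Cfsg.Agent.Lib.Helper9.LSC.sigGood_all F i) x
      exact this.symm
    · rintro ⟨g, hg⟩
      have hg' : ∀ x : P, iotaHat F ⟨φ x, hφ x⟩ =
          (g : Ghat F) * iotaHat F ⟨(x : Ω), hP x.2⟩ * (g : Ghat F)⁻¹ := by
        intro x
        have := congrArg Subtype.val (hg x)
        exact this
      obtain ⟨ψ, hψ, hψ2⟩ := hD ((g : Ghat F)⁻¹) ((G F).inv_mem g.2) P hP (by
        intro x
        rw [inv_inv, ← hg' x]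
        exact ⟨_, rfl⟩)
      have heq : ψ = φ := by
        ext x
        have hψS : ψ x ∈ S := (F.le_of_mem hψ).2 x
        have h1 := hψ2 x ⟨ψ x, hψS⟩ rfl
        rw [inv_inv, ← hg' x] at h1
        have h2 := iotaHat_injective F h1
        exact congrArg Subtype.val h2
      rw [← heq]
      exact hψ

/-- (REAL) `F` is realized by `iota F : ↥S →* ↥(G F)`. -/
theorem isRealizedBy_iota [Finite ↥S] : F.IsRealizedBy (iota F) :=
  isRealizedBy_iota_of F
    (fun g hg R hR hc => Cfsg.Agent.Lib.Helper17.LSD.fusion_of_conj F g hg R hR hc)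

end Cfsg.Agent.Lib.Helper9.LSREAL
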