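import Mathlib
import Cfsg.Agent.Lib.Helper18.PSLnUnitri

set_option autoImplicit false

namespace Cfsg.Agent.Lib.Helper9.LU2

open Matrix Cfsg.Agent.Lib.Helper18.PSLnAut

variable {n : ℕ} {F : Type*} [Field F]

/-- the leading `k × k` block of `h`, completed by an identity block -/
def blk (h : Matrix (Fin n) (Fin n) F) (k : ℕ) : Matrix (Fin n) (Fin n) F :=
  Matrix.of fun i j => if (i : ℕ) < k ∧ (j : ℕ) < k then h i j else if i = j then 1 else 0

theorem blk_mulVec_lt (h : Matrix (Fin n) (Fin n) F) (k : ℕ) (a : Fin n → F) (i : Fin n)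
    (hi : (i : ℕ) < k) :
    (blk h k *ᵥ a) i = ∑ j : Fin n, if (j : ℕ) < k then h i j * a j else 0 := by
  rw [Matrix.mulVec, dotProduct]
  apply Finset.sum_congr rfl
  intro j _
  simp only [blk, Matrix.of_apply]
  by_cases hj : (j : ℕ) < k
  · rw [if_pos ⟨hi, hj⟩, if_pos hj]
  · have hij : i ≠ j := by
      intro e
      rw [e] at hi
      exact hj hi
    rw [if_neg (fun hh => hj hh.2), if_neg hij, if_neg hj, zero_mul]

theorem blk_mulVec_ge (h : Matrix (Fin n) (Fin n) F) (k : ℕ) (a : Fin n → F) (i : Fin n)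
    (hi : ¬ (i : ℕ) < k) :
    (blk h k *ᵥ a) i = a i := by
  rw [Matrix.mulVec, dotProduct, Finset.sum_eq_single i]
  · have : blk h k i i = 1 := by
      show (if (i : ℕ) < k ∧ (i : ℕ) < k then h i i else if i = i then 1 else 0) = 1
      rw [if_neg (fun hh => hi hh.1), if_pos rfl]
    rw [this, one_mul]
  · intro j _ hj
    simp only [blk, Matrix.of_apply]
    rw [if_neg (fun hh => hi hh.1), if_neg (Ne.symm hj), zero_mul]
  · intro hh
    exact absurd (Finset.mem_univ i) hh

theorem blk_vecMul_lt (h : Matrix (Fin n) (Fin n) F) (k : ℕ) (d : Fin n → F) (j : Fin n)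
    (hj : (j : ℕ) < k) :
    (d ᵥ* blk h k) j = ∑ i : Fin n, if (i : ℕ) < k then d i * h i j else 0 := by
  rw [Matrix.vecMul, dotProduct]
  apply Finset.sum_congr rfl
  intro i _
  simp only [blk, Matrix.of_apply]
  by_cases hi : (i : ℕ) < k
  · rw [if_pos ⟨hi, hj⟩, if_pos hi]
  · have hij : i ≠ j := by
      intro e
      rw [← e] at hj
      exact hi hj
    rw [if_neg (fun hh => hi hh.1), if_neg hij, if_neg hi, mul_zero]

theorem blk_vecMul_ge (h : Matrix (Fin n) (Fin n) F) (k : ℕ) (d : Fin n → F) (j : Fin n)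
    (hj : ¬ (j : ℕ) < k) :
    (d ᵥ* blk h k) j = d j := by
  rw [Matrix.vecMul, dotProduct, Finset.sum_eq_single j]
  · have : blk h k j j = 1 := by
      show (if (j : ℕ) < k ∧ (j : ℕ) < k then h j j else if j = j then 1 else 0) = 1
      rw [if_neg (fun hh => hj hh.2), if_pos rfl]
    rw [this, mul_one]
  · intro i _ hi
    simp only [blk, Matrix.of_apply]
    rw [if_neg (fun hh => hj hh.2), if_neg hi, mul_zero]
  · intro hh
    exact absurd (Finset.mem_univ j) hh


theorem stepA (h hi : Matrix (Fin n) (Fin n) F) (hh : h * hi = 1) (k : ℕ)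
    (hdet : (blk h k).det = 0) :
    ∃ u : Matrix (Fin n) (Fin n) F, IsUni u ∧ u ≠ 1 ∧ IsUni (h * u * hi)ᵀ := by
  obtain ⟨a, ha0, ha⟩ := Matrix.exists_mulVec_eq_zero_iff.mpr hdet
  obtain ⟨d, hd0, hd⟩ := Matrix.exists_vecMul_eq_zero_iff.mpr hdet
  have ha1 : ∀ i : Fin n, ¬ (i : ℕ) < k → a i = 0 := by
    intro i hi'
    have := congrFun ha i
    rwa [blk_mulVec_ge h k a i hi', Pi.zero_apply] at this
  have hd1 : ∀ i : Fin n, ¬ (i : ℕ) < k → d i = 0 := by
    intro i hi'
    have := congrFun hd i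
    rwa [blk_vecMul_ge h k d i hi', Pi.zero_apply] at this
  have ha2 : ∀ i : Fin n, (i : ℕ) < k → (h *ᵥ a) i = 0 := by
    intro i hi'
    have := congrFun ha i
    rw [blk_mulVec_lt h k a i hi', Pi.zero_apply] at this
    rw [← this, Matrix.mulVec, dotProduct]
    apply Finset.sum_congr rfl
    intro j _
    by_cases hj : (j : ℕ) < k
    · rw [if_pos hj]
    · rw [if_neg hj, ha1 j hj, mul_zero]
  have hd2 : ∀ j : Fin n, (j : ℕ) < k → (d ᵥ* h) j = 0 := by
    intro j hj
    have := congrFun hd j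
    rw [blk_vecMul_lt h k d j hj, Pi.zero_apply] at this
    rw [← this, Matrix.vecMul, dotProduct]
    apply Finset.sum_congr rfl
    intro i _
    by_cases hi' : (i : ℕ) < k
    · rw [if_pos hi']
    · rw [if_neg hi', hd1 i hi', zero_mul]
  have hih : hi * h = 1 := mul_eq_one_comm.mp hh
  refine ⟨1 + Matrix.vecMulVec a (d ᵥ* h), ⟨?_, ?_⟩, ?_, ?_⟩
  · intro i j hji
    rw [Matrix.add_apply, Matrix.one_apply_ne (ne_of_gt hji), zero_add, Matrix.vecMulVec_apply]
    by_cases hik : (i : ℕ) < k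
    · rw [hd2 j (lt_trans (Fin.lt_def.mp hji) hik), mul_zero]
    · rw [ha1 i hik, zero_mul]
  · intro i
    rw [Matrix.add_apply, Matrix.one_apply_eq, Matrix.vecMulVec_apply]
    by_cases hik : (i : ℕ) < k
    · rw [hd2 i hik, mul_zero, add_zero]
    · rw [ha1 i hik, zero_mul, add_zero]
  · intro hu
    have h0 : Matrix.vecMulVec a (d ᵥ* h) = 0 := by
      have := congrArg (fun M => M - 1) hu
      simpa using this
    obtain ⟨i, hi'⟩ : ∃ i, a i ≠ 0 := by
      by_contra hcon
      push Not at hcon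
      exact ha0 (funext hcon)
    have h1 : d ᵥ* h = 0 := by
      funext j
      have := congrFun (congrFun h0 i) j
      rw [Matrix.vecMulVec_apply, Matrix.zero_apply] at this
      rcases mul_eq_zero.mp this with h2 | h2
      · exact absurd h2 hi'
      · exact h2
    apply hd0
    have : (d ᵥ* h) ᵥ* hi = d := by
      rw [Matrix.vecMul_vecMul, hh, Matrix.vecMul_one]
    rw [← this, h1, Matrix.zero_vecMul]
  · have hconj : h * (1 + Matrix.vecMulVec a (d ᵥ* h)) * hi = 1 + Matrix.vecMulVec (h *ᵥ a) d := by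
      rw [mul_add, add_mul, mul_one, hh, Matrix.mul_vecMulVec, Matrix.vecMulVec_mul,
        Matrix.vecMul_vecMul, hh, Matrix.vecMul_one]
    rw [hconj]
    constructor
    · intro i j hji
      rw [Matrix.transpose_apply, Matrix.add_apply, Matrix.one_apply_ne (ne_of_lt hji), zero_add,
        Matrix.vecMulVec_apply]
      by_cases hik : (i : ℕ) < k
      · rw [ha2 j (lt_trans (Fin.lt_def.mp hji) hik), zero_mul]
      · rw [hd1 i hik, mul_zero]
    · intro i
      rw [Matrix.transpose_apply, Matrix.add_apply, Matrix.one_apply_eq, Matrix.vecMulVec_apply]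
      by_cases hik : (i : ℕ) < k
      · rw [ha2 i hik, zero_mul, add_zero]
      · rw [hd1 i hik, mul_zero, add_zero]


theorem stepB_row (h : Matrix (Fin n) (Fin n) F) (i : Fin n) (hdet : (blk h i).det ≠ 0) :
    ∃ c : Fin n → F, (∀ i' : Fin n, ¬ i' < i → c i' = 0) ∧
      ∀ j : Fin n, j < i → h i j + ∑ i' : Fin n, c i' * h i' j = 0 := by
  have hu : IsUnit (blk h i).det := isUnit_iff_ne_zero.mpr hdet
  obtain ⟨r, hr⟩ : ∃ r : Fin n → F, r = fun j => if j < i then h i j else 0 := ⟨_, rfl⟩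
  obtain ⟨c, hc⟩ : ∃ c : Fin n → F, c = (-r) ᵥ* (blk h i)⁻¹ := ⟨_, rfl⟩
  have hcb : c ᵥ* blk h i = -r := by
    rw [hc, Matrix.vecMul_vecMul, Matrix.nonsing_inv_mul _ hu, Matrix.vecMul_one]
  have hc1 : ∀ i' : Fin n, ¬ i' < i → c i' = 0 := by
    intro i' hi'
    have := congrFun hcb i'
    rw [blk_vecMul_ge h i c i' (fun hh => hi' (Fin.lt_def.mpr hh)), Pi.neg_apply, hr] at this
    rw [this]
    simp only
    rw [if_neg hi', neg_zero]
  refine ⟨c, hc1, ?_⟩
  intro j hj
  have := congrFun hcb j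
  rw [blk_vecMul_lt h i c j (Fin.lt_def.mp hj), Pi.neg_apply, hr] at this
  simp only at this
  rw [if_pos hj] at this
  have h2 : ∑ i' : Fin n, c i' * h i' j = ∑ i' : Fin n, if (i' : ℕ) < i then c i' * h i' j else 0 := by
    apply Finset.sum_congr rfl
    intro i' _
    by_cases hi' : (i' : ℕ) < i
    · rw [if_pos hi']
    · rw [if_neg hi', hc1 i' (fun hh => hi' (Fin.lt_def.mp hh)), zero_mul]
  rw [h2, this, add_neg_cancel]

theorem stepB (h : Matrix (Fin n) (Fin n) F) (hdet : ∀ i : Fin n, (blk h i).det ≠ 0) :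
    ∃ l : Matrix (Fin n) (Fin n) F, IsUni lᵀ ∧ ∀ i j : Fin n, j < i → (l * h) i j = 0 := by
  choose c hc1 hc2 using fun i : Fin n => stepB_row h i (hdet i)
  refine ⟨1 + Matrix.of c, ⟨?_, ?_⟩, ?_⟩
  · intro i j hji
    rw [Matrix.transpose_apply, Matrix.add_apply, Matrix.one_apply_ne (ne_of_lt hji), zero_add,
      Matrix.of_apply, hc1 j i (not_lt.mpr (le_of_lt hji))]
  · intro i
    rw [Matrix.transpose_apply, Matrix.add_apply, Matrix.one_apply_eq, Matrix.of_apply,
      hc1 i i (lt_irrefl i), add_zero]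
  · intro i j hji
    rw [add_mul, one_mul, Matrix.add_apply, Matrix.mul_apply]
    simp only [Matrix.of_apply]
    exact hc2 i j hji


/-- the lower unitriangular subgroup -/
def lowtri (n : ℕ) (F : Type*) [Field F] [Finite F] : Subgroup (SpecialLinearGroup (Fin n) F) where
  carrier := {s | IsUni (s : Matrix (Fin n) (Fin n) F)ᵀ}
  mul_mem' := by
    intro a b ha hb
    show IsUni ((a * b : SpecialLinearGroup (Fin n) F) : Matrix (Fin n) (Fin n) F)ᵀ
    rw [Matrix.SpecialLinearGroup.coe_mul, Matrix.transpose_mul]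
    exact IsUni.mul hb ha
  one_mem' := by
    show IsUni ((1 : SpecialLinearGroup (Fin n) F) : Matrix (Fin n) (Fin n) F)ᵀ
    rw [Matrix.SpecialLinearGroup.coe_one, Matrix.transpose_one]
    exact IsUni.one
  inv_mem' := by
    intro x hx
    have h1 : x⁻¹ = x ^ (orderOf x - 1) := by
      rw [inv_eq_iff_mul_eq_one, ← pow_succ']
      have : orderOf x - 1 + 1 = orderOf x := Nat.sub_add_cancel (orderOf_pos x)
      rw [this, pow_orderOf_eq_one]
    show IsUni ((x⁻¹ : SpecialLinearGroup (Fin n) F) : Matrix (Fin n) (Fin n) F)ᵀ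
    rw [h1, Matrix.SpecialLinearGroup.coe_pow, Matrix.transpose_pow]
    exact IsUni.pow hx _

theorem mem_lowtri [Finite F] {s : SpecialLinearGroup (Fin n) F} :
    s ∈ lowtri n F ↔ IsUni (s : Matrix (Fin n) (Fin n) F)ᵀ := Iff.rfl

theorem card_lowtri [Finite F] : Nat.card (lowtri n F) = Nat.card (unitri n F) := by
  refine Nat.card_congr ⟨fun x => ⟨⟨(x.1 : Matrix (Fin n) (Fin n) F)ᵀ, by
      rw [Matrix.det_transpose]; exact x.1.2⟩, x.2⟩,
    fun x => ⟨⟨(x.1 : Matrix (Fin n) (Fin n) F)ᵀ, by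
      rw [Matrix.det_transpose]; exact x.1.2⟩, by
      show IsUni ((x.1 : Matrix (Fin n) (Fin n) F)ᵀ)ᵀ
      rw [Matrix.transpose_transpose]; exact x.2⟩, ?_, ?_⟩
  · intro x
    apply Subtype.ext
    apply Subtype.ext
    exact Matrix.transpose_transpose _
  · intro x
    apply Subtype.ext
    apply Subtype.ext
    exact Matrix.transpose_transpose _

theorem isUni_of_upper {M : Matrix (Fin n) (Fin n) (ZMod 2)} (hup : ∀ i j : Fin n, j < i → M i j = 0)
    (hdet : M.det ≠ 0) : IsUni M := by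
  refine ⟨hup, ?_⟩
  intro i
  have h : M.IsUpperTriangular := fun i j hji => hup i j hji
  rw [Matrix.det_of_isUpperTriangular h] at hdet
  have h1 : M i i ≠ 0 := (Finset.prod_ne_zero_iff.mp hdet) i (Finset.mem_univ i)
  have h2 : ∀ x : ZMod 2, x ≠ 0 → x = 1 := by decide
  exact h2 _ h1

/-- LU decomposition over the field with two elements, in the form used for opposite Sylow
subgroups. -/
theorem lu_of_opp (g : SpecialLinearGroup (Fin n) (ZMod 2))
    (hopp : ∀ u ∈ unitri n (ZMod 2), g⁻¹ * u * g ∈ lowtri n (ZMod 2) → u = 1) :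
    ∃ u ∈ unitri n (ZMod 2), ∃ l ∈ lowtri n (ZMod 2), g = u * l := by
  have hgg : ((g⁻¹ : SpecialLinearGroup (Fin n) (ZMod 2)) : Matrix (Fin n) (Fin n) (ZMod 2)) *
      (g : Matrix (Fin n) (Fin n) (ZMod 2)) = 1 := by
    rw [← Matrix.SpecialLinearGroup.coe_mul, inv_mul_cancel, Matrix.SpecialLinearGroup.coe_one]
  have hblk : ∀ i : Fin n, (blk ((g⁻¹ : SpecialLinearGroup (Fin n) (ZMod 2)) :
      Matrix (Fin n) (Fin n) (ZMod 2)) i).det ≠ 0 := by
    intro i hdet
    obtain ⟨u, hu, hu1, hul⟩ := stepA _ _ hgg i hdet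
    have hmem : (⟨u, hu.det⟩ : SpecialLinearGroup (Fin n) (ZMod 2)) ∈ unitri n (ZMod 2) := hu
    have := hopp ⟨u, hu.det⟩ hmem hul
    apply hu1
    have h2 := congrArg (fun s : SpecialLinearGroup (Fin n) (ZMod 2) =>
      (s : Matrix (Fin n) (Fin n) (ZMod 2))) this
    simpa using h2
  obtain ⟨l, hl, hup⟩ := stepB _ hblk
  have hldet : l.det = 1 := by
    rw [← Matrix.det_transpose]
    exact hl.det
  have hdet : (l * ((g⁻¹ : SpecialLinearGroup (Fin n) (ZMod 2)) :
      Matrix (Fin n) (Fin n) (ZMod 2))).det ≠ 0 := by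
    rw [Matrix.det_mul, hldet, (g⁻¹).2, mul_one]
    exact one_ne_zero
  have hU := isUni_of_upper hup hdet
  obtain ⟨L₀, hL₀⟩ : ∃ L₀ : SpecialLinearGroup (Fin n) (ZMod 2), L₀ = ⟨l, hldet⟩ := ⟨_, rfl⟩
  have hL₀mem : L₀ ∈ lowtri n (ZMod 2) := by
    rw [hL₀]
    exact hl
  have hUmem : L₀ * g⁻¹ ∈ unitri n (ZMod 2) := by
    rw [mem_unitri, Matrix.SpecialLinearGroup.coe_mul, hL₀]
    exact hU
  refine ⟨(L₀ * g⁻¹)⁻¹, Subgroup.inv_mem _ hUmem, L₀, hL₀mem, ?_⟩
  group

/-- the upper unitriangular subgroup of `SL_n(2)` is self-normalising -/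
theorem normalizer_unitri_le :
    Subgroup.normalizer ((unitri n (ZMod 2) : Subgroup (SpecialLinearGroup (Fin n) (ZMod 2))) :
      Set (SpecialLinearGroup (Fin n) (ZMod 2))) ≤ unitri n (ZMod 2) := by
  intro g hg
  rw [Subgroup.mem_normalizer_iff] at hg
  rw [mem_unitri]
  apply isUni_of_upper
  · -- upper triangular, by induction on the column
    have key : ∀ m : ℕ, ∀ j : Fin n, (j : ℕ) = m → ∀ i : Fin n, j < i →
        (g : Matrix (Fin n) (Fin n) (ZMod 2)) i j = 0 := by
      intro m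
      induction m using Nat.strong_induction_on with
      | _ m ih =>
        intro j hj i₀ hji
        -- the transvection `1 + E_{j i₀}`
        have hT := transvection_mem_unitri (F := ZMod 2) hji (1 : ZMod 2)
        have hT' : g⁻¹ * SpecialLinearGroup.transvection (ne_of_lt hji) (1 : ZMod 2) * g ∈
            unitri n (ZMod 2) := by
          rw [hg]
          have : g * (g⁻¹ * SpecialLinearGroup.transvection (ne_of_lt hji) (1 : ZMod 2) * g) * g⁻¹ =
              SpecialLinearGroup.transvection (ne_of_lt hji) (1 : ZMod 2) := by group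
          rw [this]
          exact hT
        obtain ⟨u, hu⟩ : ∃ u : SpecialLinearGroup (Fin n) (ZMod 2),
            u = g⁻¹ * SpecialLinearGroup.transvection (ne_of_lt hji) (1 : ZMod 2) * g := ⟨_, rfl⟩
        rw [← hu] at hT'
        have hgu : g * u = SpecialLinearGroup.transvection (ne_of_lt hji) (1 : ZMod 2) * g := by
          rw [hu]; group
        have hmat := congrArg (fun s : SpecialLinearGroup (Fin n) (ZMod 2) =>
          (s : Matrix (Fin n) (Fin n) (ZMod 2)) j j) hgu
        simp only [Matrix.SpecialLinearGroup.coe_mul, SpecialLinearGroup.transvection_coe] at hmat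
        rw [add_mul, one_mul, Matrix.add_apply, Matrix.mul_apply,
          Matrix.single_mul_apply_same] at hmat
        -- left side: ∑ m', g j m' * u m' j = g j j
        have hleft : ∑ m' : Fin n, (g : Matrix (Fin n) (Fin n) (ZMod 2)) j m' *
            (u : Matrix (Fin n) (Fin n) (ZMod 2)) m' j = (g : Matrix (Fin n) (Fin n) (ZMod 2)) j j := by
          rw [Finset.sum_eq_single j]
          · rw [(mem_unitri.mp hT').2 j, mul_one]
          · intro m' _ hm'
            rcases lt_or_gt_of_ne hm' with hlt | hgt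
            · rw [ih (m' : ℕ) (by rw [← hj]; exact Fin.lt_def.mp hlt) m' rfl j hlt, zero_mul]
            · rw [(mem_unitri.mp hT').1 m' j hgt, mul_zero]
          · intro hh
            exact absurd (Finset.mem_univ j) hh
        rw [hleft] at hmat
        have := hmat
        rw [one_mul] at this
        exact (add_eq_left.mp this.symm)
    intro i j hji
    exact key j j rfl i hji
  · rw [g.2]
    exact one_ne_zero

end Cfsg.Agent.Lib.Helper9.LU2
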