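/-
Helper9 library: normal subgroups of doubly transitive groups; self-centralizing subgroups
of prime order in prime degree.
-/
import Mathlib
import Cfsg.Agent.Lib.Helper7.SimpleTools

set_option autoImplicit false

namespace Cfsg.Agent.Lib.Helper9

open MulAction

variable {G Ω : Type*} [Group G] [MulAction G Ω]

/-- A nontrivial normal subgroup of a faithful doubly transitive group is transitive. -/
theorem normal_transitive (h2 : IsMultiplyPretransitive G Ω 2)
    (hfaith : ∀ g : G, (∀ ω : Ω, g • ω = ω) → g = 1)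
    (N : Subgroup G) [hN : N.Normal] (hne : N ≠ ⊥) : ∀ γ δ : Ω, ∃ n ∈ N, n • γ = δ := by
  obtain ⟨n, hn, hn1⟩ := (N.bot_or_exists_ne_one).resolve_left hne
  obtain ⟨α, hα⟩ : ∃ α : Ω, n • α ≠ α := by
    by_contra hcon
    push Not at hcon
    exact hn1 (hfaith n hcon)
  intro γ δ
  by_cases hγδ : γ = δ
  · exact ⟨1, N.one_mem, by rw [one_smul, hγδ]⟩
  · obtain ⟨g, hg1, hg2⟩ := is_two_pretransitive_iff.mp h2 (Ne.symm hα) hγδ
    refine ⟨g * n * g⁻¹, hN.conj_mem n hn g, ?_⟩
    rw [mul_smul, mul_smul, ← hg1, inv_smul_smul, hg2]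

/-- The degree divides the order of a transitive subgroup. -/
theorem card_dvd_of_transitive [Finite Ω] (N : Subgroup G)
    (htr : ∀ γ δ : Ω, ∃ n ∈ N, n • γ = δ) (a : Ω) : Nat.card Ω ∣ Nat.card ↥N := by
  have : IsPretransitive ↥N Ω := ⟨fun γ δ => by
    obtain ⟨n, hn, e⟩ := htr γ δ
    exact ⟨⟨n, hn⟩, e⟩⟩
  rw [← index_stabilizer_of_transitive ↥N a]
  exact Subgroup.index_dvd_card _

/-- In a faithful action of prime degree `p`, a subgroup of order `p` is self-centralizing. -/
theorem centralizer_eq_of_prime_degree {p : ℕ} [hp : Fact p.Prime] [Finite Ω]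
    (hΩ : Nat.card Ω = p) (hfaith : ∀ g : G, (∀ ω : Ω, g • ω = ω) → g = 1)
    (P : Subgroup G) (hP : Nat.card ↥P = p) :
    Subgroup.centralizer (P : Set G) = P := by
  classical
  have hp1 : 1 < p := hp.out.one_lt
  have hPG : IsPGroup p ↥P := IsPGroup.of_card (n := 1) (by rw [hP, pow_one])
  have hPprime : Fact (Nat.card ↥P).Prime := ⟨by rw [hP]; exact hp.out⟩
  -- P has no fixed point on Ω
  have hnofix : ∀ α : Ω, ∃ q : ↥P, q • α ≠ α := by
    by_contra hcon
    push Not at hcon
    obtain ⟨α, hα⟩ := hcon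
    have hmod := hPG.card_modEq_card_fixedPoints Ω
    rw [hΩ] at hmod
    have hdvd : p ∣ Nat.card ↥(fixedPoints ↥P Ω) := by
      apply (Nat.modEq_zero_iff_dvd.mp)
      exact hmod.symm.trans (by rw [Nat.modEq_zero_iff_dvd])
    have hle : Nat.card ↥(fixedPoints ↥P Ω) ≤ p := by
      have : Nat.card ↥(fixedPoints ↥P Ω) ≤ Nat.card Ω :=
        Nat.card_le_card_of_injective Subtype.val Subtype.val_injective
      rw [hΩ] at this
      exact this
    have hpos : 0 < Nat.card ↥(fixedPoints ↥P Ω) := by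
      rw [Nat.card_pos_iff]
      exact ⟨⟨⟨α, fun q => hα q⟩⟩, inferInstance⟩
    have hcardp : Nat.card ↥(fixedPoints ↥P Ω) = p :=
      Nat.le_antisymm hle (Nat.le_of_dvd hpos hdvd)
    have hall : fixedPoints ↥P Ω = Set.univ := by
      rw [Set.eq_univ_iff_ncard, ← Nat.card_coe_set_eq, hcardp, hΩ]
    have hPbot : ∀ q : ↥P, q = 1 := by
      intro q
      apply Subtype.ext
      apply hfaith
      intro ω
      have : ω ∈ fixedPoints ↥P Ω := by rw [hall]; trivial
      exact this q
    have : Nat.card ↥P = 1 := by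
      rw [Nat.card_eq_one_iff_unique]
      exact ⟨⟨fun a b => (hPbot a).trans (hPbot b).symm⟩, ⟨1⟩⟩
    omega
  -- P is transitive on Ω
  have htrans : ∀ α ω : Ω, ∃ q : ↥P, q • α = ω := by
    intro α ω
    have hstab : stabilizer ↥P α = ⊥ := by
      rcases (stabilizer ↥P α).eq_bot_or_eq_top_of_prime_card with hb | ht
      · exact hb
      · exfalso
        obtain ⟨q, hq⟩ := hnofix α
        apply hq
        have : q ∈ stabilizer ↥P α := by rw [ht]; trivial
        exact this
    have hidx := MulAction.index_stabilizer ↥P α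
    rw [hstab, Subgroup.index_bot, hP] at hidx
    have huniv : orbit ↥P α = Set.univ := by
      rw [Set.eq_univ_iff_ncard, ← hidx, hΩ]
    have : ω ∈ orbit ↥P α := by rw [huniv]; trivial
    obtain ⟨q, hq⟩ := this
    exact ⟨q, hq⟩
  have hcomm := Cfsg.Agent.Lib.Helper7.comm_of_card_prime P hP
  apply le_antisymm
  · intro g hg
    rw [Subgroup.mem_centralizer_iff] at hg
    obtain ⟨α⟩ : Nonempty Ω := by
      rw [← Finite.card_pos_iff]; omega
    obtain ⟨q0, hq0⟩ := htrans α (g • α)
    have hone : (q0 : G)⁻¹ * g = 1 := by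
      apply hfaith
      intro ω
      obtain ⟨q, hq⟩ := htrans α ω
      have hq' : (q : G) • α = ω := hq
      have hp' : (q0 : G) • α = g • α := hq0
      have e1 : g * (q : G) = (q : G) * g := (hg q q.2).symm
      have e2 : (q0 : G)⁻¹ * (q : G) = (q : G) * (q0 : G)⁻¹ := by
        have := hcomm q0 q0.2 q q.2
        calc (q0 : G)⁻¹ * (q : G) = (q0 : G)⁻¹ * ((q : G) * (q0 : G)) * (q0 : G)⁻¹ := by group
          _ = (q0 : G)⁻¹ * ((q0 : G) * (q : G)) * (q0 : G)⁻¹ := by rw [this]
          _ = (q : G) * (q0 : G)⁻¹ := by group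
      calc ((q0 : G)⁻¹ * g) • ω = ((q0 : G)⁻¹ * g * (q : G)) • α := by
            rw [mul_smul _ (q : G), hq']
        _ = ((q0 : G)⁻¹ * ((q : G) * g)) • α := by rw [mul_assoc, e1]
        _ = ((q : G) * ((q0 : G)⁻¹ * g)) • α := by rw [← mul_assoc, e2, mul_assoc]
        _ = (q : G) • ((q0 : G)⁻¹ • (g • α)) := by rw [mul_smul, mul_smul]
        _ = (q : G) • α := by rw [← hp', inv_smul_smul]
        _ = ω := hq'
    have : g = (q0 : G) := (inv_mul_eq_one.mp hone).symm
    rw [this]; exact q0.2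
  · intro g hg
    rw [Subgroup.mem_centralizer_iff]
    intro q hq
    exact hcomm q hq g hg

end Cfsg.Agent.Lib.Helper9
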