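/-
Helper9 library: sharply k-transitive group actions (Jordan), k ≥ 5.
Reduction to point stabilizers, the order formula, and the nonexistence of a sharply
6-transitive group of degree 13.
-/
import Cfsg.Agent.Lib.Helper9.Sharp4Main
import Cfsg.Agent.Lib.Helper7.SimpleTools

set_option autoImplicit false

namespace Cfsg.Agent.Lib.Helper9

open MulAction

/-- Sharp `(n+1)`-transitivity passes to sharp `n`-transitivity of a point stabilizer. -/
theorem sharp_ofStabilizer {G Ω : Type*} [Group G] [MulAction G Ω] {n : ℕ} (a : Ω)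
    [IsPretransitive G Ω]
    (hn : IsMultiplyPretransitive G Ω (n + 1))
    (hsharp : ∀ x : Fin (n + 1) ↪ Ω, stabilizer G x = ⊥) :
    IsMultiplyPretransitive (stabilizer G a) (SubMulAction.ofStabilizer G a) n ∧
    ∀ x : Fin n ↪ SubMulAction.ofStabilizer G a, stabilizer (stabilizer G a) x = ⊥ := by
  refine ⟨SubMulAction.ofStabilizer.isMultiplyPretransitive.mp hn, ?_⟩
  intro x
  rw [eq_bot_iff]
  intro k hk
  rw [mem_stabilizer_iff] at hk
  have hmem : (k : G) ∈ stabilizer G (SubMulAction.ofStabilizer.snoc x) := by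
    rw [mem_stabilizer_iff]
    ext i
    rcases Fin.eq_castSucc_or_eq_last i with ⟨i, rfl⟩ | rfl
    · rw [Function.Embedding.smul_apply, SubMulAction.ofStabilizer.snoc_castSucc]
      have := congrArg (fun e : Fin n ↪ SubMulAction.ofStabilizer G a => ((e i : SubMulAction.ofStabilizer G a) : Ω)) hk
      exact this
    · rw [Function.Embedding.smul_apply, SubMulAction.ofStabilizer.snoc_last]
      exact k.2
  rw [hsharp] at hmem
  rw [Subgroup.mem_bot]
  exact Subtype.ext (Subgroup.mem_bot.mp hmem)

/-- The order of a sharply `k`-transitive group. -/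
theorem card_eq_of_sharp {G Ω : Type*} [Group G] [MulAction G Ω] [Finite Ω] {k : ℕ}
    (hk : IsMultiplyPretransitive G Ω k) (hsharp : ∀ x : Fin k ↪ Ω, stabilizer G x = ⊥)
    (x0 : Fin k ↪ Ω) : Nat.card G = (Nat.card Ω).descFactorial k := by
  classical
  have hbij : Function.Bijective (fun g : G => g • x0) := by
    constructor
    · intro g g' e
      have e' : g • x0 = g' • x0 := e
      have : g'⁻¹ * g ∈ stabilizer G x0 := by
        rw [mem_stabilizer_iff, mul_smul, e', inv_smul_smul]
      rw [hsharp, Subgroup.mem_bot] at this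
      exact (inv_mul_eq_one.mp this).symm
    · intro y
      exact hk.exists_smul_eq x0 y
  rw [Nat.card_eq_of_bijective _ hbij]
  have := Fintype.ofFinite Ω
  rw [Nat.card_eq_fintype_card, Fintype.card_embedding_eq, Fintype.card_fin,
    Nat.card_eq_fintype_card]

/-- Sharply 5-transitive groups have degree 5, 6, 7 or 12. -/
theorem sharp5_card {G Ω : Type*} [Group G] [MulAction G Ω] [Finite Ω] (h5card : 5 ≤ Nat.card Ω)
    (h5 : IsMultiplyPretransitive G Ω 5) (hsharp : ∀ x : Fin 5 ↪ Ω, stabilizer G x = ⊥) :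
    Nat.card Ω = 5 ∨ Nat.card Ω = 6 ∨ Nat.card Ω = 7 ∨ Nat.card Ω = 12 := by
  classical
  have hne : Nonempty Ω := by
    rw [← Finite.card_pos_iff]; omega
  obtain ⟨a⟩ := hne
  have h1 : IsPretransitive G Ω := by
    have : IsMultiplyPretransitive G Ω 1 :=
      isMultiplyPretransitive_of_le (n := 5) (by norm_num) h5card
    exact is_one_pretransitive_iff.mp this
  obtain ⟨h4, hs4⟩ := sharp_ofStabilizer a h5 hsharp
  have hc := SubMulAction.nat_card_ofStabilizer_add_one_eq (G := G) a
  have hne4 : Nonempty (Fin 4 ↪ SubMulAction.ofStabilizer G a) := by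
    have := Fintype.ofFinite (SubMulAction.ofStabilizer G a)
    apply Function.Embedding.nonempty_of_card_le
    rw [Fintype.card_fin, ← Nat.card_eq_fintype_card]
    omega
  obtain ⟨_, hcard⟩ := sharp4_card h4 hs4 hne4
  omega

/-- There is no sharply 6-transitive group of degree 13 (Sylow 13-counting). -/
theorem not_sharp6_thirteen {G Ω : Type*} [Group G] [MulAction G Ω] [Finite Ω]
    (h13 : Nat.card Ω = 13) (h6 : IsMultiplyPretransitive G Ω 6)
    (hsharp : ∀ x : Fin 6 ↪ Ω, stabilizer G x = ⊥) : False := by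
  classical
  have hΩ := Fintype.ofFinite Ω
  obtain ⟨x0⟩ : Nonempty (Fin 6 ↪ Ω) := by
    apply Function.Embedding.nonempty_of_card_le
    rw [Fintype.card_fin, ← Nat.card_eq_fintype_card, h13]
    norm_num
  have hG : Nat.card G = 13 * 95040 := by
    rw [card_eq_of_sharp h6 hsharp x0, h13]
    decide
  have hGfin : Finite G := Nat.finite_of_card_ne_zero (by rw [hG]; norm_num)
  have hp : Fact (Nat.Prime 13) := ⟨by norm_num⟩
  obtain ⟨P⟩ : Nonempty (Sylow 13 G) := inferInstance
  obtain ⟨hP, -⟩ := Cfsg.Agent.Lib.Helper7.sylow_card_index_of_exact (p := 13) (m := 95040) hG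
    (by norm_num) P
  -- an element fixing every point is trivial
  have hfaith : ∀ g : G, (∀ ω : Ω, g • ω = ω) → g = 1 := by
    intro g hg
    have : g ∈ stabilizer G x0 := by
      rw [mem_stabilizer_iff]; ext i; exact hg _
    rwa [hsharp, Subgroup.mem_bot] at this
  -- P has no fixed point on Ω
  have hPprime : Fact (Nat.card ↥(P : Subgroup G)).Prime := ⟨by rw [hP]; norm_num⟩
  have hnofix : ∀ α : Ω, ∃ p : ↥(P : Subgroup G), p • α ≠ α := by
    by_contra hcon
    push Not at hcon
    obtain ⟨α, hα⟩ := hcon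
    have hmod := P.2.card_modEq_card_fixedPoints Ω
    rw [h13] at hmod
    have hdvd : 13 ∣ Nat.card ↥(fixedPoints ↥(P : Subgroup G) Ω) :=
      (Nat.modEq_zero_iff_dvd.mp (hmod.symm.trans (by decide)))
    have hle : Nat.card ↥(fixedPoints ↥(P : Subgroup G) Ω) ≤ 13 := by
      have : Nat.card ↥(fixedPoints ↥(P : Subgroup G) Ω) ≤ Nat.card Ω :=
        Nat.card_le_card_of_injective Subtype.val Subtype.val_injective
      rw [h13] at this
      exact this
    have hpos : 0 < Nat.card ↥(fixedPoints ↥(P : Subgroup G) Ω) := by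
      rw [Nat.card_pos_iff]
      exact ⟨⟨⟨α, fun p => hα p⟩⟩, inferInstance⟩
    have h13' : Nat.card ↥(fixedPoints ↥(P : Subgroup G) Ω) = 13 := by
      obtain ⟨m, hm⟩ := hdvd
      have : m = 1 := by omega
      omega
    -- all points fixed
    have hall : fixedPoints ↥(P : Subgroup G) Ω = Set.univ := by
      rw [Set.eq_univ_iff_ncard, ← Nat.card_coe_set_eq, h13', h13]
    -- so P is trivial
    have hPbot : ∀ p : ↥(P : Subgroup G), p = 1 := by
      intro p
      apply Subtype.ext
      apply hfaith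
      intro ω
      have : ω ∈ fixedPoints ↥(P : Subgroup G) Ω := by rw [hall]; trivial
      exact this p
    have : Nat.card ↥(P : Subgroup G) = 1 := by
      rw [Nat.card_eq_one_iff_unique]
      exact ⟨⟨fun a b => (hPbot a).trans (hPbot b).symm⟩, ⟨1⟩⟩
    omega
  -- P is transitive on Ω
  have htrans : ∀ α ω : Ω, ∃ p : ↥(P : Subgroup G), p • α = ω := by
    intro α ω
    have hstab : stabilizer ↥(P : Subgroup G) α = ⊥ := by
      rcases (stabilizer ↥(P : Subgroup G) α).eq_bot_or_eq_top_of_prime_card with hb | ht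
      · exact hb
      · exfalso
        obtain ⟨p, hp⟩ := hnofix α
        apply hp
        have : p ∈ stabilizer ↥(P : Subgroup G) α := by rw [ht]; trivial
        exact this
    have hidx := MulAction.index_stabilizer ↥(P : Subgroup G) α
    rw [hstab, Subgroup.index_bot, hP] at hidx
    have huniv : orbit ↥(P : Subgroup G) α = Set.univ := by
      rw [Set.eq_univ_iff_ncard, ← hidx, h13]
    have : ω ∈ orbit ↥(P : Subgroup G) α := by rw [huniv]; trivial
    obtain ⟨p, hp⟩ := this
    exact ⟨p, hp⟩
  -- the centralizer of P is P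
  have hcomm := Cfsg.Agent.Lib.Helper7.comm_of_card_prime (P : Subgroup G) hP
  have hC : Subgroup.centralizer ((P : Subgroup G) : Set G) = (P : Subgroup G) := by
    apply le_antisymm
    · intro g hg
      rw [Subgroup.mem_centralizer_iff] at hg
      obtain ⟨α⟩ : Nonempty Ω := by
        rw [← Finite.card_pos_iff]; omega
      obtain ⟨p, hp⟩ := htrans α (g • α)
      have hone : (p : G)⁻¹ * g = 1 := by
        apply hfaith
        intro ω
        obtain ⟨q, hq⟩ := htrans α ω
        have hq' : (q : G) • α = ω := hq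
        have hp' : (p : G) • α = g • α := hp
        have e1 : g * (q : G) = (q : G) * g := (hg q q.2).symm
        have e2 : (p : G)⁻¹ * (q : G) = (q : G) * (p : G)⁻¹ := by
          have := hcomm p p.2 q q.2
          calc (p : G)⁻¹ * (q : G) = (p : G)⁻¹ * ((q : G) * (p : G)) * (p : G)⁻¹ := by group
            _ = (p : G)⁻¹ * ((p : G) * (q : G)) * (p : G)⁻¹ := by rw [this]
            _ = (q : G) * (p : G)⁻¹ := by group
        calc ((p : G)⁻¹ * g) • ω = ((p : G)⁻¹ * g * (q : G)) • α := by rw [mul_smul _ (q : G), hq']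
          _ = ((p : G)⁻¹ * ((q : G) * g)) • α := by rw [mul_assoc, e1]
          _ = ((q : G) * ((p : G)⁻¹ * g)) • α := by rw [← mul_assoc, e2, mul_assoc]
          _ = (q : G) • ((p : G)⁻¹ • (g • α)) := by rw [mul_smul, mul_smul]
          _ = (q : G) • α := by rw [← hp', inv_smul_smul]
          _ = ω := hq'
      have : g = (p : G) := by
        have := inv_mul_eq_one.mp hone
        exact this.symm
      rw [this]; exact p.2
    · intro g hg
      rw [Subgroup.mem_centralizer_iff]
      intro q hq
      exact hcomm q hq g hg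
  -- counting
  have hrel := Cfsg.Agent.Lib.Helper7.relIndex_centralizer_normalizer_dvd_of_prime (p := 13)
    (P : Subgroup G) hP
  have hmul := Cfsg.Agent.Lib.Helper7.card_centralizer_mul_relIndex (P : Subgroup G)
  have hsyl := Cfsg.Agent.Lib.Helper7.card_sylow_mul_card_normalizer P
  have hmod := card_sylow_modEq_one 13 G
  rw [hC, hP] at hmul
  rw [← hmul, hG] at hsyl
  set r := (P : Subgroup G).relIndex (Subgroup.normalizer ((P : Subgroup G) : Set G)) with hr
  set n13 := Nat.card (Sylow 13 G) with hn13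
  have hr12 : r ∣ 12 := by
    have : (13 : ℕ) - 1 = 12 := by norm_num
    rw [← this]; rw [hC] at hrel; exact hrel
  have hrle : r ≤ 12 := Nat.le_of_dvd (by norm_num) hr12
  have hrpos : 0 < r := Nat.pos_of_dvd_of_pos hr12 (by norm_num)
  have hmod' : n13 % 13 = 1 := hmod
  have hprod : n13 * r = 95040 := by
    have : 13 * (n13 * r) = 13 * 95040 := by rw [← hsyl]; ring
    omega
  interval_cases r <;> omega

universe u v

/-- Passing to a point stabilizer, with the bookkeeping on cardinalities. -/
theorem sharp_succ_reduce {G : Type u} {Ω : Type v} [Group G] [MulAction G Ω] [Finite Ω] {k : ℕ}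
    (hcard : k + 1 ≤ Nat.card Ω) (hk : IsMultiplyPretransitive G Ω (k + 1))
    (hsharp : ∀ x : Fin (k + 1) ↪ Ω, stabilizer G x = ⊥) :
    ∃ a : Ω, IsMultiplyPretransitive (stabilizer G a) (SubMulAction.ofStabilizer G a) k ∧
      (∀ x : Fin k ↪ SubMulAction.ofStabilizer G a, stabilizer (stabilizer G a) x = ⊥) ∧
      Nat.card (SubMulAction.ofStabilizer G a) + 1 = Nat.card Ω := by
  have hne : Nonempty Ω := by
    rw [← Finite.card_pos_iff]; omega
  obtain ⟨a⟩ := hne
  have h1 : IsPretransitive G Ω := by
    have : IsMultiplyPretransitive G Ω 1 :=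
      isMultiplyPretransitive_of_le (n := k + 1) (by omega) hcard
    exact is_one_pretransitive_iff.mp this
  obtain ⟨h4, hs4⟩ := sharp_ofStabilizer a hk hsharp
  exact ⟨a, h4, hs4, SubMulAction.nat_card_ofStabilizer_add_one_eq (G := G) a⟩

/-- **Jordan.** For `k ≥ 6`, a sharply `k`-transitive group has degree `k`, `k+1` or `k+2`. -/
theorem sharp_ge6_card : ∀ (k : ℕ), 6 ≤ k → ∀ {G : Type u} {Ω : Type v} [Group G]
    [MulAction G Ω] [Finite Ω], k ≤ Nat.card Ω → IsMultiplyPretransitive G Ω k →
    (∀ x : Fin k ↪ Ω, stabilizer G x = ⊥) →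
    Nat.card Ω = k ∨ Nat.card Ω = k + 1 ∨ Nat.card Ω = k + 2 := by
  intro k hk
  induction k, hk using Nat.le_induction with
  | base =>
    intro G Ω _ _ _ hcard h6 hsharp
    obtain ⟨a, h5, hs5, hc⟩ := sharp_succ_reduce (k := 5) hcard h6 hsharp
    have h5' := sharp5_card (by omega) h5 hs5
    have hne13 : Nat.card Ω ≠ 13 := fun h13 => not_sharp6_thirteen h13 h6 hsharp
    omega
  | succ k hk ih =>
    intro G Ω _ _ _ hcard hk1 hsharp
    obtain ⟨a, h5, hs5, hc⟩ := sharp_succ_reduce hcard hk1 hsharp
    have := ih (by omega) h5 hs5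
    omega

end Cfsg.Agent.Lib.Helper9
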