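/-
Helper9 library: a sharply 4-transitive group of degree 11 is simple of order 7920.
-/
import Cfsg.Agent.Lib.Helper9.SharpK
import Cfsg.Agent.Lib.Helper9.PermNormal

set_option autoImplicit false

namespace Cfsg.Agent.Lib.Helper9

open MulAction

/-- Data extracted from sharp transitivity: order, faithfulness, double transitivity. -/
theorem sharp_basic {G Ω : Type*} [Group G] [MulAction G Ω] [Finite Ω] {k : ℕ} (hk2 : 2 ≤ k)
    (hcard : k ≤ Nat.card Ω)
    (hk : IsMultiplyPretransitive G Ω k) (hsharp : ∀ x : Fin k ↪ Ω, stabilizer G x = ⊥) :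
    Nat.card G = (Nat.card Ω).descFactorial k ∧ (∀ g : G, (∀ ω : Ω, g • ω = ω) → g = 1) ∧
      IsMultiplyPretransitive G Ω 2 := by
  classical
  have hΩ := Fintype.ofFinite Ω
  obtain ⟨x0⟩ : Nonempty (Fin k ↪ Ω) := by
    apply Function.Embedding.nonempty_of_card_le
    rw [Fintype.card_fin, ← Nat.card_eq_fintype_card]
    exact hcard
  refine ⟨card_eq_of_sharp hk hsharp x0, ?_, isMultiplyPretransitive_of_le (n := k) hk2 hcard⟩
  intro g hg
  have : g ∈ stabilizer G x0 := by
    rw [mem_stabilizer_iff]; ext i; exact hg _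
  rwa [hsharp, Subgroup.mem_bot] at this

/-- A normal subgroup containing a Sylow `p`-subgroup `P` with `N_N(P) = P` abelian has a
normal `p`-complement which is normal in the whole group. -/
theorem exists_normal_complement_of_self_normalizing {G : Type*} [Group G] [Finite G] {p : ℕ}
    [Fact p.Prime] (N : Subgroup G) [hN : N.Normal] (P : Sylow p G) (hPN : (P : Subgroup G) ≤ N)
    (hcomm : ∀ a ∈ (P : Subgroup G), ∀ b ∈ (P : Subgroup G), a * b = b * a)
    (hNN : N ⊓ Subgroup.normalizer ((P : Subgroup G) : Set G) = (P : Subgroup G)) :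
    ∃ M : Subgroup G, M.Normal ∧ M ≤ N ∧ Nat.card ↥M * Nat.card ↥(P : Subgroup G) = Nat.card ↥N := by
  classical
  let P' : Sylow p ↥N := P.subtype hPN
  have hP'coe : (P' : Subgroup ↥N) = (P : Subgroup G).subgroupOf N := Sylow.coe_subtype P hPN
  have hNC : Subgroup.normalizer ((P' : Subgroup ↥N) : Set ↥N) ≤
      Subgroup.centralizer ((P' : Subgroup ↥N) : Set ↥N) := by
    intro x hx
    rw [hP'coe, ← Subgroup.subgroupOf_normalizer_eq hPN] at hx
    have hxP : (x : G) ∈ (P : Subgroup G) := by
      rw [← hNN]; exact ⟨x.2, Subgroup.mem_subgroupOf.mp hx⟩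
    rw [Subgroup.mem_centralizer_iff]
    intro y hy
    rw [SetLike.mem_coe, hP'coe, Subgroup.mem_subgroupOf] at hy
    apply Subtype.ext
    exact hcomm (y : G) hy (x : G) hxP
  have hcompl := MonoidHom.ker_transferSylow_isComplement' P' hNC
  set M := (MonoidHom.transferSylow P' hNC).ker with hM
  have hMn : M.Normal := inferInstance
  have hcard := hcompl.card_mul_card
  have hP'card : Nat.card ↥(P' : Subgroup ↥N) = Nat.card ↥(P : Subgroup G) := by
    rw [hP'coe]
    exact Nat.card_congr (Subgroup.subgroupOfEquivOfLe hPN).toEquiv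
  have hcop : (Nat.card ↥M).Coprime (Nat.card ↥(P' : Subgroup ↥N)) := by
    -- |M| = index of P', prime to p
    have h1 : Nat.card ↥M = (P' : Subgroup ↥N).index := by
      have h2 := (P' : Subgroup ↥N).card_mul_index
      have hpos : 0 < Nat.card ↥(P' : Subgroup ↥N) := Nat.card_pos
      rw [← hcard, mul_comm (Nat.card ↥M)] at h2
      exact (Nat.eq_of_mul_eq_mul_left hpos h2).symm
    rw [h1]
    obtain ⟨n, hn⟩ := P'.2.exists_card_eq
    rw [hn]
    apply Nat.Coprime.pow_right
    rw [Nat.coprime_comm, Nat.Prime.coprime_iff_not_dvd Fact.out]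
    exact P'.not_dvd_index
  refine ⟨M.map N.subtype, ?_, ?_, ?_⟩
  · -- normality in G
    constructor
    intro x hx g
    obtain ⟨m, hm, rfl⟩ := hx
    have hmemN : g * (m : G) * g⁻¹ ∈ N := hN.conj_mem _ m.2 g
    refine ⟨⟨g * (m : G) * g⁻¹, hmemN⟩, ?_, rfl⟩
    -- the element has order dividing |M|, and its image in N/M has order dividing |P'|
    set n' : ↥N := ⟨g * (m : G) * g⁻¹, hmemN⟩ with hn'
    have hpow : n' ^ Nat.card ↥M = 1 := by
      apply Subtype.ext
      have h1 : (m : ↥N) ^ Nat.card ↥M = 1 := by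
        have := pow_card_eq_one' (G := ↥M) (x := ⟨m, hm⟩)
        exact congrArg Subtype.val this
      have h2 : ((m : ↥N) : G) ^ Nat.card ↥M = 1 := by
        have := congrArg Subtype.val h1
        simpa using this
      show (g * (m : G) * g⁻¹) ^ Nat.card ↥M = 1
      rw [conj_pow, h2, mul_one, mul_inv_cancel]
    show n' ∈ M
    rw [← QuotientGroup.eq_one_iff]
    have hq1 : (n' : ↥N ⧸ M) ^ Nat.card ↥M = 1 := by
      rw [← QuotientGroup.mk_pow, hpow, QuotientGroup.mk_one]
    have hq2 : (n' : ↥N ⧸ M) ^ Nat.card ↥(P' : Subgroup ↥N) = 1 := by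
      have hidx : Nat.card (↥N ⧸ M) = Nat.card ↥(P' : Subgroup ↥N) := by
        have h2 := M.card_mul_index
        have hpos : 0 < Nat.card ↥M := Nat.card_pos
        rw [← hcard] at h2
        exact Nat.eq_of_mul_eq_mul_left hpos h2
      rw [← hidx]
      exact pow_card_eq_one'
    have ho1 := orderOf_dvd_of_pow_eq_one hq1
    have ho2 := orderOf_dvd_of_pow_eq_one hq2
    have := Nat.dvd_gcd ho1 ho2
    rw [Nat.Coprime.gcd_eq_one hcop, Nat.dvd_one] at this
    exact orderOf_eq_one_iff.mp this
  · rintro x ⟨m, -, rfl⟩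
    exact m.2
  · rw [← hP'card, ← hcard]
    congr 1
    exact Nat.card_congr (Subgroup.equivMapOfInjective M N.subtype N.subtype_injective).symm.toEquiv

/-- **A sharply 4-transitive group of degree 11 is simple of order 7920.** -/
theorem sharp4_eleven {G Ω : Type*} [Group G] [MulAction G Ω] [Finite Ω] (h11 : Nat.card Ω = 11)
    (h4 : IsMultiplyPretransitive G Ω 4) (hsharp : ∀ x : Fin 4 ↪ Ω, stabilizer G x = ⊥) :
    IsSimpleGroup G ∧ Nat.card G = 7920 := by
  classical
  obtain ⟨hG0, hfaith, h2⟩ := sharp_basic (k := 4) (by norm_num) (by omega) h4 hsharp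
  have hG : Nat.card G = 11 * 720 := by rw [hG0, h11]; decide
  have hGfin : Finite G := Nat.finite_of_card_ne_zero (by rw [hG]; norm_num)
  have hp : Fact (Nat.Prime 11) := ⟨by norm_num⟩
  obtain ⟨a⟩ : Nonempty Ω := by
    rw [← Finite.card_pos_iff]; omega
  have key : ∀ N : Subgroup G, N.Normal → N ≠ ⊥ → N = ⊤ := by
    intro N hN hne
    have htr := normal_transitive h2 hfaith N hne
    have h11N : 11 ∣ Nat.card ↥N := by
      rw [← h11]; exact card_dvd_of_transitive N htr a
    obtain ⟨n, hn⟩ := exists_prime_orderOf_dvd_card' 11 h11N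
    set Q : Subgroup G := Subgroup.zpowers (n : G) with hQ
    have hQcard : Nat.card ↥Q = 11 := by
      rw [Nat.card_zpowers, Subgroup.orderOf_coe, hn]
    have hQN : Q ≤ N := by
      rw [hQ, Subgroup.zpowers_le]; exact n.2
    have hQp : IsPGroup 11 ↥Q := IsPGroup.of_card (n := 1) (by rw [hQcard, pow_one])
    obtain ⟨P, hQP⟩ := hQp.exists_le_sylow
    obtain ⟨hPcard, -⟩ := Cfsg.Agent.Lib.Helper7.sylow_card_index_of_exact (p := 11) (m := 720)
      hG (by norm_num) P
    have hQeq : Q = (P : Subgroup G) :=
      Subgroup.eq_of_le_of_card_ge hQP (by rw [hPcard, hQcard])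
    have hPN : (P : Subgroup G) ≤ N := hQeq ▸ hQN
    have hC := centralizer_eq_of_prime_degree h11 hfaith (P : Subgroup G) hPcard
    have hrel := Cfsg.Agent.Lib.Helper7.relIndex_centralizer_normalizer_dvd_of_prime (p := 11)
      (P : Subgroup G) hPcard
    have hmul := Cfsg.Agent.Lib.Helper7.card_centralizer_mul_relIndex (P : Subgroup G)
    have hsyl := Cfsg.Agent.Lib.Helper7.card_sylow_mul_card_normalizer P
    have hmod := card_sylow_modEq_one 11 G
    rw [hC, hPcard] at hmul
    have hnorm : Nat.card ↥(Subgroup.normalizer ((P : Subgroup G) : Set G)) = 55 := by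
      rw [← hmul, hG] at hsyl
      rw [hC] at hrel
      set r := (P : Subgroup G).relIndex (Subgroup.normalizer ((P : Subgroup G) : Set G)) with hr
      set n11 := Nat.card (Sylow 11 G) with hn11
      have hr10 : r ∣ 10 := hrel
      have hrle : r ≤ 10 := Nat.le_of_dvd (by norm_num) hr10
      have hrpos : 0 < r := Nat.pos_of_dvd_of_pos hr10 (by norm_num)
      have hmod' : n11 % 11 = 1 := hmod
      have hprod : n11 * r = 720 := by
        have : 11 * (n11 * r) = 11 * 720 := by rw [← hsyl]; ring
        omega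
      have hr5 : r = 5 := by
        interval_cases r <;> omega
      rw [← hmul, hr5]
    have hsup : Subgroup.normalizer ((P : Subgroup G) : Set G) ⊔ N = ⊤ :=
      Sylow.normalizer_sup_eq_top' P hPN
    by_cases hle : Subgroup.normalizer ((P : Subgroup G) : Set G) ≤ N
    · rw [sup_of_le_right hle] at hsup; exact hsup
    · exfalso
      have hcomm := Cfsg.Agent.Lib.Helper7.comm_of_card_prime (P : Subgroup G) hPcard
      have hNN : N ⊓ Subgroup.normalizer ((P : Subgroup G) : Set G) = (P : Subgroup G) := by
        have hPle : (P : Subgroup G) ≤ N ⊓ Subgroup.normalizer ((P : Subgroup G) : Set G) :=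
          le_inf hPN Subgroup.le_normalizer
        have hdvd : Nat.card ↥(N ⊓ Subgroup.normalizer ((P : Subgroup G) : Set G)) ∣ 55 := by
          rw [← hnorm]; exact Subgroup.card_dvd_of_le inf_le_right
        have h11dvd : 11 ∣ Nat.card ↥(N ⊓ Subgroup.normalizer ((P : Subgroup G) : Set G)) := by
          have := Subgroup.card_dvd_of_le hPle
          rw [hPcard] at this
          exact this
        have hcases : Nat.card ↥(N ⊓ Subgroup.normalizer ((P : Subgroup G) : Set G)) = 11 ∨
            Nat.card ↥(N ⊓ Subgroup.normalizer ((P : Subgroup G) : Set G)) = 55 := by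
          obtain ⟨m, hm⟩ := h11dvd
          rw [hm] at hdvd ⊢
          have hm5 : m ∣ 5 := by
            have : 11 * m ∣ 11 * 5 := hdvd
            exact Nat.dvd_of_mul_dvd_mul_left (by norm_num) this
          have hmle : m ≤ 5 := Nat.le_of_dvd (by norm_num) hm5
          have hmpos : 0 < m := Nat.pos_of_dvd_of_pos hm5 (by norm_num)
          interval_cases m <;> omega
        rcases hcases with h | h
        · exact (Subgroup.eq_of_le_of_card_ge hPle (by rw [h, hPcard])).symm
        · exfalso; apply hle
          have : N ⊓ Subgroup.normalizer ((P : Subgroup G) : Set G) =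
              Subgroup.normalizer ((P : Subgroup G) : Set G) :=
            Subgroup.eq_of_le_of_card_ge inf_le_right (by rw [h, hnorm])
          rw [← this]; exact inf_le_left
      obtain ⟨M, hMn, hMN, hMcard⟩ :=
        exists_normal_complement_of_self_normalizing N P hPN hcomm hNN
      rw [hPcard] at hMcard
      by_cases hM : M = ⊥
      · rw [hM, Subgroup.card_bot, one_mul] at hMcard
        have hNP : (P : Subgroup G) = N :=
          Subgroup.eq_of_le_of_card_ge hPN (by rw [← hMcard, hPcard])
        have htop : Subgroup.normalizer ((P : Subgroup G) : Set G) = ⊤ := by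
          rw [hNP]; exact Subgroup.normalizer_eq_top_iff.mpr hN
        rw [htop, Subgroup.card_top, hG] at hnorm
        omega
      · have htrM := normal_transitive h2 hfaith M hM
        have h11M : 11 ∣ Nat.card ↥M := by
          rw [← h11]; exact card_dvd_of_transitive M htrM a
        have h121 : 11 * 11 ∣ Nat.card ↥N := by
          rw [← hMcard]; exact Nat.mul_dvd_mul_right h11M 11
        have h2' := h121.trans (Subgroup.card_subgroup_dvd_card N)
        rw [hG] at h2'
        omega
  refine ⟨?_, by rw [hG]⟩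
  have hnt : Nontrivial G := by
    rw [← Finite.one_lt_card_iff_nontrivial, hG]; norm_num
  refine ⟨?_⟩
  intro N hN
  by_cases hne : N = ⊥
  · left; exact hne
  · right; exact key N hN hne

end Cfsg.Agent.Lib.Helper9
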