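/-
Helper9 library: a sharply 5-transitive group of degree 12 is simple of order 95040.
-/
import Cfsg.Agent.Lib.Helper9.M11Simple

set_option autoImplicit false

namespace Cfsg.Agent.Lib.Helper9

open MulAction

/-- **A sharply 5-transitive group of degree 12 is simple of order 95040.** -/
theorem sharp5_twelve {G Ω : Type*} [Group G] [MulAction G Ω] [Finite Ω] (h12 : Nat.card Ω = 12)
    (h5 : IsMultiplyPretransitive G Ω 5) (hsharp : ∀ x : Fin 5 ↪ Ω, stabilizer G x = ⊥) :
    IsSimpleGroup G ∧ Nat.card G = 95040 := by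
  classical
  obtain ⟨hG0, hfaith, h2⟩ := sharp_basic (k := 5) (by norm_num) (by omega) h5 hsharp
  have hG : Nat.card G = 95040 := by rw [hG0, h12]; decide
  have hGfin : Finite G := Nat.finite_of_card_ne_zero (by rw [hG]; norm_num)
  obtain ⟨a⟩ : Nonempty Ω := by
    rw [← Finite.card_pos_iff]; omega
  have h1 : IsPretransitive G Ω := by
    have : IsMultiplyPretransitive G Ω 1 :=
      isMultiplyPretransitive_of_le (n := 5) (by norm_num) (by omega)
    exact is_one_pretransitive_iff.mp this
  obtain ⟨h4, hs4⟩ := sharp_ofStabilizer a h5 hsharp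
  have hc := SubMulAction.nat_card_ofStabilizer_add_one_eq (G := G) a
  obtain ⟨hsimple, -⟩ := sharp4_eleven (G := ↥(stabilizer G a))
    (Ω := ↥(SubMulAction.ofStabilizer G a)) (by omega) h4 hs4
  have key : ∀ N : Subgroup G, N.Normal → N ≠ ⊥ → N = ⊤ := by
    intro N hN hne
    have htr := normal_transitive h2 hfaith N hne
    have hNa : (N.subgroupOf (stabilizer G a)).Normal := hN.subgroupOf _
    rcases hNa.eq_bot_or_eq_top with hb | ht
    · exfalso
      rw [Subgroup.subgroupOf_eq_bot, disjoint_iff] at hb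
      -- N is regular of order 12
      have htrN : IsPretransitive ↥N Ω := ⟨fun γ δ => by
        obtain ⟨n, hn, e⟩ := htr γ δ
        exact ⟨⟨n, hn⟩, e⟩⟩
      have hstab : stabilizer ↥N a = ⊥ := by
        rw [eq_bot_iff]
        intro n hn
        rw [mem_stabilizer_iff] at hn
        have : (n : G) ∈ N ⊓ stabilizer G a := ⟨n.2, hn⟩
        rw [hb, Subgroup.mem_bot] at this
        rw [Subgroup.mem_bot]
        exact Subtype.ext this
      have hNcard : Nat.card ↥N = 12 := by
        have := index_stabilizer_of_transitive ↥N a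
        rw [hstab, Subgroup.index_bot, h12] at this
        exact this
      have hN2 : Fact (Nat.Prime 2) := ⟨Nat.prime_two⟩
      have hN3 : Fact (Nat.Prime 3) := ⟨Nat.prime_three⟩
      obtain ⟨n2, hn2⟩ := exists_prime_orderOf_dvd_card' (G := ↥N) 2 (by rw [hNcard]; norm_num)
      obtain ⟨n3, hn3⟩ := exists_prime_orderOf_dvd_card' (G := ↥N) 3 (by rw [hNcard]; norm_num)
      -- the two elements are conjugate under the stabilizer of a
      have hmove : ∀ n : ↥N, n ≠ 1 → (n : G) • a ≠ a := by
        intro n hn1 e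
        have : (n : G) ∈ N ⊓ stabilizer G a := ⟨n.2, e⟩
        rw [hb, Subgroup.mem_bot] at this
        exact hn1 (Subtype.ext this)
      have hn2ne : n2 ≠ 1 := by
        intro e; rw [e, orderOf_one] at hn2; omega
      have hn3ne : n3 ≠ 1 := by
        intro e; rw [e, orderOf_one] at hn3; omega
      obtain ⟨g, hg1, hg2⟩ := is_two_pretransitive_iff.mp h2
        (Ne.symm (hmove n2 hn2ne)) (Ne.symm (hmove n3 hn3ne))
      have hconj : g * (n2 : G) * g⁻¹ = (n3 : G) := by
        have hmem : (n3 : G)⁻¹ * (g * (n2 : G) * g⁻¹) ∈ N ⊓ stabilizer G a := by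
          refine ⟨N.mul_mem (N.inv_mem n3.2) (hN.conj_mem _ n2.2 g), ?_⟩
          show (n3 : G)⁻¹ * (g * (n2 : G) * g⁻¹) ∈ stabilizer G a
          rw [mem_stabilizer_iff, mul_smul, mul_smul, mul_smul]
          have : g⁻¹ • a = a := by rw [inv_smul_eq_iff, hg1]
          rw [this, hg2, inv_smul_smul]
        rw [hb, Subgroup.mem_bot] at hmem
        exact (inv_mul_eq_one.mp hmem).symm
      have ho : orderOf (g * (n2 : G) * g⁻¹) = orderOf (n2 : G) := by
        have := MulEquiv.orderOf_eq (MulAut.conj g) (n2 : G)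
        rwa [MulAut.conj_apply] at this
      rw [hconj, Subgroup.orderOf_coe, Subgroup.orderOf_coe, hn2, hn3] at ho
      omega
    · rw [Subgroup.subgroupOf_eq_top] at ht
      rw [eq_top_iff]
      intro g _
      obtain ⟨n, hn, e⟩ := htr a (g • a)
      have : n⁻¹ * g ∈ stabilizer G a := by
        rw [mem_stabilizer_iff, mul_smul, ← e, inv_smul_smul]
      have h3 := N.mul_mem hn (ht this)
      rwa [mul_inv_cancel_left] at h3
  refine ⟨?_, hG⟩
  have hnt : Nontrivial G := by
    rw [← Finite.one_lt_card_iff_nontrivial, hG]; norm_num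
  refine ⟨?_⟩
  intro N hN
  by_cases hne : N = ⊥
  · left; exact hne
  · right; exact key N hN hne

end Cfsg.Agent.Lib.Helper9
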