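import Mathlib
import Cfsg.Prelude.Def_Characters
import Cfsg.Agent.Lib.Helper9.MCFGal
import Cfsg.Agent.Lib.Helper11.MCFSyl

/-!
# S4923 leaf (SMALL) `result_three` (helper9; planner helper17's exact name and binders)

`|P| = 8`: `|P : P'| = 4` iff some `g ∈ P` of even class size has value field `ℚ(ζ + ζ⁻¹) = ℚ` or
`ℚ(ζ - ζ⁻¹) = ℚ(ζ)`, `ζ` a primitive 4th root of unity.
-/

set_option autoImplicit false

namespace Cfsg.Agent.Lib.Helper9.MCF

open Cfsg

universe u

/-- A nonabelian group of order 8 has commutator subgroup of index 4. -/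
theorem index_commutator_of_card_eight {H : Type*} [Group H] [Finite H] (hH : Nat.card H = 2 ^ 3)
    (hnab : ¬ ∀ a b : H, a * b = b * a) : (commutator H).index = 4 := by
  classical
  haveI : Fact (Nat.Prime 2) := ⟨Nat.prime_two⟩
  have hp : IsPGroup 2 H := IsPGroup.of_card hH
  haveI : Nontrivial H := by
    apply (Finite.one_lt_card_iff_nontrivial).mp; rw [hH]; norm_num
  have hZnt : Nontrivial (Subgroup.center H) := hp.center_nontrivial
  have hZdvd : Nat.card (Subgroup.center H) ∣ 2 ^ 3 := hH ▸ Subgroup.card_subgroup_dvd_card _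
  obtain ⟨k, hk3, hZk⟩ := (Nat.dvd_prime_pow Nat.prime_two).mp hZdvd
  have hidx : Nat.card (Subgroup.center H) * (Subgroup.center H).index = 2 ^ 3 := by
    rw [← hH]; exact Subgroup.card_mul_index _
  have hcenter_top : Subgroup.center H ≠ ⊤ := by
    intro htop
    apply hnab
    intro a b
    have ha : a ∈ Subgroup.center H := by rw [htop]; exact Subgroup.mem_top a
    exact ((Subgroup.mem_center_iff.mp ha) b).symm
  have hk1 : k = 1 := by
    interval_cases k
    · exfalso
      have := Finite.one_lt_card_iff_nontrivial.mpr hZnt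
      rw [hZk] at this; norm_num at this
    · rfl
    · exfalso
      have h2 : (Subgroup.center H).index = 2 := by rw [hZk] at hidx; omega
      have hcard : Nat.card (H ⧸ Subgroup.center H) = 2 := by
        rw [← Subgroup.index_eq_card]; exact h2
      haveI : IsCyclic (H ⧸ Subgroup.center H) := isCyclic_of_prime_card hcard
      apply hnab
      have hc := (QuotientGroup.mk' (Subgroup.center H)).isMulCommutative_of_isCyclic_of_ker_le_center
        (by rw [QuotientGroup.ker_mk'])
      exact fun a b => hc.is_comm.comm a b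
    · exfalso
      apply hcenter_top
      apply Subgroup.eq_top_of_card_eq
      rw [hZk, hH]
  subst hk1
  have hidx4 : (Subgroup.center H).index = 4 := by rw [hZk] at hidx; omega
  have hq : Nat.card (H ⧸ Subgroup.center H) = 2 ^ 2 := by
    rw [← Subgroup.index_eq_card, hidx4]; norm_num
  have hqc : IsMulCommutative (H ⧸ Subgroup.center H) :=
    IsPGroup.isMulCommutative_of_card_eq_prime_sq hq
  have hle : commutator H ≤ Subgroup.center H :=
    Subgroup.Normal.quotient_commutative_iff_commutator_le.mp hqc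
  have hne : commutator H ≠ ⊥ := by
    intro h
    exact hcenter_top ((commutator_eq_bot_iff_center_eq_top H).mp h)
  have hcd : Nat.card (commutator H) ∣ 2 := by
    have := Subgroup.card_dvd_of_le hle
    rwa [hZk, pow_one] at this
  have hc2 : Nat.card (commutator H) = 2 := by
    rcases (Nat.dvd_prime Nat.prime_two).mp hcd with h1 | h2
    · exact absurd (Subgroup.card_eq_one.mp h1) hne
    · exact h2
  have := Subgroup.card_mul_index (commutator H)
  rw [hc2, hH] at this
  omega

/-- In a group in which every element squares to `1` any two elements commute. -/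
theorem comm_of_sq_eq_one {H : Type*} [Group H] (h : ∀ a : H, a * a = 1) (a b : H) :
    a * b = b * a := by
  have h1 := h (a * b)
  have ha : a⁻¹ = a := inv_eq_of_mul_eq_one_right (h a)
  have hb : b⁻¹ = b := inv_eq_of_mul_eq_one_right (h b)
  have : a * b = (a * b)⁻¹ := (inv_eq_of_mul_eq_one_right h1).symm
  rw [this, mul_inv_rev, ha, hb]

/-- A nonabelian group of order 8 has an element of order 4. -/
theorem exists_orderOf_eq_four {H : Type*} [Group H] [Finite H] (hH : Nat.card H = 2 ^ 3)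
    (hnab : ¬ ∀ a b : H, a * b = b * a) : ∃ g : H, orderOf g = 4 := by
  classical
  by_contra hno
  push Not at hno
  apply hnab
  apply comm_of_sq_eq_one
  intro a
  have hdvd : orderOf a ∣ 2 ^ 3 := hH ▸ orderOf_dvd_natCard a
  obtain ⟨k, hk3, hk⟩ := (Nat.dvd_prime_pow Nat.prime_two).mp hdvd
  interval_cases k
  · rw [pow_zero, orderOf_eq_one_iff] at hk; rw [hk, mul_one]
  · rw [← pow_two]
    have := pow_orderOf_eq_one a
    rwa [hk, pow_one] at this
  · exact absurd (by rw [hk]; norm_num) (hno a)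
  · exfalso
    apply hnab
    have hcyc : IsCyclic H := isCyclic_of_orderOf_eq_card a (by rw [hk, hH])
    intro x y
    obtain ⟨c, hc⟩ := hcyc
    obtain ⟨i, rfl⟩ := Subgroup.mem_zpowers_iff.mp (hc x)
    obtain ⟨j, rfl⟩ := Subgroup.mem_zpowers_iff.mp (hc y)
    rw [← zpow_add, ← zpow_add, add_comm]

/-- Powers of a square root of `-1` are of the form `m + n ζ` with integers `m n`. -/
theorem exists_int_add_mul (ζ : ℂ) (hζ2 : ζ ^ 2 = -1) (a : ℕ) :
    ∃ m n : ℤ, ζ ^ a = (m : ℂ) + (n : ℂ) * ζ := by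
  induction a with
  | zero => exact ⟨1, 0, by simp⟩
  | succ a ih =>
    obtain ⟨m, n, h⟩ := ih
    refine ⟨-n, m, ?_⟩
    rw [pow_succ, h]
    push_cast
    linear_combination (n : ℂ) * hζ2

theorem exists_int_add_mul_sum (ζ : ℂ) (hζ2 : ζ ^ 2 = -1) {ι : Type} [Fintype ι] (a : ι → ℕ) :
    ∃ m n : ℤ, ∑ i, ζ ^ a i = (m : ℂ) + (n : ℂ) * ζ := by
  choose m n h using fun i => exists_int_add_mul ζ hζ2 (a i)
  refine ⟨∑ i, m i, ∑ i, n i, ?_⟩
  push_cast
  rw [Finset.sum_mul, ← Finset.sum_add_distrib]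
  exact Finset.sum_congr rfl (fun i _ => h i)

variable {G : Type u} [Group G] [Finite G]

/-- (SMALL) the case `n = 3`. -/
theorem result_three (P : Sylow 2 G) (hP : Nat.card P = 2 ^ 3) (ζ : ℂ)
    (hζ : IsPrimitiveRoot ζ (2 ^ (3 - 1))) :
    (commutator ↥P).index = 4 ↔
      ∃ g : G, g ∈ (P : Subgroup G) ∧ 2 ∣ (Subgroup.centralizer ({g} : Set G)).index ∧
        (IntermediateField.adjoin ℚ {z : ℂ | ∃ χ : Cfsg.IrrCharacter G, (χ : G → ℂ) g = z} =
            IntermediateField.adjoin ℚ ({ζ + ζ⁻¹} : Set ℂ) ∨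
          IntermediateField.adjoin ℚ {z : ℂ | ∃ χ : Cfsg.IrrCharacter G, (χ : G → ℂ) g = z} =
            IntermediateField.adjoin ℚ ({ζ - ζ⁻¹} : Set ℂ)) := by
  classical
  have h4 : (2 ^ (3 - 1) : ℕ) = 4 := by norm_num
  rw [h4] at hζ
  -- `ζ² = -1`
  have hζ4 : ζ ^ 4 = 1 := hζ.pow_eq_one
  have hζ2ne : ζ ^ 2 ≠ 1 := hζ.pow_ne_one_of_pos_of_lt (by norm_num) (by norm_num)
  have hζ2 : ζ ^ 2 = -1 := by
    have hfac : (ζ ^ 2 - 1) * (ζ ^ 2 + 1) = 0 := by linear_combination hζ4
    rcases mul_eq_zero.mp hfac with h | h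
    · exact absurd (sub_eq_zero.mp h) hζ2ne
    · exact eq_neg_of_add_eq_zero_left h
  have hζ0 : ζ ≠ 0 := by
    intro h0; rw [h0] at hζ2; norm_num at hζ2
  have hζinv : ζ⁻¹ = -ζ := by
    apply inv_eq_of_mul_eq_one_right
    linear_combination -hζ2
  constructor
  · -- (⇒)
    intro hidx
    have hnab : ¬ ∀ a b : P, a * b = b * a := by
      intro hab
      have hbot : commutator ↥P = ⊥ := by
        rw [commutator_eq_bot_iff_center_eq_top, eq_top_iff]
        intro a _
        exact Subgroup.mem_center_iff.mpr (fun b => hab b a)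
      rw [hbot, Subgroup.index_bot] at hidx
      have h48 := hidx.symm.trans hP
      norm_num at h48
    obtain ⟨g₀, hg₀⟩ := exists_orderOf_eq_four hP hnab
    have hgord : orderOf (g₀ : G) = 2 ^ (3 - 1) := by
      rw [Subgroup.orderOf_coe, hg₀]; norm_num
    refine ⟨(g₀ : G), g₀.2, ?_, ?_⟩
    · exact Cfsg.Agent.Lib.Helper11.MCF.two_dvd_index_centralizer P 3 hP (g₀ : G) g₀.2 hgord hnab
    · have hg4 : (g₀ : G) ^ 4 = 1 := by
        have := pow_orderOf_eq_one (g₀ : G)
        rwa [hgord, h4] at this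
      have hval : ∀ χ : Cfsg.IrrCharacter G, ∃ m n : ℤ,
          (χ : G → ℂ) (g₀ : G) = (m : ℂ) + (n : ℂ) * ζ := by
        intro χ
        obtain ⟨ι, hι, a, ha⟩ := exists_pow_sum (g₀ : G) 4 (by norm_num) hg4 ζ hζ χ
        obtain ⟨m, n, hmn⟩ := exists_int_add_mul_sum ζ hζ2 a
        exact ⟨m, n, by rw [ha, hmn]⟩
      set S : Set ℂ := {z : ℂ | ∃ χ : Cfsg.IrrCharacter G, (χ : G → ℂ) (g₀ : G) = z} with hS
      by_cases hall : ∀ χ : Cfsg.IrrCharacter G, ∃ m : ℤ, (χ : G → ℂ) (g₀ : G) = (m : ℂ)
      · left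
        have h1 : IntermediateField.adjoin ℚ S = ⊥ := by
          rw [IntermediateField.adjoin_eq_bot_iff]
          rintro z ⟨χ, rfl⟩
          obtain ⟨m, hm⟩ := hall χ
          rw [hm]
          exact IntermediateField.mem_bot.mpr ⟨(m : ℚ), by simp⟩
        have h2 : IntermediateField.adjoin ℚ ({ζ + ζ⁻¹} : Set ℂ) = ⊥ := by
          rw [IntermediateField.adjoin_eq_bot_iff]
          intro z hz
          rw [Set.mem_singleton_iff] at hz
          rw [hz, hζinv, add_neg_cancel]
          exact (⊥ : IntermediateField ℚ ℂ).zero_mem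
        rw [h1, h2]
      · right
        push Not at hall
        obtain ⟨χ₀, hχ₀⟩ := hall
        obtain ⟨m₀, n₀, hmn₀⟩ := hval χ₀
        have hn₀ : n₀ ≠ 0 := by
          rintro rfl
          apply hχ₀ m₀
          rw [hmn₀]; simp
        have hsub : ζ - ζ⁻¹ = 2 * ζ := by rw [hζinv]; ring
        apply le_antisymm
        · -- every value lies in ℚ(2ζ)
          rw [IntermediateField.adjoin_le_iff]
          rintro z ⟨χ, rfl⟩
          obtain ⟨m, n, hmn⟩ := hval χ
          have hζmem : ζ ∈ IntermediateField.adjoin ℚ ({ζ - ζ⁻¹} : Set ℂ) := by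
            have h2ζ : ζ - ζ⁻¹ ∈ IntermediateField.adjoin ℚ ({ζ - ζ⁻¹} : Set ℂ) :=
              IntermediateField.subset_adjoin ℚ _ (Set.mem_singleton _)
            have heq : (ζ - ζ⁻¹) * ((2 : ℚ) : ℂ)⁻¹ = ζ := by rw [hsub]; push_cast; ring
            have hmem := mul_mem h2ζ
              (inv_mem (IntermediateField.algebraMap_mem
                (IntermediateField.adjoin ℚ ({ζ - ζ⁻¹} : Set ℂ)) (2 : ℚ)))
            have h2 : (algebraMap ℚ ℂ) 2 = ((2 : ℚ) : ℂ) := rfl
            rw [h2, heq] at hmem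
            exact hmem
          rw [SetLike.mem_coe, hmn]
          refine add_mem ?_ (mul_mem ?_ hζmem)
          · exact intCast_mem _ m
          · exact intCast_mem _ n
        · -- 2ζ lies in the value field
          rw [IntermediateField.adjoin_le_iff]
          intro z hz
          rw [Set.mem_singleton_iff] at hz
          rw [SetLike.mem_coe, hz, hsub]
          have hv : (χ₀ : G → ℂ) (g₀ : G) ∈ IntermediateField.adjoin ℚ S :=
            IntermediateField.subset_adjoin ℚ _ ⟨χ₀, rfl⟩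
          have hn₀' : (n₀ : ℂ) ≠ 0 := by exact_mod_cast hn₀
          have : 2 * ζ = ((χ₀ : G → ℂ) (g₀ : G) - ((m₀ : ℚ) : ℂ)) * (((n₀ : ℚ) : ℂ)⁻¹ *
              ((2 : ℚ) : ℂ)) := by
            rw [hmn₀]; push_cast; field_simp; ring
          rw [this]
          refine mul_mem (sub_mem hv (IntermediateField.algebraMap_mem _ (m₀ : ℚ)))
            (mul_mem (inv_mem (IntermediateField.algebraMap_mem _ (n₀ : ℚ)))
              (IntermediateField.algebraMap_mem _ (2 : ℚ)))
  · -- (⇐)
    rintro ⟨g, hgP, heven, -⟩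
    apply index_commutator_of_card_eight hP
    intro hab
    apply Cfsg.Agent.Lib.Helper11.MCF.not_two_dvd_index_centralizer P g _ heven
    intro u hu
    rw [Subgroup.mem_centralizer_iff]
    intro x hx
    rw [Set.mem_singleton_iff] at hx
    subst hx
    have := hab ⟨x, hgP⟩ ⟨u, hu⟩
    exact congrArg Subtype.val this

end Cfsg.Agent.Lib.Helper9.MCF
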