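/-
Helper9 library: the Moebius action of `GL(2, K)` on `K ∪ {∞}` is 3-transitive and a matrix
fixing three points is central.  Translation to Mathlib's action on the projective line.
-/
import Mathlib
import Cfsg.Agent.Lib.Helper9.PGL2Recog

set_option autoImplicit false

namespace Cfsg.Agent.Lib.Helper9

open scoped LinearAlgebra.Projectivization MatrixGroups
open Matrix

namespace Moeb

variable {K : Type*} [Field K]

theorem perm_inv_apply_self {β : Type*} (f : Equiv.Perm β) (x : β) : f⁻¹ (f x) = x :=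
  f.symm_apply_apply x

/-- a matrix fixing `∞` is upper triangular -/
theorem lower_eq_zero_of_fix_none (M : GL (Fin 2) K) (hnone : moebHom M none = none) :
    M.1 1 0 = 0 := by
  by_contra h10
  rw [moebHom_apply, mulVec_none] at hnone
  simp [cls, h10] at hnone

/-- a matrix fixing `∞` and `0` is diagonal -/
theorem upper_eq_zero_of_fix (M : GL (Fin 2) K) (hnone : moebHom M none = none)
    (e0 : moebHom M (some 0) = some 0) : M.1 0 1 = 0 := by
  have h10 := lower_eq_zero_of_fix_none M hnone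
  obtain ⟨h00, h11, -, hx⟩ := moeb_upper M h10
  rw [hx] at e0
  simp only [mul_zero, zero_add, Option.some.injEq] at e0
  rcases div_eq_zero_iff.mp e0 with h | h
  · exact h
  · exact absurd h h11

/-- the image of `1` under a diagonal matrix -/
theorem diag_apply_one (M : GL (Fin 2) K) (hnone : moebHom M none = none)
    (e0 : moebHom M (some 0) = some 0) :
    M.1 1 1 ≠ 0 ∧ moebHom M (some 1) = some (M.1 0 0 / M.1 1 1) := by
  have h10 := lower_eq_zero_of_fix_none M hnone
  have h01 := upper_eq_zero_of_fix M hnone e0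
  obtain ⟨h00, h11, -, hx⟩ := moeb_upper M h10
  refine ⟨h11, ?_⟩
  rw [hx, h01, add_zero, mul_one]

/-- a matrix fixing `∞`, `0` and `1` is central -/
theorem mem_center_of_fix (M : GL (Fin 2) K) (hnone : moebHom M none = none)
    (e0 : moebHom M (some 0) = some 0) (e1 : moebHom M (some 1) = some 1) :
    M ∈ Subgroup.center (GL (Fin 2) K) := by
  rw [Matrix.GeneralLinearGroup.center_eq_range_scalar]
  have h10 := lower_eq_zero_of_fix_none M hnone
  have h01 := upper_eq_zero_of_fix M hnone e0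
  obtain ⟨h11, h1⟩ := diag_apply_one M hnone e0
  obtain ⟨h00, -, -, -⟩ := moeb_upper M h10
  rw [h1] at e1
  simp only [Option.some.injEq] at e1
  rw [div_eq_one_iff_eq h11] at e1
  refine ⟨Units.mk0 (M.1 0 0) h00, ?_⟩
  apply Units.ext
  ext i j
  fin_cases i <;> fin_cases j <;> simp [Matrix.GeneralLinearGroup.scalar, h10, h01, e1]

/-- three distinct points can be moved to `∞, 0, 1` -/
theorem exists_to_std {a b c : Option K} (hab : a ≠ b) (hac : a ≠ c) (hbc : b ≠ c) :
    ∃ M : GL (Fin 2) K, moebHom M a = none ∧ moebHom M b = some 0 ∧ moebHom M c = some 1 := by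
  -- step 1 : move `a` to `∞`
  obtain ⟨M₁, h1⟩ : ∃ M : GL (Fin 2) K, moebHom M a = none := by
    cases a with
    | none => exact ⟨1, by simp⟩
    | some x =>
      refine ⟨wMat * affMat 1 (-x) one_ne_zero, ?_⟩
      rw [map_mul, Equiv.Perm.mul_apply, moeb_aff_some]
      simp [moeb_w_zero]
  -- step 2 : move the image of `b` to `0`
  have hb1 : moebHom M₁ b ≠ none := by
    rw [← h1]
    exact fun h => hab ((moebHom M₁).injective h).symm
  obtain ⟨y, hy⟩ := Option.ne_none_iff_exists'.mp hb1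
  set M₂ : GL (Fin 2) K := affMat 1 (-y) one_ne_zero * M₁ with hM₂
  have h2a : moebHom M₂ a = none := by
    rw [hM₂, map_mul, Equiv.Perm.mul_apply, h1, moeb_aff_none]
  have h2b : moebHom M₂ b = some 0 := by
    rw [hM₂, map_mul, Equiv.Perm.mul_apply, hy, moeb_aff_some]
    simp
  -- step 3 : scale the image of `c` to `1`
  have hc1 : moebHom M₂ c ≠ none := by
    rw [← h2a]
    exact fun h => hac ((moebHom M₂).injective h).symm
  obtain ⟨z, hz⟩ := Option.ne_none_iff_exists'.mp hc1
  have hz0 : z ≠ 0 := by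
    rintro rfl
    rw [← h2b] at hz
    exact hbc ((moebHom M₂).injective hz).symm
  refine ⟨affMat z⁻¹ 0 (inv_ne_zero hz0) * M₂, ?_, ?_, ?_⟩
  · rw [map_mul, Equiv.Perm.mul_apply, h2a, moeb_aff_none]
  · rw [map_mul, Equiv.Perm.mul_apply, h2b, moeb_aff_some]
    simp
  · rw [map_mul, Equiv.Perm.mul_apply, hz, moeb_aff_some]
    simp [hz0]

/-- the Moebius action of `GL(2, K)` is 3-transitive -/
theorem exists_moeb {a b c a' b' c' : Option K} (hab : a ≠ b) (hac : a ≠ c) (hbc : b ≠ c)
    (hab' : a' ≠ b') (hac' : a' ≠ c') (hbc' : b' ≠ c') :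
    ∃ M : GL (Fin 2) K, moebHom M a = a' ∧ moebHom M b = b' ∧ moebHom M c = c' := by
  obtain ⟨M, h1, h2, h3⟩ := exists_to_std hab hac hbc
  obtain ⟨N, h1', h2', h3'⟩ := exists_to_std hab' hac' hbc'
  refine ⟨N⁻¹ * M, ?_, ?_, ?_⟩
  · rw [map_mul, Equiv.Perm.mul_apply, h1, ← h1', map_inv, perm_inv_apply_self]
  · rw [map_mul, Equiv.Perm.mul_apply, h2, ← h2', map_inv, perm_inv_apply_self]
  · rw [map_mul, Equiv.Perm.mul_apply, h3, ← h3', map_inv, perm_inv_apply_self]

/-- a matrix fixing three distinct points is central -/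
theorem mem_center_of_fix_three {a b c : Option K} (hab : a ≠ b) (hac : a ≠ c) (hbc : b ≠ c)
    (M : GL (Fin 2) K) (ha : moebHom M a = a) (hb : moebHom M b = b) (hc : moebHom M c = c) :
    M ∈ Subgroup.center (GL (Fin 2) K) := by
  obtain ⟨N, h1, h2, h3⟩ := exists_to_std hab hac hbc
  have key : N * M * N⁻¹ ∈ Subgroup.center (GL (Fin 2) K) := by
    apply mem_center_of_fix
    · rw [map_mul, map_mul, Equiv.Perm.mul_apply, Equiv.Perm.mul_apply, ← h1, map_inv,
        perm_inv_apply_self, ha]
    · rw [map_mul, map_mul, Equiv.Perm.mul_apply, Equiv.Perm.mul_apply, ← h2, map_inv,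
        perm_inv_apply_self, hb]
    · rw [map_mul, map_mul, Equiv.Perm.mul_apply, Equiv.Perm.mul_apply, ← h3, map_inv,
        perm_inv_apply_self, hc]
  have := (Subgroup.center (GL (Fin 2) K)).normal_of_characteristic.conj_mem _ key N⁻¹
  simpa [mul_assoc] using this

/-- the Moebius action is Mathlib's action on the projective line -/
theorem ptEquiv_moebHom (M : GL (Fin 2) K) (y : Option K) :
    ptEquiv (moebHom M y) = M • ptEquiv y := by
  have h1 : moebHom M y = ptEquiv.symm (M • ptEquiv y) := rfl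
  rw [h1, Equiv.apply_symm_apply]

theorem smul_eq_ptEquiv (M : GL (Fin 2) K) (p : ℙ K (Fin 2 → K)) :
    M • p = ptEquiv (moebHom M (ptEquiv.symm p)) := by
  rw [ptEquiv_moebHom, Equiv.apply_symm_apply]

/-- `GL(2, K)` is 3-transitive on the projective line -/
theorem exists_smul_proj {a b c a' b' c' : ℙ K (Fin 2 → K)} (hab : a ≠ b) (hac : a ≠ c)
    (hbc : b ≠ c) (hab' : a' ≠ b') (hac' : a' ≠ c') (hbc' : b' ≠ c') :
    ∃ M : GL (Fin 2) K, M • a = a' ∧ M • b = b' ∧ M • c = c' := by
  have e := (ptEquiv (K := K)).symm.injective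
  obtain ⟨M, h1, h2, h3⟩ := exists_moeb (K := K) (fun h => hab (e h)) (fun h => hac (e h))
    (fun h => hbc (e h)) (fun h => hab' (e h)) (fun h => hac' (e h)) (fun h => hbc' (e h))
  refine ⟨M, ?_, ?_, ?_⟩
  · rw [smul_eq_ptEquiv, h1, Equiv.apply_symm_apply]
  · rw [smul_eq_ptEquiv, h2, Equiv.apply_symm_apply]
  · rw [smul_eq_ptEquiv, h3, Equiv.apply_symm_apply]

/-- a matrix fixing three distinct points of the projective line is central -/
theorem mem_center_of_fix_proj {a b c : ℙ K (Fin 2 → K)} (hab : a ≠ b) (hac : a ≠ c)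
    (hbc : b ≠ c) (M : GL (Fin 2) K) (ha : M • a = a) (hb : M • b = b) (hc : M • c = c) :
    M ∈ Subgroup.center (GL (Fin 2) K) := by
  have e := (ptEquiv (K := K)).symm.injective
  apply mem_center_of_fix_three (K := K) (fun h => hab (e h)) (fun h => hac (e h))
    (fun h => hbc (e h)) M
  · apply (ptEquiv (K := K)).injective
    rw [← smul_eq_ptEquiv, ha, Equiv.apply_symm_apply]
  · apply (ptEquiv (K := K)).injective
    rw [← smul_eq_ptEquiv, hb, Equiv.apply_symm_apply]
  · apply (ptEquiv (K := K)).injective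
    rw [← smul_eq_ptEquiv, hc, Equiv.apply_symm_apply]

/-- transitivity on ordered triples, from the elementary form -/
theorem isMultiplyPretransitive_three {G α : Type*} [Group G] [MulAction G α]
    (h : ∀ {a b c a' b' c' : α}, a ≠ b → a ≠ c → b ≠ c → a' ≠ b' → a' ≠ c' → b' ≠ c' →
      ∃ g : G, g • a = a' ∧ g • b = b' ∧ g • c = c') :
    MulAction.IsMultiplyPretransitive G α 3 := by
  refine ⟨fun x y => ?_⟩
  have hx : ∀ i j : Fin 3, i ≠ j → x i ≠ x j := fun i j hij e => hij (x.injective e)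
  have hy : ∀ i j : Fin 3, i ≠ j → y i ≠ y j := fun i j hij e => hij (y.injective e)
  obtain ⟨g, h0, h1, h2⟩ := h (hx 0 1 (by decide)) (hx 0 2 (by decide)) (hx 1 2 (by decide))
    (hy 0 1 (by decide)) (hy 0 2 (by decide)) (hy 1 2 (by decide))
  refine ⟨g, ?_⟩
  ext i
  fin_cases i
  · exact h0
  · exact h1
  · exact h2

end Moeb

end Cfsg.Agent.Lib.Helper9
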