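import Cfsg.Agent.Lib.Helper5.NDGlue

/-!
# Stabilisers of non-degenerate subspaces in low dimensions (helper9, for S5813 omega7; helper20 owner)

`isMaximalIn_nd_low`: `q` odd, `7 ≤ card ι`, `V = W ⊥ W'` with `4 ≤ dim W`, `dim W' < dim W`, `W' ≠ 0`, and `W'` not a
hyperbolic plane over a field with at most three elements: the stabiliser of `W` in `Ω` is maximal in `Ω`.
(helper5's `NDMax.isMaximalIn_nd` needs `6 ≤ dim W`.)  The first part (the `LSetup` tower up to `stab_of_two`) is a re-run of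
helper5's `NSetup` tower with `big : 4 ≤ finrank W`; `eq_omega_of_star` is new (conjugation by a product of two reflections of
`W` instead of `transfer`), and so is the main step `le_stab`.
-/

set_option autoImplicit false
set_option linter.unusedSectionVars false
set_option linter.unusedVariables false
set_option linter.unusedSimpArgs false

namespace Cfsg.Agent.Lib.Helper9.NDLow

open Module QuadraticMap Matrix Cfsg.Agent.Lib.Helper25.CD Cfsg.Agent.Lib.Helper25.Spin
  Cfsg.Agent.Lib.Helper25.Fam Cfsg.Agent.Lib.Helper25.Siegel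
  Cfsg.Agent.Lib.Helper25.PS Cfsg.Agent.Lib.Helper25.OGeom Cfsg.Agent.Lib.Helper15
  Cfsg.Agent.Lib.Helper5.TSMax Cfsg.Agent.Lib.Helper5.NSMax Cfsg.Agent.Lib.Helper5.PairMax
  Cfsg.Agent.Lib.Helper5.NDMax

section general

variable {F : Type*} [Field F] [Fintype F] {V : Type*} [AddCommGroup V] [Module F V]
  [FiniteDimensional F V] (Q : QuadraticForm F V)

/-- The growth step of helper5's `irred`, for a fixed singular vector `p` of a nondegenerate space `T` of dimension at least 3: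
a subspace `A` invariant under the Siegel maps `egen p z` (`z ∈ T ∩ p^⊥`) which contains a vector not orthogonal to `p`
contains `p` and `T ∩ p^⊥`. -/
theorem grow {T A : Submodule F V} (hT : NdOn Q T) (h3 : 3 ≤ finrank F T) {p : V} (hpT : p ∈ T)
    (hQp : Q p = 0)
    (hegen : ∀ x ∈ A, ∀ z ∈ T, polar Q p z = 0 → egen Q p z x ∈ A)
    {x : V} (hxA : x ∈ A) (hxp : polar Q p x ≠ 0) :
    p ∈ A ∧ ∀ z ∈ T, polar Q p z = 0 → z ∈ A := by
  have hp0 : p ≠ 0 := by
    rintro rfl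
    simp at hxp
  obtain ⟨f, hfT, hQf, hpf⟩ := exists_hyp_partner Q T hT hpT hp0 hQp
  have hNnd := perpPair_nd Q T hT hpT hfT hQp hQf hpf
  have hNfr := perpPair_finrank Q T hpT hfT hQp hQf hpf
  have hNpos : 0 < finrank F (perpPair Q T p f) := by omega
  obtain ⟨z1', hz1'⟩ := Module.finrank_pos_iff_exists_ne_zero.1 hNpos
  obtain ⟨z1, hz1N, hz10⟩ : ∃ z1 ∈ perpPair Q T p f, z1 ≠ 0 :=
    ⟨z1', z1'.2, fun h => hz1' (Subtype.ext h)⟩
  obtain ⟨z2, hz2N, hz12⟩ : ∃ z2 ∈ perpPair Q T p f, polar Q z1 z2 ≠ 0 := by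
    by_contra hcon
    push Not at hcon
    exact hz10 (hNnd z1 hz1N hcon)
  rw [mem_perpPair] at hz1N hz2N
  obtain ⟨hz1T, hpz1, -⟩ := hz1N
  obtain ⟨hz2T, hpz2, -⟩ := hz2N
  obtain ⟨t, ht⟩ : ∃ t, t = polar Q p x := ⟨_, rfl⟩
  have ht0 : t ≠ 0 := by
    rw [ht]
    exact hxp
  have hv : ∀ z ∈ T, polar Q p z = 0 →
      t • z - (polar Q z x + Q z * t) • p ∈ A := by
    intro z hz hpz
    have h5 := A.sub_mem (hegen x hxA z hz hpz) hxA
    have e : egen Q p z x - x = t • z - (polar Q z x + Q z * t) • p := by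
      unfold egen
      rw [← ht]
      module
    rwa [e] at h5
  have hpA : p ∈ A := by
    have h5 := A.sub_mem (A.sub_mem (hv (z1 + z2) (T.add_mem hz1T hz2T)
      (by rw [polar_add_right, hpz1, hpz2, add_zero])) (hv z1 hz1T hpz1)) (hv z2 hz2T hpz2)
    have e : t • (z1 + z2) - (polar Q (z1 + z2) x + Q (z1 + z2) * t) • p -
        (t • z1 - (polar Q z1 x + Q z1 * t) • p) - (t • z2 - (polar Q z2 x + Q z2 * t) • p) =
        (-(t * polar Q z1 z2)) • p := by
      rw [Cfsg.Agent.Lib.Helper25.MaxTS.Q_add, polar_add_left]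
      module
    rw [e] at h5
    have h6 := A.smul_mem (-(t * polar Q z1 z2))⁻¹ h5
    rwa [smul_smul, inv_mul_cancel₀ (neg_ne_zero.2 (mul_ne_zero ht0 hz12)), one_smul] at h6
  refine ⟨hpA, fun z hz hpz => ?_⟩
  have h5 := A.add_mem (hv z hz hpz) (A.smul_mem (polar Q z x + Q z * t) hpA)
  rw [sub_add_cancel] at h5
  have h6 := A.smul_mem t⁻¹ h5
  rwa [smul_smul, inv_mul_cancel₀ ht0, one_smul] at h6

/-- `E_{u, c s} = E_{s, -c u}` for orthogonal singular vectors -/
theorem egen_swap {u s : V} (hu : Q u = 0) (hs : Q s = 0) (c : F) (x : V) :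
    egen Q u ((-c) • s) x = egen Q s (c • u) x := by
  unfold egen
  rw [QuadraticMap.map_smul, QuadraticMap.map_smul, hu, hs, polar_smul_left, polar_smul_left]
  simp only [smul_eq_mul, mul_zero, zero_mul, zero_smul, sub_zero]
  module

theorem egen_smul_self' {u : V} (hu : Q u = 0) (c : F) (x : V) : egen Q u (c • u) x = x := by
  unfold egen
  rw [QuadraticMap.map_smul, hu, polar_smul_left]
  simp only [smul_eq_mul, mul_zero, zero_mul, zero_smul, sub_zero]
  module

end general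

section matrix

variable {ι : Type} [Fintype ι] [DecidableEq ι] {F : Type*} [Field F] [Fintype F]
  (Q : QuadraticForm F (ι → F))

/-- The data of a nondegenerate subspace `W` (`4 ≤ dim W`) with complement `W'` whose stabiliser lies in `M`. -/
structure LSetup (M : Subgroup ↥(Cfsg.isometryGroup F ⇑Q)) (W W' : Submodule F (ι → F)) :
    Prop where
  nd : (polarBilin Q).Nondegenerate
  card : 7 ≤ Fintype.card ι
  orth : ∀ x ∈ W, ∀ y ∈ W', polar Q x y = 0
  disj : W ⊓ W' = ⊥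
  sup : W ⊔ W' = ⊤
  big : 4 ≤ finrank F W
  stab : ∀ g ∈ Cfsg.Omega F ⇑Q, (∀ x ∈ W, toOG Q g x ∈ W) → g ∈ M
  le : M ≤ Cfsg.Omega F ⇑Q
  exc : ¬ (Fintype.card F ≤ 3 ∧ finrank F W' = 2 ∧ ∃ e ∈ W', e ≠ 0 ∧ Q e = 0)

variable {Q}

section setup

variable {M : Subgroup ↥(Cfsg.isometryGroup F ⇑Q)} {W W' : Submodule F (ι → F)}

theorem LSetup.dec (hS : LSetup Q M W W') (v : ι → F) : ∃ a ∈ W, ∃ b ∈ W', v = a + b := by
  have hv : v ∈ W ⊔ W' := by rw [hS.sup]; exact Submodule.mem_top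
  obtain ⟨a, ha, b, hb, h⟩ := Submodule.mem_sup.1 hv
  exact ⟨a, ha, b, hb, h.symm⟩

theorem LSetup.ndW (hS : LSetup Q M W W') : NdOn Q W := by
  intro w hw hall
  apply hS.nd.1 w
  intro y
  rw [polarBilin_apply_apply]
  obtain ⟨a, ha, b, hb, rfl⟩ := hS.dec y
  rw [polar_add_right, hall a ha, hS.orth w hw b hb, add_zero]

theorem LSetup.ndW' (hS : LSetup Q M W W') : NdOn Q W' := by
  intro w hw hall
  apply hS.nd.1 w
  intro y
  rw [polarBilin_apply_apply]
  obtain ⟨a, ha, b, hb, rfl⟩ := hS.dec y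
  rw [polar_add_right, hall b hb, polar_comm Q w a, hS.orth a ha w hw, add_zero]

theorem LSetup.inA_W (hS : LSetup Q M W W') {u x : ι → F} (hu : u ∈ W) (hu0 : u ≠ 0)
    (hQu : Q u = 0) (hx : x ∈ W) (hux : polar Q u x = 0) : InA Q M u x := by
  intro c
  obtain ⟨g, hgΩ, hg⟩ := exists_egen Q hS.nd hS.card hu0 hQu (y := c • x)
    (by rw [polar_smul_right, hux, smul_zero])
  refine ⟨g, hS.stab g hgΩ (fun v hv => ?_), hg⟩
  rw [hg]
  unfold egen
  exact W.sub_mem (W.sub_mem (W.add_mem hv (W.smul_mem _ (W.smul_mem _ hx)))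
    (W.smul_mem _ hu)) (W.smul_mem _ hu)

theorem LSetup.inA_all_of_star (hS : LSetup Q M W W') {u y : ι → F} (hu : u ∈ W) (hu0 : u ≠ 0)
    (hQu : Q u = 0) (hy : y ∈ W') (hy0 : y ≠ 0) (h : InA Q M u y) :
    ∀ v, polar Q u v = 0 → InA Q M u v := by
  have hQ := hS.nd
  have hn := hS.card
  have huW' : ∀ z ∈ W', polar Q u z = 0 := fun z hz => hS.orth u hu z hz
  obtain ⟨A, hAmem⟩ : ∃ A : Submodule F (ι → F), ∀ z, z ∈ A ↔ z ∈ W' ∧ InA Q M u z :=
    ⟨{ carrier := {z | z ∈ W' ∧ InA Q M u z}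
       add_mem' := fun {a b} ha hb => ⟨W'.add_mem ha.1 hb.1,
         InA.add hQu (huW' a ha.1) (huW' b hb.1) ha.2 hb.2⟩
       zero_mem' := ⟨W'.zero_mem, inA_zero M u⟩
       smul_mem' := fun c {a} ha => ⟨W'.smul_mem c ha.1, ha.2.smul c⟩ }, fun z => Iff.rfl⟩
  have hAW' : A ≤ W' := fun z hz => ((hAmem z).1 hz).1
  have hA0 : A ≠ ⊥ := by
    intro h0
    have h1 : y ∈ A := (hAmem y).2 ⟨hy, h⟩
    rw [h0, Submodule.mem_bot] at h1
    exact hy0 h1
  obtain ⟨f, hfW, hQf, huf⟩ := exists_hyp_partner Q W hS.ndW hu hu0 hQu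
  have hNnd := perpPair_nd Q W hS.ndW hu hfW hQu hQf huf
  have hNfr := perpPair_finrank Q W hu hfW hQu hQf huf
  have hbig := hS.big
  have hrefl : ∀ x ∈ A, ∀ w ∈ W', Q w ≠ 0 → polar Q w x ≠ 0 → w ∈ A := by
    intro x hxA w hwW' hQw hwx
    obtain ⟨hxW', hxin⟩ := (hAmem x).1 hxA
    obtain ⟨z, hzN, hQz⟩ := universal Q hNnd (by omega) (Q w)
    rw [mem_perpPair] at hzN
    obtain ⟨hzW, huz, -⟩ := hzN
    have hmΩ : reflM Q w * reflM Q z ∈ Cfsg.Omega F ⇑Q :=
      refl_pair_mem_omega Q hQ hn hQw rfl hQz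
    have hmapply : ∀ v, toOG Q (reflM Q w * reflM Q z) v = reflE Q w (reflE Q z v) := by
      intro v
      rw [map_mul, LinearEquiv.mul_apply, toOG_reflM, toOG_reflM]
    have hmM : reflM Q w * reflM Q z ∈ M := by
      apply hS.stab _ hmΩ
      intro v hv
      rw [hmapply, reflE_apply Q z v]
      have h1 : v - ((Q z)⁻¹ * polar Q z v) • z ∈ W := W.sub_mem hv (W.smul_mem _ hzW)
      rw [reflE_apply, polar_comm Q w _, hS.orth _ h1 w hwW']
      simpa using h1
    have h1 := InA.conj hmM hxin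
    rw [hmapply, hmapply] at h1
    have e1 : reflE Q w (reflE Q z u) = u := by
      have e0 : reflE Q z u = u := by
        rw [reflE_apply, polar_comm Q z u, huz]
        simp
      rw [e0, reflE_apply, polar_comm Q w u, huW' w hwW']
      simp
    have e2 : reflE Q w (reflE Q z x) = x - ((Q w)⁻¹ * polar Q w x) • w := by
      have e0 : reflE Q z x = x := by
        rw [reflE_apply, hS.orth z hzW x hxW']
        simp
      rw [e0, reflE_apply]
    rw [e1, e2] at h1
    obtain ⟨κ, hκ⟩ : ∃ κ, κ = (Q w)⁻¹ * polar Q w x := ⟨_, rfl⟩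
    have hκ0 : κ ≠ 0 := by
      rw [hκ]
      exact mul_ne_zero (inv_ne_zero hQw) hwx
    rw [← hκ] at h1
    have h2 := InA.add hQu (huW' x hxW') (by
      rw [polar_smul_right, polar_sub_right, polar_smul_right, huW' x hxW', huW' w hwW']
      simp) hxin (h1.smul (-1))
    have e3 : x + (-1 : F) • (x - κ • w) = κ • w := by module
    rw [e3] at h2
    have h3 := h2.smul κ⁻¹
    rw [smul_smul, inv_mul_cancel₀ hκ0, one_smul] at h3
    exact (hAmem w).2 ⟨hwW', h3⟩
  have hegen : ∀ x ∈ A, ∀ p ∈ W', Q p = 0 → ∀ z ∈ W', polar Q p z = 0 →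
      egen Q p z x ∈ A := by
    intro x hxA p hpW' hQp z hzW' hpz
    obtain ⟨hxW', hxin⟩ := (hAmem x).1 hxA
    by_cases hp0 : p = 0
    · have e : egen Q p z x = x := by
        rw [hp0]
        unfold egen
        simp
      rw [e]
      exact hxA
    obtain ⟨g, hgΩ, hg⟩ := exists_egen Q hQ hn hp0 hQp hpz
    have hfix : ∀ v ∈ W, toOG Q g v = v := by
      intro v hv
      rw [hg]
      exact egen_fix Q (by rw [polar_comm]; exact hS.orth v hv p hpW')
        (by rw [polar_comm]; exact hS.orth v hv z hzW')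
    have hgM : g ∈ M := hS.stab g hgΩ (fun v hv => by rw [hfix v hv]; exact hv)
    have h1 := InA.conj hgM hxin
    rw [hfix u hu, hg] at h1
    refine (hAmem _).2 ⟨?_, h1⟩
    unfold egen
    exact W'.sub_mem (W'.sub_mem (W'.add_mem hxW' (W'.smul_mem _ hzW')) (W'.smul_mem _ hpW'))
      (W'.smul_mem _ hpW')
  have hall := irred Q hS.ndW' hAW' hA0 hrefl hegen hS.exc
  intro v huv
  obtain ⟨a, ha, b, hb, rfl⟩ := hS.dec v
  have hub : polar Q u b = 0 := huW' b hb
  have hua : polar Q u a = 0 := by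
    rw [polar_add_right, hub, add_zero] at huv
    exact huv
  exact InA.add hQu hua hub (hS.inA_W hu hu0 hQu ha hua) ((hAmem b).1 (hall hb)).2


/-- the Siegel elements of `W'` lie in `M` -/
theorem LSetup.inA_W' (hS : LSetup Q M W W') {b w : ι → F} (hb : b ∈ W') (hb0 : b ≠ 0)
    (hQb : Q b = 0) (hw : w ∈ W') (hbw : polar Q b w = 0) : InA Q M b w := by
  intro c
  obtain ⟨g, hgΩ, hg⟩ := exists_egen Q hS.nd hS.card hb0 hQb (y := c • w)
    (by rw [polar_smul_right, hbw, smul_zero])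
  refine ⟨g, hS.stab g hgΩ (fun v hv => ?_), hg⟩
  rw [hg, egen_fix Q (by rw [polar_comm]; exact hS.orth v hv b hb)
    (by rw [polar_smul_left, polar_comm, hS.orth v hv w hw, smul_zero])]
  exact hv

/-- A star gives `Ω` (new proof for `4 ≤ dim W`: the second good point comes from conjugation with a product of two
reflections of `W`). -/
theorem LSetup.eq_omega_of_star (hS : LSetup Q M W W') {u y : ι → F} (hu : u ∈ W) (hu0 : u ≠ 0)
    (hQu : Q u = 0) (hy : y ∈ W') (hy0 : y ≠ 0) (h : InA Q M u y) :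
    M = Cfsg.Omega F ⇑Q := by
  have hQ := hS.nd
  have hn := hS.card
  have hbig := hS.big
  have hg1 : Good Q M (mk' Q u hu0 hQu) :=
    good_of_all hu0 hQu (hS.inA_all_of_star hu hu0 hQu hy hy0 h)
  obtain ⟨u2, hu2W, hQu2, huu2⟩ := exists_hyp_partner Q W hS.ndW hu hu0 hQu
  have hu20 : u2 ≠ 0 := by
    rintro rfl
    simp at huu2
  have hNnd := perpPair_nd Q W hS.ndW hu hu2W hQu hQu2 huu2
  have hNfr := perpPair_finrank Q W hu hu2W hQu hQu2 huu2
  obtain ⟨b, hbN, hQb⟩ := universal Q hNnd (by omega) (-1 : F)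
  rw [mem_perpPair] at hbN
  obtain ⟨hbW, hub, hu2b⟩ := hbN
  have hQa : Q (u - u2) = -1 := by
    have h2 : Q (u - u2) = Q u + Q (-u2) + polar Q u (-u2) := by
      rw [sub_eq_add_neg, polar]
      ring
    rw [h2, QuadraticMap.map_neg, hQu, hQu2, polar_neg_right, huu2]
    ring
  have hne1 : (-1 : F) ≠ 0 := by simp
  have hmΩ : reflM Q b * reflM Q (u - u2) ∈ Cfsg.Omega F ⇑Q :=
    refl_pair_mem_omega Q hQ hn hne1 hQb hQa
  have hmapply : ∀ v, toOG Q (reflM Q b * reflM Q (u - u2)) v =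
      reflE Q b (reflE Q (u - u2) v) := by
    intro v
    rw [map_mul, LinearEquiv.mul_apply, toOG_reflM, toOG_reflM]
  have haW : u - u2 ∈ W := W.sub_mem hu hu2W
  have hmM : reflM Q b * reflM Q (u - u2) ∈ M := by
    apply hS.stab _ hmΩ
    intro v hv
    rw [hmapply, reflE_apply Q (u - u2) v, reflE_apply]
    exact W.sub_mem (W.sub_mem hv (W.smul_mem _ haW)) (W.smul_mem _ hbW)
  have h1 := InA.conj hmM h
  rw [hmapply, hmapply] at h1
  have e1 : reflE Q b (reflE Q (u - u2) u) = u2 := by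
    have e0 : reflE Q (u - u2) u = u2 := by
      rw [reflE_apply, hQa, polar_sub_left, pself Q hQu, polar_comm Q u2 u, huu2]
      have : ((-1 : F)⁻¹ * (0 - 1)) = 1 := by
        rw [inv_neg, inv_one]; ring
      rw [this, one_smul]
      abel
    rw [e0, reflE_apply, polar_comm Q b u2, hu2b]
    simp
  have e2 : reflE Q b (reflE Q (u - u2) y) = y := by
    have e0 : reflE Q (u - u2) y = y := by
      rw [reflE_apply, hS.orth _ haW y hy]
      simp
    rw [e0, reflE_apply, hS.orth b hbW y hy]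
    simp
  rw [e1, e2] at h1
  have hg2 : Good Q M (mk' Q u2 hu20 hQu2) :=
    good_of_all hu20 hQu2 (hS.inA_all_of_star hu2W hu20 hQu2 hy hy0 h1)
  apply eq_omega_of_all_good Q hQ hn M hS.le
  exact all_good_of_opposite Q hQ (by omega) M hg1 hg2 (by
    rw [ort_mk', huu2]
    exact one_ne_zero)


theorem LSetup.rigid (hS : LSetup Q M W W') (hne : M ≠ Cfsg.Omega F ⇑Q)
    {m : ↥(Cfsg.isometryGroup F ⇑Q)} (hm : m ∈ M) {α x : ι → F} (hα : α ∈ W) (hα0 : α ≠ 0)
    (hQα : Q α = 0) (hmα : toOG Q m α ∈ W) (hx : x ∈ W) (hαx : polar Q α x = 0) :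
    toOG Q m x ∈ W := by
  have h1 := InA.conj hm (hS.inA_W hα hα0 hQα hx hαx)
  obtain ⟨a, ha, b, hb, hab⟩ := hS.dec (toOG Q m x)
  by_cases hb0 : b = 0
  · rw [hab, hb0, add_zero]
    exact ha
  exfalso
  have hmα0 : toOG Q m α ≠ 0 := fun h => hα0 ((toOG Q m).injective (by rw [h, map_zero]))
  have hQmα : Q (toOG Q m α) = 0 := by rw [Q_toOG, hQα]
  have hpol : polar Q (toOG Q m α) (toOG Q m x) = 0 := by rw [polar_toOG, hαx]
  have hpb : polar Q (toOG Q m α) b = 0 := hS.orth _ hmα b hb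
  have hpa : polar Q (toOG Q m α) a = 0 := by
    have h5 := hpol
    rw [hab, polar_add_right, hpb, add_zero] at h5
    exact h5
  have h2 := InA.add hQmα hpol (by rw [polar_smul_right, hpa, smul_zero]) h1
    ((hS.inA_W hmα hmα0 hQmα ha hpa).smul (-1))
  have e : toOG Q m x + (-1 : F) • a = b := by
    rw [hab]
    module
  rw [e] at h2
  exact hne (hS.eq_omega_of_star hmα hmα0 hQmα hb hb0 h2)

theorem LSetup.stab_of_two (hS : LSetup Q M W W') (hne : M ≠ Cfsg.Omega F ⇑Q)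
    {m : ↥(Cfsg.isometryGroup F ⇑Q)} (hm : m ∈ M) {α1 α2 : ι → F} (h1W : α1 ∈ W)
    (h2W : α2 ∈ W) (h10 : α1 ≠ 0) (hQ1 : Q α1 = 0) (hQ2 : Q α2 = 0)
    (hind : α2 ∉ Submodule.span F {α1}) (hm1 : toOG Q m α1 ∈ W) (hm2 : toOG Q m α2 ∈ W) :
    ∀ x ∈ W, toOG Q m x ∈ W := by
  have h20 : α2 ≠ 0 := by
    rintro rfl
    exact hind (Submodule.zero_mem _)
  have hind' : α1 ∉ Submodule.span F {α2} := by
    intro hmem
    obtain ⟨c, hc⟩ := Submodule.mem_span_singleton.1 hmem
    have hc0 : c ≠ 0 := by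
      rintro rfl
      rw [zero_smul] at hc
      exact h10 hc.symm
    apply hind
    rw [Submodule.mem_span_singleton]
    exact ⟨c⁻¹, by rw [← hc, smul_smul, inv_mul_cancel₀ hc0, one_smul]⟩
  obtain ⟨d, hdW, hdP, hd1⟩ := exists_dual_nd Q hS.ndW (P := Submodule.span F {α2}) h1W hind'
  have hd2 : polar Q d α2 = 0 := hdP α2 (Submodule.mem_span_singleton_self α2) h2W
  intro x hx
  have hmd : toOG Q m d ∈ W :=
    hS.rigid hne hm h2W h20 hQ2 hm2 hdW (by rw [polar_comm]; exact hd2)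
  have hx0 : toOG Q m (x - polar Q α1 x • d) ∈ W := by
    apply hS.rigid hne hm h1W h10 hQ1 hm1 (W.sub_mem hx (W.smul_mem _ hdW))
    rw [polar_sub_right, polar_smul_right, polar_comm Q α1 d, hd1]
    simp
  have e : x = (x - polar Q α1 x • d) + polar Q α1 x • d := by abel
  rw [e, map_add, map_smul]
  exact W.add_mem hx0 (W.smul_mem _ hmd)


/-- `InA` is symmetric for orthogonal singular vectors -/
theorem inA_swap {u s : ι → F} (hu : Q u = 0) (hs : Q s = 0) (h : InA Q M u s) : InA Q M s u := by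
  intro c
  obtain ⟨g, hg, hgx⟩ := h (-c)
  exact ⟨g, hg, fun x => by rw [hgx, egen_swap Q hu hs]⟩

theorem inA_self {u : ι → F} (hu : Q u = 0) : InA Q M u u := by
  intro c
  refine ⟨1, M.one_mem, fun x => ?_⟩
  rw [map_one, egen_smul_self' Q hu]
  rfl

/-- the root module of `M` at a singular vector, as a submodule -/
def rootMod (M : Subgroup ↥(Cfsg.isometryGroup F ⇑Q)) (u : ι → F) (hu : Q u = 0) :
    Submodule F (ι → F) where
  carrier := {v | polar Q u v = 0 ∧ InA Q M u v}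
  add_mem' := fun {a b} ha hb => ⟨by rw [polar_add_right, ha.1, hb.1, add_zero],
    InA.add hu ha.1 hb.1 ha.2 hb.2⟩
  zero_mem' := ⟨by simp, inA_zero M u⟩
  smul_mem' := fun c {a} ha => ⟨by rw [polar_smul_right, ha.1, smul_zero], ha.2.smul c⟩

theorem mem_rootMod {u : ι → F} (hu : Q u = 0) (v : ι → F) :
    v ∈ rootMod M u hu ↔ polar Q u v = 0 ∧ InA Q M u v := Iff.rfl

theorem self_mem_rootMod {u : ι → F} (hu : Q u = 0) : u ∈ rootMod M u hu :=
  ⟨pself Q hu, inA_self hu⟩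

theorem rootMod_inv {u : ι → F} (hu : Q u = 0) {m : ↥(Cfsg.isometryGroup F ⇑Q)} (hm : m ∈ M)
    (hmu : toOG Q m u = u) {v : ι → F} (hv : v ∈ rootMod M u hu) :
    toOG Q m v ∈ rootMod M u hu := by
  refine ⟨?_, ?_⟩
  · have := polar_toOG Q m u v
    rw [hmu] at this
    rw [this]
    exact hv.1
  · have := InA.conj hm hv.2
    rwa [hmu] at this

/-- invariance of the root module at `u'` under the Siegel maps of `W` fixing `u'` -/
theorem LSetup.rootMod_egen_W (hS : LSetup Q M W W') {u' : ι → F} (hu' : Q u' = 0)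
    {p z : ι → F} (hp : p ∈ W) (hQp : Q p = 0) (hz : z ∈ W) (hpz : polar Q p z = 0)
    (hpu : polar Q p u' = 0) (hzu : polar Q z u' = 0) {v : ι → F} (hv : v ∈ rootMod M u' hu') :
    egen Q p z v ∈ rootMod M u' hu' := by
  by_cases hp0 : p = 0
  · have e : egen Q p z v = v := by
      rw [hp0]
      unfold egen
      simp
    rw [e]
    exact hv
  obtain ⟨g, hgM, hg⟩ := hS.inA_W hp hp0 hQp hz hpz 1
  simp only [one_smul] at hg
  have := rootMod_inv hu' hgM (by rw [hg]; exact egen_fix Q hpu hzu) hv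
  rwa [hg] at this

/-- invariance of the root module at `u'` under the Siegel maps of `W'` fixing `u'` -/
theorem LSetup.rootMod_egen_W' (hS : LSetup Q M W W') {u' : ι → F} (hu' : Q u' = 0)
    {p z : ι → F} (hp : p ∈ W') (hp0 : p ≠ 0) (hQp : Q p = 0) (hz : z ∈ W') (hpz : polar Q p z = 0)
    (hpu : polar Q p u' = 0) (hzu : polar Q z u' = 0) {v : ι → F} (hv : v ∈ rootMod M u' hu') :
    egen Q p z v ∈ rootMod M u' hu' := by
  obtain ⟨g, hgM, hg⟩ := hS.inA_W' hp hp0 hQp hz hpz 1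
  simp only [one_smul] at hg
  have := rootMod_inv hu' hgM (by rw [hg]; exact egen_fix Q hpu hzu) hv
  rwa [hg] at this

/-- a star of the second kind (singular vector of `W'`, nonzero vector of `W`) also gives `Ω` -/
theorem LSetup.eq_omega_of_star' (hS : LSetup Q M W W') {b c : ι → F} (hb : b ∈ W') (hb0 : b ≠ 0)
    (hQb : Q b = 0) (hc : c ∈ W) (hc0 : c ≠ 0) (h : InA Q M b c) :
    M = Cfsg.Omega F ⇑Q := by
  have hbig := hS.big
  have hcA : c ∈ rootMod M b hQb := ⟨by rw [polar_comm]; exact hS.orth c hc b hb, h⟩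
  obtain ⟨p, hpW, hQp, hcp⟩ := exists_sing_not_perp Q hS.ndW (by omega) hc hc0
  have hp0 : p ≠ 0 := by
    rintro rfl
    simp at hcp
  have hg := grow Q hS.ndW (by omega) hpW hQp (A := rootMod M b hQb)
    (fun x hx z hz hpz => hS.rootMod_egen_W hQb hpW hQp hz hpz (hS.orth p hpW b hb)
      (hS.orth z hz b hb) hx) hcA (by rw [polar_comm]; exact hcp)
  have h1 : InA Q M b p := hg.1.2
  exact hS.eq_omega_of_star hpW hp0 hQp hb hb0 (inA_swap hQb hQp h1)

/-- the image under `h ∈ M` of `W ∩ α^⊥` lies in the root module at `h α` -/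
theorem LSetup.img_mem (hS : LSetup Q M W W') {h : ↥(Cfsg.isometryGroup F ⇑Q)} (hh : h ∈ M)
    {α : ι → F} (hαW : α ∈ W) (hα0 : α ≠ 0) (hQα : Q α = 0) {u' : ι → F}
    (hu : toOG Q h α = u') (hQu' : Q u' = 0) {x : ι → F} (hx : x ∈ W) (hαx : polar Q α x = 0) :
    toOG Q h x ∈ rootMod M u' hQu' := by
  subst hu
  refine ⟨by rw [polar_toOG]; exact hαx, ?_⟩
  exact InA.conj hh (hS.inA_W hαW hα0 hQα hx hαx)

/-- case `a = 0`: a singular vector of `W` is not mapped into `W'` -/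
theorem LSetup.caseA (hS : LSetup Q M W W') (hne : M ≠ Cfsg.Omega F ⇑Q)
    (hlt : finrank F W' < finrank F W) {h : ↥(Cfsg.isometryGroup F ⇑Q)} (hh : h ∈ M)
    {α : ι → F} (hαW : α ∈ W) (hα0 : α ≠ 0) (hQα : Q α = 0) (hb : toOG Q h α ∈ W') : False := by
  obtain ⟨b, hbdef⟩ : ∃ b, toOG Q h α = b := ⟨_, rfl⟩
  rw [hbdef] at hb
  have hb0 : b ≠ 0 := by
    rintro rfl
    exact hα0 ((toOG Q h).injective (by rw [hbdef, map_zero]))
  have hQb : Q b = 0 := by rw [← hbdef, Q_toOG, hQα]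
  have key : ∀ x ∈ W, polar Q α x = 0 → toOG Q h x ∈ W' := by
    intro x hx hαx
    have hv := hS.img_mem hh hαW hα0 hQα hbdef hQb hx hαx
    obtain ⟨c, hc, d, hd, hcd⟩ := hS.dec (toOG Q h x)
    have hbc : polar Q b c = 0 := by rw [polar_comm]; exact hS.orth c hc b hb
    have hbd : polar Q b d = 0 := by
      have := hv.1
      rw [hcd, polar_add_right, hbc, zero_add] at this
      exact this
    have hInd : InA Q M b d := hS.inA_W' hb hb0 hQb hd hbd
    have hInc : InA Q M b c := by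
      have h5 := InA.add hQb hv.1 (by rw [polar_smul_right, hbd, smul_zero]) hv.2 (hInd.smul (-1))
      have e : toOG Q h x + (-1 : F) • d = c := by
        rw [hcd]
        module
      rwa [e] at h5
    by_cases hc0 : c = 0
    · rw [hcd, hc0, zero_add]
      exact hd
    · exact absurd (hS.eq_omega_of_star' hb hb0 hQb hc hc0 hInc) hne
  have h1 := Cfsg.Agent.Lib.Helper25.Fam.finrank_inf_perp_ge Q hS.nd W α
  have hmap : (W ⊓ Cfsg.Agent.Lib.Helper25.MaxTS.perp Q (Submodule.span F {α})).map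
      ((toOG Q h : (ι → F) ≃ₗ[F] (ι → F)) : (ι → F) →ₗ[F] (ι → F)) ≤
      W' ⊓ Cfsg.Agent.Lib.Helper25.MaxTS.perp Q (Submodule.span F {b}) := by
    rintro _ ⟨x, ⟨hxW, hxp⟩, rfl⟩
    have hαx : polar Q α x = 0 := Cfsg.Agent.Lib.Helper25.MaxTS.mem_perp_span.1 hxp
    refine ⟨key x hxW hαx, ?_⟩
    apply Cfsg.Agent.Lib.Helper25.MaxTS.mem_perp_span.2
    rw [← hbdef]
    show polar Q (toOG Q h α) (toOG Q h x) = 0
    rw [polar_toOG]
    exact hαx
  have h2 := Submodule.finrank_mono hmap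
  rw [finrank_map_equiv] at h2
  have hlt' : W' ⊓ Cfsg.Agent.Lib.Helper25.MaxTS.perp Q (Submodule.span F {b}) < W' := by
    refine lt_of_le_of_ne inf_le_left (fun heq => ?_)
    apply hb0
    apply hS.ndW' b hb
    intro y hy
    rw [← heq] at hy
    exact Cfsg.Agent.Lib.Helper25.MaxTS.mem_perp_span.1 hy.2
  have h3 := Submodule.finrank_lt_finrank_of_lt hlt'
  omega

/-- a vector of a nondegenerate space orthogonal to the hyperplane `a^⊥` is a multiple of the singular vector `a` -/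
theorem mem_span_of_perp_hyperplane {X : Submodule F (ι → F)} (hX : NdOn Q X) {a c : ι → F}
    (ha : a ∈ X) (ha0 : a ≠ 0) (hQa : Q a = 0) (hc : c ∈ X)
    (hperp : ∀ z ∈ X, polar Q a z = 0 → polar Q z c = 0) : ∃ l : F, c = l • a := by
  obtain ⟨a', ha'X, hQa', haa'⟩ := exists_hyp_partner Q X hX ha ha0 hQa
  refine ⟨polar Q a' c, ?_⟩
  have h0 : c - polar Q a' c • a = 0 := by
    apply hX _ (X.sub_mem hc (X.smul_mem _ ha))
    intro x hx
    obtain ⟨x0, hx0def⟩ : ∃ x0, x0 = x - polar Q a x • a' := ⟨_, rfl⟩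
    have hx0 : x0 ∈ X := by
      rw [hx0def]
      exact X.sub_mem hx (X.smul_mem _ ha'X)
    have hax0 : polar Q a x0 = 0 := by
      rw [hx0def, polar_sub_right, polar_smul_right, haa']
      simp
    have h1 := hperp _ hx0 hax0
    have e : x = x0 + polar Q a x • a' := by
      rw [hx0def]
      abel
    have hcx : polar Q c x = polar Q a x * polar Q a' c := by
      rw [e, polar_add_right, polar_comm Q c x0, h1, polar_smul_right, polar_comm Q c a', zero_add,
        polar_add_right, hax0, polar_smul_right, haa']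
      simp
    rw [polar_sub_left, polar_smul_left, hcx, smul_eq_mul]
    ring
  exact sub_eq_zero.1 h0

/-- case `Q a = 0`: the singular vector `a + b` (`a ∈ W`, `b ∈ W'` singular and nonzero) is not the image of a singular
vector of `W` -/
theorem LSetup.caseC (hS : LSetup Q M W W') (hne : M ≠ Cfsg.Omega F ⇑Q)
    {h : ↥(Cfsg.isometryGroup F ⇑Q)} (hh : h ∈ M)
    {α : ι → F} (hαW : α ∈ W) (hα0 : α ≠ 0) (hQα : Q α = 0) {a b : ι → F} (ha : a ∈ W)
    (hb : b ∈ W') (hab : toOG Q h α = a + b) (ha0 : a ≠ 0) (hb0 : b ≠ 0) (hQa : Q a = 0) :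
    False := by
  have hbig := hS.big
  have hpab : polar Q a b = 0 := hS.orth a ha b hb
  have hQu' : Q (a + b) = 0 := by rw [← hab, Q_toOG, hQα]
  have hQb : Q b = 0 := by
    have := hQu'
    rw [Cfsg.Agent.Lib.Helper25.MaxTS.Q_add, hQa, hpab] at this
    simpa using this
  have hau : polar Q a (a + b) = 0 := by rw [polar_add_right, pself Q hQa, hpab, add_zero]
  have hbu : polar Q b (a + b) = 0 := by
    rw [polar_add_right, pself Q hQb, polar_comm Q b a, hpab, add_zero]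
  have hinvW : ∀ v ∈ rootMod M (a + b) hQu', ∀ z ∈ W, polar Q a z = 0 →
      egen Q a z v ∈ rootMod M (a + b) hQu' := by
    intro v hv z hz haz
    refine hS.rootMod_egen_W hQu' ha hQa hz haz hau ?_ hv
    rw [polar_add_right, polar_comm Q z a, haz, hS.orth z hz b hb, add_zero]
  have hinvW' : ∀ v ∈ rootMod M (a + b) hQu', ∀ w ∈ W', polar Q b w = 0 →
      egen Q b w v ∈ rootMod M (a + b) hQu' := by
    intro v hv w hw hbw
    refine hS.rootMod_egen_W' hQu' hb hb0 hQb hw hbw hbu ?_ hv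
    rw [polar_add_right, polar_comm Q w b, hbw, polar_comm Q w a, hS.orth a ha w hw, add_zero]
  have haA : a ∈ rootMod M (a + b) hQu' := by
    by_cases hα1 : ∃ v ∈ rootMod M (a + b) hQu', polar Q a v ≠ 0
    · obtain ⟨v, hv, hav⟩ := hα1
      exact (grow Q hS.ndW (by omega) ha hQa (A := rootMod M (a + b) hQu')
        (fun x hx z hz hpz => hinvW x hx z hz hpz) hv hav).1
    push Not at hα1
    have hperp_b : ∀ v ∈ rootMod M (a + b) hQu', polar Q b v = 0 := by
      intro v hv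
      have := hv.1
      rw [polar_add_left, hα1 v hv, zero_add] at this
      exact this
    by_cases hβ1 : ∃ v ∈ rootMod M (a + b) hQu', ∃ z ∈ W, polar Q a z = 0 ∧ polar Q z v ≠ 0
    · obtain ⟨v, hv, z, hz, haz, hzv⟩ := hβ1
      have h5 := (rootMod M (a + b) hQu').sub_mem (hinvW v hv z hz haz) hv
      have e : egen Q a z v - v = (-polar Q z v) • a := by
        unfold egen
        rw [hα1 v hv]
        module
      rw [e] at h5
      have h6 := (rootMod M (a + b) hQu').smul_mem (-polar Q z v)⁻¹ h5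
      rwa [smul_smul, inv_mul_cancel₀ (neg_ne_zero.2 hzv), one_smul] at h6
    by_cases hβ2 : ∃ v ∈ rootMod M (a + b) hQu', ∃ w ∈ W', polar Q b w = 0 ∧ polar Q w v ≠ 0
    · obtain ⟨v, hv, w, hw, hbw, hwv⟩ := hβ2
      have h5 := (rootMod M (a + b) hQu').sub_mem (hinvW' v hv w hw hbw) hv
      have e : egen Q b w v - v = (-polar Q w v) • b := by
        unfold egen
        rw [hperp_b v hv]
        module
      rw [e] at h5
      have h6 := (rootMod M (a + b) hQu').smul_mem (-polar Q w v)⁻¹ h5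
      rw [smul_smul, inv_mul_cancel₀ (neg_ne_zero.2 hwv), one_smul] at h6
      have h7 := (rootMod M (a + b) hQu').sub_mem (self_mem_rootMod hQu') h6
      rwa [add_sub_cancel_right] at h7
    exfalso
    push Not at hβ1 hβ2
    -- every vector of the root module lies in `⟨a, b⟩`
    have hspan : ∀ v ∈ rootMod M (a + b) hQu', ∃ l m : F, v = l • a + m • b := by
      intro v hv
      obtain ⟨c, hc, d, hd, hcd⟩ := hS.dec v
      obtain ⟨l, hl⟩ := mem_span_of_perp_hyperplane hS.ndW ha ha0 hQa hc (by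
        intro z hz haz
        have := hβ1 v hv z hz haz
        rw [hcd, polar_add_right, hS.orth z hz d hd, add_zero] at this
        exact this)
      obtain ⟨m, hm⟩ := mem_span_of_perp_hyperplane hS.ndW' hb hb0 hQb hd (by
        intro w hw hbw
        have := hβ2 v hv w hw hbw
        rw [hcd, polar_add_right, polar_comm Q w c, hS.orth c hc w hw, zero_add] at this
        exact this)
      exact ⟨l, m, by rw [hcd, hl, hm]⟩
    obtain ⟨α', hα'W, hQα', hαα'⟩ := exists_hyp_partner Q W hS.ndW hαW hα0 hQα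
    have hNnd := perpPair_nd Q W hS.ndW hαW hα'W hQα hQα' hαα'
    have hNfr := perpPair_finrank Q W hαW hα'W hQα hQα' hαα'
    have hNpos : 0 < finrank F (perpPair Q W α α') := by omega
    obtain ⟨z1', hz1'⟩ := Module.finrank_pos_iff_exists_ne_zero.1 hNpos
    obtain ⟨z1, hz1N, hz10⟩ : ∃ z1 ∈ perpPair Q W α α', z1 ≠ 0 :=
      ⟨z1', z1'.2, fun h => hz1' (Subtype.ext h)⟩
    obtain ⟨z2, hz2N, hz12⟩ : ∃ z2 ∈ perpPair Q W α α', polar Q z1 z2 ≠ 0 := by
      by_contra hcon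
      push Not at hcon
      exact hz10 (hNnd z1 hz1N hcon)
    rw [mem_perpPair] at hz1N hz2N
    obtain ⟨hz1W, hαz1, -⟩ := hz1N
    obtain ⟨hz2W, hαz2, -⟩ := hz2N
    obtain ⟨l1, m1, e1⟩ := hspan _ (hS.img_mem hh hαW hα0 hQα hab hQu' hz1W hαz1)
    obtain ⟨l2, m2, e2⟩ := hspan _ (hS.img_mem hh hαW hα0 hQα hab hQu' hz2W hαz2)
    apply hz12
    rw [← polar_toOG Q h, e1, e2]
    simp only [polar_add_left, polar_add_right, polar_smul_left, polar_smul_right, pself Q hQa,
      pself Q hQb, hpab, polar_comm Q b a, smul_eq_mul, mul_zero, add_zero]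
  have h1 : InA Q M a (a + b) := inA_swap hQu' hQa haA.2
  have h2 : InA Q M a b := by
    have h5 := InA.add hQa hau (by rw [polar_smul_right, pself Q hQa, smul_zero]) h1
      ((inA_self (M := M) hQa).smul (-1))
    have e : a + b + (-1 : F) • a = b := by module
    rwa [e] at h5
  exact hne (hS.eq_omega_of_star ha ha0 hQa hb hb0 h2)

/-- case `Q a ≠ 0` -/
theorem LSetup.caseB (hS : LSetup Q M W W') (h2 : (2 : F) ≠ 0) (hne : M ≠ Cfsg.Omega F ⇑Q)
    {h : ↥(Cfsg.isometryGroup F ⇑Q)} (hh : h ∈ M)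
    {α : ι → F} (hαW : α ∈ W) (hα0 : α ≠ 0) (hQα : Q α = 0) {a b : ι → F} (ha : a ∈ W)
    (hb : b ∈ W') (hab : toOG Q h α = a + b) (hQa : Q a ≠ 0) : False := by
  have hbig := hS.big
  have hpab : polar Q a b = 0 := hS.orth a ha b hb
  have hQu' : Q (a + b) = 0 := by rw [← hab, Q_toOG, hQα]
  have hQb : Q b = -Q a := by
    have := hQu'
    rw [Cfsg.Agent.Lib.Helper25.MaxTS.Q_add, hpab, add_zero] at this
    linear_combination this
  have hQb0 : Q b ≠ 0 := by rw [hQb]; exact neg_ne_zero.2 hQa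
  have hb0 : b ≠ 0 := by
    rintro rfl
    simp at hQb0
  have hpaa : polar Q a a = 2 * Q a := Cfsg.Agent.Lib.Helper25.MaxTS.polar_self a
  have h2γ : 2 * Q a ≠ 0 := mul_ne_zero h2 hQa
  obtain ⟨T, hTdef⟩ : ∃ T : Submodule F (ι → F),
      T = W ⊓ Cfsg.Agent.Lib.Helper25.MaxTS.perp Q (Submodule.span F {a}) := ⟨_, rfl⟩
  have memT : ∀ x, x ∈ T ↔ x ∈ W ∧ polar Q a x = 0 := by
    intro x
    rw [hTdef, Submodule.mem_inf, Cfsg.Agent.Lib.Helper25.MaxTS.mem_perp_span]
  have hTnd : NdOn Q T := by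
    intro w hw hall
    obtain ⟨hwW, haw⟩ := (memT w).1 hw
    apply hS.ndW w hwW
    intro x hx
    have hx' : x - (polar Q a x * (2 * Q a)⁻¹) • a ∈ T := by
      rw [memT]
      refine ⟨W.sub_mem hx (W.smul_mem _ ha), ?_⟩
      rw [polar_sub_right, polar_smul_right, hpaa, smul_eq_mul, mul_assoc, inv_mul_cancel₀ h2γ]
      ring
    have h1 := hall _ hx'
    rw [polar_sub_right, polar_smul_right, polar_comm Q w a, haw, smul_zero, sub_zero] at h1
    exact h1
  have hT3 : 3 ≤ finrank F T := by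
    have := Cfsg.Agent.Lib.Helper25.Fam.finrank_inf_perp_ge Q hS.nd W a
    rw [← hTdef] at this
    omega
  have hTu : ∀ t ∈ T, polar Q t (a + b) = 0 := by
    intro t ht
    obtain ⟨htW, hat⟩ := (memT t).1 ht
    rw [polar_add_right, polar_comm Q t a, hat, hS.orth t htW b hb, add_zero]
  have hinvT : ∀ v ∈ rootMod M (a + b) hQu', ∀ p ∈ T, Q p = 0 → ∀ z ∈ T, polar Q p z = 0 →
      egen Q p z v ∈ rootMod M (a + b) hQu' := by
    intro v hv p hp hQp z hz hpz
    exact hS.rootMod_egen_W hQu' ((memT p).1 hp).1 hQp ((memT z).1 hz).1 hpz (hTu p hp) (hTu z hz) hv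
  -- the root module at `a + b` is orthogonal to `T`
  have hperpT : ∀ v ∈ rootMod M (a + b) hQu', ∀ t ∈ T, polar Q t v = 0 := by
    by_contra hcon
    push Not at hcon
    obtain ⟨v, hv, t, ht, htv⟩ := hcon
    have hvtop : v ∈ T ⊔ Cfsg.Agent.Lib.Helper25.MaxTS.perp Q T := by
      rw [perp_sup Q hS.nd hTnd]
      exact Submodule.mem_top
    obtain ⟨vT, hvT, vP, hvP, hvsum⟩ := Submodule.mem_sup.1 hvtop
    have hvP' : ∀ u ∈ T, polar Q u vP = 0 := Cfsg.Agent.Lib.Helper25.MaxTS.mem_perp.1 hvP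
    have hvT0 : vT ≠ 0 := by
      rintro rfl
      apply htv
      rw [← hvsum, zero_add]
      exact hvP' t ht
    obtain ⟨p, hpT, hQp, hvTp⟩ := exists_sing_not_perp Q hTnd hT3 hvT hvT0
    have hpv : polar Q p v ≠ 0 := by
      rw [← hvsum, polar_add_right, hvP' p hpT, add_zero, polar_comm]
      exact hvTp
    have hp0 : p ≠ 0 := by
      rintro rfl
      simp at hpv
    obtain ⟨hpW, hap⟩ := (memT p).1 hpT
    have hg := grow Q hTnd hT3 hpT hQp (A := rootMod M (a + b) hQu')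
      (fun x hx z hz hpz => hinvT x hx p hpT hQp z hz hpz) hv hpv
    have h1 : InA Q M p (a + b) := inA_swap hQu' hQp hg.1.2
    have hpa : polar Q p a = 0 := by rw [polar_comm]; exact hap
    have h3 : InA Q M p b := by
      have h5 := InA.add hQp (hTu p hpT) (by rw [polar_smul_right, hpa, smul_zero]) h1
        ((hS.inA_W hpW hp0 hQp ha hpa).smul (-1))
      have e : a + b + (-1 : F) • a = b := by module
      rwa [e] at h5
    exact hne (hS.eq_omega_of_star hpW hp0 hQp hb hb0 h3)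
  -- a vector of the root module outside `⟨a + b⟩`
  obtain ⟨α', hα'W, hQα', hαα'⟩ := exists_hyp_partner Q W hS.ndW hαW hα0 hQα
  have hNfr := perpPair_finrank Q W hαW hα'W hQα hQα' hαα'
  have hNpos : 0 < finrank F (perpPair Q W α α') := by omega
  obtain ⟨z1', hz1'⟩ := Module.finrank_pos_iff_exists_ne_zero.1 hNpos
  obtain ⟨z1, hz1N, hz10⟩ : ∃ z1 ∈ perpPair Q W α α', z1 ≠ 0 :=
    ⟨z1', z1'.2, fun h => hz1' (Subtype.ext h)⟩
  rw [mem_perpPair] at hz1N
  obtain ⟨hz1W, hαz1, hα'z1⟩ := hz1N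
  have hv := hS.img_mem hh hαW hα0 hQα hab hQu' hz1W hαz1
  have hvspan : ∀ c : F, toOG Q h z1 ≠ c • (a + b) := by
    intro c hc
    rw [← hab, ← map_smul] at hc
    have h5 := (toOG Q h).injective hc
    rw [h5, polar_smul_right, polar_comm Q α' α, hαα', smul_eq_mul, mul_one] at hα'z1
    apply hz10
    rw [h5, hα'z1, zero_smul]
  obtain ⟨c, hc, d, hd, hcd⟩ := hS.dec (toOG Q h z1)
  have hcT : ∀ t ∈ T, polar Q t c = 0 := by
    intro t ht
    have := hperpT _ hv t ht
    rw [hcd, polar_add_right, hS.orth t ((memT t).1 ht).1 d hd, add_zero] at this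
    exact this
  obtain ⟨l, hl⟩ : ∃ l : F, l = polar Q a c * (2 * Q a)⁻¹ := ⟨_, rfl⟩
  have hc' : c - l • a = 0 := by
    have hmem : c - l • a ∈ T := by
      rw [memT]
      refine ⟨W.sub_mem hc (W.smul_mem _ ha), ?_⟩
      rw [polar_sub_right, polar_smul_right, hpaa, hl, smul_eq_mul, mul_assoc, inv_mul_cancel₀ h2γ]
      ring
    apply hTnd _ hmem
    intro t ht
    rw [polar_sub_left, polar_smul_left, polar_comm Q c t, hcT t ht, ((memT t).1 ht).2]
    simp
  have hcl : c = l • a := sub_eq_zero.1 hc'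
  have hd'A : d - l • b ∈ rootMod M (a + b) hQu' := by
    have h5 := (rootMod M (a + b) hQu').sub_mem hv
      ((rootMod M (a + b) hQu').smul_mem l (self_mem_rootMod hQu'))
    have e : toOG Q h z1 - l • (a + b) = d - l • b := by
      rw [hcd, hcl]
      module
    rwa [e] at h5
  have hd'W' : d - l • b ∈ W' := W'.sub_mem hd (W'.smul_mem _ hb)
  have hd'0 : d - l • b ≠ 0 := by
    intro h0
    apply hvspan l
    rw [hcd, hcl, sub_eq_zero.1 h0]
    module
  obtain ⟨d', hd'def⟩ : ∃ d', d' = d - l • b := ⟨_, rfl⟩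
  rw [← hd'def] at hd'A hd'W' hd'0
  have had' : polar Q a d' = 0 := hS.orth a ha d' hd'W'
  have hbd' : polar Q b d' = 0 := by
    have := hd'A.1
    rw [polar_add_left, had', zero_add] at this
    exact this
  obtain ⟨m, hmM, hm⟩ := hd'A.2 1
  simp only [one_smul] at hm
  have hfix : ∀ t ∈ T, toOG Q m t = t := by
    intro t ht
    rw [hm]
    exact egen_fix Q (by rw [polar_comm]; exact hTu t ht)
      (by rw [polar_comm]; exact hS.orth t ((memT t).1 ht).1 d' hd'W')
  obtain ⟨p1, hp1T, hp10, hQp1⟩ := exists_singular_in Q T hT3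
  obtain ⟨f1, hf1T, hQf1, hp1f1⟩ := exists_hyp_partner Q T hTnd hp1T hp10 hQp1
  have hind : f1 ∉ Submodule.span F {p1} := by
    intro hmem
    obtain ⟨k, hk⟩ := Submodule.mem_span_singleton.1 hmem
    rw [← hk, polar_smul_right, pself Q hQp1, smul_zero] at hp1f1
    exact zero_ne_one hp1f1
  have hp1W := ((memT p1).1 hp1T).1
  have hf1W := ((memT f1).1 hf1T).1
  have hstab := hS.stab_of_two hne hmM hp1W hf1W hp10 hQp1 hQf1 hind
    (by rw [hfix p1 hp1T]; exact hp1W) (by rw [hfix f1 hf1T]; exact hf1W)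
  have h5 := hstab a ha
  rw [hm] at h5
  have hy : (2 * Q a) • d' - (Q d' * (2 * Q a)) • b ∈ W := by
    have e : (2 * Q a) • d' - (Q d' * (2 * Q a)) • b =
        egen Q (a + b) d' a - a + (Q d' * (2 * Q a)) • a := by
      unfold egen
      rw [polar_add_left, hpaa, polar_comm Q b a, hpab, polar_comm Q d' a, had']
      module
    rw [e]
    exact W.add_mem (W.sub_mem h5 ha) (W.smul_mem _ ha)
  have hy' : (2 * Q a) • d' - (Q d' * (2 * Q a)) • b ∈ W' :=
    W'.sub_mem (W'.smul_mem _ hd'W') (W'.smul_mem _ hb)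
  have hy0 : (2 * Q a) • d' - (Q d' * (2 * Q a)) • b = 0 := by
    have : (2 * Q a) • d' - (Q d' * (2 * Q a)) • b ∈ W ⊓ W' := ⟨hy, hy'⟩
    rwa [hS.disj, Submodule.mem_bot] at this
  have hd'b : d' = Q d' • b := by
    have h6 : (2 * Q a) • (d' - Q d' • b) = 0 := by
      rw [smul_sub, smul_smul, mul_comm (2 * Q a) (Q d')]
      exact hy0
    rcases smul_eq_zero.1 h6 with h7 | h7
    · exact absurd h7 h2γ
    · exact sub_eq_zero.1 h7
  have hQd' : Q d' = 0 := by
    have h6 := hbd'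
    rw [hd'b, polar_smul_right, Cfsg.Agent.Lib.Helper25.MaxTS.polar_self, smul_eq_mul] at h6
    rcases mul_eq_zero.1 h6 with h7 | h7
    · exact h7
    · exact absurd h7 (mul_ne_zero h2 hQb0)
  apply hd'0
  rw [hd'b, hQd', zero_smul]

/-- the main step: if `M ≠ Ω` then every element of `M` stabilises `W` -/
theorem LSetup.le_stab (hS : LSetup Q M W W') (h2 : (2 : F) ≠ 0) (hne : M ≠ Cfsg.Omega F ⇑Q)
    (hlt : finrank F W' < finrank F W) {h : ↥(Cfsg.isometryGroup F ⇑Q)} (hh : h ∈ M) :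
    ∀ x ∈ W, toOG Q h x ∈ W := by
  have hbig := hS.big
  by_contra hnot
  obtain ⟨p0, hp0W, hp00, hQp0⟩ := exists_singular_in Q W (by omega)
  obtain ⟨f0, hf0W, hQf0, hp0f0⟩ := exists_hyp_partner Q W hS.ndW hp0W hp00 hQp0
  have hf00 : f0 ≠ 0 := by
    rintro rfl
    simp at hp0f0
  have hind : f0 ∉ Submodule.span F {p0} := by
    intro hmem
    obtain ⟨k, hk⟩ := Submodule.mem_span_singleton.1 hmem
    rw [← hk, polar_smul_right, pself Q hQp0, smul_zero] at hp0f0
    exact zero_ne_one hp0f0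
  obtain ⟨α, hαW, hα0, hQα, hαnot⟩ : ∃ α ∈ W, α ≠ 0 ∧ Q α = 0 ∧ toOG Q h α ∉ W := by
    by_contra hcon
    push Not at hcon
    exact hnot (hS.stab_of_two hne hh hp0W hf0W hp00 hQp0 hQf0 hind (hcon p0 hp0W hp00 hQp0)
      (hcon f0 hf0W hf00 hQf0))
  obtain ⟨a, ha, b, hb, hab⟩ := hS.dec (toOG Q h α)
  by_cases ha0 : a = 0
  · apply hS.caseA hne hlt hh hαW hα0 hQα
    rw [hab, ha0, zero_add]
    exact hb
  have hb0 : b ≠ 0 := by
    rintro rfl
    apply hαnot
    rw [hab, add_zero]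
    exact ha
  by_cases hQa : Q a = 0
  · exact hS.caseC hne hh hαW hα0 hQα ha hb hab ha0 hb0 hQa
  · exact hS.caseB h2 hne hh hαW hα0 hQα ha hb hab hQa

end setup

variable (Q)

/-- **Maximality of the stabiliser of a nondegenerate subspace, low-dimensional version.**  `q` odd, `7 ≤ card ι`,
`V = W ⊥ W'`, `4 ≤ dim W`, `0 < dim W' < dim W`, `W'` not a hyperbolic plane over a field with at most three elements. -/
theorem isMaximalIn_nd_low (h2 : (2 : F) ≠ 0) (hQ : (polarBilin Q).Nondegenerate)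
    (hcard : 7 ≤ Fintype.card ι)
    {W W' : Submodule F (ι → F)} (horth : ∀ x ∈ W, ∀ y ∈ W', polar Q x y = 0)
    (hdisj : W ⊓ W' = ⊥) (hsup : W ⊔ W' = ⊤) (hbig : 4 ≤ finrank F W)
    (hlt : finrank F W' < finrank F W) (hW'0 : W' ≠ ⊥)
    (hexc : ¬ (Fintype.card F ≤ 3 ∧ finrank F W' = 2 ∧ ∃ e ∈ W', e ≠ 0 ∧ Q e = 0)) :
    Cfsg.Geo.IsMaximalIn (Cfsg.Geo.omegaGL ⇑Q)
      (Cfsg.Geo.subspaceStabilizer W ⊓ Cfsg.Geo.omegaGL ⇑Q) := by
  rw [stab_inf_eq]
  have hlt' : stabSub Q W ⊓ Cfsg.Omega F ⇑Q < Cfsg.Omega F ⇑Q := by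
    refine lt_of_le_of_ne inf_le_right (fun heq => ?_)
    have hS0 : LSetup Q (Cfsg.Omega F ⇑Q) W W' :=
      ⟨hQ, hcard, horth, hdisj, hsup, hbig, fun g hg _ => hg, le_rfl, hexc⟩
    obtain ⟨u, huW, hu0, hQu⟩ := exists_singular_in Q W (by omega)
    obtain ⟨f, hfW, hQf, huf⟩ := exists_hyp_partner Q W hS0.ndW huW hu0 hQu
    obtain ⟨y, hyW', hy0⟩ := (Submodule.ne_bot_iff W').1 hW'0
    obtain ⟨g, hgΩ, hg⟩ := exists_egen Q hQ hcard hu0 hQu (y := y) (horth u huW y hyW')
    have hgS : g ∈ stabSub Q W := by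
      have h5 : g ∈ stabSub Q W ⊓ Cfsg.Omega F ⇑Q := by
        rw [heq]
        exact hgΩ
      exact h5.1
    have h1 : toOG Q g f ∈ W := by
      have h5 := (mem_stabSub Q).1 hgS
      rw [← h5]
      exact Submodule.mem_map_of_mem hfW
    rw [hg] at h1
    unfold egen at h1
    rw [huf, polar_comm Q y f, horth f hfW y hyW'] at h1
    have h2' : y ∈ W := by
      have e : y = (f + (1 : F) • y - (0 : F) • u - (Q y * 1) • u) - f + Q y • u := by module
      rw [e]
      exact W.add_mem (W.sub_mem h1 hfW) (W.smul_mem _ huW)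
    have h3 : y ∈ W ⊓ W' := ⟨h2', hyW'⟩
    rw [hdisj, Submodule.mem_bot] at h3
    exact hy0 h3
  refine isMaximalIn_map _ (Subgroup.subtype_injective _) hlt' (fun M h1 h2' => ?_)
  by_cases hM : M = Cfsg.Omega F ⇑Q
  · exact Or.inr hM
  · left
    have hS : LSetup Q M W W' :=
      ⟨hQ, hcard, horth, hdisj, hsup, hbig,
        fun g hg hx => h1 ⟨mem_stabSub_of_le Q hx, hg⟩, h2', hexc⟩
    apply le_antisymm _ h1
    intro g hg
    exact ⟨mem_stabSub_of_le Q (hS.le_stab h2 hM hlt hg), h2' hg⟩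

/-- The `n = 7` version in the shape of helper5's `F11.Nd.isMaximalIn_nd11` (all splits `6+1`, `5+2`, `4+3`). -/
theorem isMaximalIn_nd7 (h2 : (2 : F) ≠ 0) (hQ : (polarBilin Q).Nondegenerate)
    (hcard : Fintype.card ι = 7)
    {W : Submodule F (ι → F)} (hW : NdOn Q W) (hW0 : W ≠ ⊥) (hW1 : W ≠ ⊤)
    (hexc : ∀ U : Submodule F (ι → F), (U = W ∨ U = Cfsg.Agent.Lib.Helper25.MaxTS.perp Q W) →
      ¬ (Fintype.card F ≤ 3 ∧ finrank F U = 2 ∧ ∃ e ∈ U, e ≠ 0 ∧ Q e = 0)) :
    Cfsg.Geo.IsMaximalIn (Cfsg.Geo.omegaGL ⇑Q)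
      (Cfsg.Geo.subspaceStabilizer W ⊓ Cfsg.Geo.omegaGL ⇑Q) := by
  have hfr := Cfsg.Agent.Lib.Helper25.MaxTS.finrank_perp hQ W
  rw [Module.finrank_fintype_fun_eq_card, hcard] at hfr
  have hle : finrank F W ≤ 7 := by
    have h := Submodule.finrank_le W
    rwa [Module.finrank_fintype_fun_eq_card, hcard] at h
  have hWlt : finrank F W < 7 := by
    by_contra h
    apply hW1
    apply Submodule.eq_top_of_finrank_eq
    rw [Module.finrank_fintype_fun_eq_card, hcard]
    omega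
  have hWpos : 0 < finrank F W := by
    rw [Nat.pos_iff_ne_zero]
    intro h
    exact hW0 (Submodule.finrank_eq_zero.1 h)
  rcases Nat.lt_or_ge (finrank F (Cfsg.Agent.Lib.Helper25.MaxTS.perp Q W)) (finrank F W) with
    hlt | hge
  · exact isMaximalIn_nd_low Q h2 hQ (by omega) (perp_orth Q W) (perp_disj Q hW) (perp_sup Q hQ hW)
      (by omega) hlt (by
        intro h
        rw [h, finrank_bot] at hfr
        omega) (hexc _ (Or.inr rfl))
  · have hlt : finrank F W < finrank F (Cfsg.Agent.Lib.Helper25.MaxTS.perp Q W) := by omega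
    have h := isMaximalIn_nd_low Q h2 hQ (by omega) (W := Cfsg.Agent.Lib.Helper25.MaxTS.perp Q W)
      (W' := W) (fun x hx y hy => by rw [polar_comm]; exact perp_orth Q W y hy x hx)
      (by rw [inf_comm]; exact perp_disj Q hW) (by rw [sup_comm]; exact perp_sup Q hQ hW)
      (by omega) hlt hW0 (hexc _ (Or.inl rfl))
    rwa [stab_perp_inf_eq Q hQ] at h

end matrix

end Cfsg.Agent.Lib.Helper9.NDLow
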