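import Mathlib
import Cfsg.Agent.Lib.Helper16.NM.Base
import Cfsg.Agent.Lib.Helper16.NM.Tool
import Cfsg.Agent.Lib.Helper24.BGBeta2
import Cfsg.Agent.S4127

/-!
S4146 (class sizes `{1, n, m, nm}`; owner helper16): leaf SP2, exact signature of `notes/S4146_leaves.lean` (helper9).
`n = s^i`, `m = q^j`, every `s`-regular element has index `1` or `nm`.  S4127 gives normal `p`-complements for all `p ≠ q`, so
`Q := hallInf {p ≠ q}` is a normal Sylow `q`-subgroup.  For every `z`, `|Q ⊓ C(z)| * q^(v_q (idx z)) = |Q|`.  `D := Q ⊓ C(v)`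
(`v` an `s`-element of index `m`): for `g ∈ D \ Z`, `C(g) ≤ C(v)` and `Q ⊓ C(g) = D`; `D` is not central, `C_Q(D) ≤ D`, `N_Q(D) ≤ D`;
the normalizer condition in the `q`-group `Q` gives `D = Q`, contradicting `|Q : D| = q^j > 1`.
-/

set_option autoImplicit false
set_option linter.style.haveILetI false

namespace Cfsg.Agent.Lib.Helper9.NM

open Cfsg.Agent.Lib.Helper22.ClsSet Cfsg.Agent.Lib.Helper16.NM

variable {G : Type*} [Group G] [Finite G] {n m : ℕ}

/-- uniqueness of the `q`-part -/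
theorem pow_mul_unique {q : ℕ} (hq : q.Prime) {β γ r r' : ℕ} (hr : ¬ q ∣ r) (hr' : ¬ q ∣ r')
    (h : q ^ β * r = q ^ γ * r') : β = γ := by
  have hc : ∀ (k x : ℕ), ¬ q ∣ x → (q ^ k).Coprime x := fun k x hx =>
    Nat.Coprime.pow_left k ((Nat.Prime.coprime_iff_not_dvd hq).2 hx)
  apply le_antisymm
  · have h1 : q ^ β ∣ q ^ γ * r' := ⟨r, h.symm⟩
    have h2 := (hc β r' hr').dvd_of_dvd_mul_right h1
    exact (Nat.pow_dvd_pow_iff_le_right hq.one_lt).1 h2
  · have h1 : q ^ γ ∣ q ^ β * r := ⟨r', h⟩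
    have h2 := (hc γ r hr).dvd_of_dvd_mul_right h1
    exact (Nat.pow_dvd_pow_iff_le_right hq.one_lt).1 h2

/-- a normal Sylow `q`-subgroup `Q` meets `C(z)` in a subgroup of index the `q`-part of `idx z` -/
theorem card_inf_cent_mul (Q : Subgroup G) [Q.Normal] {q : ℕ} [Fact q.Prime]
    (hQ : IsPGroup q Q) (hidx : ¬ q ∣ Q.index) (z : G) {a j : ℕ} (hz : idx z = a * q ^ j)
    (ha : ¬ q ∣ a) :
    Nat.card (Q ⊓ Subgroup.centralizer ({z} : Set G) : Subgroup G) * q ^ j = Nat.card Q := by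
  have hq : q.Prime := Fact.out
  set C := Subgroup.centralizer ({z} : Set G) with hC
  obtain ⟨α, hα⟩ := IsPGroup.iff_card.1 (hQ.to_le (inf_le_left : Q ⊓ C ≤ Q))
  obtain ⟨β, hβ⟩ := IsPGroup.iff_card.1 hQ
  have h1 : Nat.card C = Nat.card (Q ⊓ C : Subgroup G) * (Q ⊓ C).relIndex C :=
    card_eq_card_mul_relIndex inf_le_right
  have h2 : (Q ⊓ C).relIndex C = Q.relIndex C := Subgroup.inf_relIndex_right Q C
  have h3 : Q.relIndex C ∣ Q.index := Subgroup.relIndex_dvd_index_of_normal Q C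
  have hr : ¬ q ∣ Q.relIndex C := fun hd => hidx (hd.trans h3)
  have h4 : Nat.card Q * Q.index = Nat.card G := Subgroup.card_mul_index Q
  have h5 : Nat.card C * idx z = Nat.card G := card_cent_mul_idx z
  have h6 : q ^ β * Q.index = q ^ (α + j) * (Q.relIndex C * a) := by
    rw [← hβ, h4, ← h5, h1, h2, hα, hz, pow_add]; ring
  have h7 : ¬ q ∣ Q.relIndex C * a := by
    intro hd
    rcases (Nat.Prime.dvd_mul hq).1 hd with hd | hd
    · exact hr hd
    · exact ha hd
  have h8 := pow_mul_unique hq hidx h7 h6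
  rw [hα, hβ, h8, pow_add]

/-- the `q`-group part of SP2 -/
theorem SP2_aux (h : CS G n m) {s q : ℕ} [Fact s.Prime] [Fact q.Prime] (hsq : s ≠ q) {i j : ℕ}
    (hn : n = s ^ i) (hm : m = q ^ j)
    (hreg : ∀ g : G, (orderOf g).Coprime s → idx g = 1 ∨ idx g = n * m)
    {v : G} (hv : PEl s v) (hiv : idx v = m) (Q : Subgroup G) [hQn : Q.Normal]
    (hQp : IsPGroup q Q) (hQidx : ¬ q ∣ Q.index) : False := by
  have hsp : s.Prime := Fact.out
  have hqp : q.Prime := Fact.out
  have hcop_sq : s.Coprime q := (Nat.coprime_primes hsp hqp).2 hsq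
  have hqj : 1 < q ^ j := by rw [← hm]; exact h.one_lt_m
  have hqsi : ¬ q ∣ s ^ i := fun hd =>
    hsq ((Nat.prime_dvd_prime_iff_eq hqp hsp).1 (hqp.dvd_of_dvd_pow hd)).symm
  set Z := Subgroup.center G with hZ
  set Cv := Subgroup.centralizer ({v} : Set G) with hCv
  set D : Subgroup G := Q ⊓ Cv with hD
  have hcardD : Nat.card D * q ^ j = Nat.card Q := by
    have : idx v = 1 * q ^ j := by rw [hiv, hm, one_mul]
    exact card_inf_cent_mul Q hQp hQidx v this (Nat.Prime.not_dvd_one hqp)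
  have hordQ : ∀ g : G, g ∈ Q → ∃ k : ℕ, orderOf g = q ^ k := by
    intro g hg
    obtain ⟨k, hk⟩ := (IsPGroup.iff_orderOf.1 hQp) ⟨g, hg⟩
    exact ⟨k, by rw [← hk, Subgroup.orderOf_mk]⟩
  have hidxQ : ∀ g : G, g ∈ Q → g ∉ Z → idx g = n * m := by
    intro g hg hgZ
    obtain ⟨k, hk⟩ := hordQ g hg
    have hc : (orderOf g).Coprime s := by rw [hk]; exact Nat.Coprime.pow_left _ hcop_sq.symm
    rcases hreg g hc with e | e
    · exact absurd ((idx_eq_one_iff g).1 e) hgZ
    · exact e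
  have hcardg : ∀ g : G, g ∈ Q → g ∉ Z →
      Nat.card (Q ⊓ Subgroup.centralizer ({g} : Set G) : Subgroup G) = Nat.card D := by
    intro g hgQ hgZ
    have hig : idx g = n * m := hidxQ g hgQ hgZ
    have : idx g = s ^ i * q ^ j := by rw [hig, hn, hm]
    have h1 := card_inf_cent_mul Q hQp hQidx g this hqsi
    have h2 : Nat.card (Q ⊓ Subgroup.centralizer ({g} : Set G) : Subgroup G) * q ^ j =
        Nat.card D * q ^ j := h1.trans hcardD.symm
    exact Nat.eq_of_mul_eq_mul_right (by omega) h2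
  -- F3
  have hF3 : ∀ g : G, g ∈ D → g ∉ Z → Subgroup.centralizer ({g} : Set G) ≤ Cv := by
    intro g hgD hgZ
    have hgQ : g ∈ Q := (Subgroup.mem_inf.1 hgD).1
    have hgC : g ∈ Cv := (Subgroup.mem_inf.1 hgD).2
    have hc : Commute v g := by
      rw [hCv, mem_cent_singleton] at hgC
      exact hgC
    obtain ⟨k, hk⟩ := hordQ g hgQ
    obtain ⟨e, he⟩ := hv
    have hcop : (orderOf v).Coprime (orderOf g) := by
      rw [hk, he]; exact Nat.Coprime.pow _ _ hcop_sq
    have hcent := cent_mul_of_coprime hc hcop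
    have h1 : idx v ∣ idx (v * g) := idx_dvd_mul_left_of_coprime hc hcop
    have h2 : idx g ∣ idx (v * g) := idx_dvd_mul_right_of_coprime hc hcop
    have hig := hidxQ g hgQ hgZ
    have h3 : idx (v * g) = n * m := by
      apply h.idx_of_dvd_dvd
      · exact (dvd_mul_right n m).trans (hig ▸ h2)
      · exact hiv ▸ h1
    have hle : Subgroup.centralizer ({v * g} : Set G) ≤ Subgroup.centralizer ({g} : Set G) := by
      rw [hcent]; exact inf_le_right
    have hge : Subgroup.centralizer ({g} : Set G) ≤ Subgroup.centralizer ({v * g} : Set G) := by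
      rw [← Subgroup.relIndex_eq_one]
      have h4 := Subgroup.relIndex_mul_index hle
      have h5 : (Subgroup.centralizer ({g} : Set G)).index = n * m := hig
      have h6 : (Subgroup.centralizer ({v * g} : Set G)).index = n * m := h3
      rw [h5, h6] at h4
      have hpos : 0 < n * m := by
        have := h.one_lt_n
        have := h.one_lt_m
        positivity
      exact Nat.eq_of_mul_eq_mul_right hpos (by rw [h4, one_mul])
    calc Subgroup.centralizer ({g} : Set G) ≤ Subgroup.centralizer ({v * g} : Set G) := hge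
      _ = Subgroup.centralizer ({v} : Set G) ⊓ Subgroup.centralizer ({g} : Set G) := hcent
      _ ≤ Cv := inf_le_left
  -- F4
  have hF4 : ∀ g : G, g ∈ D → g ∉ Z → Q ⊓ Subgroup.centralizer ({g} : Set G) = D := by
    intro g hgD hgZ
    have hle : Q ⊓ Subgroup.centralizer ({g} : Set G) ≤ D := inf_le_inf_left Q (hF3 g hgD hgZ)
    exact Subgroup.eq_of_le_of_card_ge hle (hcardg g hgD.1 hgZ).ge
  have hDQ : D ≠ Q := by
    intro e
    rw [e] at hcardD
    have h1 : Nat.card Q * q ^ j = Nat.card Q * 1 := by rw [hcardD, mul_one]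
    have h2 := Nat.eq_of_mul_eq_mul_left Nat.card_pos h1
    omega
  -- F6
  have hF6 : ∃ d0 : G, d0 ∈ D ∧ d0 ∉ Z := by
    by_contra hcon
    push Not at hcon
    have hQZ : ∃ g0 : G, g0 ∈ Q ∧ g0 ∉ Z := by
      by_contra hcon2
      push Not at hcon2
      apply hDQ
      apply le_antisymm inf_le_left
      intro g hg
      refine Subgroup.mem_inf.2 ⟨hg, ?_⟩
      have h1 := hcon2 g hg
      rw [hCv, mem_cent_singleton]
      exact Subgroup.mem_center_iff.1 h1 v
    obtain ⟨g0, hg0Q, hg0Z⟩ := hQZ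
    have hle : D ≤ Q ⊓ Subgroup.centralizer ({g0} : Set G) := by
      intro d hd
      refine Subgroup.mem_inf.2 ⟨hd.1, ?_⟩
      have h1 := hcon d hd
      rw [mem_cent_singleton]
      exact Subgroup.mem_center_iff.1 h1 g0
    have heq : D = Q ⊓ Subgroup.centralizer ({g0} : Set G) :=
      Subgroup.eq_of_le_of_card_ge hle (hcardg g0 hg0Q hg0Z).le
    have h2 : g0 ∈ D := by
      rw [heq]
      exact Subgroup.mem_inf.2 ⟨hg0Q, by rw [mem_cent_singleton]⟩
    exact hg0Z (hcon g0 h2)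
  obtain ⟨d0, hd0D, hd0Z⟩ := hF6
  have hD0 := hF4 d0 hd0D hd0Z
  have hvd : ∀ d : G, d ∈ D → v * d = d * v := by
    intro d hd
    have h1 := (Subgroup.mem_inf.1 hd).2
    rwa [hCv, mem_cent_singleton] at h1
  -- F8
  have hF8 : ∀ a : G, a ∈ Q → (∀ d : G, d ∈ D → a * d * a⁻¹ ∈ D) → a ∈ D := by
    intro a haQ hnorm
    have hcQ : a⁻¹ * (v⁻¹ * a * v) ∈ Q := by
      apply Q.mul_mem (Q.inv_mem haQ)
      have h1 := hQn.conj_mem a haQ v⁻¹
      rwa [inv_inv] at h1
    have hcd : ∀ d : G, d ∈ D → (a⁻¹ * (v⁻¹ * a * v)) * d = d * (a⁻¹ * (v⁻¹ * a * v)) := by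
      intro d hd
      have h1 := hvd d hd
      have h2 : Commute v (a * d * a⁻¹) := hvd _ (hnorm d hd)
      have h2' : v⁻¹ * (a * d * a⁻¹) = (a * d * a⁻¹) * v⁻¹ := h2.inv_left.eq
      calc (a⁻¹ * (v⁻¹ * a * v)) * d = a⁻¹ * v⁻¹ * a * (v * d) := by group
        _ = a⁻¹ * v⁻¹ * a * (d * v) := by rw [h1]
        _ = a⁻¹ * (v⁻¹ * (a * d * a⁻¹)) * a * v := by group
        _ = a⁻¹ * ((a * d * a⁻¹) * v⁻¹) * a * v := by rw [h2']
        _ = d * (a⁻¹ * (v⁻¹ * a * v)) := by group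
    have hcD : a⁻¹ * (v⁻¹ * a * v) ∈ D := by
      rw [← hD0]
      refine Subgroup.mem_inf.2 ⟨hcQ, ?_⟩
      rw [mem_cent_singleton]
      exact (hcd d0 hd0D).symm
    generalize hcdef : a⁻¹ * (v⁻¹ * a * v) = c at hcQ hcd hcD
    have hcv : Commute v c := hvd c hcD
    have hstep : v⁻¹ * a * v = a * c := by rw [← hcdef]; group
    have hpow : ∀ k : ℕ, v⁻¹ ^ k * a * v ^ k = a * c ^ k := by
      intro k
      induction k with
      | zero => simp
      | succ k ih =>
        have h2 : Commute v (c ^ k) := hcv.pow_right k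
        have h3 : v⁻¹ * c ^ k * v = c ^ k := by
          rw [mul_assoc, ← h2.eq, ← mul_assoc, inv_mul_cancel, one_mul]
        calc v⁻¹ ^ (k + 1) * a * v ^ (k + 1) = v⁻¹ * (v⁻¹ ^ k * a * v ^ k) * v := by
              rw [pow_succ', pow_succ]; group
          _ = v⁻¹ * (a * c ^ k) * v := by rw [ih]
          _ = (v⁻¹ * a * v) * (v⁻¹ * c ^ k * v) := by group
          _ = (a * c) * c ^ k := by rw [hstep, h3]
          _ = a * c ^ (k + 1) := by rw [pow_succ', mul_assoc]
    have hck : c ^ orderOf v = 1 := by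
      have h1 := hpow (orderOf v)
      rw [inv_pow, pow_orderOf_eq_one, inv_one, one_mul, mul_one] at h1
      have h2 : a * c ^ orderOf v = a * 1 := by rw [mul_one]; exact h1.symm
      exact mul_left_cancel h2
    have hc1 : c = 1 := by
      obtain ⟨l, hl⟩ := hordQ c hcQ
      obtain ⟨e, he⟩ := hv
      have h1 : orderOf c ∣ orderOf v := orderOf_dvd_of_pow_eq_one hck
      rw [hl, he] at h1
      have h2 : (q ^ l).Coprime (s ^ e) := Nat.Coprime.pow _ _ hcop_sq.symm
      have h3 : q ^ l = 1 := Nat.Coprime.eq_one_of_dvd h2 h1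
      rw [← hl] at h3
      exact orderOf_eq_one_iff.1 h3
    refine Subgroup.mem_inf.2 ⟨haQ, ?_⟩
    rw [hCv, mem_cent_singleton]
    rw [hc1, mul_one] at hstep
    calc v * a = v * (v⁻¹ * a * v) := by rw [hstep]
      _ = a * v := by group
  -- normalizer condition in the `q`-group `Q`
  have hnil : Group.IsNilpotent Q := hQp.isNilpotent
  have hNC := Group.normalizerCondition_of_isNilpotent (G := Q)
  have hlt : D.subgroupOf Q < ⊤ := by
    rw [lt_top_iff_ne_top, Ne, Subgroup.subgroupOf_eq_top]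
    intro hle
    exact hDQ (le_antisymm inf_le_left hle)
  obtain ⟨a, haN, haD⟩ := SetLike.exists_of_lt (hNC _ hlt)
  apply haD
  rw [Subgroup.mem_subgroupOf]
  apply hF8 a a.2
  intro d hd
  have h1 := (Subgroup.mem_normalizer_iff.1 haN ⟨d, hd.1⟩).1
    (by rw [Subgroup.mem_subgroupOf]; exact hd)
  rw [Subgroup.mem_subgroupOf] at h1
  simpa using h1

/-- SP2 (single prime, S4127 + `q`-group argument) -/
theorem SP2 (h : CS G n m) {s q : ℕ} [Fact s.Prime] [Fact q.Prime] (hsq : s ≠ q) {i j : ℕ}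
    (hn : n = s ^ i) (hm : m = q ^ j)
    (hreg : ∀ g : G, (orderOf g).Coprime s → idx g = 1 ∨ idx g = n * m)
    {w v : G} (hw : PEl s w) (hiw : idx w = n) (hv : PEl s v) (hiv : idx v = m) : False := by
  have hsp : s.Prime := Fact.out
  have hqp : q.Prime := Fact.out
  have hcop_sq : s.Coprime q := (Nat.coprime_primes hsp hqp).2 hsq
  have hdvd : ∀ y : G, idx y ∣ s ^ i * q ^ j := by
    intro y
    rw [← hn, ← hm]
    rcases h.cs y with e | e | e | e <;> rw [e]
    · exact one_dvd _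
    · exact dvd_mul_right _ _
    · exact dvd_mul_left _ _
  have hnpc : ∀ p : ℕ, p.Prime → p ∈ {p : ℕ | p ≠ q} → p ∣ Nat.card G →
      Cfsg.HasNormalPComplement p G := by
    intro p hp hpq _
    have hpq' : p ≠ q := hpq
    haveI : Fact p.Prime := ⟨hp⟩
    by_cases hps : p = s
    · rw [hps]
      refine Cfsg.Agent.S4127.result s i ?_ ⟨w, hw, hiw.trans hn⟩
      intro y hd
      have h1 : s ^ (i + 1) ∣ s ^ i * q ^ j := hd.trans (hdvd y)
      have h2 : (s ^ (i + 1)).Coprime (q ^ j) := Nat.Coprime.pow _ _ hcop_sq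
      have h3 := h2.dvd_of_dvd_mul_right h1
      have h4 := (Nat.pow_dvd_pow_iff_le_right hsp.one_lt).1 h3
      omega
    · refine Cfsg.Agent.S4127.result p 0 ?_ ⟨1, ⟨0, by simp⟩, ?_⟩
      · intro y hd
        have h1 : p ∣ s ^ i * q ^ j := by
          have h0 : p ∣ p ^ (0 + 1) := by simp
          exact h0.trans (hd.trans (hdvd y))
        rcases (Nat.Prime.dvd_mul hp).1 h1 with h2 | h2
        · exact hps ((Nat.prime_dvd_prime_iff_eq hp hsp).1 (hp.dvd_of_dvd_pow h2))
        · exact hpq' ((Nat.prime_dvd_prime_iff_eq hp hqp).1 (hp.dvd_of_dvd_pow h2))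
      · rw [pow_zero]; exact idx_one
  haveI hQn : (Cfsg.Agent.Lib.Helper24.BGBeta.hallInf {p : ℕ | p ≠ q} G).Normal := by
    haveI : (Cfsg.Agent.Lib.Helper24.BGBeta.hallInf {p : ℕ | p ≠ q} G).Characteristic :=
      Cfsg.Agent.Lib.Helper24.BGBeta.hallInf_characteristic _
    infer_instance
  have hQidx : ¬ q ∣ (Cfsg.Agent.Lib.Helper24.BGBeta.hallInf {p : ℕ | p ≠ q} G).index :=
    Cfsg.Agent.Lib.Helper24.BGBeta.hallInf_not_dvd_index _ hnpc hqp (by simp)
  have hQp : IsPGroup q (Cfsg.Agent.Lib.Helper24.BGBeta.hallInf {p : ℕ | p ≠ q} G) := by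
    have h1 : ∀ {d : ℕ}, d.Prime →
        d ∣ Nat.card (Cfsg.Agent.Lib.Helper24.BGBeta.hallInf {p : ℕ | p ≠ q} G) → d = q := by
      intro d hd hdQ
      by_contra hne
      exact Cfsg.Agent.Lib.Helper24.BGBeta.hallInf_not_dvd_card {p : ℕ | p ≠ q} hd hne hdQ
    have h2 := Nat.eq_prime_pow_of_unique_prime_dvd Nat.card_pos.ne' h1
    exact IsPGroup.of_card h2
  exact SP2_aux h hsq hn hm hreg hv hiv _ hQp hQidx

end Cfsg.Agent.Lib.Helper9.NM
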