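/-
Helper9 library: `E(N_G(P)) = E(G)` for `P ≤ O_p(G)`.
-/
import Cfsg.Agent.Lib.Helper9.NormalizerChain3

set_option autoImplicit false

namespace Cfsg.Agent.Lib.Helper9

universe u

variable {G : Type u} [Group G]

/-- `E(G) ≤ C_G(O_p(G))`. -/
theorem layer_le_centralizer_pCore [Finite G] (p : ℕ) [Fact p.Prime] :
    Cfsg.layer G ≤ Subgroup.centralizer (Cfsg.pCore p G : Set G) := by
  refine layer_le_centralizer_fittingSubgroup.trans (Subgroup.centralizer_le ?_)
  exact Cfsg.Agent.Lib.Helper1.le_fittingSubgroup inferInstance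
    (Cfsg.Agent.Lib.Helper1.pCore_isPGroup p G).isNilpotent

/-- A subgroup centralizing `E(G)` and `F(G)` and perfect is trivial... more precisely:
a subgroup `A` with `A ≤ C(E(G))` and `A ≤ C(F(G))` is abelian. -/
theorem le_centralizer_self_of_le_centralizer_layer_fitting [Finite G] {A : Subgroup G}
    (hE : A ≤ Subgroup.centralizer (Cfsg.layer G : Set G))
    (hF : A ≤ Subgroup.centralizer (Cfsg.fittingSubgroup G : Set G)) :
    A ≤ Subgroup.centralizer (A : Set G) := by
  have h1 : Cfsg.generalizedFittingSubgroup G ≤ Subgroup.centralizer (A : Set G) :=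
    sup_le (Subgroup.le_centralizer_iff.mp hE) (Subgroup.le_centralizer_iff.mp hF)
  have h2 : A ≤ Subgroup.centralizer (Cfsg.generalizedFittingSubgroup G : Set G) :=
    Subgroup.le_centralizer_iff.mp h1
  exact (h2.trans centralizer_generalizedFittingSubgroup_le).trans h1

/-- `E(N_G(P)) = E(G)` for `P ≤ O_p(G)`. -/
theorem layer_normalizer_eq_of_le_pCore [Finite G] {p : ℕ} [Fact p.Prime] {P : Subgroup G}
    (hP : P ≤ Cfsg.pCore p G) :
    (Cfsg.layer ↥(Subgroup.normalizer (P : Set G))).map
      (Subgroup.normalizer (P : Set G)).subtype = Cfsg.layer G := by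
  set H := Subgroup.normalizer (P : Set G) with hH
  have hPp : IsPGroup p ↥P := (Cfsg.Agent.Lib.Helper1.pCore_isPGroup p G).to_le hP
  have hCP : Subgroup.centralizer (Cfsg.pCore p G : Set G) ≤ H :=
    (Subgroup.centralizer_le hP).trans (Subgroup.centralizer_le_normalizer _)
  have hEH : Cfsg.layer G ≤ H := (layer_le_centralizer_pCore p).trans hCP
  apply le_antisymm
  · rw [Subgroup.map_le_iff_le_comap]
    apply layer_le_of_forall_component_le
    intro L hL
    rw [← Subgroup.map_le_iff_le_comap]
    -- `L` centralizes `F(H)`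
    have hLF : L ≤ Subgroup.centralizer (Cfsg.fittingSubgroup ↥H : Set ↥H) :=
      (component_le_layer hL).trans layer_le_centralizer_fittingSubgroup
    have hperf : ⁅L.map H.subtype, L.map H.subtype⁆ = L.map H.subtype := by
      rw [← Subgroup.map_commutator, Subgroup.isPerfect_iff.mp hL.2.1]
    -- (1) `L` centralizes `O_p(G)`
    have h1 : ⁅Cfsg.pCore p G, L.map H.subtype⁆ = ⊥ := by
      apply commutator_pCore_eq_bot_of_pStable hPp (Subgroup.map_subtype_le _) _
        (pStable_of_perfect p hperf)
      unfold pCoreIn
      rw [← Subgroup.map_commutator, eq_bot_iff]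
      have : ⁅Cfsg.pCore p ↥H, L⁆ = ⊥ := by
        rw [Subgroup.commutator_comm, Subgroup.commutator_eq_bot_iff_le_centralizer]
        refine hLF.trans (Subgroup.centralizer_le ?_)
        exact Cfsg.Agent.Lib.Helper1.le_fittingSubgroup inferInstance
          (Cfsg.Agent.Lib.Helper1.pCore_isPGroup p ↥H).isNilpotent
      rw [this, Subgroup.map_bot]
    -- (2) `L` centralizes `O_q(G)` for all primes `q`
    have h2 : ∀ q : Nat.Primes, Cfsg.pCore (q : ℕ) G ≤
        Subgroup.centralizer ((L.map H.subtype : Subgroup G) : Set G) := by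
      intro q
      have hq : Fact (Nat.Prime (q : ℕ)) := ⟨q.2⟩
      by_cases hqp : (q : ℕ) = p
      · rw [hqp, ← Subgroup.commutator_eq_bot_iff_le_centralizer]
        exact h1
      · have hRH : Cfsg.pCore (q : ℕ) G ≤ H := by
          refine le_trans ?_ hCP
          intro x hx
          rw [Subgroup.mem_centralizer_iff]
          intro y hy
          exact (Cfsg.Agent.Lib.Helper1.pCore_commute (Ne.symm hqp) y x hy hx).eq
        have hRF : (Cfsg.pCore (q : ℕ) G).subgroupOf H ≤ Cfsg.fittingSubgroup ↥H := by
          apply Cfsg.Agent.Lib.Helper1.le_fittingSubgroup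
            (Subgroup.Normal.subgroupOf inferInstance H)
          exact ((Cfsg.Agent.Lib.Helper1.pCore_isPGroup (q : ℕ) G).comap_subtype).isNilpotent
        have h3 : (Cfsg.pCore (q : ℕ) G).subgroupOf H ≤ Subgroup.centralizer (L : Set ↥H) :=
          hRF.trans (Subgroup.le_centralizer_iff.mp hLF)
        intro x hx
        rw [Subgroup.mem_centralizer_iff]
        rintro _ ⟨l, hl, rfl⟩
        have := (Subgroup.mem_centralizer_iff.mp
          (h3 (Subgroup.mem_subgroupOf.mpr (show ((⟨x, hRH hx⟩ : ↥H) : G) ∈ _ from hx)))) l hl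
        exact congrArg Subtype.val this
    have hF : L.map H.subtype ≤ Subgroup.centralizer (Cfsg.fittingSubgroup G : Set G) := by
      rw [Subgroup.le_centralizer_iff, Cfsg.Agent.Lib.Helper1.fittingSubgroup_eq_iSup_pCore]
      exact iSup_le h2
    -- (3) either `L ≤ E(G)` or `L` centralizes `E(G)`
    have hsn : ((Cfsg.layer G).subgroupOf H).IsSubnormal :=
      (Subgroup.Normal.subgroupOf inferInstance H).isSubnormal
    rcases component_le_or_commutator_eq_bot L _ hL hsn with h | h
    · rw [Subgroup.map_le_iff_le_comap]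
      exact h
    · exfalso
      have hE : L.map H.subtype ≤ Subgroup.centralizer (Cfsg.layer G : Set G) := by
        rw [Subgroup.commutator_eq_bot_iff_le_centralizer] at h
        rintro _ ⟨l, hl, rfl⟩
        rw [Subgroup.mem_centralizer_iff]
        intro e he
        have := (Subgroup.mem_centralizer_iff.mp (h hl)) ⟨e, hEH he⟩
          (Subgroup.mem_subgroupOf.mpr he)
        exact congrArg Subtype.val this
      have hab := le_centralizer_self_of_le_centralizer_layer_fitting hE hF
      have hnil := isNilpotent_of_le_centralizer hab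
      have hsol : Group.IsSolvable ↥(L.map H.subtype) := inferInstance
      apply IsQuasisimple_not_isSolvable hL.2
      exact Group.isSolvable_of_isSolvable_injective
        (f := (L.equivMapOfInjective H.subtype H.subtype_injective).toMonoidHom)
        (L.equivMapOfInjective H.subtype H.subtype_injective).injective
  · apply layer_le_of_forall_component_le
    intro K hK
    exact component_le_layer_map_subtype hK ((component_le_layer hK).trans hEH)

end Cfsg.Agent.Lib.Helper9
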