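import Cfsg.Agent.Lib.Helper9.SpMS8c
import Cfsg.Agent.Lib.Helper27.AschO4
import Cfsg.Agent.Lib.Helper1.OmMT1

/-!
# OMEGA-EVEN (planner lead), OE-ROWS3 leaf R15 = (H2) `talt_of_tsym` (helper9).  Exact signature of `notes/OmEven_rows3_leaves.lean`.

`q` odd: `O_3 ⊗ O_4^+ ≤ Sp_2 ⊗ Sp_6` inside `Ω_12^+`.  By `plus_normal_form` (Helper9.SpMS8a) `f₂ ≅ detForm = ω ⊗ ω` on `F^{2×2}`; regroup
`F³ ⊗ (F² ⊗ F²) = F² ⊗ (F³ ⊗ F²)` (`rho6`, `P4 = P (1 ⊗ B)`): the form is `c₀ · ω ⊗ (f₁ ⊗ ω)` (`g₁ = bf J2`, `g₂ = bf (M6 G₁)`), pure tensors are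
singular.  An element `a ⊗ b` of the tensor product subgroup that preserves `polar Q` has `a`, `b` similitudes with inverse multipliers
(`simil_pair`); by `detForm_similarity` (Helper9.SpMS8b) `B⁻¹ b B` is `b₁ ⊗ b₂` (then `a ⊗ b = b₂ ⊗ (a ⊗ b₁)` after regrouping) or `(b₁ ⊗ b₂) swap`;
in the second case `det (a ⊗ b) = det(a)^4 det(b)^3 = μ^{-6} (-μ²)^3 = -1`, impossible in `Ω` (`det = 1`).
-/

set_option autoImplicit false
set_option linter.unusedSectionVars false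
set_option linter.unusedVariables false

namespace Cfsg.Agent.Lib.Helper9.OELeaf

open Cfsg Cfsg.Geo Matrix Module QuadraticMap
open scoped Kronecker
open Cfsg.Agent.Lib.Helper9.SpMLeaf Cfsg.Agent.Lib.Helper27.SpM
open Cfsg.Agent.Lib.Helper5 Cfsg.Agent.Lib.Helper5.TensorGen
open Cfsg.Agent.Lib.Helper27.AschO4

section regroup
variable {F : Type*} [Field F]

/-- `1 ⊗ B` as an element of `GL` -/
def kronOneG (n₁ : ℕ) {n₂ : ℕ} (B : GL (Fin n₂) F) : GL (Fin n₁ × Fin n₂) F :=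
  ⟨(1 : Matrix (Fin n₁) (Fin n₁) F) ⊗ₖ (B : Matrix (Fin n₂) (Fin n₂) F),
    (1 : Matrix (Fin n₁) (Fin n₁) F) ⊗ₖ ((B⁻¹ : GL (Fin n₂) F) : Matrix (Fin n₂) (Fin n₂) F),
    by rw [← Matrix.mul_kronecker_mul, one_mul, ← Units.val_mul, mul_inv_cancel, Units.val_one,
      Matrix.one_kronecker_one],
    by rw [← Matrix.mul_kronecker_mul, one_mul, ← Units.val_mul, inv_mul_cancel, Units.val_one,
      Matrix.one_kronecker_one]⟩

lemma kronOneG_val (n₁ : ℕ) {n₂ : ℕ} (B : GL (Fin n₂) F) :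
    ((kronOneG n₁ B : GL (Fin n₁ × Fin n₂) F) : Matrix (Fin n₁ × Fin n₂) (Fin n₁ × Fin n₂) F) =
      (1 : Matrix (Fin n₁) (Fin n₁) F) ⊗ₖ (B : Matrix (Fin n₂) (Fin n₂) F) := rfl

lemma kronOneG_inv_val (n₁ : ℕ) {n₂ : ℕ} (B : GL (Fin n₂) F) :
    (((kronOneG n₁ B)⁻¹ : GL (Fin n₁ × Fin n₂) F) : Matrix (Fin n₁ × Fin n₂) (Fin n₁ × Fin n₂) F) =
      (1 : Matrix (Fin n₁) (Fin n₁) F) ⊗ₖ ((B⁻¹ : GL (Fin n₂) F) : Matrix (Fin n₂) (Fin n₂) F) := rfl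

/-- `a ⊗ b` as an element of `GL` -/
def kronG {n₁ n₂ : ℕ} (a : GL (Fin n₁) F) (b : GL (Fin n₂) F) : GL (Fin n₁ × Fin n₂) F :=
  ⟨(a : Matrix (Fin n₁) (Fin n₁) F) ⊗ₖ (b : Matrix (Fin n₂) (Fin n₂) F),
    ((a⁻¹ : GL (Fin n₁) F) : Matrix (Fin n₁) (Fin n₁) F) ⊗ₖ ((b⁻¹ : GL (Fin n₂) F) : Matrix (Fin n₂) (Fin n₂) F),
    by rw [← Matrix.mul_kronecker_mul, ← Units.val_mul, ← Units.val_mul, mul_inv_cancel, mul_inv_cancel,
      Units.val_one, Units.val_one, Matrix.one_kronecker_one],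
    by rw [← Matrix.mul_kronecker_mul, ← Units.val_mul, ← Units.val_mul, inv_mul_cancel, inv_mul_cancel,
      Units.val_one, Units.val_one, Matrix.one_kronecker_one]⟩

lemma kronG_val {n₁ n₂ : ℕ} (a : GL (Fin n₁) F) (b : GL (Fin n₂) F) :
    ((kronG a b : GL (Fin n₁ × Fin n₂) F) : Matrix (Fin n₁ × Fin n₂) (Fin n₁ × Fin n₂) F) =
      (a : Matrix (Fin n₁) (Fin n₁) F) ⊗ₖ (b : Matrix (Fin n₂) (Fin n₂) F) := rfl

/-- `Fin 3 × Fin 2 ≃ Fin 6` -/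
def phi6 : Fin 3 × Fin 2 ≃ Fin 6 := (finProdFinEquiv : Fin 3 × Fin 2 ≃ Fin (3 * 2))

/-- the regrouping `F³ ⊗ (F² ⊗ F²) = F² ⊗ (F³ ⊗ F²)` (the last factor goes first) -/
def rho6 (ε : Fin 4 ≃ Fin 2 × Fin 2) : Fin 3 × Fin 4 ≃ Fin 2 × Fin 6 where
  toFun p := ((ε p.2).2, phi6 (p.1, (ε p.2).1))
  invFun a := ((phi6.symm a.2).1, ε.symm ((phi6.symm a.2).2, a.1))
  left_inv p := by simp
  right_inv a := by simp

lemma rho6_apply (ε : Fin 4 ≃ Fin 2 × Fin 2) (p : Fin 3 × Fin 4) :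
    rho6 ε p = ((ε p.2).2, phi6 (p.1, (ε p.2).1)) := rfl

lemma rho6_symm_apply (ε : Fin 4 ≃ Fin 2 × Fin 2) (a : Fin 2 × Fin 6) :
    (rho6 ε).symm a = ((phi6.symm a.2).1, ε.symm ((phi6.symm a.2).2, a.1)) := rfl

/-- pure tensors `z ⊗ (u ⊗ w)` of `F² ⊗ F⁶` -/
def pt6 (z : Fin 2 → F) (u : Fin 3 → F) (w : Fin 2 → F) : Fin 2 × Fin 6 → F :=
  pt z ((pt u w : Fin 3 × Fin 2 → F) ∘ phi6.symm)

lemma pt6_comp_rho6 (ε : Fin 4 ≃ Fin 2 × Fin 2) (z : Fin 2 → F) (u : Fin 3 → F) (w : Fin 2 → F) :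
    pt6 z u w ∘ rho6 ε = pt u (op w z ∘ ε) := by
  ext ⟨i, m⟩
  simp only [pt6, pt, op, Function.comp_apply, rho6_apply, Equiv.symm_apply_apply]
  ring

variable {ι : Type} [Fintype ι] [DecidableEq ι]

/-- the new base change `P' = P (1 ⊗ B)` -/
def P4 (e : ι ≃ Fin 3 × Fin 4) (P : GL ι F) (B : GL (Fin 4) F) : GL ι F :=
  P * (glReindex (F := F) e.symm) (kronOneG 3 B)

lemma P4_val (e : ι ≃ Fin 3 × Fin 4) (P : GL ι F) (B : GL (Fin 4) F) :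
    ((P4 e P B : GL ι F) : Matrix ι ι F) = (P : Matrix ι ι F) *
      (((1 : Matrix (Fin 3) (Fin 3) F) ⊗ₖ (B : Matrix (Fin 4) (Fin 4) F)).submatrix e e) := rfl

lemma P4_mulVec (e : ι ≃ Fin 3 × Fin 4) (P : GL ι F) (B : GL (Fin 4) F) (ε : Fin 4 ≃ Fin 2 × Fin 2)
    (x : Fin 2 × Fin 6 → F) :
    ((P4 e P B : GL ι F) : Matrix ι ι F) *ᵥ (x ∘ (e.trans (rho6 ε))) =
      (P : Matrix ι ι F) *ᵥ ((((1 : Matrix (Fin 3) (Fin 3) F) ⊗ₖ (B : Matrix (Fin 4) (Fin 4) F)) *ᵥ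
        (x ∘ rho6 ε)) ∘ e) := by
  rw [P4_val, ← Matrix.mulVec_mulVec]
  congr 1
  have : x ∘ (e.trans (rho6 ε)) = (x ∘ rho6 ε) ∘ e := rfl
  rw [this, Matrix.submatrix_mulVec_equiv, Function.comp_assoc, Equiv.self_comp_symm, Function.comp_id]

lemma P4_mulVec_pt6 (e : ι ≃ Fin 3 × Fin 4) (P : GL ι F) (B : GL (Fin 4) F) (ε : Fin 4 ≃ Fin 2 × Fin 2)
    (z : Fin 2 → F) (u : Fin 3 → F) (w : Fin 2 → F) :
    ((P4 e P B : GL ι F) : Matrix ι ι F) *ᵥ (pt6 z u w ∘ (e.trans (rho6 ε))) =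
      tau e P u ((B : Matrix (Fin 4) (Fin 4) F) *ᵥ (op w z ∘ ε)) := by
  rw [P4_mulVec, pt6_comp_rho6, kron_mulVec_pt, Matrix.one_mulVec]
  rfl

/-- the form on the new pure tensors -/
lemma form_P4_pt6 (e : ι ≃ Fin 3 × Fin 4) (P : GL ι F) (f : (ι → F) → (ι → F) → F)
    {f₁ : (Fin 3 → F) → (Fin 3 → F) → F} {f₂ : (Fin 4 → F) → (Fin 4 → F) → F}
    (hf₁ : IsBilinearForm f₁) (hf₂ : IsBilinearForm f₂) (c₀ : F)
    (hT : ∀ x y : Fin 3 × Fin 4 → F,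
      f ((P : Matrix ι ι F) *ᵥ (x ∘ e)) ((P : Matrix ι ι F) *ᵥ (y ∘ e)) =
        c₀ * formOfGram id (gramMatrix f₁ ⊗ₖ gramMatrix f₂) x y)
    (ε : Fin 4 ≃ Fin 2 × Fin 2) (B : GL (Fin 4) F)
    (hB : ∀ x y : Fin 2 × Fin 2 → F,
      f₂ ((B : Matrix (Fin 4) (Fin 4) F) *ᵥ (x ∘ ε)) ((B : Matrix (Fin 4) (Fin 4) F) *ᵥ (y ∘ ε)) = detForm F x y)
    (z z' : Fin 2 → F) (u u' : Fin 3 → F) (w w' : Fin 2 → F) :
    f (((P4 e P B : GL ι F) : Matrix ι ι F) *ᵥ (pt6 z u w ∘ (e.trans (rho6 ε))))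
      (((P4 e P B : GL ι F) : Matrix ι ι F) *ᵥ (pt6 z' u' w' ∘ (e.trans (rho6 ε)))) =
      c₀ * (f₁ u u' * (om w w' * om z z')) := by
  rw [P4_mulVec_pt6, P4_mulVec_pt6, form_tau e P f f₁ hf₁ f₂ hf₂ c₀ hT, hB, detForm_op]

end regroup

section forms
variable {F : Type*} [Field F]

/-- the Gram matrix of the standard symplectic plane -/
def J2 : Matrix (Fin 2) (Fin 2) F := !![0, 1; -1, 0]

lemma J2_transpose : (J2 : Matrix (Fin 2) (Fin 2) F)ᵀ = -J2 := by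
  ext i j
  fin_cases i <;> fin_cases j <;> simp [J2]

lemma J2_diag (i : Fin 2) : (J2 : Matrix (Fin 2) (Fin 2) F) i i = 0 := by
  fin_cases i <;> simp [J2]

lemma J2_det : (J2 : Matrix (Fin 2) (Fin 2) F).det = 1 := by
  simp [J2, Matrix.det_fin_two]

lemma om_single (j j' : Fin 2) : om (Pi.single j (1 : F)) (Pi.single j' 1) = (J2 : Matrix (Fin 2) (Fin 2) F) j j' := by
  fin_cases j <;> fin_cases j' <;> simp [om, J2]

lemma bf_J2 (z z' : Fin 2 → F) : bf (J2 : Matrix (Fin 2) (Fin 2) F) z z' = om z z' := by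
  simp [bf, om, J2, dotProduct, Matrix.mulVec, Fin.sum_univ_two]
  ring

lemma symp_J2 : IsSymplecticForm (bf (J2 : Matrix (Fin 2) (Fin 2) F)) :=
  symp_of_alt J2 (bf_alt J2 J2_transpose J2_diag) (by rw [J2_det]; exact one_ne_zero)

lemma gramMatrix_bf9 {κ : Type} [Fintype κ] [DecidableEq κ] (G : Matrix κ κ F) : gramMatrix (bf G) = G := by
  ext a b
  simp [gramMatrix, bf]

/-- the Gram matrix of `f₁ ⊗ ω` on `F⁶` -/
def M6 (G₁ : Matrix (Fin 3) (Fin 3) F) : Matrix (Fin 6) (Fin 6) F :=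
  (G₁ ⊗ₖ (J2 : Matrix (Fin 2) (Fin 2) F)).submatrix phi6.symm phi6.symm

lemma M6_apply (G₁ : Matrix (Fin 3) (Fin 3) F) (s s' : Fin 6) :
    M6 G₁ s s' = G₁ (phi6.symm s).1 (phi6.symm s').1 * (J2 : Matrix (Fin 2) (Fin 2) F) (phi6.symm s).2 (phi6.symm s').2 := rfl

lemma det_gram_ne_zero9 {κ : Type} [Fintype κ] [DecidableEq κ] {f : (κ → F) → (κ → F) → F}
    (hf : IsBilinearForm f) (hnd : IsNondegenerateForm f) : (gramMatrix f).det ≠ 0 := by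
  intro hdet
  obtain ⟨v, hv, hGv⟩ := Matrix.exists_mulVec_eq_zero_iff.2 hdet
  obtain ⟨⟨x, hx⟩, -⟩ := hnd v hv
  apply hx
  rw [bf_eq_formOfGram f hf x v]
  unfold formOfGram
  apply Finset.sum_eq_zero
  intro a _
  have h1 : ∑ b, x a * gramMatrix f a b * id (v b) = x a * (gramMatrix f *ᵥ v) a := by
    simp only [Matrix.mulVec, dotProduct, Finset.mul_sum, id, mul_assoc]
  rw [h1, hGv]
  simp

lemma symp_M6 {f₁ : (Fin 3 → F) → (Fin 3 → F) → F} (hf₁ : IsSymmetricForm f₁) :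
    IsSymplecticForm (bf (M6 (gramMatrix f₁))) := by
  have hG : (gramMatrix f₁)ᵀ = gramMatrix f₁ := by
    ext i j
    exact hf₁.symm _ _
  apply symp_of_alt
  · apply bf_alt
    · ext s s'
      rw [Matrix.transpose_apply, Matrix.neg_apply, M6_apply, M6_apply]
      have h1 := congrFun (congrFun hG (phi6.symm s).1) (phi6.symm s').1
      have h2 := congrFun (congrFun (J2_transpose (F := F)) (phi6.symm s).2) (phi6.symm s').2
      rw [Matrix.transpose_apply] at h1 h2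
      rw [h1, h2, Matrix.neg_apply]
      ring
    · intro s
      rw [M6_apply, J2_diag, mul_zero]
  · unfold M6
    rw [Matrix.det_submatrix_equiv_self, Matrix.det_kronecker, J2_det, one_pow, mul_one]
    exact pow_ne_zero _ (det_gram_ne_zero9 hf₁.bilinear hf₁.nondegenerate)

lemma single_eq_pt6 (a : Fin 2 × Fin 6) :
    (Pi.single a (1 : F) : Fin 2 × Fin 6 → F) =
      pt6 (Pi.single a.1 1) (Pi.single (phi6.symm a.2).1 1) (Pi.single (phi6.symm a.2).2 1) := by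
  ext ⟨k, s⟩
  obtain ⟨k₀, s₀⟩ := a
  simp only [pt6, pt, Function.comp_apply, Pi.single_apply, Prod.mk.injEq]
  by_cases h1 : k = k₀
  · by_cases h2 : s = s₀
    · subst h1; subst h2; simp
    · have : ¬ ((phi6.symm s).1 = (phi6.symm s₀).1 ∧ (phi6.symm s).2 = (phi6.symm s₀).2) := by
        rintro ⟨h3, h4⟩
        exact h2 (phi6.symm.injective (Prod.ext h3 h4))
      rw [if_neg (fun h => h2 h.2)]
      by_cases h3 : (phi6.symm s).1 = (phi6.symm s₀).1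
      · have h4 : ¬ (phi6.symm s).2 = (phi6.symm s₀).2 := fun h4 => this ⟨h3, h4⟩
        simp [h4]
      · simp [h3]
  · simp [h1]

end forms

section structure9
variable {F : Type*} [Field F] {ι : Type} [Fintype ι] [DecidableEq ι]

/-- the regrouped tensor form structure `ω ⊗ (f₁ ⊗ ω)` -/
lemma isTensorForm_P4 (e : ι ≃ Fin 3 × Fin 4) (P : GL ι F) (f : (ι → F) → (ι → F) → F) (hf : IsBilinearForm f)
    {f₁ : (Fin 3 → F) → (Fin 3 → F) → F} {f₂ : (Fin 4 → F) → (Fin 4 → F) → F}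
    (hf₁ : IsBilinearForm f₁) (hf₂ : IsBilinearForm f₂) (c₀ : F) (hc₀ : c₀ ≠ 0)
    (hT : ∀ x y : Fin 3 × Fin 4 → F,
      f ((P : Matrix ι ι F) *ᵥ (x ∘ e)) ((P : Matrix ι ι F) *ᵥ (y ∘ e)) =
        c₀ * formOfGram id (gramMatrix f₁ ⊗ₖ gramMatrix f₂) x y)
    (ε : Fin 4 ≃ Fin 2 × Fin 2) (B : GL (Fin 4) F)
    (hB : ∀ x y : Fin 2 × Fin 2 → F,
      f₂ ((B : Matrix (Fin 4) (Fin 4) F) *ᵥ (x ∘ ε)) ((B : Matrix (Fin 4) (Fin 4) F) *ᵥ (y ∘ ε)) = detForm F x y) :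
    ∀ x y : Fin 2 × Fin 6 → F,
      f (((P4 e P B : GL ι F) : Matrix ι ι F) *ᵥ (x ∘ (e.trans (rho6 ε))))
        (((P4 e P B : GL ι F) : Matrix ι ι F) *ᵥ (y ∘ (e.trans (rho6 ε)))) =
      c₀ * formOfGram id (gramMatrix (bf (J2 : Matrix (Fin 2) (Fin 2) F)) ⊗ₖ
        gramMatrix (bf (M6 (gramMatrix f₁)))) x y := by
  set Φ : (Fin 2 × Fin 6 → F) → (Fin 2 × Fin 6 → F) → F := fun x y =>
    f (((P4 e P B : GL ι F) : Matrix ι ι F) *ᵥ (x ∘ (e.trans (rho6 ε))))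
      (((P4 e P B : GL ι F) : Matrix ι ι F) *ᵥ (y ∘ (e.trans (rho6 ε)))) with hΦ
  have hbil : IsBilinearForm Φ := by
    refine ⟨?_, ?_, ?_, ?_⟩
    · intro x y v
      have : (x + y) ∘ (e.trans (rho6 ε)) = x ∘ (e.trans (rho6 ε)) + y ∘ (e.trans (rho6 ε)) := rfl
      simp only [hΦ]
      rw [this, Matrix.mulVec_add, hf.add_left]
    · intro c x v
      have : (c • x) ∘ (e.trans (rho6 ε)) = c • (x ∘ (e.trans (rho6 ε))) := rfl
      simp only [hΦ]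
      rw [this, Matrix.mulVec_smul, hf.smul_left]
    · intro v x y
      have : (x + y) ∘ (e.trans (rho6 ε)) = x ∘ (e.trans (rho6 ε)) + y ∘ (e.trans (rho6 ε)) := rfl
      simp only [hΦ]
      rw [this, Matrix.mulVec_add, hf.add_right]
    · intro c v x
      have : (c • x) ∘ (e.trans (rho6 ε)) = c • (x ∘ (e.trans (rho6 ε))) := rfl
      simp only [hΦ]
      rw [this, Matrix.mulVec_smul, hf.smul_right]
  intro x y
  change Φ x y = _
  rw [bf_eq_formOfGram Φ hbil x y]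
  unfold formOfGram
  rw [Finset.mul_sum]
  apply Finset.sum_congr rfl; intro a _
  rw [Finset.mul_sum]
  apply Finset.sum_congr rfl; intro b _
  have hG : gramMatrix Φ a b = c₀ * (gramMatrix (bf (J2 : Matrix (Fin 2) (Fin 2) F)) ⊗ₖ
      gramMatrix (bf (M6 (gramMatrix f₁)))) a b := by
    rw [gramMatrix_bf9, gramMatrix_bf9, Matrix.kroneckerMap_apply, M6_apply]
    unfold gramMatrix
    simp only [hΦ]
    rw [single_eq_pt6 a, single_eq_pt6 b, form_P4_pt6 e P f hf₁ hf₂ c₀ hT ε B hB, om_single, om_single]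
    ring
  rw [hG]
  ring

end structure9

section simil
variable {F : Type*} [Field F] {ι : Type} [Fintype ι] [DecidableEq ι]

/-- both factors of an element `a ⊗ b` of the tensor product stabiliser preserving `f` are similitudes, with inverse multipliers -/
lemma simil_pair {n₁ n₂ : ℕ} (e : ι ≃ Fin n₁ × Fin n₂) (P : GL ι F) (f : (ι → F) → (ι → F) → F)
    {f₁ : (Fin n₁ → F) → (Fin n₁ → F) → F} {f₂ : (Fin n₂ → F) → (Fin n₂ → F) → F}
    (hf₁ : IsBilinearForm f₁) (hf₂ : IsBilinearForm f₂)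
    (hne₁ : ∃ u u', f₁ u u' ≠ 0) (hne₂ : ∃ v v', f₂ v v' ≠ 0) (c₀ : F) (hc₀ : c₀ ≠ 0)
    (hT : ∀ x y : Fin n₁ × Fin n₂ → F,
      f ((P : Matrix ι ι F) *ᵥ (x ∘ e)) ((P : Matrix ι ι F) *ᵥ (y ∘ e)) =
        c₀ * formOfGram id (gramMatrix f₁ ⊗ₖ gramMatrix f₂) x y)
    (k : GL (Fin n₁ × Fin n₂) F) (a : GL (Fin n₁) F) (b : GL (Fin n₂) F)
    (hk : (k : Matrix _ _ F) = (a : Matrix (Fin n₁) (Fin n₁) F) ⊗ₖ (b : Matrix (Fin n₂) (Fin n₂) F))
    (hsp : ∀ u v, f (((cjr e P k : GL ι F) : Matrix ι ι F) *ᵥ u) (((cjr e P k : GL ι F) : Matrix ι ι F) *ᵥ v) = f u v) :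
    ∃ μ : F, μ ≠ 0 ∧
      (∀ v v' : Fin n₂ → F, f₂ ((b : Matrix (Fin n₂) (Fin n₂) F) *ᵥ v) ((b : Matrix (Fin n₂) (Fin n₂) F) *ᵥ v') =
        μ * f₂ v v') ∧
      (∀ u u' : Fin n₁ → F, f₁ ((a : Matrix (Fin n₁) (Fin n₁) F) *ᵥ u) ((a : Matrix (Fin n₁) (Fin n₁) F) *ᵥ u') =
        μ⁻¹ * f₁ u u') := by
  have hact : ∀ u v, ((cjr e P k : GL _ F) : Matrix _ _ F) *ᵥ tau e P u v =
      tau e P ((a : Matrix (Fin n₁) (Fin n₁) F) *ᵥ u) ((b : Matrix (Fin n₂) (Fin n₂) F) *ᵥ v) := by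
    intro u v
    unfold tau
    rw [cjr_mulVec, hk, kron_mulVec_pt]
  have hform := form_tau e P f f₁ hf₁ f₂ hf₂ c₀ hT
  have key : ∀ u u' v v', f₁ ((a : Matrix (Fin n₁) (Fin n₁) F) *ᵥ u) ((a : Matrix (Fin n₁) (Fin n₁) F) *ᵥ u') *
      f₂ ((b : Matrix (Fin n₂) (Fin n₂) F) *ᵥ v) ((b : Matrix (Fin n₂) (Fin n₂) F) *ᵥ v') =
      f₁ u u' * f₂ v v' := by
    intro u u' v v'
    apply mul_left_cancel₀ hc₀
    rw [← hform, ← hform, ← hact, ← hact]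
    exact hsp _ _
  obtain ⟨u₀, u₀', hu₀⟩ := hne₁
  obtain ⟨v₀, v₀', hv₀⟩ := hne₂
  set c₁ := f₁ u₀ u₀' with hc₁
  set c₂ := f₂ v₀ v₀' with hc₂
  set d₁ := f₁ ((a : Matrix (Fin n₁) (Fin n₁) F) *ᵥ u₀) ((a : Matrix (Fin n₁) (Fin n₁) F) *ᵥ u₀') with hd₁
  set d₂ := f₂ ((b : Matrix (Fin n₂) (Fin n₂) F) *ᵥ v₀) ((b : Matrix (Fin n₂) (Fin n₂) F) *ᵥ v₀') with hd₂
  have h0 : d₁ * d₂ = c₁ * c₂ := key u₀ u₀' v₀ v₀'
  have hd₁0 : d₁ ≠ 0 := by
    intro h; rw [h, zero_mul] at h0; exact (mul_ne_zero hu₀ hv₀) h0.symm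
  have hd₂0 : d₂ ≠ 0 := by
    intro h; rw [h, mul_zero] at h0; exact (mul_ne_zero hu₀ hv₀) h0.symm
  refine ⟨c₁ / d₁, div_ne_zero hu₀ hd₁0, fun v v' => ?_, fun u u' => ?_⟩
  · have h1 := key u₀ u₀' v v'
    rw [← hd₁, ← hc₁] at h1
    field_simp
    linear_combination h1
  · have h1 := key u u' v₀ v₀'
    rw [← hd₂, ← hc₂] at h1
    rw [inv_div]
    set X := f₁ ((a : Matrix (Fin n₁) (Fin n₁) F) *ᵥ u) ((a : Matrix (Fin n₁) (Fin n₁) F) *ᵥ u') with hX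
    have h2 : (X * c₁ - d₁ * f₁ u u') * c₂ = 0 := by linear_combination (-X) * h0 + d₁ * h1
    have h3 : X * c₁ - d₁ * f₁ u u' = 0 := (mul_eq_zero.1 h2).resolve_right hv₀
    field_simp
    linear_combination h3

lemma formOfGram_eq_bf {κ : Type} [Fintype κ] [DecidableEq κ] (G : Matrix κ κ F) (u v : κ → F) :
    formOfGram id G u v = bf G u v := by
  unfold formOfGram bf
  simp only [Matrix.mulVec, dotProduct, Finset.mul_sum, id, mul_assoc]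

/-- a similitude of a non-degenerate bilinear form: `det² = λ^n` -/
lemma det_sq_of_simil {n : ℕ} {f₁ : (Fin n → F) → (Fin n → F) → F} (hf₁ : IsBilinearForm f₁)
    (hnd : IsNondegenerateForm f₁) (a : GL (Fin n) F) (lam : F)
    (ha : ∀ u u' : Fin n → F, f₁ ((a : Matrix (Fin n) (Fin n) F) *ᵥ u) ((a : Matrix (Fin n) (Fin n) F) *ᵥ u') =
      lam * f₁ u u') :
    (a : Matrix (Fin n) (Fin n) F).det ^ 2 = lam ^ n := by
  set G := gramMatrix f₁ with hG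
  have hfG : ∀ u v, f₁ u v = bf G u v := fun u v => by
    rw [bf_eq_formOfGram f₁ hf₁ u v, formOfGram_eq_bf]
  have hmat : (a : Matrix (Fin n) (Fin n) F)ᵀ * G * (a : Matrix (Fin n) (Fin n) F) = lam • G := by
    rw [← gramMatrix_bf9 ((a : Matrix (Fin n) (Fin n) F)ᵀ * G * (a : Matrix (Fin n) (Fin n) F)),
      ← gramMatrix_bf9 (lam • G)]
    ext i j
    unfold gramMatrix
    rw [bf_congr, ← hfG, ha, hfG]
    unfold bf
    rw [Matrix.smul_mulVec, dotProduct_smul, smul_eq_mul]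
  have hdet := congrArg Matrix.det hmat
  rw [Matrix.det_mul, Matrix.det_mul, Matrix.det_transpose, Matrix.det_smul, Fintype.card_fin] at hdet
  have hG0 : G.det ≠ 0 := det_gram_ne_zero9 hf₁ hnd
  apply mul_right_cancel₀ hG0
  linear_combination hdet

lemma det_swapMat :
    (Matrix.reindex (Equiv.refl _) (Equiv.prodComm (Fin 2) (Fin 2))
      (1 : Matrix (Fin 2 × Fin 2) (Fin 2 × Fin 2) F)).det = -1 := by
  have h1 : Matrix.reindex (Equiv.refl _) (Equiv.prodComm (Fin 2) (Fin 2))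
      (1 : Matrix (Fin 2 × Fin 2) (Fin 2 × Fin 2) F) =
      (1 : Matrix (Fin 2 × Fin 2) (Fin 2 × Fin 2) F).submatrix id
        (Equiv.prodComm (Fin 2) (Fin 2) : Equiv.Perm (Fin 2 × Fin 2)) := by
    ext r q
    rfl
  rw [h1, Matrix.det_permute', Matrix.det_one, mul_one]
  have : Equiv.Perm.sign (Equiv.prodComm (Fin 2) (Fin 2) : Equiv.Perm (Fin 2 × Fin 2)) = -1 := by decide
  rw [this]
  simp

end simil

section contain
variable {F : Type*} [Field F] [Fintype F] {ι : Type} [Fintype ι] [DecidableEq ι]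

lemma swapMat_mulVec_op (u v : Fin 2 → F) :
    (Matrix.reindex (Equiv.refl _) (Equiv.prodComm (Fin 2) (Fin 2))
      (1 : Matrix (Fin 2 × Fin 2) (Fin 2 × Fin 2) F)) *ᵥ op u v = op v u := by
  ext ⟨i, j⟩
  simp only [Matrix.mulVec, dotProduct]
  rw [Finset.sum_eq_single (j, i)]
  · rw [swapMat_apply, Prod.swap_prod_mk, Matrix.one_apply_eq, one_mul]
    simp only [op]
    ring
  · intro r _ hr
    have : (i, j) ≠ r.swap := by
      intro h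
      apply hr
      rw [← Prod.swap_swap r, ← h]
      rfl
    rw [swapMat_apply, Matrix.one_apply_ne this, zero_mul]
  · intro h; exact absurd (Finset.mem_univ _) h

lemma om_mulVec_basis (M : Matrix (Fin 2) (Fin 2) F) :
    om (M *ᵥ Pi.single 0 1) (M *ᵥ Pi.single 1 1) = M.det := by
  simp [om, Matrix.det_fin_two]
  ring

lemma exists_ne_zero_of_nondeg {n : ℕ} [NeZero n] {f : (Fin n → F) → (Fin n → F) → F} (hnd : IsNondegenerateForm f) :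
    ∃ u u', f u u' ≠ 0 := by
  have h0 : (Pi.single 0 1 : Fin n → F) ≠ 0 := by
    intro h'
    have := congrFun h' 0
    simp at this
  obtain ⟨-, x, hx⟩ := hnd _ h0
  exact ⟨_, x, hx⟩

lemma det_cjr {κ : Type} [Fintype κ] [DecidableEq κ] (e : ι ≃ κ) (P : GL ι F) (k : GL κ F) :
    ((cjr e P k : GL ι F) : Matrix ι ι F).det = (k : Matrix κ κ F).det := by
  rw [cjr_val, Matrix.det_mul, Matrix.det_mul, Matrix.det_submatrix_equiv_self, mul_right_comm, ← Matrix.det_mul,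
    ← Units.val_mul, mul_inv_cancel, Units.val_one, Matrix.det_one, one_mul]

/-- the main containment -/
lemma tp34_le_tp26 (h2 : (2 : F) ≠ 0) (e : ι ≃ Fin 3 × Fin 4) (P : GL ι F) (f : (ι → F) → (ι → F) → F)
    {f₁ : (Fin 3 → F) → (Fin 3 → F) → F} {f₂ : (Fin 4 → F) → (Fin 4 → F) → F}
    (hf₁ : IsSymmetricForm f₁) (hf₂ : IsSymmetricForm f₂) (c₀ : F) (hc₀ : c₀ ≠ 0)
    (hT : ∀ x y : Fin 3 × Fin 4 → F,
      f ((P : Matrix ι ι F) *ᵥ (x ∘ e)) ((P : Matrix ι ι F) *ᵥ (y ∘ e)) =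
        c₀ * formOfGram id (gramMatrix f₁ ⊗ₖ gramMatrix f₂) x y)
    (ε : Fin 4 ≃ Fin 2 × Fin 2) (B : GL (Fin 4) F)
    (hB : ∀ x y : Fin 2 × Fin 2 → F,
      f₂ ((B : Matrix (Fin 4) (Fin 4) F) *ᵥ (x ∘ ε)) ((B : Matrix (Fin 4) (Fin 4) F) *ᵥ (y ∘ ε)) = detForm F x y)
    (g : GL ι F) (hgT : g ∈ tensorProductSubgroup 3 4 e P)
    (hgf : ∀ u v, f ((g : Matrix ι ι F) *ᵥ u) ((g : Matrix ι ι F) *ᵥ v) = f u v)
    (hdet : (g : Matrix ι ι F).det = 1) :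
    g ∈ tensorProductSubgroup 2 6 (e.trans (rho6 ε)) (P4 e P B) := by
  rw [mem_tp_iff] at hgT
  obtain ⟨k, ⟨a, b, hk⟩, rfl⟩ := hgT
  obtain ⟨μ, hμ0, hμ, hlam⟩ := simil_pair e P f hf₁.bilinear hf₂.bilinear
    (exists_ne_zero_of_nondeg hf₁.nondegenerate) (exists_ne_zero_of_nondeg hf₂.nondegenerate) c₀ hc₀ hT k a b hk hgf
  set b'' : GL (Fin 2 × Fin 2) F := glReindex (F := F) ε (B⁻¹ * b * B) with hb''
  have hsim := detForm_simil ε B hB b μ hμ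
  obtain ⟨b₁, b₂, hb⟩ := detForm_similarity h2 b'' μ hsim
  have hb''val : (b'' : Matrix _ _ F) = ((B⁻¹ * b * B : GL (Fin 4) F) : Matrix (Fin 4) (Fin 4) F).submatrix ε.symm ε.symm := rfl
  rcases hb with hb | hb
  · -- the proper case
    set w : GL (Fin 2 × Fin 6) F := glReindex (F := F) (rho6 ε) ((kronOneG 3 B)⁻¹ * k * kronOneG 3 B) with hw
    have hgw : cjr e P k = cjr (e.trans (rho6 ε)) (P4 e P B) w := by
      apply eq_cjr_of_mulVec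
      intro x
      rw [P4_mulVec, cjr_mulVec, P4_mulVec]
      congr 2
      have h1 : (w : Matrix _ _ F) = (((kronOneG 3 B)⁻¹ * k * kronOneG 3 B : GL (Fin 3 × Fin 4) F) :
          Matrix _ _ F).submatrix (rho6 ε).symm (rho6 ε).symm := rfl
      rw [h1, Matrix.submatrix_mulVec_equiv, Equiv.symm_symm, Function.comp_assoc, Equiv.symm_comp_self,
        Function.comp_id, ← kronOneG_val, Matrix.mulVec_mulVec, Matrix.mulVec_mulVec, ← Units.val_mul,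
        ← Units.val_mul]
      congr 2
      group
    rw [mem_tp_iff]
    refine ⟨w, ⟨b₂, glReindex (F := F) phi6 (kronG a b₁), ?_⟩, hgw⟩
    ext ⟨k₁, s⟩ ⟨k₁', s'⟩
    have h1 : (w : Matrix _ _ F) (k₁, s) (k₁', s') = (((kronOneG 3 B)⁻¹ * k * kronOneG 3 B : GL (Fin 3 × Fin 4) F) :
        Matrix _ _ F) ((rho6 ε).symm (k₁, s)) ((rho6 ε).symm (k₁', s')) := rfl
    have h3 : (((kronOneG 3 B)⁻¹ * k * kronOneG 3 B : GL (Fin 3 × Fin 4) F) : Matrix _ _ F) =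
        (a : Matrix (Fin 3) (Fin 3) F) ⊗ₖ ((B⁻¹ * b * B : GL (Fin 4) F) : Matrix (Fin 4) (Fin 4) F) := by
      rw [Units.val_mul, Units.val_mul, kronOneG_inv_val, kronOneG_val, hk, ← Matrix.mul_kronecker_mul,
        ← Matrix.mul_kronecker_mul, one_mul, mul_one, Units.val_mul, Units.val_mul]
    have h4 : ((B⁻¹ * b * B : GL (Fin 4) F) : Matrix (Fin 4) (Fin 4) F) (ε.symm ((phi6.symm s).2, k₁))
        (ε.symm ((phi6.symm s').2, k₁')) = (b'' : Matrix _ _ F) ((phi6.symm s).2, k₁) ((phi6.symm s').2, k₁') := rfl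
    have h5 : ((glReindex (F := F) phi6 (kronG a b₁) : GL (Fin 6) F) : Matrix (Fin 6) (Fin 6) F) s s' =
        ((a : Matrix (Fin 3) (Fin 3) F) ⊗ₖ (b₁ : Matrix (Fin 2) (Fin 2) F)) (phi6.symm s) (phi6.symm s') := rfl
    rw [h1, h3, Matrix.kroneckerMap_apply, rho6_symm_apply, rho6_symm_apply, h4, hb, Matrix.kroneckerMap_apply,
      Matrix.kroneckerMap_apply, h5, Matrix.kroneckerMap_apply]
    ring
  · -- the improper case: determinant `-1`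
    exfalso
    have hdk : (k : Matrix (Fin 3 × Fin 4) (Fin 3 × Fin 4) F).det = (a : Matrix (Fin 3) (Fin 3) F).det ^ 4 * (b : Matrix (Fin 4) (Fin 4) F).det ^ 3 := by
      rw [hk, Matrix.det_kronecker, Fintype.card_fin, Fintype.card_fin]
    have hdb : (b'' : Matrix (Fin 2 × Fin 2) (Fin 2 × Fin 2) F).det = (b : Matrix (Fin 4) (Fin 4) F).det := by
      rw [hb''val, Matrix.det_submatrix_equiv_self, Units.val_mul, Units.val_mul, Matrix.det_mul, Matrix.det_mul,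
        mul_right_comm, ← Matrix.det_mul, ← Units.val_mul, inv_mul_cancel, Units.val_one, Matrix.det_one, one_mul]
    have hdb2 : (b'' : Matrix (Fin 2 × Fin 2) (Fin 2 × Fin 2) F).det =
        (b₁ : Matrix (Fin 2) (Fin 2) F).det ^ 2 * (b₂ : Matrix (Fin 2) (Fin 2) F).det ^ 2 * (-1) := by
      rw [hb, Matrix.det_mul, Matrix.det_kronecker, Fintype.card_fin, det_swapMat]
    have hμd : μ = (b₁ : Matrix (Fin 2) (Fin 2) F).det * (b₂ : Matrix (Fin 2) (Fin 2) F).det := by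
      have h1 := hsim (op (Pi.single 0 1) (Pi.single 0 1)) (op (Pi.single 1 1) (Pi.single 1 1))
      have hact : ∀ u v : Fin 2 → F, (b'' : Matrix _ _ F) *ᵥ op u v =
          op ((b₁ : Matrix (Fin 2) (Fin 2) F) *ᵥ v) ((b₂ : Matrix (Fin 2) (Fin 2) F) *ᵥ u) := by
        intro u v
        rw [hb, ← Matrix.mulVec_mulVec, swapMat_mulVec_op]
        exact kron_mulVec_pt _ _ v u
      rw [hact, hact, detForm_op, detForm_op, om_mulVec_basis, om_mulVec_basis] at h1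
      have h6 : om (Pi.single 0 (1 : F)) (Pi.single 1 1) = 1 := by simp [om]
      rw [h6, mul_one, mul_one] at h1
      exact h1.symm
    have hda : (a : Matrix (Fin 3) (Fin 3) F).det ^ 2 = μ⁻¹ ^ 3 :=
      det_sq_of_simil hf₁.bilinear hf₁.nondegenerate a μ⁻¹ hlam
    rw [det_cjr, hdk, ← hdb, hdb2, ← mul_pow, ← hμd] at hdet
    have h4 : (a : Matrix (Fin 3) (Fin 3) F).det ^ 4 = μ⁻¹ ^ 6 := by
      have : (a : Matrix (Fin 3) (Fin 3) F).det ^ 4 = ((a : Matrix (Fin 3) (Fin 3) F).det ^ 2) ^ 2 := by ring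
      rw [this, hda]; ring
    rw [h4] at hdet
    have h8 : μ⁻¹ ^ 6 * (μ ^ 2 * -1) ^ 3 = -1 := by
      have : μ⁻¹ ^ 6 * (μ ^ 2 * -1) ^ 3 = -((μ⁻¹ * μ) ^ 6) := by ring
      rw [this, inv_mul_cancel₀ hμ0]
      ring
    have h7 : (1 : F) = -1 := hdet.symm.trans h8
    apply h2
    linear_combination h7

end contain

section generic
variable {ι : Type} [Fintype ι] [DecidableEq ι] {F : Type*} [Field F] [Fintype F]
  (Q : QuadraticForm F (ι → F))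

lemma polar_bilinear9 : IsBilinearForm (polar ⇑Q) :=
  ⟨fun x y v => polar_add_left Q x y v, fun c x v => by rw [polar_smul_left, smul_eq_mul],
    fun v x y => polar_add_right Q v x y, fun c v x => by rw [polar_smul_right, smul_eq_mul]⟩

/-- R15 = (H2): `O_3 ⊗ O_4^+ ≤ Sp_2 ⊗ Sp_6` -/
theorem talt_of_tsym (hQ : (polarBilin Q).Nondegenerate) (h2 : (2 : F) ≠ 0)
    (e : ι ≃ Fin 3 × Fin 4) (P : GL ι F) (f₁ : (Fin 3 → F) → (Fin 3 → F) → F)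
    (f₂ : (Fin 4 → F) → (Fin 4 → F) → F) (hf₁ : IsSymmetricForm f₁) (hf₂ : IsSymmetricForm f₂)
    (hT : IsTensorFormStructure id (polar ⇑Q) f₁ f₂ e P)
    (hp : IsPlusTypeOn (fun v : Fin 4 → F => f₂ v v) ⊤) :
    ∃ (e' : ι ≃ Fin 2 × Fin 6) (P' : GL ι F) (g₁ : (Fin 2 → F) → (Fin 2 → F) → F)
      (g₂ : (Fin 6 → F) → (Fin 6 → F) → F), IsSymplecticForm g₁ ∧ IsSymplecticForm g₂ ∧
      IsTensorFormStructure id (polar ⇑Q) g₁ g₂ e' P' ∧
      (∀ (x₁ : Fin 2 → F) (x₂ : Fin 6 → F),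
        Q ((P' : Matrix ι ι F) *ᵥ ((fun a : Fin 2 × Fin 6 => x₁ a.1 * x₂ a.2) ∘ e')) = 0) ∧
      tensorProductSubgroup 3 4 e P ⊓ omegaGL ⇑Q ≤ tensorProductSubgroup 2 6 e' P' := by
  obtain ⟨c₀, hc₀, hT⟩ := hT
  obtain ⟨ε, B, hB⟩ := plus_normal_form h2 hf₂ hp
  have hpb := polar_bilinear9 Q
  have hten := isTensorForm_P4 e P (polar ⇑Q) hpb hf₁.bilinear hf₂.bilinear c₀ hc₀ hT ε B hB
  refine ⟨e.trans (rho6 ε), P4 e P B, bf J2, bf (M6 (gramMatrix f₁)), symp_J2, symp_M6 hf₁,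
    ⟨c₀, hc₀, hten⟩, ?_, ?_⟩
  · intro x₁ x₂
    have h1 := hten (pt x₁ x₂) (pt x₁ x₂)
    rw [formOfGram_pt _ (fun a b => rfl), ← bf_eq_formOfGram _ (symp_J2 (F := F)).bilinear,
      (symp_J2 (F := F)).alternating, zero_mul, mul_zero, polar_self] at h1
    have h3 : (2 : F) * Q (((P4 e P B : GL ι F) : Matrix ι ι F) *ᵥ (pt x₁ x₂ ∘ (e.trans (rho6 ε)))) = 0 := by
      rw [← h1, two_smul, two_mul]
    exact (mul_eq_zero.1 h3).resolve_left h2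
  · intro g hg
    obtain ⟨hgT, hgO⟩ := Subgroup.mem_inf.1 hg
    have hiso := Cfsg.Agent.Lib.Helper1.OmMLeaf.isometry_of_mem_omegaGL (⇑Q) hgO
    have hdet := Cfsg.Agent.Lib.Helper1.OmMLeaf.det_eq_one_of_mem_omegaGL (⇑Q) hgO
    have hdet' : (g : Matrix ι ι F).det = 1 := by
      have := congrArg (fun u : Fˣ => (u : F)) hdet
      simpa using this
    have hpol : ∀ u v, polar ⇑Q ((g : Matrix ι ι F) *ᵥ u) ((g : Matrix ι ι F) *ᵥ v) = polar ⇑Q u v := by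
      intro u v
      unfold polar
      rw [← Matrix.mulVec_add, hiso, hiso, hiso]
    exact tp34_le_tp26 h2 e P (polar ⇑Q) hf₁ hf₂ c₀ hc₀ hT ε B hB g hgT hpol hdet'

end generic

end Cfsg.Agent.Lib.Helper9.OELeaf
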