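import Mathlib
import Cfsg.Agent.Lib.Helper16.OOEndConDefs

/-!
# S2344 Part III leaf CB (planner helper16): the generic conjugation lemma for `ubarMat`.
-/

set_option autoImplicit false

namespace Cfsg.Agent.Lib.Helper9.OOEndCB

open Matrix Cfsg.Agent.Lib.Helper16.OOEnd Cfsg.Agent.Lib.Helper26.OOMin Cfsg.Agent.Lib.Helper27.OPMin

variable {F : Type*} [Field F] {m : ℕ}

/-- the polar form of `quadFormOdd` -/
def pol {n : ℕ} (u v : Ix n → F) : F :=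
  Cfsg.quadFormOdd n F (u + v) - Cfsg.quadFormOdd n F u - Cfsg.quadFormOdd n F v

theorem pol_eq {n : ℕ} (u v : Ix n → F) :
    pol u v = 2 * u (.inl ()) * v (.inl ()) +
      ∑ i : Fin n, (u (.inr (.inl i)) * v (.inr (.inr i)) + v (.inr (.inl i)) * u (.inr (.inr i))) := by
  unfold pol Cfsg.quadFormOdd
  simp only [Pi.add_apply]
  have h : ∀ i : Fin n, (u (.inr (.inl i)) + v (.inr (.inl i))) * (u (.inr (.inr i)) + v (.inr (.inr i))) =
      u (.inr (.inl i)) * u (.inr (.inr i)) + v (.inr (.inl i)) * v (.inr (.inr i)) +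
        (u (.inr (.inl i)) * v (.inr (.inr i)) + v (.inr (.inl i)) * u (.inr (.inr i))) := by
    intro i; ring
  simp_rw [h, Finset.sum_add_distrib]
  ring

theorem pol_smul_right {n : ℕ} (c : F) (u v : Ix n → F) : pol u (c • v) = c * pol u v := by
  rw [pol_eq, pol_eq, mul_add, Finset.mul_sum]
  congr 1
  · simp only [Pi.smul_apply, smul_eq_mul]; ring
  · apply Finset.sum_congr rfl
    intro i _
    simp only [Pi.smul_apply, smul_eq_mul]; ring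

theorem Q_smul {n : ℕ} (c : F) (v : Ix n → F) :
    Cfsg.quadFormOdd n F (c • v) = c ^ 2 * Cfsg.quadFormOdd n F v := by
  unfold Cfsg.quadFormOdd
  rw [mul_add, Finset.mul_sum]
  congr 1
  · simp only [Pi.smul_apply, smul_eq_mul]; ring
  · apply Finset.sum_congr rfl
    intro i _
    simp only [Pi.smul_apply, smul_eq_mul]; ring

theorem e0_dot (w : Ix (m + 1) → F) : e0 ⬝ᵥ w = pol w f0 := by
  rw [pol_eq, e0, single_dotProduct, one_mul]
  have h0 : (f0 : Ix (m + 1) → F) (.inl ()) = 0 := by simp [f0]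
  have h1 : ∀ i : Fin (m + 1), (f0 : Ix (m + 1) → F) (.inr (.inl i)) = 0 := by
    intro i; simp [f0]
  have h2 : ∀ i : Fin (m + 1), (f0 : Ix (m + 1) → F) (.inr (.inr i)) = if i = 0 then 1 else 0 := by
    intro i; simp [f0, Pi.single_apply]
  simp only [h0, h1, h2, mul_zero, zero_mul, zero_add, add_zero, mul_ite, mul_one,
    Finset.sum_ite_eq', Finset.mem_univ, if_true]

theorem hatJ_dot (z : Ix m → F) (w : Ix (m + 1) → F) : hatJ z ⬝ᵥ w = pol w (hat z) := by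
  rw [pol_eq]
  simp only [dotProduct, Fintype.sum_sum_type, hatJ, hat, Sum.elim_inl, Sum.elim_inr,
    Finset.univ_unique, Finset.sum_singleton, Finset.sum_add_distrib]
  have e1 : ∀ i : Fin (m + 1), (Fin.cons 0 (cy z) : Fin (m + 1) → F) i * w (.inr (.inl i)) =
      w (.inr (.inl i)) * (Fin.cons 0 (cy z) : Fin (m + 1) → F) i := fun i => mul_comm _ _
  simp_rw [e1]
  ring

theorem Q_hat (z : Ix m → F) : Cfsg.quadFormOdd (m + 1) F (hat z) = Qp z := by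
  unfold Qp Cfsg.quadFormOdd
  simp [hat, Fin.sum_univ_succ, c0, cx, cy]

/-- CA's formula, proved locally -/
theorem ubarMat_mulVec' (z : Ix m → F) (u : Ix (m + 1) → F) :
    ubarMat z *ᵥ u =
      u + (e0 ⬝ᵥ u) • hat z - (hatJ z ⬝ᵥ u) • f0 - (Qp z * (e0 ⬝ᵥ u)) • f0 := by
  unfold ubarMat
  rw [sub_mulVec, sub_mulVec, add_mulVec, one_mulVec, smul_mulVec, vecMulVec_mulVec,
    vecMulVec_mulVec, vecMulVec_mulVec]
  funext k
  simp only [Pi.add_apply, Pi.sub_apply, Pi.smul_apply, MulOpposite.smul_eq_mul_unop,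
    MulOpposite.unop_op, smul_eq_mul]
  ring

/-- LEAF CB -/
theorem conj_ubarMat (A : Matrix (Ix (m + 1)) (Ix (m + 1)) F)
    (hA : ∀ u, Cfsg.quadFormOdd (m + 1) F (A *ᵥ u) = Cfsg.quadFormOdd (m + 1) F u) (l : Fˣ)
    (he : A *ᵥ e0 = (l : F) • e0) (hf : A *ᵥ f0 = ((l⁻¹ : Fˣ) : F) • f0) (z z' : Ix m → F)
    (hz : A *ᵥ hat z = (l : F) • hat z') : A * ubarMat z = ubarMat z' * A := by
  have hB : ∀ u v, pol (A *ᵥ u) (A *ᵥ v) = pol u v := by
    intro u v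
    unfold pol
    rw [← Matrix.mulVec_add, hA, hA, hA]
  have hl : (l : F) ≠ 0 := l.ne_zero
  have hll : (l : F) * ((l⁻¹ : Fˣ) : F) = 1 := by
    rw [← Units.val_mul, mul_inv_cancel, Units.val_one]
  have hll' : ((l⁻¹ : Fˣ) : F) * (l : F) = 1 := by rw [mul_comm, hll]
  have h1 : ∀ u, e0 ⬝ᵥ (A *ᵥ u) = (l : F) * (e0 ⬝ᵥ u) := by
    intro u
    rw [e0_dot, e0_dot]
    have : (f0 : Ix (m + 1) → F) = (l : F) • (A *ᵥ f0) := by
      rw [hf, smul_smul, hll, one_smul]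
    conv_lhs => rw [this]
    rw [pol_smul_right, hB]
  have h2 : ∀ u, hatJ z' ⬝ᵥ (A *ᵥ u) = ((l⁻¹ : Fˣ) : F) * (hatJ z ⬝ᵥ u) := by
    intro u
    rw [hatJ_dot, hatJ_dot]
    have : hat z' = ((l⁻¹ : Fˣ) : F) • (A *ᵥ hat z) := by
      rw [hz, smul_smul, hll', one_smul]
    rw [this, pol_smul_right, hB]
  have h3 : Qp z = (l : F) ^ 2 * Qp z' := by
    rw [← Q_hat z, ← hA, hz, Q_smul, Q_hat]
  apply Matrix.mulVec_injective
  funext u
  rw [← Matrix.mulVec_mulVec, ← Matrix.mulVec_mulVec, ubarMat_mulVec', ubarMat_mulVec', h1, h2]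
  rw [Matrix.mulVec_sub, Matrix.mulVec_sub, Matrix.mulVec_add, Matrix.mulVec_smul,
    Matrix.mulVec_smul, Matrix.mulVec_smul, hz, hf, h3]
  simp only [smul_smul]
  have e1 : (l : F) ^ 2 * Qp z' * (e0 ⬝ᵥ u) * ((l⁻¹ : Fˣ) : F) =
      Qp z' * ((l : F) * (e0 ⬝ᵥ u)) := by
    have : (l : F) ^ 2 * ((l⁻¹ : Fˣ) : F) = (l : F) := by
      rw [pow_two, mul_assoc, hll, mul_one]
    calc (l : F) ^ 2 * Qp z' * (e0 ⬝ᵥ u) * ((l⁻¹ : Fˣ) : F)
        = ((l : F) ^ 2 * ((l⁻¹ : Fˣ) : F)) * Qp z' * (e0 ⬝ᵥ u) := by ring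
      _ = Qp z' * ((l : F) * (e0 ⬝ᵥ u)) := by rw [this]; ring
  rw [e1, mul_comm (e0 ⬝ᵥ u) (l : F), mul_comm (hatJ z ⬝ᵥ u) ((l⁻¹ : Fˣ) : F)]

end Cfsg.Agent.Lib.Helper9.OOEndCB
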