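import Mathlib
import Cfsg.Agent.Lib.Helper17.OSubDefs

/-!
helper9: S5659 leaf B5 (`exists_sing_sep`), core version with the leaves B1 (`exists_sing_perp`),
B2 (`exists_dual`), B3 (`exists_partner`) as hypotheses.  Plan: notes/S5659_plan.md (helper17).
-/

set_option autoImplicit false
set_option linter.unusedSectionVars false
set_option linter.unusedVariables false

namespace Cfsg.Agent.Lib.Helper9.OSubLeaf
open Cfsg Matrix Cfsg.Agent.Lib.Helper5.SpMax
  Cfsg.Agent.Lib.Helper5.UForm Cfsg.Agent.Lib.Helper5.HermBridge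
  Cfsg.Agent.Lib.Helper5.SUGen Cfsg.Agent.Lib.Helper5.SUMax Cfsg.Agent.Lib.Helper5.USub
  Cfsg.Agent.Lib.Helper17.OSub

variable {F : Type*} [Field F] [Fintype F] {q n : ℕ}

section Rat
variable {hF : Fintype.card F = q ^ 2} {F₀ : Subfield F} {P : GL (Fin n) F}
  (S : Setup hF F₀ P)
include S

/-- right scalar multiplication by a rational scalar -/
lemma form_smul_right_rat {s : F} (hs : s ∈ F₀) (x y : Fin n → F) :
    Cfsg.hermForm n F q x (s • y) = s * Cfsg.hermForm n F q x y := by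
  have hf := herm_unitary (n := n) hF
  rw [u_smul_right hf, (S.fix_iff s).mp hs]

lemma two_mem : (2 : F) ∈ F₀ := by
  have : ((2 : ℕ) : F) ∈ F₀ := natCast_mem F₀ 2
  exact_mod_cast this

/-- hyperbolic completion: for a hyperbolic rational pair `z₅, z₅'` and a rational `u` orthogonal to
both, `z := z₅' + u - (h u u / 2) z₅` is rational isotropic and `h x z = h x z₅' + h x u` for
`x ⊥ z₅`. -/
lemma hyp_completion {z₅ z₅' u : Fin n → F} (h5r : IsRat F₀ P z₅) (h5'r : IsRat F₀ P z₅')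
    (hur : IsRat F₀ P u) (h55 : Cfsg.hermForm n F q z₅ z₅ = 0)
    (h5'5' : Cfsg.hermForm n F q z₅' z₅' = 0) (h55' : Cfsg.hermForm n F q z₅ z₅' = 1)
    (hu5 : Cfsg.hermForm n F q u z₅ = 0) (hu5' : Cfsg.hermForm n F q u z₅' = 0) :
    IsRat F₀ P (z₅' + u - (2⁻¹ * Cfsg.hermForm n F q u u) • z₅) ∧
    Cfsg.hermForm n F q (z₅' + u - (2⁻¹ * Cfsg.hermForm n F q u u) • z₅)
      (z₅' + u - (2⁻¹ * Cfsg.hermForm n F q u u) • z₅) = 0 ∧
    ∀ x, Cfsg.hermForm n F q x z₅ = 0 →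
      Cfsg.hermForm n F q x (z₅' + u - (2⁻¹ * Cfsg.hermForm n F q u u) • z₅) =
        Cfsg.hermForm n F q x z₅' + Cfsg.hermForm n F q x u := by
  have hf := herm_unitary (n := n) hF
  have h2 : (2 : F) ≠ 0 := S.two_ne_zero
  have htF : 2⁻¹ * Cfsg.hermForm n F q u u ∈ F₀ :=
    F₀.mul_mem (F₀.inv_mem (two_mem S)) (S.form _ _ hur hur)
  set t := 2⁻¹ * Cfsg.hermForm n F q u u with ht
  have h5'5 : Cfsg.hermForm n F q z₅' z₅ = 1 := by rw [S.sym h5r h5'r]; exact h55'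
  have h5u : Cfsg.hermForm n F q z₅ u = 0 := by rw [S.sym hur h5r]; exact hu5
  have h5'u : Cfsg.hermForm n F q z₅' u = 0 := by rw [S.sym hur h5'r]; exact hu5'
  refine ⟨isRat_sub (isRat_add h5'r hur) (isRat_smul htF h5r), ?_, ?_⟩
  · simp only [u_sub_left hf, u_sub_right hf, hf.add_left, u_add_right hf, hf.smul_left,
      form_smul_right_rat S htF, h55, h5'5', h5'5, h55', hu5, hu5', h5u, h5'u]
    rw [ht]
    field_simp
    ring
  · intro x hx
    rw [u_sub_right hf, u_add_right hf, form_smul_right_rat S htF, hx, mul_zero, sub_zero]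

/-- LEAF B5, core version (B1, B2, B3 as hypotheses). -/
theorem exists_sing_sep_core
    (hB1 : ∀ y : Fin 5 → (Fin n → F),
      ∃ z, RS q F₀ P z ∧ ∀ i, Cfsg.hermForm n F q z (y i) = 0)
    (hB2 : ∀ {a b : Fin n → F}, IsRat F₀ P a → IsRat F₀ P b → Ind F₀ a b →
      ∃ p, IsRat F₀ P p ∧ Cfsg.hermForm n F q a p = 1 ∧ Cfsg.hermForm n F q b p = 0)
    (hB3 : ∀ {z : Fin n → F}, RS q F₀ P z →
      ∃ z', RS q F₀ P z' ∧ Cfsg.hermForm n F q z z' = 1)
    {a b : Fin n → F} (ha : IsRat F₀ P a) (hb : IsRat F₀ P b) (hind : Ind F₀ a b) :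
    ∃ z, RS q F₀ P z ∧ Cfsg.hermForm n F q b z = 0 ∧ Cfsg.hermForm n F q a z = 1 := by
  have hf := herm_unitary (n := n) hF
  have hind' : Ind F₀ b a := by
    intro s t hs ht hst
    have := hind t s ht hs (by rw [add_comm]; exact hst)
    exact ⟨this.2, this.1⟩
  obtain ⟨a', ha'r, haa', hba'⟩ := hB2 ha hb hind
  obtain ⟨b', hb'r, hbb', hab'⟩ := hB2 hb ha hind'
  obtain ⟨z₅, h5, hy⟩ := hB1 ![a, b, a', b', 0]
  have h5a : Cfsg.hermForm n F q z₅ a = 0 := by simpa using hy 0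
  have h5b : Cfsg.hermForm n F q z₅ b = 0 := by simpa using hy 1
  have h5a' : Cfsg.hermForm n F q z₅ a' = 0 := by simpa using hy 2
  have h5b' : Cfsg.hermForm n F q z₅ b' = 0 := by simpa using hy 3
  obtain ⟨h5r, h50, h55⟩ := h5
  obtain ⟨z₅', ⟨h5'r, h5'0, h5'5'⟩, h55'⟩ := hB3 ⟨h5r, h50, h55⟩
  have ha5 : Cfsg.hermForm n F q a z₅ = 0 := by rw [S.sym h5r ha]; exact h5a
  have hb5 : Cfsg.hermForm n F q b z₅ = 0 := by rw [S.sym h5r hb]; exact h5b
  have ha'5 : Cfsg.hermForm n F q a' z₅ = 0 := by rw [S.sym h5r ha'r]; exact h5a'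
  have hb'5 : Cfsg.hermForm n F q b' z₅ = 0 := by rw [S.sym h5r hb'r]; exact h5b'
  -- corrected dual vectors, orthogonal to z₅ and z₅'
  have hκaF : Cfsg.hermForm n F q a' z₅' ∈ F₀ := S.form _ _ ha'r h5'r
  have hκbF : Cfsg.hermForm n F q b' z₅' ∈ F₀ := S.form _ _ hb'r h5'r
  set a'' := a' - Cfsg.hermForm n F q a' z₅' • z₅ with ha''
  set b'' := b' - Cfsg.hermForm n F q b' z₅' • z₅ with hb''
  have ha''r : IsRat F₀ P a'' := isRat_sub ha'r (isRat_smul hκaF h5r)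
  have hb''r : IsRat F₀ P b'' := isRat_sub hb'r (isRat_smul hκbF h5r)
  have e1 : Cfsg.hermForm n F q a a'' = 1 := by
    rw [ha'', u_sub_right hf, form_smul_right_rat S hκaF, ha5, mul_zero, sub_zero, haa']
  have e2 : Cfsg.hermForm n F q b a'' = 0 := by
    rw [ha'', u_sub_right hf, form_smul_right_rat S hκaF, hb5, mul_zero, sub_zero, hba']
  have e3 : Cfsg.hermForm n F q a b'' = 0 := by
    rw [hb'', u_sub_right hf, form_smul_right_rat S hκbF, ha5, mul_zero, sub_zero, hab']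
  have e4 : Cfsg.hermForm n F q b b'' = 1 := by
    rw [hb'', u_sub_right hf, form_smul_right_rat S hκbF, hb5, mul_zero, sub_zero, hbb']
  have e5 : Cfsg.hermForm n F q a'' z₅ = 0 := by
    rw [ha'', u_sub_left hf, hf.smul_left, h55, mul_zero, sub_zero, ha'5]
  have e6 : Cfsg.hermForm n F q b'' z₅ = 0 := by
    rw [hb'', u_sub_left hf, hf.smul_left, h55, mul_zero, sub_zero, hb'5]
  have e7 : Cfsg.hermForm n F q a'' z₅' = 0 := by
    rw [ha'', u_sub_left hf, hf.smul_left, h55', mul_one, sub_self]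
  have e8 : Cfsg.hermForm n F q b'' z₅' = 0 := by
    rw [hb'', u_sub_left hf, hf.smul_left, h55', mul_one, sub_self]
  -- the vector u
  have hαF : Cfsg.hermForm n F q a z₅' ∈ F₀ := S.form _ _ ha h5'r
  have hβF : Cfsg.hermForm n F q b z₅' ∈ F₀ := S.form _ _ hb h5'r
  set α := Cfsg.hermForm n F q a z₅' with hα
  set β := Cfsg.hermForm n F q b z₅' with hβ
  have h1αF : 1 - α ∈ F₀ := F₀.sub_mem F₀.one_mem hαF
  have hnβF : -β ∈ F₀ := F₀.neg_mem hβF
  set u := (1 - α) • a'' + (-β) • b'' with hu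
  have hur : IsRat F₀ P u := isRat_add (isRat_smul h1αF ha''r) (isRat_smul hnβF hb''r)
  have hu5 : Cfsg.hermForm n F q u z₅ = 0 := by
    rw [hu, hf.add_left, hf.smul_left, hf.smul_left, e5, e6, mul_zero, mul_zero, add_zero]
  have hu5' : Cfsg.hermForm n F q u z₅' = 0 := by
    rw [hu, hf.add_left, hf.smul_left, hf.smul_left, e7, e8, mul_zero, mul_zero, add_zero]
  have hau : Cfsg.hermForm n F q a u = 1 - α := by
    rw [hu, u_add_right hf, form_smul_right_rat S h1αF, form_smul_right_rat S hnβF, e1, e3]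
    ring
  have hbu : Cfsg.hermForm n F q b u = -β := by
    rw [hu, u_add_right hf, form_smul_right_rat S h1αF, form_smul_right_rat S hnβF, e2, e4]
    ring
  obtain ⟨hzr, hzz, hzx⟩ := hyp_completion S h5r h5'r hur h55 h5'5' h55' hu5 hu5'
  refine ⟨_, ⟨hzr, ?_, hzz⟩, ?_, ?_⟩
  · intro h0
    have := hzx a ha5
    rw [h0, u_zero_right hf, hau, ← hα] at this
    have h1 : (0 : F) = 1 := by rw [this]; ring
    exact zero_ne_one h1
  · rw [hzx b hb5, hbu, ← hβ]; ring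
  · rw [hzx a ha5, hau, ← hα]; ring

end Rat

end Cfsg.Agent.Lib.Helper9.OSubLeaf
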