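import Mathlib
import Cfsg.Agent.Lib.Helper17.OSubDefs
import Cfsg.Agent.Lib.Helper15.QuadClass
import Cfsg.Agent.Lib.Helper24.OSubB1
import Cfsg.Agent.Lib.Helper6.OSubB
import Cfsg.Agent.Lib.Helper9.OSubB5core

/-!
helper9: S5659 leaf B5 (`exists_sing_sep`), exact signature of notes/S5659_leaves.lean, from the
core version plus the landed leaves B1 (helper24), B2, B3 (helper6).
-/

set_option autoImplicit false
set_option linter.unusedSectionVars false
set_option linter.unusedVariables false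

namespace Cfsg.Agent.Lib.Helper9.OSubLeaf
open Cfsg Matrix Cfsg.Agent.Lib.Helper5.SpMax
  Cfsg.Agent.Lib.Helper5.UForm Cfsg.Agent.Lib.Helper5.HermBridge
  Cfsg.Agent.Lib.Helper5.SUGen Cfsg.Agent.Lib.Helper5.SUMax Cfsg.Agent.Lib.Helper5.USub
  Cfsg.Agent.Lib.Helper17.OSub

variable {F : Type*} [Field F] [Fintype F] {q n : ℕ}

section Rat
variable {hF : Fintype.card F = q ^ 2} {F₀ : Subfield F} {P : GL (Fin n) F}
  (S : Setup hF F₀ P)
include S

/-- LEAF B5: a rational isotropic vector separating an independent rational pair. -/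
theorem exists_sing_sep (hn : 13 ≤ n) {a b : Fin n → F} (ha : IsRat F₀ P a)
    (hb : IsRat F₀ P b) (hind : Ind F₀ a b) :
    ∃ z, RS q F₀ P z ∧ Cfsg.hermForm n F q b z = 0 ∧ Cfsg.hermForm n F q a z = 1 :=
  exists_sing_sep_core S
    (fun y => Cfsg.Agent.Lib.Helper24.OSubLeaf.exists_sing_perp S hn y)
    (fun ha hb hind => Cfsg.Agent.Lib.Helper6.OSubLeaf.exists_dual S ha hb hind)
    (fun hz => Cfsg.Agent.Lib.Helper6.OSubLeaf.exists_partner S hz) ha hb hind

end Rat

end Cfsg.Agent.Lib.Helper9.OSubLeaf
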