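import Mathlib
import Cfsg.Agent.Lib.Helper25.OTLInst
import Cfsg.Agent.Lib.Helper9.OTLA4R1x
import Cfsg.Agent.Lib.Helper9.OTLA4Om

/-!
S5709, the SWAPPED case `a = 4`: the instance of the local context `LCtx4` for `Om := Ω(V) = OmV G1 G2`,
`G2` adapted to `(o, o', p, p')`, on top of helper25's `lbase_of_adp` and `siegel_mem_OmV`.
-/

set_option autoImplicit false
set_option linter.unusedSectionVars false
set_option linter.unusedVariables false

namespace Cfsg.Agent.Lib.Helper9.OTLA4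
open Matrix
open Cfsg.Agent.Lib.Helper25.Tens Cfsg.Agent.Lib.Helper19.OSub Cfsg.Agent.Lib.Helper2.SOT
open Cfsg.Agent.Lib.Helper25.OT Cfsg.Agent.Lib.Helper13
open Cfsg.Agent.Lib.Helper9.OTAlg (Minus4)

theorem lctx4_of_adp {F : Type*} [Field F] [Fintype F] {b : ℕ} {G1 : Matrix (Fin 4) (Fin 4) F}
    {G2 : Matrix (Fin b) (Fin b) F} {o o' p p' : Fin b} {M : Subgroup (GL (Idx 4 b) F)}
    (h : MCtx 4 b G1 G2 M) (hminus : Minus4 G1) (hadp : OTLA.Adp G2 o o' p p') :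
    LCtx4 G1 G2 o o' p p' (OmV G1 G2) M :=
  { toLBase := lbase_of_adp h hadp
    minus := hminus
    om_siegel := fun z u hzz hu => siegel_mem_OmV h.toCtx hzz hu }

/-- (R1) for `Om = Ω(V)` in the swapped case, in one step -/
theorem R1_swapped_OmV {F : Type*} [Field F] [Fintype F] {b : ℕ} {G1 : Matrix (Fin 4) (Fin 4) F}
    {G2 : Matrix (Fin b) (Fin b) F} {o o' p p' : Fin b} {M : Subgroup (GL (Idx 4 b) F)}
    (h : MCtx 4 b G1 G2 M) (hminus : Minus4 G1) (hadp : OTLA.Adp G2 o o' p p')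
    (hS : ¬ OTLA.ExitS G1 o o' p p' M) (hLw : ¬ ExitLw G1 o o' p p' M) : OTLA.R1P G1 o o' p p' M :=
  R1_swapped (lctx4_of_adp h hminus hadp) hS hLw

end Cfsg.Agent.Lib.Helper9.OTLA4
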