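import Mathlib
import Cfsg.Prelude.Def_GeometricClasses
import Cfsg.Agent.Lib.Helper9.OTAlg4c

/-!
S5709, the SWAPPED case: the frozen minus-type hypothesis `¬ IsPlusTypeOn Q ⊤` on `F^4` gives `Minus4 G`
(no totally singular plane).
-/

set_option autoImplicit false
set_option linter.unusedSectionVars false
set_option linter.unusedVariables false

namespace Cfsg.Agent.Lib.Helper9.OTLA4
open Matrix
open Cfsg.Agent.Lib.Helper2.SOT Cfsg.Agent.Lib.Helper1.SOTLALeaf
open Cfsg.Agent.Lib.Helper9.OTAlg (Minus4)

variable {F : Type*} [Field F]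

theorem minus4_of_not_plus {G : Matrix (Fin 4) (Fin 4) F} (hG : Gᵀ = G) {Q : (Fin 4 → F) → F}
    (hQ : ∀ v, Q v = fB G v v) (h : ¬ Cfsg.Geo.IsPlusTypeOn Q ⊤) : Minus4 G := by
  intro x y hxx hyy hxy hli
  apply h
  have hyx : fB G y x = 0 := by rw [fB_comm G hG]; exact hxy
  refine ⟨Submodule.span F (Set.range ![x, y]), le_top, ?_, ?_⟩
  · intro w hw
    rw [hQ]
    have hw' : w ∈ Submodule.span F {x, y} := by
      have e : Set.range ![x, y] = {x, y} := by
        ext v
        simp only [Set.mem_range, Set.mem_insert_iff, Set.mem_singleton_iff]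
        constructor
        · rintro ⟨i, rfl⟩
          fin_cases i
          · left; rfl
          · right; rfl
        · rintro (rfl | rfl)
          · exact ⟨0, rfl⟩
          · exact ⟨1, rfl⟩
      rwa [e] at hw
    obtain ⟨s, t, rfl⟩ := Submodule.mem_span_pair.mp hw'
    simp only [fB_add_left, fB_add_right, fB_smul_left, fB_smul_right, hxx, hyy, hxy, hyx, mul_zero,
      add_zero]
  · rw [finrank_span_eq_card hli, finrank_top, Module.finrank_fintype_fun_eq_card, Fintype.card_fin,
      Fintype.card_fin]

end Cfsg.Agent.Lib.Helper9.OTLA4
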