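/-
Helper9 library: structure of a cubic field subalgebra `K` of `M₃(F)` (`F` finite):
evaluation at a vector, the centraliser, eigenvectors of normalising elements, and the Frobenius
matrix (an element of order three of `SL₃(F)` normalising `K`, with a cyclic vector).
-/
import Mathlib
import Cfsg.Prelude.Def_GeometricClasses
import Cfsg.Agent.Lib.Helper9.FieldNorm
import Cfsg.Agent.Lib.Helper9.Ord3A

set_option autoImplicit false
set_option linter.unusedSectionVars false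
set_option linter.style.haveILetI false

namespace Cfsg.Agent.Lib.Helper9.Ord3B

open Matrix Polynomial

variable {F : Type*} [Field F] [Fintype F]
variable (K : Subalgebra F (Matrix (Fin 3) (Fin 3) F))

/-- evaluation of the subalgebra at a vector -/
def evalAt (v₀ : Fin 3 → F) : ↥K →ₗ[F] (Fin 3 → F) where
  toFun k := (k : Matrix (Fin 3) (Fin 3) F) *ᵥ v₀
  map_add' a b := by simp [Matrix.add_mulVec]
  map_smul' c a := by simp [Matrix.smul_mulVec]

@[simp] theorem evalAt_apply (v₀ : Fin 3 → F) (k : ↥K) :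
    evalAt K v₀ k = (k : Matrix (Fin 3) (Fin 3) F) *ᵥ v₀ := rfl

theorem evalAt_injective (hi : ∀ x ∈ K, x ≠ 0 → ∃ y ∈ K, x * y = 1) {v₀ : Fin 3 → F}
    (hv₀ : v₀ ≠ 0) : Function.Injective (evalAt K v₀) := by
  rw [← LinearMap.ker_eq_bot, LinearMap.ker_eq_bot']
  intro k hk
  by_contra hne
  obtain ⟨y, hy, hxy⟩ := hi k.1 k.2 (fun h => hne (Subtype.ext h))
  have hyx : y * k.1 = 1 := mul_eq_one_comm.mp hxy
  apply hv₀
  calc v₀ = (y * k.1) *ᵥ v₀ := by rw [hyx, Matrix.one_mulVec]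
    _ = y *ᵥ (k.1 *ᵥ v₀) := by rw [Matrix.mulVec_mulVec]
    _ = 0 := by rw [show k.1 *ᵥ v₀ = 0 from hk, Matrix.mulVec_zero]

theorem evalAt_surjective (hi : ∀ x ∈ K, x ≠ 0 → ∃ y ∈ K, x * y = 1)
    (hr : Module.finrank F K = 3) {v₀ : Fin 3 → F}
    (hv₀ : v₀ ≠ 0) : Function.Surjective (evalAt K v₀) := by
  have hfin : Module.finrank F ↥K = Module.finrank F (Fin 3 → F) := by
    rw [hr]; simp
  exact (LinearMap.injective_iff_surjective_of_finrank_eq_finrank hfin).mp (evalAt_injective K hi hv₀)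

/-- the evaluation as a linear equivalence -/
noncomputable def evalEquiv (hi : ∀ x ∈ K, x ≠ 0 → ∃ y ∈ K, x * y = 1)
    (hr : Module.finrank F K = 3) {v₀ : Fin 3 → F} (hv₀ : v₀ ≠ 0) : ↥K ≃ₗ[F] (Fin 3 → F) :=
  LinearEquiv.ofBijective (evalAt K v₀) ⟨evalAt_injective K hi hv₀, evalAt_surjective K hi hr hv₀⟩

theorem evalEquiv_apply (hi : ∀ x ∈ K, x ≠ 0 → ∃ y ∈ K, x * y = 1)
    (hr : Module.finrank F K = 3) {v₀ : Fin 3 → F} (hv₀ : v₀ ≠ 0) (k : ↥K) :
    evalEquiv K hi hr hv₀ k = (k : Matrix (Fin 3) (Fin 3) F) *ᵥ v₀ := rfl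

/-- a matrix commuting with the whole of `K` lies in `K` -/
theorem mem_of_commute (hc : ∀ x ∈ K, ∀ y ∈ K, x * y = y * x)
    (hi : ∀ x ∈ K, x ≠ 0 → ∃ y ∈ K, x * y = 1)
    (hr : Module.finrank F K = 3) (g : Matrix (Fin 3) (Fin 3) F)
    (hg : ∀ k ∈ K, g * k = k * g) : g ∈ K := by
  have hv₀ : (Pi.single 0 1 : Fin 3 → F) ≠ 0 := by
    intro h
    have := congrFun h 0
    simp at this
  obtain ⟨k₀, hk₀⟩ := evalAt_surjective K hi hr hv₀ (g *ᵥ (Pi.single 0 1))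
  rw [evalAt_apply] at hk₀
  suffices h : g = k₀.1 by rw [h]; exact k₀.2
  apply Matrix.toLin'.injective
  apply LinearMap.ext
  intro v
  obtain ⟨k, rfl⟩ := evalAt_surjective K hi hr hv₀ v
  rw [Matrix.toLin'_apply, Matrix.toLin'_apply, evalAt_apply, Matrix.mulVec_mulVec,
    Matrix.mulVec_mulVec, hg k.1 k.2, ← Matrix.mulVec_mulVec, ← hk₀, Matrix.mulVec_mulVec,
    hc k.1 k.2 k₀.1 k₀.2]

/-- the elements of `K` commuting with a given matrix -/
def centSub (g : Matrix (Fin 3) (Fin 3) F) : Subalgebra F ↥K where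
  carrier := {x | g * x.1 = x.1 * g}
  mul_mem' := by
    intro a b ha hb
    simp only [Set.mem_ofPred_eq] at ha hb ⊢
    rw [Subalgebra.coe_mul, ← mul_assoc, ha, mul_assoc, hb, mul_assoc]
  add_mem' := by
    intro a b ha hb
    simp only [Set.mem_ofPred_eq] at ha hb ⊢
    rw [Subalgebra.coe_add, mul_add, add_mul, ha, hb]
  algebraMap_mem' := by
    intro c
    simp only [Set.mem_ofPred_eq]
    rw [Subalgebra.coe_algebraMap, Algebra.algebraMap_eq_smul_one]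
    simp

theorem mem_centSub (g : Matrix (Fin 3) (Fin 3) F) (x : ↥K) :
    x ∈ centSub K g ↔ g * x.1 = x.1 * g := Iff.rfl

/-- an element of the normaliser of `K` with a two-dimensional eigenspace is a scalar -/
theorem scalar_of_eigen (hc : ∀ x ∈ K, ∀ y ∈ K, x * y = y * x)
    (hi : ∀ x ∈ K, x ≠ 0 → ∃ y ∈ K, x * y = 1)
    (hr : Module.finrank F K = 3) (g : GL (Fin 3) F)
    (hg : g ∈ Cfsg.Geo.subalgebraNormalizer K) (c : F) (w₁ w₂ : Fin 3 → F)
    (hind : LinearIndependent F ![w₁, w₂])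
    (h₁ : (g : Matrix (Fin 3) (Fin 3) F) *ᵥ w₁ = c • w₁)
    (h₂ : (g : Matrix (Fin 3) (Fin 3) F) *ᵥ w₂ = c • w₂) :
    (g : Matrix (Fin 3) (Fin 3) F) = c • (1 : Matrix (Fin 3) (Fin 3) F) := by
  have hw₁ : w₁ ≠ 0 := hind.ne_zero 0
  have hgi : ((g⁻¹ : GL (Fin 3) F) : Matrix (Fin 3) (Fin 3) F) * (g : Matrix (Fin 3) (Fin 3) F) = 1 := by
    rw [← Units.val_mul, inv_mul_cancel, Units.val_one]
  have hgi' : (g : Matrix (Fin 3) (Fin 3) F) * ((g⁻¹ : GL (Fin 3) F) : Matrix (Fin 3) (Fin 3) F) = 1 := by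
    rw [← Units.val_mul, mul_inv_cancel, Units.val_one]
  have hc0 : c ≠ 0 := by
    intro h0
    apply hw₁
    calc w₁ = (((g⁻¹ : GL (Fin 3) F) : Matrix (Fin 3) (Fin 3) F) * (g : Matrix (Fin 3) (Fin 3) F)) *ᵥ w₁ := by
          rw [hgi, Matrix.one_mulVec]
      _ = 0 := by rw [← Matrix.mulVec_mulVec, h₁, h0, zero_smul, Matrix.mulVec_zero]
  have hinv₁ : ((g⁻¹ : GL (Fin 3) F) : Matrix (Fin 3) (Fin 3) F) *ᵥ w₁ = c⁻¹ • w₁ := by
    have : w₁ = c • (((g⁻¹ : GL (Fin 3) F) : Matrix (Fin 3) (Fin 3) F) *ᵥ w₁) := by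
      calc w₁ = (((g⁻¹ : GL (Fin 3) F) : Matrix (Fin 3) (Fin 3) F) * (g : Matrix (Fin 3) (Fin 3) F)) *ᵥ w₁ := by
            rw [hgi, Matrix.one_mulVec]
        _ = _ := by rw [← Matrix.mulVec_mulVec, h₁, Matrix.mulVec_smul]
    rw [this, smul_smul, inv_mul_cancel₀ hc0, one_smul, ← this]
  obtain ⟨k, hk⟩ := evalAt_surjective K hi hr hw₁ w₂
  rw [evalAt_apply] at hk
  have hk' : (g : Matrix (Fin 3) (Fin 3) F) * k.1 * ((g⁻¹ : GL (Fin 3) F) : Matrix (Fin 3) (Fin 3) F) ∈ K :=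
    (hg k.1).mp k.2
  have hk'w : ((g : Matrix (Fin 3) (Fin 3) F) * k.1 * ((g⁻¹ : GL (Fin 3) F) : Matrix (Fin 3) (Fin 3) F)) *ᵥ w₁ = w₂ := by
    rw [← Matrix.mulVec_mulVec, hinv₁, Matrix.mulVec_smul, ← Matrix.mulVec_mulVec, hk, h₂, smul_smul,
      inv_mul_cancel₀ hc0, one_smul]
  have hkk : (⟨_, hk'⟩ : ↥K) = k := by
    apply evalAt_injective K hi hw₁
    rw [evalAt_apply, evalAt_apply, hk]
    exact hk'w
  have hcomm : (g : Matrix (Fin 3) (Fin 3) F) * k.1 = k.1 * (g : Matrix (Fin 3) (Fin 3) F) := by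
    have h := congrArg Subtype.val hkk
    simp only at h
    calc (g : Matrix (Fin 3) (Fin 3) F) * k.1
        = (g : Matrix (Fin 3) (Fin 3) F) * k.1 * (((g⁻¹ : GL (Fin 3) F) : Matrix (Fin 3) (Fin 3) F) * (g : Matrix (Fin 3) (Fin 3) F)) := by
          rw [hgi, mul_one]
      _ = k.1 * (g : Matrix (Fin 3) (Fin 3) F) := by rw [← mul_assoc, h]
  -- the centraliser is everything
  haveI : Nonempty (Fin 3) := ⟨0⟩
  letI := FieldNorm.fieldOf K hc hi
  have hsimple : IsSimpleOrder (Subalgebra F ↥K) :=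
    Subalgebra.isSimpleOrder_of_finrank_prime F ↥K (by rw [hr]; exact Nat.prime_three)
  have hkC : k ∈ centSub K (g : Matrix (Fin 3) (Fin 3) F) := hcomm
  rcases hsimple.eq_bot_or_eq_top (centSub K (g : Matrix (Fin 3) (Fin 3) F)) with hbot | htop
  · exfalso
    rw [hbot, Algebra.mem_bot] at hkC
    obtain ⟨a, ha⟩ := hkC
    have hka : k.1 = a • (1 : Matrix (Fin 3) (Fin 3) F) := by
      rw [← ha, Subalgebra.coe_algebraMap, Algebra.algebraMap_eq_smul_one]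
    rw [hka, Matrix.smul_mulVec, Matrix.one_mulVec] at hk
    exact (LinearIndependent.pair_iff' hw₁).mp hind a hk
  · have hall : ∀ x ∈ K, (g : Matrix (Fin 3) (Fin 3) F) * x = x * (g : Matrix (Fin 3) (Fin 3) F) := by
      intro x hx
      have : (⟨x, hx⟩ : ↥K) ∈ centSub K (g : Matrix (Fin 3) (Fin 3) F) := by rw [htop]; exact Algebra.mem_top
      exact this
    have hgK : (g : Matrix (Fin 3) (Fin 3) F) ∈ K := mem_of_commute K hc hi hr _ hall
    have hsub : (g : Matrix (Fin 3) (Fin 3) F) - c • 1 ∈ K :=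
      K.sub_mem hgK (K.smul_mem K.one_mem c)
    have h0 : (⟨_, hsub⟩ : ↥K) = 0 := by
      apply evalAt_injective K hi hw₁
      rw [evalAt_apply, map_zero]
      show ((g : Matrix (Fin 3) (Fin 3) F) - c • 1) *ᵥ w₁ = 0
      rw [Matrix.sub_mulVec, h₁, Matrix.smul_mulVec, Matrix.one_mulVec, sub_self]
    have := congrArg Subtype.val h0
    exact sub_eq_zero.mp this

/-- a vector whose annihilator is generated by a cubic gives an independent triple -/
theorem indep_of_cyclic {V : Type*} [AddCommGroup V] [Module F V] (f : Module.End F V) (m : F[X])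
    (hm : m.natDegree = 3) (θ : V) (hθ : ∀ p : F[X], (aeval f p) θ = 0 → m ∣ p) :
    LinearIndependent F ![θ, f θ, f (f θ)] := by
  rw [Fintype.linearIndependent_iff]
  intro g hg
  rw [Fin.sum_univ_three] at hg
  replace hg : g 0 • θ + g 1 • f θ + g 2 • f (f θ) = 0 := hg
  obtain ⟨p, hp⟩ : ∃ p : F[X], p = C (g 0) + C (g 1) * X + C (g 2) * X ^ 2 := ⟨_, rfl⟩
  have hpv : (aeval f p) θ = 0 := by
    rw [hp]
    simp only [map_add, map_mul, aeval_C, aeval_X, map_pow]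
    rw [← hg]
    simp [Algebra.algebraMap_eq_smul_one, pow_two]
  have hdvd := hθ p hpv
  have hp0 : p = 0 := by
    by_contra hne
    have h1 := Polynomial.natDegree_le_of_dvd hdvd hne
    have h2 : p.natDegree ≤ 2 := by
      rw [hp]
      compute_degree
    omega
  have hc0 := congrArg (fun r : F[X] => r.coeff 0) hp0
  have hc1 := congrArg (fun r : F[X] => r.coeff 1) hp0
  have hc2 := congrArg (fun r : F[X] => r.coeff 2) hp0
  simp only [hp, coeff_add, coeff_C_mul, coeff_C_zero, coeff_X_zero, coeff_X_pow, coeff_zero] at hc0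
  simp only [hp, coeff_add, coeff_C_mul, coeff_C, coeff_X_one, coeff_X_pow, coeff_zero] at hc1
  simp only [hp, coeff_add, coeff_C_mul, coeff_C, coeff_X, coeff_X_pow, coeff_zero] at hc2
  intro i
  fin_cases i
  · simpa using hc0
  · simpa using hc1
  · simpa using hc2

/-- the Frobenius matrix of a cubic field subalgebra -/
theorem exists_sigma (hc : ∀ x ∈ K, ∀ y ∈ K, x * y = y * x)
    (hi : ∀ x ∈ K, x ≠ 0 → ∃ y ∈ K, x * y = 1)
    (hr : Module.finrank F K = 3) :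
    ∃ s : Matrix (Fin 3) (Fin 3) F, s ^ 3 = 1 ∧
      (∀ k ∈ K, s * k = k ^ (Fintype.card F) * s) ∧
      (∀ k ∈ K, ((k ^ Fintype.card F) ^ Fintype.card F) ^ Fintype.card F = k) ∧
      ∃ v : Fin 3 → F, LinearIndependent F ![v, s *ᵥ v, s *ᵥ (s *ᵥ v)] := by
  haveI : Nonempty (Fin 3) := ⟨0⟩
  letI := FieldNorm.fieldOf K hc hi
  haveI : Finite ↥K := inferInstance
  letI : Fintype ↥K := Fintype.ofFinite ↥K
  have hv₀ : (Pi.single 0 1 : Fin 3 → F) ≠ 0 := by
    intro h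
    have := congrFun h 0
    simp at this
  obtain ⟨ψ, hψ⟩ : ∃ ψ : ↥K ≃ₗ[F] (Fin 3 → F), ψ = evalEquiv K hi hr hv₀ := ⟨_, rfl⟩
  have hψa : ∀ k : ↥K, ψ k = k.1 *ᵥ (Pi.single 0 1 : Fin 3 → F) := by
    intro k; rw [hψ]; rfl
  obtain ⟨φL, hφL⟩ : ∃ φL : ↥K →ₗ[F] ↥K, φL = (FiniteField.frobeniusAlgHom F ↥K).toLinearMap :=
    ⟨_, rfl⟩
  have hφ : ∀ x, φL x = x ^ Fintype.card F := fun x => by rw [hφL]; rfl
  obtain ⟨sL, hsL⟩ : ∃ sL : (Fin 3 → F) →ₗ[F] (Fin 3 → F),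
    sL = ψ.toLinearMap ∘ₗ φL ∘ₗ ψ.symm.toLinearMap := ⟨_, rfl⟩
  obtain ⟨s, hsdef⟩ : ∃ s : Matrix (Fin 3) (Fin 3) F, s = LinearMap.toMatrix' sL := ⟨_, rfl⟩
  have hs : ∀ x : ↥K, s *ᵥ (ψ x) = ψ (x ^ Fintype.card F) := by
    intro x
    rw [← Matrix.toLin'_apply, hsdef, Matrix.toLin'_toMatrix', hsL]
    simp [hφ]
  have hcard3 : Fintype.card ↥K = Fintype.card F ^ 3 := by
    rw [Module.card_eq_pow_finrank (K := F), hr]
  have hpow3 : ∀ x : ↥K, ((x ^ Fintype.card F) ^ Fintype.card F) ^ Fintype.card F = x := by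
    intro x
    rw [← pow_mul, ← pow_mul]
    have h := FiniteField.pow_card x
    rw [hcard3] at h
    rw [show Fintype.card F * (Fintype.card F * Fintype.card F) = Fintype.card F ^ 3 by ring]
    exact h
  have hmul : ∀ k x : ↥K, k.1 *ᵥ ψ x = ψ (k * x) := by
    intro k x
    rw [hψa, hψa, Matrix.mulVec_mulVec]
    rfl
  have hcoe_pow : ∀ (k : ↥K) (n : ℕ), ((k ^ n : ↥K) : Matrix (Fin 3) (Fin 3) F) = k.1 ^ n := by
    intro k n
    exact SubmonoidClass.coe_pow k n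
  refine ⟨s, ?_, ?_, ?_, ?_⟩
  · apply Matrix.toLin'.injective
    apply LinearMap.ext
    intro v
    obtain ⟨x, rfl⟩ := ψ.surjective v
    rw [Matrix.toLin'_apply, Matrix.toLin'_apply, Matrix.one_mulVec, pow_succ, pow_succ, pow_one,
      ← Matrix.mulVec_mulVec, ← Matrix.mulVec_mulVec, hs, hs, hs, hpow3]
  · intro k hk
    apply Matrix.toLin'.injective
    apply LinearMap.ext
    intro v
    obtain ⟨x, rfl⟩ := ψ.surjective v
    rw [Matrix.toLin'_apply, Matrix.toLin'_apply, ← Matrix.mulVec_mulVec, ← Matrix.mulVec_mulVec,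
      hs, hmul ⟨k, hk⟩ x, hs, mul_pow, ← hmul, hcoe_pow]
  · intro k hk
    have := congrArg Subtype.val (hpow3 ⟨k, hk⟩)
    rw [hcoe_pow, hcoe_pow, hcoe_pow] at this
    exact this
  · obtain ⟨θ, hθ⟩ := Ord3A.exists_cyclic φL
    have hmin : minpoly F φL = X ^ 3 - 1 := by
      rw [hφL, FiniteField.minpoly_frobeniusAlgHom, hr]
    have hdeg : (minpoly F φL).natDegree = 3 := by
      rw [hmin, show (1 : F[X]) = C 1 from (map_one C).symm]
      exact natDegree_X_pow_sub_C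
    have hind := indep_of_cyclic φL (minpoly F φL) hdeg θ hθ
    have hind2 := hind.map' ψ.toLinearMap ψ.ker
    refine ⟨ψ θ, ?_⟩
    have hfun : (⇑ψ.toLinearMap ∘ ![θ, φL θ, φL (φL θ)]) = ![ψ θ, s *ᵥ ψ θ, s *ᵥ (s *ᵥ ψ θ)] := by
      funext i
      fin_cases i
      · rfl
      · show ψ (φL θ) = s *ᵥ ψ θ
        rw [hs, hφ]
      · show ψ (φL (φL θ)) = s *ᵥ (s *ᵥ ψ θ)
        rw [hs, hs, hφ, hφ]
    rw [hfun] at hind2
    exact hind2

/-- an element of `SL₃(F)` of order three in the normaliser of `K`, with a cyclic vector -/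
theorem exists_sigma_SL (hc : ∀ x ∈ K, ∀ y ∈ K, x * y = y * x)
    (hi : ∀ x ∈ K, x ≠ 0 → ∃ y ∈ K, x * y = 1)
    (hr : Module.finrank F K = 3) :
    ∃ s : Matrix.SpecialLinearGroup (Fin 3) F, (s : Matrix (Fin 3) (Fin 3) F) ^ 3 = 1 ∧
      s ∈ (Cfsg.Geo.subalgebraNormalizer K).comap
        (Matrix.SpecialLinearGroup.toGL : Matrix.SpecialLinearGroup (Fin 3) F →* GL (Fin 3) F) ∧
      ∃ v : Fin 3 → F, LinearIndependent F ![v, (s : Matrix (Fin 3) (Fin 3) F) *ᵥ v,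
        (s : Matrix (Fin 3) (Fin 3) F) *ᵥ ((s : Matrix (Fin 3) (Fin 3) F) *ᵥ v)] := by
  obtain ⟨s, hs3, hsk, hp3, v, hv⟩ := exists_sigma K hc hi hr
  have hdet : s.det = 1 := by
    have h1 := Ord3A.mul_colMat s hs3 v
    have h2 := Ord3A.det_colMat_ne_zero s v hv
    have h3 := congrArg Matrix.det h1
    rw [Matrix.det_mul, Matrix.det_mul] at h3
    have hC : (Ord3A.Cm F).det = 1 := by
      rw [Matrix.det_fin_three]; simp [Ord3A.Cm]
    rw [hC, mul_one] at h3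
    exact mul_right_cancel₀ h2 (by rw [h3, one_mul])
  obtain ⟨σ, hσ⟩ : ∃ σ : Matrix.SpecialLinearGroup (Fin 3) F,
      (σ : Matrix (Fin 3) (Fin 3) F) = s := ⟨⟨s, hdet⟩, rfl⟩
  refine ⟨σ, by rw [hσ]; exact hs3, ?_, v, by rw [hσ]; exact hv⟩
  show Matrix.SpecialLinearGroup.toGL σ ∈ Cfsg.Geo.subalgebraNormalizer K
  obtain ⟨g, hg⟩ : ∃ g : GL (Fin 3) F, g = Matrix.SpecialLinearGroup.toGL σ := ⟨_, rfl⟩
  rw [← hg]
  have hgs : (g : Matrix (Fin 3) (Fin 3) F) = s := by rw [hg, ← hσ]; rfl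
  obtain ⟨t, ht⟩ : ∃ t : Matrix (Fin 3) (Fin 3) F, t = ((g⁻¹ : GL (Fin 3) F) : Matrix (Fin 3) (Fin 3) F) :=
    ⟨_, rfl⟩
  have hst : s * t = 1 := by
    rw [← hgs, ht, ← Units.val_mul, mul_inv_cancel, Units.val_one]
  have hts : t * s = 1 := by
    rw [← hgs, ht, ← Units.val_mul, inv_mul_cancel, Units.val_one]
  intro k
  rw [← ht, hgs]
  constructor
  · intro hk
    rw [hsk k hk, mul_assoc, hst, mul_one]
    exact pow_mem hk _
  · intro hm
    have hk' : (((s * k * t) ^ Fintype.card F) ^ Fintype.card F) ∈ K := pow_mem (pow_mem hm _) _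
    have h1 := hsk _ hk'
    rw [hp3 _ hm] at h1
    have h2 : k = ((s * k * t) ^ Fintype.card F) ^ Fintype.card F := by
      calc k = t * s * k * (t * s) := by rw [hts, one_mul, mul_one]
        _ = t * ((s * k * t) * s) := by simp only [mul_assoc]
        _ = t * (s * (((s * k * t) ^ Fintype.card F) ^ Fintype.card F)) := by rw [h1]
        _ = _ := by rw [← mul_assoc, hts, one_mul]
    rw [h2]
    exact hk'

/-- an element of `SL₃(F)` with a two-dimensional eigenspace which is not the corresponding scalar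
has no conjugate in the normaliser of `K` -/
theorem not_conj_of_eigen (hc : ∀ x ∈ K, ∀ y ∈ K, x * y = y * x)
    (hi : ∀ x ∈ K, x ≠ 0 → ∃ y ∈ K, x * y = 1)
    (hr : Module.finrank F K = 3) (x : Matrix.SpecialLinearGroup (Fin 3) F) (c : F) (w₁ w₂ : Fin 3 → F)
    (hind : LinearIndependent F ![w₁, w₂])
    (h₁ : (x : Matrix (Fin 3) (Fin 3) F) *ᵥ w₁ = c • w₁)
    (h₂ : (x : Matrix (Fin 3) (Fin 3) F) *ᵥ w₂ = c • w₂)
    (hns : (x : Matrix (Fin 3) (Fin 3) F) ≠ c • (1 : Matrix (Fin 3) (Fin 3) F))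
    (P : Matrix.SpecialLinearGroup (Fin 3) F) :
    P⁻¹ * x * P ∉ (Cfsg.Geo.subalgebraNormalizer K).comap
        (Matrix.SpecialLinearGroup.toGL : Matrix.SpecialLinearGroup (Fin 3) F →* GL (Fin 3) F) := by
  intro hmem
  rw [Subgroup.mem_comap] at hmem
  obtain ⟨Q, hQ⟩ : ∃ Q : Matrix (Fin 3) (Fin 3) F, Q = ((P⁻¹ : Matrix.SpecialLinearGroup (Fin 3) F) : Matrix (Fin 3) (Fin 3) F) :=
    ⟨_, rfl⟩
  have hQP : Q * (P : Matrix (Fin 3) (Fin 3) F) = 1 := by
    rw [hQ, ← Matrix.SpecialLinearGroup.coe_mul, inv_mul_cancel, Matrix.SpecialLinearGroup.coe_one]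
  have hPQ : (P : Matrix (Fin 3) (Fin 3) F) * Q = 1 := by
    rw [hQ, ← Matrix.SpecialLinearGroup.coe_mul, mul_inv_cancel, Matrix.SpecialLinearGroup.coe_one]
  have hgval : ((Matrix.SpecialLinearGroup.toGL (P⁻¹ * x * P) : GL (Fin 3) F) : Matrix (Fin 3) (Fin 3) F)
      = Q * (x : Matrix (Fin 3) (Fin 3) F) * (P : Matrix (Fin 3) (Fin 3) F) := by
    rw [hQ]
    show ((P⁻¹ * x * P : Matrix.SpecialLinearGroup (Fin 3) F) : Matrix (Fin 3) (Fin 3) F) = _
    rw [Matrix.SpecialLinearGroup.coe_mul, Matrix.SpecialLinearGroup.coe_mul]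
  have hind' : LinearIndependent F ![Q *ᵥ w₁, Q *ᵥ w₂] := by
    rw [LinearIndependent.pair_iff] at hind ⊢
    intro a b hab
    apply hind a b
    have := congrArg (fun u => (P : Matrix (Fin 3) (Fin 3) F) *ᵥ u) hab
    simp only [Matrix.mulVec_add, Matrix.mulVec_smul, Matrix.mulVec_mulVec, hPQ, Matrix.one_mulVec,
      Matrix.mulVec_zero] at this
    exact this
  have key := scalar_of_eigen K hc hi hr _ hmem c (Q *ᵥ w₁) (Q *ᵥ w₂) hind'
    (by rw [hgval, Matrix.mulVec_mulVec, mul_assoc, hPQ, mul_one, ← Matrix.mulVec_mulVec, h₁,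
      Matrix.mulVec_smul])
    (by rw [hgval, Matrix.mulVec_mulVec, mul_assoc, hPQ, mul_one, ← Matrix.mulVec_mulVec, h₂,
      Matrix.mulVec_smul])
  rw [hgval] at key
  apply hns
  calc (x : Matrix (Fin 3) (Fin 3) F)
      = ((P : Matrix (Fin 3) (Fin 3) F) * Q) * (x : Matrix (Fin 3) (Fin 3) F) * ((P : Matrix (Fin 3) (Fin 3) F) * Q) := by
        rw [hPQ, one_mul, mul_one]
    _ = (P : Matrix (Fin 3) (Fin 3) F) * (Q * (x : Matrix (Fin 3) (Fin 3) F) * (P : Matrix (Fin 3) (Fin 3) F)) * Q := by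
        simp only [mul_assoc]
    _ = c • (1 : Matrix (Fin 3) (Fin 3) F) := by
        rw [key, Matrix.mul_smul, mul_one, Matrix.smul_mul, hPQ]

end Cfsg.Agent.Lib.Helper9.Ord3B
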