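/-
Helper9 library: elements of prime order `n` of `SL_n(q)` (`n` prime, `n ≠ p`): the minimal
polynomial when the cyclotomic polynomial is irreducible, and elements of order `n` with a large
fixed space otherwise.
-/
import Mathlib
import Cfsg.Agent.Lib.Helper9.CycN

set_option autoImplicit false
set_option linter.unusedSectionVars false

namespace Cfsg.Agent.Lib.Helper9.OrdN

open Matrix Polynomial

variable {F : Type*} [Field F] {n : ℕ} [NeZero n]

/-- if the `n`-th cyclotomic polynomial (`n` prime) is irreducible over `F`, a non-identity matrix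
with `x ^ n = 1` has minimal polynomial `X ^ n - 1` -/
theorem minpoly_eq (hp : n.Prime) (hn3 : 3 ≤ n) (hnF : (n : F) ≠ 0)
    (hirr : Irreducible (cyclotomic n F)) (x : Matrix (Fin n) (Fin n) F)
    (hx : x ^ n = 1) (hx1 : x ≠ 1) : minpoly F x = X ^ n - 1 := by
  have : Fact n.Prime := ⟨hp⟩
  have hfac : cyclotomic n F * (X - 1) = X ^ n - 1 := cyclotomic_prime_mul_X_sub_one F n
  have hint : IsIntegral F x := Matrix.isIntegral x
  have hμm : (minpoly F x).Monic := minpoly.monic hint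
  have hμ : minpoly F x ∣ X ^ n - 1 := by
    apply minpoly.dvd
    simp [hx]
  have hsep : (X ^ n - 1 : F[X]).Separable := X_pow_sub_one_separable_iff.mpr hnF
  have hcop : IsCoprime (cyclotomic n F) (X - 1) := by
    rw [← hfac] at hsep
    exact hsep.isCoprime
  have hX1 : Irreducible (X - 1 : F[X]) := by
    have := Polynomial.irreducible_X_sub_C (1 : F)
    rwa [map_one] at this
  have hμae : aeval x (minpoly F x) = 0 := minpoly.aeval F x
  -- the cyclotomic polynomial divides the minimal polynomial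
  have h1 : cyclotomic n F ∣ minpoly F x := by
    rcases hirr.isCoprime_or_dvd (minpoly F x) with hc | hd
    · exfalso
      have h2 : minpoly F x ∣ (X - 1) * cyclotomic n F := by rw [mul_comm, hfac]; exact hμ
      have h3 : minpoly F x ∣ X - 1 := hc.symm.dvd_of_dvd_mul_right h2
      obtain ⟨r, hr⟩ := h3
      have h4 : aeval x (X - 1 : F[X]) = 0 := by rw [hr, map_mul, hμae, zero_mul]
      apply hx1
      simpa [sub_eq_zero] using h4
    · exact hd
  -- so does `X - 1`
  have h2 : (X - 1 : F[X]) ∣ minpoly F x := by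
    rcases hX1.isCoprime_or_dvd (minpoly F x) with hc | hd
    · exfalso
      have h3 : minpoly F x ∣ cyclotomic n F * (X - 1) := by rw [hfac]; exact hμ
      have h4 : minpoly F x ∣ cyclotomic n F := hc.symm.dvd_of_dvd_mul_right h3
      have h5 : minpoly F x = cyclotomic n F :=
        eq_of_monic_of_associated hμm (cyclotomic.monic n F) (associated_of_dvd_dvd h4 h1)
      have hdegΦ : (cyclotomic n F).natDegree = n - 1 := by
        rw [natDegree_cyclotomic, Nat.totient_prime hp]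
      obtain ⟨r, hr⟩ := Matrix.minpoly_dvd_charpoly x
      have hχm : x.charpoly.Monic := Matrix.charpoly_monic x
      have hr0 : r ≠ 0 := by
        intro h0
        rw [h0, mul_zero] at hr
        exact hχm.ne_zero hr
      have hdegr : r.natDegree = 1 := by
        have h6 := congrArg natDegree hr
        rw [Matrix.charpoly_natDegree_eq_dim, Fintype.card_fin,
          natDegree_mul hμm.ne_zero hr0, h5, hdegΦ] at h6
        have := hp.two_le
        omega
      obtain ⟨a, ha⟩ := exists_root_of_degree_eq_one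
        (by rw [degree_eq_natDegree hr0, hdegr]; rfl : r.degree = 1)
      have hχa : x.charpoly.eval a = 0 := by
        rw [hr, eval_mul, ha, mul_zero]
      have hμa := CycN.eval_eq_zero_of_charpoly_root x a hχa _ hμae
      rw [h5] at hμa
      have h7 := degree_eq_one_of_irreducible_of_root hirr hμa
      rw [degree_eq_natDegree (cyclotomic.monic n F).ne_zero, hdegΦ] at h7
      have h8 : n - 1 = 1 := by exact_mod_cast h7
      omega
    · exact hd
  have h3 : X ^ n - 1 ∣ minpoly F x := by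
    rw [← hfac]
    exact hcop.mul_dvd h1 h2
  have hmon : (X ^ n - 1 : F[X]).Monic := by
    have := monic_X_pow_sub_C (1 : F) (NeZero.ne n)
    rwa [map_one] at this
  exact eq_of_monic_of_associated hμm hmon (associated_of_dvd_dvd hμ h3)

/-- a matrix with `s ^ n = 1` (`n` odd) and a cyclic vector has determinant one -/
theorem det_eq_one_of_cyc (hodd : Odd n) (s : Matrix (Fin n) (Fin n) F) (hs : s ^ n = 1)
    (v : Fin n → F) (hv : ∀ p : F[X], (aeval s p) *ᵥ v = 0 → (X ^ n - 1 : F[X]) ∣ p) :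
    s.det = 1 := by
  have hint : IsIntegral F s := Matrix.isIntegral s
  have hμm : (minpoly F s).Monic := minpoly.monic hint
  have hmon : (X ^ n - 1 : F[X]).Monic := by
    have := monic_X_pow_sub_C (1 : F) (NeZero.ne n)
    rwa [map_one] at this
  have hμ : minpoly F s ∣ X ^ n - 1 := by
    apply minpoly.dvd
    simp [hs]
  have h3 : X ^ n - 1 ∣ minpoly F s := by
    apply hv
    rw [minpoly.aeval, Matrix.zero_mulVec]
  have hmin : minpoly F s = X ^ n - 1 :=
    eq_of_monic_of_associated hμm hmon (associated_of_dvd_dvd hμ h3)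
  have hdeg : (X ^ n - 1 : F[X]).natDegree = n := by
    rw [show (1 : F[X]) = C 1 from (map_one C).symm]
    exact natDegree_X_pow_sub_C
  have hχ : s.charpoly = X ^ n - 1 := by
    apply Polynomial.eq_of_monic_of_dvd_of_natDegree_le hmon (Matrix.charpoly_monic s)
    · rw [← hmin]
      exact Matrix.minpoly_dvd_charpoly s
    · rw [Matrix.charpoly_natDegree_eq_dim, Fintype.card_fin, hdeg]
  have := Matrix.det_eq_sign_charpoly_coeff s
  rw [hχ, Fintype.card_fin, hodd.neg_one_pow] at this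
  rw [this]
  simp [coeff_X_pow, coeff_one, (NeZero.ne n).symm]

/-- an element of `SL_n(F)` whose `n`-th power is scalar, which is not scalar, and which has a
two-dimensional eigenspace -/
def BadN (x : Matrix.SpecialLinearGroup (Fin n) F) : Prop :=
  (∃ z : F, ((x ^ n : Matrix.SpecialLinearGroup (Fin n) F) : Matrix (Fin n) (Fin n) F)
      = z • (1 : Matrix (Fin n) (Fin n) F)) ∧
  (∀ z : F, (x : Matrix (Fin n) (Fin n) F) ≠ z • (1 : Matrix (Fin n) (Fin n) F)) ∧
  ∃ (c : F) (w₁ w₂ : Fin n → F), LinearIndependent F ![w₁, w₂] ∧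
    (x : Matrix (Fin n) (Fin n) F) *ᵥ w₁ = c • w₁ ∧ (x : Matrix (Fin n) (Fin n) F) *ᵥ w₂ = c • w₂

theorem indep_e (i j : Fin n) (hij : i ≠ j) :
    LinearIndependent F ![(Pi.single i 1 : Fin n → F), (Pi.single j 1 : Fin n → F)] := by
  rw [LinearIndependent.pair_iff]
  intro a b hab
  have h1 := congrFun hab i
  have h2 := congrFun hab j
  simp [hij, hij.symm] at h1 h2
  exact ⟨h1, h2⟩

/-- a nontrivial `n`-th root of unity in the field gives such an element -/
theorem bad_diag (hn4 : 4 ≤ n) (ζ : F) (hζ : ζ ^ n = 1) (hζ1 : ζ ≠ 1) :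
    ∃ x : Matrix.SpecialLinearGroup (Fin n) F, BadN x := by
  have hζ0 : ζ ≠ 0 := by
    intro h0
    rw [h0, zero_pow (NeZero.ne n)] at hζ
    exact zero_ne_one hζ
  obtain ⟨i0, hi0⟩ : ∃ i : Fin n, (i : ℕ) = 0 := ⟨⟨0, by omega⟩, rfl⟩
  obtain ⟨i1, hi1⟩ : ∃ i : Fin n, (i : ℕ) = 1 := ⟨⟨1, by omega⟩, rfl⟩
  obtain ⟨i2, hi2⟩ : ∃ i : Fin n, (i : ℕ) = 2 := ⟨⟨2, by omega⟩, rfl⟩
  obtain ⟨i3, hi3⟩ : ∃ i : Fin n, (i : ℕ) = 3 := ⟨⟨3, by omega⟩, rfl⟩
  have h01 : i0 ≠ i1 := fun h => by rw [h] at hi0; omega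
  have h02 : i2 ≠ i0 := fun h => by rw [h] at hi2; omega
  have h12 : i2 ≠ i1 := fun h => by rw [h] at hi2; omega
  have h03 : i3 ≠ i0 := fun h => by rw [h] at hi3; omega
  have h13 : i3 ≠ i1 := fun h => by rw [h] at hi3; omega
  have h23 : i2 ≠ i3 := fun h => by rw [h] at hi2; omega
  obtain ⟨d, hd⟩ : ∃ d : Fin n → F, d = fun j => if j = i0 then ζ else if j = i1 then ζ⁻¹ else 1 :=
    ⟨_, rfl⟩
  have hd0 : d i0 = ζ := by rw [hd]; simp
  have hd1 : d i1 = ζ⁻¹ := by rw [hd]; simp [h01.symm]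
  have hd2 : d i2 = 1 := by rw [hd]; simp [h02, h12]
  have hd3 : d i3 = 1 := by rw [hd]; simp [h03, h13]
  have hdet : (Matrix.diagonal d).det = 1 := by
    rw [Matrix.det_diagonal, Fintype.prod_eq_mul i0 i1 h01, hd0, hd1, mul_inv_cancel₀ hζ0]
    intro j hj
    rw [hd]
    simp [hj.1, hj.2]
  obtain ⟨x, hx⟩ : ∃ x : Matrix.SpecialLinearGroup (Fin n) F,
      (x : Matrix (Fin n) (Fin n) F) = Matrix.diagonal d := ⟨⟨_, hdet⟩, rfl⟩
  refine ⟨x, ⟨1, ?_⟩, ?_, 1, Pi.single i2 1, Pi.single i3 1, indep_e i2 i3 h23, ?_, ?_⟩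
  · rw [Matrix.SpecialLinearGroup.coe_pow, hx, one_smul, Matrix.diagonal_pow, ← Matrix.diagonal_one]
    congr 1
    funext j
    rw [hd]
    simp only [Pi.pow_apply]
    split_ifs
    · exact hζ
    · rw [inv_pow, hζ, inv_one]
    · exact one_pow n
  · intro z hz
    rw [hx] at hz
    have e0 := congrFun (congrFun hz i0) i0
    have e2 := congrFun (congrFun hz i2) i2
    simp only [Matrix.diagonal_apply_eq, Matrix.smul_apply, Matrix.one_apply_eq, smul_eq_mul,
      mul_one] at e0 e2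
    apply hζ1
    rw [← hd0, e0, ← e2, hd2]
  · rw [hx, Matrix.diagonal_mulVec_single, hd2, one_smul, one_mul]
  · rw [hx, Matrix.diagonal_mulVec_single, hd3, one_smul, one_mul]

/-- when the cyclotomic polynomial has an irreducible factor of degree between `2` and `n - 2`,
a polynomial in a cyclic matrix of order `n` is such an element -/
theorem bad_poly (hp : n.Prime) (hnF : (n : F) ≠ 0) (s : Matrix (Fin n) (Fin n) F)
    (hs : s ^ n = 1) (v : Fin n → F)
    (hv : ∀ p : F[X], (aeval s p) *ᵥ v = 0 → (X ^ n - 1 : F[X]) ∣ p)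
    (P : F[X]) (hP : Irreducible P) (hPd : P ∣ cyclotomic n F) (hdeg2 : 2 ≤ P.natDegree)
    (hdegn : P.natDegree + 2 ≤ n) (htor : ∀ z : F, z ^ n = 1 → z = 1) :
    ∃ x : Matrix.SpecialLinearGroup (Fin n) F, BadN x := by
  have : Fact n.Prime := ⟨hp⟩
  have hfac : cyclotomic n F * (X - 1) = X ^ n - 1 := cyclotomic_prime_mul_X_sub_one F n
  obtain ⟨P', hP'⟩ := hPd
  obtain ⟨Q, hQ⟩ : ∃ Q : F[X], Q = P' * (X - 1) := ⟨_, rfl⟩
  have hPQ : P * Q = X ^ n - 1 := by rw [hQ, ← mul_assoc, ← hP', hfac]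
  have hsep : (X ^ n - 1 : F[X]).Separable := X_pow_sub_one_separable_iff.mpr hnF
  have hcop : IsCoprime P Q := by
    rw [← hPQ] at hsep
    exact hsep.isCoprime
  obtain ⟨u, w, huw⟩ := hcop
  obtain ⟨R, hR⟩ : ∃ R : F[X], R = 1 + (X - 1) * (w * Q) := ⟨_, rfl⟩
  have hRQ : Q ∣ R - 1 := ⟨(X - 1) * w, by rw [hR]; ring⟩
  have hRP : P ∣ R - X := ⟨-(X - 1) * u, by rw [hR]; linear_combination (X - 1) * huw⟩
  have hP0 : P ≠ 0 := hP.ne_zero
  have hmon : (X ^ n - 1 : F[X]).Monic := by
    have := monic_X_pow_sub_C (1 : F) (NeZero.ne n)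
    rwa [map_one] at this
  have hdegn' : (X ^ n - 1 : F[X]).natDegree = n := by
    rw [show (1 : F[X]) = C 1 from (map_one C).symm]
    exact natDegree_X_pow_sub_C
  have hQ0 : Q ≠ 0 := by
    intro h0
    rw [h0, mul_zero] at hPQ
    exact hmon.ne_zero hPQ.symm
  have hdegQ : P.natDegree + Q.natDegree = n := by
    rw [← natDegree_mul hP0 hQ0, hPQ, hdegn']
  have hdvd : X ^ n - 1 ∣ R ^ n - 1 := by
    rw [← hPQ]
    apply IsCoprime.mul_dvd ⟨u, w, huw⟩
    · have h1 : P ∣ R ^ n - X ^ n := dvd_trans hRP (sub_dvd_pow_sub_pow R X n)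
      have h2 : P ∣ X ^ n - 1 := Dvd.intro Q hPQ
      have : R ^ n - 1 = (R ^ n - X ^ n) + (X ^ n - 1) := by ring
      rw [this]
      exact dvd_add h1 h2
    · have := sub_dvd_pow_sub_pow R 1 n
      rw [one_pow] at this
      exact dvd_trans hRQ this
  have hann : ∀ T : F[X], X ^ n - 1 ∣ T → aeval s T = 0 := by
    rintro T ⟨r, rfl⟩
    rw [map_mul, map_sub, map_pow, aeval_X, map_one, hs, sub_self, zero_mul]
  obtain ⟨x, hx⟩ : ∃ x : Matrix (Fin n) (Fin n) F, x = aeval s R := ⟨_, rfl⟩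
  have hxn : x ^ n = 1 := by
    have := hann _ hdvd
    rw [map_sub, map_pow, map_one, sub_eq_zero] at this
    rw [hx]
    exact this
  have hfix : ∀ T : F[X], x * aeval s (T * P) = aeval s (T * P) := by
    intro T
    have h1 : X ^ n - 1 ∣ (R - 1) * (T * P) := by
      obtain ⟨r, hr⟩ := hRQ
      rw [hr, ← hPQ]
      exact ⟨r * T, by ring⟩
    have := hann _ h1
    rw [map_mul, map_sub, map_one, sub_mul, one_mul, sub_eq_zero] at this
    rw [hx]
    exact this
  obtain ⟨w₁, hw₁⟩ : ∃ w₁ : Fin n → F, w₁ = (aeval s P) *ᵥ v := ⟨_, rfl⟩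
  obtain ⟨w₂, hw₂⟩ : ∃ w₂ : Fin n → F, w₂ = (aeval s (X * P)) *ᵥ v := ⟨_, rfl⟩
  have hx1 : x *ᵥ w₁ = w₁ := by
    have := hfix 1
    rw [one_mul] at this
    rw [hw₁, Matrix.mulVec_mulVec, this]
  have hx2 : x *ᵥ w₂ = w₂ := by
    rw [hw₂, Matrix.mulVec_mulVec, hfix X]
  have hind : LinearIndependent F ![w₁, w₂] := by
    rw [LinearIndependent.pair_iff]
    intro a b hab
    have h1 : (aeval s ((C a + C b * X) * P)) *ᵥ v = 0 := by
      rw [← hab, hw₁, hw₂]
      simp only [map_mul, map_add, aeval_C, aeval_X, Algebra.algebraMap_eq_smul_one,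
        Matrix.add_mul, Matrix.smul_mul, one_mul, Matrix.add_mulVec, Matrix.smul_mulVec]
    have h2 := hv _ h1
    rw [← hPQ, mul_comm P Q] at h2
    have h3 : Q ∣ C a + C b * X := (mul_dvd_mul_iff_right hP0).mp h2
    have h4 : C a + C b * X = 0 := by
      by_contra hne
      have h5 := natDegree_le_of_dvd h3 hne
      have h6 : (C a + C b * X : F[X]).natDegree ≤ 1 := by compute_degree
      omega
    have hc0 := congrArg (fun r : F[X] => r.coeff 0) h4
    have hc1 := congrArg (fun r : F[X] => r.coeff 1) h4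
    simp only [coeff_add, coeff_C_mul, coeff_C_zero, coeff_X_zero, coeff_zero] at hc0
    simp only [coeff_add, coeff_C_mul, coeff_C, coeff_X_one, coeff_zero] at hc1
    constructor
    · simpa using hc0
    · simpa using hc1
  have hw₁0 : w₁ ≠ 0 := hind.ne_zero 0
  have hxne1 : x ≠ 1 := by
    intro h1
    have h2 : aeval s (R - 1) = 0 := by rw [map_sub, map_one, ← hx, h1, sub_self]
    have h3 : (aeval s (R - 1)) *ᵥ v = 0 := by rw [h2, Matrix.zero_mulVec]
    have h4 := hv _ h3
    have h5 : R - 1 = ((X - 1) * w) * Q := by rw [hR]; ring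
    rw [h5, ← hPQ] at h4
    have h6 : P ∣ (X - 1) * w := (mul_dvd_mul_iff_right hQ0).mp h4
    rcases hP.prime.dvd_or_dvd h6 with h7 | h7
    · have h8 : (X - 1 : F[X]) ≠ 0 := by
        have := X_sub_C_ne_zero (1 : F)
        rwa [map_one] at this
      have h9 := natDegree_le_of_dvd h7 h8
      have h10 : (X - 1 : F[X]).natDegree ≤ 1 := by compute_degree
      omega
    · have h8 : P ∣ 1 := by
        rw [← huw]
        exact dvd_add (Dvd.intro_left u rfl) (Dvd.dvd.mul_right h7 Q)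
      exact hP.not_isUnit (isUnit_of_dvd_one h8)
  have hdet : x.det = 1 := by
    apply htor
    rw [← Matrix.det_pow, hxn, Matrix.det_one]
  obtain ⟨y, hy⟩ : ∃ y : Matrix.SpecialLinearGroup (Fin n) F,
      (y : Matrix (Fin n) (Fin n) F) = x := ⟨⟨x, hdet⟩, rfl⟩
  refine ⟨y, ⟨1, ?_⟩, ?_, 1, w₁, w₂, hind, ?_, ?_⟩
  · rw [Matrix.SpecialLinearGroup.coe_pow, hy, one_smul, hxn]
  · intro z hz
    rw [hy] at hz
    have h1 : z • w₁ = w₁ := by
      have h := hx1
      rw [hz, Matrix.smul_mulVec, Matrix.one_mulVec] at h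
      exact h
    have hz1 : z = 1 := by
      by_contra hne
      have : (z - 1) • w₁ = 0 := by rw [sub_smul, one_smul, h1, sub_self]
      rcases smul_eq_zero.mp this with h | h
      · exact hne (sub_eq_zero.mp h)
      · exact hw₁0 h
    rw [hz1, one_smul] at hz
    exact hxne1 hz
  · rw [hy, hx1, one_smul]
  · rw [hy, hx2, one_smul]

section Finite

variable [Fintype F]

/-- no `n`-torsion in the multiplicative group when `n ∤ q - 1` -/
theorem tor (hp : n.Prime) (hndvd : ¬ n ∣ Fintype.card F - 1) (z : F) (hz : z ^ n = 1) : z = 1 := by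
  have hz0 : z ≠ 0 := by
    intro h0
    rw [h0, zero_pow (NeZero.ne n)] at hz
    exact zero_ne_one hz
  have h1 : orderOf z ∣ n := orderOf_dvd_of_pow_eq_one hz
  have h2 : orderOf z ∣ Fintype.card F - 1 :=
    orderOf_dvd_of_pow_eq_one (FiniteField.pow_card_sub_one_eq_one z hz0)
  have hcop : Nat.Coprime n (Fintype.card F - 1) := (Nat.Prime.coprime_iff_not_dvd hp).mpr hndvd
  have h3 : orderOf z ∣ 1 := by
    have := Nat.dvd_gcd h1 h2
    rwa [hcop] at this
  exact orderOf_eq_one_iff.mp (Nat.dvd_one.mp h3)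

theorem exists_root_of_unity (hp : n.Prime) (h : n ∣ Fintype.card F - 1) :
    ∃ ζ : F, ζ ^ n = 1 ∧ ζ ≠ 1 := by
  classical
  obtain ⟨g, hg⟩ := IsCyclic.exists_generator (α := Fˣ)
  have hord : orderOf g = Fintype.card F - 1 := by
    rw [orderOf_eq_card_of_forall_mem_zpowers hg, Nat.card_eq_fintype_card, Fintype.card_units]
  obtain ⟨m, hm⟩ := h
  have hpos : 0 < Fintype.card F - 1 := by
    have := Fintype.one_lt_card (α := F)
    omega
  have hm0 : 0 < m := by
    rcases Nat.eq_zero_or_pos m with h0 | h0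
    · rw [h0] at hm; omega
    · exact h0
  have hn2 := hp.two_le
  refine ⟨((g ^ m : Fˣ) : F), ?_, ?_⟩
  · rw [← Units.val_pow_eq_pow_val, ← pow_mul, mul_comm, ← hm, ← hord, pow_orderOf_eq_one,
      Units.val_one]
  · intro h1
    have h2 : g ^ m = 1 := Units.ext h1
    have hlt : m < orderOf g := by
      rw [hord, hm]
      nlinarith
    exact pow_ne_one_of_lt_orderOf (by omega) hlt h2

end Finite

end Cfsg.Agent.Lib.Helper9.OrdN
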