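import Mathlib

/-!
# S4937 leaf (HOM) (helper9; planner helper14's exact name and binders, notes/S4937_leaves.lean)

Pure algebra over a field `k`: `w κ : G → k`, `N ⊴ G`, `C ≤ G` meeting every coset of `N`, `κ ≠ 0` on `C`,
`w = κ` on `N`, and the congruence form (MULK) of "relative central characters multiply".  Then
`w = κ · lam` for a homomorphism `lam : G →* kˣ` trivial on `N`.
-/

set_option autoImplicit false

namespace Cfsg.Agent.Lib.Helper9.PBExt

universe u

variable {G : Type u} [Group G]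

/-- HOM -/
theorem exists_hom_of_mulk {k : Type*} [Field k] (N : Subgroup G) [N.Normal] (C : Subgroup G)
    (hcov : ∀ x : G, ∃ c ∈ C, c⁻¹ * x ∈ N) (w κ : G → k) (hκ : ∀ c ∈ C, κ c ≠ 0)
    (hN : ∀ z ∈ N, w z = κ z)
    (hmul : ∀ (x y : G) (ℓ : k), (∀ z : G, z * (x * y)⁻¹ ∈ N → w z = κ z * ℓ) →
      w x * w y = κ x * κ y * ℓ) :
    ∃ lam : G →* kˣ, (∀ n ∈ N, lam n = 1) ∧ ∀ x : G, w x = κ x * ((lam x : kˣ) : k) := by
  classical
  have hnorm : N.Normal := inferInstance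
  -- (A) `x y ∈ N ⇒ w x w y = κ x κ y`
  have hA : ∀ x y : G, x * y ∈ N → w x * w y = κ x * κ y := by
    intro x y hxy
    have := hmul x y 1 (fun z hz => by
      have hzN : z ∈ N := by
        have := N.mul_mem hz hxy
        rwa [inv_mul_cancel_right] at this
      rw [hN z hzN, mul_one])
    rwa [mul_one] at this
  -- (B) `w c ≠ 0` on `C`
  have hB : ∀ c ∈ C, w c ≠ 0 := by
    intro c hc h0
    have h := hA c c⁻¹ (by rw [mul_inv_cancel]; exact N.one_mem)
    rw [h0, zero_mul] at h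
    exact mul_ne_zero (hκ c hc) (hκ c⁻¹ (C.inv_mem hc)) h.symm
  -- (D) `w = κ · u(c)` on the coset of `c ∈ C`
  have hD : ∀ c ∈ C, ∀ x : G, x * c⁻¹ ∈ N → w x = κ x * (w c / κ c) := by
    intro c hc x hx
    have h1 := hA x c⁻¹ hx
    have h2 := hA c c⁻¹ (by rw [mul_inv_cancel]; exact N.one_mem)
    have hwc' : w c⁻¹ ≠ 0 := hB c⁻¹ (C.inv_mem hc)
    have hκc : κ c ≠ 0 := hκ c hc
    have h3 : w x * κ c = κ x * w c := by
      apply mul_right_cancel₀ hwc'
      linear_combination κ c * h1 - κ x * h2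
    rw [mul_div_assoc', ← h3, mul_div_assoc, div_self hκc, mul_one]
  -- swap sides of the coset condition
  have hswap : ∀ c x : G, c⁻¹ * x ∈ N → x * c⁻¹ ∈ N := by
    intro c x h
    have := hnorm.conj_mem _ h c
    simpa [mul_assoc] using this
  -- (E) `u` is constant on cosets
  have hE : ∀ c ∈ C, ∀ c' ∈ C, c' * c⁻¹ ∈ N → w c' / κ c' = w c / κ c := by
    intro c hc c' hc' h
    rw [hD c hc c' h, mul_comm, mul_div_assoc, div_self (hκ c' hc'), mul_one]
  choose rep hrepC hrepN using hcov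
  -- (F) the value at `rep x` equals the value at any `c ∈ C` in the coset of `x`
  have hF : ∀ c ∈ C, ∀ x : G, x * c⁻¹ ∈ N → w (rep x) / κ (rep x) = w c / κ c := by
    intro c hc x hx
    apply hE c hc (rep x) (hrepC x)
    have h1 : rep x * x⁻¹ ∈ N := by
      have := N.inv_mem (hswap _ _ (hrepN x))
      simpa using this
    have := N.mul_mem h1 hx
    simpa [mul_assoc] using this
  have hu_ne : ∀ c ∈ C, w c / κ c ≠ 0 := fun c hc => div_ne_zero (hB c hc) (hκ c hc)
  have hu_mul : ∀ c₁ ∈ C, ∀ c₂ ∈ C,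
      w (c₁ * c₂) / κ (c₁ * c₂) = (w c₁ / κ c₁) * (w c₂ / κ c₂) := by
    intro c₁ h₁ c₂ h₂
    have h := hmul c₁ c₂ (w (c₁ * c₂) / κ (c₁ * c₂))
      (fun z hz => hD (c₁ * c₂) (C.mul_mem h₁ h₂) z hz)
    rw [div_mul_div_comm, h]
    exact (mul_div_cancel_left₀ _ (mul_ne_zero (hκ c₁ h₁) (hκ c₂ h₂))).symm
  have hu_one : w 1 / κ 1 = 1 := by
    rw [hN 1 N.one_mem, div_self (hκ 1 C.one_mem)]
  refine ⟨{ toFun := fun x => Units.mk0 (w (rep x) / κ (rep x)) (hu_ne _ (hrepC x))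
            map_one' := ?_
            map_mul' := ?_ }, ?_, ?_⟩
  · apply Units.ext
    rw [Units.val_mk0, Units.val_one, hF 1 C.one_mem 1 (by simp), hu_one]
  · intro x y
    apply Units.ext
    rw [Units.val_mul, Units.val_mk0, Units.val_mk0, Units.val_mk0,
      ← hu_mul _ (hrepC x) _ (hrepC y)]
    apply hF _ (C.mul_mem (hrepC x) (hrepC y))
    -- `x y (c₁ c₂)⁻¹ = x (y c₂⁻¹) x⁻¹ · (x c₁⁻¹)`
    have h1 : x * (rep x)⁻¹ ∈ N := hswap _ _ (hrepN x)
    have h2 : y * (rep y)⁻¹ ∈ N := hswap _ _ (hrepN y)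
    have h3 := hnorm.conj_mem _ h2 x
    have := N.mul_mem h3 h1
    have heq : x * y * (rep x * rep y)⁻¹ = x * (y * (rep y)⁻¹) * x⁻¹ * (x * (rep x)⁻¹) := by
      group
    rw [heq]; exact this
  · intro n hn
    apply Units.ext
    change w (rep n) / κ (rep n) = ((1 : kˣ) : k)
    rw [Units.val_one, hF 1 C.one_mem n (by simpa using hn), hu_one]
  · intro x
    change w x = κ x * (w (rep x) / κ (rep x))
    exact hD (rep x) (hrepC x) x (hswap _ _ (hrepN x))

end Cfsg.Agent.Lib.Helper9.PBExt
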