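import Mathlib

set_option autoImplicit false

namespace Cfsg.Agent.Lib.Helper9.PCentral

open Subgroup

universe u

variable {G : Type u} [Group G] {p : ℕ}

/-- `p`-centrality hypothesis: every `p`-element has class size prime to `p`. -/
def Hyp (p : ℕ) (G : Type u) [Group G] : Prop :=
  ∀ x : G, (∃ k : ℕ, orderOf x = p ^ k) → ¬ p ∣ (centralizer ({x} : Set G)).index

/-- A `p`-element centralized by a Sylow `p`-subgroup lies in it. -/
theorem mem_sylow_of_le_centralizer [Fact p.Prime] (S : Sylow p G) {x : G}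
    (hx : ∃ k : ℕ, orderOf x = p ^ k)
    (hc : (S : Subgroup G) ≤ centralizer ({x} : Set G)) : x ∈ S := by
  have hz : IsPGroup p (zpowers x) := by
    obtain ⟨k, hk⟩ := hx
    exact IsPGroup.of_card (n := k) (by rw [Nat.card_zpowers, hk])
  have hxc : x ∈ centralizer ((S : Subgroup G) : Set G) := by
    rw [mem_centralizer_iff]
    intro s hs
    have := hc hs
    rw [mem_centralizer_singleton_iff] at this
    exact this
  have hle : (S : Subgroup G) ≤ normalizer (zpowers x : Set G) := by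
    have h1 : (S : Subgroup G) ≤ centralizer (zpowers x : Set G) := by
      rwa [le_centralizer_iff, zpowers_le]
    exact h1.trans (centralizer_le_normalizer _)
  have hsup := S.2.to_sup_of_normal_right' hz hle
  have h2 := S.is_maximal' hsup le_sup_left
  have h3 : zpowers x ≤ (S : Subgroup G) := by
    rw [← h2]; exact le_sup_right
  exact h3 (mem_zpowers x)

/-- Under `Hyp`, the centralizer of a `p`-element contains a Sylow `p`-subgroup. -/
theorem exists_sylow_le_centralizer [Finite G] [Fact p.Prime] (h : Hyp p G) (x : G)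
    (hx : ∃ k : ℕ, orderOf x = p ^ k) :
    ∃ S : Sylow p G, (S : Subgroup G) ≤ centralizer ({x} : Set G) := by
  have hp : p.Prime := Fact.out
  set C := centralizer ({x} : Set G) with hC
  let S₀ : Sylow p C := default
  have hpS : IsPGroup p (S₀.map C.subtype : Subgroup G) := S₀.2.map C.subtype
  have hidx : ¬ p ∣ ((S₀ : Subgroup C).map C.subtype).index := by
    rw [Subgroup.index_map_subtype]
    exact Nat.Prime.not_dvd_mul hp S₀.not_dvd_index (h x hx)
  refine ⟨hpS.toSylow hidx, ?_⟩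
  rw [IsPGroup.toSylow_coe]
  exact Subgroup.map_subtype_le _



/-- Every element of a Sylow `p`-subgroup is conjugate to an element of its centre. -/
theorem exists_conj_central [Finite G] [Fact p.Prime] (h : Hyp p G) (P : Sylow p G) {x : G}
    (hx : x ∈ P) :
    ∃ g : G, g⁻¹ * x * g ∈ P ∧ ∀ y ∈ P, y * (g⁻¹ * x * g) = (g⁻¹ * x * g) * y := by
  have hord : ∃ k : ℕ, orderOf x = p ^ k := by
    obtain ⟨k, hk⟩ := (IsPGroup.iff_orderOf.mp P.2) ⟨x, hx⟩
    refine ⟨k, ?_⟩
    rw [← hk, Subgroup.orderOf_mk]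
  obtain ⟨S, hS⟩ := exists_sylow_le_centralizer h x hord
  have hxS : x ∈ S := mem_sylow_of_le_centralizer S hord hS
  obtain ⟨g, hg⟩ := MulAction.exists_smul_eq G S P
  have hmem : ∀ y : G, y ∈ P ↔ ∃ s ∈ S, g * s * g⁻¹ = y := by
    intro y
    rw [← hg]
    change y ∈ ((g • S : Sylow p G) : Subgroup G) ↔ _
    rw [Sylow.coe_subgroup_smul, Subgroup.mem_smul_pointwise_iff_exists]
    simp only [MulAut.smul_def, MulAut.conj_apply]
    rfl
  refine ⟨g⁻¹, ?_, ?_⟩
  · rw [inv_inv, hmem]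
    exact ⟨x, hxS, rfl⟩
  · intro y hy
    obtain ⟨s, hs, rfl⟩ := (hmem y).mp hy
    have hsx := hS hs
    rw [mem_centralizer_singleton_iff] at hsx
    rw [inv_inv]
    calc g * s * g⁻¹ * (g * x * g⁻¹) = g * (s * x) * g⁻¹ := by group
      _ = g * (x * s) * g⁻¹ := by rw [hsx]
      _ = g * x * g⁻¹ * (g * s * g⁻¹) := by group

/-- For `N` normal, `[N : H ∩ N]` divides `[G : H]`. -/
theorem relIndex_dvd_index_of_normal_right [Finite G] (H N : Subgroup G) [N.Normal] :
    H.relIndex N ∣ H.index := by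
  have h1 : (H ⊓ N).relIndex N * N.index = (H ⊓ N).index := relIndex_mul_index inf_le_right
  have h2 : (H ⊓ N).relIndex H * H.index = (H ⊓ N).index := relIndex_mul_index inf_le_left
  have h3 : (H ⊓ N).relIndex N = H.relIndex N := inf_relIndex_right H N
  have h4 : (H ⊓ N).relIndex H = N.relIndex H := inf_relIndex_left H N
  obtain ⟨d, hd⟩ := relIndex_dvd_index_of_normal N H
  rw [h3] at h1
  rw [h4] at h2
  have hne : N.relIndex H ≠ 0 := by
    have : N.IsFiniteRelIndex H := Subgroup.isFiniteRelIndex_of_finiteIndex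
    exact Subgroup.relIndex_ne_zero
  refine ⟨d, ?_⟩
  have : N.relIndex H * (H.relIndex N * d) = N.relIndex H * H.index := by
    rw [h2, ← h1, hd]; ring
  exact (Nat.eq_of_mul_eq_mul_left (Nat.pos_of_ne_zero hne) this).symm



/-- `Hyp` passes to normal subgroups. -/
theorem hyp_normal [Finite G] (h : Hyp p G) (N : Subgroup G) [N.Normal] : Hyp p N := by
  intro x hx
  have hx' : ∃ k : ℕ, orderOf (x : G) = p ^ k := by
    obtain ⟨k, hk⟩ := hx
    exact ⟨k, by rw [Subgroup.orderOf_coe, hk]⟩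
  have heq : centralizer ({x} : Set N) = (centralizer ({(x : G)} : Set G)).subgroupOf N := by
    ext y
    rw [mem_subgroupOf, mem_centralizer_singleton_iff, mem_centralizer_singleton_iff]
    constructor
    · intro hy
      have := congrArg Subtype.val hy
      simpa using this
    · intro hy
      exact Subtype.ext (by simpa using hy)
  rw [heq]
  intro hdvd
  exact h (x : G) hx' (dvd_trans hdvd (relIndex_dvd_index_of_normal_right _ N))

/-- `Hyp` passes to quotients. -/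
theorem hyp_quotient [Finite G] [Fact p.Prime] (h : Hyp p G) (N : Subgroup G) [N.Normal] :
    Hyp p (G ⧸ N) := by
  intro xb hxb
  have hz : IsPGroup p (zpowers xb) := by
    obtain ⟨k, hk⟩ := hxb
    exact IsPGroup.of_card (n := k) (by rw [Nat.card_zpowers, hk])
  obtain ⟨Pb, hPb⟩ := hz.exists_le_sylow
  obtain ⟨P, rfl⟩ := Sylow.mapSurjective_surjective (QuotientGroup.mk'_surjective N) p Pb
  have hmem : xb ∈ (P : Subgroup G).map (QuotientGroup.mk' N) := hPb (mem_zpowers xb)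
  obtain ⟨x, hxP, rfl⟩ := hmem
  have hord : ∃ k : ℕ, orderOf x = p ^ k := by
    obtain ⟨k, hk⟩ := (IsPGroup.iff_orderOf.mp P.2) ⟨x, hxP⟩
    refine ⟨k, ?_⟩
    rw [← hk, Subgroup.orderOf_mk]
  obtain ⟨S, hS⟩ := exists_sylow_le_centralizer h x hord
  intro hdvd
  apply (S.mapSurjective (QuotientGroup.mk'_surjective N)).not_dvd_index
  refine dvd_trans hdvd (index_dvd_of_le ?_)
  rintro _ ⟨s, hs, rfl⟩
  rw [mem_centralizer_singleton_iff]
  have := hS hs
  rw [mem_centralizer_singleton_iff] at this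
  rw [← map_mul, ← map_mul, this]



/-- Step A: modulo `N`, every element of `P` is conjugate under `N_G(P)` to a central element. -/
theorem exists_normalizer_conj [Finite G] [Fact p.Prime] (N : Subgroup G) [N.Normal]
    (P : Sylow p G)
    (hcen : ∀ x ∈ P, ∃ g : G, g⁻¹ * x * g ∈ P ∧
      ∀ y ∈ P, y * (g⁻¹ * x * g) = (g⁻¹ * x * g) * y)
    (hbar : IsMulCommutative (P.mapSurjective (QuotientGroup.mk'_surjective N)))
    {x : G} (hx : x ∈ P) :
    ∃ h ∈ normalizer ((P : Subgroup G) : Set G), ∃ z ∈ P, (∀ y ∈ P, y * z = z * y) ∧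
      z⁻¹ * (h⁻¹ * x * h) ∈ N := by
  obtain ⟨g, hzP, hzc⟩ := hcen x hx
  set z := g⁻¹ * x * g with hz
  set Pb := P.mapSurjective (QuotientGroup.mk'_surjective N) with hPb
  have hmk : ∀ y ∈ P, (QuotientGroup.mk' N y) ∈ Pb := fun y hy =>
    Subgroup.mem_map_of_mem _ hy
  have h1 : (QuotientGroup.mk' N x) ∈ Pb := hmk x hx
  have h2 : (QuotientGroup.mk' N g)⁻¹ * (QuotientGroup.mk' N x) * (QuotientGroup.mk' N g) ∈ Pb := by
    rw [← map_inv, ← map_mul, ← map_mul]
    exact hmk z hzP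
  obtain ⟨nb, hnb, heq⟩ := Pb.conj_eq_normalizer_conj_of_mem _ _ h1 h2
  obtain ⟨n, rfl⟩ := QuotientGroup.mk'_surjective N nb
  -- `n⁻¹ • P ≤ P ⊔ N`
  have hle1 : ((P : Subgroup G)) ≤ (P : Subgroup G) ⊔ N := le_sup_left
  have hle2 : ((n⁻¹ • P : Sylow p G) : Subgroup G) ≤ (P : Subgroup G) ⊔ N := by
    intro y hy
    rw [Sylow.coe_subgroup_smul, Subgroup.mem_smul_pointwise_iff_exists] at hy
    obtain ⟨s, hs, rfl⟩ := hy
    simp only [MulAut.smul_def, MulAut.conj_apply, inv_inv]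
    -- `mk (n⁻¹ s n) ∈ Pb`
    have h3 : (QuotientGroup.mk' N n)⁻¹ * (QuotientGroup.mk' N s) * (QuotientGroup.mk' N n) ∈
        (Pb : Subgroup (G ⧸ N)) := by
      have := (mem_normalizer_iff''.mp hnb (QuotientGroup.mk' N s)).mp (hmk s hs)
      exact this
    rw [← map_inv, ← map_mul, ← map_mul] at h3
    obtain ⟨s', hs', hs'eq⟩ := h3
    have h4 : s'⁻¹ * (n⁻¹ * s * n) ∈ N := by
      rw [← QuotientGroup.eq]
      exact hs'eq
    have : n⁻¹ * s * n = s' * (s'⁻¹ * (n⁻¹ * s * n)) := by group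
    rw [this]
    exact Subgroup.mul_mem_sup hs' h4
  obtain ⟨m, hm⟩ := MulAction.exists_smul_eq (↥((P : Subgroup G) ⊔ N))
    ((n⁻¹ • P : Sylow p G).subtype hle2) (P.subtype hle1)
  simp_rw [Sylow.smul_subtype, Subgroup.smul_def, smul_smul] at hm
  have hnorm : (m : G) * n⁻¹ ∈ normalizer ((P : Subgroup G) : Set G) :=
    Sylow.smul_eq_iff_mem_normalizer.mp (Sylow.subtype_injective hm)
  obtain ⟨u, hu, k, hk, huk⟩ := Subgroup.mem_sup_of_normal_right.mp m.2
  refine ⟨((m : G) * n⁻¹)⁻¹, inv_mem hnorm, z, hzP, hzc, ?_⟩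
  rw [← QuotientGroup.eq_one_iff]
  have hk1 : (QuotientGroup.mk k : G ⧸ N) = 1 := (QuotientGroup.eq_one_iff k).mpr hk
  have hnx : (QuotientGroup.mk (n⁻¹ * x * n) : G ⧸ N) = QuotientGroup.mk z := by
    have := heq.symm
    simpa [hz] using this
  have huz : u * z = z * u := hzc u hu
  rw [inv_inv, ← huk]
  calc (QuotientGroup.mk (z⁻¹ * ((u * k * n⁻¹) * x * (u * k * n⁻¹)⁻¹)) : G ⧸ N)
      = QuotientGroup.mk (z⁻¹ * u * k * (n⁻¹ * x * n) * k⁻¹ * u⁻¹) := by
        congr 1; group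
    _ = (QuotientGroup.mk z)⁻¹ * QuotientGroup.mk u * QuotientGroup.mk k *
          QuotientGroup.mk (n⁻¹ * x * n) * (QuotientGroup.mk k)⁻¹ * (QuotientGroup.mk u)⁻¹ := by
        simp only [QuotientGroup.mk_mul, QuotientGroup.mk_inv]
    _ = QuotientGroup.mk (z⁻¹ * (u * z) * u⁻¹) := by
        rw [hk1, hnx]
        simp only [QuotientGroup.mk_mul, QuotientGroup.mk_inv, mul_one, inv_one, mul_assoc]
    _ = 1 := by
        rw [huz]
        have : z⁻¹ * (z * u) * u⁻¹ = 1 := by group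
        rw [this]; rfl



/-- Main lemma: if every element of `P` is conjugate into `Z(P)`, `P ∩ N` is abelian and the
image of `P` in `G ⧸ N` is abelian, then `P` is abelian. -/
theorem comm_of_normal [Finite G] [Fact p.Prime] (N : Subgroup G) [N.Normal]
    (P : Sylow p G)
    (hcen : ∀ x ∈ P, ∃ g : G, g⁻¹ * x * g ∈ P ∧
      ∀ y ∈ P, y * (g⁻¹ * x * g) = (g⁻¹ * x * g) * y)
    (hQ : ∀ a ∈ P, ∀ b ∈ P, a ∈ N → b ∈ N → a * b = b * a)
    (hbar : IsMulCommutative (P.mapSurjective (QuotientGroup.mk'_surjective N))) :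
    ∀ a ∈ P, ∀ b ∈ P, a * b = b * a := by
  -- conjugation by normalizer elements preserves `P`
  have hconjP : ∀ h ∈ normalizer ((P : Subgroup G) : Set G), ∀ y ∈ P, h⁻¹ * y * h ∈ P := by
    intro h hh y hy
    exact (mem_normalizer_iff''.mp hh y).mp hy
  have hconjN : ∀ h : G, ∀ y ∈ N, h⁻¹ * y * h ∈ N := by
    intro h y hy
    have := (inferInstance : N.Normal).conj_mem y hy h⁻¹
    simpa using this
  -- Claim 1
  have claim1 : ∀ x ∈ P, ∀ a ∈ P, a ∈ N → x * a = a * x := by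
    intro x hx a ha haN
    obtain ⟨h, hh, z, hzP, hzc, hq⟩ := exists_normalizer_conj N P hcen hbar hx
    set q := z⁻¹ * (h⁻¹ * x * h) with hqdef
    have hx'P : h⁻¹ * x * h ∈ P := hconjP h hh x hx
    have hqP : q ∈ P := mul_mem (inv_mem hzP) hx'P
    have hx' : h⁻¹ * x * h = z * q := by rw [hqdef]; group
    have ha'P : h⁻¹ * a * h ∈ P := hconjP h hh a ha
    have ha'N : h⁻¹ * a * h ∈ N := hconjN h a haN
    have e1 : q * (h⁻¹ * a * h) = (h⁻¹ * a * h) * q := hQ q hqP _ ha'P hq ha'N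
    have e2 : (h⁻¹ * a * h) * z = z * (h⁻¹ * a * h) := hzc _ ha'P
    have e3 : (h⁻¹ * x * h) * (h⁻¹ * a * h) = (h⁻¹ * a * h) * (h⁻¹ * x * h) := by
      rw [hx']
      calc z * q * (h⁻¹ * a * h) = z * (q * (h⁻¹ * a * h)) := by group
        _ = z * ((h⁻¹ * a * h) * q) := by rw [e1]
        _ = (z * (h⁻¹ * a * h)) * q := by group
        _ = ((h⁻¹ * a * h) * z) * q := by rw [e2]
        _ = h⁻¹ * a * h * (z * q) := by group
    have e4 : h⁻¹ * (x * a) * h = h⁻¹ * (a * x) * h := by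
      calc h⁻¹ * (x * a) * h = (h⁻¹ * x * h) * (h⁻¹ * a * h) := by group
        _ = (h⁻¹ * a * h) * (h⁻¹ * x * h) := e3
        _ = h⁻¹ * (a * x) * h := by group
    exact mul_left_cancel (mul_right_cancel e4)
  -- Claim 2
  intro x hx b hb
  obtain ⟨h, hh, z, hzP, hzc, hq⟩ := exists_normalizer_conj N P hcen hbar hx
  set q := z⁻¹ * (h⁻¹ * x * h) with hqdef
  have hx'P : h⁻¹ * x * h ∈ P := hconjP h hh x hx
  have hqP : q ∈ P := mul_mem (inv_mem hzP) hx'P
  have hx' : h⁻¹ * x * h = z * q := by rw [hqdef]; group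
  have hb'P : h⁻¹ * b * h ∈ P := hconjP h hh b hb
  have e1 : (h⁻¹ * b * h) * q = q * (h⁻¹ * b * h) := claim1 _ hb'P q hqP hq
  have e2 : (h⁻¹ * b * h) * z = z * (h⁻¹ * b * h) := hzc _ hb'P
  have e3 : (h⁻¹ * x * h) * (h⁻¹ * b * h) = (h⁻¹ * b * h) * (h⁻¹ * x * h) := by
    rw [hx']
    calc z * q * (h⁻¹ * b * h) = z * (q * (h⁻¹ * b * h)) := by group
      _ = z * ((h⁻¹ * b * h) * q) := by rw [e1]
      _ = (z * (h⁻¹ * b * h)) * q := by group
      _ = ((h⁻¹ * b * h) * z) * q := by rw [e2]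
      _ = h⁻¹ * b * h * (z * q) := by group
  have e4 : h⁻¹ * (x * b) * h = h⁻¹ * (b * x) * h := by
    calc h⁻¹ * (x * b) * h = (h⁻¹ * x * h) * (h⁻¹ * b * h) := by group
      _ = (h⁻¹ * b * h) * (h⁻¹ * x * h) := e3
      _ = h⁻¹ * (b * x) * h := by group
  exact mul_left_cancel (mul_right_cancel e4)

/-- The reduction theorem. -/
theorem sylow_comm_of_normal [Finite G] [Fact p.Prime] (h : Hyp p G) (N : Subgroup G) [N.Normal]
    (hN : ∀ T : Sylow p N, IsMulCommutative T)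
    (hGN : ∀ T : Sylow p (G ⧸ N), IsMulCommutative T) (P : Sylow p G) :
    ∀ a ∈ P, ∀ b ∈ P, a * b = b * a := by
  apply comm_of_normal N P (fun x hx => exists_conj_central h P hx) ?_ (hGN _)
  intro a ha b hb haN hbN
  have hpQ : IsPGroup p ((P : Subgroup G).subgroupOf N) := P.2.comap_subtype
  obtain ⟨T, hT⟩ := hpQ.exists_le_sylow
  have := hN T
  have haT : (⟨a, haN⟩ : N) ∈ T := hT (by rw [mem_subgroupOf]; exact ha)
  have hbT : (⟨b, hbN⟩ : N) ∈ T := hT (by rw [mem_subgroupOf]; exact hb)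
  have := congrArg Subtype.val (mul_comm' (⟨⟨a, haN⟩, haT⟩ : T) ⟨⟨b, hbN⟩, hbT⟩)
  exact congrArg Subtype.val this

end Cfsg.Agent.Lib.Helper9.PCentral
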