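import Mathlib
import Cfsg.Prelude.Def_PLocal
import Cfsg.Agent.Lib.Helper13.QdFree

/-!
# Element-wise `p`-closedness (helper9)

`PClosedE p G`: products of `p`-elements of `G` are `p`-elements.  It passes to quotients of finite
groups, and `Qd(p)` (`p` odd) does not have it.  Also: the translation subgroup of `Qd(p)`.
-/

set_option autoImplicit false
set_option linter.unusedSectionVars false
set_option linter.unusedVariables false

namespace Cfsg.Agent.Lib.Helper9.PClosedE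

open Matrix Cfsg.Agent.Lib.Helper13

/-- `x` is a `p`-element -/
def PElem (p : ℕ) {G : Type*} [Group G] (x : G) : Prop := ∃ k : ℕ, x ^ p ^ k = 1

/-- products of `p`-elements are `p`-elements -/
def PClosedE (p : ℕ) (G : Type*) [Group G] : Prop :=
  ∀ x y : G, PElem p x → PElem p y → PElem p (x * y)

section basic

variable {p : ℕ} {G : Type*} [Group G]

theorem PElem.map {H : Type*} [Group H] (f : G →* H) {x : G} (h : PElem p x) : PElem p (f x) := by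
  obtain ⟨k, hk⟩ := h
  exact ⟨k, by rw [← map_pow, hk, map_one]⟩

theorem isPGroup_zpowers {y : G} (hy : PElem p y) : IsPGroup p (Subgroup.zpowers y) := by
  obtain ⟨k, hk⟩ := hy
  rintro ⟨z, hz⟩
  obtain ⟨m, rfl⟩ := Subgroup.mem_zpowers_iff.mp hz
  refine ⟨k, Subtype.ext ?_⟩
  change (y ^ m) ^ p ^ k = 1
  rw [← zpow_natCast, ← _root_.zpow_mul, mul_comm, _root_.zpow_mul, zpow_natCast, hk, _root_.one_zpow]

variable [Fact p.Prime]

theorem exists_pelem_lift [Finite G] {Q : Type*} [Group Q] (f : G →* Q)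
    (hf : Function.Surjective f) (y : Q) (hy : PElem p y) : ∃ x : G, PElem p x ∧ f x = y := by
  obtain ⟨S, hS⟩ := (isPGroup_zpowers hy).exists_le_sylow
  obtain ⟨P₀, rfl⟩ := Sylow.mapSurjective_surjective hf p S
  have hy' : y ∈ ((Sylow.mapSurjective hf P₀ : Sylow p Q) : Subgroup Q) :=
    hS (Subgroup.mem_zpowers y)
  rw [Sylow.coe_mapSurjective, Subgroup.mem_map] at hy'
  obtain ⟨x, hx, rfl⟩ := hy'
  obtain ⟨k, hk⟩ := P₀.2 ⟨x, hx⟩
  exact ⟨x, ⟨k, congrArg Subtype.val hk⟩, rfl⟩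

theorem PClosedE.of_surjective [Finite G] {Q : Type*} [Group Q] (h : PClosedE p G) (f : G →* Q)
    (hf : Function.Surjective f) : PClosedE p Q := by
  intro a b ha hb
  obtain ⟨x, hx, rfl⟩ := exists_pelem_lift f hf a ha
  obtain ⟨y, hy, rfl⟩ := exists_pelem_lift f hf b hb
  rw [← map_mul]
  exact (h x y hx hy).map f

end basic

section qd

/-- the lower transvection `[[1,0,0],[-1,1,0],[0,0,1]]` -/
def qdL (R : Type*) [CommRing R] : SpecialLinearGroup (Fin 3) R :=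
  ⟨!![1, 0, 0; -1, 1, 0; 0, 0, 1], by simp [Matrix.det_fin_three]⟩

theorem qdL_coe (R : Type*) [CommRing R] :
    (qdL R : Matrix (Fin 3) (Fin 3) R) = !![1, 0, 0; -1, 1, 0; 0, 0, 1] := rfl

theorem pow_eq_one_of_cube (p : ℕ) [Fact p.Prime] {R : Type*} [CommRing R] [CharP R p]
    (M : SpecialLinearGroup (Fin 3) R) (hN : ((M : Matrix (Fin 3) (Fin 3) R) - 1) ^ 3 = 0) :
    M ^ p ^ 2 = 1 := by
  apply Subtype.ext
  change (M : Matrix (Fin 3) (Fin 3) R) ^ (p ^ 2) = 1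
  set N := (M : Matrix (Fin 3) (Fin 3) R) - 1 with hNdef
  have hMN : (M : Matrix (Fin 3) (Fin 3) R) = 1 + N := by rw [hNdef]; abel
  have hp : p.Prime := Fact.out
  have : CharP (Matrix (Fin 3) (Fin 3) R) p := Matrix.charP p
  rw [hMN, add_pow_char_pow_of_commute (p := p) (n := 2) (Commute.one_left N), one_pow]
  have h3 : 3 ≤ p ^ 2 := by nlinarith [hp.two_le]
  rw [← Nat.sub_add_cancel h3, pow_add, hN, mul_zero, add_zero]

theorem qdX_mem (p : ℕ) : qdX (ZMod p) ∈ Cfsg.qd p := by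
  apply Subgroup.subset_closure
  refine ⟨?_, ?_, ?_⟩ <;> simp [qdX_coe]

theorem qdY_mem (p : ℕ) : qdY (ZMod p) ∈ Cfsg.qd p := by
  apply Subgroup.subset_closure
  refine ⟨?_, ?_, ?_⟩ <;> simp [qdY_coe]

theorem qdL_mem (p : ℕ) : qdL (ZMod p) ∈ Cfsg.qd p := by
  apply Subgroup.subset_closure
  refine ⟨?_, ?_, ?_⟩ <;> simp [qdL_coe]

theorem qdX_cube (R : Type*) [CommRing R] :
    ((qdX R : Matrix (Fin 3) (Fin 3) R) - 1) ^ 3 = 0 := by
  ext i j
  fin_cases i <;> fin_cases j <;>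
    simp [qdX_coe, pow_succ, Matrix.mul_apply, Fin.sum_univ_three]

theorem qdL_cube (R : Type*) [CommRing R] :
    ((qdL R : Matrix (Fin 3) (Fin 3) R) - 1) ^ 3 = 0 := by
  ext i j
  fin_cases i <;> fin_cases j <;>
    simp [qdL_coe, pow_succ, Matrix.mul_apply, Fin.sum_univ_three]

theorem qd_word (R : Type*) [CommRing R] :
    (qdX R : Matrix (Fin 3) (Fin 3) R) * (qdL R : Matrix (Fin 3) (Fin 3) R) *
      (qdX R : Matrix (Fin 3) (Fin 3) R) * ((qdX R : Matrix (Fin 3) (Fin 3) R) *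
      (qdL R : Matrix (Fin 3) (Fin 3) R) * (qdX R : Matrix (Fin 3) (Fin 3) R))
      = !![-1, 0, 0; 0, -1, 0; 0, 0, 1] := by
  rw [qdX_coe, qdL_coe]
  ext i j
  fin_cases i <;> fin_cases j <;>
    simp [Matrix.mul_apply, Fin.sum_univ_three]

/-- `Qd(p)`, `p` odd, is not `p`-closed -/
theorem not_pclosedE_qd (p : ℕ) [Fact p.Prime] (hp : p ≠ 2) : ¬ PClosedE p (Cfsg.qd p) := by
  intro h
  have hpp : p.Prime := Fact.out
  have hX : PElem p (⟨qdX (ZMod p), qdX_mem p⟩ : Cfsg.qd p) :=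
    ⟨2, Subtype.ext (pow_eq_one_of_cube p _ (qdX_cube _))⟩
  have hL : PElem p (⟨qdL (ZMod p), qdL_mem p⟩ : Cfsg.qd p) :=
    ⟨2, Subtype.ext (pow_eq_one_of_cube p _ (qdL_cube _))⟩
  have hw := h _ _ (h _ _ hX hL) hX
  obtain ⟨k, hk⟩ := h _ _ hw hw
  have hk0 := congrArg (fun t : Cfsg.qd p => (t : SpecialLinearGroup (Fin 3) (ZMod p))) hk
  simp only [Subgroup.coe_pow, Subgroup.coe_mul, Subgroup.coe_one] at hk0
  have hk' : ((qdX (ZMod p) : Matrix (Fin 3) (Fin 3) (ZMod p)) *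
      (qdL (ZMod p) : Matrix (Fin 3) (Fin 3) (ZMod p)) *
      (qdX (ZMod p) : Matrix (Fin 3) (Fin 3) (ZMod p)) *
      ((qdX (ZMod p) : Matrix (Fin 3) (Fin 3) (ZMod p)) *
      (qdL (ZMod p) : Matrix (Fin 3) (Fin 3) (ZMod p)) *
      (qdX (ZMod p) : Matrix (Fin 3) (Fin 3) (ZMod p)))) ^ p ^ k = 1 := by
    have := congrArg (fun t : SpecialLinearGroup (Fin 3) (ZMod p) =>
      (t : Matrix (Fin 3) (Fin 3) (ZMod p))) hk0
    exact this
  rw [qd_word (ZMod p)] at hk'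
  set D : Matrix (Fin 3) (Fin 3) (ZMod p) := !![-1, 0, 0; 0, -1, 0; 0, 0, 1] with hDdef
  have hDD : D * D = 1 := by
    rw [hDdef]
    ext i j
    fin_cases i <;> fin_cases j <;> simp [Matrix.mul_apply, Fin.sum_univ_three]
  have hodd : Odd (p ^ k) := (hpp.odd_of_ne_two hp).pow
  obtain ⟨m, hm⟩ := hodd
  rw [hm, pow_succ, pow_mul, pow_two, hDD, one_pow, one_mul] at hk'
  have h00 := congrFun (congrFun hk' 0) 0
  rw [hDdef] at h00
  simp at h00
  have h2 : ((2 : ℕ) : ZMod p) = 0 := by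
    push_cast
    linear_combination -h00
  have h3 := (ZMod.natCast_eq_zero_iff 2 p).mp h2
  exact hp ((Nat.prime_dvd_prime_iff_eq hpp Nat.prime_two).mp h3)

end qd

section trans

/-- the affine subgroup: last row `(0, 0, 1)` -/
def aff3 (R : Type*) [CommRing R] : Subgroup (SpecialLinearGroup (Fin 3) R) where
  carrier := {M | (M : Matrix (Fin 3) (Fin 3) R) 2 0 = 0 ∧ (M : Matrix (Fin 3) (Fin 3) R) 2 1 = 0 ∧
    (M : Matrix (Fin 3) (Fin 3) R) 2 2 = 1}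
  mul_mem' := by
    rintro a b ⟨h1, h2, h3⟩ ⟨k1, k2, k3⟩
    refine ⟨?_, ?_, ?_⟩ <;>
      simp [Matrix.mul_apply, Fin.sum_univ_three, h1, h2, h3, k1, k2, k3]
  one_mem' := by
    refine ⟨?_, ?_, ?_⟩ <;> simp
  inv_mem' := by
    rintro a ⟨h1, h2, h3⟩
    have hdet := a.2
    rw [Matrix.det_fin_three] at hdet
    simp only [h1, h2, h3] at hdet
    refine ⟨?_, ?_, ?_⟩
    · simp [Matrix.adjugate_fin_three, h1, h2, h3]
    · simp [Matrix.adjugate_fin_three, h1, h2, h3]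
    · simp [Matrix.adjugate_fin_three, h1, h2, h3]
      linear_combination hdet

theorem qd_le_aff3 (p : ℕ) : Cfsg.qd p ≤ aff3 (ZMod p) :=
  (Subgroup.closure_le _).2 (fun M hM => hM)

/-- the translation subgroup -/
def tsub3 (R : Type*) [CommRing R] : Subgroup (SpecialLinearGroup (Fin 3) R) where
  carrier := {M | (M : Matrix (Fin 3) (Fin 3) R) 0 0 = 1 ∧ (M : Matrix (Fin 3) (Fin 3) R) 0 1 = 0 ∧
    (M : Matrix (Fin 3) (Fin 3) R) 1 0 = 0 ∧ (M : Matrix (Fin 3) (Fin 3) R) 1 1 = 1 ∧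
    (M : Matrix (Fin 3) (Fin 3) R) 2 0 = 0 ∧ (M : Matrix (Fin 3) (Fin 3) R) 2 1 = 0 ∧
    (M : Matrix (Fin 3) (Fin 3) R) 2 2 = 1}
  mul_mem' := by
    rintro a b ⟨h1, h2, h3, h4, h5, h6, h7⟩ ⟨k1, k2, k3, k4, k5, k6, k7⟩
    refine ⟨?_, ?_, ?_, ?_, ?_, ?_, ?_⟩ <;>
      simp [Matrix.mul_apply, Fin.sum_univ_three, h1, h2, h3, h4, h5, h6, h7,
        k1, k2, k3, k4, k5, k6, k7]
  one_mem' := by
    refine ⟨?_, ?_, ?_, ?_, ?_, ?_, ?_⟩ <;> simp
  inv_mem' := by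
    rintro a ⟨h1, h2, h3, h4, h5, h6, h7⟩
    refine ⟨?_, ?_, ?_, ?_, ?_, ?_, ?_⟩ <;>
      simp [Matrix.adjugate_fin_three, h1, h2, h3, h4, h5, h6, h7]

theorem tsub3_le_unitri3 (R : Type*) [CommRing R] : tsub3 R ≤ unitri3 R := by
  rintro M ⟨h1, h2, h3, h4, h5, h6, h7⟩
  exact ⟨h1, h4, h7, h3, h5, h6⟩

theorem tsub3_conj {R : Type*} [CommRing R] {g t : SpecialLinearGroup (Fin 3) R}
    (hg : g ∈ aff3 R) (ht : t ∈ tsub3 R) : g * t * g⁻¹ ∈ tsub3 R := by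
  have hk := (aff3 R).inv_mem hg
  have hgk : ((g * g⁻¹ : SpecialLinearGroup (Fin 3) R) : Matrix (Fin 3) (Fin 3) R) = 1 := by
    rw [mul_inv_cancel]; rfl
  generalize g⁻¹ = k at hk hgk ⊢
  obtain ⟨g1, g2, g3⟩ := hg
  obtain ⟨k1, k2, k3⟩ := hk
  obtain ⟨t1, t2, t3, t4, t5, t6, t7⟩ := ht
  have e00 := congrFun (congrFun hgk 0) 0
  have e01 := congrFun (congrFun hgk 0) 1
  have e10 := congrFun (congrFun hgk 1) 0
  have e11 := congrFun (congrFun hgk 1) 1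
  simp [Matrix.mul_apply, Fin.sum_univ_three, k1, k2] at e00 e01 e10 e11
  refine ⟨?_, ?_, ?_, ?_, ?_, ?_, ?_⟩ <;>
    simp [Matrix.mul_apply, Fin.sum_univ_three, g1, g2, g3,
      k1, k2, k3, t1, t2, t3, t4, t5, t6, t7]
  · linear_combination e00
  · linear_combination e01
  · linear_combination e10
  · linear_combination e11

/-- the translation subgroup of `Qd(p)` -/
def Tp (p : ℕ) : Subgroup (Cfsg.qd p) := (tsub3 (ZMod p)).subgroupOf (Cfsg.qd p)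

instance Tp_normal (p : ℕ) : (Tp p).Normal := by
  constructor
  intro t ht g
  rw [Tp, Subgroup.mem_subgroupOf] at ht ⊢
  exact tsub3_conj (qd_le_aff3 p g.2) ht

theorem isPGroup_Tp (p : ℕ) [Fact p.Prime] : IsPGroup p (Tp p) :=
  ((isPGroup_unitri3 p).to_le (tsub3_le_unitri3 (ZMod p))).comap_subtype

theorem Tp_ne_bot (p : ℕ) [Fact p.Prime] : Tp p ≠ ⊥ := by
  intro h
  have hy : (⟨qdY (ZMod p), qdY_mem p⟩ : Cfsg.qd p) ∈ Tp p := by
    rw [Tp, Subgroup.mem_subgroupOf]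
    refine ⟨?_, ?_, ?_, ?_, ?_, ?_, ?_⟩ <;> simp [qdY_coe]
  rw [h, Subgroup.mem_bot] at hy
  have h1 := congrArg (fun t : Cfsg.qd p => ((t : SpecialLinearGroup (Fin 3) (ZMod p)) :
    Matrix (Fin 3) (Fin 3) (ZMod p)) 1 2) hy
  have hp : p.Prime := Fact.out
  have : Fact (1 < p) := ⟨hp.one_lt⟩
  simp [qdY_coe] at h1

end trans

end Cfsg.Agent.Lib.Helper9.PClosedE
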