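import Cfsg.Agent.Lib.Helper9.PLocal
import Cfsg.Agent.Lib.Helper9.PConstrained
import Cfsg.Agent.Lib.Helper9.PComponentEquiv
import Cfsg.Agent.Lib.Helper9.PComponent4
import Cfsg.Agent.Lib.Helper9.FStar4

/-!
Helper lemmas (helper9): `p`-constraint passes to subnormal subgroups, to normalizers and centralizers of
`p`-subgroups.
-/

set_option autoImplicit false

namespace Cfsg.Agent.Lib.Helper9

universe u

variable {X : Type u} [Group X]

/-- Triviality of the `p`-layer is invariant under isomorphism. -/
theorem pLayer_eq_bot_of_equiv {X' : Type*} [Group X'] (p : ℕ) (e : X ≃* X')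
    (h : Cfsg.pLayer p X = ⊥) : Cfsg.pLayer p X' = ⊥ := by
  have h1 := pLayer_map_equiv_le p e.symm
  rw [h, le_bot_iff] at h1
  exact (Subgroup.map_eq_bot_iff_of_injective _ e.symm.injective).mp h1

/-- Triviality of the layer is invariant under isomorphism. -/
theorem layer_eq_bot_of_equiv {A B : Type*} [Group A] [Group B] (e : A ≃* B)
    (h : Cfsg.layer A = ⊥) : Cfsg.layer B = ⊥ := by
  rw [← layer_map_equiv e, h, Subgroup.map_bot]

/-- The `p`-layer of a subnormal subgroup of a group with trivial `p`-layer is trivial. -/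
theorem pLayer_eq_bot_of_subnormal [Finite X] (p : ℕ) [Fact p.Prime] {M : Subgroup X}
    (hM : M.IsSubnormal) (h : Cfsg.pLayer p X = ⊥) : Cfsg.pLayer p ↥M = ⊥ := by
  rw [pLayer_eq_bot_iff] at h ⊢
  have hS : (M.map (QuotientGroup.mk' (Cfsg.pPrimeCore p X))).IsSubnormal :=
    hM.map (QuotientGroup.mk'_surjective _)
  have h1 := layer_map_subtype_le hS
  rw [h, le_bot_iff] at h1
  have h2 : Cfsg.layer ↥(M.map (QuotientGroup.mk' (Cfsg.pPrimeCore p X))) = ⊥ :=
    (Subgroup.map_eq_bot_iff_of_injective _ (Subgroup.subtype_injective _)).mp h1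
  exact layer_eq_bot_of_equiv (quotientPPrimeCoreEquivMap p hM).symm h2

/-- A subnormal subgroup of a `p`-constrained group is `p`-constrained. -/
theorem isPConstrained_of_subnormal [Finite X] (p : ℕ) [Fact p.Prime] {M : Subgroup X}
    (hM : M.IsSubnormal) (h : Cfsg.IsPConstrained p X) : Cfsg.IsPConstrained p ↥M := by
  rw [isPConstrained_iff_pLayer_eq_bot] at h ⊢
  exact pLayer_eq_bot_of_subnormal p hM h

/-- `p`-constraint is invariant under isomorphism. -/
theorem isPConstrained_of_equiv {X' : Type u} [Group X'] [Finite X] (p : ℕ) [Fact p.Prime]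
    (e : X ≃* X') (h : Cfsg.IsPConstrained p X) : Cfsg.IsPConstrained p X' := by
  haveI : Finite X' := Finite.of_equiv X e.toEquiv
  rw [isPConstrained_iff_pLayer_eq_bot] at h ⊢
  exact pLayer_eq_bot_of_equiv p e h

/-- The normalizer of a `p`-subgroup of a `p`-constrained group is `p`-constrained. -/
theorem isPConstrained_normalizer [Finite X] {p : ℕ} [Fact p.Prime]
    (h : Cfsg.IsPConstrained p X) {P : Subgroup X} (hP : IsPGroup p ↥P) :
    Cfsg.IsPConstrained p ↥(Subgroup.normalizer (P : Set X)) := by
  rw [isPConstrained_iff_pLayer_eq_bot] at h ⊢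
  exact pLayer_normalizer_eq_bot h hP

/-- The centralizer of a `p`-subgroup of a `p`-constrained group is `p`-constrained. -/
theorem isPConstrained_centralizer [Finite X] {p : ℕ} [Fact p.Prime]
    (h : Cfsg.IsPConstrained p X) {P : Subgroup X} (hP : IsPGroup p ↥P) :
    Cfsg.IsPConstrained p ↥(Subgroup.centralizer (P : Set X)) := by
  have hN := isPConstrained_normalizer h hP
  have hle : Subgroup.centralizer (P : Set X) ≤ Subgroup.normalizer (P : Set X) :=
    Subgroup.centralizer_le_normalizer _
  haveI hn : ((Subgroup.centralizer (P : Set X)).subgroupOf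
      (Subgroup.normalizer (P : Set X))).Normal := by
    have : (Subgroup.centralizer (P : Set X)).subgroupOf (Subgroup.normalizer (P : Set X)) =
        Subgroup.centralizer
          ((P.subgroupOf (Subgroup.normalizer (P : Set X)) :
            Subgroup ↥(Subgroup.normalizer (P : Set X))) :
            Set ↥(Subgroup.normalizer (P : Set X))) := by
      ext x
      rw [Subgroup.mem_subgroupOf, Subgroup.mem_centralizer_iff, Subgroup.mem_centralizer_iff]
      constructor
      · intro hx a ha
        apply Subtype.ext
        exact hx (a : X) (Subgroup.mem_subgroupOf.mp ha)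
      · intro hx a ha
        have hmem : a ∈ Subgroup.normalizer (P : Set X) := Subgroup.le_normalizer ha
        have := hx ⟨a, hmem⟩ (Subgroup.mem_subgroupOf.mpr ha)
        exact congrArg Subtype.val this
    rw [this]
    haveI : (P.subgroupOf (Subgroup.normalizer (P : Set X))).Normal :=
      Subgroup.normal_in_normalizer
    infer_instance
  have h1 := isPConstrained_of_subnormal p hn.isSubnormal hN
  exact isPConstrained_of_equiv p (Subgroup.subgroupOfEquivOfLe hle) h1

end Cfsg.Agent.Lib.Helper9
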