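/-
helper9: generic lemmas for S1542 (Peterfalvi (12.2)-type coherence of a Frobenius Type I maximal
subgroup):
* `indFun_apply_of_TI'`, `indFun_eq_dadeIsometry_of_TI`: for a T.I. subgroup `H` with "normalizer"
  `L` the Dade map with trivial supports is ordinary induction;
* `commutator_eq_bot_of_isCyclic`: a nilpotent group with cyclic abelianization is abelian;
* `card_dvd_of_isCyclic_sylow`: if all Sylow subgroups are cyclic, the order divides every exponent.
-/
import Mathlib
import Cfsg.Prelude.Def_OddOrderChar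
import Cfsg.Agent.Lib.Helper10.TIInd
import Cfsg.Agent.Lib.Helper10.Dade3

set_option autoImplicit false
set_option linter.unusedSectionVars false
set_option linter.style.haveILetI false

namespace Cfsg.Agent.Lib.Helper9.PF122

open Cfsg Cfsg.Agent.Lib.Helper10
open scoped commutatorElement

section TI

variable {G : Type*} [Group G] [Fintype G]

/-- Values of an induced class function on the non-identity elements of a subgroup `H` which is
T.I. relative to `L`. -/
theorem indFun_apply_of_TI' (L H : Subgroup G)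
    (hTI : ∀ g : G, g ∉ L → ∀ s ∈ H, g * s * g⁻¹ ∈ H → s = 1)
    (α : L → ℂ) (hα : IsClassFunction L α)
    (hvan : ∀ x : L, (x : G) ∉ H → α x = 0)
    (x : L) (hxH : (x : G) ∈ H) (hx1 : (x : G) ≠ 1) :
    indFun L α x = α x := by
  classical
  have hN0 : (Nat.card L : ℂ) ≠ 0 := Nat.cast_ne_zero.mpr Nat.card_pos.ne'
  have key : ∀ g : G, extendByZero L α (g⁻¹ * x * g) = if g ∈ L then α x else 0 := by
    intro g
    by_cases hg : g ∈ L
    · rw [if_pos hg]
      have hmem : g⁻¹ * x * g ∈ L :=
        Subgroup.mul_mem _ (Subgroup.mul_mem _ (Subgroup.inv_mem _ hg) x.2) hg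
      rw [extendByZero_apply_mem _ _ hmem]
      have h1 := hα x ⟨g⁻¹, Subgroup.inv_mem _ hg⟩
      rw [← h1]
      congr 1
      apply Subtype.ext
      simp
    · rw [if_neg hg]
      by_cases hc : g⁻¹ * x * g ∈ L
      · rw [extendByZero_apply_mem _ _ hc]
        by_cases hcS : g⁻¹ * (x : G) * g ∈ H
        · exfalso
          apply hx1
          have hg' : g⁻¹ ∉ L := fun h => hg (by simpa using Subgroup.inv_mem _ h)
          exact hTI g⁻¹ hg' x hxH (by simpa using hcS)
        · exact hvan ⟨_, hc⟩ hcS
      · rw [extendByZero_apply_not_mem _ _ hc]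
  unfold indFun
  simp_rw [key]
  rw [Finset.sum_ite, Finset.sum_const_zero, add_zero, Finset.sum_const, nsmul_eq_mul]
  have hcard : (Finset.univ.filter (fun g : G => g ∈ L)).card = Nat.card L := by
    rw [Nat.card_eq_fintype_card, Fintype.card_subtype]
  rw [hcard]
  field_simp

/-- If `H ≤ L` is T.I. relative to `L`, the non-identity elements of `H` lie in `A` and have
trivial supports, then on class functions of `L` supported on `H` minus the identity the Dade map
is ordinary induction. -/
theorem indFun_eq_dadeIsometry_of_TI (A : Set G) (L : Subgroup G) (R : G → Subgroup G)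
    (H : Subgroup G) (hD : DadeHypothesis A L R)
    (hTI : ∀ g : G, g ∉ L → ∀ s ∈ H, g * s * g⁻¹ ∈ H → s = 1)
    (hHA : ∀ s ∈ H, s ≠ 1 → s ∈ A) (hR : ∀ s ∈ H, s ≠ 1 → R s = ⊥)
    (α : L → ℂ) (hα : IsClassFunction L α) (hvan : ∀ x : L, (x : G) ∉ H → α x = 0)
    (hα1 : α 1 = 0) :
    indFun L α = dadeIsometry A L R α := by
  classical
  funext g
  by_cases hg : ∃ (y : G) (s : L), (s : G) ∈ H ∧ (s : G) ≠ 1 ∧ y * g * y⁻¹ = s
  · obtain ⟨y, s, hsH, hs1, hys⟩ := hg
    have ht : dadeValid A L R g (y, s, 1) := by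
      refine ⟨hHA _ hsH hs1, Subgroup.one_mem _, ?_⟩
      show y * g * y⁻¹ = (s : G) * 1
      rw [mul_one, hys]
    rw [dadeIsometry_eq_of_valid hD hα ht]
    show indFun L α g = α s
    have h1 : indFun L α g = indFun L α (y * g * y⁻¹) := (isClassFunction_indFun L α g y).symm
    rw [h1, hys]
    exact indFun_apply_of_TI' L H hTI α hα hvan s hsH hs1
  · have hind : indFun L α g = 0 := by
      unfold indFun
      rw [Finset.sum_eq_zero, mul_zero]
      intro x _
      by_cases hc : x⁻¹ * g * x ∈ L
      · rw [extendByZero_apply_mem _ _ hc]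
        by_cases hcH : x⁻¹ * g * x ∈ H
        · by_cases hc1 : x⁻¹ * g * x = 1
          · have : (⟨x⁻¹ * g * x, hc⟩ : L) = 1 := Subtype.ext hc1
            rw [this, hα1]
          · exfalso
            apply hg
            refine ⟨x⁻¹, ⟨x⁻¹ * g * x, hc⟩, hcH, hc1, ?_⟩
            simp
        · exact hvan ⟨_, hc⟩ hcH
      · rw [extendByZero_apply_not_mem _ _ hc]
    rw [hind]
    by_cases hv : ∃ t : G × L × G, dadeValid A L R g t
    · obtain ⟨t, ht⟩ := hv
      rw [dadeIsometry_eq_of_valid hD hα ht]
      by_cases htH : (t.2.1 : G) ∈ H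
      · by_cases ht1 : (t.2.1 : G) = 1
        · have : t.2.1 = 1 := Subtype.ext ht1
          rw [this, hα1]
        · exfalso
          apply hg
          have hu : t.2.2 ∈ R (t.2.1 : G) := ht.2.1
          rw [hR _ htH ht1, Subgroup.mem_bot] at hu
          refine ⟨t.1, t.2.1, htH, ht1, ?_⟩
          have := ht.2.2
          rw [hu, mul_one] at this
          exact this
      · exact (hvan _ htH).symm
    · push Not at hv
      rw [dadeIsometry_eq_zero hv]

end TI

section Groups

/-- A nilpotent group with cyclic abelianization is abelian. -/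
theorem commutator_eq_bot_of_isCyclic {T : Type*} [Group T] [hn : Group.IsNilpotent T]
    (hc : IsCyclic (T ⧸ commutator T)) : commutator T = ⊥ := by
  -- `K = [T', T]`
  set K : Subgroup T := ⁅commutator T, (⊤ : Subgroup T)⁆ with hK
  haveI hKn : K.Normal := by rw [hK]; infer_instance
  have hKle : K ≤ commutator T := by
    rw [hK]
    exact Subgroup.commutator_le_left _ _
  -- `T ⧸ K` is commutative
  have hcomm : ∀ a b : T ⧸ K, a * b = b * a := by
    let f : T ⧸ K →* T ⧸ commutator T := QuotientGroup.map K (commutator T) (MonoidHom.id T) hKle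
    have hker : f.ker ≤ Subgroup.center (T ⧸ K) := by
      intro a ha
      obtain ⟨c, rfl⟩ := QuotientGroup.mk_surjective a
      have hc' : c ∈ commutator T := by
        have h1 : f (c : T ⧸ K) = ((c : T) : T ⧸ commutator T) := rfl
        rw [MonoidHom.mem_ker, h1, QuotientGroup.eq_one_iff] at ha
        exact ha
      rw [Subgroup.mem_center_iff]
      intro b
      obtain ⟨t, rfl⟩ := QuotientGroup.mk_surjective b
      have h2 : ⁅c, t⁆ ∈ K := Subgroup.commutator_mem_commutator hc' (Subgroup.mem_top t)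
      have h3 : ((⁅c, t⁆ : T) : T ⧸ K) = 1 := (QuotientGroup.eq_one_iff _).mpr h2
      have h4 : ((c * t * c⁻¹ * t⁻¹ : T) : T ⧸ K) = 1 := by
        rw [← h3, commutatorElement_def]
      have h5 : ((c : T) : T ⧸ K) * (t : T ⧸ K) * ((c : T) : T ⧸ K)⁻¹ * ((t : T) : T ⧸ K)⁻¹ = 1 := by
        simpa using h4
      have h6 : ((c : T) : T ⧸ K) * (t : T ⧸ K) = (t : T ⧸ K) * (c : T ⧸ K) := by
        have := congrArg (fun z => z * ((t : T) : T ⧸ K) * ((c : T) : T ⧸ K)) h5
        simpa [mul_assoc] using this
      exact h6.symm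
    intro a b
    haveI := MonoidHom.isMulCommutative_of_isCyclic_of_ker_le_center f hker
    exact mul_comm' a b
  have hle : commutator T ≤ K := by
    letI : CommGroup (T ⧸ K) := { (inferInstance : Group (T ⧸ K)) with mul_comm := hcomm }
    have := Abelianization.commutator_subset_ker (QuotientGroup.mk' K)
    rwa [QuotientGroup.ker_mk'] at this
  have heq : K = commutator T := le_antisymm hKle hle
  -- the lower central series is constant from step 1 on
  have hconst : ∀ n : ℕ, (⊤ : Subgroup T).lowerCentralSeries (n + 1) = commutator T := by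
    intro n
    induction n with
    | zero => exact Subgroup.top_lowerCentralSeries_one
    | succ n ih => rw [Subgroup.lowerCentralSeries_succ, ih, ← hK, heq]
  obtain ⟨n, hn⟩ := Subgroup.nilpotent_iff_lowerCentralSeries.mp hn
  cases n with
  | zero =>
    rw [Subgroup.lowerCentralSeries_zero] at hn
    rw [eq_bot_iff, ← hn]
    exact le_top
  | succ n => rw [← hconst n, hn]

/-- If all Sylow subgroups of the finite group `U` are cyclic and `u ^ m = 1` for all `u`, then the
order of `U` divides `m`. -/
theorem card_dvd_of_isCyclic_sylow {U : Type*} [Group U] [Finite U]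
    (hcyc : ∀ (q : ℕ) [Fact q.Prime] (P : Sylow q U), IsCyclic (P : Subgroup U))
    (m : ℕ) (hm0 : m ≠ 0) (hm : ∀ u : U, u ^ m = 1) : Nat.card U ∣ m := by
  have hU0 : Nat.card U ≠ 0 := Nat.card_pos.ne'
  rw [← Nat.factorization_prime_le_iff_dvd hU0 hm0]
  intro q hq
  haveI : Fact q.Prime := ⟨hq⟩
  obtain P : Sylow q U := default
  haveI := hcyc q P
  obtain ⟨g, hg⟩ := IsCyclic.exists_generator (α := (P : Subgroup U))
  have hord : orderOf g = Nat.card (P : Subgroup U) := orderOf_eq_card_of_forall_mem_zpowers hg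
  have hcardP : Nat.card (P : Subgroup U) = q ^ (Nat.card U).factorization q :=
    Sylow.card_eq_multiplicity P
  have h1 : g ^ m = 1 := by
    apply Subtype.ext
    have := hm (g : U)
    simpa using this
  have h2 : orderOf g ∣ m := orderOf_dvd_of_pow_eq_one h1
  rw [hord, hcardP] at h2
  exact (hq.pow_dvd_iff_le_factorization hm0).mp h2

/-- A non-abelian `p`-subgroup `H` has `|H : H'| ≥ p ^ 2`. -/
theorem sq_le_relIndex_commutator {N : Type*} [Group N] [Finite N] (H : Subgroup N) (p : ℕ)
    [hp : Fact p.Prime] (hpH : IsPGroup p H) (hne : ⁅H, H⁆ ≠ ⊥) :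
    p ^ 2 ≤ (⁅H, H⁆).relIndex H := by
  have h1 : (⁅H, H⁆).subgroupOf H = commutator H := by
    rw [← Subgroup.map_subtype_commutator]
    exact Subgroup.comap_map_eq_self_of_injective H.subtype_injective _
  unfold Subgroup.relIndex
  rw [h1]
  obtain ⟨n, hn⟩ := hpH.index (commutator H)
  rw [hn]
  by_contra hlt
  push Not at hlt
  have hn1 : n ≤ 1 := by
    by_contra h
    push Not at h
    have : p ^ 2 ≤ p ^ n := Nat.pow_le_pow_right hp.out.pos h
    omega
  have hcard : Nat.card (H ⧸ commutator H) = p ^ n := by rw [← Subgroup.index_eq_card, hn]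
  have hcyc : IsCyclic (H ⧸ commutator H) := by
    interval_cases n
    · rw [pow_zero] at hcard
      haveI : Subsingleton (H ⧸ commutator H) := (Nat.card_eq_one_iff_unique.mp hcard).1
      exact isCyclic_of_subsingleton
    · rw [pow_one] at hcard
      exact isCyclic_of_prime_card hcard
  haveI : Group.IsNilpotent H := hpH.isNilpotent
  have h2 := commutator_eq_bot_of_isCyclic hcyc
  apply hne
  rw [← Subgroup.map_subtype_commutator, h2, Subgroup.map_bot]

/-- The arithmetic of the exceptional case: an odd divisor `e` of `p - 1` (`p` an odd prime) has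
`4 e ^ 2 + 1 < p ^ 2`. -/
theorem four_mul_sq_add_one_lt (e p : ℕ) (he : Odd e) (hp : p.Prime) (hp2 : p ≠ 2)
    (hd : e ∣ p - 1) : 4 * e ^ 2 + 1 < p ^ 2 := by
  have hpodd : Odd p := hp.odd_of_ne_two hp2
  have h2 : 2 ∣ p - 1 := by
    obtain ⟨k, hk⟩ := hpodd
    exact ⟨k, by omega⟩
  have hcop : Nat.Coprime 2 e := (Nat.coprime_two_left).mpr he
  have h2e : 2 * e ∣ p - 1 := hcop.mul_dvd_of_dvd_of_dvd h2 hd
  have hpos : 0 < p - 1 := by
    have := hp.two_le
    omega
  have hle : 2 * e ≤ p - 1 := Nat.le_of_dvd hpos h2e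
  have hle' : 2 * e + 1 ≤ p := by omega
  have he1 : 1 ≤ e := he.pos
  have hsq : (2 * e + 1) * (2 * e + 1) ≤ p * p := Nat.mul_le_mul hle' hle'
  nlinarith

end Groups

end Cfsg.Agent.Lib.Helper9.PF122
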