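import Mathlib

/-!
# Sylow 2-subgroups of `PGL₂(q)` for a Mersenne prime `q` meet nontrivially

`NN` is the normaliser of the nonsplit torus (matrices commuting or anticommuting with the
rotation `A0`); its image in `PGL₂(q)` is a 2-group when `q + 1 = 2 ^ k`.  For any `Y`, the
commutator matrix `[A0, Y A0 Y⁻¹]` (or `A0` itself) lies in `NN ∩ Y NN Y⁻¹` and is not central.
-/

set_option autoImplicit false
set_option linter.unusedSectionVars false

namespace Cfsg.Agent.Lib.Helper9.PGLMersenne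

open Matrix
open scoped Pointwise

variable {q : ℕ} [Fact q.Prime]

abbrev M2 (q : ℕ) := Matrix (Fin 2) (Fin 2) (ZMod q)

/-- The rotation matrix of order four. -/
def A0 : M2 q := !![0, -1; 1, 0]

theorem mul_A0 (D : M2 q) : D * A0 = !![D 0 1, -D 0 0; D 1 1, -D 1 0] := by
  ext i j
  fin_cases i <;> fin_cases j <;> simp [A0, Matrix.mul_apply, Fin.sum_univ_two]

theorem A0_mul (D : M2 q) : A0 * D = !![-D 1 0, -D 1 1; D 0 0, D 0 1] := by
  ext i j
  fin_cases i <;> fin_cases j <;> simp [A0, Matrix.mul_apply, Fin.sum_univ_two]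

theorem anti_entries {D : M2 q} (h : D * A0 = -(A0 * D)) : D 1 0 = D 0 1 ∧ D 1 1 = -D 0 0 := by
  rw [mul_A0, A0_mul] at h
  have h00 := congrFun (congrFun h 0) 0
  have h01 := congrFun (congrFun h 0) 1
  simp at h00 h01
  exact ⟨h00.symm, by rw [h01]⟩

theorem comm_entries {D : M2 q} (h : D * A0 = A0 * D) : D 0 1 = -D 1 0 ∧ D 1 1 = D 0 0 := by
  rw [mul_A0, A0_mul] at h
  have h00 := congrFun (congrFun h 0) 0
  have h01 := congrFun (congrFun h 0) 1
  simp at h00 h01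
  exact ⟨h00, h01.symm⟩

theorem A0_sq : (A0 : M2 q) * A0 = -1 := by
  rw [mul_A0]
  ext i j
  fin_cases i <;> fin_cases j <;> simp [A0]

theorem q_mod_four {k : ℕ} (hk : q + 1 = 2 ^ k) (hq : 7 ≤ q) : q % 4 = 3 := by
  have hk3 : 3 ≤ k := by
    by_contra h
    push Not at h
    have : 2 ^ k ≤ 2 ^ 2 := Nat.pow_le_pow_right (by norm_num) (by omega)
    omega
  obtain ⟨j, rfl⟩ := Nat.exists_eq_add_of_le hk3
  rw [pow_add] at hk
  omega

theorem two_ne_zero' (h3 : q % 4 = 3) : (2 : ZMod q) ≠ 0 := by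
  intro h
  have h2 : ((2 : ℕ) : ZMod q) = 0 := by exact_mod_cast h
  rw [ZMod.natCast_eq_zero_iff] at h2
  have := Nat.le_of_dvd (by norm_num) h2
  have hq2 : 2 ≤ q := (Fact.out : q.Prime).two_le
  have : q = 2 := by omega
  omega

theorem sq_add_sq_eq_zero (h3 : q % 4 = 3) {x y : ZMod q} (h : x * x + y * y = 0) :
    x = 0 ∧ y = 0 := by
  have hns : ¬ IsSquare (-1 : ZMod q) := by
    rw [ZMod.exists_sq_eq_neg_one_iff]; push Not; exact h3
  by_cases hy : y = 0
  · subst hy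
    simp at h
    exact ⟨h, rfl⟩
  · exfalso
    apply hns
    refine ⟨x * y⁻¹, ?_⟩
    field_simp
    linear_combination -h

/-- Commuting or anticommuting with `A0`. -/
def Nrm (B : M2 q) : Prop := B * A0 = A0 * B ∨ B * A0 = -(A0 * B)

theorem nrm_one : Nrm (1 : M2 q) := by left; simp

theorem nrm_mul {B C : M2 q} (hB : Nrm B) (hC : Nrm C) : Nrm (B * C) := by
  rcases hB with hB | hB <;> rcases hC with hC | hC
  · left; rw [mul_assoc, hC, ← mul_assoc, hB, mul_assoc]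
  · right; rw [mul_assoc, hC, mul_neg, ← mul_assoc, hB, mul_assoc]
  · right; rw [mul_assoc, hC, ← mul_assoc, hB, neg_mul, mul_assoc]
  · left; rw [mul_assoc, hC, mul_neg, ← mul_assoc, hB, neg_mul, neg_neg, mul_assoc]

theorem nrm_inv {B C : M2 q} (h1 : C * B = 1) (h2 : B * C = 1) (hB : Nrm B) : Nrm C := by
  rcases hB with hB | hB
  · left
    calc C * A0 = C * A0 * (B * C) := by rw [h2, mul_one]
      _ = C * (B * A0) * C := by rw [hB]; simp only [mul_assoc]
      _ = A0 * C := by rw [← mul_assoc, h1, one_mul]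
  · right
    have hB' : A0 * B = -(B * A0) := by rw [hB, neg_neg]
    calc C * A0 = C * A0 * (B * C) := by rw [h2, mul_one]
      _ = C * (A0 * B) * C := by simp only [mul_assoc]
      _ = -(A0 * C) := by rw [hB', mul_neg, neg_mul, ← mul_assoc, h1, one_mul]

/-- The normaliser of the nonsplit torus. -/
def NN : Subgroup (GL (Fin 2) (ZMod q)) where
  carrier := {X | Nrm (X : M2 q)}
  one_mem' := nrm_one
  mul_mem' := fun {X Y} hX hY => by
    show Nrm ((X * Y : GL (Fin 2) (ZMod q)) : M2 q)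
    rw [Units.val_mul]
    exact nrm_mul hX hY
  inv_mem' := fun {X} hX => by
    show Nrm ((X⁻¹ : GL (Fin 2) (ZMod q)) : M2 q)
    refine nrm_inv ?_ ?_ hX
    · rw [← Units.val_mul, inv_mul_cancel]; rfl
    · rw [← Units.val_mul, mul_inv_cancel]; rfl

theorem mem_NN {X : GL (Fin 2) (ZMod q)} : X ∈ (NN : Subgroup (GL (Fin 2) (ZMod q))) ↔
    Nrm (X : M2 q) := Iff.rfl

theorem A0_pow (n : ℕ) (h3 : n % 4 = 3) : (A0 : M2 q) ^ n = -A0 := by
  have h4 : (A0 : M2 q) ^ 4 = 1 := by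
    have : (A0 : M2 q) ^ 4 = (A0 * A0) * (A0 * A0) := by
      rw [pow_succ, pow_succ, pow_succ, pow_one]; simp only [mul_assoc]
    rw [this, A0_sq]; simp
  obtain ⟨m, rfl⟩ : ∃ m, n = 4 * m + 3 := ⟨n / 4, by omega⟩
  rw [pow_add, pow_mul, h4, one_pow, one_mul]
  have : (A0 : M2 q) ^ 3 = (A0 * A0) * A0 := by
    rw [pow_succ, pow_succ, pow_one]
  rw [this, A0_sq]; simp

/-- A matrix commuting with `A0` is `a + b A0`. -/
theorem comm_form {B : M2 q} (h : B * A0 = A0 * B) :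
    B = (B 0 0) • (1 : M2 q) + (B 1 0) • A0 := by
  obtain ⟨h01, h11⟩ := comm_entries h
  ext i j
  fin_cases i <;> fin_cases j <;> simp [A0, h01, h11]

theorem pow_succ_q (h3 : q % 4 = 3) (a b : ZMod q) :
    (a • (1 : M2 q) + b • A0) ^ (q + 1) = (a * a + b * b) • (1 : M2 q) := by
  have hc : Commute (a • (1 : M2 q)) (b • A0) := by
    unfold Commute SemiconjBy
    simp only [smul_mul_assoc, mul_smul_comm, one_mul, mul_one]
    rw [smul_comm]
  have e1 : (a • (1 : M2 q) + b • A0) ^ q = a • (1 : M2 q) - b • A0 := by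
    rw [add_pow_char_of_commute q hc, smul_pow, smul_pow, one_pow, ZMod.pow_card, ZMod.pow_card,
      A0_pow q h3, smul_neg, sub_eq_add_neg]
  rw [pow_succ, e1]
  ext i j
  fin_cases i <;> fin_cases j <;> simp [A0, Matrix.mul_apply, Fin.sum_univ_two] <;> ring

theorem scalar_mem_center (X : GL (Fin 2) (ZMod q)) (c : ZMod q) (h : (X : M2 q) = c • 1) :
    X ∈ Subgroup.center (GL (Fin 2) (ZMod q)) := by
  rw [Subgroup.mem_center_iff]
  intro g
  apply Units.ext
  rw [Units.val_mul, Units.val_mul, h]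
  simp

theorem pow_mem_center_of_comm (h3 : q % 4 = 3) {k : ℕ} (hk : q + 1 = 2 ^ k)
    (X : GL (Fin 2) (ZMod q)) (hX : (X : M2 q) * A0 = A0 * (X : M2 q)) :
    X ^ (2 ^ k) ∈ Subgroup.center (GL (Fin 2) (ZMod q)) := by
  apply scalar_mem_center _ ((X : M2 q) 0 0 * (X : M2 q) 0 0 + (X : M2 q) 1 0 * (X : M2 q) 1 0)
  rw [← hk, Units.val_pow_eq_pow_val]
  conv_lhs => rw [comm_form hX]
  exact pow_succ_q h3 _ _

theorem pow_mem_center (h3 : q % 4 = 3) {k : ℕ} (hk : q + 1 = 2 ^ k)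
    (X : GL (Fin 2) (ZMod q)) (hX : X ∈ (NN : Subgroup (GL (Fin 2) (ZMod q)))) :
    X ^ (2 ^ (k + 1)) ∈ Subgroup.center (GL (Fin 2) (ZMod q)) := by
  rcases hX with hX | hX
  · rw [pow_succ, pow_mul]
    exact Subgroup.pow_mem _ (pow_mem_center_of_comm h3 hk X hX) 2
  · have h2 : ((X ^ 2 : GL (Fin 2) (ZMod q)) : M2 q) * A0 =
        A0 * ((X ^ 2 : GL (Fin 2) (ZMod q)) : M2 q) := by
      rw [Units.val_pow_eq_pow_val, pow_two, mul_assoc, hX, mul_neg, ← mul_assoc, hX, neg_mul,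
        neg_neg, mul_assoc]
    have := pow_mem_center_of_comm h3 hk (X ^ 2) h2
    rw [← pow_mul, ← pow_succ'] at this
    exact this

theorem isPGroup_M (h3 : q % 4 = 3) {k : ℕ} (hk : q + 1 = 2 ^ k) :
    IsPGroup 2 ((NN : Subgroup (GL (Fin 2) (ZMod q))).map
      (QuotientGroup.mk' (Subgroup.center (GL (Fin 2) (ZMod q))))) := by
  rintro ⟨m, X, hX, rfl⟩
  refine ⟨k + 1, ?_⟩
  apply Subtype.ext
  show (QuotientGroup.mk' _ X) ^ (2 ^ (k + 1)) = 1
  rw [← map_pow]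
  exact (QuotientGroup.eq_one_iff _).mpr (pow_mem_center h3 hk X hX)

/-- An anticommuting matrix with zero determinant vanishes. -/
theorem eq_zero_of_anti_of_det (h3 : q % 4 = 3) {D : M2 q} (h : D * A0 = -(A0 * D))
    (hd : D.det = 0) : D = 0 := by
  obtain ⟨h10, h11⟩ := anti_entries h
  rw [Matrix.det_fin_two, h10, h11] at hd
  have hd' : D 0 0 * D 0 0 + D 0 1 * D 0 1 = 0 := by
    linear_combination (-1 : ZMod q) * hd
  obtain ⟨e0, e1⟩ := sq_add_sq_eq_zero h3 hd'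
  ext i j
  fin_cases i <;> fin_cases j <;> simp [e0, e1, h10, h11]

/-- Transport of (anti)commutation along conjugation. -/
theorem conj_comm {Ym Yim E : M2 q} (h1 : Ym * Yim = 1) (h2 : Yim * Ym = 1)
    (h : E * (Ym * A0 * Yim) = Ym * A0 * Yim * E) :
    (Yim * E * Ym) * A0 = A0 * (Yim * E * Ym) := by
  calc (Yim * E * Ym) * A0 = Yim * (E * (Ym * A0 * Yim)) * Ym := by
        simp only [mul_assoc]; rw [h2, mul_one]
    _ = Yim * (Ym * A0 * Yim * E) * Ym := by rw [h]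
    _ = (Yim * Ym) * A0 * (Yim * E * Ym) := by simp only [mul_assoc]
    _ = A0 * (Yim * E * Ym) := by rw [h2, one_mul]

theorem conj_anti {Ym Yim E : M2 q} (h1 : Ym * Yim = 1) (h2 : Yim * Ym = 1)
    (h : E * (Ym * A0 * Yim) = -(Ym * A0 * Yim * E)) :
    (Yim * E * Ym) * A0 = -(A0 * (Yim * E * Ym)) := by
  calc (Yim * E * Ym) * A0 = Yim * (E * (Ym * A0 * Yim)) * Ym := by
        simp only [mul_assoc]; rw [h2, mul_one]
    _ = -(Yim * (Ym * A0 * Yim * E) * Ym) := by rw [h]; simp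
    _ = -((Yim * Ym) * A0 * (Yim * E * Ym)) := by simp only [mul_assoc]
    _ = -(A0 * (Yim * E * Ym)) := by rw [h2, one_mul]

theorem det_A0 : (A0 : M2 q).det ≠ 0 := by
  unfold A0
  rw [Matrix.det_fin_two_of]
  simp

theorem det_J (h3 : q % 4 = 3) : (!![1, 0; 0, -1] : M2 q).det ≠ 0 := by
  rw [Matrix.det_fin_two_of]
  simp

/-- `A0` as an element of the general linear group. -/
noncomputable def g0 : GL (Fin 2) (ZMod q) := Matrix.GeneralLinearGroup.mkOfDetNeZero A0 det_A0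

theorem g0_val : ((g0 : GL (Fin 2) (ZMod q)) : M2 q) = A0 := rfl

theorem g0_not_central (h3 : q % 4 = 3) :
    (g0 : GL (Fin 2) (ZMod q)) ∉ Subgroup.center (GL (Fin 2) (ZMod q)) := by
  intro hc
  rw [Subgroup.mem_center_iff] at hc
  have h := hc (Matrix.GeneralLinearGroup.mkOfDetNeZero _ (det_J h3))
  have h' := congrArg (fun u : GL (Fin 2) (ZMod q) => (u : M2 q)) h
  simp only [Units.val_mul] at h'
  have e1 : ((Matrix.GeneralLinearGroup.mkOfDetNeZero _ (det_J h3) : GL (Fin 2) (ZMod q)) : M2 q)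
      = !![1, 0; 0, -1] := rfl
  rw [e1, g0_val, mul_A0, A0_mul] at h'
  have h01 := congrFun (congrFun h' 0) 1
  simp at h01
  apply two_ne_zero' h3
  linear_combination (-1 : ZMod q) * h01

theorem exists_common (h3 : q % 4 = 3) (Y : GL (Fin 2) (ZMod q)) :
    ∃ X : GL (Fin 2) (ZMod q), X ∈ (NN : Subgroup (GL (Fin 2) (ZMod q))) ∧
      Y⁻¹ * X * Y ∈ (NN : Subgroup (GL (Fin 2) (ZMod q))) ∧
      X ∉ Subgroup.center (GL (Fin 2) (ZMod q)) := by
  set Ym : M2 q := (Y : M2 q) with hYm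
  set Yim : M2 q := ((Y⁻¹ : GL (Fin 2) (ZMod q)) : M2 q) with hYim
  have h1 : Ym * Yim = 1 := by
    rw [hYm, hYim, ← Units.val_mul, mul_inv_cancel]; rfl
  have h2 : Yim * Ym = 1 := by
    rw [hYm, hYim, ← Units.val_mul, inv_mul_cancel]; rfl
  set A1 : M2 q := Ym * A0 * Yim with hA1
  have hA1sq : A1 * A1 = -1 := by
    calc A1 * A1 = Ym * A0 * (Yim * Ym) * A0 * Yim := by rw [hA1]; simp only [mul_assoc]
      _ = Ym * (A0 * A0) * Yim := by rw [h2, mul_one]; simp only [mul_assoc]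
      _ = -1 := by rw [A0_sq]; simp [h1]
  set D : M2 q := A0 * A1 - A1 * A0 with hD
  have hD0 : D * A0 = -(A0 * D) := by
    have e1 : D * A0 = A0 * A1 * A0 + A1 := by
      rw [hD, sub_mul, mul_assoc A1 A0 A0, A0_sq]; simp
    have e2 : A0 * D = -A1 - A0 * A1 * A0 := by
      rw [hD, mul_sub, ← mul_assoc A0 A0 A1, A0_sq, neg_one_mul, ← mul_assoc]
    rw [e1, e2]; abel
  have hD1 : D * A1 = -(A1 * D) := by
    have e1 : D * A1 = -A0 - A1 * A0 * A1 := by
      rw [hD, sub_mul, mul_assoc A0 A1 A1, hA1sq]; simp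
    have e2 : A1 * D = A1 * A0 * A1 + A0 := by
      rw [hD, mul_sub, ← mul_assoc A1 A1 A0, hA1sq, ← mul_assoc]; simp
    rw [e1, e2]; abel
  have hval : ∀ X : GL (Fin 2) (ZMod q),
      ((Y⁻¹ * X * Y : GL (Fin 2) (ZMod q)) : M2 q) = Yim * (X : M2 q) * Ym := by
    intro X
    rw [Units.val_mul, Units.val_mul]
  by_cases hDz : D = 0
  · refine ⟨g0, Or.inl rfl, ?_, g0_not_central h3⟩
    rw [mem_NN, hval, g0_val]
    left
    apply conj_comm h1 h2
    have : A0 * A1 - A1 * A0 = 0 := hDz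
    exact sub_eq_zero.mp this
  · have hdet : D.det ≠ 0 := fun hd => hDz (eq_zero_of_anti_of_det h3 hD0 hd)
    refine ⟨Matrix.GeneralLinearGroup.mkOfDetNeZero D hdet, Or.inr hD0, ?_, ?_⟩
    · rw [mem_NN, hval]
      right
      exact conj_anti h1 h2 hD1
    · intro hc
      rw [Subgroup.mem_center_iff] at hc
      have h := hc g0
      have h' := congrArg (fun u : GL (Fin 2) (ZMod q) => (u : M2 q)) h
      simp only [Units.val_mul] at h'
      have e1 : ((Matrix.GeneralLinearGroup.mkOfDetNeZero D hdet : GL (Fin 2) (ZMod q)) : M2 q)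
          = D := rfl
      rw [e1, g0_val] at h'
      -- `A0 * D = D * A0 = -(A0 * D)`
      have h3' : A0 * D = -(A0 * D) := by rw [← hD0]; exact h'
      have h4 : (2 : ZMod q) • (A0 * D) = 0 := by
        rw [two_smul]
        nth_rewrite 1 [h3']
        simp
      have h5 : A0 * D = 0 := by
        rcases smul_eq_zero.mp h4 with h | h
        · exact absurd h (two_ne_zero' h3)
        · exact h
      apply hDz
      calc D = -((A0 * A0) * D) := by rw [A0_sq]; simp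
        _ = -(A0 * (A0 * D)) := by rw [mul_assoc]
        _ = 0 := by rw [h5]; simp

/-- Any two Sylow 2-subgroups of `PGL₂(q)`, `q` a Mersenne prime, meet nontrivially. -/
theorem sylow_inf_ne_bot {k : ℕ} (hk : q + 1 = 2 ^ k) (hq : 7 ≤ q)
    (H : Sylow 2 (GL (Fin 2) (ZMod q) ⧸ Subgroup.center (GL (Fin 2) (ZMod q))))
    (x : GL (Fin 2) (ZMod q) ⧸ Subgroup.center (GL (Fin 2) (ZMod q))) :
    (H : Subgroup (GL (Fin 2) (ZMod q) ⧸ Subgroup.center (GL (Fin 2) (ZMod q)))) ⊓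
      MulAut.conj x •
        (H : Subgroup (GL (Fin 2) (ZMod q) ⧸ Subgroup.center (GL (Fin 2) (ZMod q)))) ≠ ⊥ := by
  have h3 := q_mod_four hk hq
  have : Fact (Nat.Prime 2) := ⟨Nat.prime_two⟩
  obtain ⟨P₀, hP₀⟩ := (isPGroup_M h3 hk).exists_le_sylow
  obtain ⟨g, hg⟩ := MulAction.exists_smul_eq
    (GL (Fin 2) (ZMod q) ⧸ Subgroup.center (GL (Fin 2) (ZMod q))) P₀ H
  have hH : ∀ z, z ∈ (H : Subgroup (GL (Fin 2) (ZMod q) ⧸ Subgroup.center (GL (Fin 2) (ZMod q))))
      ↔ g⁻¹ * z * g ∈ (P₀ : Subgroup _) := by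
    intro z
    rw [← hg, Sylow.smul_def, Sylow.pointwise_smul_def,
      Subgroup.mem_pointwise_smul_iff_inv_smul_mem, MulAut.smul_def, MulAut.conj_inv_apply]
  obtain ⟨Y, hY⟩ := QuotientGroup.mk_surjective (g⁻¹ * x * g)
  obtain ⟨X, hX1, hX2, hX3⟩ := exists_common h3 Y
  set mk := QuotientGroup.mk' (Subgroup.center (GL (Fin 2) (ZMod q))) with hmk
  have hmX : mk X ∈ (P₀ : Subgroup _) := hP₀ ⟨X, hX1, rfl⟩
  have hmX2 : mk (Y⁻¹ * X * Y) ∈ (P₀ : Subgroup _) := hP₀ ⟨_, hX2, rfl⟩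
  have hmk1 : mk X ≠ 1 := by
    intro h
    exact hX3 ((QuotientGroup.eq_one_iff _).mp h)
  intro hbot
  have hmem : g * mk X * g⁻¹ ∈
      (H : Subgroup (GL (Fin 2) (ZMod q) ⧸ Subgroup.center (GL (Fin 2) (ZMod q)))) ⊓
        MulAut.conj x •
          (H : Subgroup (GL (Fin 2) (ZMod q) ⧸ Subgroup.center (GL (Fin 2) (ZMod q)))) := by
    refine Subgroup.mem_inf.mpr ⟨?_, ?_⟩
    · rw [hH]
      have : g⁻¹ * (g * mk X * g⁻¹) * g = mk X := by group
      rw [this]; exact hmX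
    · rw [Subgroup.mem_pointwise_smul_iff_inv_smul_mem, MulAut.smul_def,
        MulAut.conj_inv_apply, hH]
      have e : g⁻¹ * (x⁻¹ * (g * mk X * g⁻¹) * x) * g =
          (g⁻¹ * x * g)⁻¹ * mk X * (g⁻¹ * x * g) := by group
      rw [e, ← hY]
      have : (QuotientGroup.mk Y : GL (Fin 2) (ZMod q) ⧸ Subgroup.center (GL (Fin 2) (ZMod q)))
          = mk Y := rfl
      rw [this, ← map_inv, ← map_mul, ← map_mul]
      exact hmX2
  rw [hbot, Subgroup.mem_bot] at hmem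
  apply hmk1
  have : mk X = g⁻¹ * (g * mk X * g⁻¹) * g := by group
  rw [this, hmem]; group

end Cfsg.Agent.Lib.Helper9.PGLMersenne
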