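/-
helper9: S4640 leaf (K): `k(B) = [G:N] k(b)` from conjuncts 3 and 4 (pure fibre counting).
-/
import Mathlib
import Cfsg.Agent.Lib.Helper6.Fong
import Cfsg.Agent.Lib.Helper6.FongGen
import Cfsg.Agent.Lib.Helper6.SubsectionCount

set_option autoImplicit false

namespace Cfsg.Agent.Lib.Helper9.PIK

open Cfsg

universe u

variable {G : Type u} [Group G] [Fintype G] {p : ℕ} [hpp : Fact p.Prime] {M : Ideal AlgInt}
  (N : Subgroup G) [hN : N.Normal] [Fintype N]

omit [Fintype G] hN [Fintype N] in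
/-- (K) conjunct 5 from 3 and 4 (pure counting). -/
theorem card_eq_index_mul_card [Finite G] (b : Set (IrrCharacter N)) (B : Set (IrrCharacter G))
    (h3 : ∀ χ ∈ B, ∃ θ ∈ b, ∀ n : N, (χ : G → ℂ) n = (θ : N → ℂ) n)
    (h4 : ∀ θ ∈ b, Nat.card {χ : IrrCharacter G // χ ∈ B ∧
      ∀ n : N, (χ : G → ℂ) n = (θ : N → ℂ) n} = N.index) :
    Nat.card B = N.index * Nat.card b := by
  classical
  haveI : Finite (IrrCharacter G) := Cfsg.Agent.CharLib.finite_irrCharacter
  haveI : Finite (IrrCharacter N) := Cfsg.Agent.CharLib.finite_irrCharacter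
  haveI : Finite B := Set.toFinite B |>.to_subtype
  haveI : Finite b := Set.toFinite b |>.to_subtype
  letI : Fintype b := Fintype.ofFinite b
  -- the fibre map
  let f : B → b := fun χ => ⟨(h3 χ.1 χ.2).choose, (h3 χ.1 χ.2).choose_spec.1⟩
  have hf : ∀ χ : B, ∀ n : N, ((χ : IrrCharacter G) : G → ℂ) n = ((f χ : IrrCharacter N) : N → ℂ) n :=
    fun χ => (h3 χ.1 χ.2).choose_spec.2
  have hfib : ∀ y : b, Nat.card {x : B // f x = y} = N.index := by
    intro y
    rw [← h4 y.1 y.2]
    have e1 : {x : B // f x = y} ≃ {x : B // ∀ n : N, ((x : IrrCharacter G) : G → ℂ) n =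
        ((y : IrrCharacter N) : N → ℂ) n} := by
      apply Equiv.subtypeEquivRight
      intro x
      constructor
      · intro hxy n
        rw [hf x n, hxy]
      · intro hx
        apply Subtype.ext
        apply Subtype.ext
        funext n
        rw [← hf x n, hx n]
    have e2 : {x : B // ∀ n : N, ((x : IrrCharacter G) : G → ℂ) n =
        ((y : IrrCharacter N) : N → ℂ) n} ≃ {χ : IrrCharacter G // χ ∈ B ∧
        ∀ n : N, (χ : G → ℂ) n = ((y : IrrCharacter N) : N → ℂ) n} :=
      Equiv.subtypeSubtypeEquivSubtypeInter (fun χ : IrrCharacter G => χ ∈ B)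
        (fun χ : IrrCharacter G => ∀ n : N, (χ : G → ℂ) n = ((y : IrrCharacter N) : N → ℂ) n)
    exact Nat.card_congr (e1.trans e2)
  rw [Nat.card_congr (Equiv.sigmaFiberEquiv f).symm, Nat.card_sigma]
  simp only [hfib, Finset.sum_const, Finset.card_univ, smul_eq_mul]
  rw [Nat.card_eq_fintype_card, mul_comm]

end Cfsg.Agent.Lib.Helper9.PIK
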