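/-
helper9: S4640 leaf (L): `l(B) = l(b)` when restriction to the normal subgroup `N` of `p`-power index
maps `B` onto `b` (the `p`-regular elements of `G` lie in `N`).
-/
import Mathlib
import Cfsg.Agent.Lib.Helper6.Fong
import Cfsg.Agent.Lib.Helper6.FongGen
import Cfsg.Agent.Lib.Helper6.SubsectionCount

set_option autoImplicit false
set_option linter.unusedSectionVars false

namespace Cfsg.Agent.Lib.Helper9.PIL

open Cfsg

universe u

variable {G : Type u} [Group G] [Fintype G] {p : ℕ} [hpp : Fact p.Prime] {M : Ideal AlgInt}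
  (N : Subgroup G) [hN : N.Normal] [Fintype N]

omit [Fintype G] [Fintype N] in
/-- the `p`-regular elements lie in a normal subgroup of `p`-power index. -/
theorem mem_of_isPRegular [Finite G] (hNi : ∃ k : ℕ, N.index = p ^ k) (g : G)
    (hg : IsPRegular p g) : g ∈ N := by
  obtain ⟨k, hk⟩ := hNi
  have h1 : ((g : G ⧸ N)) ^ (p ^ k) = 1 := by
    rw [← hk, Subgroup.index_eq_card]
    exact pow_card_eq_one'
  have h2 : ((g : G ⧸ N)) ^ (orderOf g) = 1 := by
    rw [← QuotientGroup.mk_pow, pow_orderOf_eq_one]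
    rfl
  have hcop : Nat.Coprime (orderOf g) (p ^ k) := by
    apply Nat.Coprime.pow_right
    exact (Nat.Prime.coprime_iff_not_dvd hpp.out).mpr hg |>.symm
  have h3 : ((g : G ⧸ N)) ^ (Nat.gcd (orderOf g) (p ^ k)) = 1 := pow_gcd_eq_one.mpr ⟨h2, h1⟩
  rw [hcop.gcd_eq_one, pow_one] at h3
  exact (QuotientGroup.eq_one_iff g).mp h3

omit [Fintype G] hN [Fintype N] in
theorem pRegularPart_comp_val (χ : G → ℂ) :
    (pRegularPart p χ) ∘ (Subtype.val : N → G) = pRegularPart p (χ ∘ (Subtype.val : N → G)) := by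
  funext n
  have hiff : IsPRegular p (n : G) ↔ IsPRegular p n := by
    unfold IsPRegular
    rw [Subgroup.orderOf_coe]
  by_cases h : IsPRegular p (n : G)
  · have h' := hiff.mp h
    simp [pRegularPart, h, h']
  · have h' : ¬ IsPRegular p n := fun hh => h (hiff.mpr hh)
    simp [pRegularPart, h, h']

omit [Fintype G] [Fintype N] in
/-- (L) conjunct 6 from 3 and the surjectivity part of 4. -/
theorem blockRank_eq_of_res [Finite G] (hNi : ∃ k : ℕ, N.index = p ^ k)
    (b : Set (IrrCharacter N)) (B : Set (IrrCharacter G))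
    (h3 : ∀ χ ∈ B, ∃ θ ∈ b, ∀ n : N, (χ : G → ℂ) n = (θ : N → ℂ) n)
    (h4 : ∀ θ ∈ b, ∃ χ ∈ B, ∀ n : N, (χ : G → ℂ) n = (θ : N → ℂ) n) :
    blockRank p B = blockRank p b := by
  classical
  unfold blockRank
  set SB : Set (G → ℂ) := (fun χ : IrrCharacter G => pRegularPart p (χ : G → ℂ)) '' B with hSB
  set Sb : Set (N → ℂ) := (fun θ : IrrCharacter N => pRegularPart p (θ : N → ℂ)) '' b with hSb
  let R : (G → ℂ) →ₗ[ℂ] (N → ℂ) := LinearMap.funLeft ℂ ℂ (Subtype.val : N → G)
  have hR : ∀ f : G → ℂ, R f = f ∘ (Subtype.val : N → G) := fun f => rfl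
  -- the image of the generators
  have himg : R '' SB = Sb := by
    ext φ
    constructor
    · rintro ⟨_, ⟨χ, hχ, rfl⟩, rfl⟩
      obtain ⟨θ, hθ, hres⟩ := h3 χ hχ
      refine ⟨θ, hθ, ?_⟩
      change pRegularPart p (θ : N → ℂ) = R (pRegularPart p (χ : G → ℂ))
      rw [hR, pRegularPart_comp_val]
      congr 1
      funext n
      exact (hres n).symm
    · rintro ⟨θ, hθ, rfl⟩
      obtain ⟨χ, hχ, hres⟩ := h4 θ hθ
      refine ⟨pRegularPart p (χ : G → ℂ), ⟨χ, hχ, rfl⟩, ?_⟩
      rw [hR, pRegularPart_comp_val]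
      change pRegularPart p _ = pRegularPart p (θ : N → ℂ)
      congr 1
      funext n
      exact hres n
  have hmap : Submodule.map R (Submodule.span ℂ SB) = Submodule.span ℂ Sb := by
    rw [Submodule.map_span, himg]
  -- members of the span vanish off `N`
  have hvan : ∀ f ∈ Submodule.span ℂ SB, ∀ g : G, g ∉ N → f g = 0 := by
    intro f hf
    induction hf using Submodule.span_induction with
    | mem x hx =>
      obtain ⟨χ, _, rfl⟩ := hx
      intro g hg
      have hreg : ¬ IsPRegular p g := fun h => hg (mem_of_isPRegular N hNi g h)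
      simp [pRegularPart, hreg]
    | zero => intro g _; rfl
    | add x y _ _ hx hy =>
      intro g hg
      rw [Pi.add_apply, hx g hg, hy g hg, add_zero]
    | smul a x _ hx =>
      intro g hg
      rw [Pi.smul_apply, hx g hg, smul_zero]
  -- injectivity on the span
  let R' : ↥(Submodule.span ℂ SB) →ₗ[ℂ] (N → ℂ) := R.domRestrict (Submodule.span ℂ SB)
  have hinj : Function.Injective R' := by
    rw [← LinearMap.ker_eq_bot, LinearMap.ker_eq_bot']
    intro f hf
    apply Subtype.ext
    funext g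
    by_cases hg : g ∈ N
    · have := congrFun hf ⟨g, hg⟩
      exact this
    · exact hvan f.1 f.2 g hg
  have hrange : LinearMap.range R' = Submodule.span ℂ Sb := by
    rw [← hmap]
    exact LinearMap.range_domRestrict _ _
  rw [← hrange]
  exact (LinearMap.finrank_range_of_inj hinj).symm

end Cfsg.Agent.Lib.Helper9.PIL
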