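import Cfsg.Agent.Lib.Helper9.SpExtremal
import Cfsg.Agent.S0246
import Cfsg.Prelude.Def_CaseTheorems

set_option autoImplicit false
set_option linter.unusedSectionVars false

namespace Cfsg.Agent.Lib.Helper9.PSpRank

open Module Matrix Cfsg.Agent.Lib.Helper9.SpExtremal

section psp

variable {F : Type*} [Field F] [Fintype F]

theorem psp_prankLE (h2 : (2 : F) ≠ 0) (m : ℕ) (hm : 3 ≤ m) :
    Cfsg.PRankLE 2 (2 * m - 1) (Cfsg.PSp m F) := by
  intro Abar hAc hAe
  let G := Matrix.symplecticGroup (Fin m) F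
  let N : Subgroup (Matrix.symplecticGroup (Fin m) F) :=
    Subgroup.center (Matrix.symplecticGroup (Fin m) F)
  let π : Matrix.symplecticGroup (Fin m) F →* Cfsg.PSp m F := QuotientGroup.mk' N
  let Eg : Subgroup (Matrix.symplecticGroup (Fin m) F) := Abar.comap π
  let zg : Matrix.symplecticGroup (Fin m) F :=
    ⟨-1, SymplecticGroup.neg_mem (Submonoid.one_mem _)⟩
  have hzg : (zg : Matrix (Fin m ⊕ Fin m) (Fin m ⊕ Fin m) F) = -1 := rfl
  have hzN : zg ∈ N := by
    rw [Subgroup.mem_center_iff]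
    intro x
    apply Subtype.ext
    change (x : Matrix (Fin m ⊕ Fin m) (Fin m ⊕ Fin m) F) * zg = zg * x
    rw [hzg, neg_one_mul, mul_neg_one]
  have hπN : ∀ c, c ∈ N → π c = 1 := fun c hc => (QuotientGroup.eq_one_iff c).2 hc
  have hzE : zg ∈ Eg := by
    change π zg ∈ Abar
    rw [hπN zg hzN]
    exact Abar.one_mem
  have hN : ∀ c, c ∈ N → c = 1 ∨ c = zg := by
    intro c hc
    rcases Cfsg.Agent.S0246.center_scalar m (by omega) c hc with h | h
    · left; exact Subtype.ext h
    · right; exact Subtype.ext (by rw [h, hzg])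
  have hzmul : ∀ x : Matrix.symplecticGroup (Fin m) F, zg * x = x * zg := fun x =>
    (Subgroup.mem_center_iff.1 hzN x).symm
  have hcomm : ∀ x ∈ Eg, ∀ y ∈ Eg, x * y = y * x ∨ x * y = zg * (y * x) := by
    intro x hx y hy
    have h1 : π x * π y = π y * π x :=
      congrArg Subtype.val (hAc.is_comm.comm (⟨π x, hx⟩ : Abar) ⟨π y, hy⟩)
    have h3 : (y * x)⁻¹ * (x * y) ∈ N := by
      rw [← QuotientGroup.eq_one_iff]
      change π ((y * x)⁻¹ * (x * y)) = 1
      rw [map_mul, map_inv, map_mul, map_mul, h1, inv_mul_cancel]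
    rcases hN _ h3 with h | h
    · left
      have := congrArg (fun t => (y * x) * t) h
      simp only [mul_inv_cancel_left, mul_one] at this
      exact this
    · right
      have := congrArg (fun t => (y * x) * t) h
      simp only [mul_inv_cancel_left] at this
      rw [this, hzmul]
  have hsq : ∀ x ∈ Eg, x * x = 1 ∨ x * x = zg := by
    intro x hx
    have h1 : π x ^ 2 = 1 := hAe (π x) hx
    have h3 : x * x ∈ N := by
      rw [← QuotientGroup.eq_one_iff]
      change π (x * x) = 1
      rw [map_mul, ← pow_two, h1]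
    exact hN _ h3
  have hE := sp_card_le h2 m hm Eg zg hzg hzE hcomm hsq
  -- cardinalities
  let π' : Eg →* Abar := π.subgroupComap Abar
  have hsurj : Function.Surjective π' :=
    MonoidHom.subgroupComap_surjective_of_surjective π Abar (QuotientGroup.mk'_surjective N)
  have h1 := Subgroup.card_mul_index π'.ker
  rw [Subgroup.index_ker, MonoidHom.range_eq_top.2 hsurj, Subgroup.card_top] at h1
  have hker : π'.ker ≠ ⊥ := by
    intro h
    have hz1 : (⟨zg, hzE⟩ : Eg) ∈ π'.ker := by
      rw [MonoidHom.mem_ker]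
      apply Subtype.ext
      change π zg = 1
      exact hπN zg hzN
    rw [h, Subgroup.mem_bot] at hz1
    have h4 : zg = 1 := congrArg Subtype.val hz1
    have h5 : (-1 : Matrix (Fin m ⊕ Fin m) (Fin m ⊕ Fin m) F) = 1 := by
      rw [← hzg, h4]; rfl
    have := congrFun (congrFun h5 (Sum.inl ⟨0, by omega⟩)) (Sum.inl ⟨0, by omega⟩)
    rw [Matrix.neg_apply, Matrix.one_apply_eq] at this
    apply h2
    linear_combination -this
  have h6 : 1 < Nat.card π'.ker := (Subgroup.one_lt_card_iff_ne_bot π'.ker).2 hker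
  have h7 : 2 * Nat.card Abar ≤ 2 ^ (2 * m) := by
    calc 2 * Nat.card Abar ≤ Nat.card π'.ker * Nat.card Abar := Nat.mul_le_mul_right _ h6
      _ = Nat.card Eg := h1
      _ ≤ 2 ^ (2 * m) := hE
  have h8 : 2 ^ (2 * m) = 2 * 2 ^ (2 * m - 1) := by
    rw [← pow_succ']
    congr 1
    omega
  rw [h8] at h7
  exact Nat.le_of_mul_le_mul_left h7 (by norm_num)

end psp

end Cfsg.Agent.Lib.Helper9.PSpRank
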