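import Mathlib

namespace Cfsg.Agent.Lib.Helper9.PowGraph

open Subgroup

variable {G : Type*} [Group G]

/-- comparability in the power preorder -/
def Cmp (x y : G) : Prop := x ∈ zpowers y ∨ y ∈ zpowers x

/-- closed twins in the power graph -/
def Twin (x y : G) : Prop := ∀ z, Cmp z x ↔ Cmp z y

/-- dominating vertices -/
def Dom (x : G) : Prop := ∀ z, Cmp z x

/-- generating the same cyclic subgroup -/
def Gen (x y : G) : Prop := x ∈ zpowers y ∧ y ∈ zpowers x

theorem le_trans' {x y z : G} (h1 : x ∈ zpowers y) (h2 : y ∈ zpowers z) : x ∈ zpowers z :=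
  (zpowers_le.mpr h2) h1

theorem Cmp.rfl' (x : G) : Cmp x x := Or.inl (mem_zpowers x)

theorem Cmp.symm' {x y : G} (h : Cmp x y) : Cmp y x := h.symm

theorem cmp_comm {x y : G} : Cmp x y ↔ Cmp y x := ⟨Cmp.symm', Cmp.symm'⟩

theorem Twin.rfl' (x : G) : Twin x x := fun _ => Iff.rfl

theorem Twin.symm' {x y : G} (h : Twin x y) : Twin y x := fun z => (h z).symm

theorem Twin.trans' {x y z : G} (h1 : Twin x y) (h2 : Twin y z) : Twin x z :=
  fun w => (h1 w).trans (h2 w)

theorem Twin.cmp {x y : G} (h : Twin x y) : Cmp x y := (h x).mp (Cmp.rfl' x)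

theorem Gen.symm' {x y : G} (h : Gen x y) : Gen y x := ⟨h.2, h.1⟩

theorem Gen.twin {x y : G} (h : Gen x y) : Twin x y := by
  intro z
  constructor
  · rintro (hz | hz)
    · exact Or.inl (le_trans' hz h.1)
    · exact Or.inr (le_trans' h.2 hz)
  · rintro (hz | hz)
    · exact Or.inl (le_trans' hz h.2)
    · exact Or.inr (le_trans' h.1 hz)

theorem dom_one : Dom (1 : G) := fun _ => Or.inr (one_mem _)

theorem Dom.of_twin {x y : G} (hx : Dom x) (h : Twin y x) : Dom y := fun z => (h z).mpr (hx z)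

theorem gen_of_mem_of_orderOf_eq [Finite G] {x y : G} (h : x ∈ zpowers y)
    (ho : orderOf x = orderOf y) : Gen x y := by
  refine ⟨h, ?_⟩
  have hle : zpowers x ≤ zpowers y := zpowers_le.mpr h
  have hcard : Nat.card (zpowers y) ≤ Nat.card (zpowers x) := by
    rw [Nat.card_zpowers, Nat.card_zpowers, ho]
  have := Subgroup.eq_of_le_of_card_ge hle hcard
  rw [this]
  exact mem_zpowers y

theorem Gen.orderOf_eq {x y : G} (h : Gen x y) : orderOf x = orderOf y :=
  Nat.dvd_antisymm (orderOf_dvd_of_mem_zpowers h.1) (orderOf_dvd_of_mem_zpowers h.2)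

/-- in a finite cyclic group, membership is decided by orders -/
theorem mem_zpowers_of_orderOf_dvd [Finite G] {g a b : G} (ha : a ∈ zpowers g)
    (hb : b ∈ zpowers g) (h : orderOf a ∣ orderOf b) : a ∈ zpowers b := by
  classical
  have : Fintype G := Fintype.ofFinite G
  let a' : ↥(zpowers g) := ⟨a, ha⟩
  let b' : ↥(zpowers g) := ⟨b, hb⟩
  have hbpos : 0 < orderOf b := orderOf_pos b
  have hob : orderOf b' = orderOf b := Subgroup.orderOf_mk b hb
  have h1 : (Finset.univ.filter (fun c : ↥(zpowers g) => c ^ orderOf b = 1)).card ≤ orderOf b :=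
    IsCyclic.card_pow_eq_one_le hbpos
  have h2 : ((zpowers b' : Set ↥(zpowers g)).toFinset) ⊆
      Finset.univ.filter (fun c : ↥(zpowers g) => c ^ orderOf b = 1) := by
    intro c hc
    rw [Set.mem_toFinset] at hc
    rw [Finset.mem_filter]
    refine ⟨Finset.mem_univ _, ?_⟩
    have : orderOf c ∣ orderOf b' := orderOf_dvd_of_mem_zpowers hc
    rw [hob] at this
    exact orderOf_dvd_iff_pow_eq_one.mp this
  have h3 : ((zpowers b' : Set ↥(zpowers g)).toFinset).card = orderOf b := by
    rw [Set.toFinset_card, ← hob, ← Nat.card_eq_fintype_card]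
    exact Nat.card_zpowers b'
  have h4 := Finset.eq_of_subset_of_card_le h2 (by rw [h3]; exact h1)
  have h5 : a' ∈ Finset.univ.filter (fun c : ↥(zpowers g) => c ^ orderOf b = 1) := by
    rw [Finset.mem_filter]
    refine ⟨Finset.mem_univ _, ?_⟩
    apply Subtype.ext
    simp only [a', SubgroupClass.coe_pow, OneMemClass.coe_one]
    exact orderOf_dvd_iff_pow_eq_one.mp h
  rw [← h4, Set.mem_toFinset] at h5
  obtain ⟨k, hk⟩ := mem_zpowers_iff.mp h5
  refine mem_zpowers_iff.mpr ⟨k, ?_⟩
  have := congrArg (Subtype.val) hk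
  simpa [a', b'] using this

end Cfsg.Agent.Lib.Helper9.PowGraph
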