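import Cfsg.Agent.Lib.Helper9.PowGraphA

namespace Cfsg.Agent.Lib.Helper9.PowGraph

open Subgroup

variable {G : Type*} [Group G]

/-- number of generators of a cyclic subgroup -/
theorem card_gen [Finite G] (x : G) :
    Nat.card {y : G // Gen y x} = Nat.totient (orderOf x) := by
  classical
  have : Fintype G := Fintype.ofFinite G
  have h := IsCyclic.card_orderOf_eq_totient (α := ↥(zpowers x)) (d := orderOf x)
    (by rw [← Nat.card_eq_fintype_card, Nat.card_zpowers])
  rw [← h, ← Fintype.card_subtype, ← Nat.card_eq_fintype_card]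
  apply Nat.card_congr
  exact
    { toFun := fun y => ⟨⟨y.1, y.2.1⟩, by rw [Subgroup.orderOf_mk]; exact y.2.orderOf_eq⟩
      invFun := fun a => ⟨a.1.1, gen_of_mem_of_orderOf_eq a.1.2
        (by rw [Subgroup.orderOf_coe]; exact a.2)⟩
      left_inv := fun y => rfl
      right_inv := fun a => rfl }

theorem exists_orderOf_eq [Finite G] (g : G) {d : ℕ} (hd : d ∣ orderOf g) :
    ∃ w ∈ zpowers g, orderOf w = d := by
  have hn : orderOf g ≠ 0 := (orderOf_pos g).ne'
  obtain ⟨e, he⟩ := hd
  have he0 : e ≠ 0 := by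
    rintro rfl
    rw [mul_zero] at he
    exact hn he
  refine ⟨g ^ e, npow_mem_zpowers g e, ?_⟩
  rw [orderOf_pow_of_dvd he0 ⟨d, by rw [he, mul_comm]⟩, he]
  exact Nat.mul_div_cancel d (Nat.pos_of_ne_zero he0)

/-- the twin lemma: a proper nontrivial element comparable to the whole cyclic group forces
prime power order -/
theorem primePow_of_all_cmp [Finite G] {u v : G} (hu : u ∈ zpowers v) (hu1 : u ≠ 1)
    (hv : v ∉ zpowers u) (hall : ∀ w ∈ zpowers v, Cmp w u) :
    ∃ r k : ℕ, r.Prime ∧ orderOf v = r ^ k := by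
  by_contra hnp
  push Not at hnp
  set n := orderOf v with hn
  have hn0 : n ≠ 0 := (orderOf_pos v).ne'
  have hn1 : n ≠ 1 := by
    intro h
    rw [hn, orderOf_eq_one_iff] at h
    subst h
    rw [zpowers_one_eq_bot, mem_bot] at hu
    exact hu1 hu
  have hr : (n.minFac).Prime := Nat.minFac_prime hn1
  set r := n.minFac with hrdef
  set a := r ^ n.factorization r with ha
  set b := n / r ^ n.factorization r with hb
  have hab : a * b = n := Nat.ordProj_mul_ordCompl_eq_self n r
  have hcop : Nat.Coprime a b := (Nat.coprime_ordCompl hr hn0).pow_left _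
  have hb1 : b ≠ 1 := by
    intro h
    rw [h, mul_one] at hab
    exact hnp r _ hr hab.symm
  have ha1 : a ≠ 1 := by
    intro h
    have hpos : 0 < n.factorization r :=
      hr.factorization_pos_of_dvd hn0 (Nat.minFac_dvd n)
    have : 1 < a := Nat.one_lt_pow hpos.ne' hr.one_lt
    omega
  obtain ⟨z1, hz1, ho1⟩ := exists_orderOf_eq v (d := a) ⟨b, hn ▸ hab.symm⟩
  obtain ⟨z2, hz2, ho2⟩ := exists_orderOf_eq v (d := b) ⟨a, hn ▸ (by rw [← hab, mul_comm])⟩
  set m := orderOf u with hm
  have hmn : m ∣ n := orderOf_dvd_of_mem_zpowers hu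
  have hm1 : m ≠ 1 := by
    intro h
    rw [hm, orderOf_eq_one_iff] at h
    exact hu1 h
  have hmn' : m ≠ n := by
    intro h
    exact hv (gen_of_mem_of_orderOf_eq hu h).2
  have c1 : a ∣ m ∨ m ∣ a := by
    rcases hall z1 hz1 with h | h
    · left; rw [← ho1]; exact orderOf_dvd_of_mem_zpowers h
    · right; rw [← ho1]; exact orderOf_dvd_of_mem_zpowers h
  have c2 : b ∣ m ∨ m ∣ b := by
    rcases hall z2 hz2 with h | h
    · left; rw [← ho2]; exact orderOf_dvd_of_mem_zpowers h
    · right; rw [← ho2]; exact orderOf_dvd_of_mem_zpowers h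
  rcases c1 with h1 | h1 <;> rcases c2 with h2 | h2
  · have : a * b ∣ m := hcop.mul_dvd_of_dvd_of_dvd h1 h2
    rw [hab] at this
    exact hmn' (Nat.dvd_antisymm hmn this)
  · exact ha1 (hcop.eq_one_of_dvd (h1.trans h2))
  · exact hb1 (hcop.symm.eq_one_of_dvd (h2.trans h1))
  · exact hm1 (Nat.eq_one_of_dvd_coprimes hcop h1 h2)

/-- elements of a cyclic group of prime power order are pairwise comparable -/
theorem cmp_of_primePow [Finite G] {g a b : G} {r k : ℕ} (hr : r.Prime)
    (hg : orderOf g = r ^ k) (ha : a ∈ zpowers g) (hb : b ∈ zpowers g) : Cmp a b := by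
  have h1 : orderOf a ∣ r ^ k := hg ▸ orderOf_dvd_of_mem_zpowers ha
  have h2 : orderOf b ∣ r ^ k := hg ▸ orderOf_dvd_of_mem_zpowers hb
  obtain ⟨i, -, hi⟩ := (Nat.dvd_prime_pow hr).mp h1
  obtain ⟨j, -, hj⟩ := (Nat.dvd_prime_pow hr).mp h2
  rcases le_total i j with hij | hij
  · left
    exact mem_zpowers_of_orderOf_dvd ha hb (by rw [hi, hj]; exact pow_dvd_pow r hij)
  · right
    exact mem_zpowers_of_orderOf_dvd hb ha (by rw [hi, hj]; exact pow_dvd_pow r hij)

theorem other_prime {n : ℕ} (hn0 : n ≠ 0) (hnp : ∀ r k : ℕ, r.Prime → n ≠ r ^ k) (r : ℕ) :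
    ∃ r2 : ℕ, r2.Prime ∧ r2 ≠ r ∧ r2 ∣ n := by
  by_contra h
  push Not at h
  have := Nat.eq_prime_pow_of_unique_prime_dvd (p := r) hn0
    (fun {d} hd hdn => by
      by_contra hne
      exact h d hd hne hdn)
  by_cases hr : r.Prime
  · exact hnp r _ hr this
  · -- then n has no prime divisors, so n = 1
    have h1 : n = 1 := by
      by_contra hn1
      have hp := Nat.minFac_prime hn1
      have hd := Nat.minFac_dvd n
      by_cases he : n.minFac = r
      · exact hr (he ▸ hp)
      · exact h _ hp he hd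
    exact hnp 2 0 Nat.prime_two (by rw [h1, pow_zero])

end Cfsg.Agent.Lib.Helper9.PowGraph
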