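import Cfsg.Agent.Lib.Helper9.PowGraphB

namespace Cfsg.Agent.Lib.Helper9.PowGraph

open Subgroup

variable {G : Type*} [Group G]

/-- the proper nontrivial part of the cyclic group generated by `g` -/
def Mid (g z : G) : Prop := z ∈ zpowers g ∧ z ≠ 1 ∧ g ∉ zpowers z

/-- elements of `⟨g⟩` of nontrivial prime power order `r ^ j` -/
def PP (g w : G) (r : ℕ) : Prop := w ∈ zpowers g ∧ r.Prime ∧ ∃ j : ℕ, 0 < j ∧ orderOf w = r ^ j

theorem PP.mid [Finite G] {g w : G} {r : ℕ} (hnp : ∀ r k : ℕ, r.Prime → orderOf g ≠ r ^ k)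
    (h : PP g w r) : Mid g w := by
  obtain ⟨hw, hr, j, hj, ho⟩ := h
  refine ⟨hw, ?_, ?_⟩
  · rintro rfl
    rw [orderOf_one] at ho
    have : 1 < r ^ j := Nat.one_lt_pow hj.ne' hr.one_lt
    omega
  · intro hg
    have := orderOf_dvd_of_mem_zpowers hg
    rw [ho] at this
    obtain ⟨i, -, hi⟩ := (Nat.dvd_prime_pow hr).mp this
    exact hnp r i hr hi

theorem PP.not_cmp {g w1 w2 : G} {r1 r2 : ℕ} (h1 : PP g w1 r1) (h2 : PP g w2 r2)
    (hne : r1 ≠ r2) : ¬ Cmp w1 w2 := by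
  obtain ⟨-, hr1, j1, hj1, ho1⟩ := h1
  obtain ⟨-, hr2, j2, hj2, ho2⟩ := h2
  rintro (h | h)
  · have := orderOf_dvd_of_mem_zpowers h
    rw [ho1, ho2] at this
    have h3 : r1 ∣ r2 ^ j2 := (dvd_pow_self r1 hj1.ne').trans this
    exact hne ((Nat.prime_dvd_prime_iff_eq hr1 hr2).mp (hr1.dvd_of_dvd_pow h3))
  · have := orderOf_dvd_of_mem_zpowers h
    rw [ho1, ho2] at this
    have h3 : r2 ∣ r1 ^ j1 := (dvd_pow_self r2 hj2.ne').trans this
    exact hne ((Nat.prime_dvd_prime_iff_eq hr2 hr1).mp (hr2.dvd_of_dvd_pow h3)).symm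

theorem exists_PP [Finite G] (g : G) {r : ℕ} (hr : r.Prime) (hd : r ∣ orderOf g) :
    ∃ w, PP g w r := by
  obtain ⟨w, hw, ho⟩ := exists_orderOf_eq g hd
  exact ⟨w, hw, hr, 1, Nat.one_pos, by rw [ho, pow_one]⟩

/-- every element of the middle part is incomparable to some element of prime power order -/
theorem exists_witness [Finite G] {g z : G}
    (hnp : ∀ r k : ℕ, r.Prime → orderOf g ≠ r ^ k) (hz : Mid g z) :
    ∃ w r, PP g w r ∧ ¬ Cmp z w := by
  obtain ⟨hzg, hz1, hgz⟩ := hz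
  set n := orderOf g with hn
  have hn0 : n ≠ 0 := (orderOf_pos g).ne'
  set d := orderOf z with hd
  have hdn : d ∣ n := orderOf_dvd_of_mem_zpowers hzg
  have hd1 : d ≠ 1 := by
    intro h
    rw [hd, orderOf_eq_one_iff] at h
    exact hz1 h
  have hdn' : d ≠ n := fun h => hgz (gen_of_mem_of_orderOf_eq hzg h).2
  by_cases hpp : ∃ r i : ℕ, r.Prime ∧ d = r ^ i
  · obtain ⟨r, i, hr, hdi⟩ := hpp
    have hi : i ≠ 0 := by
      rintro rfl
      rw [pow_zero] at hdi
      exact hd1 hdi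
    obtain ⟨r2, hr2, hne, hr2n⟩ := other_prime hn0 hnp r
    obtain ⟨w, hw⟩ := exists_PP g hr2 hr2n
    refine ⟨w, r2, hw, ?_⟩
    have hzpp : PP g z r := ⟨hzg, hr, i, Nat.pos_of_ne_zero hi, hdi⟩
    exact PP.not_cmp hzpp hw hne.symm
  · push Not at hpp
    obtain ⟨e, he⟩ := hdn
    have he1 : e ≠ 1 := by
      rintro rfl
      rw [mul_one] at he
      exact hdn' he.symm
    have hr : (e.minFac).Prime := Nat.minFac_prime he1
    set r := e.minFac with hrdef
    have hre : r ∣ e := Nat.minFac_dvd e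
    have hrn : r ∣ n := he ▸ (hre.trans (dvd_mul_left e d))
    set R := r ^ n.factorization r with hR
    have hRn : R ∣ n := Nat.ordProj_dvd n r
    obtain ⟨w, hw, ho⟩ := exists_orderOf_eq g hRn
    have hpos : 0 < n.factorization r := hr.factorization_pos_of_dvd hn0 hrn
    refine ⟨w, r, ⟨hw, hr, _, hpos, ho⟩, ?_⟩
    rintro (h | h)
    · have := orderOf_dvd_of_mem_zpowers h
      rw [ho, ← hd] at this
      obtain ⟨i, -, hi⟩ := (Nat.dvd_prime_pow hr).mp this
      exact hpp r i hr hi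
    · have := orderOf_dvd_of_mem_zpowers h
      rw [ho, ← hd] at this
      -- R ∣ d, and d * r ∣ n, so r ^ (v+1) ∣ n
      have h2 : R * r ∣ n := by
        rw [he]
        exact Nat.mul_dvd_mul this hre
      rw [hR, ← pow_succ] at h2
      exact Nat.pow_succ_factorization_not_dvd hn0 hr h2

/-- the complement of the power graph on the middle part of a cyclic group of non-prime-power
order is connected -/
theorem conn [Finite G] {g : G} (hnp : ∀ r k : ℕ, r.Prime → orderOf g ≠ r ^ k)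
    (C : G → Prop) (hC : ∀ c, C c → Mid g c)
    (hcross : ∀ c w, C c → Mid g w → ¬ C w → Cmp c w) (hne : ∃ c, C c) :
    ∀ z, Mid g z → C z := by
  have hn0 : orderOf g ≠ 0 := (orderOf_pos g).ne'
  have key : ∀ u v, Mid g u → Mid g v → ¬ Cmp u v → C u → C v := by
    intro u v _ hv huv hCu
    by_contra hCv
    exact huv (hcross u v hCu hv hCv)
  obtain ⟨c0, hc0⟩ := hne
  obtain ⟨w0, r0, hw0, hcw0⟩ := exists_witness hnp (hC c0 hc0)
  have hCw0 : C w0 := key c0 w0 (hC c0 hc0) (hw0.mid hnp) hcw0 hc0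
  have allPP : ∀ w r, PP g w r → C w := by
    intro w r hw
    by_cases hr : r = r0
    · subst hr
      obtain ⟨r2, hr2, hne2, hr2n⟩ := other_prime hn0 hnp r
      obtain ⟨w2, hw2⟩ := exists_PP g hr2 hr2n
      have hCw2 : C w2 := key w0 w2 (hw0.mid hnp) (hw2.mid hnp) (PP.not_cmp hw0 hw2 hne2.symm) hCw0
      exact key w2 w (hw2.mid hnp) (hw.mid hnp) (PP.not_cmp hw2 hw hne2) hCw2
    · exact key w0 w (hw0.mid hnp) (hw.mid hnp) (PP.not_cmp hw0 hw (Ne.symm hr)) hCw0
  intro z hz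
  obtain ⟨w, r, hw, hzw⟩ := exists_witness hnp hz
  exact key w z (hw.mid hnp) hz (fun h => hzw h.symm') (allPP w r hw)

end Cfsg.Agent.Lib.Helper9.PowGraph
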