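import Cfsg.Agent.Lib.Helper9.PowGraphC

namespace Cfsg.Agent.Lib.Helper9.PowGraph

open Subgroup

variable {G : Type*} [Group G]

theorem not_dom_ne_one {x : G} (h : ¬ Dom x) : x ≠ 1 := by
  rintro rfl
  exact h dom_one

theorem not_twin_one {x : G} (h : ¬ Dom x) : ¬ Twin 1 x := fun ht =>
  h (Dom.of_twin dom_one ht.symm')

/-- for an element of non-prime-power order which is not dominating, twins are generators -/
theorem gen_of_twin_of_not_pp [Finite G] {x y : G}
    (hnp : ∀ r k : ℕ, r.Prime → orderOf x ≠ r ^ k) (hdom : ¬ Dom x) (h : Twin y x) :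
    Gen y x := by
  have hx1 : x ≠ 1 := not_dom_ne_one hdom
  have hy1 : y ≠ 1 := by
    rintro rfl
    exact not_twin_one hdom h
  rcases h.cmp with hyx | hxy
  · by_contra hg
    have hxy : x ∉ zpowers y := fun h' => hg ⟨hyx, h'⟩
    obtain ⟨r, k, hr, ho⟩ := primePow_of_all_cmp hyx hy1 hxy
      (fun w hw => (h w).mpr (Or.inl hw))
    exact hnp r k hr ho
  · by_contra hg
    have hyx : y ∉ zpowers x := fun h' => hg ⟨h', hxy⟩
    obtain ⟨r, k, hr, ho⟩ := primePow_of_all_cmp hxy hx1 hyx
      (fun w hw => (h w).mp (Or.inl hw))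
    have hd : orderOf x ∣ r ^ k := ho ▸ orderOf_dvd_of_mem_zpowers hxy
    obtain ⟨i, -, hi⟩ := (Nat.dvd_prime_pow hr).mp hd
    exact hnp r i hr hi

theorem card_twin_le [Finite G] (x : G) :
    Nat.totient (orderOf x) ≤ Nat.card {y : G // Twin y x} := by
  rw [← card_gen x]
  exact Nat.card_le_card_of_injective (fun y => (⟨y.1, y.2.twin⟩ : {y : G // Twin y x}))
    (fun a b hab => Subtype.ext (congrArg (fun t : {y : G // Twin y x} => t.1) hab))

theorem card_twin_eq_of_gen [Finite G] {x : G} (h : ∀ y, Twin y x → Gen y x) :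
    Nat.card {y : G // Twin y x} = Nat.totient (orderOf x) := by
  rw [← card_gen x]
  apply Nat.card_congr
  exact
    { toFun := fun y => ⟨y.1, h y.1 y.2⟩
      invFun := fun y => ⟨y.1, y.2.twin⟩
      left_inv := fun _ => rfl
      right_inv := fun _ => rfl }

theorem two_totient_primePow {r k : ℕ} (hr : r.Prime) (hk : 0 < k) :
    r ^ k ≤ 2 * Nat.totient (r ^ k) := by
  rw [Nat.totient_prime_pow hr hk]
  have h2 : 2 ≤ r := hr.two_le
  have : r ^ k = r ^ (k - 1) * r := by
    rw [← pow_succ]
    congr 1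
    omega
  rw [this]
  have h3 : r ≤ 2 * (r - 1) := by omega
  calc r ^ (k - 1) * r ≤ r ^ (k - 1) * (2 * (r - 1)) := Nat.mul_le_mul_left _ h3
    _ = 2 * (r ^ (k - 1) * (r - 1)) := by ring

/-- the flipped configuration is impossible -/
theorem caseII_false [Finite G] {x a b : G} (hxa : x ∈ zpowers a) (hxb : x ∈ zpowers b)
    (hdom : ¬ Dom x) (hta : ¬ Twin a x) (htb : ¬ Twin b x)
    {P Q : ℕ} (hP : Nat.card {y : G // Twin y a} = P) (hQ : Nat.card {y : G // Twin y b} = Q)
    (hPQ : Nat.card {y : G // Twin y x} = P * Q) (h2 : 2 ≤ P * Q) : False := by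
  have hx1 : x ≠ 1 := not_dom_ne_one hdom
  -- a twin of maximal order
  have : Nonempty {y : G // Twin y x} := ⟨⟨x, Twin.rfl' x⟩⟩
  obtain ⟨⟨y', hy'x⟩, hmax⟩ := Finite.exists_max (fun y : {y : G // Twin y x} => orderOf y.1)
  have claimA : ∀ y, Twin y x → y ∈ zpowers y' := by
    intro y hy
    have hyy : Twin y y' := hy.trans' hy'x.symm'
    rcases hyy.cmp with h | h
    · exact h
    · have h1 : orderOf y' ∣ orderOf y := orderOf_dvd_of_mem_zpowers h
      have h2 : orderOf y ≤ orderOf y' := hmax ⟨y, hy⟩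
      have h3 : orderOf y' = orderOf y :=
        le_antisymm (Nat.le_of_dvd (orderOf_pos y) h1) h2
      exact (gen_of_mem_of_orderOf_eq h h3).2
  have hxy' : x ∈ zpowers y' := claimA x (Twin.rfl' x)
  set Y := orderOf y' with hY
  -- cardinality bound
  have hcard : P * Q + 1 ≤ Y := by
    have hsub : {y : G | Twin y x} ⊆ (zpowers y' : Set G) \ {1} := by
      intro y hy
      refine ⟨claimA y hy, ?_⟩
      rintro rfl
      exact not_twin_one hdom hy
    have h1 : ({y : G | Twin y x}).ncard ≤ ((zpowers y' : Set G) \ {1}).ncard :=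
      Set.ncard_le_ncard hsub (Set.toFinite _)
    have h3 : ((zpowers y' : Set G) \ {1}).ncard = (zpowers y' : Set G).ncard - 1 :=
      Set.ncard_sdiff_singleton_of_mem (one_mem _)
    have h4 : (zpowers y' : Set G).ncard = Y := by
      rw [← Nat.card_coe_set_eq]
      exact Nat.card_zpowers y'
    have h5 : ({y : G | Twin y x}).ncard = P * Q := by
      rw [← Nat.card_coe_set_eq]
      exact hPQ
    have hYpos : 0 < Y := orderOf_pos y'
    omega
  -- y' lies below a and b
  have claimC : ∀ c : G, x ∈ zpowers c → ¬ Twin c x → y' ∈ zpowers c := by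
    intro c hxc htc
    by_contra hyc
    have hcmp : Cmp c y' := (hy'x c).mpr (Or.inr hxc)
    have hcY : c ∈ zpowers y' := hcmp.resolve_right hyc
    have hyx' : y' ∉ zpowers x := fun h => hyc (le_trans' h hxc)
    obtain ⟨r, k, hr, ho⟩ := primePow_of_all_cmp hxy' hx1 hyx'
      (fun w hw => (hy'x w).mp (Or.inl hw))
    apply htc
    intro z
    constructor
    · rintro (hz | hz)
      · exact (hy'x z).mp (Or.inl (le_trans' hz hcY))
      · exact Or.inr (le_trans' hxc hz)
    · intro hzx
      have hzy : Cmp z y' := (hy'x z).mpr hzx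
      by_cases h1 : z ∈ zpowers x
      · exact Or.inl (le_trans' h1 hxc)
      by_cases h2 : y' ∈ zpowers z
      · exact Or.inr (le_trans' hcY h2)
      have h4 : z ∈ zpowers y' := hzy.resolve_right h2
      exact cmp_of_primePow hr ho h4 hcY
  have hya : y' ∈ zpowers a := claimC a hxa hta
  have hyb : y' ∈ zpowers b := claimC b hxb htb
  have hφa : Nat.totient Y ≤ P := by
    have h1 : Nat.totient Y ∣ Nat.totient (orderOf a) :=
      Nat.totient_dvd_of_dvd (orderOf_dvd_of_mem_zpowers hya)
    have h2 := Nat.le_of_dvd (Nat.totient_pos.mpr (orderOf_pos a)) h1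
    exact h2.trans (hP ▸ card_twin_le a)
  have hφb : Nat.totient Y ≤ Q := by
    have h1 : Nat.totient Y ∣ Nat.totient (orderOf b) :=
      Nat.totient_dvd_of_dvd (orderOf_dvd_of_mem_zpowers hyb)
    have h2 := Nat.le_of_dvd (Nat.totient_pos.mpr (orderOf_pos b)) h1
    exact h2.trans (hQ ▸ card_twin_le b)
  have hφφ : Nat.totient Y * Nat.totient Y ≤ P * Q := Nat.mul_le_mul hφa hφb
  by_cases hpp : ∃ r k : ℕ, r.Prime ∧ Y = r ^ k
  · obtain ⟨r, k, hr, hk⟩ := hpp
    have hk0 : 0 < k := by
      rcases Nat.eq_zero_or_pos k with h | h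
      · subst h
        rw [pow_zero] at hk
        omega
      · exact h
    have h1 : Y ≤ 2 * Nat.totient Y := by
      rw [hk]
      exact two_totient_primePow hr hk0
    set t := Nat.totient Y with ht
    have hYY : Y * Y ≤ (2 * t) * (2 * t) := Nat.mul_le_mul h1 h1
    have h5 : 3 ≤ Y := by omega
    nlinarith
  · push Not at hpp
    -- then y' generates ⟨x⟩ and all twins are generators
    have hyx' : y' ∈ zpowers x := by
      by_contra h
      obtain ⟨r, k, hr, ho⟩ := primePow_of_all_cmp hxy' hx1 h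
        (fun w hw => (hy'x w).mp (Or.inl hw))
      exact hpp r k hr ho
    have hox : orderOf x = Y := (Gen.orderOf_eq ⟨hxy', hyx'⟩)
    have hgen : ∀ y, Twin y x → Gen y x := by
      intro y hy
      exact gen_of_twin_of_not_pp (fun r k hr => hox ▸ hpp r k hr) hdom hy
    have h1 := card_twin_eq_of_gen hgen
    rw [hPQ, hox] at h1
    -- P * Q = φ Y ≤ P, Q
    have hP1 : P * Q ≤ P := h1 ▸ hφa
    have hQ1 : P * Q ≤ Q := h1 ▸ hφb
    have hPpos : 0 < P := by
      rcases Nat.eq_zero_or_pos P with h | h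
      · subst h
        omega
      · exact h
    have hQpos : 0 < Q := by
      rcases Nat.eq_zero_or_pos Q with h | h
      · subst h
        omega
      · exact h
    have : Q ≤ 1 := by
      by_contra hq
      push Not at hq
      nlinarith
    have : P ≤ 1 := by
      by_contra hq
      push Not at hq
      nlinarith
    nlinarith

end Cfsg.Agent.Lib.Helper9.PowGraph
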