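import Cfsg.Agent.Lib.Helper9.PowGraphD

namespace Cfsg.Agent.Lib.Helper9.PowGraph

open Subgroup

variable {G H : Type*} [Group G] [Group H]

section iso

variable (e : G ≃ H) (he : ∀ x y : G, Cmp x y ↔ Cmp (e x) (e y))

include he

theorem twin_iff (x y : G) : Twin (e x) (e y) ↔ Twin x y := by
  constructor
  · intro h z
    rw [he z x, he z y]
    exact h (e z)
  · intro h z
    obtain ⟨w, rfl⟩ := e.surjective z
    rw [← he w x, ← he w y]
    exact h w

theorem dom_iff (x : G) : Dom (e x) ↔ Dom x := by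
  constructor
  · intro h z
    rw [he z x]
    exact h (e z)
  · intro h z
    obtain ⟨w, rfl⟩ := e.surjective z
    rw [← he w x]
    exact h w

theorem card_twin_iso (x : G) :
    Nat.card {z : H // Twin z (e x)} = Nat.card {y : G // Twin y x} := by
  symm
  apply Nat.card_congr
  exact e.subtypeEquiv (fun y => (twin_iff e he y x).symm)

end iso

theorem not_pp_mul {p q : ℕ} (hp : p.Prime) (hq : q.Prime) (hpq : p ≠ q) :
    ∀ r k : ℕ, r.Prime → p * q ≠ r ^ k := by
  intro r k hr h
  have h1 : p ∣ r ^ k := h ▸ dvd_mul_right p q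
  have h2 : q ∣ r ^ k := h ▸ dvd_mul_left q p
  have e1 := (Nat.prime_dvd_prime_iff_eq hp hr).mp (hp.dvd_of_dvd_pow h1)
  have e2 := (Nat.prime_dvd_prime_iff_eq hq hr).mp (hq.dvd_of_dvd_pow h2)
  exact hpq (e1.trans e2.symm)

theorem ord_cases {p q : ℕ} (hp : p.Prime) (hq : q.Prime) {x y : G}
    (hx : orderOf x = p * q) (hy : y ∈ zpowers x) :
    orderOf y = 1 ∨ orderOf y = p ∨ orderOf y = q ∨ orderOf y = p * q := by
  have h := orderOf_dvd_of_mem_zpowers hy
  rw [hx] at h
  obtain ⟨d1, d2, h1, h2, h3⟩ := (Nat.dvd_mul).mp h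
  rcases (Nat.dvd_prime hp).mp h1 with rfl | rfl <;>
    rcases (Nat.dvd_prime hq).mp h2 with rfl | rfl
  · left; rw [← h3]
  · right; right; left; rw [← h3, one_mul]
  · right; left; rw [← h3, mul_one]
  · right; right; right; rw [← h3]

/-- twins of an element of prime order `p` inside a cyclic group of order `p * q` -/
theorem gen_of_twin_prime [Finite G] {p q : ℕ} (hp : p.Prime) (hq : q.Prime) (hpq : p ≠ q)
    {x c y : G} (hx : orderOf x = p * q) (hc : c ∈ zpowers x) (hcp : orderOf c = p)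
    (hdom : ¬ Dom c) (h : Twin y c) : Gen y c := by
  have hc1 : c ≠ 1 := not_dom_ne_one hdom
  rcases h.cmp with hyc | hcy
  · -- y ∈ ⟨c⟩ has order 1 or p
    have hd : orderOf y ∣ p := hcp ▸ orderOf_dvd_of_mem_zpowers hyc
    rcases (Nat.dvd_prime hp).mp hd with h1 | h1
    · rw [orderOf_eq_one_iff] at h1
      subst h1
      exact absurd h (not_twin_one hdom)
    · exact gen_of_mem_of_orderOf_eq hyc (h1.trans hcp.symm)
  · by_contra hg
    have hyc : y ∉ zpowers c := fun h' => hg ⟨h', hcy⟩
    obtain ⟨r, k, hr, ho⟩ := primePow_of_all_cmp hcy hc1 hyc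
      (fun w hw => (h w).mp (Or.inl hw))
    have hpr : p ∣ r ^ k := by
      rw [← ho, ← hcp]
      exact orderOf_dvd_of_mem_zpowers hcy
    have hrp : p = r := (Nat.prime_dvd_prime_iff_eq hp hr).mp (hp.dvd_of_dvd_pow hpr)
    subst hrp
    -- x is comparable with y
    have hxy : Cmp x y := (h x).mpr (Or.inr hc)
    rcases hxy with hxy | hyx
    · have := orderOf_dvd_of_mem_zpowers hxy
      rw [hx, ho] at this
      have h2 : q ∣ p ^ k := (dvd_mul_left q p).trans this
      exact hpq ((Nat.prime_dvd_prime_iff_eq hq hp).mp (hq.dvd_of_dvd_pow h2)).symm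
    · have := orderOf_dvd_of_mem_zpowers hyx
      rw [hx, ho] at this
      -- k ≥ 2
      have hk : 2 ≤ k := by
        by_contra hk
        push Not at hk
        interval_cases k
        · rw [pow_zero, orderOf_eq_one_iff] at ho
          subst ho
          rw [zpowers_one_eq_bot, mem_bot] at hcy
          exact hc1 hcy
        · rw [pow_one] at ho
          exact hyc (gen_of_mem_of_orderOf_eq hcy (hcp.trans ho.symm)).symm'.1
      have h2 : p ^ 2 ∣ p * q := (pow_dvd_pow p hk).trans this
      rw [pow_two] at h2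
      have h3 : p ∣ q := Nat.dvd_of_mul_dvd_mul_left hp.pos h2
      exact hpq ((Nat.prime_dvd_prime_iff_eq hp hq).mp h3)

theorem two_le_pred_mul {p q : ℕ} (hp : p.Prime) (hq : q.Prime) (hpq : p ≠ q) :
    2 ≤ (p - 1) * (q - 1) := by
  have h1 := hp.two_le
  have h2 := hq.two_le
  rcases Nat.lt_or_ge p 3 with h | h
  · have : p = 2 := by omega
    subst this
    have : 3 ≤ q := by omega
    have : 2 ≤ q - 1 := by omega
    simpa using this
  · have h3 : 2 ≤ p - 1 := by omega
    have h4 : 1 ≤ q - 1 := by omega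
    calc 2 = 2 * 1 := rfl
      _ ≤ (p - 1) * (q - 1) := Nat.mul_le_mul h3 h4

theorem card_mid_add [Finite G] (x : G) :
    Nat.card {y : G // y ∈ zpowers x ∧ y ≠ 1} + 1 = orderOf x := by
  have h1 : Nat.card {y : G // y ∈ zpowers x ∧ y ≠ 1} = ((zpowers x : Set G) \ {1}).ncard := by
    rw [← Nat.card_coe_set_eq]
    rfl
  have h3 : ((zpowers x : Set G) \ {1}).ncard = (zpowers x : Set G).ncard - 1 :=
    Set.ncard_sdiff_singleton_of_mem (one_mem _)
  have h4 : (zpowers x : Set G).ncard = orderOf x := by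
    rw [← Nat.card_coe_set_eq]
    exact Nat.card_zpowers x
  have := orderOf_pos x
  omega

end Cfsg.Agent.Lib.Helper9.PowGraph
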