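import Cfsg.Agent.Lib.Helper9.PowGraphE

namespace Cfsg.Agent.Lib.Helper9.PowGraph

open Subgroup

variable {G H : Type*} [Group G] [Group H]

/-- the dominating case: by Cauchy -/
theorem exists_of_dom [Finite G] [Finite H] (e : G ≃ H)
    (he : ∀ x y : G, Cmp x y ↔ Cmp (e x) (e y)) {p q : ℕ} (hp : p.Prime) (hq : q.Prime)
    (hpq : p ≠ q) {x : G} (hx : orderOf x = p * q) (hdom : Dom x) :
    ∃ h : H, orderOf h = p * q := by
  have hx1 : x ≠ 1 := by
    rintro rfl
    rw [orderOf_one] at hx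
    have := hp.two_le
    have := hq.two_le
    nlinarith
  -- a nontrivial dominating element of H
  obtain ⟨w, hw1, hwdom⟩ : ∃ w : H, w ≠ 1 ∧ Dom w := by
    by_cases h : e x = 1
    · refine ⟨e 1, ?_, (dom_iff e he 1).mpr dom_one⟩
      intro h1
      exact hx1 (e.injective (h.trans h1.symm))
    · exact ⟨e x, h, (dom_iff e he x).mpr hdom⟩
  have hcard : Nat.card H = Nat.card G := (Nat.card_congr e).symm
  have hdvd : p * q ∣ Nat.card H := by
    rw [hcard, ← hx]
    exact orderOf_dvd_natCard x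
  have key : ∀ r : ℕ, r.Prime → r ∣ Nat.card H → r ∣ orderOf w := by
    intro r hr hrd
    have : Fact r.Prime := ⟨hr⟩
    obtain ⟨h, hh⟩ := exists_prime_orderOf_dvd_card' r hrd
    rcases hwdom h with h1 | h1
    · rw [← hh]
      exact orderOf_dvd_of_mem_zpowers h1
    · have h2 := orderOf_dvd_of_mem_zpowers h1
      rw [hh] at h2
      rcases (Nat.dvd_prime hr).mp h2 with h3 | h3
      · rw [orderOf_eq_one_iff] at h3
        exact absurd h3 hw1
      · rw [h3]
  have h1 : p ∣ orderOf w := key p hp ((dvd_mul_right p q).trans hdvd)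
  have h2 : q ∣ orderOf w := key q hq ((dvd_mul_left q p).trans hdvd)
  have hcop : Nat.Coprime p q := (Nat.coprime_primes hp hq).mpr hpq
  obtain ⟨h, -, hh⟩ := exists_orderOf_eq w (hcop.mul_dvd_of_dvd_of_dvd h1 h2)
  exact ⟨h, hh⟩

/-- the main case -/
theorem exists_of_not_dom [Finite G] [Finite H] (e : G ≃ H)
    (he : ∀ x y : G, Cmp x y ↔ Cmp (e x) (e y)) {p q : ℕ} (hp : p.Prime) (hq : q.Prime)
    (hpq : p ≠ q) {x : G} (hx : orderOf x = p * q) (hdom : ¬ Dom x) :
    ∃ h : H, orderOf h = p * q := by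
  refine ⟨e x, ?_⟩
  have hcop : Nat.Coprime p q := (Nat.coprime_primes hp hq).mpr hpq
  have hdom' : ¬ Dom (e x) := fun h => hdom ((dom_iff e he x).mp h)
  have hx1 : x ≠ 1 := not_dom_ne_one hdom
  have hx1' : e x ≠ 1 := not_dom_ne_one hdom'
  have hnpx : ∀ r k : ℕ, r.Prime → orderOf x ≠ r ^ k := by
    rw [hx]
    exact not_pp_mul hp hq hpq
  have hgenx : ∀ y, Twin y x → Gen y x := fun y hy => gen_of_twin_of_not_pp hnpx hdom hy
  have hcardx : Nat.card {y : G // Twin y x} = (p - 1) * (q - 1) := by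
    rw [card_twin_eq_of_gen hgenx, hx, Nat.totient_mul hcop, Nat.totient_prime hp,
      Nat.totient_prime hq]
  -- elements of order p and q
  obtain ⟨a, ha, hap⟩ := exists_orderOf_eq x (d := p) (hx ▸ dvd_mul_right p q)
  obtain ⟨b, hb, hbq⟩ := exists_orderOf_eq x (d := q) (hx ▸ dvd_mul_left q p)
  have ncmp : ∀ c d : G, orderOf c = p → orderOf d = q → ¬ Cmp c d := by
    intro c d hc hd h
    rcases h with h | h
    · have := orderOf_dvd_of_mem_zpowers h
      rw [hc, hd] at this
      exact hpq ((Nat.prime_dvd_prime_iff_eq hp hq).mp this)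
    · have := orderOf_dvd_of_mem_zpowers h
      rw [hc, hd] at this
      exact hpq ((Nat.prime_dvd_prime_iff_eq hq hp).mp this).symm
  have ndomp : ∀ c : G, orderOf c = p → ¬ Dom c := fun c hc h => ncmp c b hc hbq (h b).symm'
  have ndomq : ∀ d : G, orderOf d = q → ¬ Dom d := fun d hd h => ncmp a d hap hd (h a)
  have cardp : ∀ c : G, c ∈ zpowers x → orderOf c = p →
      Nat.card {z : H // Twin z (e c)} = p - 1 := by
    intro c hc hcp
    rw [card_twin_iso e he, card_twin_eq_of_gen
      (fun y hy => gen_of_twin_prime hp hq hpq hx hc hcp (ndomp c hcp) hy), hcp,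
      Nat.totient_prime hp]
  have cardq : ∀ d : G, d ∈ zpowers x → orderOf d = q →
      Nat.card {z : H // Twin z (e d)} = q - 1 := by
    intro d hd hdq
    rw [card_twin_iso e he, card_twin_eq_of_gen
      (fun y hy => gen_of_twin_prime hq hp hpq.symm (by rw [hx, mul_comm]) hd hdq
        (ndomq d hdq) hy), hdq, Nat.totient_prime hq]
  have ntwin : ∀ c : G, (orderOf c = p ∨ orderOf c = q) → ¬ Twin (e c) (e x) := by
    intro c hc h
    have h1 := (hgenx c ((twin_iff e he c x).mp h)).orderOf_eq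
    rw [hx] at h1
    have h2p := hp.two_le
    have h2q := hq.two_le
    rcases hc with hc | hc
    · rw [hc] at h1
      nlinarith
    · rw [hc] at h1
      nlinarith
  -- Step 1
  have step1 : ∀ c d : G, c ∈ zpowers x → d ∈ zpowers x → orderOf c = p → orderOf d = q →
      e c ∈ zpowers (e x) ∧ e d ∈ zpowers (e x) := by
    intro c d hc hd hcp hdq
    have h1 : Cmp (e c) (e x) := (he c x).mp (Or.inl hc)
    have h2 : Cmp (e d) (e x) := (he d x).mp (Or.inl hd)
    have h3 : ¬ Cmp (e c) (e d) := fun h => ncmp c d hcp hdq ((he c d).mpr h)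
    rcases h1 with h1 | h1 <;> rcases h2 with h2 | h2
    · exact ⟨h1, h2⟩
    · exact absurd (Or.inl (le_trans' h1 h2)) h3
    · exact absurd (Or.inr (le_trans' h2 h1)) h3
    · exfalso
      have hPQ : Nat.card {z : H // Twin z (e x)} = (p - 1) * (q - 1) := by
        rw [card_twin_iso e he, hcardx]
      exact caseII_false h1 h2 hdom' (ntwin c (Or.inl hcp)) (ntwin d (Or.inr hdq))
        (cardp c hc hcp) (cardq d hd hdq) hPQ (two_le_pred_mul hp hq hpq)
  -- Step 2
  have hnp' : ∀ r k : ℕ, r.Prime → orderOf (e x) ≠ r ^ k := by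
    intro r k hr ho
    obtain ⟨h1, h2⟩ := step1 a b ha hb hap hbq
    exact ncmp a b hap hbq ((he a b).mpr (cmp_of_primePow hr ho h1 h2))
  -- Step 3
  have hgenx' : ∀ z, Twin z (e x) → Gen z (e x) :=
    fun z hz => gen_of_twin_of_not_pp hnp' hdom' hz
  -- Step 4
  let C : H → Prop := fun z => ∃ c : G, c ∈ zpowers x ∧ (orderOf c = p ∨ orderOf c = q) ∧ e c = z
  have hCmid : ∀ z, C z → Mid (e x) z := by
    rintro z ⟨c, hc, hco, rfl⟩
    have hmem : e c ∈ zpowers (e x) := by
      rcases hco with hco | hco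
      · exact (step1 c b hc hb hco hbq).1
      · exact (step1 a c ha hc hap hco).2
    have hnd : ¬ Dom c := by
      rcases hco with hco | hco
      · exact ndomp c hco
      · exact ndomq c hco
    refine ⟨hmem, ?_, ?_⟩
    · intro h1
      apply hnd
      rw [← dom_iff e he, h1]
      exact dom_one
    · intro h1
      exact ntwin c hco (Gen.twin ⟨hmem, h1⟩)
  have hcross : ∀ c' w, C c' → Mid (e x) w → ¬ C w → Cmp c' w := by
    rintro c' w ⟨c, hc, hco, rfl⟩ ⟨hw, hw1, hxw⟩ hnC
    obtain ⟨y, rfl⟩ := e.surjective w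
    have hyx : Cmp y x := (he y x).mpr (Or.inl hw)
    rcases hyx with hyx | hxy
    · exfalso
      rcases ord_cases hp hq hx hyx with h1 | h1 | h1 | h1
      · rw [orderOf_eq_one_iff] at h1
        subst h1
        have hd1 : Dom (e (1 : G)) := (dom_iff e he 1).mpr dom_one
        obtain ⟨r, k, hr, ho⟩ := primePow_of_all_cmp hw hw1 hxw (fun z _ => hd1 z)
        exact hnp' r k hr ho
      · exact hnC ⟨y, hyx, Or.inl h1, rfl⟩
      · exact hnC ⟨y, hyx, Or.inr h1, rfl⟩
      · have hg : Gen y x := gen_of_mem_of_orderOf_eq hyx (h1.trans hx.symm)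
        have ht : Twin (e y) (e x) := (twin_iff e he y x).mpr hg.twin
        exact hxw (hgenx' _ ht).2
    · exact (he c y).mp (Or.inl (le_trans' hc hxy))
  have hCall : ∀ z, Mid (e x) z → C z :=
    conn hnp' C hCmid hcross ⟨e a, a, ha, Or.inl hap, rfl⟩
  -- Step 5
  have hiff : ∀ y : G, (y ∈ zpowers x ∧ y ≠ 1) ↔ (e y ∈ zpowers (e x) ∧ e y ≠ 1) := by
    intro y
    constructor
    · rintro ⟨hy, hy1⟩
      rcases ord_cases hp hq hx hy with h1 | h1 | h1 | h1
      · rw [orderOf_eq_one_iff] at h1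
        exact absurd h1 hy1
      · have := hCmid (e y) ⟨y, hy, Or.inl h1, rfl⟩
        exact ⟨this.1, this.2.1⟩
      · have := hCmid (e y) ⟨y, hy, Or.inr h1, rfl⟩
        exact ⟨this.1, this.2.1⟩
      · have hg : Gen y x := gen_of_mem_of_orderOf_eq hy (h1.trans hx.symm)
        have ht : Twin (e y) (e x) := (twin_iff e he y x).mpr hg.twin
        have hg' := hgenx' _ ht
        refine ⟨hg'.1, ?_⟩
        intro h1
        have := hg'.2
        rw [h1, zpowers_one_eq_bot, mem_bot] at this
        exact hx1' this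
    · rintro ⟨hy, hy1⟩
      by_cases hxy : e x ∈ zpowers (e y)
      · have ht : Twin (e y) (e x) := Gen.twin ⟨hy, hxy⟩
        have hg := hgenx y ((twin_iff e he y x).mp ht)
        refine ⟨hg.1, ?_⟩
        rintro rfl
        have := hg.2
        rw [zpowers_one_eq_bot, mem_bot] at this
        exact hx1 this
      · obtain ⟨c, hc, hco, hce⟩ := hCall (e y) ⟨hy, hy1, hxy⟩
        have : c = y := e.injective hce
        subst this
        refine ⟨hc, ?_⟩
        rintro rfl
        rw [orderOf_one] at hco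
        have := hp.two_le
        have := hq.two_le
        omega
  have hcard : Nat.card {y : G // y ∈ zpowers x ∧ y ≠ 1} =
      Nat.card {z : H // z ∈ zpowers (e x) ∧ z ≠ 1} :=
    Nat.card_congr (e.subtypeEquiv hiff)
  have h1 := card_mid_add x
  have h2 := card_mid_add (e x)
  omega

theorem exists_of_iso [Finite G] [Finite H] (e : G ≃ H)
    (he : ∀ x y : G, Cmp x y ↔ Cmp (e x) (e y)) {p q : ℕ} (hp : p.Prime) (hq : q.Prime)
    (hpq : p ≠ q) (h : ∃ g : G, orderOf g = p * q) : ∃ h : H, orderOf h = p * q := by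
  obtain ⟨x, hx⟩ := h
  by_cases hdom : Dom x
  · exact exists_of_dom e he hp hq hpq hx hdom
  · exact exists_of_not_dom e he hp hq hpq hx hdom

end Cfsg.Agent.Lib.Helper9.PowGraph
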