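import Mathlib
import Cfsg.Prelude.Def_Solvable
import Cfsg.Agent.Lib.Helper1.Fitting
import Cfsg.Agent.Lib.Helper24.QBS
import Cfsg.Agent.Lib.Helper29.QBL

/-! QBN1 leaf for S4125 (q-Baer groups): if all `q`-elements have `p`-power index, `p ≠ q`, then
the Sylow `q`-subgroups are abelian and `O_p(G) Q` is normal. -/

set_option autoImplicit false
open Cfsg

namespace Cfsg.Agent.Lib.Helper9.QBLeaf

variable {G : Type*} [Group G] [Finite G]

local notation "C(" x ")" => Subgroup.centralizer ({x} : Set G)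

omit [Finite G] in
/-- elements of a Sylow `q`-subgroup are `q`-elements. -/
theorem exists_orderOf_eq_of_mem_sylow (q : ℕ) [Fact q.Prime] (Q : Sylow q G) (x : G)
    (hx : x ∈ (Q : Subgroup G)) : ∃ k : ℕ, orderOf x = q ^ k := by
  obtain ⟨k, hk⟩ := (IsPGroup.iff_orderOf.mp Q.isPGroup') ⟨x, hx⟩
  exact ⟨k, by rw [← hk, Subgroup.orderOf_mk]⟩

/-- QBN1 (p ≠ q): O_p(G) Q normal and Q abelian. -/
theorem normal_sup_of_ne (q p : ℕ) [Fact q.Prime] [Fact p.Prime] (hpq : p ≠ q)
    (h : ∀ x : G, (∃ k : ℕ, orderOf x = q ^ k) → ∃ a : ℕ, (C(x)).index = p ^ a)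
    (Q : Sylow q G) :
    IsMulCommutative (Q : Subgroup G) ∧ (Cfsg.pCore p G ⊔ (Q : Subgroup G)).Normal := by
  classical
  set U := Cfsg.pCore p G with hU
  have hUn : U.Normal := Helper1.pCore_normal p G
  let π : G →* G ⧸ U := QuotientGroup.mk' U
  have hπ : Function.Surjective π := QuotientGroup.mk'_surjective U
  have hker : π.ker = U := QuotientGroup.ker_mk' U
  -- Step 1: the image of a q-element lies in every Sylow q-subgroup of G/U
  have key : ∀ x : G, (∃ k : ℕ, orderOf x = q ^ k) → ∀ S : Sylow q (G ⧸ U),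
      ∀ c : G ⧸ U, c * π x * c⁻¹ ∈ (S : Subgroup (G ⧸ U)) := by
    intro x hx S c
    obtain ⟨a, ha⟩ := h x hx
    have hgen : ∀ y ∈ Group.conjugatesOfSet ({π x} : Set (G ⧸ U)),
        ∃ g : G, y = π (g * x * g⁻¹) := by
      intro y hy
      rw [Group.mem_conjugatesOfSet_iff] at hy
      obtain ⟨b, hb, hby⟩ := hy
      rw [Set.mem_singleton_iff] at hb
      subst hb
      obtain ⟨c, hc⟩ := isConj_iff.mp hby
      obtain ⟨g, rfl⟩ := hπ c
      exact ⟨g, by rw [← hc]; simp⟩
    have hcomm : ∀ y ∈ Group.conjugatesOfSet ({π x} : Set (G ⧸ U)),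
        ∀ z ∈ Group.conjugatesOfSet ({π x} : Set (G ⧸ U)), y * z = z * y := by
      intro y hy z hz
      obtain ⟨g, rfl⟩ := hgen y hy
      obtain ⟨k, rfl⟩ := hgen z hz
      have hmem := Helper29.QBLeaf.commutator_conj_mem_pCore q p hpq x hx a ha g k
      have h1 : π ((g * x * g⁻¹) * (k * x * k⁻¹) * (g * x * g⁻¹)⁻¹ * (k * x * k⁻¹)⁻¹) = 1 := by
        rw [← MonoidHom.mem_ker, hker]; exact hmem
      rw [map_mul, map_mul, map_mul, map_inv, map_inv, ← commutatorElement_def] at h1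
      exact commutatorElement_eq_one_iff_mul_comm.mp h1
    have hAc : IsMulCommutative (Subgroup.closure (Group.conjugatesOfSet ({π x} : Set (G ⧸ U)))) :=
      Subgroup.isMulCommutative_closure hcomm
    have hAq : ∀ y, y ∈ Subgroup.closure (Group.conjugatesOfSet ({π x} : Set (G ⧸ U))) →
        ∃ k : ℕ, y ^ (q ^ k) = 1 := by
      intro y hy
      induction hy using Subgroup.closure_induction with
      | mem y hy =>
        obtain ⟨g, rfl⟩ := hgen y hy
        obtain ⟨k, hk⟩ := hx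
        refine ⟨k, ?_⟩
        rw [← map_pow]
        have : (g * x * g⁻¹) ^ (q ^ k) = 1 := by
          rw [conj_pow, ← hk, pow_orderOf_eq_one]; group
        rw [this, map_one]
      | one => exact ⟨0, one_pow _⟩
      | mul y z hy hz ihy ihz =>
        obtain ⟨k, hk⟩ := ihy
        obtain ⟨l, hl⟩ := ihz
        have hyz : Commute y z := setLike_mul_comm hy hz
        refine ⟨k + l, ?_⟩
        rw [hyz.mul_pow, pow_add, pow_mul, hk, one_pow, mul_comm (q ^ k), pow_mul, hl, one_pow,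
          one_mul]
      | inv y hy ihy =>
        obtain ⟨k, hk⟩ := ihy
        exact ⟨k, by rw [inv_pow, hk, inv_one]⟩
    have hAp : IsPGroup q (Subgroup.normalClosure ({π x} : Set (G ⧸ U))) := by
      intro ⟨y, hy⟩
      obtain ⟨k, hk⟩ := hAq y hy
      exact ⟨k, Subtype.ext (by simpa using hk)⟩
    have hle := hAp.le_sylow_of_normal S
    apply hle
    exact (Subgroup.normalClosure_normal).conj_mem _
      (Subgroup.subset_normalClosure (Set.mem_singleton _)) c
  -- the image of Q is normal in G/U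
  have hQbar : ((Q : Subgroup G).map π).Normal := by
    constructor
    intro n hn c
    obtain ⟨x, hx, rfl⟩ := hn
    have := key x (exists_orderOf_eq_of_mem_sylow q Q x hx) (Q.mapSurjective hπ) c
    rwa [Sylow.coe_mapSurjective] at this
  have hnorm : (U ⊔ (Q : Subgroup G)).Normal := by
    have h1 : (((Q : Subgroup G).map π).comap π).Normal := hQbar.comap π
    rw [Subgroup.comap_map_eq, hker, sup_comm] at h1
    exact h1
  refine ⟨?_, hnorm⟩
  -- Q is abelian
  apply IsMulCommutative.of_setLike_mul_comm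
  intro u hu v hv
  have hu' := exists_orderOf_eq_of_mem_sylow q Q u hu
  obtain ⟨a, ha⟩ := h u hu'
  have hcop : (C(u)).index.Coprime q := by
    rw [ha]
    exact Nat.Coprime.pow_left a ((Nat.coprime_primes (Fact.out) (Fact.out)).mpr hpq)
  obtain ⟨S, hSC, huS⟩ := Helper24.QBLeaf.exists_sylow_le_centralizer q u hu' hcop
  -- π v ∈ π S
  have hvS : π v ∈ (S : Subgroup G).map π := by
    have := key v (exists_orderOf_eq_of_mem_sylow q Q v hv) (S.mapSurjective hπ) 1
    rw [Sylow.coe_mapSurjective] at this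
    simpa using this
  obtain ⟨s, hs, hsv⟩ := hvS
  -- w := s⁻¹ v ∈ U
  have hw : s⁻¹ * v ∈ U := by
    rw [← hker, MonoidHom.mem_ker, map_mul, map_inv, hsv, inv_mul_cancel]
  have hsu : s * u = u * s := by
    have := hSC hs
    rw [Subgroup.mem_centralizer_iff] at this
    exact (this u (Set.mem_singleton u)).symm
  -- the commutator lies in U ⊓ Q = ⊥
  have hcU : u * v * u⁻¹ * v⁻¹ ∈ U := by
    have e : u * v * u⁻¹ * v⁻¹ = s * ((u * (s⁻¹ * v) * u⁻¹) * (s⁻¹ * v)⁻¹) * s⁻¹ := by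
      have hsu' : u * s = s * u := hsu.symm
      calc u * v * u⁻¹ * v⁻¹ = (u * s) * (s⁻¹ * v) * u⁻¹ * (s⁻¹ * v)⁻¹ * s⁻¹ := by group
        _ = (s * u) * (s⁻¹ * v) * u⁻¹ * (s⁻¹ * v)⁻¹ * s⁻¹ := by rw [hsu']
        _ = s * ((u * (s⁻¹ * v) * u⁻¹) * (s⁻¹ * v)⁻¹) * s⁻¹ := by group
    rw [e]
    exact hUn.conj_mem _ (U.mul_mem (hUn.conj_mem _ hw u) (U.inv_mem hw)) s
  have hcQ : u * v * u⁻¹ * v⁻¹ ∈ (Q : Subgroup G) :=
    (Q : Subgroup G).mul_mem ((Q : Subgroup G).mul_mem ((Q : Subgroup G).mul_mem hu hv)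
      ((Q : Subgroup G).inv_mem hu)) ((Q : Subgroup G).inv_mem hv)
  have hdisj : Disjoint U (Q : Subgroup G) :=
    IsPGroup.disjoint_of_ne p q hpq U (Q : Subgroup G) (Helper1.pCore_isPGroup p G) Q.isPGroup'
  have h1 : u * v * u⁻¹ * v⁻¹ = 1 := by
    have := (Subgroup.disjoint_def.mp hdisj) hcU hcQ
    exact this
  rw [← commutatorElement_def] at h1
  exact commutatorElement_eq_one_iff_mul_comm.mp h1

end Cfsg.Agent.Lib.Helper9.QBLeaf
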