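/-
helper9: the action of `Z₂ × PSL₂(K)` (char `K = 3`) on `M₂(K)` by `X ↦ ± g X σ(g)⁻¹`, `σ` the
entrywise Frobenius: an element with a non-zero fixed point has order dividing `2` or `3`
(used for S3626).
-/
import Mathlib
import Cfsg.Agent.Lib.Helper13.PSL2Spectrum

set_option autoImplicit false

namespace Cfsg.Agent.Lib.Helper9.ReeCube

open Matrix

section mat

variable {K : Type*} [Field K]

/-- Cayley–Hamilton for `2 × 2` matrices of determinant `1` -/
theorem sq_of_det_one (G : Matrix (Fin 2) (Fin 2) K) (hdet : G.det = 1) :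
    G * G = (G 0 0 + G 1 1) • G - 1 := by
  rw [Matrix.det_fin_two] at hdet
  ext i j
  fin_cases i <;> fin_cases j <;>
    simp [Matrix.mul_apply, Fin.sum_univ_two] <;>
    first | linear_combination hdet | linear_combination (-1 : K) * hdet | ring

/-- the key computation: an intertwiner between `G` and `± G'`, where `tr G' = (tr G)^3` -/
theorem trace_of_intertwine (G G' X : Matrix (Fin 2) (Fin 2) K) (hdet : G.det = 1) (hdet' : G'.det = 1)
    (htr : G' 0 0 + G' 1 1 = (G 0 0 + G 1 1) ^ 3) (e : K) (he : e * e = 1)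
    (h : G * X = e • (X * G')) (hX : X ≠ 0) :
    G 0 0 + G 1 1 = 0 ∨ (G 0 0 + G 1 1) ^ 2 = e := by
  set τ := G 0 0 + G 1 1 with hτ
  have hCH := sq_of_det_one G hdet
  have hCH' := sq_of_det_one G' hdet'
  rw [htr] at hCH'
  rw [← hτ] at hCH
  have h2 : G * G * X = X * (G' * G') := by
    rw [Matrix.mul_assoc, h, Matrix.mul_smul, ← Matrix.mul_assoc, h, Matrix.smul_mul, smul_smul, he,
      one_smul, Matrix.mul_assoc]
  rw [hCH, hCH', Matrix.sub_mul, Matrix.mul_sub, Matrix.smul_mul, Matrix.mul_smul, Matrix.one_mul,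
    Matrix.mul_one, h, smul_smul] at h2
  have h3 : (τ * e - τ ^ 3) • (X * G') = 0 := by
    rw [sub_smul]
    exact sub_eq_zero.mpr (sub_left_injective h2)
  have hG' : IsUnit G'.det := by rw [hdet']; exact isUnit_one
  have hXG : X * G' ≠ 0 := by
    intro h0
    apply hX
    have := congrArg (· * G'⁻¹) h0
    simpa [Matrix.mul_assoc, Matrix.mul_nonsing_inv _ hG'] using this
  rcases smul_eq_zero.mp h3 with h4 | h4
  · have h5 : τ * (e - τ ^ 2) = 0 := by linear_combination h4
    rcases mul_eq_zero.mp h5 with h6 | h6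
    · exact Or.inl h6
    · exact Or.inr (by linear_combination -h6)
  · exact absurd h4 hXG

theorem cube_of_trace_one (G : Matrix (Fin 2) (Fin 2) K) (hdet : G.det = 1)
    (htr : G 0 0 + G 1 1 = 1) : G ^ 3 = (-1 : K) • (1 : Matrix (Fin 2) (Fin 2) K) := by
  have hCH := sq_of_det_one G hdet
  rw [htr, one_smul] at hCH
  rw [pow_succ, pow_two, hCH, Matrix.sub_mul, Matrix.one_mul, hCH]
  simp

theorem cube_of_trace_neg_one (G : Matrix (Fin 2) (Fin 2) K) (hdet : G.det = 1)
    (htr : G 0 0 + G 1 1 = -1) : G ^ 3 = (1 : K) • (1 : Matrix (Fin 2) (Fin 2) K) := by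
  have hCH := sq_of_det_one G hdet
  rw [htr] at hCH
  rw [pow_succ, pow_two, hCH, Matrix.sub_mul, Matrix.one_mul, Matrix.smul_mul, hCH]
  simp

theorem sq_of_trace_zero (G : Matrix (Fin 2) (Fin 2) K) (hdet : G.det = 1)
    (htr : G 0 0 + G 1 1 = 0) : G ^ 2 = (-1 : K) • (1 : Matrix (Fin 2) (Fin 2) K) := by
  have hCH := sq_of_det_one G hdet
  rw [htr, zero_smul, zero_sub] at hCH
  rw [pow_two, hCH]
  simp

end mat

section action

variable (K : Type*) [Field K] [CharP K 3]

local notation "SL2" => Matrix.SpecialLinearGroup (Fin 2) K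
local notation "PSL2" => Matrix.ProjectiveSpecialLinearGroup (Fin 2) K
local notation "M2" => Matrix (Fin 2) (Fin 2) K

/-- the entrywise Frobenius on `SL₂(K)` -/
noncomputable def frobSL : SL2 →* SL2 := Matrix.SpecialLinearGroup.map (frobenius K 3)

theorem frobSL_apply (g : SL2) (i j : Fin 2) :
    ((frobSL K g : SL2) : M2) i j = ((g : M2) i j) ^ 3 := rfl

/-- the action of `SL₂(K)` on `M₂(K)`: `X ↦ g X σ(g)⁻¹` -/
noncomputable def actSL : SL2 →* Module.End K M2 where
  toFun g :=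
    { toFun := fun X => (g : M2) * X * (((frobSL K g)⁻¹ : SL2) : M2)
      map_add' := fun X Y => by rw [Matrix.mul_add, Matrix.add_mul]
      map_smul' := fun a X => by
        rw [Matrix.mul_smul, Matrix.smul_mul]
        rfl }
  map_one' := by
    refine LinearMap.ext fun X => ?_
    show ((1 : SL2) : M2) * X * (((frobSL K 1)⁻¹ : SL2) : M2) = X
    simp
  map_mul' g h := by
    refine LinearMap.ext fun X => ?_
    show ((g * h : SL2) : M2) * X * (((frobSL K (g * h))⁻¹ : SL2) : M2) =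
      (g : M2) * ((h : M2) * X * (((frobSL K h)⁻¹ : SL2) : M2)) * (((frobSL K g)⁻¹ : SL2) : M2)
    rw [map_mul, _root_.mul_inv_rev, Matrix.SpecialLinearGroup.coe_mul,
      Matrix.SpecialLinearGroup.coe_mul]
    simp only [Matrix.mul_assoc]

theorem actSL_apply (g : SL2) (X : M2) :
    actSL K g X = (g : M2) * X * (((frobSL K g)⁻¹ : SL2) : M2) := rfl

theorem center_le_ker_actSL : Subgroup.center SL2 ≤ (actSL K).ker := by
  intro z hz
  rw [Matrix.SpecialLinearGroup.mem_center_iff] at hz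
  obtain ⟨r, hr, hz⟩ := hz
  rw [MonoidHom.mem_ker]
  refine LinearMap.ext fun X => ?_
  rw [actSL_apply]
  have hr2 : r ^ 2 = 1 := by simpa using hr
  have hr3 : r ^ 3 = r := by rw [pow_succ, hr2, one_mul]
  have hfz : frobSL K z = z := by
    apply Subtype.ext
    ext i j
    rw [frobSL_apply, ← hz]
    by_cases hij : i = j
    · subst hij
      simp [hr3]
    · simp [hij]
  rw [hfz]
  have hcomm : (z : M2) * X = X * (z : M2) := by
    rw [← hz]
    exact ((Matrix.scalar_commute r (fun r' => (Commute.all r r')) X)).eq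
  rw [hcomm, Matrix.mul_assoc]
  have : (z : M2) * ((z⁻¹ : SL2) : M2) = 1 := by
    rw [← Matrix.SpecialLinearGroup.coe_mul, mul_inv_cancel]
    rfl
  rw [this, Matrix.mul_one]
  rfl

/-- the action of `PSL₂(K)` on `M₂(K)` -/
noncomputable def actPSL : PSL2 →* Module.End K M2 :=
  QuotientGroup.lift (Subgroup.center SL2) (actSL K) (center_le_ker_actSL K)

theorem actPSL_mk (g : SL2) (X : M2) :
    actPSL K (QuotientGroup.mk g) X = (g : M2) * X * (((frobSL K g)⁻¹ : SL2) : M2) := rfl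

/-- the action of `Z₂ × PSL₂(K)` on `M₂(K)` -/
noncomputable instance instSMulM2 : SMul (ℤˣ × PSL2) M2 :=
  ⟨fun c X => ((c.1 : ℤˣ) : ℤ) • actPSL K c.2 X⟩

theorem smul_M2_def (c : ℤˣ × PSL2) (X : M2) : c • X = ((c.1 : ℤˣ) : ℤ) • actPSL K c.2 X := rfl

noncomputable instance instDistribMulActionM2 : DistribMulAction (ℤˣ × PSL2) M2 where
  one_smul X := by
    rw [smul_M2_def]
    simp
  mul_smul c d X := by
    rw [smul_M2_def, smul_M2_def, smul_M2_def]
    rw [Prod.fst_mul, Prod.snd_mul, map_mul, Units.val_mul, mul_smul]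
    show ((c.1 : ℤˣ) : ℤ) • ((d.1 : ℤˣ) : ℤ) • actPSL K c.2 (actPSL K d.2 X) = _
    rw [map_zsmul]
  smul_zero c := by
    rw [smul_M2_def, map_zero, smul_zero]
  smul_add c X Y := by
    rw [smul_M2_def, smul_M2_def, smul_M2_def, map_add, smul_add]

end action

section fixed

variable {K : Type*} [Field K] [Fintype K] [CharP K 3]

local notation "SL2" => Matrix.SpecialLinearGroup (Fin 2) K
local notation "PSL2" => Matrix.ProjectiveSpecialLinearGroup (Fin 2) K
local notation "M2" => Matrix (Fin 2) (Fin 2) K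

omit [CharP K 3] in
/-- `-1` is not a square when `|K| ≡ 3 (mod 4)` -/
theorem sq_ne_neg_one (hK : Fintype.card K % 4 = 3) (t : K) : t ^ 2 ≠ -1 := by
  intro h
  have h1 : IsSquare (-1 : K) := ⟨t, by rw [← h, pow_two]⟩
  exact (FiniteField.isSquare_neg_one_iff.mp h1) hK

omit [Fintype K] in
theorem trace_frobSL (g : SL2) :
    ((frobSL K g : SL2) : M2) 0 0 + ((frobSL K g : SL2) : M2) 1 1 =
      ((g : M2) 0 0 + (g : M2) 1 1) ^ 3 := by
  rw [frobSL_apply, frobSL_apply, add_pow_char ((g : M2) 0 0) ((g : M2) 1 1) 3]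

/-- an element of `Z₂ × PSL₂(K)` with a non-zero fixed point on `M₂(K)` has order dividing `2` or `3` -/
theorem sq_or_cube_eq_one_of_fixed (hK : Fintype.card K % 4 = 3) (c : ℤˣ × PSL2) (X : M2)
    (hX : X ≠ 0) (h : c • X = X) : c ^ 2 = 1 ∨ c ^ 3 = 1 := by
  obtain ⟨ε, y⟩ := c
  obtain ⟨g, rfl⟩ := QuotientGroup.mk_surjective y
  rw [smul_M2_def] at h
  simp only at h
  rw [actPSL_mk] at h
  have hdet : (g : M2).det = 1 := g.2
  have hdet' : ((frobSL K g : SL2) : M2).det = 1 := (frobSL K g).2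
  have hinv : (((frobSL K g)⁻¹ : SL2) : M2) * ((frobSL K g : SL2) : M2) = 1 := by
    rw [← Matrix.SpecialLinearGroup.coe_mul, inv_mul_cancel]
    rfl
  have key : ∀ e : K, e * e = 1 →
      (g : M2) * X = e • (X * ((frobSL K g : SL2) : M2)) →
      (g : M2) 0 0 + (g : M2) 1 1 = 0 ∨ ((g : M2) 0 0 + (g : M2) 1 1) ^ 2 = e := fun e he hh =>
    trace_of_intertwine (g : M2) ((frobSL K g : SL2) : M2) X hdet hdet' (trace_frobSL g) e he hh hX
  have hsq : ∀ (δ : ℤˣ), (g : M2) 0 0 + (g : M2) 1 1 = 0 →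
      ((δ, (QuotientGroup.mk g : PSL2)) : ℤˣ × PSL2) ^ 2 = 1 := by
    intro δ h0
    rw [Prod.pow_mk, Prod.mk_eq_one]
    refine ⟨Int.units_sq δ, ?_⟩
    rw [Cfsg.Agent.Lib.Helper13.mk_pow_eq_one_iff]
    exact ⟨-1, sq_of_trace_zero _ hdet h0⟩
  rcases Int.units_eq_one_or ε with rfl | rfl
  · -- ε = 1
    have h1 : (g : M2) * X = (1 : K) • (X * ((frobSL K g : SL2) : M2)) := by
      rw [one_smul]
      have h2 : (g : M2) * X * (((frobSL K g)⁻¹ : SL2) : M2) = X := by simpa using h
      calc (g : M2) * X = (g : M2) * X * ((((frobSL K g)⁻¹ : SL2) : M2) * ((frobSL K g : SL2) : M2)) := by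
            rw [hinv, Matrix.mul_one]
        _ = X * ((frobSL K g : SL2) : M2) := by rw [← Matrix.mul_assoc, h2]
    rcases key 1 (one_mul 1) h1 with h0 | h0
    · exact Or.inl (hsq 1 h0)
    · right
      rw [Prod.pow_mk, Prod.mk_eq_one]
      refine ⟨one_pow 3, ?_⟩
      rw [Cfsg.Agent.Lib.Helper13.mk_pow_eq_one_iff]
      have h01 : ((g : M2) 0 0 + (g : M2) 1 1 - 1) * ((g : M2) 0 0 + (g : M2) 1 1 + 1) = 0 := by
        linear_combination h0
      rcases mul_eq_zero.mp h01 with h5 | h5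
      · exact ⟨-1, cube_of_trace_one _ hdet (by linear_combination h5)⟩
      · exact ⟨1, cube_of_trace_neg_one _ hdet (by linear_combination h5)⟩
  · -- ε = -1
    have h1 : (g : M2) * X = (-1 : K) • (X * ((frobSL K g : SL2) : M2)) := by
      have h2 : (g : M2) * X * (((frobSL K g)⁻¹ : SL2) : M2) = -X := by
        have : -((g : M2) * X * (((frobSL K g)⁻¹ : SL2) : M2)) = X := by simpa using h
        exact neg_eq_iff_eq_neg.mp this
      calc (g : M2) * X = (g : M2) * X * ((((frobSL K g)⁻¹ : SL2) : M2) * ((frobSL K g : SL2) : M2)) := by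
            rw [hinv, Matrix.mul_one]
        _ = (-1 : K) • (X * ((frobSL K g : SL2) : M2)) := by
            rw [← Matrix.mul_assoc, h2, Matrix.neg_mul, neg_smul, one_smul]
    rcases key (-1) (by ring) h1 with h0 | h0
    · exact Or.inl (hsq (-1) h0)
    · exact absurd h0 (sq_ne_neg_one hK _)

end fixed

end Cfsg.Agent.Lib.Helper9.ReeCube
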