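/-
helper9: finite groups of arbitrarily large order with the same element orders as the cube `R × R × R`
of a group `R` whose element orders are the divisors of `6, 9, q - 1, (q + 1)/2, q - r + 1, q + r + 1`
(`q = 3^(2m+1)`, `r = 3^(m+1)`), e.g. a small Ree group.  The group is `R₀ × R₀ × (V ⋊ (Z₂ × PSL₂(q)))`
with `V` a sum of copies of `M₂(q)` (S3626).
-/
import Mathlib
import Cfsg.Agent.Lib.Helper9.ReeCubeA
import Cfsg.Agent.Lib.Helper9.ReeCubeB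

set_option autoImplicit false

namespace Cfsg.Agent.Lib.Helper9.ReeCube

open Matrix

/-- the element orders of the Ree group -/
def Om (m d : ℕ) : Prop :=
  d ∣ 6 ∨ d ∣ 9 ∨ d ∣ 3 ^ (2 * m + 1) - 1 ∨ d ∣ (3 ^ (2 * m + 1) + 1) / 2 ∨
    d ∣ 3 ^ (2 * m + 1) - 3 ^ (m + 1) + 1 ∨ d ∣ 3 ^ (2 * m + 1) + 3 ^ (m + 1) + 1

/-- the element orders of the affine group -/
def Dm (m d : ℕ) : Prop :=
  d ∣ 6 ∨ d ∣ 9 ∨ d ∣ 3 ^ (2 * m + 1) - 1 ∨ d ∣ (3 ^ (2 * m + 1) + 1) / 2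

theorem Dm.om {m d : ℕ} (h : Dm m d) : Om m d := by
  rcases h with h | h | h | h
  · exact Or.inl h
  · exact Or.inr (Or.inl h)
  · exact Or.inr (Or.inr (Or.inl h))
  · exact Or.inr (Or.inr (Or.inr (Or.inl h)))

theorem Om.cases {m d : ℕ} (h : Om m d) :
    Dm m d ∨ d ∣ 3 ^ (2 * m + 1) - 3 ^ (m + 1) + 1 ∨ d ∣ 3 ^ (2 * m + 1) + 3 ^ (m + 1) + 1 := by
  rcases h with h | h | h | h | h | h
  · exact Or.inl (Or.inl h)
  · exact Or.inl (Or.inr (Or.inl h))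
  · exact Or.inl (Or.inr (Or.inr (Or.inl h)))
  · exact Or.inl (Or.inr (Or.inr (Or.inr h)))
  · exact Or.inr (Or.inl h)
  · exact Or.inr (Or.inr h)

theorem Dm.one (m : ℕ) : Dm m 1 := Or.inl (one_dvd _)

/-- three element orders of `R` can be rearranged so that the third one is an order of the affine
group -/
theorem lcm_rearrange {m a b c : ℕ} (ha : Om m a) (hb : Om m b) (hc : Om m c) :
    ∃ a' b' c', Om m a' ∧ Om m b' ∧ Dm m c' ∧ Nat.lcm a' (Nat.lcm b' c') = Nat.lcm a (Nat.lcm b c) := by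
  -- merging two divisors of the same torus order
  have merge3 : ∀ x y z : ℕ, x ∣ 3 ^ (2 * m + 1) - 3 ^ (m + 1) + 1 → y ∣ 3 ^ (2 * m + 1) - 3 ^ (m + 1) + 1 →
      Om m z → ∃ a' b' c', Om m a' ∧ Om m b' ∧ Dm m c' ∧
        Nat.lcm a' (Nat.lcm b' c') = Nat.lcm x (Nat.lcm y z) := by
    intro x y z hx hy hz
    refine ⟨Nat.lcm x y, z, 1, Or.inr (Or.inr (Or.inr (Or.inr (Or.inl (Nat.lcm_dvd hx hy))))), hz,
      Dm.one m, ?_⟩
    rw [Nat.lcm_one_right, Nat.lcm_assoc]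
  have merge4 : ∀ x y z : ℕ, x ∣ 3 ^ (2 * m + 1) + 3 ^ (m + 1) + 1 → y ∣ 3 ^ (2 * m + 1) + 3 ^ (m + 1) + 1 →
      Om m z → ∃ a' b' c', Om m a' ∧ Om m b' ∧ Dm m c' ∧
        Nat.lcm a' (Nat.lcm b' c') = Nat.lcm x (Nat.lcm y z) := by
    intro x y z hx hy hz
    refine ⟨Nat.lcm x y, z, 1, Or.inr (Or.inr (Or.inr (Or.inr (Or.inr (Nat.lcm_dvd hx hy))))), hz,
      Dm.one m, ?_⟩
    rw [Nat.lcm_one_right, Nat.lcm_assoc]
  have e1 : Nat.lcm a (Nat.lcm b c) = Nat.lcm a (Nat.lcm c b) := by rw [Nat.lcm_comm b c]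
  have e2 : Nat.lcm a (Nat.lcm b c) = Nat.lcm b (Nat.lcm c a) := by ac_rfl
  have e3 : Nat.lcm a (Nat.lcm b c) = Nat.lcm c (Nat.lcm b a) := by ac_rfl
  rcases hc.cases with hc' | hc'
  · exact ⟨a, b, c, ha, hb, hc', rfl⟩
  rcases ha.cases with ha' | ha'
  · exact ⟨c, b, a, hc, hb, ha', e3.symm⟩
  rcases hb.cases with hb' | hb'
  · exact ⟨a, c, b, ha, hc, hb', e1.symm⟩
  rcases ha' with ha' | ha' <;> rcases hb' with hb' | hb' <;> rcases hc' with hc' | hc'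
  · exact merge3 a b c ha' hb' hc
  · exact merge3 a b c ha' hb' hc
  · rw [e1]; exact merge3 a c b ha' hc' hb
  · rw [e2]; exact merge4 b c a hb' hc' ha
  · rw [e2]; exact merge3 b c a hb' hc' ha
  · rw [e1]; exact merge4 a c b ha' hc' hb
  · exact merge4 a b c ha' hb' hc
  · exact merge4 a b c ha' hb' hc

/-- the element orders of a triple product -/
theorem range_orderOf_prod3 {X Y Z : Type*} [Group X] [Group Y] [Group Z] (n : ℕ) :
    n ∈ Set.range (orderOf : X × Y × Z → ℕ) ↔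
      ∃ a b c : ℕ, (∃ x : X, orderOf x = a) ∧ (∃ y : Y, orderOf y = b) ∧ (∃ z : Z, orderOf z = c) ∧
        Nat.lcm a (Nat.lcm b c) = n := by
  constructor
  · rintro ⟨⟨x, y, z⟩, rfl⟩
    exact ⟨orderOf x, orderOf y, orderOf z, ⟨x, rfl⟩, ⟨y, rfl⟩, ⟨z, rfl⟩, by
      rw [Prod.orderOf, Prod.orderOf]⟩
  · rintro ⟨a, b, c, ⟨x, rfl⟩, ⟨y, rfl⟩, ⟨z, rfl⟩, rfl⟩
    exact ⟨(x, y, z), by rw [Prod.orderOf, Prod.orderOf]⟩

/-- the isospectrality criterion -/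
theorem range_eq_of_spectra {m : ℕ} {R R0 A : Type*} [Group R] [Group R0] [Group A]
    (hR : ∀ d, (∃ g : R, orderOf g = d) ↔ Om m d) (hR0 : ∀ d, (∃ g : R0, orderOf g = d) ↔ Om m d)
    (hA : ∀ d, (∃ g : A, orderOf g = d) ↔ Dm m d) :
    Set.range (orderOf : R0 × R0 × A → ℕ) = Set.range (orderOf : R × R × R → ℕ) := by
  ext n
  rw [range_orderOf_prod3, range_orderOf_prod3]
  constructor
  · rintro ⟨a, b, c, ha, hb, hc, rfl⟩
    exact ⟨a, b, c, (hR a).mpr ((hR0 a).mp ha), (hR b).mpr ((hR0 b).mp hb),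
      (hR c).mpr ((hA c).mp hc).om, rfl⟩
  · rintro ⟨a, b, c, ha, hb, hc, rfl⟩
    obtain ⟨a', b', c', ha', hb', hc', e⟩ :=
      lcm_rearrange ((hR a).mp ha) ((hR b).mp hb) ((hR c).mp hc)
    exact ⟨a', b', c', (hR0 a').mpr ha', (hR0 b').mpr hb', (hA c').mpr hc', e⟩

end Cfsg.Agent.Lib.Helper9.ReeCube
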