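/-
helper9: the element orders of the affine group `V ⋊ (Z₂ × PSL₂(q))`, `V = M₂(q)^n`, `q = 3^(2m+1)`:
the divisors of `6, 9, q - 1, (q + 1)/2`; and groups of arbitrarily large order isospectral to the cube
of a Ree group (S3626).
-/
import Mathlib
import Cfsg.Agent.Lib.Helper9.ReeCubeC

set_option autoImplicit false

namespace Cfsg.Agent.Lib.Helper9.ReeCube

open Matrix

theorem three_pow_eq (m : ℕ) : ∃ k, 3 ^ (2 * m + 1) = 8 * k + 3 := by
  have h : 3 ^ (2 * m + 1) % 8 = 3 := by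
    rw [pow_succ, pow_mul, Nat.mul_mod, Nat.pow_mod]
    norm_num
  exact ⟨3 ^ (2 * m + 1) / 8, by omega⟩

section spectrumA

variable {K : Type*} [Field K] [Fintype K] [CharP K 3] {m : ℕ}

local notation "SL2" => Matrix.SpecialLinearGroup (Fin 2) K
local notation "PSL2" => Matrix.ProjectiveSpecialLinearGroup (Fin 2) K
local notation "M2" => Matrix (Fin 2) (Fin 2) K

omit [Fintype K] in
theorem three_nsmul_eq_zero (n : ℕ) (v : Fin n → M2) : 3 • v = 0 := by
  funext i
  ext a b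
  simp only [Pi.smul_apply, Matrix.smul_apply, Pi.zero_apply, Matrix.zero_apply, nsmul_eq_mul]
  have : ((3 : ℕ) : K) = 0 := CharP.cast_eq_zero K 3
  rw [this, zero_mul]

theorem orderOf_units_dvd_two (ε : ℤˣ) : orderOf ε ∣ 2 :=
  orderOf_dvd_of_pow_eq_one (Int.units_sq ε)

theorem orderOf_neg_one_units : orderOf (-1 : ℤˣ) = 2 := by
  have : Fact (Nat.Prime 2) := ⟨Nat.prime_two⟩
  exact orderOf_eq_prime (by decide) (by decide)

variable (hK : Fintype.card K = 3 ^ (2 * m + 1))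
include hK

/-- the element orders of `Z₂ × PSL₂(q)` -/
theorem orderOf_C_dvd (c : ℤˣ × PSL2) :
    orderOf c ∣ 6 ∨ orderOf c ∣ 3 ^ (2 * m + 1) - 1 ∨ orderOf c ∣ (3 ^ (2 * m + 1) + 1) / 2 := by
  obtain ⟨k, hk⟩ := three_pow_eq m
  have hgcd : Nat.gcd 2 (Fintype.card K - 1) = 2 := by
    rw [hK, hk]
    have : 8 * k + 3 - 1 = 2 * (4 * k + 1) := by omega
    rw [this]
    exact Nat.gcd_mul_right_right _ _ ▸ (by simp)
  have h2 := orderOf_units_dvd_two c.1
  rw [Prod.orderOf]
  rcases Cfsg.Agent.Lib.Helper13.PSL2_orderOf_dvd 3 c.2 with h | h | h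
  · left
    exact Nat.lcm_dvd (dvd_trans h2 (by norm_num)) (dvd_trans h (by norm_num))
  · right; left
    rw [hgcd, hK, hk] at h
    rw [hk]
    have e1 : 8 * k + 3 - 1 = 2 * (4 * k + 1) := by omega
    rw [e1] at h ⊢
    rw [Nat.mul_div_cancel_left _ (by norm_num : 0 < 2)] at h
    exact Nat.lcm_dvd (dvd_trans h2 (Dvd.intro _ rfl)) (dvd_trans h (Dvd.intro_left _ rfl))
  · right; right
    rw [hgcd, hK, hk] at h
    rw [hk]
    have e1 : (8 * k + 3 + 1) / 2 = 2 * (2 * k + 1) := by omega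
    rw [e1] at h ⊢
    exact Nat.lcm_dvd (dvd_trans h2 (Dvd.intro _ rfl)) h

omit hK in
/-- the unipotent element -/
def uSL : SL2 := ⟨!![1, 1; 0, 1], by simp [Matrix.det_fin_two]⟩

omit [Fintype K] [CharP K 3] hK in
theorem uSL_coe : ((uSL : SL2) : M2) = !![1, 1; 0, 1] := rfl

omit [Fintype K] [CharP K 3] hK in
theorem uSL_inv_coe : (((uSL : SL2)⁻¹ : SL2) : M2) = !![1, -1; 0, 1] := by
  rw [Matrix.SpecialLinearGroup.coe_inv, uSL_coe, Matrix.adjugate_fin_two]
  simp

omit [Fintype K] hK in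
theorem frobSL_uSL : frobSL K (uSL (K := K)) = uSL := by
  apply Subtype.ext
  ext i j
  rw [frobSL_apply]
  fin_cases i <;> fin_cases j <;> simp [uSL]

omit [Fintype K] hK in
theorem uSL_cube : ((uSL (K := K) : SL2) : M2) ^ 3 = (1 : K) • (1 : M2) := by
  have h3 : (3 : K) = 0 := by
    have : ((3 : ℕ) : K) = 0 := CharP.cast_eq_zero K 3
    exact_mod_cast this
  ext i j
  fin_cases i <;> fin_cases j <;> simp [uSL, pow_succ, Matrix.mul_apply, Fin.sum_univ_two]
  linear_combination h3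

omit [Fintype K] hK in
/-- the norm of the unipotent element on `E₂₁` is non-zero -/
theorem norm_uSL_ne_zero :
    let c : ℤˣ × PSL2 := (1, QuotientGroup.mk uSL)
    let X : M2 := !![0, 0; 1, 0]
    X + c • X + c • c • X ≠ 0 := by
  intro c X h
  have h3 : (3 : K) = 0 := by
    have : ((3 : ℕ) : K) = 0 := CharP.cast_eq_zero K 3
    exact_mod_cast this
  have hc : ∀ Y : M2, c • Y = ((uSL : SL2) : M2) * Y * (((uSL : SL2)⁻¹ : SL2) : M2) := by
    intro Y
    rw [smul_M2_def]
    show ((1 : ℤˣ) : ℤ) • actPSL K (QuotientGroup.mk uSL) Y = _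
    rw [actPSL_mk, frobSL_uSL, Units.val_one, one_smul]
  simp only [hc] at h
  rw [uSL_coe, uSL_inv_coe] at h
  have h01 := congrFun (congrFun h 0) 1
  simp [X] at h01
  have : (1 : K) = 0 := by linear_combination h01 + 2 * h3
  exact one_ne_zero this

/-- **the element orders of the affine group** -/
theorem spectrum_aff (hm : 1 ≤ m) (n : ℕ) (hn : 0 < n) (d : ℕ) :
    (∃ x : Aff (ℤˣ × PSL2) (Fin n → M2), orderOf x = d) ↔ Dm m d := by
  obtain ⟨k, hk⟩ := three_pow_eq m
  have hK4 : Fintype.card K % 4 = 3 := by rw [hK, hk]; omega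
  have hgcd : Nat.gcd 2 (Fintype.card K - 1) = 2 := by
    rw [hK, hk]
    have : 8 * k + 3 - 1 = 2 * (4 * k + 1) := by omega
    rw [this]
    exact Nat.gcd_mul_right_right _ _ ▸ (by simp)
  have h3 := three_nsmul_eq_zero (K := K) n
  constructor
  · rintro ⟨x, rfl⟩
    by_cases hfix : ∃ X : M2, X ≠ 0 ∧ x.c • X = X
    · obtain ⟨X, hX, hfX⟩ := hfix
      rcases Aff.orderOf_eq_or h3 x with ho | ho
      · rcases sq_or_cube_eq_one_of_fixed hK4 x.c X hX hfX with hc | hc
        · left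
          rw [ho]
          exact dvd_trans (orderOf_dvd_of_pow_eq_one hc) (by norm_num)
        · right; left
          rw [ho]
          exact dvd_trans (orderOf_dvd_of_pow_eq_one hc) (by norm_num)
      · rcases sq_or_cube_eq_one_of_fixed hK4 x.c X hX hfX with hc | hc
        · left
          rw [ho]
          exact Nat.mul_dvd_mul_left 3 (orderOf_dvd_of_pow_eq_one hc)
        · right; left
          rw [ho]
          exact Nat.mul_dvd_mul_left 3 (orderOf_dvd_of_pow_eq_one hc)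
    · have hfpf : ∀ w : Fin n → M2, x.c • w = w → w = 0 := by
        intro w hw
        funext i
        by_contra hwi
        exact hfix ⟨w i, hwi, congrFun hw i⟩
      rw [Aff.orderOf_eq_of_fpf x hfpf]
      rcases orderOf_C_dvd hK x.c with h | h | h
      · exact Or.inl h
      · exact Or.inr (Or.inr (Or.inl h))
      · exact Or.inr (Or.inr (Or.inr h))
  · intro hd
    have hfin : ∀ y : Aff (ℤˣ × PSL2) (Fin n → M2), orderOf y ≠ 0 := fun y => (orderOf_pos y).ne'
    have hincl : ∀ c : ℤˣ × PSL2, ∃ y : Aff (ℤˣ × PSL2) (Fin n → M2), orderOf y = orderOf c := fun c =>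
      ⟨Aff.incl c, orderOf_injective Aff.incl Aff.incl_injective c⟩
    rcases hd with hd | hd | hd | hd
    · -- 6
      obtain ⟨y3, hy3⟩ := Cfsg.Agent.Lib.Helper13.exists_orderOf_eq_char (F := K) 3
      obtain ⟨y, hy⟩ := hincl ((-1 : ℤˣ), y3)
      rw [Prod.orderOf, orderOf_neg_one_units, hy3] at hy
      have h6 : Nat.lcm 2 3 = 6 := by decide
      rw [h6] at hy
      exact Cfsg.Agent.Lib.Helper13.exists_orderOf_eq_of_dvd y d (hy ▸ hd) (hfin y)
    · -- 9
      have hN := norm_uSL_ne_zero (K := K)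
      simp only at hN
      have hc3 : ((1, QuotientGroup.mk uSL) : ℤˣ × PSL2) ^ 3 = 1 := by
        rw [Prod.pow_mk, Prod.mk_eq_one]
        refine ⟨one_pow 3, ?_⟩
        rw [Cfsg.Agent.Lib.Helper13.mk_pow_eq_one_iff]
        exact ⟨1, uSL_cube⟩
      have h9 := Aff.orderOf_eq_nine h3 (fun _ => (!![0, 0; 1, 0] : M2))
        ((1, QuotientGroup.mk uSL) : ℤˣ × PSL2) hc3 (by
          intro h
          exact hN (congrFun h ⟨0, hn⟩))
      exact Cfsg.Agent.Lib.Helper13.exists_orderOf_eq_of_dvd _ d (h9 ▸ hd) (hfin _)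
    · -- q - 1
      obtain ⟨ys, hys⟩ := Cfsg.Agent.Lib.Helper13.exists_orderOf_eq_split (F := K) 3
        (by
          rw [hK]
          have : 3 ^ 3 ≤ 3 ^ (2 * m + 1) := Nat.pow_le_pow_right (by norm_num) (by omega)
          omega)
      obtain ⟨y, hy⟩ := hincl ((-1 : ℤˣ), ys)
      rw [Prod.orderOf, orderOf_neg_one_units, hys, hgcd, hK, hk] at hy
      have e1 : 8 * k + 3 - 1 = 2 * (4 * k + 1) := by omega
      rw [e1, Nat.mul_div_cancel_left _ (by norm_num : 0 < 2)] at hy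
      have hcop : Nat.Coprime 2 (4 * k + 1) := by
        rw [Nat.coprime_two_left]
        exact ⟨2 * k, by ring⟩
      rw [hcop.lcm_eq_mul] at hy
      rw [hk, e1] at hd
      exact Cfsg.Agent.Lib.Helper13.exists_orderOf_eq_of_dvd y d (hy ▸ hd) (hfin y)
    · -- (q + 1) / 2
      obtain ⟨yn, hyn⟩ := Cfsg.Agent.Lib.Helper13.exists_orderOf_eq_nonsplit (F := K) 3
      obtain ⟨y, hy⟩ := hincl ((1 : ℤˣ), yn)
      rw [Prod.orderOf, orderOf_one, Nat.lcm_one_left, hyn, hgcd, hK] at hy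
      exact Cfsg.Agent.Lib.Helper13.exists_orderOf_eq_of_dvd y d (hy ▸ hd) (hfin y)

end spectrumA

/-- **groups of arbitrarily large order isospectral to the cube of `R`**, given the element orders of `R`
and of a model `R₀` in `Type` -/
theorem exists_isospectral_cube {m : ℕ} (hm : 1 ≤ m) {R : Type*} [Group R]
    (hR : ∀ d, (∃ g : R, orderOf g = d) ↔ Om m d)
    {R0 : Type} [Group R0] [Finite R0] (hR0 : ∀ d, (∃ g : R0, orderOf g = d) ↔ Om m d) (N : ℕ) :
    ∃ (H : Type) (_ : Group H) (_ : Fintype H), N < Fintype.card H ∧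
      Set.range (orderOf : H → ℕ) = Set.range (orderOf : R × R × R → ℕ) := by
  classical
  let K0 := GaloisField 3 (2 * m + 1)
  let _ : Fintype K0 := Fintype.ofFinite K0
  have hK0 : Fintype.card K0 = 3 ^ (2 * m + 1) := by
    rw [← Nat.card_eq_fintype_card]
    exact GaloisField.card 3 (2 * m + 1) (by omega)
  let A := Aff (ℤˣ × Matrix.ProjectiveSpecialLinearGroup (Fin 2) K0)
    (Fin (N + 1) → Matrix (Fin 2) (Fin 2) K0)
  have hA : ∀ d, (∃ g : A, orderOf g = d) ↔ Dm m d := fun d =>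
    spectrum_aff (K := K0) hK0 hm (N + 1) (Nat.succ_pos N) d
  refine ⟨R0 × R0 × A, inferInstance, Fintype.ofFinite _, ?_, range_eq_of_spectra hR hR0 hA⟩
  rw [Fintype.card_eq_nat_card, Nat.card_prod, Nat.card_prod]
  have hR0pos : 0 < Nat.card R0 := Nat.card_pos
  have hCpos : 0 < Nat.card (ℤˣ × Matrix.ProjectiveSpecialLinearGroup (Fin 2) K0) := Nat.card_pos
  have hV : N < Nat.card (Fin (N + 1) → Matrix (Fin 2) (Fin 2) K0) := by
    rw [Nat.card_fun, Nat.card_fin]
    have h2 : 2 ≤ Nat.card (Matrix (Fin 2) (Fin 2) K0) := by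
      have := Finite.one_lt_card (α := Matrix (Fin 2) (Fin 2) K0)
      omega
    calc N < 2 ^ N := Nat.lt_two_pow_self
      _ ≤ 2 ^ (N + 1) := Nat.pow_le_pow_right (by norm_num) (Nat.le_succ N)
      _ ≤ Nat.card (Matrix (Fin 2) (Fin 2) K0) ^ (N + 1) := Nat.pow_le_pow_left h2 _
  have hAcard : N < Nat.card A := by
    rw [Aff.card_eq]
    calc N < Nat.card (Fin (N + 1) → Matrix (Fin 2) (Fin 2) K0) := hV
      _ ≤ _ := Nat.le_mul_of_pos_right _ hCpos
  calc N < Nat.card A := hAcard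
    _ ≤ Nat.card R0 * Nat.card A := Nat.le_mul_of_pos_left _ hR0pos
    _ ≤ Nat.card R0 * (Nat.card R0 * Nat.card A) := Nat.le_mul_of_pos_left _ hR0pos

end Cfsg.Agent.Lib.Helper9.ReeCube
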