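/-
helper9: the number of elements of order `3` and of order `9` of the Ree group `²G₂(q)`,
`q = 3^(2m+1)` (work package WP-M for helper13's Ree cluster, statement S2357).

Generic part: if the Sylow `p`-subgroups of a finite group intersect pairwise trivially, then for
`d = p^k`, `k ≥ 1`, the number of elements of order `d` is `n_p` times the number of such elements
in one Sylow `p`-subgroup.
-/
import Cfsg.Agent.Lib.Helper6.ReeThreeExp

set_option autoImplicit false

namespace Cfsg.Agent.Lib.Helper9.ReeOrd39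

open Cfsg Cfsg.Lie Matrix Cfsg.Agent.Lib.Helper7 Cfsg.Agent.Lib.Helper27.ReeCent
  Cfsg.Agent.Lib.Helper6.ReeThree

section General

variable {G : Type*} [Group G] [Finite G] {p : ℕ} [Fact p.Prime]

/-- conjugate Sylow subgroups have the same number of elements of each order -/
theorem card_mem_orderOf_smul (P : Sylow p G) (c : G) (d : ℕ) :
    Nat.card {g : G // g ∈ ((c • P : Sylow p G) : Subgroup G) ∧ orderOf g = d} =
      Nat.card {g : G // g ∈ (P : Subgroup G) ∧ orderOf g = d} := by
  refine Nat.card_congr (Equiv.symm ?_)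
  refine Equiv.subtypeEquiv (MulAut.conj c).toEquiv ?_
  intro g
  show _ ↔ c * g * c⁻¹ ∈ ((c • P : Sylow p G) : Subgroup G) ∧ orderOf (c * g * c⁻¹) = d
  have ho : orderOf (c * g * c⁻¹) = orderOf g := MulEquiv.orderOf_eq (MulAut.conj c) g
  rw [sylow_mem_smul, ho]
  have : c⁻¹ * (c * g * c⁻¹) * c = g := by group
  rw [this]

/-- counting the elements of order `p^k` when the Sylow `p`-subgroups intersect trivially -/
theorem card_orderOf_eq_of_TI (k : ℕ) (hk : 1 ≤ k)
    (hTI : ∀ P Q : Sylow p G, P ≠ Q → (P : Subgroup G) ⊓ (Q : Subgroup G) = ⊥) (P₀ : Sylow p G) :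
    Nat.card {g : G // orderOf g = p ^ k} =
      Nat.card (Sylow p G) * Nat.card {g : G // g ∈ (P₀ : Subgroup G) ∧ orderOf g = p ^ k} := by
  classical
  have : Fintype G := Fintype.ofFinite G
  have : Fintype (Sylow p G) := Fintype.ofFinite _
  have hp : p.Prime := Fact.out
  have hall : ∀ P : Sylow p G,
      (Finset.univ.filter (fun g : G => g ∈ (P : Subgroup G) ∧ orderOf g = p ^ k)).card =
        Nat.card {g : G // g ∈ (P₀ : Subgroup G) ∧ orderOf g = p ^ k} := by
    intro P
    obtain ⟨c, hc⟩ := MulAction.exists_smul_eq G P₀ P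
    rw [← card_mem_orderOf_smul P₀ c, hc, Nat.card_eq_fintype_card, Fintype.card_subtype]
  rw [Nat.card_eq_fintype_card, Fintype.card_subtype, Nat.card_eq_fintype_card]
  have key : (Finset.univ.filter (fun g : G => orderOf g = p ^ k)) =
      (Finset.univ : Finset (Sylow p G)).biUnion
        (fun P => Finset.univ.filter (fun g : G => g ∈ (P : Subgroup G) ∧ orderOf g = p ^ k)) := by
    ext g
    simp only [Finset.mem_filter, Finset.mem_univ, true_and, Finset.mem_biUnion]
    constructor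
    · intro hg
      obtain ⟨P, hgP⟩ := exists_sylow_mem_of_pow_eq_one (p := p) k g (by rw [← hg, pow_orderOf_eq_one])
      exact ⟨P, hgP, hg⟩
    · rintro ⟨P, -, hg⟩
      exact hg
  rw [key, Finset.card_biUnion]
  · rw [Finset.sum_const_nat (m := Nat.card {g : G // g ∈ (P₀ : Subgroup G) ∧ orderOf g = p ^ k}),
      Finset.card_univ]
    intro P _
    exact hall P
  · intro P _ Q _ hPQ
    rw [Function.onFun, Finset.disjoint_left]
    intro g hgP hgQ
    simp only [Finset.mem_filter, Finset.mem_univ, true_and] at hgP hgQ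
    have : g ∈ (P : Subgroup G) ⊓ (Q : Subgroup G) := Subgroup.mem_inf.mpr ⟨hgP.1, hgQ.1⟩
    rw [hTI P Q hPQ, Subgroup.mem_bot] at this
    have h1 := hgP.2
    rw [this, orderOf_one] at h1
    have h2 : 1 < p ^ k := Nat.one_lt_pow (by omega) hp.one_lt
    omega

end General

section Ree

variable {K : Type*} [Field K] [Fintype K] {m : ℕ} (hK : Fintype.card K = 3 ^ (2 * m + 1))
include hK

/-- the elements of order `3` of `U¹`, as elements of the Ree group -/
theorem card_reeUnip_order_three :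
    Nat.card {g : ↥(twistedG2 K (3 ^ m)) // g ∈ reeUnip K m ∧ orderOf g = 3} =
      (3 ^ (2 * m + 1)) ^ 2 - 1 := by
  rw [← ree_card_order_three hK]
  refine Nat.card_congr ?_
  refine
    { toFun := fun g => ⟨⟨(g.1 : GL chevG2.Idx K),
          Subgroup.mem_inf.mpr ⟨(mem_reeUnip g.1).mp g.2.1, g.1.2⟩⟩, ?_⟩
      invFun := fun u => ⟨⟨(u.1 : GL chevG2.Idx K), (Subgroup.mem_inf.mp u.1.2).2⟩, ?_, ?_⟩
      left_inv := fun g => rfl
      right_inv := fun u => rfl }
  · rw [Subgroup.orderOf_mk, Subgroup.orderOf_coe]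
    exact g.2.2
  · rw [mem_reeUnip]
    exact (Subgroup.mem_inf.mp u.1.2).1
  · rw [Subgroup.orderOf_mk, Subgroup.orderOf_coe]
    exact u.2

/-- the elements of order `9` of `U¹`, as elements of the Ree group -/
theorem card_reeUnip_order_nine :
    Nat.card {g : ↥(twistedG2 K (3 ^ m)) // g ∈ reeUnip K m ∧ orderOf g = 9} =
      (3 ^ (2 * m + 1)) ^ 3 - (3 ^ (2 * m + 1)) ^ 2 := by
  classical
  have h3 := card_reeUnip_order_three hK
  have hU := card_reeUnip hK
  have : Fintype ↥(twistedG2 K (3 ^ m)) := Fintype.ofFinite _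
  rw [Nat.card_eq_fintype_card, Fintype.card_subtype] at h3 ⊢
  have hU' : (Finset.univ.filter (fun g : ↥(twistedG2 K (3 ^ m)) => g ∈ reeUnip K m)).card =
      (3 ^ (2 * m + 1)) ^ 3 := by
    rw [← hU, Nat.card_eq_fintype_card, Fintype.card_subtype]
  have hsplit : (Finset.univ.filter (fun g : ↥(twistedG2 K (3 ^ m)) => g ∈ reeUnip K m)) =
      insert (1 : ↥(twistedG2 K (3 ^ m)))
        ((Finset.univ.filter (fun g : ↥(twistedG2 K (3 ^ m)) => g ∈ reeUnip K m ∧ orderOf g = 3)) ∪
         (Finset.univ.filter (fun g : ↥(twistedG2 K (3 ^ m)) => g ∈ reeUnip K m ∧ orderOf g = 9))) := by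
    ext g
    simp only [Finset.mem_filter, Finset.mem_univ, true_and, Finset.mem_insert, Finset.mem_union]
    constructor
    · intro hg
      have h9 : g ^ (3 ^ 2) = 1 := pow_nine_of_mem_reeUnip hK g hg
      obtain ⟨j, hj, hj'⟩ := (Nat.dvd_prime_pow Nat.prime_three).mp (orderOf_dvd_of_pow_eq_one h9)
      interval_cases j
      · left
        exact orderOf_eq_one_iff.mp (by simpa using hj')
      · right; left
        exact ⟨hg, by simpa using hj'⟩
      · right; right
        exact ⟨hg, by simpa using hj'⟩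
    · rintro (rfl | ⟨hg, -⟩ | ⟨hg, -⟩)
      · exact Subgroup.one_mem _
      · exact hg
      · exact hg
  rw [hsplit, Finset.card_insert_of_notMem, Finset.card_union_of_disjoint, h3] at hU'
  · have hq : (3 ^ (2 * m + 1)) ^ 2 ≥ 1 := Nat.one_le_pow _ _ (by positivity)
    omega
  · rw [Finset.disjoint_left]
    intro g h1 h2
    simp only [Finset.mem_filter, Finset.mem_univ, true_and] at h1 h2
    omega
  · simp only [Finset.mem_union, Finset.mem_filter, Finset.mem_univ, true_and, orderOf_one]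
    omega

/-- **WP-M (1)**: the number of elements of order `3` of `²G₂(q)` -/
theorem ree_card_order_three :
    Nat.card {g : ↥(twistedG2 K (3 ^ m)) // orderOf g = 3} =
      ((3 ^ (2 * m + 1)) ^ 2 - 1) * ((3 ^ (2 * m + 1)) ^ 3 + 1) := by
  have : Fact (Nat.Prime 3) := ⟨Nat.prime_three⟩
  have h := card_orderOf_eq_of_TI (G := ↥(twistedG2 K (3 ^ m))) (p := 3) 1 le_rfl
    (ree_sylow3_TI hK) (Sylow.ofCard (reeUnip K m) (card_reeUnip_eq_sylow hK))
  rw [pow_one] at h
  rw [h, card_sylow_three hK]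
  have h3 := card_reeUnip_order_three hK
  rw [Sylow.coe_ofCard, h3, mul_comm]

/-- **WP-M (2)**: the number of elements of order `9` of `²G₂(q)` -/
theorem ree_card_order_nine :
    Nat.card {g : ↥(twistedG2 K (3 ^ m)) // orderOf g = 9} =
      (3 ^ (2 * m + 1)) ^ 2 * (3 ^ (2 * m + 1) - 1) * ((3 ^ (2 * m + 1)) ^ 3 + 1) := by
  have : Fact (Nat.Prime 3) := ⟨Nat.prime_three⟩
  have h := card_orderOf_eq_of_TI (G := ↥(twistedG2 K (3 ^ m))) (p := 3) 2 (by norm_num)
    (ree_sylow3_TI hK) (Sylow.ofCard (reeUnip K m) (card_reeUnip_eq_sylow hK))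
  have e9 : (3 : ℕ) ^ 2 = 9 := by norm_num
  rw [e9] at h
  rw [h, card_sylow_three hK]
  have h9 := card_reeUnip_order_nine hK
  rw [Sylow.coe_ofCard, h9, mul_comm]
  congr 1
  have h1 : 1 ≤ 3 ^ (2 * m + 1) := Nat.one_le_pow _ _ (by norm_num)
  obtain ⟨t, ht⟩ : ∃ t, 3 ^ (2 * m + 1) = t + 1 := ⟨3 ^ (2 * m + 1) - 1, by omega⟩
  rw [ht, Nat.add_sub_cancel]
  have : (t + 1) ^ 3 = (t + 1) ^ 2 * t + (t + 1) ^ 2 := by ring
  rw [this, Nat.add_sub_cancel]

end Ree

end Cfsg.Agent.Lib.Helper9.ReeOrd39
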