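import Cfsg.Agent.Lib.Helper9.RuMinH
import Cfsg.Agent.Lib.Helper14.RuLatF

set_option autoImplicit false

/-!
# The automorphism group of the Rudvalis lattice: stabiliser chains along vectors of norm 16
-/

namespace Cfsg.Agent.Lib.Helper9.RuAut

open Cfsg.Spor Cfsg.Agent.Lib.Helper14.RuLat Cfsg.Agent.Lib.Helper9.RuDfs Cfsg.Agent.Lib.Helper9.RuMin

theorem coe_ruI (v : ruLattice) : ((ruI v : ruLattice) : RuVec) = gI • (v : RuVec) := rfl

theorem herm_re_map {f : Equiv.Perm ruLattice} (hf : f ∈ fourRu) (v w : ruLattice) :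
    (herm (f v : RuVec) (f w : RuVec)).re = (herm (v : RuVec) (w : RuVec)).re := by
  have h1 := ruNorm_add (f v : RuVec) (f w : RuVec)
  have h2 := ruNorm_add (v : RuVec) (w : RuVec)
  have h3 : ((f v : ruLattice) : RuVec) + ((f w : ruLattice) : RuVec) = ((f (v + w) : ruLattice) : RuVec) := by
    rw [hf.1]; rfl
  rw [h3, hf.2.2, hf.2.2, hf.2.2] at h1
  have h4 : ((v + w : ruLattice) : RuVec) = (v : RuVec) + (w : RuVec) := rfl
  rw [h4] at h1
  omega

theorem herm_map {f : Equiv.Perm ruLattice} (hf : f ∈ fourRu) (v w : ruLattice) :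
    herm (f v : RuVec) (f w : RuVec) = herm (v : RuVec) (w : RuVec) := by
  ext
  · exact herm_re_map hf v w
  · have h := herm_re_map hf v (ruI w)
    rw [hf.2.1, coe_ruI, coe_ruI, herm_smul_right, herm_smul_right] at h
    have e : ∀ z : GaussianInt, (star gI * z).re = z.im := by
      intro z
      simp [gI]
    rwa [e, e] at h

/-- the elements fixing the given lattice vectors -/
def fixer (l : List ruLattice) : Subgroup fourRu where
  carrier := {g | ∀ x ∈ l, (g : Equiv.Perm ruLattice) x = x}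
  one_mem' := fun x _ => rfl
  mul_mem' := by
    intro a b ha hb x hx
    rw [Subgroup.coe_mul, Equiv.Perm.mul_apply, hb x hx, ha x hx]
  inv_mem' := by
    intro a ha x hx
    rw [Subgroup.coe_inv, Equiv.Perm.inv_eq_iff_eq]
    exact (ha x hx).symm

theorem mem_fixer {l : List ruLattice} {g : fourRu} :
    g ∈ fixer l ↔ ∀ x ∈ l, (g : Equiv.Perm ruLattice) x = x := Iff.rfl

/-- the vector of the code is in the lattice and fixed -/
def FixedC (g : fourRu) (r : ℕ) : Prop :=
  ∃ hr : decodeC r ∈ ruLattice, (g : Equiv.Perm ruLattice) ⟨decodeC r, hr⟩ = ⟨decodeC r, hr⟩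

/-- a condition: a reference code, its nonzero digits (shifts and rows), the prescribed accumulated product -/
abbrev Cond : Type := ℕ × List (ℕ × ℕ) × ℕ

/-- the conditions are those of the code `t` -/
def condsOK (t : ℕ) (conds : List Cond) : Bool :=
  conds.all fun x => sparseN x.1 == x.2.1 && Nat.beq (hermN t x.2.1 0) x.2.2

/-- the code satisfies the conditions -/
def sel (conds : List Cond) (c : ℕ) : Bool :=
  conds.all fun x => Nat.beq (hermN c x.2.1 0) x.2.2

theorem image_code (g : fourRu) (t : ℕ) (ht : decodeC t ∈ ruLattice) (htn : ruNorm (decodeC t) = 16)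
    (conds : List Cond) (hok : condsOK t conds = true) (hfix : ∀ x ∈ conds, FixedC g x.1) :
    ∃ c ∈ minC.filter (sel conds),
      (((g : Equiv.Perm ruLattice) ⟨decodeC t, ht⟩ : ruLattice) : RuVec) = decodeC c := by
  have hy : ((((g : Equiv.Perm ruLattice) ⟨decodeC t, ht⟩ : ruLattice) : RuVec)) ∈ Lc :=
    ruLattice_le _ ((g : Equiv.Perm ruLattice) ⟨decodeC t, ht⟩).2
  have hn : ruNorm (((g : Equiv.Perm ruLattice) ⟨decodeC t, ht⟩ : ruLattice) : RuVec) = 16 := by
    rw [g.2.2.2]; exact htn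
  obtain ⟨c, hc, hyc⟩ := min_code hy hn
  refine ⟨c, List.mem_filter.2 ⟨hc, ?_⟩, hyc⟩
  unfold sel
  rw [List.all_eq_true]
  intro x hx
  obtain ⟨hr, hgr⟩ := hfix x hx
  unfold condsOK at hok
  rw [List.all_eq_true] at hok
  have hx' := hok x hx
  rw [Bool.and_eq_true, beq_iff_eq] at hx'
  obtain ⟨hs, hh⟩ := hx'
  have hh' := Nat.eq_of_beq_eq_true hh
  have e1 : herm (((g : Equiv.Perm ruLattice) ⟨decodeC t, ht⟩ : ruLattice) : RuVec) (decodeC x.1) =
      herm (decodeC t) (decodeC x.1) := by
    have := herm_map g.2 ⟨decodeC t, ht⟩ ⟨decodeC x.1, hr⟩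
    rw [hgr] at this
    exact this
  rw [hyc, herm_decodeC, herm_decodeC] at e1
  have e2 := hermN_congr c t x.1 (toG_inj e1)
  rw [hs, hh'] at e2
  rw [e2]
  exact Nat.beq_refl _

/-- counting along a map which is injective modulo a subgroup -/
theorem card_le_step {G : Type*} [Group G] (H K : Subgroup G) {V : Type*} [DecidableEq V] (ψ : G → V)
    (S : Finset V) (hS : ∀ g ∈ H, ψ g ∈ S)
    (hfib : ∀ g ∈ H, ∀ g' ∈ H, ψ g = ψ g' → g⁻¹ * g' ∈ K) [Finite K] :
    Finite H ∧ Nat.card H ≤ S.card * Nat.card K := by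
  classical
  have hrep : ∀ v : V, ∃ r : G, (∃ g ∈ H, ψ g = v) → (r ∈ H ∧ ψ r = v) := fun v => by
    by_cases h : ∃ g ∈ H, ψ g = v
    · obtain ⟨g, hg, hv⟩ := h
      exact ⟨g, fun _ => ⟨hg, hv⟩⟩
    · exact ⟨1, fun h' => absurd h' h⟩
  choose rep hrep using hrep
  have hr : ∀ g : H, rep (ψ g) ∈ H ∧ ψ (rep (ψ g)) = ψ g := fun g => hrep _ ⟨g, g.2, rfl⟩
  let F : H → S × K := fun g =>
    (⟨ψ g, hS g g.2⟩, ⟨(rep (ψ g))⁻¹ * g, hfib _ (hr g).1 g g.2 (hr g).2⟩)
  have hF : Function.Injective F := by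
    intro g g' h
    have h1 : ψ g = ψ g' := congrArg (fun z : S × K => (z.1 : V)) h
    have h2 : (rep (ψ g))⁻¹ * g = (rep (ψ g'))⁻¹ * g' := congrArg (fun z : S × K => (z.2 : G)) h
    rw [h1] at h2
    exact Subtype.ext (mul_left_cancel h2)
  have : Finite (S × K) := inferInstance
  refine ⟨Finite.of_injective F hF, ?_⟩
  calc Nat.card H ≤ Nat.card (S × K) := Nat.card_le_card_of_injective F hF
    _ = S.card * Nat.card K := by
      rw [Nat.card_prod, Nat.card_eq_fintype_card, Fintype.card_coe]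

/-- one level of the stabiliser chain -/
theorem level_step (l : List ruLattice) (t : ℕ) (ht : decodeC t ∈ ruLattice)
    (htn : ruNorm (decodeC t) = 16) (conds : List Cond) (hok : condsOK t conds = true)
    (hrefs : ∀ x ∈ conds, ∃ hr : decodeC x.1 ∈ ruLattice, (⟨decodeC x.1, hr⟩ : ruLattice) ∈ l)
    (n m : ℕ) (hlen : (minC.filter (sel conds)).length ≤ n)
    (hK : Finite (fixer (⟨decodeC t, ht⟩ :: l)) ∧ Nat.card (fixer (⟨decodeC t, ht⟩ :: l)) ≤ m) :
    Finite (fixer l) ∧ Nat.card (fixer l) ≤ n * m := by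
  classical
  have := hK.1
  have hfix : ∀ g ∈ fixer l, ∀ x ∈ conds, FixedC g x.1 := by
    intro g hg x hx
    obtain ⟨hr, hmem⟩ := hrefs x hx
    exact ⟨hr, hg _ hmem⟩
  let ψ : fourRu → RuVec := fun g => (((g : Equiv.Perm ruLattice) ⟨decodeC t, ht⟩ : ruLattice) : RuVec)
  let S : Finset RuVec := ((minC.filter (sel conds)).map decodeC).toFinset
  have hS : ∀ g ∈ fixer l, ψ g ∈ S := by
    intro g hg
    obtain ⟨c, hc, hyc⟩ := image_code g t ht htn conds hok (hfix g hg)
    simp only [S, List.mem_toFinset, List.mem_map]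
    exact ⟨c, hc, hyc.symm⟩
  have hfib : ∀ g ∈ fixer l, ∀ g' ∈ fixer l, ψ g = ψ g' →
      g⁻¹ * g' ∈ fixer (⟨decodeC t, ht⟩ :: l) := by
    intro g hg g' hg' h x hx
    rw [List.mem_cons] at hx
    rcases hx with rfl | hx
    · have h' : (g : Equiv.Perm ruLattice) ⟨decodeC t, ht⟩ = (g' : Equiv.Perm ruLattice) ⟨decodeC t, ht⟩ :=
        Subtype.ext h
      rw [Subgroup.coe_mul, Subgroup.coe_inv, Equiv.Perm.mul_apply, ← h']
      simp
    · exact (fixer l).mul_mem ((fixer l).inv_mem hg) hg' x hx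
  obtain ⟨hfin, hcard⟩ := card_le_step (fixer l) (fixer (⟨decodeC t, ht⟩ :: l)) ψ S hS hfib
  refine ⟨hfin, le_trans hcard (Nat.mul_le_mul ?_ hK.2)⟩
  calc S.card ≤ ((minC.filter (sel conds)).map decodeC).length := List.toFinset_card_le _
    _ = (minC.filter (sel conds)).length := List.length_map _
    _ ≤ n := hlen

/-! ### rigidity -/

/-- one step of a plan: the target is isolated by conditions at known codes -/
def stepOK (known : List ℕ) (t : ℕ) (conds : List Cond) : Bool :=
  condsOK t conds && conds.all (fun x => known.contains x.1) && (minC.filter (sel conds) == [t])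

/-- a plan: a list of targets with conditions -/
def planOK : List ℕ → List (ℕ × List Cond) → Bool
  | _, [] => true
  | known, s :: rest => stepOK known s.1 s.2 && planOK (s.1 :: known) rest

theorem plan_fixed (g : fourRu) : ∀ (plan : List (ℕ × List Cond)) (known : List ℕ),
    (∀ r ∈ known, FixedC g r) →
    (∀ s ∈ plan, decodeC s.1 ∈ ruLattice ∧ ruNorm (decodeC s.1) = 16) →
    planOK known plan = true → ∀ s ∈ plan, FixedC g s.1 := by
  intro plan
  induction plan with
  | nil => intro known _ _ _ s hs; simp at hs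
  | cons s0 rest ih =>
    intro known hknown hmem hok s hs
    rw [planOK, Bool.and_eq_true] at hok
    obtain ⟨h0, hrest⟩ := hok
    unfold stepOK at h0
    rw [Bool.and_eq_true, Bool.and_eq_true, beq_iff_eq] at h0
    obtain ⟨⟨hc, hk⟩, hf⟩ := h0
    obtain ⟨ht, htn⟩ := hmem s0 (List.mem_cons_self ..)
    have hfix0 : FixedC g s0.1 := by
      have hfix : ∀ x ∈ s0.2, FixedC g x.1 := by
        intro x hx
        rw [List.all_eq_true] at hk
        have := hk x hx
        rw [List.contains_iff_mem] at this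
        exact hknown _ this
      obtain ⟨c, hc', hyc⟩ := image_code g s0.1 ht htn s0.2 hc hfix
      rw [hf, List.mem_singleton] at hc'
      rw [hc'] at hyc
      exact ⟨ht, Subtype.ext hyc⟩
    rw [List.mem_cons] at hs
    rcases hs with rfl | hs
    · exact hfix0
    · refine ih (s0.1 :: known) ?_ (fun s' hs' => hmem s' (List.mem_cons_of_mem _ hs')) hrest s hs
      intro r hr
      rw [List.mem_cons] at hr
      rcases hr with rfl | hr
      · exact hfix0
      · exact hknown r hr

theorem herm_frameVec (x : RuVec) (p0 : RuIdx) : herm x (frameVec p0 0) = x p0 * 4 := by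
  unfold herm
  rw [Finset.sum_eq_single p0]
  · simp only [frameVec, if_true]
    congr 1
  · intro p _ hp
    simp [frameVec, hp]
  · intro h; exact absurd (Finset.mem_univ p0) h

/-- an automorphism fixing the standard frame is trivial -/
theorem eq_one_of_frame (g : fourRu) (h : ∀ p0 : RuIdx, FixedC g (frameCode (pos p0) 0)) : g = 1 := by
  apply Subtype.ext
  apply Equiv.ext
  intro v
  apply Subtype.ext
  funext p0
  obtain ⟨hr, hgr⟩ := h p0
  have e := herm_map g.2 v ⟨_, hr⟩
  rw [hgr] at e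
  have hd : decodeC (frameCode (pos p0) 0) = frameVec p0 0 := decodeC_frameCode p0 0
  simp only [hd] at e
  rw [herm_frameVec, herm_frameVec] at e
  have h4 : (4 : GaussianInt) ≠ 0 := by decide
  exact mul_right_cancel₀ h4 e

end Cfsg.Agent.Lib.Helper9.RuAut
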