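import Cfsg.Agent.Lib.Helper9.RuAutB

set_option autoImplicit false

/-!
# The automorphism group of the Rudvalis lattice: the sizes of the levels of the stabiliser chain (part 5)
-/

namespace Cfsg.Agent.Lib.Helper9.RuAut

open Cfsg.Spor Cfsg.Agent.Lib.Helper14.RuLat Cfsg.Agent.Lib.Helper9.RuDfs

set_option maxRecDepth 1000000 in
theorem len5 : (minC.filter (sel conds5)).length = 2 := by decide +kernel

end Cfsg.Agent.Lib.Helper9.RuAut
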