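import Cfsg.Agent.Lib.Helper9.RuAutC1
import Cfsg.Agent.Lib.Helper9.RuAutC2
import Cfsg.Agent.Lib.Helper9.RuAutC3
import Cfsg.Agent.Lib.Helper9.RuAutC4
import Cfsg.Agent.Lib.Helper9.RuAutC5

/-!
# The automorphism group of the Rudvalis lattice: the sizes of the levels of the stabiliser chain
-/
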