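import Cfsg.Agent.Lib.Helper9.RuAutB

set_option autoImplicit false

/-!
# The automorphism group of the Rudvalis lattice: the sizes of the levels of the stabiliser chain (part 1)
-/

namespace Cfsg.Agent.Lib.Helper9.RuAut

open Cfsg.Spor Cfsg.Agent.Lib.Helper14.RuLat Cfsg.Agent.Lib.Helper9.RuDfs

set_option maxRecDepth 1000000 in
theorem ok1 : condsOK beta1 conds1 = true := by decide +kernel

set_option maxRecDepth 1000000 in
theorem ok2 : condsOK beta2 conds2 = true := by decide +kernel

set_option maxRecDepth 1000000 in
theorem ok3 : condsOK beta3 conds3 = true := by decide +kernel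

set_option maxRecDepth 1000000 in
theorem ok4 : condsOK beta4 conds4 = true := by decide +kernel

set_option maxRecDepth 1000000 in
theorem ok5 : condsOK beta5 conds5 = true := by decide +kernel

set_option maxRecDepth 1000000 in
theorem len1 : (minC.filter (sel conds1)).length = 16240 := by decide +kernel

end Cfsg.Agent.Lib.Helper9.RuAut
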