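import Cfsg.Agent.Lib.Helper9.RuAutB

set_option autoImplicit false

/-!
# The automorphism group of the Rudvalis lattice: piece 4 of the rigidity plan
-/

namespace Cfsg.Agent.Lib.Helper9.RuAut

set_option maxRecDepth 1000000 in
theorem planOK4 : planOK known4 plan4 = true := by decide +kernel

end Cfsg.Agent.Lib.Helper9.RuAut
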