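import Cfsg.Agent.Lib.Helper9.RuAutC
import Cfsg.Agent.Lib.Helper9.RuAutP0
import Cfsg.Agent.Lib.Helper9.RuAutP1
import Cfsg.Agent.Lib.Helper9.RuAutP2
import Cfsg.Agent.Lib.Helper9.RuAutP3
import Cfsg.Agent.Lib.Helper9.RuAutP4
import Cfsg.Agent.Lib.Helper9.RuAutP5

set_option autoImplicit false

/-!
# The automorphism group of the Rudvalis lattice has order at most 583704576000
-/

namespace Cfsg.Agent.Lib.Helper9.RuAut

open Cfsg.Spor Cfsg.Agent.Lib.Helper14.RuLat Cfsg.Agent.Lib.Helper9.RuDfs Cfsg.Agent.Lib.Helper9.RuMin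

set_option maxRecDepth 1000000 in
theorem certs_ok : ∀ x ∈ certs, ∀ p : RuIdx, decodeC x.1 p = ∑ j, x.2 j * Bv j p := by
  decide +kernel

set_option maxRecDepth 1000000 in
theorem certs_norm : ∀ x ∈ certs, ruNorm (decodeC x.1) = 16 := by decide +kernel

set_option maxRecDepth 1000000 in
theorem certs_all : ∀ t ∈ knownAll, ∃ x ∈ certs, x.1 = t := by decide +kernel

theorem mem_known {t : ℕ} (ht : t ∈ knownAll) : decodeC t ∈ ruLattice ∧ ruNorm (decodeC t) = 16 := by
  obtain ⟨x, hx, rfl⟩ := certs_all t ht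
  refine ⟨?_, certs_norm x hx⟩
  apply Lc_le
  have : decodeC x.1 = fun p => ∑ j, x.2 j * Bv j p := funext (certs_ok x hx)
  rw [this]
  exact sum_mem_Lc _

theorem piece_step (g : fourRu) (known known' : List ℕ) (plan : List (ℕ × List Cond))
    (hk : ∀ r ∈ known, FixedC g r)
    (hmem : ∀ s ∈ plan, s.1 ∈ knownAll) (hok : planOK known plan = true)
    (hsub : ∀ r ∈ known', r ∈ known ∨ r ∈ plan.map Prod.fst) : ∀ r ∈ known', FixedC g r := by
  have h := plan_fixed g plan known hk (fun s hs => mem_known (hmem s hs)) hok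
  intro r hr
  rcases hsub r hr with h1 | h1
  · exact hk r h1
  · obtain ⟨s, hs, rfl⟩ := List.mem_map.1 h1
    exact h s hs

set_option maxRecDepth 1000000 in
theorem sub_data :
    (∀ s ∈ plan0, s.1 ∈ knownAll) ∧ (∀ r ∈ known1, r ∈ known0 ∨ r ∈ plan0.map Prod.fst) ∧
    (∀ s ∈ plan1, s.1 ∈ knownAll) ∧ (∀ r ∈ known2, r ∈ known1 ∨ r ∈ plan1.map Prod.fst) ∧
    (∀ s ∈ plan2, s.1 ∈ knownAll) ∧ (∀ r ∈ known3, r ∈ known2 ∨ r ∈ plan2.map Prod.fst) ∧
    (∀ s ∈ plan3, s.1 ∈ knownAll) ∧ (∀ r ∈ known4, r ∈ known3 ∨ r ∈ plan3.map Prod.fst) ∧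
    (∀ s ∈ plan4, s.1 ∈ knownAll) ∧ (∀ r ∈ known5, r ∈ known4 ∨ r ∈ plan4.map Prod.fst) ∧
    (∀ s ∈ plan5, s.1 ∈ knownAll) ∧ (∀ r ∈ knownAll, r ∈ known5 ∨ r ∈ plan5.map Prod.fst) ∧
    (∀ q < 28, frameCode q 0 ∈ knownAll) := by
  decide +kernel

/-- an automorphism fixing the five base vectors is trivial -/
theorem rigid (g : fourRu) (h : ∀ r ∈ known0, FixedC g r) : g = 1 := by
  obtain ⟨a0, b0, a1, b1, a2, b2, a3, b3, a4, b4, a5, b5, hf⟩ := sub_data
  have h1 := piece_step g known0 known1 plan0 h a0 planOK0 b0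
  have h2 := piece_step g known1 known2 plan1 h1 a1 planOK1 b1
  have h3 := piece_step g known2 known3 plan2 h2 a2 planOK2 b2
  have h4 := piece_step g known3 known4 plan3 h3 a3 planOK3 b3
  have h5 := piece_step g known4 known5 plan4 h4 a4 planOK4 b4
  have h6 := piece_step g known5 knownAll plan5 h5 a5 planOK5 b5
  exact eq_one_of_frame g fun p0 => h6 _ (hf _ (pos_lt p0))

/-- the lattice vectors of a list of codes -/
def latList : (codes : List ℕ) → (∀ c ∈ codes, decodeC c ∈ ruLattice) → List ruLattice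
  | [], _ => []
  | c :: cs, h => ⟨decodeC c, h c (List.mem_cons_self ..)⟩ ::
      latList cs (fun c' hc' => h c' (List.mem_cons_of_mem _ hc'))

theorem mem_latList : ∀ (codes : List ℕ) (h : ∀ c ∈ codes, decodeC c ∈ ruLattice) (r : ℕ),
    r ∈ codes → ∃ hr : decodeC r ∈ ruLattice, (⟨decodeC r, hr⟩ : ruLattice) ∈ latList codes h := by
  intro codes
  induction codes with
  | nil => intro h r hr; simp at hr
  | cons c cs ih =>
    intro h r hr
    rw [List.mem_cons] at hr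
    rcases hr with rfl | hr
    · exact ⟨h r (List.mem_cons_self ..), List.mem_cons_self ..⟩
    · obtain ⟨hr', hm⟩ := ih (fun c' hc' => h c' (List.mem_cons_of_mem _ hc')) r hr
      exact ⟨hr', List.mem_cons_of_mem _ hm⟩

set_option maxRecDepth 1000000 in
theorem base_data : (∀ c ∈ [beta5, beta4, beta3, beta2, beta1], c ∈ knownAll) ∧
    known0 = [beta1, beta2, beta3, beta4, beta5] ∧
    (∀ x ∈ conds1, x.1 ∈ ([] : List ℕ)) ∧ (∀ x ∈ conds2, x.1 ∈ [beta1]) ∧
    (∀ x ∈ conds3, x.1 ∈ [beta2, beta1]) ∧ (∀ x ∈ conds4, x.1 ∈ [beta3, beta2, beta1]) ∧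
    (∀ x ∈ conds5, x.1 ∈ [beta4, beta3, beta2, beta1]) := by
  decide +kernel

theorem hb5 : ∀ c ∈ [beta5, beta4, beta3, beta2, beta1], decodeC c ∈ ruLattice :=
  fun c hc => (mem_known (base_data.1 c hc)).1

theorem hb4 : ∀ c ∈ [beta4, beta3, beta2, beta1], decodeC c ∈ ruLattice :=
  fun c hc => hb5 c (List.mem_cons_of_mem _ hc)

theorem hb3 : ∀ c ∈ [beta3, beta2, beta1], decodeC c ∈ ruLattice :=
  fun c hc => hb4 c (List.mem_cons_of_mem _ hc)

theorem hb2 : ∀ c ∈ [beta2, beta1], decodeC c ∈ ruLattice :=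
  fun c hc => hb3 c (List.mem_cons_of_mem _ hc)

theorem hb1 : ∀ c ∈ [beta1], decodeC c ∈ ruLattice :=
  fun c hc => hb2 c (List.mem_cons_of_mem _ hc)

theorem hb0 : ∀ c ∈ ([] : List ℕ), decodeC c ∈ ruLattice := fun c hc => by simp at hc

theorem normb (c : ℕ) (hc : c ∈ [beta5, beta4, beta3, beta2, beta1]) : ruNorm (decodeC c) = 16 :=
  (mem_known (base_data.1 c hc)).2

theorem chain5 : Finite (fixer (latList _ hb5)) ∧ Nat.card (fixer (latList _ hb5)) ≤ 1 := by
  have hbot : fixer (latList _ hb5) = ⊥ := by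
    rw [Subgroup.eq_bot_iff_forall]
    intro g hg
    apply rigid g
    intro r hr
    rw [base_data.2.1] at hr
    have hr' : r ∈ [beta5, beta4, beta3, beta2, beta1] := by
      simp only [List.mem_cons, List.not_mem_nil, or_false] at hr ⊢
      tauto
    obtain ⟨hr2, hm⟩ := mem_latList _ hb5 r hr'
    exact ⟨hr2, hg _ hm⟩
  rw [hbot]
  exact ⟨inferInstance, by simp⟩

theorem chain4 : Finite (fixer (latList _ hb4)) ∧ Nat.card (fixer (latList _ hb4)) ≤ 2 * 1 :=
  level_step (latList _ hb4) beta5 (hb5 _ (by simp)) (normb _ (by simp)) conds5 ok5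
    (fun x hx => mem_latList _ hb4 _ (base_data.2.2.2.2.2.2 x hx)) 2 1 (le_of_eq len5) chain5

theorem chain3 : Finite (fixer (latList _ hb3)) ∧ Nat.card (fixer (latList _ hb3)) ≤ 12 * (2 * 1) :=
  level_step (latList _ hb3) beta4 (hb5 _ (by simp)) (normb _ (by simp)) conds4 ok4
    (fun x hx => mem_latList _ hb3 _ (base_data.2.2.2.2.2.1 x hx)) 12 _ (le_of_eq len4) chain4

theorem chain2 : Finite (fixer (latList _ hb2)) ∧
    Nat.card (fixer (latList _ hb2)) ≤ 650 * (12 * (2 * 1)) :=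
  level_step (latList _ hb2) beta3 (hb5 _ (by simp)) (normb _ (by simp)) conds3 ok3
    (fun x hx => mem_latList _ hb2 _ (base_data.2.2.2.2.1 x hx)) 650 _ (le_of_eq len3) chain3

theorem chain1 : Finite (fixer (latList _ hb1)) ∧
    Nat.card (fixer (latList _ hb1)) ≤ 2304 * (650 * (12 * (2 * 1))) :=
  level_step (latList _ hb1) beta2 (hb5 _ (by simp)) (normb _ (by simp)) conds2 ok2
    (fun x hx => mem_latList _ hb1 _ (base_data.2.2.2.1 x hx)) 2304 _ (le_of_eq len2) chain2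

theorem chain0 : Finite (fixer (latList _ hb0)) ∧
    Nat.card (fixer (latList _ hb0)) ≤ 16240 * (2304 * (650 * (12 * (2 * 1)))) :=
  level_step (latList _ hb0) beta1 (hb5 _ (by simp)) (normb _ (by simp)) conds1 ok1
    (fun x hx => mem_latList _ hb0 _ (base_data.2.2.1 x hx)) 16240 _ (le_of_eq len1) chain1

/-- the automorphism group of the lattice is finite of order at most 583704576000 -/
theorem card_fourRu_le : Finite fourRu ∧ Nat.card fourRu ≤ 583704576000 := by
  have htop : fixer (latList _ hb0) = ⊤ := by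
    rw [eq_top_iff]
    intro g _ x hx
    simp [latList] at hx
  obtain ⟨hfin, hcard⟩ := chain0
  rw [htop] at hfin hcard
  have e : (⊤ : Subgroup fourRu) ≃ fourRu := Subgroup.topEquiv.toEquiv
  refine ⟨Finite.of_equiv _ e, ?_⟩
  rw [← Nat.card_congr e]
  exact le_trans hcard (by norm_num)

end Cfsg.Agent.Lib.Helper9.RuAut
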