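import Mathlib

set_option autoImplicit false

/-!
# A verified depth-first search over sums of packed vectors (used for the Rudvalis lattice)

A state is a natural number `W` read in base `256`; a step offers to add a packed vector `G`, and then
charges the state at a list of (coordinate, layer) pairs.  `search` lists the final states of all
paths whose total charge stays within the budget.  `mem_search` is the soundness statement;
`dig_add` is the carry-free addition of digits.
-/

namespace Cfsg.Agent.Lib.Helper9.RuDfs

/-- apply a function to a number after evaluating the number (forces kernel evaluation) -/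
def forceNat {α : Type} (y : ℕ) (f : ℕ → α) : α :=
  Nat.rec (motive := fun _ => α) (f 0) (fun k _ => f (Nat.succ k)) y

theorem forceNat_eq {α : Type} (y : ℕ) (f : ℕ → α) : forceNat y f = f y := by
  cases y <;> rfl

/-- digit `i` in base 256 -/
def dig (W i : ℕ) : ℕ := W / 256 ^ i % 256

/-- the charge table of layer `s`: entry `x + 4 * y` (four bits each) for residues `x, y < 4` -/
def deltaT (s : ℕ) : ℕ :=
  match s with
  | 0 => 0x0101101001011010
  | 1 => 0x2020000020200000
  | 2 => 0x400000400
  | 3 => 0x400484004000000
  | _ => 0

/-- the charge of layer `s` at a residue pair -/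
def delta (s x y : ℕ) : ℕ := (deltaT s >>> (4 * (x % 4 + 4 * (y % 4)))) &&& 15

/-- the charge of layer `s` at coordinate `q` of the state `W` (the first four digits of a state
are a hash, the coordinates start at digit 4) -/
def chargeAt (W q s : ℕ) : ℕ :=
  forceNat (W / 256 ^ (2 * q + 4) % 65536) fun f => delta s (f % 256) (f / 256)

/-- a step: a packed vector and the (coordinate, layer) pairs charged after the decision -/
structure Step where
  G : ℕ
  fin : List (ℕ × ℕ)

/-- charge the budget at a list of places; `none` when the budget is exceeded -/
def charge : List (ℕ × ℕ) → ℕ → ℕ → Option ℕ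
  | [], _, b => some b
  | p :: r, W, b =>
    forceNat (chargeAt W p.1 p.2) fun d =>
      if d ≤ b then forceNat (b - d) fun b' => charge r W b' else none

/-- total charge at a list of places -/
def total (fin : List (ℕ × ℕ)) (W : ℕ) : ℕ := (fin.map fun p => chargeAt W p.1 p.2).sum

theorem charge_eq (fin : List (ℕ × ℕ)) (W b : ℕ) (h : total fin W ≤ b) :
    charge fin W b = some (b - total fin W) := by
  induction fin generalizing b with
  | nil => simp [charge, total]
  | cons p r ih =>
    have h' : chargeAt W p.1 p.2 + total r W ≤ b := by
      simpa [total] using h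
    have h1 : chargeAt W p.1 p.2 ≤ b := by omega
    rw [charge, forceNat_eq, if_pos h1, forceNat_eq, ih _ (by omega)]
    congr 1
    simp only [total, List.map_cons, List.sum_cons]
    omega

/-- the search: the list of final states of the paths within budget -/
def search : List Step → ℕ → ℕ → List ℕ
  | [], W, _ => [W]
  | st :: rest, W, b =>
    (match charge st.fin W b with
      | none => []
      | some b' => search rest W b') ++
    (forceNat (W + st.G) fun W' =>
      match charge st.fin W' b with
      | none => []
      | some b' => search rest W' b')

/-- the final state of a path -/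
def pathW : List Step → List Bool → ℕ → ℕ
  | st :: rest, c :: cs, W => pathW rest cs (if c then W + st.G else W)
  | _, _, W => W

/-- the total charge along a path -/
def pathCost : List Step → List Bool → ℕ → ℕ
  | st :: rest, c :: cs, W =>
    total st.fin (if c then W + st.G else W) + pathCost rest cs (if c then W + st.G else W)
  | _, _, _ => 0

theorem mem_search (steps : List Step) (cs : List Bool) (hlen : cs.length = steps.length) (W b : ℕ)
    (h : pathCost steps cs W ≤ b) : pathW steps cs W ∈ search steps W b := by
  induction steps generalizing cs W b with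
  | nil =>
    cases cs with
    | nil => simp [pathW, search]
    | cons c cs => simp at hlen
  | cons st rest ih =>
    cases cs with
    | nil => simp at hlen
    | cons c cs =>
      have hlen' : cs.length = rest.length := by simpa using hlen
      simp only [pathCost] at h
      simp only [pathW, search, forceNat_eq, List.mem_append]
      cases c with
      | false =>
        left
        simp only [Bool.false_eq_true, if_false] at h ⊢
        rw [charge_eq _ _ _ (by omega)]
        exact ih cs hlen' W _ (by omega)
      | true =>
        right
        simp only [if_true] at h ⊢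
        rw [charge_eq _ _ _ (by omega)]
        exact ih cs hlen' _ _ (by omega)

/-! ### carry-free addition of digits -/

theorem dig_zero (W : ℕ) : dig W 0 = W % 256 := by simp [dig]

theorem dig_succ (W i : ℕ) : dig W (i + 1) = dig (W / 256) i := by
  unfold dig
  rw [pow_succ, mul_comm, Nat.div_div_eq_div_mul]

theorem dig_lt (W i : ℕ) : dig W i < 256 := Nat.mod_lt _ (by norm_num)

theorem dig_add (A B : ℕ) (h : ∀ i, dig A i + dig B i < 256) (i : ℕ) :
    dig (A + B) i = dig A i + dig B i := by
  induction i generalizing A B with
  | zero =>
    have h0 := h 0
    rw [dig_zero, dig_zero] at h0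
    rw [dig_zero, dig_zero, dig_zero, Nat.add_mod, Nat.mod_eq_of_lt h0]
  | succ i ih =>
    have h0 := h 0
    rw [dig_zero, dig_zero] at h0
    have hdiv : (A + B) / 256 = A / 256 + B / 256 := by
      rw [Nat.add_div (by norm_num : 0 < 256), if_neg (by omega)]
      rfl
    rw [dig_succ, dig_succ, dig_succ, hdiv]
    apply ih
    intro j
    have := h (j + 1)
    rwa [dig_succ, dig_succ] at this

theorem dig_zero_left (i : ℕ) : dig 0 i = 0 := by simp [dig]

theorem chargeAt_eq (W q s : ℕ) :
    chargeAt W q s = delta s (dig W (2 * q + 4)) (dig W (2 * q + 5)) := by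
  unfold chargeAt
  rw [forceNat_eq]
  have h1 : W / 256 ^ (2 * q + 4) % 65536 % 256 = dig W (2 * q + 4) := by
    unfold dig
    rw [Nat.mod_mod_of_dvd _ (by norm_num : 256 ∣ 65536)]
  have h2 : W / 256 ^ (2 * q + 4) % 65536 / 256 = dig W (2 * q + 5) := by
    unfold dig
    have e : W / 256 ^ (2 * q + 5) = W / 256 ^ (2 * q + 4) / 256 := by
      rw [Nat.div_div_eq_div_mul, ← pow_succ]
    rw [e]
    generalize W / 256 ^ (2 * q + 4) = X
    omega
  rw [h1, h2]

/-! ### invariance of the charges -/

/-- what later contributions at a place charged at layer `s` look like -/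
def Pinv (s a b : ℕ) : Prop :=
  match s with
  | 0 => (a + b) % 2 = 0
  | 1 => a % 2 = 0 ∧ b % 2 = 0
  | 2 => a % 2 = 0 ∧ b % 2 = 0 ∧ (a + b) % 4 = 0
  | _ => a % 4 = 0 ∧ b % 4 = 0

instance (s a b : ℕ) : Decidable (Pinv s a b) := by
  unfold Pinv
  split <;> infer_instance

theorem Pinv_zero (s : ℕ) : Pinv s 0 0 := by
  rcases s with _ | _ | _ | s <;> simp [Pinv]

theorem Pinv_add (s a b a' b' : ℕ) (h : Pinv s a b) (h' : Pinv s a' b') :
    Pinv s (a + a') (b + b') := by
  rcases s with _ | _ | _ | s <;> simp only [Pinv] at h h' ⊢ <;> omega

theorem delta_mod (s x y : ℕ) : delta s x y = delta s (x % 4) (y % 4) := by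
  unfold delta
  rw [Nat.mod_mod, Nat.mod_mod]

theorem delta_add_aux : ∀ s x y a b : Fin 4, Pinv s.val a.val b.val →
    delta s.val (x.val + a.val) (y.val + b.val) = delta s.val x.val y.val := by
  decide

theorem Pinv_mod (s a b : ℕ) (h : Pinv s a b) : Pinv s (a % 4) (b % 4) := by
  rcases s with _ | _ | _ | s <;> simp only [Pinv] at h ⊢ <;> omega

theorem delta_add (s x y a b : ℕ) (hs : s < 4) (h : Pinv s a b) :
    delta s (x + a) (y + b) = delta s x y := by
  rw [delta_mod s (x + a), delta_mod s x y]
  have key := delta_add_aux ⟨s, hs⟩ ⟨x % 4, Nat.mod_lt _ (by norm_num)⟩ ⟨y % 4, Nat.mod_lt _ (by norm_num)⟩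
    ⟨a % 4, Nat.mod_lt _ (by norm_num)⟩ ⟨b % 4, Nat.mod_lt _ (by norm_num)⟩ (Pinv_mod s a b h)
  simp only at key
  rw [delta_mod s (x % 4 + a % 4)] at key
  rw [← key]
  congr 1 <;> omega

/-- the packed vector has small digits -/
def SmallG (G : ℕ) : Prop := G < 256 ^ 60 ∧ ∀ i < 60, dig G i ≤ 4

instance (G : ℕ) : Decidable (SmallG G) := by unfold SmallG; infer_instance

theorem dig_le_of_small {G : ℕ} (h : SmallG G) (i : ℕ) : dig G i ≤ 4 := by
  by_cases hi : i < 60
  · exact h.2 i hi
  · unfold dig
    have : 256 ^ 60 ≤ 256 ^ i := Nat.pow_le_pow_right (by norm_num) (by omega)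
    rw [Nat.div_eq_of_lt (lt_of_lt_of_le h.1 this)]
    simp

/-- the sum of the chosen packed vectors -/
def pathSum : List Step → List Bool → ℕ
  | st :: rest, c :: cs => (if c then st.G else 0) + pathSum rest cs
  | _, _ => 0

theorem pathW_eq (steps : List Step) (cs : List Bool) (W : ℕ) :
    pathW steps cs W = W + pathSum steps cs := by
  induction steps generalizing cs W with
  | nil => cases cs <;> simp [pathW, pathSum]
  | cons st rest ih =>
    cases cs with
    | nil => simp [pathW, pathSum]
    | cons c cs =>
      simp only [pathW, pathSum]
      rw [ih]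
      cases c <;> simp <;> ring

theorem dig_pathSum_le (steps : List Step) (hs : ∀ st ∈ steps, SmallG st.G) (hlen : steps.length ≤ 60)
    (cs : List Bool) : ∀ i : ℕ, dig (pathSum steps cs) i ≤ 4 * steps.length := by
  induction steps generalizing cs with
  | nil => cases cs <;> simp [pathSum, dig_zero_left]
  | cons st rest ih =>
    intro i
    have hr : ∀ st ∈ rest, SmallG st.G := fun s hs' => hs s (List.mem_cons_of_mem _ hs')
    have hl : rest.length ≤ 60 := by simp at hlen; omega
    cases cs with
    | nil => simp [pathSum, dig_zero_left]
    | cons c cs =>
      simp only [pathSum, List.length_cons]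
      have hG : ∀ j, dig (if c then st.G else 0) j ≤ 4 := by
        intro j
        cases c
        · simp [dig_zero_left]
        · simpa using dig_le_of_small (hs st (List.mem_cons_self ..)) j
      have hlen' : rest.length + 1 ≤ 60 := by simpa using hlen
      rw [dig_add]
      · have := ih hr hl cs i
        have := hG i
        omega
      · intro j
        have := ih hr hl cs j
        have := hG j
        omega

/-- later steps only contribute `Pinv` at the places of this list -/
def LaterOK (fin : List (ℕ × ℕ)) (rest : List Step) : Prop :=
  ∀ p ∈ fin, p.2 < 4 ∧ ∀ st ∈ rest, Pinv p.2 (dig st.G (2 * p.1 + 4)) (dig st.G (2 * p.1 + 5))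

/-- the invariance condition on a list of steps -/
def InvOK : List Step → Prop
  | [] => True
  | st :: rest => LaterOK st.fin rest ∧ InvOK rest

instance (fin : List (ℕ × ℕ)) (rest : List Step) : Decidable (LaterOK fin rest) := by
  unfold LaterOK; infer_instance

instance : (steps : List Step) → Decidable (InvOK steps)
  | [] => by unfold InvOK; infer_instance
  | st :: rest => by
    unfold InvOK
    haveI := instDecidableInvOK rest
    infer_instance

theorem Pinv_pathSum (s q : ℕ) (rest : List Step) (hs : ∀ st ∈ rest, SmallG st.G)
    (hlen : rest.length ≤ 60)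
    (h : ∀ st ∈ rest, Pinv s (dig st.G (2 * q + 4)) (dig st.G (2 * q + 5))) (cs : List Bool) :
    Pinv s (dig (pathSum rest cs) (2 * q + 4)) (dig (pathSum rest cs) (2 * q + 5)) := by
  induction rest generalizing cs with
  | nil => cases cs <;> simpa [pathSum, dig_zero_left] using Pinv_zero s
  | cons st rest ih =>
    have hr : ∀ st ∈ rest, SmallG st.G := fun s hs' => hs s (List.mem_cons_of_mem _ hs')
    have hl : rest.length ≤ 60 := by simp at hlen; omega
    cases cs with
    | nil => simpa [pathSum, dig_zero_left] using Pinv_zero s
    | cons c cs =>
      simp only [pathSum]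
      have hG : ∀ j, dig (if c then st.G else 0) j ≤ 4 := by
        intro j
        cases c
        · simp [dig_zero_left]
        · simpa using dig_le_of_small (hs st (List.mem_cons_self ..)) j
      have hno : ∀ j, dig (if c then st.G else 0) j + dig (pathSum rest cs) j < 256 := by
        intro j
        have := dig_pathSum_le rest hr hl cs j
        have := hG j
        omega
      rw [dig_add _ _ hno, dig_add _ _ hno]
      apply Pinv_add
      · cases c
        · simpa [dig_zero_left] using Pinv_zero s
        · simpa using h st (List.mem_cons_self ..)
      · exact ih hr hl (fun st' hst' => h st' (List.mem_cons_of_mem _ hst')) cs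

/-- all the places of a list of steps -/
def allFin (steps : List Step) : List (ℕ × ℕ) := steps.flatMap fun st => st.fin

theorem total_append (f g : List (ℕ × ℕ)) (W : ℕ) : total (f ++ g) W = total f W + total g W := by
  simp [total]

theorem pathCost_eq (steps : List Step) (hs : ∀ st ∈ steps, SmallG st.G) (hlen : steps.length ≤ 56)
    (hinv : InvOK steps) (cs : List Bool) (hcs : cs.length = steps.length) (W : ℕ)
    (hW : ∀ i, dig W i ≤ 4 * (56 - steps.length)) :
    pathCost steps cs W = total (allFin steps) (pathW steps cs W) := by
  induction steps generalizing cs W with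
  | nil => cases cs <;> simp [pathCost, allFin, total]
  | cons st rest ih =>
    cases cs with
    | nil => simp at hcs
    | cons c cs =>
      have hr : ∀ st ∈ rest, SmallG st.G := fun s hs' => hs s (List.mem_cons_of_mem _ hs')
      have hl : rest.length + 1 ≤ 56 := by simpa using hlen
      have hcs' : cs.length = rest.length := by simpa using hcs
      obtain ⟨hlater, hinv'⟩ := hinv
      simp only [pathCost, pathW]
      set W1 := if c then W + st.G else W with hW1
      have hW1d : ∀ i, dig W1 i ≤ 4 * (56 - rest.length) := by
        intro i
        have h0 := hW i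
        simp only [List.length_cons] at h0
        cases c
        · simp only [hW1, Bool.false_eq_true, if_false]; omega
        · simp only [hW1, if_true]
          have hG := dig_le_of_small (hs st (List.mem_cons_self ..))
          rw [dig_add]
          · have := hG i; omega
          · intro j
            have := hW j
            simp only [List.length_cons] at this
            have := hG j
            omega
      rw [ih hr (by omega) hinv' cs hcs' W1 hW1d]
      have hall : allFin (st :: rest) = st.fin ++ allFin rest := by simp [allFin]
      rw [hall, total_append]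
      congr 1
      -- the charges of this step do not change later
      rw [pathW_eq]
      unfold total
      congr 1
      apply List.map_congr_left
      intro p hp
      obtain ⟨hp4, hpl⟩ := hlater p hp
      rw [chargeAt_eq, chargeAt_eq]
      have hno : ∀ j, dig W1 j + dig (pathSum rest cs) j < 256 := by
        intro j
        have := dig_pathSum_le rest hr (by omega) cs j
        have := hW1d j
        omega
      rw [dig_add _ _ hno, dig_add _ _ hno]
      exact (delta_add _ _ _ _ _ hp4 (Pinv_pathSum p.2 p.1 rest hr (by omega) hpl cs)).symm

end Cfsg.Agent.Lib.Helper9.RuDfs
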