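import Cfsg.Agent.Lib.Helper14.RuLatC
import Cfsg.Agent.Lib.Helper9.RuDfsB

set_option autoImplicit false

/-!
# The Rudvalis lattice: generators adapted to the filtration by powers of `1 + i` (generated data)
-/

namespace Cfsg.Agent.Lib.Helper9.RuDfs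

open Cfsg.Spor Cfsg.Agent.Lib.Helper14.RuLat

/-- nineteen vectors `u` with `π ^ k • u` in the lattice, `k` the level -/
def Uv19 : Fin 19 → RuVec := ![
  ruOfArray ![![⟨1, 0⟩, ⟨0, 0⟩, ⟨0, 0⟩, ⟨0, -1⟩],
      ![⟨0, 0⟩, ⟨0, -1⟩, ⟨0, 0⟩, ⟨0, -1⟩],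
      ![⟨0, 0⟩, ⟨0, 0⟩, ⟨0, 0⟩, ⟨-1, -1⟩],
      ![⟨0, 0⟩, ⟨0, -1⟩, ⟨-1, 0⟩, ⟨0, 0⟩],
      ![⟨0, -1⟩, ⟨-1, 0⟩, ⟨0, 0⟩, ⟨1, -1⟩],
      ![⟨0, -1⟩, ⟨0, 1⟩, ⟨1, -1⟩, ⟨-2, -2⟩],
      ![⟨1, 0⟩, ⟨-1, 1⟩, ⟨-2, 1⟩, ⟨-2, -2⟩]],
  ruOfArray ![![⟨0, 0⟩, ⟨1, 0⟩, ⟨0, 0⟩, ⟨0, -1⟩],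
      ![⟨0, 0⟩, ⟨0, -1⟩, ⟨0, -1⟩, ⟨0, 0⟩],
      ![⟨0, 0⟩, ⟨0, -1⟩, ⟨-1, -1⟩, ⟨1, 0⟩],
      ![⟨0, -1⟩, ⟨-1, 0⟩, ⟨0, -1⟩, ⟨-1, 0⟩],
      ![⟨0, 0⟩, ⟨0, 1⟩, ⟨0, -1⟩, ⟨1, -1⟩],
      ![⟨0, -1⟩, ⟨-1, 0⟩, ⟨0, 0⟩, ⟨-1, -1⟩],
      ![⟨0, -2⟩, ⟨1, 1⟩, ⟨-1, 0⟩, ⟨-2, -1⟩]],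
  ruOfArray ![![⟨0, 0⟩, ⟨0, 0⟩, ⟨1, 0⟩, ⟨0, -1⟩],
      ![⟨0, 0⟩, ⟨0, 0⟩, ⟨0, -1⟩, ⟨0, -1⟩],
      ![⟨0, 0⟩, ⟨0, -1⟩, ⟨-1, -1⟩, ⟨0, -1⟩],
      ![⟨0, -1⟩, ⟨0, 0⟩, ⟨0, 0⟩, ⟨1, 0⟩],
      ![⟨0, -1⟩, ⟨-1, -1⟩, ⟨0, -1⟩, ⟨0, 0⟩],
      ![⟨0, 0⟩, ⟨1, -1⟩, ⟨0, 0⟩, ⟨-2, -2⟩],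
      ![⟨-1, -1⟩, ⟨1, -2⟩, ⟨1, -2⟩, ⟨-2, 0⟩]],
  ruOfArray ![![⟨0, 0⟩, ⟨0, 0⟩, ⟨0, 0⟩, ⟨-1, -1⟩],
      ![⟨1, 0⟩, ⟨0, 0⟩, ⟨0, 0⟩, ⟨1, 0⟩],
      ![⟨0, 0⟩, ⟨0, 0⟩, ⟨-1, 0⟩, ⟨0, -1⟩],
      ![⟨0, 0⟩, ⟨-1, -1⟩, ⟨0, -1⟩, ⟨-1, -2⟩],
      ![⟨0, 1⟩, ⟨0, 0⟩, ⟨0, -1⟩, ⟨0, 0⟩],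
      ![⟨0, 0⟩, ⟨0, 1⟩, ⟨-1, 0⟩, ⟨3, -1⟩],
      ![⟨-2, 0⟩, ⟨-2, 1⟩, ⟨1, 1⟩, ⟨-1, 0⟩]],
  ruOfArray ![![⟨0, 0⟩, ⟨0, 0⟩, ⟨0, 0⟩, ⟨1, 1⟩],
      ![⟨0, 0⟩, ⟨0, -1⟩, ⟨0, -1⟩, ⟨-1, -1⟩],
      ![⟨0, 0⟩, ⟨0, 0⟩, ⟨0, -1⟩, ⟨-1, 0⟩],
      ![⟨0, 0⟩, ⟨0, 0⟩, ⟨-1, 0⟩, ⟨1, 0⟩],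
      ![⟨0, -1⟩, ⟨0, 0⟩, ⟨-1, 0⟩, ⟨-1, 1⟩],
      ![⟨-1, 0⟩, ⟨0, 0⟩, ⟨0, 0⟩, ⟨-2, 1⟩],
      ![⟨1, -1⟩, ⟨0, -1⟩, ⟨-2, -2⟩, ⟨1, 0⟩]],
  ruOfArray ![![⟨0, 0⟩, ⟨0, 0⟩, ⟨0, 0⟩, ⟨0, 0⟩],
      ![⟨0, 0⟩, ⟨0, 0⟩, ⟨0, 0⟩, ⟨0, 0⟩],
      ![⟨1, 0⟩, ⟨0, -1⟩, ⟨0, -1⟩, ⟨0, 1⟩],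
      ![⟨0, 0⟩, ⟨0, 0⟩, ⟨0, 0⟩, ⟨0, -2⟩],
      ![⟨0, 0⟩, ⟨1, -1⟩, ⟨-1, -1⟩, ⟨-2, 0⟩],
      ![⟨0, -1⟩, ⟨0, -1⟩, ⟨1, 0⟩, ⟨0, 1⟩],
      ![⟨0, -2⟩, ⟨-2, 0⟩, ⟨-1, 1⟩, ⟨1, 1⟩]],
  ruOfArray ![![⟨0, 0⟩, ⟨0, 0⟩, ⟨0, 0⟩, ⟨0, 0⟩],
      ![⟨0, 0⟩, ⟨1, 1⟩, ⟨0, 0⟩, ⟨-1, -1⟩],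
      ![⟨0, 0⟩, ⟨0, 0⟩, ⟨-1, -1⟩, ⟨-1, -1⟩],
      ![⟨0, -1⟩, ⟨0, -1⟩, ⟨-1, 0⟩, ⟨0, 1⟩],
      ![⟨0, -1⟩, ⟨0, -1⟩, ⟨-1, 0⟩, ⟨0, 1⟩],
      ![⟨-1, -1⟩, ⟨1, -1⟩, ⟨0, 0⟩, ⟨0, 0⟩],
      ![⟨-1, -1⟩, ⟨0, -2⟩, ⟨-1, 1⟩, ⟨-2, 0⟩]],
  ruOfArray ![![⟨0, 0⟩, ⟨0, 0⟩, ⟨0, 0⟩, ⟨0, 0⟩],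
      ![⟨0, 0⟩, ⟨0, 0⟩, ⟨0, 0⟩, ⟨2, 0⟩],
      ![⟨0, 0⟩, ⟨0, 0⟩, ⟨-1, -1⟩, ⟨1, -1⟩],
      ![⟨0, 0⟩, ⟨0, 0⟩, ⟨0, 0⟩, ⟨0, -2⟩],
      ![⟨0, -1⟩, ⟨0, -1⟩, ⟨0, -1⟩, ⟨-1, -2⟩],
      ![⟨0, -1⟩, ⟨1, 0⟩, ⟨1, 0⟩, ⟨1, -2⟩],
      ![⟨0, 0⟩, ⟨1, 1⟩, ⟨-2, -2⟩, ⟨-1, -1⟩]],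
  ruOfArray ![![⟨0, 0⟩, ⟨0, 0⟩, ⟨0, 0⟩, ⟨0, 0⟩],
      ![⟨0, 0⟩, ⟨0, 0⟩, ⟨0, 0⟩, ⟨-2, 0⟩],
      ![⟨0, 0⟩, ⟨1, 1⟩, ⟨1, 1⟩, ⟨0, 0⟩],
      ![⟨0, 0⟩, ⟨0, 0⟩, ⟨0, 0⟩, ⟨0, 0⟩],
      ![⟨0, 0⟩, ⟨0, 2⟩, ⟨-1, 1⟩, ⟨1, 3⟩],
      ![⟨-1, 0⟩, ⟨-2, -1⟩, ⟨-1, 0⟩, ⟨-1, 0⟩],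
      ![⟨1, 0⟩, ⟨-3, -2⟩, ⟨1, 0⟩, ⟨0, 1⟩]],
  ruOfArray ![![⟨0, 0⟩, ⟨0, 0⟩, ⟨0, 0⟩, ⟨-1, -1⟩],
      ![⟨0, 0⟩, ⟨1, 1⟩, ⟨1, 1⟩, ⟨-1, 1⟩],
      ![⟨0, 0⟩, ⟨-1, -1⟩, ⟨-1, 1⟩, ⟨-1, 1⟩],
      ![⟨-1, -1⟩, ⟨-1, -1⟩, ⟨0, 0⟩, ⟨-1, 3⟩],
      ![⟨-1, 1⟩, ⟨0, -2⟩, ⟨1, 1⟩, ⟨1, -1⟩],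
      ![⟨1, 1⟩, ⟨0, 0⟩, ⟨0, 0⟩, ⟨2, 2⟩],
      ![⟨-3, 0⟩, ⟨1, 0⟩, ⟨3, 4⟩, ⟨-1, 2⟩]],
  ruOfArray ![![⟨0, 0⟩, ⟨0, 0⟩, ⟨0, 0⟩, ⟨1, 1⟩],
      ![⟨0, 0⟩, ⟨-2, -2⟩, ⟨-2, -1⟩, ⟨2, -1⟩],
      ![⟨0, 0⟩, ⟨1, 1⟩, ⟨2, 1⟩, ⟨1, 0⟩],
      ![⟨2, 2⟩, ⟨1, 3⟩, ⟨1, 1⟩, ⟨0, -4⟩],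
      ![⟨1, 1⟩, ⟨-2, 4⟩, ⟨0, -1⟩, ⟨-2, 1⟩],
      ![⟨-1, 1⟩, ⟨-1, 1⟩, ⟨-1, 0⟩, ⟨-4, -3⟩],
      ![⟨4, 2⟩, ⟨-1, 2⟩, ⟨-2, -1⟩, ⟨3, -1⟩]],
  ruOfArray ![![⟨0, 0⟩, ⟨0, 0⟩, ⟨0, 0⟩, ⟨1, 1⟩],
      ![⟨0, 0⟩, ⟨-1, -1⟩, ⟨-1, -1⟩, ⟨2, -2⟩],
      ![⟨0, 0⟩, ⟨2, 1⟩, ⟨0, -1⟩, ⟨2, -4⟩],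
      ![⟨1, 1⟩, ⟨1, 1⟩, ⟨0, 0⟩, ⟨-1, -5⟩],
      ![⟨0, -2⟩, ⟨0, 2⟩, ⟨-2, -1⟩, ⟨-3, 2⟩],
      ![⟨-3, -1⟩, ⟨-1, -1⟩, ⟨0, 0⟩, ⟨-3, -5⟩],
      ![⟨3, -1⟩, ⟨-2, 0⟩, ⟨-7, -5⟩, ⟨-1, -1⟩]],
  ruOfArray ![![⟨0, 0⟩, ⟨0, 0⟩, ⟨0, 0⟩, ⟨-1, -1⟩],
      ![⟨0, 0⟩, ⟨1, 1⟩, ⟨1, 1⟩, ⟨-4, 2⟩],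
      ![⟨0, 0⟩, ⟨-1, -1⟩, ⟨1, 2⟩, ⟨-3, 4⟩],
      ![⟨-1, -1⟩, ⟨-1, -1⟩, ⟨0, 0⟩, ⟨0, 6⟩],
      ![⟨0, 2⟩, ⟨0, 0⟩, ⟨1, 3⟩, ⟨5, 1⟩],
      ![⟨2, 2⟩, ⟨-1, 1⟩, ⟨-2, 0⟩, ⟨1, 7⟩],
      ![⟨-3, 1⟩, ⟨-1, 0⟩, ⟨7, 7⟩, ⟨1, 2⟩]],
  ruOfArray ![![⟨0, 0⟩, ⟨0, 0⟩, ⟨0, 0⟩, ⟨-2, -2⟩],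
      ![⟨0, 0⟩, ⟨2, 2⟩, ⟨2, 2⟩, ⟨-5, 3⟩],
      ![⟨0, 0⟩, ⟨-2, -2⟩, ⟨0, 4⟩, ⟨-4, 6⟩],
      ![⟨-2, -2⟩, ⟨-2, -3⟩, ⟨0, 0⟩, ⟨-2, 9⟩],
      ![⟨-1, 3⟩, ⟨0, -2⟩, ⟨2, 4⟩, ⟨6, -2⟩],
      ![⟨3, 3⟩, ⟨0, 1⟩, ⟨-1, -1⟩, ⟨3, 10⟩],
      ![⟨-5, 1⟩, ⟨0, 1⟩, ⟨11, 11⟩, ⟨1, 4⟩]],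
  ruOfArray ![![⟨0, 0⟩, ⟨0, 0⟩, ⟨0, 0⟩, ⟨0, 0⟩],
      ![⟨0, 0⟩, ⟨0, 0⟩, ⟨0, 0⟩, ⟨0, 0⟩],
      ![⟨0, 0⟩, ⟨0, 0⟩, ⟨0, 0⟩, ⟨1, -1⟩],
      ![⟨0, 0⟩, ⟨0, 2⟩, ⟨0, -1⟩, ⟨1, 0⟩],
      ![⟨0, 0⟩, ⟨2, 0⟩, ⟨0, 0⟩, ⟨1, 1⟩],
      ![⟨0, 0⟩, ⟨0, 0⟩, ⟨0, 1⟩, ⟨0, -1⟩],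
      ![⟨0, 0⟩, ⟨0, -2⟩, ⟨-2, -1⟩, ⟨-1, 0⟩]],
  ruOfArray ![![⟨0, 0⟩, ⟨0, 0⟩, ⟨0, 0⟩, ⟨2, 2⟩],
      ![⟨0, 0⟩, ⟨-2, -2⟩, ⟨-2, -2⟩, ⟨5, -3⟩],
      ![⟨0, 0⟩, ⟨2, 2⟩, ⟨0, -4⟩, ⟨3, -5⟩],
      ![⟨2, 2⟩, ⟨2, 2⟩, ⟨0, 0⟩, ⟨1, -9⟩],
      ![⟨1, -3⟩, ⟨-1, 2⟩, ⟨-2, -4⟩, ⟨-6, 1⟩],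
      ![⟨-3, -3⟩, ⟨0, -1⟩, ⟨1, 0⟩, ⟨-3, -9⟩],
      ![⟨5, -1⟩, ⟨0, 0⟩, ⟨-10, -10⟩, ⟨0, -4⟩]],
  ruOfArray ![![⟨0, 0⟩, ⟨0, 0⟩, ⟨0, 0⟩, ⟨0, 0⟩],
      ![⟨0, 0⟩, ⟨0, 0⟩, ⟨0, 0⟩, ⟨0, 0⟩],
      ![⟨0, 0⟩, ⟨0, 0⟩, ⟨0, 0⟩, ⟨1, -1⟩],
      ![⟨0, 0⟩, ⟨0, 2⟩, ⟨0, -2⟩, ⟨-2, 2⟩],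
      ![⟨0, 0⟩, ⟨4, 0⟩, ⟨0, -1⟩, ⟨1, 0⟩],
      ![⟨0, 0⟩, ⟨0, 0⟩, ⟨0, 1⟩, ⟨0, -1⟩],
      ![⟨0, -2⟩, ⟨-1, -4⟩, ⟨-3, -1⟩, ⟨1, 2⟩]],
  ruOfArray ![![⟨0, 0⟩, ⟨0, 0⟩, ⟨0, 0⟩, ⟨-1, -1⟩],
      ![⟨0, 0⟩, ⟨1, 1⟩, ⟨1, 1⟩, ⟨-4, 2⟩],
      ![⟨0, 0⟩, ⟨-1, -1⟩, ⟨1, 3⟩, ⟨-3, 5⟩],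
      ![⟨-1, -1⟩, ⟨-1, -3⟩, ⟨0, 2⟩, ⟨1, 5⟩],
      ![⟨0, 2⟩, ⟨-2, 0⟩, ⟨1, 3⟩, ⟨4, 0⟩],
      ![⟨2, 2⟩, ⟨0, 1⟩, ⟨-1, -1⟩, ⟨1, 8⟩],
      ![⟨-2, 2⟩, ⟨0, 3⟩, ⟨10, 7⟩, ⟨1, 1⟩]],
  ruOfArray ![![⟨0, 0⟩, ⟨0, 0⟩, ⟨0, 0⟩, ⟨0, -1⟩],
      ![⟨0, 0⟩, ⟨-1, -1⟩, ⟨0, 0⟩, ⟨2, 3⟩],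
      ![⟨0, 0⟩, ⟨-1, -1⟩, ⟨-1, 1⟩, ⟨1, 2⟩],
      ![⟨-1, 1⟩, ⟨-1, 1⟩, ⟨1, 1⟩, ⟨1, -2⟩],
      ![⟨-1, 1⟩, ⟨-2, -2⟩, ⟨2, 4⟩, ⟨1, -4⟩],
      ![⟨3, 1⟩, ⟨1, 3⟩, ⟨1, 1⟩, ⟨2, 1⟩],
      ![⟨-2, 4⟩, ⟨-1, 7⟩, ⟨-1, 1⟩, ⟨-1, -2⟩]]]

/-- the levels -/
def KK19 : Fin 19 → ℕ := ![0, 0, 0, 0, 0, 0, 0, 0, 0, 1, 2, 2, 2, 2, 2, 2, 2, 2, 3]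

/-- coefficients of the basis vectors modulo 4 -/
def A19 : Fin 28 → Fin 19 → GaussianInt := ![
  ![⟨1, 0⟩, ⟨0, 0⟩, ⟨0, 0⟩, ⟨0, 0⟩, ⟨0, 0⟩, ⟨0, 0⟩, ⟨0, 0⟩, ⟨0, 0⟩, ⟨0, 0⟩, ⟨0, 0⟩, ⟨0, 0⟩, ⟨0, 0⟩, ⟨0, 0⟩, ⟨0, 0⟩, ⟨0, 0⟩, ⟨0, 0⟩, ⟨0, 0⟩, ⟨0, 0⟩, ⟨0, 0⟩],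
  ![⟨0, 0⟩, ⟨1, 0⟩, ⟨0, 0⟩, ⟨0, 0⟩, ⟨0, 0⟩, ⟨0, 0⟩, ⟨0, 0⟩, ⟨0, 0⟩, ⟨0, 0⟩, ⟨0, 0⟩, ⟨0, 0⟩, ⟨0, 0⟩, ⟨0, 0⟩, ⟨0, 0⟩, ⟨0, 0⟩, ⟨0, 0⟩, ⟨0, 0⟩, ⟨0, 0⟩, ⟨0, 0⟩],
  ![⟨0, 0⟩, ⟨0, 0⟩, ⟨1, 0⟩, ⟨0, 0⟩, ⟨0, 0⟩, ⟨0, 0⟩, ⟨0, 0⟩, ⟨0, 0⟩, ⟨0, 0⟩, ⟨0, 0⟩, ⟨0, 0⟩, ⟨0, 0⟩, ⟨0, 0⟩, ⟨0, 0⟩, ⟨0, 0⟩, ⟨0, 0⟩, ⟨0, 0⟩, ⟨0, 0⟩, ⟨0, 0⟩],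
  ![⟨0, 0⟩, ⟨0, 0⟩, ⟨0, 0⟩, ⟨0, 0⟩, ⟨1, 0⟩, ⟨0, 0⟩, ⟨0, 0⟩, ⟨0, 0⟩, ⟨0, 0⟩, ⟨0, 0⟩, ⟨0, 0⟩, ⟨0, 0⟩, ⟨0, 0⟩, ⟨0, 0⟩, ⟨0, 0⟩, ⟨0, 0⟩, ⟨0, 0⟩, ⟨0, 0⟩, ⟨0, 0⟩],
  ![⟨0, 0⟩, ⟨0, 0⟩, ⟨0, 0⟩, ⟨1, 0⟩, ⟨1, 0⟩, ⟨0, 0⟩, ⟨0, 0⟩, ⟨0, 0⟩, ⟨0, 0⟩, ⟨0, 0⟩, ⟨0, 0⟩, ⟨0, 0⟩, ⟨0, 0⟩, ⟨0, 0⟩, ⟨0, 0⟩, ⟨0, 0⟩, ⟨0, 0⟩, ⟨0, 0⟩, ⟨0, 0⟩],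
  ![⟨0, 0⟩, ⟨0, 0⟩, ⟨0, 0⟩, ⟨0, 0⟩, ⟨0, 0⟩, ⟨0, 0⟩, ⟨1, 0⟩, ⟨0, 0⟩, ⟨0, 0⟩, ⟨0, 0⟩, ⟨0, 0⟩, ⟨0, 0⟩, ⟨0, 0⟩, ⟨0, 0⟩, ⟨0, 0⟩, ⟨0, 0⟩, ⟨0, 0⟩, ⟨0, 0⟩, ⟨0, 0⟩],
  ![⟨0, 0⟩, ⟨0, 0⟩, ⟨0, 0⟩, ⟨0, 0⟩, ⟨1, 1⟩, ⟨0, 0⟩, ⟨-1, 4⟩, ⟨1, 1⟩, ⟨1, 1⟩, ⟨1, 0⟩, ⟨0, 0⟩, ⟨0, 0⟩, ⟨0, 0⟩, ⟨0, 0⟩, ⟨0, 0⟩, ⟨0, 0⟩, ⟨0, 0⟩, ⟨0, 0⟩, ⟨0, 0⟩],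
  ![⟨0, 0⟩, ⟨0, 0⟩, ⟨0, 0⟩, ⟨0, 0⟩, ⟨0, 0⟩, ⟨0, 0⟩, ⟨0, 0⟩, ⟨1, 0⟩, ⟨0, 0⟩, ⟨0, 0⟩, ⟨0, 0⟩, ⟨0, 0⟩, ⟨0, 0⟩, ⟨0, 0⟩, ⟨0, 0⟩, ⟨0, 0⟩, ⟨0, 0⟩, ⟨0, 0⟩, ⟨0, 0⟩],
  ![⟨0, 0⟩, ⟨0, 0⟩, ⟨0, 0⟩, ⟨0, 0⟩, ⟨0, 0⟩, ⟨1, 0⟩, ⟨0, 0⟩, ⟨0, 0⟩, ⟨0, 0⟩, ⟨0, 0⟩, ⟨0, 0⟩, ⟨0, 0⟩, ⟨0, 0⟩, ⟨0, 0⟩, ⟨0, 0⟩, ⟨0, 0⟩, ⟨0, 0⟩, ⟨0, 0⟩, ⟨0, 0⟩],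
  ![⟨0, 0⟩, ⟨0, 0⟩, ⟨0, 0⟩, ⟨0, 0⟩, ⟨0, 0⟩, ⟨0, 0⟩, ⟨0, 0⟩, ⟨1, 0⟩, ⟨1, 0⟩, ⟨0, 0⟩, ⟨0, 0⟩, ⟨0, 0⟩, ⟨0, 0⟩, ⟨0, 0⟩, ⟨0, 0⟩, ⟨0, 0⟩, ⟨0, 0⟩, ⟨0, 0⟩, ⟨0, 0⟩],
  ![⟨0, 0⟩, ⟨0, 0⟩, ⟨0, 0⟩, ⟨0, 0⟩, ⟨0, 0⟩, ⟨0, 0⟩, ⟨0, 0⟩, ⟨0, 0⟩, ⟨0, 0⟩, ⟨1, 1⟩, ⟨0, 0⟩, ⟨0, 0⟩, ⟨1, 0⟩, ⟨0, 0⟩, ⟨0, 0⟩, ⟨1, 0⟩, ⟨0, 0⟩, ⟨0, 0⟩, ⟨0, 0⟩],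
  ![⟨0, 0⟩, ⟨0, 0⟩, ⟨0, 0⟩, ⟨0, 0⟩, ⟨0, 0⟩, ⟨0, 0⟩, ⟨0, 0⟩, ⟨-2, 2⟩, ⟨-1, 3⟩, ⟨1, 1⟩, ⟨0, 0⟩, ⟨1, 0⟩, ⟨0, 0⟩, ⟨0, 0⟩, ⟨0, 0⟩, ⟨0, 0⟩, ⟨0, 0⟩, ⟨0, 0⟩, ⟨0, 0⟩],
  ![⟨0, 0⟩, ⟨0, 0⟩, ⟨0, 0⟩, ⟨0, 0⟩, ⟨0, 2⟩, ⟨0, 0⟩, ⟨-1, 5⟩, ⟨-1, 3⟩, ⟨0, 2⟩, ⟨0, 0⟩, ⟨1, 0⟩, ⟨0, 0⟩, ⟨0, 0⟩, ⟨0, 0⟩, ⟨0, 0⟩, ⟨0, 0⟩, ⟨0, 0⟩, ⟨0, 0⟩, ⟨0, 0⟩],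
  ![⟨0, 0⟩, ⟨0, 0⟩, ⟨0, 0⟩, ⟨0, 0⟩, ⟨0, 0⟩, ⟨0, 0⟩, ⟨0, 0⟩, ⟨-2, 2⟩, ⟨-1, 3⟩, ⟨1, 1⟩, ⟨0, 0⟩, ⟨1, 0⟩, ⟨0, 0⟩, ⟨1, 0⟩, ⟨0, 0⟩, ⟨1, 0⟩, ⟨0, 0⟩, ⟨0, 0⟩, ⟨0, 0⟩],
  ![⟨0, 0⟩, ⟨0, 0⟩, ⟨0, 0⟩, ⟨0, 0⟩, ⟨0, 0⟩, ⟨0, 0⟩, ⟨0, 0⟩, ⟨-2, 2⟩, ⟨-1, 3⟩, ⟨1, 1⟩, ⟨0, 0⟩, ⟨1, 0⟩, ⟨0, 0⟩, ⟨0, 0⟩, ⟨1, 0⟩, ⟨0, 0⟩, ⟨0, 0⟩, ⟨0, 0⟩, ⟨0, 0⟩],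
  ![⟨0, 0⟩, ⟨0, 0⟩, ⟨0, 0⟩, ⟨0, 0⟩, ⟨0, 0⟩, ⟨0, 0⟩, ⟨0, 0⟩, ⟨-2, 2⟩, ⟨-1, 3⟩, ⟨0, 0⟩, ⟨0, 0⟩, ⟨1, 0⟩, ⟨0, 0⟩, ⟨0, 0⟩, ⟨0, 0⟩, ⟨1, 0⟩, ⟨0, 0⟩, ⟨1, 0⟩, ⟨0, 0⟩],
  ![⟨0, 0⟩, ⟨0, 0⟩, ⟨0, 0⟩, ⟨0, 0⟩, ⟨0, 0⟩, ⟨0, 0⟩, ⟨0, 0⟩, ⟨-1, 5⟩, ⟨-1, 3⟩, ⟨0, 0⟩, ⟨0, 0⟩, ⟨1, 0⟩, ⟨1, 0⟩, ⟨0, 0⟩, ⟨0, 0⟩, ⟨0, 0⟩, ⟨0, 0⟩, ⟨0, 0⟩, ⟨0, 0⟩],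
  ![⟨0, 0⟩, ⟨0, 0⟩, ⟨0, 0⟩, ⟨0, 0⟩, ⟨-2, 2⟩, ⟨0, 0⟩, ⟨-2, 2⟩, ⟨-2, 2⟩, ⟨-2, 2⟩, ⟨1, 3⟩, ⟨0, 0⟩, ⟨1, 1⟩, ⟨1, 1⟩, ⟨0, 0⟩, ⟨0, 0⟩, ⟨1, 1⟩, ⟨1, 1⟩, ⟨1, 1⟩, ⟨1, 0⟩],
  ![⟨0, 0⟩, ⟨0, 0⟩, ⟨0, 0⟩, ⟨0, 0⟩, ⟨0, 0⟩, ⟨0, 0⟩, ⟨0, 0⟩, ⟨-2, 2⟩, ⟨-1, 3⟩, ⟨1, 1⟩, ⟨0, 0⟩, ⟨1, 0⟩, ⟨0, 0⟩, ⟨0, 0⟩, ⟨0, 0⟩, ⟨0, 0⟩, ⟨1, 0⟩, ⟨0, 0⟩, ⟨0, 0⟩],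
  ![⟨0, 0⟩, ⟨0, 0⟩, ⟨0, 0⟩, ⟨0, 0⟩, ⟨0, 0⟩, ⟨0, 0⟩, ⟨0, 0⟩, ⟨0, 0⟩, ⟨0, 0⟩, ⟨0, 0⟩, ⟨0, 0⟩, ⟨0, 0⟩, ⟨0, 0⟩, ⟨0, 0⟩, ⟨0, 0⟩, ⟨0, 0⟩, ⟨0, 0⟩, ⟨0, 0⟩, ⟨0, 0⟩],
  ![⟨0, 0⟩, ⟨0, 0⟩, ⟨0, 0⟩, ⟨0, 0⟩, ⟨-2, 2⟩, ⟨0, 0⟩, ⟨-2, 2⟩, ⟨-2, 2⟩, ⟨0, 2⟩, ⟨1, 1⟩, ⟨0, 0⟩, ⟨0, 0⟩, ⟨1, 1⟩, ⟨0, 0⟩, ⟨0, 0⟩, ⟨0, 0⟩, ⟨1, 1⟩, ⟨0, 0⟩, ⟨1, 0⟩],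
  ![⟨0, 0⟩, ⟨0, 0⟩, ⟨0, 0⟩, ⟨0, 0⟩, ⟨0, 0⟩, ⟨0, 0⟩, ⟨0, 0⟩, ⟨0, 0⟩, ⟨0, 0⟩, ⟨0, 0⟩, ⟨0, 0⟩, ⟨0, 0⟩, ⟨0, 0⟩, ⟨0, 0⟩, ⟨0, 0⟩, ⟨0, 0⟩, ⟨0, 0⟩, ⟨1, 1⟩, ⟨0, 0⟩],
  ![⟨0, 0⟩, ⟨0, 0⟩, ⟨0, 0⟩, ⟨0, 0⟩, ⟨-2, 2⟩, ⟨0, 0⟩, ⟨-2, 2⟩, ⟨-2, 2⟩, ⟨-2, 2⟩, ⟨1, 3⟩, ⟨0, 0⟩, ⟨1, 1⟩, ⟨1, 1⟩, ⟨0, 0⟩, ⟨0, 0⟩, ⟨0, 0⟩, ⟨1, 1⟩, ⟨0, 0⟩, ⟨1, 0⟩],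
  ![⟨0, 0⟩, ⟨0, 0⟩, ⟨0, 0⟩, ⟨0, 0⟩, ⟨0, 0⟩, ⟨0, 0⟩, ⟨0, 0⟩, ⟨0, 0⟩, ⟨0, 0⟩, ⟨0, 0⟩, ⟨0, 0⟩, ⟨0, 0⟩, ⟨0, 0⟩, ⟨0, 0⟩, ⟨0, 0⟩, ⟨0, 0⟩, ⟨0, 0⟩, ⟨0, 0⟩, ⟨0, 0⟩],
  ![⟨0, 0⟩, ⟨0, 0⟩, ⟨0, 0⟩, ⟨0, 0⟩, ⟨0, 0⟩, ⟨0, 0⟩, ⟨0, 0⟩, ⟨0, 0⟩, ⟨0, 0⟩, ⟨0, 2⟩, ⟨0, 0⟩, ⟨0, 0⟩, ⟨0, 0⟩, ⟨0, 0⟩, ⟨0, 0⟩, ⟨0, 0⟩, ⟨0, 0⟩, ⟨0, 0⟩, ⟨0, 0⟩],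
  ![⟨0, 0⟩, ⟨0, 0⟩, ⟨0, 0⟩, ⟨0, 0⟩, ⟨0, 0⟩, ⟨0, 0⟩, ⟨0, 0⟩, ⟨0, 0⟩, ⟨0, 0⟩, ⟨0, 0⟩, ⟨0, 0⟩, ⟨0, 0⟩, ⟨0, 0⟩, ⟨0, 0⟩, ⟨0, 0⟩, ⟨0, 0⟩, ⟨0, 0⟩, ⟨0, 0⟩, ⟨0, 0⟩],
  ![⟨0, 0⟩, ⟨0, 0⟩, ⟨0, 0⟩, ⟨0, 0⟩, ⟨0, 0⟩, ⟨0, 0⟩, ⟨0, 0⟩, ⟨0, 0⟩, ⟨0, 0⟩, ⟨0, 0⟩, ⟨0, 0⟩, ⟨0, 0⟩, ⟨0, 0⟩, ⟨0, 0⟩, ⟨0, 0⟩, ⟨0, 0⟩, ⟨0, 0⟩, ⟨0, 0⟩, ⟨0, 0⟩],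
  ![⟨0, 0⟩, ⟨0, 0⟩, ⟨0, 0⟩, ⟨0, 0⟩, ⟨0, 0⟩, ⟨0, 0⟩, ⟨0, 0⟩, ⟨0, 0⟩, ⟨0, 0⟩, ⟨0, 0⟩, ⟨0, 0⟩, ⟨0, 0⟩, ⟨0, 0⟩, ⟨0, 0⟩, ⟨0, 0⟩, ⟨0, 0⟩, ⟨0, 0⟩, ⟨0, 0⟩, ⟨0, 0⟩]]

/-- the (layer, generator) pairs of the steps -/
def idx : List (ℕ × Fin 19) := [(0, 0), (0, 1), (0, 2), (0, 3), (0, 4), (0, 5), (0, 6), (0, 7), (0, 8), (1, 0), (1, 1), (1, 2), (1, 3), (1, 4), (1, 5), (1, 6), (1, 7), (1, 8), (1, 9), (2, 0), (2, 1), (2, 2), (2, 3), (2, 4), (2, 10), (2, 5), (2, 11), (2, 12), (2, 6), (2, 13),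 (2, 14), (2, 7), (2, 15), (2, 16), (2, 8), (2, 17), (2, 9), (3, 0), (3, 1), (3, 2), (3, 18), (3, 3), (3, 4), (3, 10), (3, 5), (3, 11), (3, 12), (3, 6), (3, 13), (3, 14), (3, 7), (3, 15), (3, 16), (3, 8), (3, 17), (3, 9)]

end Cfsg.Agent.Lib.Helper9.RuDfs
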