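import Cfsg.Agent.Lib.Helper9.RuDfsC

set_option autoImplicit false

/-!
# The Rudvalis lattice: checks on the generated data of the search
-/

namespace Cfsg.Agent.Lib.Helper9.RuDfs

open Cfsg.Spor Cfsg.Agent.Lib.Helper14.RuLat

/-- position of a coordinate -/
def pos (p : RuIdx) : ℕ := 4 * p.1.val + p.2.val

set_option maxRecDepth 100000 in
theorem Bv_cong : ∀ j : Fin 28, ∀ p : RuIdx,
    Div4 (Bv j p - ∑ m, A19 j m * gPi ^ KK19 m * Uv19 m p) := by
  decide +kernel

set_option maxRecDepth 100000 in
theorem steps_small : ∀ st ∈ steps, SmallG st.G := by decide +kernel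

theorem steps_len : steps.length = 56 := by decide +kernel

theorem idx_len : idx.length = 56 := by decide +kernel

set_option maxRecDepth 100000 in
theorem steps_inv : InvOK steps := by decide +kernel

/-- all (coordinate, layer) pairs -/
def allPairs : List (ℕ × ℕ) := (List.range 28).flatMap fun q => (List.range 4).map fun s => (q, s)

set_option maxRecDepth 100000 in
theorem steps_fin : (allFin steps).Perm allPairs := by decide +kernel

set_option maxRecDepth 100000 in
theorem steps_dig : ∀ pr ∈ steps.zip idx, ∀ p : RuIdx,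
    (dig pr.1.G (2 * pos p + 4) : ℤ) = (gPi ^ pr.2.1 * Uv19 pr.2.2 p).re % 4 ∧
    (dig pr.1.G (2 * pos p + 5) : ℤ) = (gPi ^ pr.2.1 * Uv19 pr.2.2 p).im % 4 := by
  decide +kernel

theorem idx_nodup : idx.Nodup := by decide +kernel

theorem idx_mem : ∀ m : Fin 19, ∀ s : Fin 4, (s.val, m) ∈ idx ↔ KK19 m ≤ s.val := by decide +kernel

theorem idx_lt : ∀ pr ∈ idx, pr.1 < 4 := by decide +kernel

end Cfsg.Agent.Lib.Helper9.RuDfs
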