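import Cfsg.Agent.Lib.Helper9.RuDfsD

set_option autoImplicit false

/-!
# The Rudvalis lattice: every lattice vector is, modulo 4, a path of the search
-/

namespace Cfsg.Agent.Lib.Helper9.RuDfs

open Cfsg.Spor Cfsg.Agent.Lib.Helper14.RuLat Finset

/-! ### digits of a Gaussian integer in base `π = 1 + i` -/

lemma exists_digit (z : GaussianInt) :
    ∃ (b : Bool) (z' : GaussianInt), z = (if b then 1 else 0) + gPi * z' := by
  rcases zmod2_cases (par z) with h | h
  · obtain ⟨z', hz⟩ := exists_eq_gPi_mul h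
    exact ⟨false, z', by simp [hz]⟩
  · have h1 : par (z - 1) = 0 := by rw [map_sub, h, map_one, sub_self]
    obtain ⟨z', hz⟩ := exists_eq_gPi_mul h1
    refine ⟨true, z', ?_⟩
    rw [← hz]; simp

lemma exists_digits (n : ℕ) (z : GaussianInt) : ∃ (β : ℕ → Bool) (D : GaussianInt),
    z = (∑ l ∈ range n, if β l then gPi ^ l else 0) + gPi ^ n * D := by
  induction n generalizing z with
  | zero => exact ⟨fun _ => false, z, by simp⟩
  | succ n ih =>
    obtain ⟨b, z', hz⟩ := exists_digit z
    obtain ⟨β, D, hβ⟩ := ih z'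
    refine ⟨fun l => if l = 0 then b else β (l - 1), D, ?_⟩
    rw [Finset.sum_range_succ']
    simp only [Nat.add_eq_zero_iff, one_ne_zero, and_false, if_false, Nat.add_sub_cancel, if_true,
      pow_zero]
    have e : (∑ l ∈ range n, if β l then gPi ^ (l + 1) else 0) =
        gPi * ∑ l ∈ range n, if β l then gPi ^ l else 0 := by
      rw [Finset.mul_sum]
      refine Finset.sum_congr rfl fun l _ => ?_
      split_ifs <;> simp [pow_succ, mul_comm]
    rw [e]
    conv_lhs => rw [hz, hβ]
    rw [pow_succ]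
    ring

lemma gPi_pow_four : gPi ^ 4 = -4 := by decide

lemma exists_bits (k : ℕ) (hk : k ≤ 4) (z : GaussianInt) : ∃ (β : ℕ → Bool) (D : GaussianInt),
    z * gPi ^ k = (∑ s ∈ range 4, if k ≤ s ∧ β s = true then gPi ^ s else 0) + gPi ^ 4 * D := by
  obtain ⟨β, D, h⟩ := exists_digits (4 - k) z
  refine ⟨fun s => β (s - k), D, ?_⟩
  rw [h]
  interval_cases k <;> simp [Finset.sum_range_succ] <;> (try split_ifs) <;> ring

/-! ### the coefficients of a lattice vector -/

theorem exists_C {v : RuVec} (hv : v ∈ Lc) : ∃ C : Fin 19 → GaussianInt, ∀ p : RuIdx,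
    (4 : GaussianInt) ∣ v p - ∑ m, C m * gPi ^ KK19 m * Uv19 m p := by
  induction hv using Submodule.span_induction with
  | mem x hx =>
    obtain ⟨j, rfl⟩ := hx
    exact ⟨A19 j, fun p => (div4_iff _).1 (Bv_cong j p)⟩
  | zero => exact ⟨fun _ => 0, fun p => by simp⟩
  | add x y _ _ hx hy =>
    obtain ⟨C, hC⟩ := hx
    obtain ⟨C', hC'⟩ := hy
    refine ⟨fun m => C m + C' m, fun p => ?_⟩
    have := dvd_add (hC p) (hC' p)
    convert this using 1
    simp only [Pi.add_apply, add_mul, Finset.sum_add_distrib]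
    ring
  | smul c x _ hx =>
    obtain ⟨C, hC⟩ := hx
    refine ⟨fun m => c * C m, fun p => ?_⟩
    have := Dvd.dvd.mul_left (hC p) c
    convert this using 1
    simp only [Pi.smul_apply, smul_eq_mul, mul_sub, Finset.mul_sum]
    congr 1
    refine Finset.sum_congr rfl fun m _ => ?_
    ring

lemma KK19_le : ∀ m : Fin 19, KK19 m ≤ 4 := by decide

/-- the term of a (layer, generator) pair -/
def term (β : Fin 19 → ℕ → Bool) (p : RuIdx) (pr : ℕ × Fin 19) : GaussianInt :=
  if β pr.2 pr.1 = true then gPi ^ pr.1 * Uv19 pr.2 p else 0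

theorem exists_beta {v : RuVec} (hv : v ∈ Lc) : ∃ β : Fin 19 → ℕ → Bool, ∀ p : RuIdx,
    (4 : GaussianInt) ∣ v p - (idx.map (term β p)).sum := by
  obtain ⟨C, hC⟩ := exists_C hv
  choose β D hβ using fun m => exists_bits (KK19 m) (KK19_le m) (C m)
  refine ⟨β, fun p => ?_⟩
  -- the list sum is a double sum
  have hlist : (idx.map (term β p)).sum =
      ∑ m, ∑ s ∈ range 4, if KK19 m ≤ s ∧ β m s = true then gPi ^ s * Uv19 m p else 0 := by
    rw [← List.sum_toFinset _ idx_nodup]
    have hsub : idx.toFinset ⊆ (range 4) ×ˢ (univ : Finset (Fin 19)) := by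
      intro x hx
      rw [List.mem_toFinset] at hx
      simp only [Finset.mem_product, Finset.mem_range, Finset.mem_univ, and_true]
      exact idx_lt x hx
    have hmem : ∀ x ∈ (range 4) ×ˢ (univ : Finset (Fin 19)), (x ∈ idx ↔ KK19 x.2 ≤ x.1) := by
      intro x hx
      simp only [Finset.mem_product, Finset.mem_range, Finset.mem_univ, and_true] at hx
      exact idx_mem x.2 ⟨x.1, hx⟩
    have h1 : ∑ x ∈ idx.toFinset, term β p x = ∑ x ∈ idx.toFinset,
        (if KK19 x.2 ≤ x.1 ∧ β x.2 x.1 = true then gPi ^ x.1 * Uv19 x.2 p else 0) := by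
      refine Finset.sum_congr rfl fun x hx => ?_
      have hk : KK19 x.2 ≤ x.1 := (hmem x (hsub hx)).1 (List.mem_toFinset.1 hx)
      simp [term, hk]
    rw [h1, Finset.sum_subset hsub]
    · rw [Finset.sum_product, Finset.sum_comm]
    · intro x hx hnx
      have hk : ¬ KK19 x.2 ≤ x.1 := fun h => hnx (List.mem_toFinset.2 ((hmem x hx).2 h))
      simp [hk]
  rw [hlist]
  have hsum : ∑ m, C m * gPi ^ KK19 m * Uv19 m p =
      (∑ m, ∑ s ∈ range 4, if KK19 m ≤ s ∧ β m s = true then gPi ^ s * Uv19 m p else 0) +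
        (-4) * ∑ m, D m * Uv19 m p := by
    rw [Finset.mul_sum, ← Finset.sum_add_distrib]
    refine Finset.sum_congr rfl fun m _ => ?_
    rw [hβ m, gPi_pow_four, add_mul, Finset.sum_mul]
    congr 1
    · refine Finset.sum_congr rfl fun s _ => ?_
      split_ifs <;> simp
    · ring
  have h4 := hC p
  rw [hsum] at h4
  have h5 : (4 : GaussianInt) ∣ (-4) * ∑ m, D m * Uv19 m p := ⟨-∑ m, D m * Uv19 m p, by ring⟩
  have := dvd_add h4 h5
  convert this using 1
  ring

end Cfsg.Agent.Lib.Helper9.RuDfs
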