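import Cfsg.Agent.Lib.Helper9.RuDfsE

set_option autoImplicit false

/-!
# The Rudvalis lattice: lattice vectors of norm at most 16 are found by the search
-/

namespace Cfsg.Agent.Lib.Helper9.RuDfs

open Cfsg.Spor Cfsg.Agent.Lib.Helper14.RuLat Finset

theorem dig_ite (c : Bool) (G i : ℕ) : dig (if c = true then G else 0) i = if c = true then dig G i else 0 := by
  cases c <;> simp [dig_zero_left]

/-- digits of a path sum -/
theorem dig_pathSum (steps : List Step) (hs : ∀ st ∈ steps, SmallG st.G) (hlen : steps.length ≤ 60)
    (cs : List Bool) (i : ℕ) :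
    dig (pathSum steps cs) i = ((steps.zip cs).map fun x => if x.2 = true then dig x.1.G i else 0).sum := by
  induction steps generalizing cs with
  | nil => cases cs <;> simp [pathSum, dig_zero_left]
  | cons st rest ih =>
    have hr : ∀ st ∈ rest, SmallG st.G := fun s hs' => hs s (List.mem_cons_of_mem _ hs')
    have hl : rest.length ≤ 60 := by simp at hlen; omega
    cases cs with
    | nil => simp [pathSum, dig_zero_left]
    | cons c cs =>
      simp only [pathSum, List.zip_cons_cons, List.map_cons, List.sum_cons]
      have hG : ∀ j, dig (if c = true then st.G else 0) j ≤ 4 := by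
        intro j
        cases c
        · simp [dig_zero_left]
        · simpa using dig_le_of_small (hs st (List.mem_cons_self ..)) j
      have hlen' : rest.length + 1 ≤ 60 := by simpa using hlen
      rw [dig_add, ih hr hl, dig_ite]
      intro j
      have := dig_pathSum_le rest hr hl cs j
      have := hG j
      omega

/-- imaginary part as an additive hom -/
def imHom : GaussianInt →+ ℤ where
  toFun := Zsqrtd.im
  map_zero' := rfl
  map_add' := Zsqrtd.im_add

theorem list_sum_modEq {α : Type} (L : List α) (a b : α → ℤ) (h : ∀ x ∈ L, a x ≡ b x [ZMOD 4]) :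
    (L.map a).sum ≡ (L.map b).sum [ZMOD 4] := by
  induction L with
  | nil => simp
  | cons x L ih =>
    simp only [List.map_cons, List.sum_cons]
    exact Int.ModEq.add (h x (List.mem_cons_self ..)) (ih fun y hy => h y (List.mem_cons_of_mem _ hy))

theorem exists_path {v : RuVec} (hv : v ∈ Lc) : ∃ cs : List Bool, cs.length = 56 ∧ ∀ p : RuIdx,
    ((dig (pathSum steps cs) (2 * pos p + 4) : ℕ) : ℤ) ≡ (v p).re [ZMOD 4] ∧
    ((dig (pathSum steps cs) (2 * pos p + 5) : ℕ) : ℤ) ≡ (v p).im [ZMOD 4] := by
  obtain ⟨β, hβ⟩ := exists_beta hv
  refine ⟨idx.map fun pr => β pr.2 pr.1, by simp [idx_len], fun p => ?_⟩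
  have hsteps : steps.length ≤ 60 := by rw [steps_len]; norm_num
  have hzip : (steps.zip idx).map Prod.snd = idx :=
    List.map_snd_zip (by rw [steps_len, idx_len])
  have h4 := hβ p
  rw [← div4_iff] at h4
  obtain ⟨h4r, h4i⟩ := h4
  constructor
  · rw [dig_pathSum steps steps_small hsteps, List.zip_map_right, List.map_map, Nat.cast_list_sum,
      List.map_map]
    have hre : ((idx.map (term β p)).sum).re = (idx.map fun pr => (term β p pr).re).sum := by
      show reHom ((idx.map (term β p)).sum) = _
      rw [map_list_sum, List.map_map]; rfl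
    have h1 : ((steps.zip idx).map fun x => (term β p x.2).re).sum = ((idx.map (term β p)).sum).re := by
      rw [hre, ← hzip, List.map_map]; rfl
    have h2 : ((idx.map (term β p)).sum).re ≡ (v p).re [ZMOD 4] := by
      have : (v p - (idx.map (term β p)).sum).re = (v p).re - ((idx.map (term β p)).sum).re :=
        Zsqrtd.re_sub _ _
      rw [this] at h4r
      exact Int.modEq_iff_dvd.2 (Int.dvd_of_emod_eq_zero h4r)
    refine Int.ModEq.trans ?_ (h1 ▸ h2)
    apply list_sum_modEq
    intro x hx
    obtain ⟨hd, _⟩ := steps_dig x hx p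
    simp only [Function.comp, Prod.map, id, term]
    by_cases hb : β x.2.2 x.2.1 = true
    · simp only [hb, if_true]
      rw [hd]
      exact Int.mod_modEq _ _
    · simp [hb]
  · rw [dig_pathSum steps steps_small hsteps, List.zip_map_right, List.map_map, Nat.cast_list_sum,
      List.map_map]
    have him : ((idx.map (term β p)).sum).im = (idx.map fun pr => (term β p pr).im).sum := by
      show imHom ((idx.map (term β p)).sum) = _
      rw [map_list_sum, List.map_map]; rfl
    have h1 : ((steps.zip idx).map fun x => (term β p x.2).im).sum = ((idx.map (term β p)).sum).im := by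
      rw [him, ← hzip, List.map_map]; rfl
    have h2 : ((idx.map (term β p)).sum).im ≡ (v p).im [ZMOD 4] := by
      have : (v p - (idx.map (term β p)).sum).im = (v p).im - ((idx.map (term β p)).sum).im :=
        Zsqrtd.im_sub _ _
      rw [this] at h4i
      exact Int.modEq_iff_dvd.2 (Int.dvd_of_emod_eq_zero h4i)
    refine Int.ModEq.trans ?_ (h1 ▸ h2)
    apply list_sum_modEq
    intro x hx
    obtain ⟨_, hd⟩ := steps_dig x hx p
    simp only [Function.comp, Prod.map, id, term]
    by_cases hb : β x.2.2 x.2.1 = true
    · simp only [hb, if_true]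
      rw [hd]
      exact Int.mod_modEq _ _
    · simp [hb]

end Cfsg.Agent.Lib.Helper9.RuDfs
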