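import Cfsg.Agent.Lib.Helper9.RuDfsF

set_option autoImplicit false

/-!
# The Rudvalis lattice: the cost of a state bounds the norm
-/

namespace Cfsg.Agent.Lib.Helper9.RuDfs

open Cfsg.Spor Cfsg.Agent.Lib.Helper14.RuLat Finset

/-- least square of an integer in a class modulo 4 -/
def cfun (x : ℕ) : ℕ :=
  match x % 4 with
  | 0 => 0
  | 1 => 1
  | 2 => 4
  | _ => 1

theorem cfun_mod (x : ℕ) : cfun (x % 4) = cfun x := by
  unfold cfun; rw [Nat.mod_mod]

theorem sum_delta_aux : ∀ x y : Fin 4,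
    delta 0 x.val y.val + delta 1 x.val y.val + delta 2 x.val y.val + delta 3 x.val y.val =
      cfun x.val + cfun y.val := by
  decide

theorem sum_delta (x y : ℕ) :
    delta 0 x y + delta 1 x y + delta 2 x y + delta 3 x y = cfun x + cfun y := by
  have := sum_delta_aux ⟨x % 4, Nat.mod_lt _ (by norm_num)⟩ ⟨y % 4, Nat.mod_lt _ (by norm_num)⟩
  simp only at this
  rw [delta_mod 0 x y, delta_mod 1 x y, delta_mod 2 x y, delta_mod 3 x y, this, cfun_mod, cfun_mod]

theorem sum_map_range (k : ℕ) (g : ℕ → ℕ) : ((List.range k).map g).sum = ∑ s ∈ range k, g s := by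
  induction k with
  | zero => simp
  | succ k ih => rw [List.range_succ, List.map_append, List.sum_append, ih, Finset.sum_range_succ]; simp

theorem total_pairs (n k : ℕ) (g : ℕ → ℕ → ℕ) :
    ((((List.range n).flatMap fun q => (List.range k).map fun s => (q, s))).map
      fun p : ℕ × ℕ => g p.1 p.2).sum = ∑ q ∈ range n, ∑ s ∈ range k, g q s := by
  induction n with
  | zero => simp
  | succ n ih =>
    rw [List.range_succ, List.flatMap_append, List.map_append, List.sum_append, ih,
      Finset.sum_range_succ]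
    congr 1
    simp only [List.flatMap_cons, List.flatMap_nil, List.append_nil, List.map_map]
    exact sum_map_range k fun s => g n s

theorem total_allPairs (W : ℕ) : total allPairs W =
    ∑ q ∈ range 28, (cfun (dig W (2 * q + 4)) + cfun (dig W (2 * q + 5))) := by
  unfold total allPairs
  rw [total_pairs 28 4 fun q s => chargeAt W q s]
  refine Finset.sum_congr rfl fun q _ => ?_
  simp only [Finset.sum_range_succ, Finset.sum_range_zero, zero_add, chargeAt_eq]
  exact sum_delta _ _

theorem sum_pos (F : ℕ → ℤ) : ∑ p : RuIdx, F (pos p) = ∑ q ∈ range 28, F q := by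
  rw [← Fin.sum_univ_eq_sum_range F 28]
  refine Fintype.sum_equiv (finProdFinEquiv : Fin 7 × Fin 4 ≃ Fin 28) _ _ fun p => ?_
  congr 1
  simp [pos, finProdFinEquiv]
  ring

theorem cfun_le (n : ℤ) (d : ℕ) (h : (d : ℤ) ≡ n [ZMOD 4]) : (cfun d : ℤ) ≤ n * n := by
  have hd : (d : ℤ) % 4 = n % 4 := h
  have hd' : ((d % 4 : ℕ) : ℤ) = n % 4 := by rw [← hd]; push_cast; rfl
  have hn : n * n = ((n.natAbs * n.natAbs : ℕ) : ℤ) := by
    rw [Nat.cast_mul, Int.natAbs_mul_self']
  rw [hn, Nat.cast_le]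
  have h4 : d % 4 < 4 := Nat.mod_lt _ (by norm_num)
  unfold cfun
  interval_cases hm : d % 4
  · simp
  · simp only
    have : n.natAbs ≥ 1 := by omega
    nlinarith
  · simp only
    have : n.natAbs ≥ 2 := by omega
    nlinarith
  · simp only
    have : n.natAbs ≥ 1 := by omega
    nlinarith

/-- the cost of a state: the least norm of a vector with these residues -/
def cost (W : ℕ) : ℕ := total allPairs W

theorem ruNorm_eq (v : RuVec) : ruNorm v = ∑ p : RuIdx, ((v p).re * (v p).re + (v p).im * (v p).im) := by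
  unfold ruNorm
  refine Finset.sum_congr rfl fun p _ => ?_
  rw [Zsqrtd.norm_def]; ring

theorem cost_le {v : RuVec} {W : ℕ}
    (h : ∀ p : RuIdx, ((dig W (2 * pos p + 4) : ℕ) : ℤ) ≡ (v p).re [ZMOD 4] ∧
      ((dig W (2 * pos p + 5) : ℕ) : ℤ) ≡ (v p).im [ZMOD 4]) :
    ((cost W : ℕ) : ℤ) ≤ ruNorm v := by
  unfold cost
  rw [total_allPairs, ruNorm_eq, Nat.cast_sum,
    ← sum_pos fun q => ((cfun (dig W (2 * q + 4)) + cfun (dig W (2 * q + 5)) : ℕ) : ℤ)]
  refine Finset.sum_le_sum fun p _ => ?_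
  push_cast
  exact add_le_add (cfun_le _ _ (h p).1) (cfun_le _ _ (h p).2)

theorem found {v : RuVec} (hv : v ∈ Lc) (hn : ruNorm v ≤ 16) : ∃ W ∈ search steps 0 16,
    (∀ p : RuIdx, ((dig W (2 * pos p + 4) : ℕ) : ℤ) ≡ (v p).re [ZMOD 4] ∧
      ((dig W (2 * pos p + 5) : ℕ) : ℤ) ≡ (v p).im [ZMOD 4]) ∧ ((cost W : ℕ) : ℤ) ≤ ruNorm v := by
  obtain ⟨cs, hlen, hcs⟩ := exists_path hv
  have hW : pathW steps cs 0 = pathSum steps cs := by rw [pathW_eq, zero_add]
  refine ⟨pathSum steps cs, ?_, hcs, cost_le hcs⟩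
  rw [← hW]
  apply mem_search steps cs (by rw [hlen, steps_len])
  rw [pathCost_eq steps steps_small (by rw [steps_len]) steps_inv cs (by rw [hlen, steps_len]) 0
    (fun i => by rw [dig_zero_left]; omega), hW]
  have hperm : total (allFin steps) (pathSum steps cs) = total allPairs (pathSum steps cs) := by
    unfold total
    exact (steps_fin.map _).sum_eq
  rw [hperm]
  have := cost_le hcs
  unfold cost at this
  have h16 : ((total allPairs (pathSum steps cs) : ℕ) : ℤ) ≤ 16 := le_trans this hn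
  exact_mod_cast h16

end Cfsg.Agent.Lib.Helper9.RuDfs
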