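import Cfsg.Agent.Lib.Helper9.RuDfsB

set_option autoImplicit false

/-!
# The Rudvalis lattice: cutting the search into pieces
-/

namespace Cfsg.Agent.Lib.Helper9.RuDfs

/-- the search, returning the states (with the remaining budgets) after the given steps -/
def searchSt : List Step → ℕ → ℕ → List (ℕ × ℕ)
  | [], W, b => [(W, b)]
  | st :: rest, W, b =>
    (match charge st.fin W b with
      | none => []
      | some b' => searchSt rest W b') ++
    (forceNat (W + st.G) fun W' =>
      match charge st.fin W' b with
      | none => []
      | some b' => searchSt rest W' b')

theorem search_append (l1 l2 : List Step) (W b : ℕ) :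
    search (l1 ++ l2) W b = (searchSt l1 W b).flatMap fun p => search l2 p.1 p.2 := by
  induction l1 generalizing W b with
  | nil => simp [searchSt]
  | cons st rest ih =>
    simp only [List.cons_append, search, searchSt, forceNat_eq, List.flatMap_append]
    congr 1
    · cases charge st.fin W b with
      | none => simp
      | some b' => simpa using ih W b'
    · cases charge st.fin (W + st.G) b with
      | none => simp
      | some b' => simpa using ih (W + st.G) b'

/-- the first 18 steps -/
def preSteps : List Step := steps.take 18

/-- the other steps -/
def tailSteps : List Step := steps.drop 18

theorem steps_split : steps = preSteps ++ tailSteps := (List.take_append_drop 18 steps).symm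

theorem search_split : search steps 0 16 =
    (searchSt preSteps 0 16).flatMap fun p => search tailSteps p.1 p.2 := by
  conv_lhs => rw [steps_split]
  exact search_append _ _ _ _

end Cfsg.Agent.Lib.Helper9.RuDfs
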