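import Cfsg.Agent.Lib.Helper9.RuDfsK00
import Cfsg.Agent.Lib.Helper9.RuDfsK01
import Cfsg.Agent.Lib.Helper9.RuDfsK02
import Cfsg.Agent.Lib.Helper9.RuDfsK03
import Cfsg.Agent.Lib.Helper9.RuDfsK04
import Cfsg.Agent.Lib.Helper9.RuDfsK05
import Cfsg.Agent.Lib.Helper9.RuDfsK06
import Cfsg.Agent.Lib.Helper9.RuDfsK07
import Cfsg.Agent.Lib.Helper9.RuDfsK08
import Cfsg.Agent.Lib.Helper9.RuDfsK09
import Cfsg.Agent.Lib.Helper9.RuDfsK10
import Cfsg.Agent.Lib.Helper9.RuDfsK11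
import Cfsg.Agent.Lib.Helper9.RuDfsK12
import Cfsg.Agent.Lib.Helper9.RuDfsK13
import Cfsg.Agent.Lib.Helper9.RuDfsK14
import Cfsg.Agent.Lib.Helper9.RuDfsK15
import Cfsg.Agent.Lib.Helper9.RuDfsK16
import Cfsg.Agent.Lib.Helper9.RuDfsK17
import Cfsg.Agent.Lib.Helper9.RuDfsK18
import Cfsg.Agent.Lib.Helper9.RuDfsK19
import Cfsg.Agent.Lib.Helper9.RuDfsK20
import Cfsg.Agent.Lib.Helper9.RuDfsK21
import Cfsg.Agent.Lib.Helper9.RuDfsK22
import Cfsg.Agent.Lib.Helper9.RuDfsK23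
import Cfsg.Agent.Lib.Helper9.RuDfsK24
import Cfsg.Agent.Lib.Helper9.RuDfsK25
import Cfsg.Agent.Lib.Helper9.RuDfsK26
import Cfsg.Agent.Lib.Helper9.RuDfsK27
import Cfsg.Agent.Lib.Helper9.RuDfsK28
import Cfsg.Agent.Lib.Helper9.RuDfsK29
import Cfsg.Agent.Lib.Helper9.RuDfsK30
import Cfsg.Agent.Lib.Helper9.RuDfsK31
import Cfsg.Agent.Lib.Helper9.RuDfsK32
import Cfsg.Agent.Lib.Helper9.RuDfsK33
import Cfsg.Agent.Lib.Helper9.RuDfsK34
import Cfsg.Agent.Lib.Helper9.RuDfsK35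
import Cfsg.Agent.Lib.Helper9.RuDfsK36
import Cfsg.Agent.Lib.Helper9.RuDfsK37

set_option autoImplicit false

/-!
# The Rudvalis lattice: the result of the search
-/

namespace Cfsg.Agent.Lib.Helper9.RuDfs

/-- the states after the first 18 steps -/
def roots : List (ℕ × ℕ) := roots00 ++ roots01 ++ roots02 ++ roots03 ++ roots04 ++ roots05 ++ roots06 ++ roots07 ++ roots08 ++ roots09 ++ roots10 ++ roots11 ++ roots12 ++ roots13 ++ roots14 ++ roots15 ++ roots16 ++ roots17 ++ roots18 ++ roots19 ++ roots20 ++ roots21 ++ roots22 ++ roots23 ++ roots24 ++ roots25 ++ roots26 ++ roots27 ++ roots28 ++ roots29 ++ roots30 ++ roots31 ++ roots32 ++ roots33 ++ roots34 ++ roots35 ++ roots36 ++ roots37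

/-- the final states of the search -/
def minW : List ℕ := outs00 ++ outs01 ++ outs02 ++ outs03 ++ outs04 ++ outs05 ++ outs06 ++ outs07 ++ outs08 ++ outs09 ++ outs10 ++ outs11 ++ outs12 ++ outs13 ++ outs14 ++ outs15 ++ outs16 ++ outs17 ++ outs18 ++ outs19 ++ outs20 ++ outs21 ++ outs22 ++ outs23 ++ outs24 ++ outs25 ++ outs26 ++ outs27 ++ outs28 ++ outs29 ++ outs30 ++ outs31 ++ outs32 ++ outs33 ++ outs34 ++ outs35 ++ outs36 ++ outs37

set_option maxRecDepth 1000000 in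
theorem pre_eq : searchSt preSteps 0 16 = roots := by decide +kernel

theorem flatMap_append2 {α β : Type} (f : α → List β) (a b : List α) (a' b' : List β)
    (ha : a.flatMap f = a') (hb : b.flatMap f = b') : (a ++ b).flatMap f = a' ++ b' := by
  rw [List.flatMap_append, ha, hb]

theorem flat_congr {α β : Type} (f : α → List β) (l l' : List α) (r : List β) (h1 : l = l')
    (h2 : l'.flatMap f = r) : l.flatMap f = r := h1 ▸ h2

theorem roots_flat : (roots00 ++ roots01 ++ roots02 ++ roots03 ++ roots04 ++ roots05 ++ roots06 ++ roots07 ++ roots08 ++ roots09 ++ roots10 ++ roots11 ++ roots12 ++ roots13 ++ roots14 ++ roots15 ++ roots16 ++ roots17 ++ roots18 ++ roots19 ++ roots20 ++ roots21 ++ roots22 ++ roots23 ++ roots24 ++ roots25 ++ roots26 ++ roots27 ++ roots28 ++ roots29 ++ roots30 ++ roots31 ++ roots32 ++ roots33 ++ roots34 ++ roots35 ++ roots36 ++ roots37).flatMap (fun p => search tailSteps p.1 p.2) =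
    outs00 ++ outs01 ++ outs02 ++ outs03 ++ outs04 ++ outs05 ++ outs06 ++ outs07 ++ outs08 ++ outs09 ++ outs10 ++ outs11 ++ outs12 ++ outs13 ++ outs14 ++ outs15 ++ outs16 ++ outs17 ++ outs18 ++ outs19 ++ outs20 ++ outs21 ++ outs22 ++ outs23 ++ outs24 ++ outs25 ++ outs26 ++ outs27 ++ outs28 ++ outs29 ++ outs30 ++ outs31 ++ outs32 ++ outs33 ++ outs34 ++ outs35 ++ outs36 ++ outs37 :=
  flatMap_append2 _ _ _ _ _ (flatMap_append2 _ _ _ _ _ (flatMap_append2 _ _ _ _ _ (flatMap_append2 _ _ _ _ _ (flatMap_append2 _ _ _ _ _ (flatMap_append2 _ _ _ _ _ (flatMap_append2 _ _ _ _ _ (flatMap_append2 _ _ _ _ _ (flatMap_append2 _ _ _ _ _ (flatMap_append2 _ _ _ _ _ (flatMap_append2 _ _ _ _ _ (flatMap_append2 _ _ _ _ _ (flatMap_append2 _ _ _ _ _ (flatMap_append2 _ _ _ _ _ (flatMap_append2 _ _ _ _ _ (flatMap_append2 _ _ _ _ _ (flatMap_append2 _ _ _ _ _ (flatMap_append2 _ _ _ _ _ (flatMap_append2 _ _ _ _ _ (flatMap_append2 _ _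 _ _ _ (flatMap_append2 _ _ _ _ _ (flatMap_append2 _ _ _ _ _ (flatMap_append2 _ _ _ _ _ (flatMap_append2 _ _ _ _ _ (flatMap_append2 _ _ _ _ _ (flatMap_append2 _ _ _ _ _ (flatMap_append2 _ _ _ _ _ (flatMap_append2 _ _ _ _ _ (flatMap_append2 _ _ _ _ _ (flatMap_append2 _ _ _ _ _ (flatMap_append2 _ _ _ _ _ (flatMap_append2 _ _ _ _ _ (flatMap_append2 _ _ _ _ _ (flatMap_append2 _ _ _ _ _ (flatMap_append2 _ _ _ _ _ (flatMap_append2 _ _ _ _ _ (flatMap_append2 _ _ _ _ _ (chunk00) chunk01) chunk02) chunk03) chunk04) chunk05) chunk06) chunk07) chunk08) chunk09) chunk10) chunk11) chunk12) chunk13) chunk14) chunk15) chunk16) chunk17) chunk18) chunk19) chunk20) chunk21) chunk22) chunk23) chunk24) chunk25) chunk26) chunk27) chunk28) chunk29) chunk30) chunk31) chunk32) chunk33) chunk34) chunk35) chunk36) chunk37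

theorem search_eq : search steps 0 16 = minW :=
  search_split.trans (flat_congr _ _ _ _ pre_eq roots_flat)

end Cfsg.Agent.Lib.Helper9.RuDfs
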