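import Cfsg.Agent.Lib.Helper9.RuDfsG
import Cfsg.Agent.Lib.Helper9.RuDfsI

set_option autoImplicit false

/-!
# The Rudvalis lattice: the final states of the search
-/

namespace Cfsg.Agent.Lib.Helper9.RuDfs

open Cfsg.Spor Cfsg.Agent.Lib.Helper14.RuLat Finset

/-- all coordinates of the state are units or zero -/
def unitsW (W : ℕ) : Prop :=
  ∀ q < 28, (dig W (2 * q + 4) % 4, dig W (2 * q + 5) % 4) ∈
    [(0, 0), (1, 0), (3, 0), (0, 1), (0, 3)]

/-- the final states are the zero state and states of cost 16 with unit coordinates -/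
def goodW (W : ℕ) : Prop := W = 0 ∨ (cost W = 16 ∧ unitsW W)

/-- the pair of residues at a coordinate, packed -/
def pairAt (W q : ℕ) : ℕ :=
  forceNat (W / 256 ^ (2 * q + 4) % 65536) fun f => f % 256 % 4 + 4 * (f / 256 % 4)

theorem pairAt_eq (W q : ℕ) :
    pairAt W q = dig W (2 * q + 4) % 4 + 4 * (dig W (2 * q + 5) % 4) := by
  unfold pairAt
  rw [forceNat_eq]
  have h1 : W / 256 ^ (2 * q + 4) % 65536 % 256 = dig W (2 * q + 4) := by
    unfold dig
    rw [Nat.mod_mod_of_dvd _ (by norm_num : 256 ∣ 65536)]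
  have h2 : W / 256 ^ (2 * q + 4) % 65536 / 256 = dig W (2 * q + 5) := by
    unfold dig
    have e : W / 256 ^ (2 * q + 5) = W / 256 ^ (2 * q + 4) / 256 := by
      rw [Nat.div_div_eq_div_mul, ← pow_succ]
    rw [e]
    generalize W / 256 ^ (2 * q + 4) = X
    omega
  rw [h1, h2]

/-- count the unit coordinates from `q` on; `none` if some coordinate is neither a unit nor zero -/
def cntUnits (W : ℕ) : ℕ → ℕ → ℕ → Option ℕ
  | _, 0, acc => some acc
  | q, n + 1, acc =>
    forceNat (pairAt W q) fun t =>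
      if t = 0 then cntUnits W (q + 1) n acc
      else if t = 1 ∨ t = 3 ∨ t = 4 ∨ t = 12 then cntUnits W (q + 1) n (acc + 1)
      else none

/-- the check of a final state -/
def goodWb (W : ℕ) : Bool := W == 0 || cntUnits W 0 28 0 == some 16

theorem cntUnits_spec (W : ℕ) (n : ℕ) : ∀ (q acc r : ℕ), cntUnits W q n acc = some r →
    (∀ i < n, pairAt W (q + i) = 0 ∨ pairAt W (q + i) = 1 ∨ pairAt W (q + i) = 3 ∨
      pairAt W (q + i) = 4 ∨ pairAt W (q + i) = 12) ∧
    r = acc + ∑ i ∈ range n, (if pairAt W (q + i) = 0 then 0 else 1) := by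
  induction n with
  | zero =>
    intro q acc r h
    simp only [cntUnits, Option.some.injEq] at h
    simp [h]
  | succ n ih =>
    intro q acc r h
    rw [cntUnits, forceNat_eq] at h
    have key : ∀ acc', cntUnits W (q + 1) n acc' = some r →
        (pairAt W q = 0 ∨ pairAt W q = 1 ∨ pairAt W q = 3 ∨ pairAt W q = 4 ∨ pairAt W q = 12) →
        (∀ i < n + 1, pairAt W (q + i) = 0 ∨ pairAt W (q + i) = 1 ∨ pairAt W (q + i) = 3 ∨
          pairAt W (q + i) = 4 ∨ pairAt W (q + i) = 12) ∧
        r = acc' + ∑ i ∈ range n, (if pairAt W (q + (i + 1)) = 0 then 0 else 1) := by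
      intro acc' h' h0
      obtain ⟨h1, h2⟩ := ih (q + 1) acc' r h'
      have hs : ∑ i ∈ range n, (if pairAt W (q + 1 + i) = 0 then 0 else 1) =
          ∑ i ∈ range n, (if pairAt W (q + (i + 1)) = 0 then 0 else 1) :=
        Finset.sum_congr rfl fun i _ => by rw [show q + 1 + i = q + (i + 1) by ring]
      rw [hs] at h2
      refine ⟨?_, h2⟩
      intro i hi
      cases i with
      | zero => simpa using h0
      | succ i =>
        have := h1 i (by omega)
        rwa [show q + 1 + i = q + (i + 1) by ring] at this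
    rw [Finset.sum_range_succ']
    simp only [add_zero]
    by_cases h0 : pairAt W q = 0
    · rw [if_pos h0] at h
      obtain ⟨h1, h2⟩ := key acc h (Or.inl h0)
      refine ⟨h1, ?_⟩
      rw [h2, if_pos h0]; ring
    · rw [if_neg h0] at h
      by_cases h1 : pairAt W q = 1 ∨ pairAt W q = 3 ∨ pairAt W q = 4 ∨ pairAt W q = 12
      · rw [if_pos h1] at h
        obtain ⟨h2, h3⟩ := key (acc + 1) h (Or.inr h1)
        refine ⟨h2, ?_⟩
        rw [h3, if_neg h0]; ring
      · rw [if_neg h1] at h
        exact absurd h (by simp)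

theorem cfun_pair (a b : ℕ) (h : a % 4 + 4 * (b % 4) = 0 ∨ a % 4 + 4 * (b % 4) = 1 ∨
    a % 4 + 4 * (b % 4) = 3 ∨ a % 4 + 4 * (b % 4) = 4 ∨ a % 4 + 4 * (b % 4) = 12) :
    cfun a + cfun b = (if a % 4 + 4 * (b % 4) = 0 then 0 else 1) ∧
    (a % 4, b % 4) ∈ [(0, 0), (1, 0), (3, 0), (0, 1), (0, 3)] := by
  have ha : a % 4 < 4 := Nat.mod_lt _ (by norm_num)
  have hb : b % 4 < 4 := Nat.mod_lt _ (by norm_num)
  unfold cfun
  generalize a % 4 = x at *
  generalize b % 4 = y at *
  interval_cases x <;> interval_cases y <;> simp_all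

theorem goodW_of_goodWb {W : ℕ} (h : goodWb W = true) : goodW W := by
  unfold goodWb at h
  rw [Bool.or_eq_true] at h
  rcases h with h | h
  · left; simpa using h
  · right
    have h' : cntUnits W 0 28 0 = some 16 := by simpa using h
    obtain ⟨h1, h2⟩ := cntUnits_spec W 28 0 0 16 h'
    simp only [zero_add] at h1 h2
    have hq : ∀ q < 28, cfun (dig W (2 * q + 4)) + cfun (dig W (2 * q + 5)) =
        (if pairAt W q = 0 then 0 else 1) ∧
        (dig W (2 * q + 4) % 4, dig W (2 * q + 5) % 4) ∈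
          [(0, 0), (1, 0), (3, 0), (0, 1), (0, 3)] := by
      intro q hq
      have := h1 q hq
      rw [pairAt_eq] at this ⊢
      exact cfun_pair _ _ this
    refine ⟨?_, fun q hq' => (hq q hq').2⟩
    unfold cost
    rw [total_allPairs, h2]
    exact Finset.sum_congr rfl fun q hq' => (hq q (Finset.mem_range.1 hq')).1

set_option maxRecDepth 1000000 in
theorem minW_goodb : minW.all goodWb = true := by decide +kernel

theorem minW_good : ∀ W ∈ minW, goodW W := fun W hW =>
  goodW_of_goodWb (List.all_eq_true.1 minW_goodb W hW)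

end Cfsg.Agent.Lib.Helper9.RuDfs
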