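import Cfsg.Agent.Lib.Helper9.RuAutA

set_option autoImplicit false

/-!
# Automorphisms of the Rudvalis lattice from the images of the standard frame

The images of the 28 vectors `4 e_p` of the standard frame are given by codes.  If they are pairwise orthogonal, the
matrix is Hermitian, and a generating set of the lattice is mapped into the lattice, we get an involutory
automorphism of the lattice.
-/

namespace Cfsg.Agent.Lib.Helper9.RuGen

open Cfsg.Spor Cfsg.Agent.Lib.Helper14.RuLat Cfsg.Agent.Lib.Helper9.RuDfs Cfsg.Agent.Lib.Helper9.RuMin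
  Cfsg.Agent.Lib.Helper9.RuAut

/-- the matrix with the columns `decodeC (γ q)`, applied to a vector -/
def mulV (γ : ℕ → ℕ) (v : RuVec) : RuVec := fun r => ∑ p : RuIdx, v p * decodeC (γ (pos p)) r

theorem mulV_eq_sum (γ : ℕ → ℕ) (v : RuVec) : mulV γ v = ∑ p : RuIdx, v p • decodeC (γ (pos p)) := by
  funext r
  simp [mulV, Finset.sum_apply]

theorem mulV_add (γ : ℕ → ℕ) (v w : RuVec) : mulV γ (v + w) = mulV γ v + mulV γ w := by
  funext r
  simp [mulV, add_mul, Finset.sum_add_distrib]

theorem mulV_smul (γ : ℕ → ℕ) (c : GaussianInt) (v : RuVec) : mulV γ (c • v) = c • mulV γ v := by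
  funext r
  simp [mulV, Finset.mul_sum, mul_assoc]

theorem mulV_zero (γ : ℕ → ℕ) : mulV γ 0 = 0 := by
  funext r
  simp [mulV]

theorem mulV_sum {ι : Type*} (γ : ℕ → ℕ) (s : Finset ι) (f : ι → RuVec) :
    mulV γ (∑ i ∈ s, f i) = ∑ i ∈ s, mulV γ (f i) := by
  classical
  induction s using Finset.induction_on with
  | empty => simp [mulV_zero]
  | insert a s ha ih => rw [Finset.sum_insert ha, Finset.sum_insert ha, mulV_add, ih]

theorem herm_sum_left {ι : Type*} (s : Finset ι) (f : ι → RuVec) (w : RuVec) :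
    herm (∑ i ∈ s, f i) w = ∑ i ∈ s, herm (f i) w := by
  have := map_sum (hermL w) f s
  simp only [hermL_apply] at this
  exact this

theorem herm_smul_right' (c : GaussianInt) (v w : RuVec) : herm v (c • w) = star c * herm v w := by
  rw [herm_star, herm_smul_left, star_mul', ← herm_star]

theorem herm_sum_right {ι : Type*} (s : Finset ι) (f : ι → RuVec) (v : RuVec) :
    herm v (∑ i ∈ s, f i) = ∑ i ∈ s, herm v (f i) := by
  rw [herm_star, herm_sum_left, star_sum]
  exact Finset.sum_congr rfl fun i _ => (herm_star _ _).symm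

/-- the columns are pairwise orthogonal of norm 16 -/
def Orth (γ : ℕ → ℕ) : Prop :=
  ∀ p q : RuIdx, herm (decodeC (γ (pos p))) (decodeC (γ (pos q))) = if p = q then 16 else 0

/-- the matrix is Hermitian -/
def Symm (γ : ℕ → ℕ) : Prop :=
  ∀ p r : RuIdx, decodeC (γ (pos p)) r = star (decodeC (γ (pos r)) p)

theorem herm_mulV {γ : ℕ → ℕ} (h : Orth γ) (v w : RuVec) :
    herm (mulV γ v) (mulV γ w) = 16 * herm v w := by
  rw [mulV_eq_sum, mulV_eq_sum, herm_sum_left]
  have : ∀ p : RuIdx, herm (v p • decodeC (γ (pos p))) (∑ q : RuIdx, w q • decodeC (γ (pos q))) =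
      16 * (v p * star (w p)) := by
    intro p
    rw [herm_sum_right, Finset.sum_eq_single p]
    · rw [herm_smul_left, herm_smul_right', h p p, if_pos rfl]; ring
    · intro q _ hq
      rw [herm_smul_left, herm_smul_right', h p q, if_neg (Ne.symm hq)]; ring
    · intro hp; exact absurd (Finset.mem_univ p) hp
  rw [Finset.sum_congr rfl fun p _ => this p, ← Finset.mul_sum]
  rfl

theorem mulV_apply_symm {γ : ℕ → ℕ} (h : Symm γ) (v : RuVec) (r : RuIdx) :
    mulV γ v r = herm v (decodeC (γ (pos r))) := by
  unfold mulV herm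
  exact Finset.sum_congr rfl fun p _ => by rw [h p r]

/-- coordinatewise division by 4 -/
def div4 (x : RuVec) : RuVec := fun r => ⟨(x r).re / 4, (x r).im / 4⟩

theorem div4_smul (w : RuVec) : div4 ((4 : GaussianInt) • w) = w := by
  funext r
  unfold div4
  ext <;> simp

theorem four_smul_inj {v w : RuVec} (h : (4 : GaussianInt) • v = (4 : GaussianInt) • w) : v = w := by
  rw [← div4_smul v, ← div4_smul w, h]

end Cfsg.Agent.Lib.Helper9.RuGen
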