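import Cfsg.Agent.Lib.Helper9.RuGenA

set_option autoImplicit false

/-!
# Automorphisms of the Rudvalis lattice from the images of the standard frame: the construction
-/

namespace Cfsg.Agent.Lib.Helper9.RuGen

open Cfsg.Spor Cfsg.Agent.Lib.Helper14.RuLat Cfsg.Agent.Lib.Helper9.RuDfs Cfsg.Agent.Lib.Helper9.RuMin
  Cfsg.Agent.Lib.Helper9.RuAut

/-- the lattice is mapped into four times the lattice -/
def Latt (γ : ℕ → ℕ) : Prop := ∀ v ∈ Lc, ∃ w ∈ Lc, mulV γ v = (4 : GaussianInt) • w

theorem latt_of_gens (γ : ℕ → ℕ) (gens imgs : Fin 28 → RuVec) (T : Fin 28 → Fin 28 → GaussianInt)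
    (hB : ∀ j : Fin 28, ∀ p : RuIdx, Bv j p = ∑ k, T j k * gens k p)
    (himg : ∀ k, mulV γ (gens k) = (4 : GaussianInt) • imgs k) (hmem : ∀ k, imgs k ∈ Lc) : Latt γ := by
  intro v hv
  induction hv using Submodule.span_induction with
  | mem x hx =>
    obtain ⟨j, rfl⟩ := hx
    have hBj : Bv j = ∑ k, T j k • gens k := by
      funext p
      rw [hB j p]
      simp [Finset.sum_apply]
    refine ⟨∑ k, T j k • imgs k, Submodule.sum_mem _ fun k _ => Submodule.smul_mem _ _ (hmem k), ?_⟩
    rw [hBj, mulV_sum, Finset.smul_sum]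
    refine Finset.sum_congr rfl fun k _ => ?_
    rw [mulV_smul, himg k, smul_comm]
  | zero => exact ⟨0, Submodule.zero_mem _, by rw [mulV_zero, smul_zero]⟩
  | add x y _ _ hx hy =>
    obtain ⟨a, ha, ea⟩ := hx
    obtain ⟨b, hb, eb⟩ := hy
    exact ⟨a + b, Submodule.add_mem _ ha hb, by rw [mulV_add, ea, eb, smul_add]⟩
  | smul c x _ hx =>
    obtain ⟨a, ha, ea⟩ := hx
    exact ⟨c • a, Submodule.smul_mem _ c ha, by rw [mulV_smul, ea, smul_comm]⟩

/-- the hypotheses on the columns -/
structure AutData (γ : ℕ → ℕ) : Prop where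
  orth : Orth γ
  symm : Symm γ
  latt : Latt γ

theorem div4_mem {γ : ℕ → ℕ} (h : AutData γ) (v : ruLattice) :
    div4 (mulV γ (v : RuVec)) ∈ ruLattice := by
  obtain ⟨w, hw, e⟩ := h.latt v (ruLattice_le _ v.2)
  rw [e, div4_smul]
  exact Lc_le w hw

/-- the map of the lattice -/
def autFun {γ : ℕ → ℕ} (h : AutData γ) (v : ruLattice) : ruLattice :=
  ⟨div4 (mulV γ (v : RuVec)), div4_mem h v⟩

theorem four_smul_autFun {γ : ℕ → ℕ} (h : AutData γ) (v : ruLattice) :
    (4 : GaussianInt) • ((autFun h v : ruLattice) : RuVec) = mulV γ (v : RuVec) := by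
  obtain ⟨w, hw, e⟩ := h.latt v (ruLattice_le _ v.2)
  change (4 : GaussianInt) • div4 (mulV γ (v : RuVec)) = _
  rw [e, div4_smul]

theorem mulV_frameVec (γ : ℕ → ℕ) (r : RuIdx) :
    mulV γ (frameVec r 0) = (4 : GaussianInt) • decodeC (γ (pos r)) := by
  funext r'
  unfold mulV
  rw [Finset.sum_eq_single r]
  · simp only [frameVec, if_true, Pi.smul_apply, smul_eq_mul]
    congr 1
  · intro p _ hp
    simp [frameVec, hp]
  · intro hr; exact absurd (Finset.mem_univ r) hr

theorem sixteen_ne : (16 : GaussianInt) ≠ 0 := by decide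

theorem herm_autFun_col {γ : ℕ → ℕ} (h : AutData γ) (v : ruLattice) (r : RuIdx) :
    herm ((autFun h v : ruLattice) : RuVec) (decodeC (γ (pos r))) = (v : RuVec) r * 4 := by
  have e1 := herm_mulV h.orth (v : RuVec) (frameVec r 0)
  rw [← four_smul_autFun h v, mulV_frameVec, herm_smul_left, herm_smul_right', herm_frameVec] at e1
  have e2 : (4 : GaussianInt) * (star (4 : GaussianInt) *
      herm ((autFun h v : ruLattice) : RuVec) (decodeC (γ (pos r)))) =
      16 * herm ((autFun h v : ruLattice) : RuVec) (decodeC (γ (pos r))) := by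
    have : star (4 : GaussianInt) = 4 := by decide
    rw [this]; ring
  rw [e2] at e1
  exact mul_left_cancel₀ sixteen_ne e1

theorem autFun_autFun {γ : ℕ → ℕ} (h : AutData γ) (v : ruLattice) : autFun h (autFun h v) = v := by
  apply Subtype.ext
  apply four_smul_inj
  rw [four_smul_autFun]
  funext r
  rw [mulV_apply_symm h.symm, herm_autFun_col]
  simp [mul_comm]

/-- the permutation of the lattice -/
def autEquiv {γ : ℕ → ℕ} (h : AutData γ) : Equiv.Perm ruLattice where
  toFun := autFun h
  invFun := autFun h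
  left_inv := autFun_autFun h
  right_inv := autFun_autFun h

theorem ruNorm_eq_herm (v : RuVec) : ruNorm v = (herm v v).re := by
  have h : (herm v v).re = ∑ p, (v p * star (v p)).re := by
    change reHom (herm v v) = _
    rw [herm, map_sum]; rfl
  rw [h]
  unfold ruNorm
  refine Finset.sum_congr rfl fun p _ => ?_
  rw [← Zsqrtd.norm_eq_mul_conj]
  simp

theorem autEquiv_mem {γ : ℕ → ℕ} (h : AutData γ) : autEquiv h ∈ fourRu := by
  refine ⟨fun v w => ?_, fun v => ?_, fun v => ?_⟩
  · apply Subtype.ext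
    apply four_smul_inj
    change (4 : GaussianInt) • ((autFun h (v + w) : ruLattice) : RuVec) =
      (4 : GaussianInt) • (((autFun h v : ruLattice) : RuVec) + ((autFun h w : ruLattice) : RuVec))
    rw [four_smul_autFun, smul_add, four_smul_autFun, four_smul_autFun]
    exact mulV_add γ _ _
  · apply Subtype.ext
    apply four_smul_inj
    change (4 : GaussianInt) • ((autFun h (ruI v) : ruLattice) : RuVec) =
      (4 : GaussianInt) • (gI • ((autFun h v : ruLattice) : RuVec))
    rw [four_smul_autFun, smul_comm, four_smul_autFun]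
    exact mulV_smul γ gI _
  · change ruNorm ((autFun h v : ruLattice) : RuVec) = ruNorm (v : RuVec)
    have e1 : ruNorm ((4 : GaussianInt) • ((autFun h v : ruLattice) : RuVec)) =
        16 * ruNorm ((autFun h v : ruLattice) : RuVec) := by
      rw [ruNorm_smul, norm_four]
    rw [four_smul_autFun, ruNorm_eq_herm, herm_mulV h.orth] at e1
    have e2 : ((16 : GaussianInt) * herm (v : RuVec) (v : RuVec)).re = 16 * ruNorm (v : RuVec) := by
      rw [ruNorm_eq_herm]
      rw [Zsqrtd.re_mul]
      have h1 : (16 : GaussianInt).re = 16 := rfl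
      have h2 : (16 : GaussianInt).im = 0 := rfl
      rw [h1, h2]; ring
    omega

/-- the automorphism -/
def aut {γ : ℕ → ℕ} (h : AutData γ) : fourRu := ⟨autEquiv h, autEquiv_mem h⟩

theorem aut_apply {γ : ℕ → ℕ} (h : AutData γ) (c c' : ℕ) (hc : decodeC c ∈ ruLattice)
    (happ : mulV γ (decodeC c) = (4 : GaussianInt) • decodeC c') :
    ∃ hc' : decodeC c' ∈ ruLattice,
      (aut h : Equiv.Perm ruLattice) ⟨decodeC c, hc⟩ = ⟨decodeC c', hc'⟩ := by
  have e : ((autFun h ⟨decodeC c, hc⟩ : ruLattice) : RuVec) = decodeC c' := by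
    apply four_smul_inj
    rw [four_smul_autFun]
    exact happ
  exact ⟨e ▸ (autFun h ⟨decodeC c, hc⟩).2, Subtype.ext e⟩

theorem aut_mul_self {γ : ℕ → ℕ} (h : AutData γ) : aut h * aut h = 1 := by
  apply Subtype.ext
  apply Equiv.ext
  intro v
  exact autFun_autFun h v

end Cfsg.Agent.Lib.Helper9.RuGen
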