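import Cfsg.Agent.Lib.Helper9.RuGenB

set_option autoImplicit false

/-!
# Automorphisms of the Rudvalis lattice from the images of the standard frame: the checks
-/

namespace Cfsg.Agent.Lib.Helper9.RuGen

open Cfsg.Spor Cfsg.Agent.Lib.Helper14.RuLat Cfsg.Agent.Lib.Helper9.RuDfs Cfsg.Agent.Lib.Helper9.RuMin
  Cfsg.Agent.Lib.Helper9.RuAut

set_option maxRecDepth 100000 in
theorem termZ_bound : ∀ a b : Fin 16,
    (-16 ≤ (termZ a.val b.val).1 ∧ (termZ a.val b.val).1 ≤ 16) ∧
    (-16 ≤ (termZ a.val b.val).2 ∧ (termZ a.val b.val).2 ≤ 16) := by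
  decide +kernel

theorem hermS_bound (c : ℕ) (l : List (ℕ × ℕ)) (hl : ∀ x ∈ l, x.2 < 16) :
    (-(16 * (l.length : ℤ)) ≤ (hermS c l).1 ∧ (hermS c l).1 ≤ 16 * (l.length : ℤ)) ∧
    (-(16 * (l.length : ℤ)) ≤ (hermS c l).2 ∧ (hermS c l).2 ≤ 16 * (l.length : ℤ)) := by
  induction l with
  | nil => simp [hermS]
  | cons x rs ih =>
    obtain ⟨q, h⟩ := x
    have hh : h < 16 := hl (q, h) (List.mem_cons_self ..)
    have ih' := ih fun y hy => hl y (List.mem_cons_of_mem _ hy)
    have hb := termZ_bound ⟨hexd c q, hexd_lt c q⟩ ⟨h, hh⟩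
    rw [hermS_cons', List.length_cons]
    push_cast
    dsimp only at hb ⊢
    omega

/-- `4 * re (val h) + 16` -/
def reN (h : ℕ) : ℕ :=
  match h with
  | 1 => 20
  | 3 => 12
  | 5 => 32
  | 7 => 0
  | _ => 16

/-- `4 * im (val h) + 16` -/
def imN (h : ℕ) : ℕ :=
  match h with
  | 2 => 20
  | 4 => 12
  | 6 => 32
  | 8 => 0
  | _ => 16

/-- the accumulated product belonging to the value `4 * val h` after `T` terms -/
def encE (h T : ℕ) : ℕ := (reN h + 16 * (T - 1)) + 65536 * (imN h + 16 * (T - 1))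

set_option maxRecDepth 100000 in
theorem reN_spec : ∀ h : Fin 16, (((reN h.val : ℕ) : ℤ) = 4 * (val h.val).re + 16 ∧ reN h.val ≤ 32) ∧
    (((imN h.val : ℕ) : ℤ) = 4 * (val h.val).im + 16 ∧ imN h.val ≤ 32) := by
  decide +kernel

theorem sparse_length_le (r : ℕ) : (sparse r).length ≤ 28 := by
  unfold sparse
  calc _ ≤ (List.range 28).length := List.length_filterMap_le _ _
    _ = 28 := List.length_range

theorem sparseN_length (r : ℕ) : (sparseN r).length = (sparse r).length := by
  rw [sparseN_eq, List.length_map]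

/-- the accumulated product determines the Hermitian product -/
theorem herm_of_check (c r h : ℕ) (hh : h < 16) (hT : 1 ≤ (sparseN r).length)
    (hchk : hermN c (sparseN r) 0 = encE h (sparseN r).length) :
    herm (decodeC c) (decodeC r) = 4 * val h := by
  have h1 := hermN_map c (sparse r) (sparse_lt r) 0
  rw [← sparseN_eq, hchk] at h1
  rw [sparseN_length] at h1 hT
  have hb := hermS_bound c (sparse r) (sparse_lt r)
  have hle := sparse_length_le r
  obtain ⟨⟨hr1, hr2⟩, hi1, hi2⟩ := reN_spec ⟨h, hh⟩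
  simp only at hr1 hr2 hi1 hi2
  unfold encE at h1
  set T := (sparse r).length with hTdef
  have hT1 : ((T - 1 : ℕ) : ℤ) = (T : ℤ) - 1 := by omega
  push_cast at h1
  rw [hT1, hr1, hi1] at h1
  have hT' : (1 : ℤ) ≤ T := by exact_mod_cast hT
  have hT'' : (T : ℤ) ≤ 28 := by exact_mod_cast hle
  have hre : (val h).re * 4 ≤ 16 ∧ -16 ≤ (val h).re * 4 := by omega
  have him : (val h).im * 4 ≤ 16 ∧ -16 ≤ (val h).im * 4 := by omega
  have e1 : (hermS c (sparse r)).1 = 4 * (val h).re := by omega
  have e2 : (hermS c (sparse r)).2 = 4 * (val h).im := by omega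
  rw [herm_decodeC]
  unfold toG
  rw [e1, e2]
  ext <;> simp

/-- the conjugate digit -/
def conjD (h : ℕ) : ℕ :=
  match h with
  | 2 => 4
  | 4 => 2
  | 6 => 8
  | 8 => 6
  | h => h

set_option maxRecDepth 100000 in
theorem val_conjD : ∀ h : Fin 16, val (conjD h.val) = star (val h.val) := by decide +kernel

/-- the data of a generator: the codes of the columns, their nonzero digits, generating vectors with their
images, and the coefficients of the images with respect to the triangular basis -/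
structure GenData where
  cols : List ℕ
  sps : List (List (ℕ × ℕ))
  gimg : List (ℕ × ℕ)
  mem : List (ℕ × (Fin 28 → GaussianInt))

/-- the code of a column -/
def GenData.col (d : GenData) (q : ℕ) : ℕ := d.cols.getD q 0

/-- the nonzero digits of a column -/
def GenData.sp (d : GenData) (q : ℕ) : List (ℕ × ℕ) := d.sps.getD q []

/-- the image of the vector of the code `c` is the vector of the code `c'` -/
def applyOK (d : GenData) (c c' : ℕ) : Bool :=
  (List.range 28).all fun r => Nat.beq (hermN c (d.sp r) 0) (encE (hexd c' r) (d.sp r).length)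

/-- the checks on the columns -/
def colsOK (d : GenData) : Bool :=
  (d.sps == (List.range 28).map fun q => sparseN (d.col q)) &&
  ((List.range 28).all fun q => decide (1 ≤ (d.sp q).length)) &&
  ((List.range 28).all fun p => (List.range 28).all fun q =>
    Nat.beq (hermN (d.col p) (d.sp q) 0) (encE (if p = q then 5 else 0) (d.sp q).length)) &&
  ((List.range 28).all fun p => (List.range 28).all fun r =>
    Nat.beq (hexd (d.col p) r) (conjD (hexd (d.col r) p)))

theorem sp_eq {d : GenData} (h : d.sps = (List.range 28).map fun q => sparseN (d.col q)) {q : ℕ}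
    (hq : q < 28) : d.sp q = sparseN (d.col q) := by
  unfold GenData.sp
  rw [h, List.getD_eq_getElem?_getD, List.getElem?_map, List.getElem?_range hq]
  rfl

theorem colsOK_spec {d : GenData} (h : colsOK d = true) :
    (∀ q < 28, d.sp q = sparseN (d.col q) ∧ 1 ≤ (d.sp q).length) ∧ Orth d.col ∧ Symm d.col := by
  unfold colsOK at h
  simp only [Bool.and_eq_true, beq_iff_eq, List.all_eq_true, List.mem_range, decide_eq_true_eq] at h
  obtain ⟨⟨⟨h1, h2⟩, h3⟩, h4⟩ := h
  have hsp : ∀ q < 28, d.sp q = sparseN (d.col q) ∧ 1 ≤ (d.sp q).length :=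
    fun q hq => ⟨sp_eq h1 hq, h2 q hq⟩
  refine ⟨hsp, ?_, ?_⟩
  · intro p q
    have hc := Nat.eq_of_beq_eq_true (h3 (pos p) (pos_lt p) (pos q) (pos_lt q))
    obtain ⟨e, hl⟩ := hsp (pos q) (pos_lt q)
    rw [e] at hc hl
    by_cases hpq : p = q
    · rw [if_pos (by rw [hpq])] at hc
      rw [herm_of_check _ _ 5 (by norm_num) hl hc, if_pos hpq]
      rfl
    · rw [if_neg (fun hh => hpq (pos_inj hh))] at hc
      rw [herm_of_check _ _ 0 (by norm_num) hl hc, if_neg hpq]
      rfl
  · intro p r
    have hc := Nat.eq_of_beq_eq_true (h4 (pos p) (pos_lt p) (pos r) (pos_lt r))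
    unfold decodeC
    rw [hc]
    exact val_conjD ⟨hexd (d.col (pos r)) (pos p), hexd_lt _ _⟩

theorem apply_spec {d : GenData} (hd : colsOK d = true) (c c' : ℕ) (h : applyOK d c c' = true) :
    mulV d.col (decodeC c) = (4 : GaussianInt) • decodeC c' := by
  obtain ⟨hsp, _, hs⟩ := colsOK_spec hd
  unfold applyOK at h
  rw [List.all_eq_true] at h
  funext r
  rw [mulV_apply_symm hs]
  have hc := Nat.eq_of_beq_eq_true (h (pos r) (List.mem_range.2 (pos_lt r)))
  obtain ⟨e, hl⟩ := hsp (pos r) (pos_lt r)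
  rw [e] at hc hl
  rw [herm_of_check _ _ _ (hexd_lt c' (pos r)) hl hc]
  rfl

end Cfsg.Agent.Lib.Helper9.RuGen
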