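import Cfsg.Agent.Lib.Helper9.RuGenC
import Cfsg.Agent.Lib.Helper9.RuAutD

set_option autoImplicit false

/-!
# Automorphisms of the Rudvalis lattice from the images of the standard frame: words and scalars
-/

namespace Cfsg.Agent.Lib.Helper9.RuGen

open Cfsg.Spor Cfsg.Agent.Lib.Helper14.RuLat Cfsg.Agent.Lib.Helper9.RuDfs Cfsg.Agent.Lib.Helper9.RuMin
  Cfsg.Agent.Lib.Helper9.RuAut

/-- follow a vector of norm 16 through a word (the letters in the order of application) -/
def fwd (D : ℕ → GenData) : List ℕ → List ℕ → ℕ → Option ℕ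
  | [], [], c => some c
  | x :: Lr, c1 :: cs, c => if applyOK (D x) c c1 then fwd D Lr cs c1 else none
  | _, _, _ => none

theorem fwd_spec (A : ℕ → fourRu) (D : ℕ → GenData)
    (hAD : ∀ x c c' (hc : decodeC c ∈ ruLattice), applyOK (D x) c c' = true →
      ∃ hc' : decodeC c' ∈ ruLattice, (A x : Equiv.Perm ruLattice) ⟨decodeC c, hc⟩ = ⟨decodeC c', hc'⟩) :
    ∀ (Lr cs : List ℕ) (c cf : ℕ), fwd D Lr cs c = some cf → ∀ hc : decodeC c ∈ ruLattice,
      ∃ hcf : decodeC cf ∈ ruLattice,
        (((Lr.reverse.map A).prod : fourRu) : Equiv.Perm ruLattice) ⟨decodeC c, hc⟩ = ⟨decodeC cf, hcf⟩ := by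
  intro Lr
  induction Lr with
  | nil =>
    intro cs c cf h hc
    cases cs with
    | nil =>
      simp only [fwd, Option.some.injEq] at h
      subst h
      exact ⟨hc, rfl⟩
    | cons _ _ => simp [fwd] at h
  | cons x Lr ih =>
    intro cs c cf h hc
    cases cs with
    | nil => simp [fwd] at h
    | cons c1 cs =>
      rw [fwd] at h
      by_cases ha : applyOK (D x) c c1 = true
      · rw [if_pos ha] at h
        obtain ⟨hc1, e1⟩ := hAD x c c1 hc ha
        obtain ⟨hcf, e2⟩ := ih cs c1 cf h hc1
        refine ⟨hcf, ?_⟩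
        rw [List.reverse_cons, List.map_append, List.prod_append, List.map_singleton,
          List.prod_singleton, Subgroup.coe_mul, Equiv.Perm.mul_apply, e1, e2]
      · rw [if_neg ha] at h
        exact absurd h (by simp)

/-! ### the scalars -/

theorem gI_pow_four : gI * gI * gI * gI = 1 := by decide

theorem ruI_four (v : ruLattice) : ruI (ruI (ruI (ruI v))) = v := by
  apply Subtype.ext
  change gI • gI • gI • gI • (v : RuVec) = v
  rw [smul_smul, smul_smul, smul_smul, gI_pow_four, one_smul]

/-- multiplication by `i` as a permutation of the lattice -/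
def scalEquiv : Equiv.Perm ruLattice where
  toFun := ruI
  invFun := fun v => ruI (ruI (ruI v))
  left_inv := fun v => ruI_four v
  right_inv := fun v => ruI_four v

theorem norm_gI : gI.norm = 1 := by decide

theorem scalEquiv_mem : scalEquiv ∈ fourRu := by
  refine ⟨fun v w => ?_, fun v => rfl, fun v => ?_⟩
  · apply Subtype.ext
    change gI • ((v : RuVec) + (w : RuVec)) = gI • (v : RuVec) + gI • (w : RuVec)
    exact smul_add _ _ _
  · change ruNorm (gI • (v : RuVec)) = ruNorm (v : RuVec)
    rw [ruNorm_smul, norm_gI, one_mul]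

/-- multiplication by `i` -/
def scal : fourRu := ⟨scalEquiv, scalEquiv_mem⟩

theorem scal_comm (g : fourRu) : g * scal = scal * g := by
  apply Subtype.ext
  apply Equiv.ext
  intro v
  exact g.2.2.1 v

theorem scal_mem_center : scal ∈ Subgroup.center fourRu := by
  rw [Subgroup.mem_center_iff]
  intro g
  exact scal_comm g

theorem scal_pow_apply (s : ℕ) (v : ruLattice) :
    ((((scal ^ s : fourRu) : Equiv.Perm ruLattice) v : ruLattice) : RuVec) = gI ^ s • (v : RuVec) := by
  induction s with
  | zero => simp
  | succ s ih =>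
    rw [pow_succ', Subgroup.coe_mul, Equiv.Perm.mul_apply]
    change gI • ((((scal ^ s : fourRu) : Equiv.Perm ruLattice) v : ruLattice) : RuVec) = _
    rw [ih, smul_smul, pow_succ']

/-- rotate a digit by `i` -/
def rot1 (h : ℕ) : ℕ :=
  match h with
  | 1 => 2
  | 2 => 3
  | 3 => 4
  | 4 => 1
  | 5 => 6
  | 6 => 7
  | 7 => 8
  | 8 => 5
  | h => h

/-- rotate a digit by `i ^ s` -/
def rotD (s h : ℕ) : ℕ := rot1^[s] h

set_option maxRecDepth 100000 in
theorem val_rotD : ∀ s : Fin 4, ∀ h : Fin 16, val (rotD s.val h.val) = gI ^ s.val * val h.val := by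
  decide +kernel

/-- the check of a relator: the word multiplies the five base vectors by `i ^ s` -/
def relOK (D : ℕ → GenData) (L : List ℕ) (s : ℕ) (traces : List (List ℕ)) : Bool :=
  decide (s < 4) && (List.range 5).all fun j =>
    match fwd D L.reverse (traces.getD j []) (known0.getD j 0) with
    | some cf => (List.range 28).all fun q => Nat.beq (hexd cf q) (rotD s (hexd (known0.getD j 0) q))
    | none => false

theorem known0_mem {r : ℕ} (hr : r ∈ known0) : decodeC r ∈ ruLattice := by
  rw [base_data.2.1] at hr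
  have hr' : r ∈ [beta5, beta4, beta3, beta2, beta1] := by
    simp only [List.mem_cons, List.not_mem_nil, or_false] at hr ⊢
    tauto
  exact hb5 r hr'

theorem known0_length : known0.length = 5 := by decide

/-- a word which multiplies the five base vectors by `i ^ s` is that scalar -/
theorem rel_scal (A : ℕ → fourRu) (D : ℕ → GenData)
    (hAD : ∀ x c c' (hc : decodeC c ∈ ruLattice), applyOK (D x) c c' = true →
      ∃ hc' : decodeC c' ∈ ruLattice, (A x : Equiv.Perm ruLattice) ⟨decodeC c, hc⟩ = ⟨decodeC c', hc'⟩)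
    (L : List ℕ) (s : ℕ) (traces : List (List ℕ)) (h : relOK D L s traces = true) :
    (L.map A).prod = scal ^ s := by
  unfold relOK at h
  rw [Bool.and_eq_true, decide_eq_true_eq, List.all_eq_true] at h
  obtain ⟨hs, h⟩ := h
  have key : (scal ^ s)⁻¹ * (L.map A).prod = 1 := by
    apply rigid
    intro r hr
    obtain ⟨j, hj, rfl⟩ := List.mem_iff_getElem.1 hr
    have hj5 : j < 5 := by rw [known0_length] at hj; exact hj
    have hget : known0.getD j 0 = known0[j] := by
      rw [List.getD_eq_getElem?_getD, List.getElem?_eq_getElem hj]; rfl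
    have hj' := h j (List.mem_range.2 hj5)
    rw [hget] at hj'
    have hmem := known0_mem hr
    refine ⟨hmem, ?_⟩
    cases hf : fwd D L.reverse (traces.getD j []) known0[j] with
    | none => rw [hf] at hj'; exact absurd hj' (by simp)
    | some cf =>
      rw [hf] at hj'
      simp only [List.all_eq_true, List.mem_range] at hj'
      obtain ⟨hcf, e⟩ := fwd_spec A D hAD L.reverse _ _ cf hf hmem
      rw [List.reverse_reverse] at e
      have hdec : decodeC cf = gI ^ s • decodeC known0[j] := by
        funext p
        unfold decodeC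
        rw [Nat.eq_of_beq_eq_true (hj' (pos p) (pos_lt p))]
        exact val_rotD ⟨s, hs⟩ ⟨hexd known0[j] (pos p), hexd_lt _ _⟩
      have e4 : ((scal ^ s : fourRu) : Equiv.Perm ruLattice) ⟨decodeC known0[j], hmem⟩ =
          (((L.map A).prod : fourRu) : Equiv.Perm ruLattice) ⟨decodeC known0[j], hmem⟩ := by
        rw [e]
        apply Subtype.ext
        rw [scal_pow_apply]
        exact hdec.symm
      have e5 : (((scal ^ s)⁻¹ * (L.map A).prod : fourRu) : Equiv.Perm ruLattice) ⟨decodeC known0[j], hmem⟩ =
          ((scal ^ s : fourRu) : Equiv.Perm ruLattice)⁻¹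
            ((((L.map A).prod : fourRu) : Equiv.Perm ruLattice) ⟨decodeC known0[j], hmem⟩) := rfl
      refine e5.trans ?_
      rw [← e4]
      simp
      rfl
  have := mul_eq_one_iff_eq_inv.1 key
  exact (inv_injective this).symm

end Cfsg.Agent.Lib.Helper9.RuGen
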