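import Cfsg.Agent.Lib.Helper9.RuGenD

set_option autoImplicit false

/-!
# Automorphisms of the Rudvalis lattice: the codes of the generating vectors (generated)
-/

namespace Cfsg.Agent.Lib.Helper9.RuGen

open Cfsg.Spor Cfsg.Agent.Lib.Helper9.RuDfs Cfsg.Agent.Lib.Helper9.RuMin

/-- the codes of the vectors `Gv` -/
def gensC : List ℕ := [1379203873615404911797253378737156, 328341316202668049410485037319202, 1036007631387749794450093075595264, 1039632879399520133199024884039682, 322359379526401050808851, 44383906617349192278000233611298, 63402999695690116033927812743234, 973809462871313408465860405755972, 405649159455470791544914173755412, 324618269562659232553263955190528, 1298243542847577189818342041452578, 692237250852155409042702558298112, 41848641760516959855375953166387, 1381824652061477335285561148047360, 346401044596782782467337365749760, 386808065144185091419217181278208, 1038384435310778691679235614965760, 735405785651221689341400150442784, 231732687603804940547121, 41837792722156373011146159100416, 81303878640420079126855964230688, 694925731345325580262721600880640, 973640171161669300764533613133843, 39614081257132168796771975168, 141976867225561692967630759002112, 1622592768292133633915780102881280, 6338253001141147007483516026880, 171207997922955055087938]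

set_option maxRecDepth 100000 in
theorem gensC_spec : ∀ k : Fin 28, ∀ p : RuIdx, decodeC (gensC.getD k.val 0) p = Gv k p := by
  decide +kernel

end Cfsg.Agent.Lib.Helper9.RuGen
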