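import Cfsg.Agent.Lib.Helper9.RuGenE

set_option autoImplicit false

/-!
# Automorphisms of the Rudvalis lattice: from the checked data of a generator to the automorphism
-/

namespace Cfsg.Agent.Lib.Helper9.RuGen

open Cfsg.Spor Cfsg.Agent.Lib.Helper14.RuLat Cfsg.Agent.Lib.Helper9.RuDfs Cfsg.Agent.Lib.Helper9.RuMin
  Cfsg.Agent.Lib.Helper9.RuAut

/-- the image of the `k`-th generating vector, as recorded in the data -/
def GenData.gi (d : GenData) (k : ℕ) : ℕ × ℕ := d.gimg.getD k (0, 0)

/-- the membership certificate of the `k`-th image, as recorded in the data -/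
def GenData.mm (d : GenData) (k : ℕ) : ℕ × (Fin 28 → GaussianInt) := d.mem.getD k (0, fun _ => 0)

/-- the check that the images of the generating vectors lie in four times the lattice -/
def lattOK (d : GenData) : Prop :=
  ∀ k : Fin 28, (d.gi k.val).1 = gensC.getD k.val 0 ∧ applyOK d (d.gi k.val).1 (d.gi k.val).2 = true ∧
    (d.mm k.val).1 = (d.gi k.val).2 ∧
    ∀ p : RuIdx, decodeC (d.mm k.val).1 p = ∑ j, (d.mm k.val).2 j * Bv j p

instance (d : GenData) : Decidable (lattOK d) := by
  unfold lattOK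
  infer_instance

theorem sum_mem_Lc (c : Fin 28 → GaussianInt) (v : RuVec) (h : ∀ p : RuIdx, v p = ∑ j, c j * Bv j p) :
    v ∈ Lc := by
  have e : v = ∑ j, c j • Bv j := by
    funext p
    rw [h p]
    simp [Finset.sum_apply]
  rw [e]
  exact Submodule.sum_mem _ fun j _ => Submodule.smul_mem _ _ (Submodule.subset_span ⟨j, rfl⟩)

theorem autData_of_checks {d : GenData} (h1 : colsOK d = true) (h2 : lattOK d) : AutData d.col := by
  obtain ⟨_, ho, hs⟩ := colsOK_spec h1
  refine ⟨ho, hs, ?_⟩
  refine latt_of_gens d.col Gv (fun k => decodeC (d.gi k.val).2) TT Bv_eq (fun k => ?_) (fun k => ?_)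
  · obtain ⟨e1, e2, _, _⟩ := h2 k
    have hg : Gv k = decodeC (d.gi k.val).1 := by
      funext p
      rw [e1]
      exact (gensC_spec k p).symm
    rw [hg]
    exact apply_spec h1 _ _ e2
  · obtain ⟨_, _, e3, e4⟩ := h2 k
    rw [← e3]
    exact sum_mem_Lc _ _ e4

/-- the automorphism belonging to checked data -/
def theAut {d : GenData} (h1 : colsOK d = true) (h2 : lattOK d) : fourRu := aut (autData_of_checks h1 h2)

theorem theAut_apply {d : GenData} (h1 : colsOK d = true) (h2 : lattOK d) (c c' : ℕ)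
    (hc : decodeC c ∈ ruLattice) (happ : applyOK d c c' = true) :
    ∃ hc' : decodeC c' ∈ ruLattice,
      (theAut h1 h2 : Equiv.Perm ruLattice) ⟨decodeC c, hc⟩ = ⟨decodeC c', hc'⟩ :=
  aut_apply (autData_of_checks h1 h2) c c' hc (apply_spec h1 c c' happ)

theorem theAut_mul_self {d : GenData} (h1 : colsOK d = true) (h2 : lattOK d) :
    theAut h1 h2 * theAut h1 h2 = 1 := aut_mul_self _

end Cfsg.Agent.Lib.Helper9.RuGen
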