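import Cfsg.Agent.Lib.Helper9.RuGenF

set_option autoImplicit false

/-!
# Automorphisms of the Rudvalis lattice: the generator B (generated)
-/

namespace Cfsg.Agent.Lib.Helper9.RuGen

open Cfsg.Spor Cfsg.Agent.Lib.Helper9.RuAut

/-- the data of the generator B -/
def dB : GenData where
  cols := [5, 60926496868648660849229467484944, 60947502039144336650402934161712, 11220196722890040365638942720, 973803600856994157289113256997888, 1034402949174793619791760520654912, 649364873717159974078904701952256, 385365823588212066179254747140160, 81457073555629466907690072539680, 81446632147696398592907361387584, 81288118918465287438891989599264, 81303878782093379986047987941952, 1358922081838440154409197037953536, 324686932847818589537840760303632,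 649116648591803012037420402163776, 709894244796719987881767917863424, 993848902564020320655405427470400, 344816437588148379138129299443776, 324608966807424831114399753180160, 1298238592353255226052339843547392, 973877564382799316776669659992080, 1298313142218113189605644835233856, 1318356972645348955802482182791680, 669324469984999275228424606859776, 20361698519410827026431870173456, 8873554201597605810476922437632, 20366899011649951923431162250032, 20468479245382341600222576640]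
  sps := [
    [(0, row5)],
    [(4, row1), (8, row3), (20, row2), (28, row2), (32, row4), (36, row2), (40, row4), (44, row2), (52, row1), (56, row2), (64, row2), (68, row2), (80, row1), (84, row2), (96, row1), (104, row3)],
    [(4, row3), (8, row1), (16, row2), (24, row1), (32, row4), (36, row2), (40, row2), (44, row4), (48, row4), (60, row4), (72, row2), (76, row1), (88, row4), (92, row4), (96, row1), (104, row3)],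
    [(16, row3), (20, row3), (24, row4), (28, row1), (48, row4), (52, row3), (56, row2), (60, row2), (64, row3), (68, row1), (72, row1), (76, row2), (80, row1), (84, row4), (88, row4), (92, row2)],
    [(8, row4), (12, row3), (24, row4), (28, row2), (36, row2), (44, row1), (52, row3), (56, row1), (68, row3), (76, row1), (80, row3), (84, row2), (88, row1), (92, row2), (96, row3), (108, row3)],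
    [(4, row4), (12, row3), (20, row1), (24, row3), (32, row2), (40, row1), (48, row4), (52, row1), (56, row4), (60, row3), (64, row4), (76, row2), (80, row1), (84, row3), (104, row3), (108, row3)],
    [(8, row1), (12, row2), (16, row2), (20, row3), (36, row3), (44, row2), (52, row1), (56, row1), (64, row4), (72, row3), (80, row2), (84, row1), (88, row3), (92, row2), (96, row4), (108, row2)],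
    [(4, row4), (12, row1), (16, row4), (28, row1), (32, row2), (40, row1), (48, row3), (52, row3), (56, row2), (60, row4), (68, row4), (72, row3), (80, row2), (84, row2), (104, row3), (108, row1)],
    [(4, row2), (8, row2), (20, row4), (28, row4), (32, row1), (36, row1), (40, row1), (44, row1), (48, row4), (60, row4), (64, row2), (68, row2), (88, row2), (92, row2), (96, row4), (104, row4)],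
    [(4, row4), (8, row4), (16, row4), (24, row3), (32, row1), (36, row1), (40, row3), (44, row3), (52, row1), (56, row2), (72, row2), (76, row1), (80, row3), (84, row4), (96, row4), (104, row4)],
    [(4, row2), (8, row4), (20, row1), (28, row1), (32, row1), (36, row3), (40, row1), (44, row3), (52, row4), (56, row1), (64, row1), (68, row1), (80, row4), (84, row1), (96, row2), (104, row4)],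
    [(4, row4), (8, row2), (16, row1), (24, row4), (32, row1), (36, row3), (40, row3), (44, row1), (48, row3), (60, row3), (72, row1), (76, row4), (88, row3), (92, row3), (96, row2), (104, row4)],
    [(8, row2), (12, row2), (20, row2), (28, row3), (32, row2), (44, row3), (52, row3), (60, row1), (64, row4), (68, row2), (72, row1), (76, row1), (84, row1), (88, row2), (104, row3), (108, row4)],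
    [(4, row1), (12, row3), (16, row3), (20, row1), (24, row1), (28, row3), (36, row1), (40, row2), (48, row3), (52, row1), (64, row3), (68, row4), (84, row1), (92, row2), (96, row2), (108, row1)],
    [(4, row4), (12, row4), (16, row1), (20, row2), (24, row1), (28, row4), (36, row4), (40, row1), (56, row1), (60, row2), (64, row3), (68, row2), (80, row3), (88, row1), (96, row1), (108, row2)],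
    [(8, row2), (12, row4), (20, row3), (28, row2), (32, row2), (44, row3), (48, row1), (56, row4), (64, row2), (68, row4), (72, row2), (76, row4), (80, row4), (92, row2), (104, row3), (108, row2)],
    [(4, row4), (12, row3), (20, row2), (24, row2), (32, row4), (40, row1), (48, row2), (52, row3), (56, row3), (60, row4), (68, row1), (72, row2), (88, row3), (92, row2), (104, row1), (108, row3)],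
    [(4, row4), (12, row1), (16, row3), (28, row2), (32, row4), (40, row1), (48, row4), (52, row2), (56, row4), (60, row2), (64, row1), (76, row1), (88, row2), (92, row3), (104, row1), (108, row1)],
    [(8, row4), (12, row1), (24, row3), (28, row3), (36, row4), (44, row1), (48, row1), (60, row4), (64, row4), (72, row1), (80, row4), (84, row2), (88, row4), (92, row2), (96, row1), (108, row1)],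
    [(8, row1), (12, row4), (16, row1), (20, row4), (36, row1), (44, row2), (48, row1), (60, row2), (68, row1), (76, row1), (80, row2), (84, row2), (88, row3), (92, row1), (96, row2), (108, row4)],
    [(4, row1), (12, row1), (16, row3), (20, row1), (24, row4), (28, row4), (36, row3), (40, row2), (56, row3), (60, row2), (72, row2), (76, row4), (84, row2), (92, row1), (96, row4), (108, row3)],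
    [(4, row4), (12, row2), (16, row4), (20, row3), (24, row1), (28, row4), (36, row2), (40, row1), (48, row1), (52, row1), (72, row4), (76, row4), (80, row4), (88, row4), (96, row3), (108, row4)],
    [(8, row2), (12, row2), (16, row1), (24, row3), (32, row4), (44, row3), (48, row4), (56, row1), (64, row3), (68, row4), (72, row2), (76, row3), (84, row2), (88, row1), (104, row1), (108, row4)],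
    [(8, row2), (12, row4), (16, row4), (24, row4), (32, row4), (44, row3), (52, row4), (60, row4), (64, row4), (68, row3), (72, row4), (76, row1), (80, row1), (92, row1), (104, row1), (108, row2)],
    [(4, row1), (8, row1), (16, row3), (24, row2), (32, row2), (36, row2), (40, row4), (44, row4), (52, row4), (56, row1), (72, row1), (76, row4), (80, row2), (84, row3), (96, row1), (104, row1)],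
    [(100, row7)],
    [(4, row3), (8, row3), (20, row3), (28, row3), (32, row2), (36, row2), (40, row2), (44, row2), (48, row3), (60, row3), (64, row1), (68, row1), (88, row1), (92, row1), (96, row1), (104, row1)],
    [(16, row3), (20, row3), (24, row4), (28, row1), (48, row2), (52, row1), (56, row4), (60, row4), (64, row3), (68, row1), (72, row1), (76, row2), (80, row3), (84, row2), (88, row2), (92, row4)]]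
  gimg := [(1379203873615404911797253378737156, 973872887058247960740962976727300), (328341316202668049410485037319202, 1446842496531532599526201230338), (1036007631387749794450093075595264, 409688828361264435212489648635904), (1039632879399520133199024884039682, 2694763442398075404379244986386), (322359379526401050808851, 1379203873675667028904744388330243), (44383906617349192278000233611298, 1380629960130035630138302406931490), (63402999695690116033927812743234, 390674069665455352846946021814850), (973809462871313408465860405755972, 973809462871313408465860405755972), (405649159455470791544914173755412, 61183949862567630555306073994020), (324618269562659232553263955190528, 324677631371699219258570428330000), (1298243542847577189818342041452578,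 81205094286117893587746), (692237250852155409042702558298112, 674470280784704702400692577567760), (41848641760516959855375953166387, 977368520150323091501752046981427), (1381824652061477335285561148047360, 25369165747809892426446624985600), (346401044596782782467337365749760, 44387927655148356334198988092416), (386808065144185091419217181278208, 1038385056609828900834306324168704), (1038384435310778691679235614965760, 1299341889728852390219571274187024), (735405785651221689341400150442784, 996532759204046481617493701165856), (231732687603804940547121, 365098232080892292193872462741569), (41837792722156373011146159100416, 673281545376335016155916267422256), (81303878640420079126855964230688, 61084994381532621616412509602848),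 (694925731345325580262721600880640, 367871271872676276254508994134848), (973640171161669300764533613133843, 20609227286065734680000105488915), (39614081257132168796771975168, 405668004266412915727216184340736), (141976867225561692967630759002112, 61100697034940630108925238182160), (1622592768292133633915780102881280, 20468479245382341600222576640), (6338253001141147007483516026880, 8873554201597605810476922437632), (171207997922955055087938, 1298397398057847929730479720366146)]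
  mem := [
    (973872887058247960740962976727300, ![⟨0, -1⟩, ⟨0, 0⟩, ⟨1, 0⟩, ⟨1, 0⟩, ⟨1, 0⟩, ⟨2, 1⟩, ⟨1, 1⟩, ⟨2, 4⟩, ⟨0, 0⟩, ⟨1, 1⟩, ⟨1, 6⟩, ⟨-3, 5⟩, ⟨1, 3⟩, ⟨-1, 4⟩, ⟨0, 3⟩, ⟨-6, 8⟩, ⟨1, 7⟩, ⟨-13, 13⟩, ⟨-2, 7⟩, ⟨-22, 14⟩, ⟨-21, 13⟩, ⟨-34, -3⟩, ⟨-35, 2⟩, ⟨-37, -35⟩, ⟨-45, -7⟩, ⟨-77, -51⟩, ⟨-42, -39⟩, ⟨-43, -51⟩]),
    (1446842496531532599526201230338, ![⟨0, 1⟩, ⟨0, 0⟩, ⟨0, -1⟩, ⟨0, 0⟩, ⟨0, 0⟩, ⟨-1, 1⟩, ⟨0, 0⟩, ⟨-1, 0⟩, ⟨0, 0⟩, ⟨1, -1⟩, ⟨-1, -1⟩, ⟨0, 0⟩, ⟨0, 0⟩, ⟨-1, 0⟩, ⟨0, 1⟩, ⟨0, 0⟩, ⟨-1, 0⟩, ⟨-2, -2⟩, ⟨0, -1⟩, ⟨-1, -4⟩, ⟨-1, -1⟩, ⟨1, -4⟩, ⟨-1, -3⟩, ⟨4, -4⟩, ⟨0, -5⟩, ⟨6, -8⟩, ⟨5, -5⟩, ⟨4, -5⟩]),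
    (409688828361264435212489648635904, ![⟨0, 0⟩, ⟨0, 0⟩, ⟨0, 0⟩, ⟨0, 0⟩, ⟨0, 1⟩, ⟨0, 0⟩, ⟨0, 1⟩, ⟨-1, 1⟩, ⟨0, -1⟩, ⟨0, -1⟩, ⟨-1, 0⟩, ⟨-1, 0⟩, ⟨-1, 0⟩, ⟨-2, 0⟩, ⟨-1, 0⟩, ⟨-2, -2⟩, ⟨-1, 0⟩, ⟨-3, -4⟩, ⟨-1, -1⟩, ⟨-3, -7⟩, ⟨-2, -6⟩, ⟨3, -9⟩, ⟨2, -8⟩, ⟨12, -7⟩, ⟨4, -10⟩, ⟨17, -17⟩, ⟨11, -8⟩, ⟨14, -7⟩]),
    (2694763442398075404379244986386, ![⟨0, 1⟩, ⟨1, 0⟩, ⟨0, 0⟩, ⟨0, 1⟩, ⟨0, 0⟩, ⟨0, 2⟩, ⟨0, 1⟩, ⟨-2, 2⟩, ⟨-1, 0⟩, ⟨0, 0⟩, ⟨-3, 1⟩, ⟨-3, 0⟩, ⟨-1, 2⟩, ⟨-3, 1⟩, ⟨-2, 3⟩, ⟨-7, -2⟩, ⟨-4, 2⟩, ⟨-12, -5⟩, ⟨-5, 0⟩, ⟨-16, -11⟩, ⟨-15, -8⟩, ⟨-8, -23⟩, ⟨-12, -22⟩, ⟨11, -34⟩, ⟨-9, -32⟩, ⟨8, -65⟩, ⟨14, -39⟩, ⟨21, -41⟩]),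
    (1379203873675667028904744388330243, ![⟨-1, 0⟩, ⟨0, 0⟩, ⟨-1, 0⟩, ⟨-1, -1⟩, ⟨-1, 0⟩, ⟨-1, -2⟩, ⟨-1, -2⟩, ⟨1, -5⟩, ⟨0, 1⟩, ⟨-1, 0⟩, ⟨2, -5⟩, ⟨4, -3⟩, ⟨0, -4⟩, ⟨4, -4⟩, ⟨1, -4⟩, ⟨10, -4⟩, ⟨2, -7⟩, ⟨19, -5⟩, ⟨4, -5⟩, ⟨28, 0⟩, ⟨25, -3⟩, ⟨29, 19⟩, ⟨33, 14⟩, ⟨17, 48⟩, ⟨39, 28⟩, ⟨47, 84⟩, ⟨21, 55⟩, ⟨15, 66⟩]),
    (1380629960130035630138302406931490, ![⟨0, 1⟩, ⟨0, 1⟩, ⟨0, -1⟩, ⟨-1, 1⟩, ⟨1, 0⟩, ⟨-2, 1⟩, ⟨0, 1⟩, ⟨-3, 0⟩, ⟨0, 0⟩, ⟨0, 0⟩, ⟨-3, -2⟩, ⟨-1, -3⟩, ⟨-2, 0⟩, ⟨-2, -1⟩, ⟨-3, 1⟩, ⟨-2, -4⟩, ⟨-4, -1⟩, ⟨-4, -10⟩, ⟨-2, -2⟩, ⟨-1, -15⟩, ⟨-4, -12⟩, ⟨8, -17⟩, ⟨4, -20⟩, ⟨25, -14⟩, ⟨12, -24⟩, ⟨42, -33⟩, ⟨30, -16⟩, ⟨35, -14⟩]),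
    (390674069665455352846946021814850, ![⟨0, 1⟩, ⟨0, -1⟩, ⟨0, 1⟩, ⟨-1, 1⟩, ⟨0, 1⟩, ⟨-1, 0⟩, ⟨-2, 1⟩, ⟨-4, -1⟩, ⟨0, 0⟩, ⟨0, 0⟩, ⟨-3, -3⟩, ⟨0, -3⟩, ⟨-2, -1⟩, ⟨-2, -3⟩, ⟨-2, -1⟩, ⟨-2, -7⟩, ⟨-6, -3⟩, ⟨-1, -14⟩, ⟨-3, -5⟩, ⟨3, -19⟩, ⟨4, -17⟩, ⟨19, -16⟩, ⟨17, -21⟩, ⟨36, -1⟩, ⟨26, -22⟩, ⟨66, -16⟩, ⟨40, -4⟩, ⟨51, 2⟩]),
    (973809462871313408465860405755972, ![⟨0, -1⟩, ⟨0, -1⟩, ⟨0, 0⟩, ⟨1, -1⟩, ⟨0, 0⟩, ⟨2, -1⟩, ⟨2, 0⟩, ⟨4, 1⟩, ⟨0, 0⟩, ⟨1, -1⟩, ⟨4, 3⟩, ⟨2, 5⟩, ⟨3, 1⟩, ⟨2, 4⟩, ⟨3, 2⟩, ⟨1, 9⟩, ⟨7, 3⟩, ⟨0, 17⟩, ⟨5, 6⟩, ⟨-4, 24⟩, ⟨-2, 23⟩, ⟨-23, 22⟩, ⟨-19, 28⟩, ⟨-46, 6⟩, ⟨-34, 30⟩, ⟨-85, 25⟩, ⟨-56, 6⟩, ⟨-63, 0⟩]),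
    (61183949862567630555306073994020, ![⟨0, -1⟩, ⟨0, 1⟩, ⟨-1, 0⟩, ⟨-1, 0⟩, ⟨-1, 0⟩, ⟨-1, -1⟩, ⟨-2, -1⟩, ⟨0, -4⟩, ⟨0, 1⟩, ⟨-1, 1⟩, ⟨0, -4⟩, ⟨2, -4⟩, ⟨-1, -2⟩, ⟨2, -3⟩, ⟨-1, -4⟩, ⟨5, -5⟩, ⟨0, -6⟩, ⟨11, -9⟩, ⟨1, -4⟩, ⟨18, -7⟩, ⟨15, -8⟩, ⟨23, 6⟩, ⟨26, 0⟩, ⟨23, 27⟩, ⟨33, 7⟩, ⟨53, 42⟩, ⟨29, 30⟩, ⟨29, 40⟩]),
    (324677631371699219258570428330000, ![⟨0, 0⟩, ⟨1, 0⟩, ⟨0, 0⟩, ⟨0, 1⟩, ⟨-1, 0⟩, ⟨-1, 0⟩, ⟨-1, 1⟩, ⟨-2, 0⟩, ⟨0, 0⟩, ⟨1, 0⟩, ⟨-2, -2⟩, ⟨-1, -2⟩, ⟨-1, 0⟩, ⟨-1, -2⟩, ⟨-2, -1⟩, ⟨-1, -4⟩, ⟨-3, -1⟩, ⟨-1, -9⟩, ⟨-2, -2⟩, ⟨1, -11⟩, ⟨1, -9⟩, ⟨11, -10⟩, ⟨8, -12⟩, ⟨21, -1⟩, ⟨14, -14⟩, ⟨38, -12⟩, ⟨24, -4⟩, ⟨29, -1⟩]),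
    (81205094286117893587746, ![⟨0, 1⟩, ⟨0, 1⟩, ⟨-1, 0⟩, ⟨-2, 0⟩, ⟨0, 0⟩, ⟨-2, 0⟩, ⟨-2, -1⟩, ⟨-3, -4⟩, ⟨0, 1⟩, ⟨-2, 1⟩, ⟨-2, -5⟩, ⟨1, -6⟩, ⟨-2, -3⟩, ⟨1, -4⟩, ⟨-2, -3⟩, ⟨4, -8⟩, ⟨-4, -7⟩, ⟨9, -15⟩, ⟨-1, -7⟩, ⟨17, -18⟩, ⟨13, -18⟩, ⟨30, -7⟩, ⟨30, -15⟩, ⟨42, 17⟩, ⟨44, -9⟩, ⟨85, 21⟩, ⟨53, 20⟩, ⟨55, 32⟩]),
    (674470280784704702400692577567760, ![⟨0, 0⟩, ⟨1, 0⟩, ⟨0, -1⟩, ⟨1, 0⟩, ⟨-1, 0⟩, ⟨1, 0⟩, ⟨1, 0⟩, ⟨2, 1⟩, ⟨0, 1⟩, ⟨0, 1⟩, ⟨1, 2⟩, ⟨-1, 2⟩, ⟨2, 1⟩, ⟨0, 2⟩, ⟨1, 2⟩, ⟨-3, 5⟩, ⟨2, 3⟩, ⟨-4, 7⟩, ⟨0, 5⟩, ⟨-8, 11⟩, ⟨-10, 10⟩, ⟨-17, 2⟩, ⟨-19, 5⟩, ⟨-22, -14⟩, ⟨-24, 1⟩, ⟨-46, -16⟩, ⟨-22, -16⟩, ⟨-26, -22⟩]),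
    (977368520150323091501752046981427, ![⟨-1, 0⟩, ⟨-1, 0⟩, ⟨1, 0⟩, ⟨0, -1⟩, ⟨0, 1⟩, ⟨-1, -1⟩, ⟨0, 0⟩, ⟨0, -2⟩, ⟨-1, 0⟩, ⟨-1, 0⟩, ⟨1, -2⟩, ⟨2, -1⟩, ⟨0, -1⟩, ⟨0, -1⟩, ⟨-1, -2⟩, ⟨1, -2⟩, ⟨1, -3⟩, ⟨6, -4⟩, ⟨1, -2⟩, ⟨9, -3⟩, ⟨6, -6⟩, ⟨12, 1⟩, ⟨15, -2⟩, ⟨16, 12⟩, ⟨19, 4⟩, ⟨28, 21⟩, ⟨17, 19⟩, ⟨16, 21⟩]),
    (25369165747809892426446624985600, ![⟨0, 0⟩, ⟨0, 0⟩, ⟨0, 1⟩, ⟨0, 0⟩, ⟨-1, 0⟩, ⟨0, 0⟩, ⟨-1, 0⟩, ⟨-1, -1⟩, ⟨0, 0⟩, ⟨0, 0⟩, ⟨-1, -1⟩, ⟨0, -1⟩, ⟨-1, 0⟩, ⟨-1, -2⟩, ⟨-1, -2⟩, ⟨0, -5⟩, ⟨-1, -1⟩, ⟨2, -6⟩, ⟨-1, -2⟩, ⟨4, -8⟩, ⟨4, -8⟩, ⟨11, -4⟩, ⟨11, -6⟩, ⟨16, 6⟩, ⟨15, -5⟩, ⟨31, 3⟩, ⟨18, 6⟩, ⟨21, 10⟩]),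
    (44387927655148356334198988092416, ![⟨0, 0⟩, ⟨0, 0⟩, ⟨0, -1⟩, ⟨0, 0⟩, ⟨0, 1⟩, ⟨-1, 1⟩, ⟨0, 0⟩, ⟨-1, 0⟩, ⟨0, 1⟩, ⟨0, 0⟩, ⟨-2, 0⟩, ⟨-1, -1⟩, ⟨0, 0⟩, ⟨-1, 0⟩, ⟨-1, 1⟩, ⟨-2, 0⟩, ⟨-1, -1⟩, ⟨-4, -4⟩, ⟨-1, 0⟩, ⟨-3, -5⟩, ⟨-4, -3⟩, ⟨-1, -8⟩, ⟨-2, -9⟩, ⟨8, -12⟩, ⟨0, -12⟩, ⟨10, -20⟩, ⟨10, -12⟩, ⟨12, -13⟩]),
    (1038385056609828900834306324168704, ![⟨0, 0⟩, ⟨0, 0⟩, ⟨0, 0⟩, ⟨0, 0⟩, ⟨0, 0⟩, ⟨0, 0⟩, ⟨0, 0⟩, ⟨0, 0⟩, ⟨-1, 0⟩, ⟨-1, 0⟩, ⟨0, -1⟩, ⟨1, -1⟩, ⟨0, 0⟩, ⟨0, 0⟩, ⟨0, 0⟩, ⟨-1, -1⟩, ⟨-1, 0⟩, ⟨0, -2⟩, ⟨-1, -1⟩, ⟨0, -2⟩, ⟨0, -3⟩, ⟨3, -3⟩, ⟨3, -4⟩, ⟨6, -1⟩, ⟨5, -3⟩, ⟨9, -2⟩, ⟨7, 1⟩, ⟨9, 1⟩]),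
    (1299341889728852390219571274187024, ![⟨0, 0⟩, ⟨1, 0⟩, ⟨1, 0⟩, ⟨1, 1⟩, ⟨0, -1⟩, ⟨1, 1⟩, ⟨1, 2⟩, ⟨0, 4⟩, ⟨0, -1⟩, ⟨1, 1⟩, ⟨0, 4⟩, ⟨-4, 3⟩, ⟨0, 3⟩, ⟨-2, 2⟩, ⟨-1, 3⟩, ⟨-6, 3⟩, ⟨-2, 7⟩, ⟨-12, 6⟩, ⟨-4, 5⟩, ⟨-20, 4⟩, ⟨-19, 3⟩, ⟨-21, -12⟩, ⟨-27, -8⟩, ⟨-16, -33⟩, ⟨-31, -18⟩, ⟨-41, -59⟩, ⟨-19, -39⟩, ⟨-17, -49⟩]),
    (996532759204046481617493701165856, ![⟨0, 0⟩, ⟨0, 1⟩, ⟨-1, 0⟩, ⟨-1, 0⟩, ⟨0, -1⟩, ⟨0, 0⟩, ⟨-1, -1⟩, ⟨0, -2⟩, ⟨0, 0⟩, ⟨-1, 0⟩, ⟨1, -2⟩, ⟨2, -2⟩, ⟨-1, -1⟩, ⟨1, -1⟩, ⟨0, -2⟩, ⟨4, -4⟩, ⟨-1, -4⟩, ⟨7, -4⟩, ⟨1, -4⟩, ⟨10, -5⟩, ⟨10, -4⟩, ⟨14, 6⟩, ⟨16, 2⟩, ⟨10, 18⟩, ⟨20, 7⟩, ⟨28, 29⟩, ⟨15, 21⟩, ⟨14, 28⟩]),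
    (365098232080892292193872462741569, ![⟨1, 0⟩, ⟨0, -1⟩, ⟨0, 0⟩, ⟨1, 0⟩, ⟨0, 0⟩, ⟨2, 1⟩, ⟨1, 0⟩, ⟨1, 3⟩, ⟨0, 0⟩, ⟨0, -1⟩, ⟨0, 4⟩, ⟨-1, 3⟩, ⟨1, 2⟩, ⟨-1, 3⟩, ⟨2, 2⟩, ⟨-4, 4⟩, ⟨1, 4⟩, ⟨-9, 9⟩, ⟨0, 3⟩, ⟨-15, 8⟩, ⟨-10, 9⟩, ⟨-20, 0⟩, ⟨-20, 5⟩, ⟨-24, -18⟩, ⟨-29, 0⟩, ⟨-51, -25⟩, ⟨-30, -20⟩, ⟨-29, -28⟩]),
    (673281545376335016155916267422256, ![⟨0, 0⟩, ⟨-1, 0⟩, ⟨0, 1⟩, ⟨-1, 0⟩, ⟨0, 0⟩, ⟨-1, -1⟩, ⟨-1, 0⟩, ⟨-1, -2⟩, ⟨0, 0⟩, ⟨-1, 0⟩, ⟨-1, -3⟩, ⟨1, -3⟩, ⟨-2, -2⟩, ⟨0, -3⟩, ⟨-1, -3⟩, ⟨3, -6⟩, ⟨-2, -3⟩, ⟨7, -9⟩, ⟨-1, -4⟩, ⟨12, -10⟩, ⟨11, -13⟩, ⟨21, -3⟩, ⟨22, -7⟩, ⟨28, 17⟩, ⟨30, -2⟩, ⟨56, 20⟩, ⟨31, 19⟩, ⟨34, 26⟩]),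
    (61084994381532621616412509602848, ![⟨0, 0⟩, ⟨0, 1⟩, ⟨0, -1⟩, ⟨0, 0⟩, ⟨0, 0⟩, ⟨0, 1⟩, ⟨0, 0⟩, ⟨0, 1⟩, ⟨0, 1⟩, ⟨0, 1⟩, ⟨-1, 1⟩, ⟨-2, 0⟩, ⟨0, 1⟩, ⟨-1, 1⟩, ⟨-1, 1⟩, ⟨-3, 2⟩, ⟨-1, 1⟩, ⟨-6, 0⟩, ⟨-2, 2⟩, ⟨-8, -1⟩, ⟨-11, 0⟩, ⟨-10, -9⟩, ⟨-12, -9⟩, ⟨-3, -22⟩, ⟨-11, -14⟩, ⟨-10, -34⟩, ⟨1, -23⟩, ⟨0, -26⟩]),
    (367871271872676276254508994134848, ![⟨0, 0⟩, ⟨0, -1⟩, ⟨-1, 0⟩, ⟨0, -1⟩, ⟨0, 1⟩, ⟨0, -1⟩, ⟨0, -1⟩, ⟨1, -2⟩, ⟨0, 0⟩, ⟨0, -1⟩, ⟨2, -1⟩, ⟨3, 1⟩, ⟨1, -2⟩, ⟨2, 0⟩, ⟨2, -1⟩, ⟨5, 1⟩, ⟨3, -3⟩, ⟨8, 3⟩, ⟨4, -1⟩, ⟨11, 7⟩, ⟨12, 7⟩, ⟨5, 16⟩, ⟨10, 17⟩, ⟨-8, 24⟩, ⟨6, 24⟩, ⟨-7, 48⟩, ⟨-11, 27⟩, ⟨-15, 32⟩]),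
    (20609227286065734680000105488915, ![⟨-1, 0⟩, ⟨1, 0⟩, ⟨0, 1⟩, ⟨0, 1⟩, ⟨-1, 0⟩, ⟨-1, 0⟩, ⟨-1, 1⟩, ⟨-3, -1⟩, ⟨0, -1⟩, ⟨1, 1⟩, ⟨-2, -2⟩, ⟨-2, -2⟩, ⟨-2, 0⟩, ⟨-1, -3⟩, ⟨-3, -1⟩, ⟨-1, -7⟩, ⟨-4, -1⟩, ⟨0, -11⟩, ⟨-2, -3⟩, ⟨3, -16⟩, ⟨3, -14⟩, ⟨17, -12⟩, ⟨13, -15⟩, ⟨29, 2⟩, ⟨20, -17⟩, ⟨52, -12⟩, ⟨31, -2⟩, ⟨38, 2⟩]),
    (405668004266412915727216184340736, ![⟨0, 0⟩, ⟨0, 0⟩, ⟨1, 0⟩, ⟨0, 1⟩, ⟨-1, 0⟩, ⟨-1, 0⟩, ⟨-1, 1⟩, ⟨-2, 0⟩, ⟨-1, 0⟩, ⟨0, 0⟩, ⟨-2, -2⟩, ⟨0, -2⟩, ⟨-1, 0⟩, ⟨-2, -2⟩, ⟨-2, -1⟩, ⟨-3, -5⟩, ⟨-3, 0⟩, ⟨-1, -10⟩, ⟨-4, -2⟩, ⟨0, -12⟩, ⟨-1, -14⟩, ⟨12, -15⟩, ⟨10, -18⟩, ⟨29, -5⟩, ⟨17, -19⟩, ⟨46, -20⟩, ⟨31, -5⟩, ⟨38, -4⟩]),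
    (61100697034940630108925238182160, ![⟨0, 0⟩, ⟨1, 0⟩, ⟨1, 0⟩, ⟨1, 1⟩, ⟨0, 0⟩, ⟨1, 1⟩, ⟨1, 2⟩, ⟨0, 4⟩, ⟨0, -1⟩, ⟨1, 0⟩, ⟨-1, 4⟩, ⟨-4, 3⟩, ⟨1, 3⟩, ⟨-2, 3⟩, ⟨-1, 4⟩, ⟨-7, 4⟩, ⟨-2, 7⟩, ⟨-14, 7⟩, ⟨-4, 5⟩, ⟨-23, 5⟩, ⟨-20, 5⟩, ⟨-24, -13⟩, ⟨-30, -8⟩, ⟨-19, -36⟩, ⟨-36, -19⟩, ⟨-48, -64⟩, ⟨-23, -44⟩, ⟨-20, -54⟩]),
    (20468479245382341600222576640, ![⟨0, 0⟩, ⟨0, 0⟩, ⟨0, 0⟩, ⟨0, 0⟩, ⟨-1, 0⟩, ⟨-1, 0⟩, ⟨-1, -1⟩, ⟨0, -2⟩, ⟨0, 0⟩, ⟨0, 0⟩, ⟨0, -2⟩, ⟨1, -1⟩, ⟨0, -1⟩, ⟨1, -2⟩, ⟨0, -2⟩, ⟨3, -3⟩, ⟨0, -2⟩, ⟨7, -4⟩, ⟨1, -2⟩, ⟨10, -2⟩, ⟨8, -3⟩, ⟨12, 4⟩, ⟨13, 3⟩, ⟨10, 16⟩, ⟨16, 7⟩, ⟨23, 26⟩, ⟨12, 18⟩, ⟨10, 23⟩]),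
    (8873554201597605810476922437632, ![⟨0, 0⟩, ⟨0, 0⟩, ⟨0, 0⟩, ⟨0, 0⟩, ⟨0, 0⟩, ⟨0, 0⟩, ⟨0, 0⟩, ⟨0, 0⟩, ⟨0, 0⟩, ⟨0, 0⟩, ⟨0, 0⟩, ⟨0, 0⟩, ⟨0, 0⟩, ⟨0, 0⟩, ⟨0, 0⟩, ⟨0, 0⟩, ⟨0, 0⟩, ⟨0, 0⟩, ⟨0, 0⟩, ⟨0, 0⟩, ⟨0, 0⟩, ⟨0, 0⟩, ⟨0, 0⟩, ⟨0, 0⟩, ⟨0, 0⟩, ⟨-1, 0⟩, ⟨0, 0⟩, ⟨0, 0⟩]),
    (1298397398057847929730479720366146, ![⟨0, 1⟩, ⟨0, -1⟩, ⟨0, 0⟩, ⟨0, 0⟩, ⟨0, 1⟩, ⟨0, 0⟩, ⟨0, 0⟩, ⟨-1, 0⟩, ⟨0, -1⟩, ⟨1, -1⟩, ⟨0, -1⟩, ⟨1, 1⟩, ⟨0, 0⟩, ⟨-1, 0⟩, ⟨0, 1⟩, ⟨-1, -1⟩, ⟨0, 0⟩, ⟨0, -2⟩, ⟨1, -1⟩, ⟨1, -3⟩, ⟨1, 0⟩, ⟨2, -2⟩, ⟨2, 0⟩, ⟨3, 1⟩, ⟨2, -1⟩, ⟨5, 1⟩, ⟨2, 0⟩, ⟨3, 2⟩])]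

set_option maxRecDepth 1000000 in
theorem colsB : colsOK dB = true := by decide +kernel

set_option maxRecDepth 1000000 in
theorem lattB : lattOK dB := by decide +kernel

end Cfsg.Agent.Lib.Helper9.RuGen
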