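import Cfsg.Agent.Lib.Helper9.RuGenF

set_option autoImplicit false

/-!
# Automorphisms of the Rudvalis lattice: the generator C (generated)
-/

namespace Cfsg.Agent.Lib.Helper9.RuGen

open Cfsg.Spor Cfsg.Agent.Lib.Helper9.RuAut

/-- the data of the generator C -/
def dC : GenData where
  cols := [5, 409688828361265798958606035517440, 365084050020949772071770534318336, 3883437553341844240201763787008, 1038444765374600016453588433765392, 5308330425136515763207484215360, 1342680290610435412578861841580560, 2773047362403278702236695535664, 1364071588555512973610989848298304, 344801006789312249673043251834944, 1338639074950395761844504942882848, 1019429389970123417863201023329328, 20520175089851715573914531791632,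 649116957188359925444749401661504, 978626326240653925413842529026592, 64650804738484838499083455897632, 709884684393500659299469129630720, 1318357262706398436082778739053312, 1506592677911599259849979859200, 3882566905665179165270053495808, 1015467358945328483810794998398976, 709884974596848466918936324084480, 1505722030239563922848018998272, 34662321099990647697175478272, 24086291158016610853602238599216, 649275102729731448114299172761648, 20361700630662501980495621063712, 329589237058033875598184630386960]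
  sps := [
    [(0, row5)],
    [(16, row1), (20, row2), (24, row1), (28, row3), (32, row2), (36, row2), (40, row4), (44, row3), (48, row1), (52, row2), (56, row4), (60, row4), (96, row3), (100, row3), (104, row4), (108, row1)],
    [(8, row1), (12, row1), (16, row2), (24, row4), (32, row3), (44, row2), (48, row3), (56, row4), (64, row2), (68, row3), (72, row1), (76, row2), (84, row3), (88, row2), (104, row2), (108, row1)],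
    [(8, row1), (12, row1), (20, row1), (28, row4), (36, row3), (40, row3), (52, row4), (60, row4), (64, row2), (68, row1), (72, row1), (76, row4), (84, row1), (88, row4), (96, row1), (100, row3)],
    [(4, row1), (8, row4), (24, row3), (28, row2), (32, row3), (36, row2), (52, row4), (60, row1), (64, row3), (76, row2), (80, row1), (88, row4), (96, row3), (100, row3), (104, row3), (108, row3)],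
    [(4, row4), (12, row1), (20, row1), (24, row1), (32, row3), (40, row2), (48, row2), (52, row1), (56, row2), (60, row3), (68, row4), (72, row3), (80, row4), (84, row2), (96, row3), (100, row4)],
    [(4, row1), (8, row2), (16, row3), (20, row1), (40, row4), (44, row4), (52, row3), (60, row2), (64, row1), (76, row4), (80, row1), (88, row2), (96, row3), (100, row3), (104, row2), (108, row4)],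
    [(4, row3), (12, row2), (16, row4), (28, row1), (36, row3), (44, row3), (48, row2), (52, row4), (56, row4), (60, row2), (68, row1), (72, row4), (80, row3), (84, row3), (96, row3), (100, row2)],
    [(4, row4), (8, row3), (16, row3), (20, row3), (32, row1), (36, row2), (48, row2), (56, row4), (64, row2), (76, row3), (80, row4), (88, row1), (96, row1), (100, row4), (104, row3), (108, row4)],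
    [(4, row4), (12, row3), (16, row4), (28, row3), (32, row4), (40, row1), (48, row4), (52, row4), (56, row3), (60, row1), (68, row4), (72, row1), (80, row4), (84, row2), (104, row1), (108, row1)],
    [(4, row2), (12, row3), (20, row4), (24, row2), (36, row1), (44, row3), (48, row2), (52, row1), (56, row1), (60, row4), (68, row4), (72, row1), (80, row2), (84, row2), (104, row2), (108, row4)],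
    [(4, row3), (8, row4), (24, row2), (28, row3), (40, row3), (44, row1), (48, row4), (56, row4), (64, row3), (76, row4), (80, row3), (88, row2), (96, row3), (100, row4), (104, row2), (108, row3)],
    [(4, row1), (8, row3), (20, row4), (28, row4), (32, row4), (36, row2), (40, row4), (44, row2), (52, row1), (56, row2), (64, row2), (68, row2), (80, row3), (84, row4), (96, row3), (104, row1)],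
    [(4, row4), (12, row2), (16, row2), (20, row1), (24, row3), (28, row2), (36, row2), (40, row1), (48, row1), (52, row1), (72, row4), (76, row4), (80, row2), (88, row2), (96, row1), (108, row2)],
    [(4, row2), (8, row2), (20, row4), (28, row2), (32, row2), (36, row3), (40, row1), (44, row2), (48, row4), (60, row4), (64, row1), (68, row1), (80, row4), (84, row3), (100, row4), (108, row3)],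
    [(4, row2), (12, row2), (16, row1), (20, row3), (24, row4), (28, row4), (36, row1), (40, row2), (56, row2), (60, row1), (72, row4), (76, row4), (80, row4), (88, row2), (100, row3), (104, row3)],
    [(8, row4), (12, row4), (16, row3), (24, row1), (32, row4), (44, row3), (48, row4), (56, row1), (64, row1), (68, row2), (72, row4), (76, row1), (84, row2), (88, row1), (104, row3), (108, row2)],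
    [(8, row3), (12, row1), (20, row2), (28, row1), (36, row2), (40, row2), (48, row4), (56, row1), (64, row4), (68, row1), (72, row1), (76, row2), (84, row1), (88, row2), (104, row1), (108, row4)],
    [(8, row1), (12, row1), (20, row3), (28, row2), (36, row1), (40, row1), (52, row2), (60, row2), (64, row2), (68, row1), (72, row1), (76, row4), (84, row1), (88, row4), (96, row3), (100, row1)],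
    [(8, row4), (12, row2), (16, row4), (24, row2), (32, row3), (44, row2), (52, row2), (60, row2), (64, row1), (68, row4), (72, row2), (76, row1), (84, row4), (88, row1), (96, row1), (100, row3)],
    [(16, row1), (20, row2), (24, row1), (28, row3), (32, row2), (36, row2), (40, row4), (44, row3), (48, row3), (52, row4), (56, row2), (60, row2), (96, row1), (100, row1), (104, row2), (108, row3)],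
    [(8, row3), (12, row1), (20, row4), (28, row3), (36, row4), (40, row4), (48, row2), (56, row3), (64, row4), (68, row1), (72, row1), (76, row2), (84, row1), (88, row2), (104, row3), (108, row2)],
    [(8, row4), (12, row2), (16, row2), (24, row4), (32, row1), (44, row4), (52, row4), (60, row4), (64, row1), (68, row4), (72, row2), (76, row1), (84, row4), (88, row1), (96, row3), (100, row1)],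
    [(92, row7)],
    [(4, row3), (12, row1), (16, row3), (20, row3), (24, row3), (28, row3), (32, row1), (44, row3), (48, row3), (52, row1), (72, row3), (76, row1), (80, row1), (88, row3), (100, row3), (104, row1)],
    [(4, row3), (12, row3), (16, row3), (20, row2), (24, row3), (28, row4), (32, row2), (44, row2), (56, row2), (60, row3), (72, row1), (76, row3), (80, row1), (88, row1), (96, row3), (108, row2)],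
    [(4, row2), (8, row4), (16, row3), (24, row4), (32, row3), (36, row1), (40, row4), (44, row4), (48, row1), (60, row3), (64, row3), (68, row1), (80, row4), (84, row3), (96, row1), (104, row1)],
    [(4, row1), (8, row1), (16, row3), (24, row2), (32, row2), (36, row1), (40, row2), (44, row3), (52, row4), (56, row3), (64, row4), (68, row2), (80, row3), (84, row4), (100, row4), (108, row1)]]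
  gimg := [(1379203873615404911797253378737156, 977358980440824925617342994531092), (328341316202668049410485037319202, 344811795312999837643269197530114), (1036007631387749794450093075595264, 1298321821985580819165276161585200), (1039632879399520133199024884039682, 43101050241720286819535937405698), (322359379526401050808851, 405649198207506238519524654579779), (44383906617349192278000233611298, 5156020273958695013892717806594), (63402999695690116033927812743234, 973803890936956077274992460693570), (973809462871313408465860405755972, 62119869937246853898831897297668), (405649159455470791544914173755412, 405649159455470791544914173755412), (324618269562659232553263955190528, 24095284357188723466569259360320),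 (1298243542847577189818342041452578, 5170566285815450362575058961410), (692237250852155409042702558298112, 41843341980249191937683003556096), (41848641760516959855375953166387, 1019354878733873822530526850859555), (1381824652061477335285561148047360, 1379219327374421477609368233971776), (346401044596782782467337365749760, 733023969380605307893081946915104), (386808065144185091419217181278208, 694916483223993178065609160654848), (1038384435310778691679235614965760, 1014130386277787733263786809824000), (735405785651221689341400150442784, 650325802992196945228550287590160), (231732687603804940547121, 995344028282979881723335175835649), (41837792722156373011146159100416, 324691942946860006973324452376624), (81303878640420079126855964230688,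 24090352020126218290461029773328), (694925731345325580262721600880640, 82402884075234196449416147378432), (973640171161669300764533613133843, 15494802230000777041608315715), (39614081257132168796771975168, 29710560942849126597578981376), (141976867225561692967630759002112, 61084935060067601611082717790784), (1622592768292133633915780102881280, 329589237058033875598184630386960), (6338253001141147007483516026880, 649275102729731448114299172761648), (171207997922955055087938, 171207997922955055087938)]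
  mem := [
    (977358980440824925617342994531092, ![⟨0, -1⟩, ⟨1, 0⟩, ⟨-1, 0⟩, ⟨0, -1⟩, ⟨1, 0⟩, ⟨2, 0⟩, ⟨1, 0⟩, ⟨2, 1⟩, ⟨0, 1⟩, ⟨-1, 0⟩, ⟨2, 3⟩, ⟨0, 2⟩, ⟨1, 2⟩, ⟨1, 3⟩, ⟨1, 2⟩, ⟨-2, 5⟩, ⟨2, 1⟩, ⟨-5, 9⟩, ⟨1, 3⟩, ⟨-9, 11⟩, ⟨-7, 11⟩, ⟨-18, 7⟩, ⟨-15, 8⟩, ⟨-26, -11⟩, ⟨-22, 7⟩, ⟨-49, -8⟩, ⟨-28, -10⟩, ⟨-29, -14⟩]),
    (344811795312999837643269197530114, ![⟨0, 1⟩, ⟨0, 0⟩, ⟨0, -1⟩, ⟨0, 0⟩, ⟨0, 0⟩, ⟨-1, 0⟩, ⟨1, 0⟩, ⟨0, 0⟩, ⟨-1, 0⟩, ⟨0, -1⟩, ⟨0, -1⟩, ⟨1, 0⟩, ⟨1, -1⟩, ⟨0, 0⟩, ⟨0, 1⟩, ⟨1, 0⟩, ⟨1, -1⟩, ⟨2, -1⟩, ⟨1, -1⟩, ⟨3, 0⟩, ⟨2, 0⟩, ⟨3, 0⟩, ⟨3, 1⟩, ⟨4, 4⟩, ⟨3, 2⟩, ⟨5, 6⟩, ⟨4, 5⟩, ⟨2, 6⟩]),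
    (1298321821985580819165276161585200, ![⟨0, 0⟩, ⟨-1, 0⟩, ⟨0, 0⟩, ⟨-1, 0⟩, ⟨0, 1⟩, ⟨-1, 0⟩, ⟨-2, 0⟩, ⟨-2, -2⟩, ⟨0, -1⟩, ⟨0, -1⟩, ⟨-1, -3⟩, ⟨2, -2⟩, ⟨-2, -2⟩, ⟨-1, -3⟩, ⟨-1, -3⟩, ⟨3, -7⟩, ⟨-1, -5⟩, ⟨7, -12⟩, ⟨1, -5⟩, ⟨14, -14⟩, ⟨13, -12⟩, ⟨23, -2⟩, ⟨26, -5⟩, ⟨30, 20⟩, ⟨33, -1⟩, ⟨62, 25⟩, ⟨32, 22⟩, ⟨36, 32⟩]),
    (43101050241720286819535937405698, ![⟨0, 1⟩, ⟨0, 0⟩, ⟨-1, 0⟩, ⟨-1, 0⟩, ⟨1, 0⟩, ⟨0, 0⟩, ⟨0, 0⟩, ⟨-1, -1⟩, ⟨0, 0⟩, ⟨-1, 0⟩, ⟨0, -1⟩, ⟨1, -1⟩, ⟨-1, -1⟩, ⟨0, 0⟩, ⟨0, 0⟩, ⟨1, -2⟩, ⟨-2, -2⟩, ⟨1, -3⟩, ⟨0, -3⟩, ⟨3, -5⟩, ⟨4, -4⟩, ⟨7, -1⟩, ⟨7, -3⟩, ⟨8, 4⟩, ⟨9, -2⟩, ⟨18, 5⟩, ⟨10, 4⟩, ⟨12, 7⟩]),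
    (405649198207506238519524654579779, ![⟨-1, 0⟩, ⟨0, -1⟩, ⟨0, 0⟩, ⟨0, -1⟩, ⟨0, 0⟩, ⟨1, -2⟩, ⟨1, -1⟩, ⟨3, -2⟩, ⟨0, 0⟩, ⟨1, 0⟩, ⟨5, -1⟩, ⟨4, 3⟩, ⟨3, -1⟩, ⟨4, 1⟩, ⟨3, 0⟩, ⟨6, 6⟩, ⟨5, 0⟩, ⟨10, 12⟩, ⟨6, 2⟩, ⟨11, 20⟩, ⟨11, 19⟩, ⟨-4, 29⟩, ⟨0, 31⟩, ⟨-33, 31⟩, ⟨-9, 39⟩, ⟨-49, 66⟩, ⟨-38, 33⟩, ⟨-46, 33⟩]),
    (5156020273958695013892717806594, ![⟨0, 1⟩, ⟨0, 0⟩, ⟨0, -1⟩, ⟨0, 0⟩, ⟨0, 0⟩, ⟨-1, 0⟩, ⟨1, 0⟩, ⟨0, 0⟩, ⟨0, -1⟩, ⟨1, -1⟩, ⟨1, -1⟩, ⟨1, 1⟩, ⟨1, 0⟩, ⟨0, 1⟩, ⟨0, 1⟩, ⟨1, 1⟩, ⟨1, 0⟩, ⟨1, 2⟩, ⟨2, 0⟩, ⟨1, 2⟩, ⟨1, 4⟩, ⟨0, 3⟩, ⟨-1, 5⟩, ⟨-4, 4⟩, ⟨-3, 5⟩, ⟨-8, 7⟩, ⟨-5, 4⟩, ⟨-9, 4⟩]),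
    (973803890936956077274992460693570, ![⟨0, 1⟩, ⟨0, -1⟩, ⟨0, 0⟩, ⟨0, 0⟩, ⟨0, -1⟩, ⟨1, -1⟩, ⟨1, -1⟩, ⟨2, 0⟩, ⟨0, 0⟩, ⟨1, -1⟩, ⟨3, 0⟩, ⟨3, 3⟩, ⟨2, 0⟩, ⟨2, 1⟩, ⟨3, 1⟩, ⟨3, 4⟩, ⟨4, 2⟩, ⟨5, 10⟩, ⟨3, 2⟩, ⟨3, 15⟩, ⟨4, 14⟩, ⟨-7, 17⟩, ⟨-5, 21⟩, ⟨-26, 16⟩, ⟨-13, 25⟩, ⟨-43, 35⟩, ⟨-31, 17⟩, ⟨-38, 15⟩]),
    (62119869937246853898831897297668, ![⟨0, -1⟩, ⟨0, 0⟩, ⟨-1, 0⟩, ⟨0, -1⟩, ⟨0, -1⟩, ⟨2, -2⟩, ⟨0, -2⟩, ⟨4, -2⟩, ⟨0, -1⟩, ⟨0, -1⟩, ⟨6, 0⟩, ⟨5, 3⟩, ⟨3, -2⟩, ⟨5, 1⟩, ⟨5, -2⟩, ⟨10, 5⟩, ⟨7, -2⟩, ⟨16, 14⟩, ⟨8, 0⟩, ⟨17, 23⟩, ⟨20, 21⟩, ⟨1, 40⟩, ⟨9, 42⟩, ⟨-36, 49⟩, ⟨-2, 55⟩, ⟨-48, 97⟩, ⟨-43, 54⟩, ⟨-54, 58⟩]),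
    (405649159455470791544914173755412, ![⟨0, -1⟩, ⟨1, 0⟩, ⟨0, 0⟩, ⟨1, 0⟩, ⟨0, 0⟩, ⟨2, 0⟩, ⟨1, 1⟩, ⟨2, 2⟩, ⟨0, 1⟩, ⟨0, 1⟩, ⟨1, 4⟩, ⟨-2, 3⟩, ⟨2, 3⟩, ⟨0, 4⟩, ⟨0, 3⟩, ⟨-6, 7⟩, ⟨1, 5⟩, ⟨-11, 11⟩, ⟨-2, 6⟩, ⟨-19, 13⟩, ⟨-17, 12⟩, ⟨-27, -1⟩, ⟨-29, 2⟩, ⟨-31, -27⟩, ⟨-38, -5⟩, ⟨-66, -39⟩, ⟨-34, -32⟩, ⟨-34, -42⟩]),
    (24095284357188723466569259360320, ![⟨0, 0⟩, ⟨0, -1⟩, ⟨0, 0⟩, ⟨1, 0⟩, ⟨-1, 0⟩, ⟨1, 0⟩, ⟨1, 0⟩, ⟨2, 1⟩, ⟨0, 0⟩, ⟨1, -1⟩, ⟨1, 2⟩, ⟨0, 3⟩, ⟨2, 0⟩, ⟨1, 1⟩, ⟨2, 1⟩, ⟨1, 4⟩, ⟨3, 3⟩, ⟨0, 9⟩, ⟨1, 3⟩, ⟨-3, 13⟩, ⟨-1, 11⟩, ⟨-11, 9⟩, ⟨-11, 14⟩, ⟨-22, 3⟩, ⟨-19, 14⟩, ⟨-43, 10⟩, ⟨-28, 1⟩, ⟨-33, -3⟩]),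
    (5170566285815450362575058961410, ![⟨0, 1⟩, ⟨0, 0⟩, ⟨0, -1⟩, ⟨0, 0⟩, ⟨1, 0⟩, ⟨0, 1⟩, ⟨1, 0⟩, ⟨0, 1⟩, ⟨0, 1⟩, ⟨0, 0⟩, ⟨0, 1⟩, ⟨0, 1⟩, ⟨0, 1⟩, ⟨-1, 2⟩, ⟨0, 3⟩, ⟨-3, 3⟩, ⟨-1, 2⟩, ⟨-7, 3⟩, ⟨-1, 2⟩, ⟨-9, 2⟩, ⟨-10, 4⟩, ⟨-13, -5⟩, ⟨-15, -4⟩, ⟨-11, -20⟩, ⟨-17, -9⟩, ⟨-25, -29⟩, ⟨-10, -21⟩, ⟨-10, -26⟩]),
    (41843341980249191937683003556096, ![⟨0, 0⟩, ⟨0, 0⟩, ⟨1, 0⟩, ⟨0, 0⟩, ⟨0, -1⟩, ⟨0, 0⟩, ⟨1, 0⟩, ⟨1, 1⟩, ⟨0, 0⟩, ⟨1, 1⟩, ⟨1, 1⟩, ⟨-1, 2⟩, ⟨1, 1⟩, ⟨1, 1⟩, ⟨1, 1⟩, ⟨0, 4⟩, ⟨1, 3⟩, ⟨-1, 7⟩, ⟨0, 3⟩, ⟨-5, 9⟩, ⟨-5, 8⟩, ⟨-11, 5⟩, ⟨-13, 7⟩, ⟨-19, -4⟩, ⟨-17, 5⟩, ⟨-35, -3⟩, ⟨-21, -6⟩, ⟨-24, -11⟩]),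
    (1019354878733873822530526850859555, ![⟨-1, 0⟩, ⟨0, 1⟩, ⟨0, 1⟩, ⟨-2, 0⟩, ⟨0, 0⟩, ⟨-2, -1⟩, ⟨-2, 0⟩, ⟨-3, -4⟩, ⟨0, 0⟩, ⟨-1, 1⟩, ⟨-1, -5⟩, ⟨1, -5⟩, ⟨-3, -1⟩, ⟨-1, -4⟩, ⟨-4, -3⟩, ⟨1, -10⟩, ⟨-4, -7⟩, ⟨7, -18⟩, ⟨-1, -7⟩, ⟨15, -23⟩, ⟨11, -22⟩, ⟨32, -11⟩, ⟨33, -20⟩, ⟨49, 15⟩, ⟨48, -15⟩, ⟨95, 11⟩, ⟨58, 19⟩, ⟨65, 30⟩]),
    (1379219327374421477609368233971776, ![⟨0, 0⟩, ⟨0, -1⟩, ⟨0, 0⟩, ⟨1, -1⟩, ⟨0, 0⟩, ⟨1, 0⟩, ⟨1, 0⟩, ⟨2, 1⟩, ⟨0, 0⟩, ⟨0, 0⟩, ⟨2, 2⟩, ⟨0, 3⟩, ⟨1, 0⟩, ⟨0, 1⟩, ⟨2, 1⟩, ⟨0, 4⟩, ⟨2, 3⟩, ⟨-1, 8⟩, ⟨1, 3⟩, ⟨-3, 11⟩, ⟨-3, 9⟩, ⟨-12, 7⟩, ⟨-11, 11⟩, ⟨-21, -2⟩, ⟨-17, 11⟩, ⟨-40, 4⟩, ⟨-25, -2⟩, ⟨-29, -6⟩]),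
    (733023969380605307893081946915104, ![⟨0, 0⟩, ⟨0, 1⟩, ⟨1, 0⟩, ⟨0, 1⟩, ⟨-1, 0⟩, ⟨-1, 0⟩, ⟨-1, 1⟩, ⟨-2, 0⟩, ⟨0, 1⟩, ⟨0, 1⟩, ⟨-3, -1⟩, ⟨-2, -3⟩, ⟨-1, 1⟩, ⟨-2, -1⟩, ⟨-3, 0⟩, ⟨-5, -3⟩, ⟨-3, 0⟩, ⟨-5, -9⟩, ⟨-4, 0⟩, ⟨-5, -12⟩, ⟨-8, -12⟩, ⟨4, -18⟩, ⟨0, -22⟩, ⟨23, -18⟩, ⟨7, -27⟩, ⟨34, -40⟩, ⟨28, -21⟩, ⟨34, -22⟩]),
    (694916483223993178065609160654848, ![⟨0, 0⟩, ⟨0, 0⟩, ⟨0, 0⟩, ⟨0, 0⟩, ⟨0, 0⟩, ⟨0, 0⟩, ⟨0, 0⟩, ⟨0, 0⟩, ⟨0, 1⟩, ⟨-1, 0⟩, ⟨-1, 0⟩, ⟨0, -1⟩, ⟨0, 0⟩, ⟨0, 0⟩, ⟨0, 0⟩, ⟨-1, 0⟩, ⟨-1, -1⟩, ⟨-2, -1⟩, ⟨-1, -1⟩, ⟨-2, -2⟩, ⟨-1, -2⟩, ⟨0, -3⟩, ⟨0, -5⟩, ⟨4, -5⟩, ⟨1, -5⟩, ⟨5, -8⟩, ⟨5, -4⟩, ⟨7, -5⟩]),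
    (1014130386277787733263786809824000, ![⟨0, 0⟩, ⟨0, 0⟩, ⟨-1, 0⟩, ⟨0, -1⟩, ⟨1, 0⟩, ⟨1, 0⟩, ⟨1, -1⟩, ⟨2, 0⟩, ⟨1, 0⟩, ⟨0, 0⟩, ⟨2, 2⟩, ⟨0, 2⟩, ⟨1, 0⟩, ⟨2, 2⟩, ⟨2, 1⟩, ⟨3, 5⟩, ⟨3, 0⟩, ⟨1, 10⟩, ⟨4, 2⟩, ⟨0, 12⟩, ⟨1, 14⟩, ⟨-12, 15⟩, ⟨-10, 18⟩, ⟨-29, 5⟩, ⟨-17, 19⟩, ⟨-46, 20⟩, ⟨-31, 5⟩, ⟨-38, 4⟩]),
    (650325802992196945228550287590160, ![⟨0, 0⟩, ⟨1, 0⟩, ⟨-1, 0⟩, ⟨0, 0⟩, ⟨-1, 0⟩, ⟨0, 0⟩, ⟨0, 0⟩, ⟨0, -1⟩, ⟨0, 1⟩, ⟨-1, 1⟩, ⟨-1, -1⟩, ⟨-1, -2⟩, ⟨0, 0⟩, ⟨0, 0⟩, ⟨0, 0⟩, ⟨-1, -1⟩, ⟨-1, -1⟩, ⟨-1, -3⟩, ⟨-1, -1⟩, ⟨0, -4⟩, ⟨-1, -3⟩, ⟨3, -4⟩, ⟨1, -6⟩, ⟨7, -4⟩, ⟨4, -7⟩, ⟨11, -7⟩, ⟨11, -5⟩, ⟨12, -4⟩]),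
    (995344028282979881723335175835649, ![⟨1, 0⟩, ⟨0, 0⟩, ⟨0, 0⟩, ⟨1, 0⟩, ⟨0, 0⟩, ⟨1, 1⟩, ⟨0, 1⟩, ⟨0, 3⟩, ⟨0, 0⟩, ⟨0, 0⟩, ⟨-1, 3⟩, ⟨-2, 1⟩, ⟨-1, 1⟩, ⟨-2, 1⟩, ⟨0, 1⟩, ⟨-4, 1⟩, ⟨-1, 4⟩, ⟨-8, 2⟩, ⟨-3, 2⟩, ⟨-12, 0⟩, ⟨-11, -1⟩, ⟨-12, -10⟩, ⟨-14, -7⟩, ⟨-5, -22⟩, ⟨-16, -12⟩, ⟨-17, -38⟩, ⟨-7, -24⟩, ⟨-6, -29⟩]),
    (324691942946860006973324452376624, ![⟨0, 0⟩, ⟨-1, 0⟩, ⟨0, 0⟩, ⟨-1, 0⟩, ⟨-1, 0⟩, ⟨-1, -2⟩, ⟨-2, -2⟩, ⟨0, -5⟩, ⟨0, 0⟩, ⟨-1, 0⟩, ⟨2, -5⟩, ⟨5, -3⟩, ⟨0, -4⟩, ⟨3, -4⟩, ⟨2, -5⟩, ⟨9, -5⟩, ⟨2, -7⟩, ⟨20, -7⟩, ⟨4, -5⟩, ⟨29, -2⟩, ⟨26, -4⟩, ⟨30, 19⟩, ⟨36, 14⟩, ⟨19, 51⟩, ⟨42, 28⟩, ⟨52, 87⟩, ⟨22, 58⟩, ⟨19, 70⟩]),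
    (24090352020126218290461029773328, ![⟨0, 0⟩, ⟨1, 0⟩, ⟨0, 0⟩, ⟨0, 1⟩, ⟨1, 0⟩, ⟨0, 1⟩, ⟨0, 2⟩, ⟨-2, 2⟩, ⟨-1, 0⟩, ⟨0, 0⟩, ⟨-2, 1⟩, ⟨-2, 0⟩, ⟨-1, 2⟩, ⟨-2, 1⟩, ⟨-2, 3⟩, ⟨-6, -1⟩, ⟨-4, 2⟩, ⟨-11, -4⟩, ⟨-4, 0⟩, ⟨-14, -8⟩, ⟨-12, -6⟩, ⟨-7, -17⟩, ⟨-10, -18⟩, ⟨8, -27⟩, ⟨-9, -26⟩, ⟨4, -54⟩, ⟨8, -32⟩, ⟨17, -35⟩]),
    (82402884075234196449416147378432, ![⟨0, 0⟩, ⟨0, 0⟩, ⟨1, 0⟩, ⟨1, 1⟩, ⟨0, -1⟩, ⟨1, 0⟩, ⟨1, 1⟩, ⟨1, 3⟩, ⟨0, 0⟩, ⟨1, 1⟩, ⟨0, 3⟩, ⟨-2, 2⟩, ⟨1, 2⟩, ⟨-1, 2⟩, ⟨1, 2⟩, ⟨-4, 5⟩, ⟨0, 6⟩, ⟨-8, 8⟩, ⟨-2, 5⟩, ⟨-14, 9⟩, ⟨-13, 7⟩, ⟨-19, -3⟩, ⟨-23, 0⟩, ⟨-21, -20⟩, ⟨-29, -6⟩, ⟨-46, -33⟩, ⟨-25, -24⟩, ⟨-25, -35⟩]),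
    (15494802230000777041608315715, ![⟨-1, 0⟩, ⟨0, -1⟩, ⟨-1, 0⟩, ⟨0, -2⟩, ⟨0, 1⟩, ⟨1, -1⟩, ⟨0, -2⟩, ⟨2, -3⟩, ⟨1, 0⟩, ⟨1, 0⟩, ⟨4, -1⟩, ⟨3, 2⟩, ⟨2, -2⟩, ⟨3, 0⟩, ⟨3, -1⟩, ⟨7, 4⟩, ⟨5, -3⟩, ⟨11, 8⟩, ⟨7, 0⟩, ⟨15, 13⟩, ⟨15, 15⟩, ⟨3, 27⟩, ⟨8, 29⟩, ⟨-23, 34⟩, ⟨2, 38⟩, ⟨-27, 72⟩, ⟨-25, 38⟩, ⟨-35, 42⟩]),
    (29710560942849126597578981376, ![⟨0, 0⟩, ⟨0, 0⟩, ⟨0, 0⟩, ⟨0, 0⟩, ⟨0, 0⟩, ⟨0, 0⟩, ⟨0, 0⟩, ⟨0, 0⟩, ⟨0, 0⟩, ⟨0, 0⟩, ⟨0, 0⟩, ⟨0, 0⟩, ⟨0, 0⟩, ⟨0, 0⟩, ⟨0, 0⟩, ⟨0, 0⟩, ⟨0, 0⟩, ⟨0, 0⟩, ⟨0, 0⟩, ⟨0, 0⟩, ⟨0, 0⟩, ⟨0, 0⟩, ⟨0, 0⟩, ⟨0, 1⟩, ⟨0, 0⟩, ⟨0, 0⟩, ⟨0, 0⟩, ⟨0, 0⟩]),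
    (61084935060067601611082717790784, ![⟨0, 0⟩, ⟨0, -1⟩, ⟨0, 1⟩, ⟨0, 0⟩, ⟨1, 0⟩, ⟨1, 0⟩, ⟨1, 1⟩, ⟨0, 2⟩, ⟨1, 0⟩, ⟨0, 1⟩, ⟨0, 3⟩, ⟨-2, 2⟩, ⟨0, 2⟩, ⟨-1, 2⟩, ⟨0, 2⟩, ⟨-4, 3⟩, ⟨-1, 3⟩, ⟨-9, 6⟩, ⟨-1, 3⟩, ⟨-13, 4⟩, ⟨-11, 5⟩, ⟨-16, -4⟩, ⟨-18, -2⟩, ⟨-17, -21⟩, ⟨-23, -8⟩, ⟨-35, -33⟩, ⟨-20, -25⟩, ⟨-17, -31⟩]),
    (329589237058033875598184630386960, ![⟨0, 0⟩, ⟨1, 0⟩, ⟨1, 0⟩, ⟨1, 1⟩, ⟨-1, 0⟩, ⟨0, 1⟩, ⟨1, 2⟩, ⟨-1, 3⟩, ⟨0, 1⟩, ⟨1, 1⟩, ⟨-3, 3⟩, ⟨-5, 1⟩, ⟨0, 3⟩, ⟨-3, 1⟩, ⟨-3, 3⟩, ⟨-9, 1⟩, ⟨-3, 5⟩, ⟨-15, -1⟩, ⟨-5, 4⟩, ⟨-21, -4⟩, ⟨-22, -4⟩, ⟨-17, -23⟩, ⟨-24, -21⟩, ⟨1, -43⟩, ⟨-24, -33⟩, ⟨-16, -79⟩, ⟨1, -50⟩, ⟨7, -59⟩]),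
    (649275102729731448114299172761648, ![⟨0, 0⟩, ⟨-1, 0⟩, ⟨0, 0⟩, ⟨-1, 0⟩, ⟨-1, 0⟩, ⟨-1, -1⟩, ⟨-2, -1⟩, ⟨-1, -4⟩, ⟨0, 1⟩, ⟨-1, 0⟩, ⟨0, -5⟩, ⟨4, -4⟩, ⟨-1, -3⟩, ⟨1, -4⟩, ⟨0, -4⟩, ⟨5, -6⟩, ⟨0, -6⟩, ⟨13, -11⟩, ⟨2, -5⟩, ⟨22, -9⟩, ⟨19, -10⟩, ⟨28, 7⟩, ⟨32, 0⟩, ⟨29, 34⟩, ⟨40, 10⟩, ⟨63, 53⟩, ⟨33, 39⟩, ⟨35, 49⟩]),
    (171207997922955055087938, ![⟨0, 1⟩, ⟨0, -1⟩, ⟨1, 0⟩, ⟨0, 0⟩, ⟨0, 0⟩, ⟨0, 0⟩, ⟨1, 0⟩, ⟨0, 1⟩, ⟨0, -1⟩, ⟨2, -1⟩, ⟨1, 0⟩, ⟨1, 3⟩, ⟨1, 0⟩, ⟨0, 0⟩, ⟨1, 1⟩, ⟨1, 2⟩, ⟨2, 2⟩, ⟨1, 4⟩, ⟨2, 1⟩, ⟨0, 6⟩, ⟨1, 7⟩, ⟨-4, 6⟩, ⟨-4, 10⟩, ⟨-12, 6⟩, ⟨-8, 10⟩, ⟨-21, 12⟩, ⟨-17, 5⟩, ⟨-19, 4⟩])]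

set_option maxRecDepth 1000000 in
theorem colsC : colsOK dC = true := by decide +kernel

set_option maxRecDepth 1000000 in
theorem lattC : lattOK dC := by decide +kernel

end Cfsg.Agent.Lib.Helper9.RuGen
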