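import Cfsg.Agent.Lib.Helper9.RuGenF

set_option autoImplicit false

/-!
# Automorphisms of the Rudvalis lattice: the generator D (generated)
-/

namespace Cfsg.Agent.Lib.Helper9.RuGen

open Cfsg.Spor Cfsg.Agent.Lib.Helper9.RuAut

/-- the data of the generator D -/
def dD : GenData where
  cols := [5, 1301883046650519133479909462115088, 385365844134339726230827429806128, 82407562485399414349422533808640, 692226691953003089683907442900992, 1360506940061311670730921307275584, 1506012252474379050262889247488, 5155401369184975007320077512736, 2773006258927565053094781001776, 60937598434487219625179511784512, 1298312212234240846559328107315264, 1343887976993295179490545170121232, 5402371702186687866887390368512, 715207497715143615746573368034320,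 20525355501644343331556315628608, 973799598330575220235377756348672, 86215173788364418615063380963376, 1301877188360341481726906518864176, 1358921830457684843575652731003904, 15844277459283799106670100480, 63402686735016257439226763887360, 1054695207982358252386084156683008, 45635732533550234976033176621104, 1034402969802069456966581420834832, 1015467358945329704021246785683456, 1298154066602866439427908567306288, 1298407262830882439514317242245888, 367871271872678591104717460603168]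
  sps := [
    [(0, row5)],
    [(4, row1), (8, row3), (20, row2), (28, row4), (32, row3), (36, row2), (40, row2), (44, row1), (52, row1), (56, row2), (64, row3), (68, row3), (88, row3), (92, row1), (100, row3), (108, row4)],
    [(4, row3), (12, row4), (20, row1), (24, row3), (36, row2), (44, row4), (48, row3), (52, row2), (56, row2), (60, row1), (68, row1), (72, row2), (80, row3), (84, row3), (104, row3), (108, row1)],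
    [(8, row2), (12, row1), (24, row3), (28, row3), (32, row4), (40, row2), (48, row1), (60, row4), (64, row3), (72, row4), (80, row2), (84, row3), (88, row1), (92, row2), (100, row1), (104, row4)],
    [(32, row2), (36, row2), (40, row1), (44, row2), (64, row3), (68, row4), (72, row3), (76, row1), (80, row3), (84, row1), (88, row1), (92, row2), (96, row1), (100, row2), (104, row2), (108, row2)],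
    [(4, row4), (8, row1), (24, row3), (28, row4), (40, row4), (44, row2), (48, row1), (56, row1), (64, row4), (76, row1), (80, row4), (88, row3), (96, row4), (100, row1), (104, row3), (108, row4)],
    [(8, row3), (12, row3), (20, row3), (28, row2), (36, row1), (40, row1), (52, row2), (60, row2), (64, row4), (68, row3), (72, row3), (76, row2), (84, row3), (88, row2), (96, row3), (100, row1)],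
    [(4, row2), (12, row3), (20, row2), (24, row4), (32, row1), (40, row2), (48, row4), (52, row3), (56, row1), (60, row4), (64, row1), (76, row1), (88, row2), (92, row1), (96, row1), (100, row4)],
    [(4, row3), (12, row2), (16, row4), (28, row1), (36, row1), (44, row1), (48, row4), (52, row2), (56, row2), (60, row4), (68, row1), (72, row4), (80, row1), (84, row1), (96, row3), (100, row2)],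
    [(4, row4), (8, row4), (16, row4), (24, row1), (32, row1), (36, row1), (40, row2), (44, row4), (52, row1), (56, row4), (64, row4), (68, row2), (88, row4), (92, row2), (96, row1), (104, row3)],
    [(4, row4), (12, row4), (16, row1), (20, row2), (24, row1), (28, row4), (36, row4), (40, row1), (56, row3), (60, row4), (64, row1), (68, row4), (80, row3), (88, row1), (96, row3), (108, row4)],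
    [(4, row1), (8, row2), (16, row4), (20, row4), (32, row1), (36, row2), (48, row1), (56, row3), (68, row1), (72, row3), (84, row4), (92, row4), (96, row2), (100, row4), (104, row2), (108, row4)],
    [(8, row3), (12, row1), (20, row1), (28, row2), (32, row2), (44, row1), (52, row4), (60, row4), (64, row4), (68, row4), (72, row2), (76, row2), (80, row1), (92, row3), (96, row4), (100, row4)],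
    [(4, row1), (8, row4), (24, row4), (28, row3), (32, row4), (36, row1), (48, row2), (56, row2), (64, row2), (76, row1), (84, row1), (92, row3), (96, row3), (100, row4), (104, row3), (108, row2)],
    [(4, row4), (8, row4), (20, row1), (28, row1), (32, row4), (36, row2), (40, row3), (44, row3), (52, row4), (56, row1), (72, row3), (76, row2), (88, row1), (92, row1), (96, row3), (104, row1)],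
    [(8, row1), (12, row2), (24, row4), (28, row2), (32, row2), (40, row2), (48, row2), (60, row1), (68, row4), (76, row4), (80, row4), (84, row3), (88, row4), (92, row1), (96, row3), (108, row3)],
    [(4, row3), (12, row3), (16, row3), (20, row2), (24, row2), (28, row1), (36, row2), (40, row1), (48, row2), (52, row4), (72, row4), (76, row4), (84, row4), (92, row3), (100, row4), (104, row4)],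
    [(4, row3), (8, row1), (16, row2), (24, row3), (32, row1), (36, row4), (40, row2), (44, row1), (48, row2), (60, row2), (72, row3), (76, row2), (80, row2), (84, row1), (100, row3), (108, row4)],
    [(8, row4), (12, row2), (16, row3), (24, row3), (32, row2), (44, row3), (48, row4), (56, row3), (64, row2), (68, row3), (72, row1), (76, row2), (84, row4), (88, row1), (104, row3), (108, row4)],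
    [(16, row1), (20, row1), (24, row4), (28, row1), (48, row4), (52, row1), (56, row4), (60, row2), (64, row2), (68, row4), (72, row4), (76, row1), (80, row2), (84, row3), (88, row3), (92, row3)],
    [(8, row3), (12, row4), (16, row3), (20, row2), (32, row1), (40, row3), (48, row1), (60, row2), (68, row4), (76, row4), (80, row1), (84, row2), (88, row1), (92, row4), (100, row2), (104, row3)],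
    [(8, row3), (12, row3), (16, row1), (24, row3), (32, row1), (44, row2), (52, row1), (60, row3), (64, row2), (68, row1), (72, row2), (76, row3), (80, row4), (92, row2), (104, row4), (108, row3)],
    [(4, row3), (12, row1), (16, row1), (20, row3), (24, row4), (28, row4), (36, row2), (40, row1), (56, row1), (60, row2), (72, row1), (76, row3), (80, row1), (88, row1), (100, row4), (104, row2)],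
    [(4, row1), (12, row4), (16, row4), (28, row1), (36, row4), (44, row2), (48, row3), (52, row3), (56, row1), (60, row1), (64, row3), (76, row3), (80, row2), (84, row4), (104, row3), (108, row3)],
    [(16, row1), (20, row2), (24, row3), (28, row1), (32, row3), (36, row1), (40, row3), (44, row4), (48, row2), (52, row3), (56, row3), (60, row3), (96, row1), (100, row1), (104, row2), (108, row3)],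
    [(4, row3), (12, row1), (16, row4), (20, row1), (24, row1), (28, row2), (32, row4), (44, row2), (48, row2), (52, row2), (64, row2), (68, row3), (80, row4), (88, row2), (96, row1), (108, row4)],
    [(8, row3), (12, row2), (16, row4), (20, row3), (36, row3), (44, row4), (52, row3), (56, row1), (64, row2), (72, row3), (80, row3), (84, row2), (88, row4), (92, row3), (96, row4), (108, row4)],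
    [(4, row2), (8, row1), (16, row4), (20, row2), (40, row2), (44, row2), (52, row4), (60, row3), (68, row2), (72, row2), (84, row3), (92, row3), (96, row3), (100, row2), (104, row2), (108, row1)]]
  gimg := [(1379203873615404911797253378737156, 996541770320982745887596343214084), (328341316202668049410485037319202, 370482089823348344084258868965650), (1036007631387749794450093075595264, 45640450909631058266080010178608), (1039632879399520133199024884039682, 81213820769315278064963490562322), (322359379526401050808851, 61174046266401699929396061737747), (44383906617349192278000233611298, 344817056501778554480046974764034), (63402999695690116033927812743234, 41853283892872560486449752965186), (973809462871313408465860405755972,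 81446575488743481253554801356804), (405649159455470791544914173755412, 2853181303514099241173221638164), (324618269562659232553263955190528, 41848333408583320200206060888320), (1298243542847577189818342041452578, 1300610792762356850925632789550098), (692237250852155409042702558298112, 385385899014799877067338061721664), (41848641760516959855375953166387, 22837890346187761818570898538547), (1381824652061477335285561148047360, 5902132042548838864479584256), (346401044596782782467337365749760, 346401044596782782467337365749760), (386808065144185091419217181278208, 40723338397378614170328910266912), (1038384435310778691679235614965760, 973714427995443393714766335852608), (735405785651221689341400150442784, 81446572826232616796018025955872),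 (231732687603804940547121, 45655248152218417420044341543937), (41837792722156373011146159100416, 5388192295638818750413081219328), (81303878640420079126855964230688, 11183859019135206105785958400), (694925731345325580262721600880640, 324855292692571104882055606054960), (973640171161669300764533613133843, 1034402910564705516025977341215491), (39614081257132168796771975168, 689601985912679485975355375956032), (141976867225561692967630759002112, 649201212957033415574431848349952), (1622592768292133633915780102881280, 367871271872678591104717460603168), (6338253001141147007483516026880, 1298154066602866439427908567306288), (171207997922955055087938, 61007000523426971093420100043570)]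
  mem := [
    (996541770320982745887596343214084, ![⟨0, -1⟩, ⟨0, 0⟩, ⟨0, 0⟩, ⟨0, -1⟩, ⟨0, 0⟩, ⟨1, -1⟩, ⟨1, 0⟩, ⟨3, 0⟩, ⟨1, 0⟩, ⟨1, 1⟩, ⟨3, 2⟩, ⟨0, 3⟩, ⟨2, 0⟩, ⟨2, 2⟩, ⟨2, 0⟩, ⟨3, 7⟩, ⟨4, 2⟩, ⟨2, 12⟩, ⟨3, 5⟩, ⟨0, 18⟩, ⟨-1, 17⟩, ⟨-15, 18⟩, ⟨-14, 21⟩, ⟨-35, 7⟩, ⟨-22, 22⟩, ⟨-58, 23⟩, ⟨-38, 5⟩, ⟨-46, 2⟩]),
    (370482089823348344084258868965650, ![⟨0, 1⟩, ⟨1, 0⟩, ⟨1, 0⟩, ⟨0, 2⟩, ⟨0, 0⟩, ⟨-1, 2⟩, ⟨0, 2⟩, ⟨-4, 3⟩, ⟨0, 0⟩, ⟨1, 1⟩, ⟨-5, 1⟩, ⟨-5, -1⟩, ⟨-2, 3⟩, ⟨-4, 0⟩, ⟨-4, 3⟩, ⟨-10, -3⟩, ⟨-7, 4⟩, ⟨-17, -9⟩, ⟨-7, 1⟩, ⟨-21, -17⟩, ⟨-21, -13⟩, ⟨-8, -33⟩, ⟨-17, -34⟩, ⟨19, -47⟩, ⟨-11, -49⟩, ⟨20, -94⟩, ⟨23, -56⟩, ⟨35, -62⟩]),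
    (45640450909631058266080010178608, ![⟨0, 0⟩, ⟨-1, 0⟩, ⟨0, 0⟩, ⟨0, -1⟩, ⟨0, 1⟩, ⟨0, -1⟩, ⟨0, -1⟩, ⟨1, -2⟩, ⟨0, 0⟩, ⟨-1, -1⟩, ⟨2, -1⟩, ⟨3, 0⟩, ⟨1, -1⟩, ⟨1, 1⟩, ⟨1, -1⟩, ⟨2, 1⟩, ⟨3, -3⟩, ⟨6, 2⟩, ⟨3, -2⟩, ⟨8, 4⟩, ⟨8, 3⟩, ⟨5, 10⟩, ⟨10, 10⟩, ⟨-1, 17⟩, ⟨8, 17⟩, ⟨0, 35⟩, ⟨-3, 23⟩, ⟨-7, 25⟩]),
    (81213820769315278064963490562322, ![⟨0, 1⟩, ⟨1, 0⟩, ⟨1, 0⟩, ⟨0, 1⟩, ⟨0, 1⟩, ⟨-1, 2⟩, ⟨0, 2⟩, ⟨-4, 3⟩, ⟨0, 0⟩, ⟨1, 1⟩, ⟨-5, 1⟩, ⟨-5, -1⟩, ⟨-1, 3⟩, ⟨-4, 1⟩, ⟨-4, 4⟩, ⟨-11, -1⟩, ⟨-6, 3⟩, ⟨-18, -8⟩, ⟨-7, 1⟩, ⟨-23, -16⟩, ⟨-23, -11⟩, ⟨-11, -34⟩, ⟨-19, -34⟩, ⟨17, -51⟩, ⟨-13, -49⟩, ⟨15, -96⟩, ⟨22, -59⟩, ⟨32, -64⟩]),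
    (61174046266401699929396061737747, ![⟨-1, 0⟩, ⟨1, 0⟩, ⟨-1, 0⟩, ⟨0, -1⟩, ⟨1, 0⟩, ⟨1, 0⟩, ⟨1, 0⟩, ⟨1, 0⟩, ⟨0, 0⟩, ⟨0, 0⟩, ⟨2, 2⟩, ⟨0, 2⟩, ⟨1, 1⟩, ⟨1, 2⟩, ⟨0, 2⟩, ⟨0, 3⟩, ⟨1, 0⟩, ⟨-2, 7⟩, ⟨2, 1⟩, ⟨-4, 7⟩, ⟨-2, 8⟩, ⟨-9, 7⟩, ⟨-8, 8⟩, ⟨-18, -2⟩, ⟨-14, 8⟩, ⟨-32, 2⟩, ⟨-20, -2⟩, ⟨-22, -4⟩]),
    (344817056501778554480046974764034, ![⟨0, 1⟩, ⟨0, 0⟩, ⟨0, -1⟩, ⟨0, 0⟩, ⟨1, 0⟩, ⟨0, 1⟩, ⟨1, 0⟩, ⟨0, 1⟩, ⟨-1, 0⟩, ⟨0, -1⟩, ⟨0, 0⟩, ⟨1, 1⟩, ⟨0, 0⟩, ⟨0, 1⟩, ⟨0, 2⟩, ⟨-1, 1⟩, ⟨0, 1⟩, ⟨-2, 1⟩, ⟨0, 0⟩, ⟨-3, 1⟩, ⟨-3, 2⟩, ⟨-5, -2⟩, ⟨-5, -1⟩, ⟨-4, -7⟩, ⟨-6, -2⟩, ⟨-10, -9⟩, ⟨-4, -6⟩, ⟨-4, -7⟩]),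
    (41853283892872560486449752965186, ![⟨0, 1⟩, ⟨0, -1⟩, ⟨0, 0⟩, ⟨0, 0⟩, ⟨0, 1⟩, ⟨0, 0⟩, ⟨0, 0⟩, ⟨-1, 0⟩, ⟨1, 0⟩, ⟨1, 0⟩, ⟨0, 0⟩, ⟨0, 1⟩, ⟨1, -1⟩, ⟨0, 0⟩, ⟨1, 1⟩, ⟨0, 2⟩, ⟨-1, 1⟩, ⟨-1, 2⟩, ⟨0, 1⟩, ⟨-1, 3⟩, ⟨0, 4⟩, ⟨-3, 1⟩, ⟨-5, 3⟩, ⟨-7, -1⟩, ⟨-7, 2⟩, ⟨-11, 1⟩, ⟨-8, -4⟩, ⟨-9, -5⟩]),
    (81446575488743481253554801356804, ![⟨0, -1⟩, ⟨0, 0⟩, ⟨0, 0⟩, ⟨0, 0⟩, ⟨0, 0⟩, ⟨1, -1⟩, ⟨0, 0⟩, ⟨1, 0⟩, ⟨1, 0⟩, ⟨1, 1⟩, ⟨2, 1⟩, ⟨0, 1⟩, ⟨1, 0⟩, ⟨2, 1⟩, ⟨1, -1⟩, ⟨2, 4⟩, ⟨2, 1⟩, ⟨2, 7⟩, ⟨2, 2⟩, ⟨1, 10⟩, ⟨2, 9⟩, ⟨-5, 12⟩, ⟨-5, 13⟩, ⟨-18, 9⟩, ⟨-10, 15⟩, ⟨-28, 21⟩, ⟨-21, 8⟩, ⟨-25, 5⟩]),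
    (2853181303514099241173221638164, ![⟨0, -1⟩, ⟨1, 0⟩, ⟨0, 0⟩, ⟨1, 0⟩, ⟨0, 0⟩, ⟨2, 1⟩, ⟨1, 1⟩, ⟨1, 3⟩, ⟨-1, 0⟩, ⟨0, 0⟩, ⟨0, 4⟩, ⟨-2, 3⟩, ⟨1, 3⟩, ⟨-1, 4⟩, ⟨0, 3⟩, ⟨-7, 4⟩, ⟨0, 4⟩, ⟨-12, 7⟩, ⟨-2, 4⟩, ⟨-20, 6⟩, ⟨-16, 7⟩, ⟨-23, -6⟩, ⟨-24, -3⟩, ⟨-21, -29⟩, ⟨-32, -11⟩, ⟨-50, -46⟩, ⟨-25, -33⟩, ⟨-21, -41⟩]),
    (41848333408583320200206060888320, ![⟨0, 0⟩, ⟨0, 0⟩, ⟨1, 0⟩, ⟨1, 1⟩, ⟨0, 0⟩, ⟨0, 1⟩, ⟨0, 1⟩, ⟨-1, 2⟩, ⟨0, 0⟩, ⟨0, 0⟩, ⟨-2, 2⟩, ⟨-2, 0⟩, ⟨0, 2⟩, ⟨-2, 1⟩, ⟨-1, 2⟩, ⟨-6, 1⟩, ⟨-2, 3⟩, ⟨-10, 0⟩, ⟨-3, 2⟩, ⟨-13, -3⟩, ⟨-12, -2⟩, ⟨-11, -13⟩, ⟨-14, -12⟩, ⟨-1, -25⟩, ⟨-15, -19⟩, ⟨-11, -46⟩, ⟨-2, -28⟩, ⟨3, -35⟩]),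
    (1300610792762356850925632789550098, ![⟨0, 1⟩, ⟨1, 0⟩, ⟨0, -1⟩, ⟨1, 0⟩, ⟨0, 1⟩, ⟨0, 2⟩, ⟨1, 1⟩, ⟨-1, 3⟩, ⟨0, 0⟩, ⟨1, 0⟩, ⟨-3, 3⟩, ⟨-4, 2⟩, ⟨0, 2⟩, ⟨-3, 2⟩, ⟨-2, 4⟩, ⟨-7, 2⟩, ⟨-2, 4⟩, ⟨-14, 0⟩, ⟨-3, 3⟩, ⟨-19, -4⟩, ⟨-19, 0⟩, ⟨-18, -19⟩, ⟨-24, -15⟩, ⟨-5, -40⟩, ⟨-25, -27⟩, ⟨-22, -68⟩, ⟨-4, -46⟩, ⟨-2, -52⟩]),
    (385385899014799877067338061721664, ![⟨0, 0⟩, ⟨0, -1⟩, ⟨0, 0⟩, ⟨0, 0⟩, ⟨0, 0⟩, ⟨1, 0⟩, ⟨1, 0⟩, ⟨1, 1⟩, ⟨0, 1⟩, ⟨0, 0⟩, ⟨0, 1⟩, ⟨0, 1⟩, ⟨2, 1⟩, ⟨0, 2⟩, ⟨1, 2⟩, ⟨-3, 4⟩, ⟨1, 2⟩, ⟨-5, 6⟩, ⟨0, 2⟩, ⟨-8, 7⟩, ⟨-6, 7⟩, ⟨-12, 1⟩, ⟨-12, 2⟩, ⟨-15, -10⟩, ⟨-17, 0⟩, ⟨-32, -12⟩, ⟨-17, -11⟩, ⟨-16, -17⟩]),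
    (22837890346187761818570898538547, ![⟨-1, 0⟩, ⟨-1, 0⟩, ⟨0, 0⟩, ⟨-1, -1⟩, ⟨0, 0⟩, ⟨-1, -2⟩, ⟨0, -1⟩, ⟨1, -3⟩, ⟨0, -1⟩, ⟨0, -1⟩, ⟨3, -4⟩, ⟨4, -1⟩, ⟨1, -3⟩, ⟨3, -2⟩, ⟨1, -3⟩, ⟨9, -1⟩, ⟨3, -5⟩, ⟨16, 0⟩, ⟨5, -4⟩, ⟨22, 4⟩, ⟨21, 1⟩, ⟨21, 20⟩, ⟨26, 17⟩, ⟨7, 43⟩, ⟨28, 30⟩, ⟨26, 76⟩, ⟨7, 51⟩, ⟨0, 58⟩]),
    (5902132042548838864479584256, ![⟨0, 0⟩, ⟨0, 0⟩, ⟨0, 0⟩, ⟨0, 0⟩, ⟨0, -1⟩, ⟨1, 0⟩, ⟨0, 0⟩, ⟨1, 1⟩, ⟨0, 0⟩, ⟨0, 0⟩, ⟨1, 1⟩, ⟨0, 1⟩, ⟨1, 1⟩, ⟨0, 1⟩, ⟨1, 0⟩, ⟨0, 2⟩, ⟨0, 2⟩, ⟨-1, 5⟩, ⟨0, 1⟩, ⟨-4, 6⟩, ⟨-2, 5⟩, ⟨-6, 4⟩, ⟨-7, 5⟩, ⟨-13, -1⟩, ⟨-10, 4⟩, ⟨-22, 0⟩, ⟨-13, -2⟩, ⟨-15, -5⟩]),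
    (346401044596782782467337365749760, ![⟨0, 0⟩, ⟨0, 0⟩, ⟨0, 0⟩, ⟨0, 0⟩, ⟨0, 0⟩, ⟨0, 0⟩, ⟨0, 0⟩, ⟨0, 0⟩, ⟨-1, 0⟩, ⟨-1, 0⟩, ⟨0, 0⟩, ⟨0, 0⟩, ⟨0, 0⟩, ⟨0, 0⟩, ⟨0, 0⟩, ⟨-1, -1⟩, ⟨0, 0⟩, ⟨0, -1⟩, ⟨-1, 0⟩, ⟨-1, -1⟩, ⟨-1, -3⟩, ⟨1, -3⟩, ⟨2, -3⟩, ⟨5, -2⟩, ⟨2, -3⟩, ⟨6, -5⟩, ⟨5, -1⟩, ⟨6, -1⟩]),
    (40723338397378614170328910266912, ![⟨0, 0⟩, ⟨0, 1⟩, ⟨0, 1⟩, ⟨-1, 1⟩, ⟨0, 0⟩, ⟨-1, 0⟩, ⟨-2, 1⟩, ⟨-4, -1⟩, ⟨0, -1⟩, ⟨0, 1⟩, ⟨-3, -3⟩, ⟨-1, -4⟩, ⟨-3, 0⟩, ⟨-2, -3⟩, ⟨-4, -2⟩, ⟨-2, -9⟩, ⟨-5, -3⟩, ⟨0, -16⟩, ⟨-3, -5⟩, ⟨4, -23⟩, ⟨3, -21⟩, ⟨22, -18⟩, ⟨20, -24⟩, ⟨42, -1⟩, ⟨32, -25⟩, ⟨78, -19⟩, ⟨48, -2⟩, ⟨58, 5⟩]),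
    (973714427995443393714766335852608, ![⟨0, 0⟩, ⟨0, -1⟩, ⟨0, 0⟩, ⟨0, -1⟩, ⟨0, 1⟩, ⟨0, 0⟩, ⟨0, 0⟩, ⟨0, -1⟩, ⟨1, 0⟩, ⟨1, 0⟩, ⟨1, 0⟩, ⟨1, 1⟩, ⟨0, 0⟩, ⟨0, 0⟩, ⟨0, 0⟩, ⟨1, 1⟩, ⟨2, -1⟩, ⟨1, 1⟩, ⟨3, 1⟩, ⟨4, 2⟩, ⟨3, 5⟩, ⟨-1, 7⟩, ⟨1, 8⟩, ⟨-7, 7⟩, ⟨-1, 9⟩, ⟨-9, 16⟩, ⟨-9, 7⟩, ⟨-10, 9⟩]),
    (81446572826232616796018025955872, ![⟨0, 0⟩, ⟨0, 1⟩, ⟨0, 1⟩, ⟨-1, 1⟩, ⟨0, 0⟩, ⟨-2, 1⟩, ⟨-2, 1⟩, ⟨-4, -1⟩, ⟨0, -1⟩, ⟨0, 1⟩, ⟨-4, -3⟩, ⟨-2, -4⟩, ⟨-4, 0⟩, ⟨-3, -4⟩, ⟨-5, -2⟩, ⟨-2, -11⟩, ⟨-6, -3⟩, ⟨-1, -19⟩, ⟨-4, -5⟩, ⟨4, -27⟩, ⟨1, -24⟩, ⟨23, -24⟩, ⟨20, -29⟩, ⟨48, -7⟩, ⟨34, -33⟩, ⟨88, -32⟩, ⟨56, -10⟩, ⟨66, 0⟩]),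
    (45655248152218417420044341543937, ![⟨1, 0⟩, ⟨0, 0⟩, ⟨0, -1⟩, ⟨1, 0⟩, ⟨-1, 0⟩, ⟨0, 0⟩, ⟨0, 0⟩, ⟨1, 1⟩, ⟨1, 0⟩, ⟨1, 0⟩, ⟨0, 1⟩, ⟨-1, 1⟩, ⟨1, 0⟩, ⟨0, 0⟩, ⟨1, 0⟩, ⟨1, 3⟩, ⟨2, 2⟩, ⟨0, 4⟩, ⟨1, 3⟩, ⟨-1, 7⟩, ⟨-2, 7⟩, ⟨-7, 4⟩, ⟨-9, 8⟩, ⟨-13, -1⟩, ⟨-12, 6⟩, ⟨-23, 2⟩, ⟨-14, -3⟩, ⟨-20, -5⟩]),
    (5388192295638818750413081219328, ![⟨0, 0⟩, ⟨0, 0⟩, ⟨1, 0⟩, ⟨1, 0⟩, ⟨1, 0⟩, ⟨1, 1⟩, ⟨2, 1⟩, ⟨1, 4⟩, ⟨0, -1⟩, ⟨1, 0⟩, ⟨0, 5⟩, ⟨-3, 4⟩, ⟨1, 3⟩, ⟨-2, 4⟩, ⟨0, 4⟩, ⟨-6, 6⟩, ⟨0, 7⟩, ⟨-13, 11⟩, ⟨-2, 5⟩, ⟨-22, 9⟩, ⟨-19, 9⟩, ⟨-28, -7⟩, ⟨-31, -1⟩, ⟨-28, -33⟩, ⟨-40, -10⟩, ⟨-63, -53⟩, ⟨-34, -37⟩, ⟨-34, -49⟩]),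
    (11183859019135206105785958400, ![⟨0, 0⟩, ⟨0, 0⟩, ⟨0, 0⟩, ⟨0, 0⟩, ⟨0, 1⟩, ⟨0, 1⟩, ⟨0, 0⟩, ⟨-1, 1⟩, ⟨0, 0⟩, ⟨0, 0⟩, ⟨-2, 1⟩, ⟨-2, 0⟩, ⟨0, 1⟩, ⟨-1, 1⟩, ⟨-1, 1⟩, ⟨-4, 0⟩, ⟨-2, 0⟩, ⟨-7, -2⟩, ⟨-2, 0⟩, ⟨-9, -5⟩, ⟨-8, -3⟩, ⟨-5, -11⟩, ⟨-7, -11⟩, ⟨4, -19⟩, ⟨-6, -16⟩, ⟨2, -33⟩, ⟨6, -21⟩, ⟨9, -23⟩]),
    (324855292692571104882055606054960, ![⟨0, 0⟩, ⟨-1, 0⟩, ⟨0, 0⟩, ⟨-1, 0⟩, ⟨0, 1⟩, ⟨-2, -1⟩, ⟨-2, -1⟩, ⟨-2, -3⟩, ⟨0, 0⟩, ⟨-1, 0⟩, ⟨-1, -4⟩, ⟨2, -4⟩, ⟨-1, -4⟩, ⟨2, -4⟩, ⟨0, -4⟩, ⟨6, -5⟩, ⟨-2, -6⟩, ⟨12, -10⟩, ⟨0, -6⟩, ⟨19, -9⟩, ⟨18, -12⟩, ⟨28, 2⟩, ⟨30, -3⟩, ⟨32, 28⟩, ⟨39, 6⟩, ⟨68, 44⟩, ⟨36, 33⟩, ⟨36, 42⟩]),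
    (1034402910564705516025977341215491, ![⟨-1, 0⟩, ⟨0, 0⟩, ⟨-1, 0⟩, ⟨-1, -1⟩, ⟨0, 0⟩, ⟨-1, -1⟩, ⟨-1, -1⟩, ⟨0, -4⟩, ⟨0, 0⟩, ⟨0, -1⟩, ⟨2, -4⟩, ⟨4, -2⟩, ⟨0, -2⟩, ⟨2, -2⟩, ⟨0, -2⟩, ⟨7, -3⟩, ⟨1, -6⟩, ⟨12, -4⟩, ⟨4, -5⟩, ⟨19, -3⟩, ⟨19, -2⟩, ⟨22, 14⟩, ⟨26, 10⟩, ⟨13, 36⟩, ⟨29, 20⟩, ⟨36, 60⟩, ⟨15, 41⟩, ⟨12, 50⟩]),
    (689601985912679485975355375956032, ![⟨0, 0⟩, ⟨0, -1⟩, ⟨0, 0⟩, ⟨0, 0⟩, ⟨-1, 0⟩, ⟨0, -1⟩, ⟨0, -1⟩, ⟨1, -2⟩, ⟨0, 0⟩, ⟨0, 0⟩, ⟨2, -2⟩, ⟨3, 0⟩, ⟨2, -1⟩, ⟨2, 0⟩, ⟨2, -1⟩, ⟨3, 1⟩, ⟨3, -1⟩, ⟨8, 3⟩, ⟨3, 0⟩, ⟨10, 8⟩, ⟨10, 7⟩, ⟨5, 15⟩, ⟨8, 15⟩, ⟨-8, 24⟩, ⟨5, 21⟩, ⟨-9, 45⟩, ⟨-10, 26⟩, ⟨-13, 28⟩]),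
    (649201212957033415574431848349952, ![⟨0, 0⟩, ⟨0, 0⟩, ⟨1, 0⟩, ⟨0, 0⟩, ⟨0, 1⟩, ⟨0, 0⟩, ⟨0, 1⟩, ⟨-1, 1⟩, ⟨0, 0⟩, ⟨1, 0⟩, ⟨-1, 1⟩, ⟨-1, 1⟩, ⟨0, 1⟩, ⟨-1, 1⟩, ⟨-2, 1⟩, ⟨-4, 1⟩, ⟨-1, 1⟩, ⟨-6, -1⟩, ⟨-1, 1⟩, ⟨-8, -2⟩, ⟨-7, -1⟩, ⟨-6, -8⟩, ⟨-7, -7⟩, ⟨1, -14⟩, ⟨-8, -11⟩, ⟨-4, -26⟩, ⟨-1, -17⟩, ⟨3, -19⟩]),
    (367871271872678591104717460603168, ![⟨0, 0⟩, ⟨0, 1⟩, ⟨1, 0⟩, ⟨0, 1⟩, ⟨0, -1⟩, ⟨0, 1⟩, ⟨0, 1⟩, ⟨-1, 2⟩, ⟨0, 0⟩, ⟨0, 1⟩, ⟨-2, 2⟩, ⟨-3, 0⟩, ⟨-1, 2⟩, ⟨-2, 0⟩, ⟨-2, 1⟩, ⟨-5, -1⟩, ⟨-3, 3⟩, ⟨-8, -2⟩, ⟨-4, 2⟩, ⟨-12, -5⟩, ⟨-13, -6⟩, ⟨-8, -15⟩, ⟨-12, -16⟩, ⟨4, -26⟩, ⟨-10, -23⟩, ⟨0, -50⟩, ⟨6, -29⟩, ⟨11, -34⟩]),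
    (1298154066602866439427908567306288, ![⟨0, 0⟩, ⟨-1, 0⟩, ⟨0, 0⟩, ⟨0, -1⟩, ⟨0, -1⟩, ⟨1, -2⟩, ⟨1, -2⟩, ⟨4, -1⟩, ⟨0, -1⟩, ⟨0, -1⟩, ⟨5, 0⟩, ⟨4, 3⟩, ⟨3, -1⟩, ⟨4, 2⟩, ⟨4, -1⟩, ⟨7, 6⟩, ⟨7, 0⟩, ⟨12, 15⟩, ⟨6, 1⟩, ⟨10, 22⟩, ⟨12, 18⟩, ⟨-4, 30⟩, ⟨2, 34⟩, ⟨-33, 34⟩, ⟨-8, 44⟩, ⟨-50, 71⟩, ⟨-39, 40⟩, ⟨-52, 39⟩]),
    (61007000523426971093420100043570, ![⟨0, 1⟩, ⟨-1, 0⟩, ⟨-1, 0⟩, ⟨-2, -1⟩, ⟨0, 0⟩, ⟨-1, -2⟩, ⟨-1, -2⟩, ⟨0, -5⟩, ⟨0, 0⟩, ⟨-1, -1⟩, ⟨3, -6⟩, ⟨6, -3⟩, ⟨0, -4⟩, ⟨3, -3⟩, ⟨2, -4⟩, ⟨10, -4⟩, ⟨2, -8⟩, ⟨20, -5⟩, ⟨5, -7⟩, ⟨29, -2⟩, ⟨27, -3⟩, ⟨31, 20⟩, ⟨37, 15⟩, ⟨18, 52⟩, ⟨43, 31⟩, ⟨51, 91⟩, ⟨22, 61⟩, ⟨16, 74⟩])]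

set_option maxRecDepth 1000000 in
theorem colsD : colsOK dD = true := by decide +kernel

set_option maxRecDepth 1000000 in
theorem lattD : lattOK dD := by decide +kernel

end Cfsg.Agent.Lib.Helper9.RuGen
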