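import Cfsg.Agent.Lib.Helper9.RuGenF

set_option autoImplicit false

/-!
# Automorphisms of the Rudvalis lattice: the generator E (generated)
-/

namespace Cfsg.Agent.Lib.Helper9.RuGen

open Cfsg.Spor Cfsg.Agent.Lib.Helper9.RuAut

/-- the data of the generator E -/
def dE : GenData where
  cols := [1054690252666883019658483434782755, 40817363815798558289256840962868, 83674901165054138049238828920880, 1039641890869292832507375923495744, 1362884090733807112867036436365600, 730172935450844861141034774561796, 84952787891256220283895050019584, 40803819082286052994304721368099, 30064771072, 3961428683356482927254256485378, 977378423746487801991547062595908, 973719146592281144204797608726576, 2852562257600075666497436909601,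 973873816401450033461268066799664, 1446842647608214370488566153732, 1298252850353275779800643562250496, 1319724569741438369700371637482290, 24086604420919617882092551078403, 44378992485005881051507243286545, 995343720002468733245200212705282, 2694396008989335025921283915809, 649210787654195028902176593298176, 15807999648445264209704517632, 1303145803537017439673631988794417, 385365864903034419328786549194800, 405658100519679896800794633249792, 1037175875568995367743730930102850, 1035759749667257227814640019451907]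
  sps := [
    [(0, row3), (4, row2), (20, row2), (28, row3), (36, row4), (40, row2), (48, row1), (56, row2), (64, row4), (68, row3), (72, row1), (76, row4), (80, row1), (92, row1), (104, row4), (108, row3)],
    [(0, row4), (4, row3), (8, row3), (12, row2), (16, row4), (28, row4), (40, row2), (44, row3), (48, row4), (52, row3), (64, row3), (72, row1), (80, row4), (92, row3), (96, row3), (104, row2)],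
    [(4, row3), (12, row3), (16, row1), (20, row2), (24, row3), (28, row2), (36, row2), (40, row1), (56, row4), (60, row1), (64, row3), (68, row4), (84, row3), (92, row2), (100, row2), (104, row4)],
    [(4, row4), (8, row3), (24, row4), (28, row3), (40, row3), (44, row1), (52, row1), (60, row4), (64, row3), (76, row2), (84, row2), (92, row2), (96, row2), (100, row4), (104, row3), (108, row3)],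
    [(4, row2), (8, row1), (24, row4), (28, row1), (40, row2), (44, row2), (52, row3), (60, row4), (68, row1), (72, row3), (80, row1), (88, row4), (96, row2), (100, row3), (104, row3), (108, row4)],
    [(0, row4), (8, row4), (20, row3), (24, row1), (36, row2), (44, row4), (48, row4), (52, row2), (56, row3), (60, row3), (68, row1), (72, row4), (88, row4), (92, row1), (104, row4), (108, row2)],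
    [(8, row3), (12, row2), (16, row2), (20, row1), (36, row4), (44, row1), (52, row3), (56, row3), (68, row4), (76, row2), (80, row3), (84, row4), (88, row1), (92, row4), (100, row3), (104, row4)],
    [(0, row3), (4, row2), (8, row4), (12, row3), (16, row1), (28, row3), (40, row4), (44, row1), (48, row3), (52, row4), (68, row2), (76, row1), (84, row4), (88, row4), (96, row3), (104, row2)],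
    [(32, row7)],
    [(0, row2), (8, row4), (20, row4), (24, row2), (36, row3), (44, row3), (48, row3), (52, row1), (56, row3), (60, row1), (68, row4), (72, row1), (80, row1), (84, row1), (96, row2), (100, row3)],
    [(0, row4), (4, row4), (8, row1), (12, row3), (16, row4), (28, row2), (40, row3), (44, row2), (48, row3), (52, row2), (68, row3), (76, row4), (80, row3), (92, row4), (100, row3), (108, row3)],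
    [(4, row3), (12, row1), (16, row4), (20, row2), (24, row1), (28, row1), (36, row3), (40, row4), (56, row1), (60, row2), (72, row2), (76, row2), (84, row4), (92, row1), (96, row2), (108, row3)],
    [(0, row1), (4, row2), (20, row2), (28, row3), (36, row3), (40, row3), (48, row3), (56, row2), (64, row2), (68, row1), (72, row2), (76, row3), (84, row2), (88, row1), (96, row4), (100, row2)],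
    [(4, row3), (12, row1), (16, row3), (20, row4), (24, row3), (28, row2), (36, row1), (40, row4), (56, row2), (60, row1), (64, row4), (68, row1), (80, row4), (88, row4), (96, row4), (108, row3)],
    [(0, row4), (8, row2), (20, row3), (24, row3), (36, row3), (44, row1), (48, row4), (52, row4), (56, row3), (60, row1), (64, row1), (76, row3), (88, row3), (92, row4), (96, row2), (100, row1)],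
    [(8, row1), (12, row2), (16, row2), (20, row3), (36, row1), (44, row4), (52, row1), (56, row1), (64, row2), (72, row1), (80, row4), (84, row3), (88, row1), (92, row4), (96, row2), (108, row4)],
    [(0, row2), (4, row3), (8, row3), (12, row3), (48, row4), (52, row2), (56, row1), (60, row4), (80, row2), (84, row1), (88, row4), (92, row4), (96, row1), (100, row1), (104, row1), (108, row4)],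
    [(0, row3), (8, row2), (16, row1), (20, row1), (24, row2), (28, row4), (36, row2), (40, row3), (48, row1), (52, row1), (72, row3), (76, row3), (80, row4), (88, row4), (100, row3), (104, row1)],
    [(0, row1), (4, row1), (16, row3), (20, row2), (36, row1), (44, row4), (48, row4), (60, row1), (68, row3), (76, row3), (80, row2), (84, row4), (88, row4), (92, row2), (100, row3), (104, row2)],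
    [(0, row2), (12, row4), (24, row4), (28, row1), (40, row2), (44, row4), (48, row3), (56, row3), (68, row3), (72, row3), (80, row4), (88, row1), (96, row3), (100, row1), (104, row1), (108, row3)],
    [(0, row1), (4, row2), (16, row1), (24, row3), (36, row1), (40, row3), (52, row2), (60, row2), (64, row4), (68, row2), (72, row4), (76, row2), (84, row1), (88, row2), (96, row2), (100, row2)],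
    [(8, row3), (12, row4), (24, row2), (28, row2), (36, row1), (44, row2), (48, row4), (60, row3), (64, row1), (72, row2), (80, row1), (84, row3), (88, row1), (92, row3), (96, row2), (108, row2)],
    [(16, row2), (20, row2), (24, row1), (28, row2), (48, row1), (52, row2), (56, row3), (60, row1), (64, row2), (68, row2), (72, row2), (76, row1), (80, row4), (84, row1), (88, row3), (92, row3)],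
    [(0, row1), (4, row3), (8, row4), (12, row4), (20, row1), (24, row2), (40, row2), (44, row1), (56, row2), (60, row2), (64, row2), (72, row4), (84, row3), (88, row3), (100, row4), (108, row4)],
    [(4, row3), (12, row4), (16, row4), (28, row3), (36, row4), (44, row4), (48, row2), (52, row2), (56, row4), (60, row4), (64, row1), (76, row3), (80, row4), (84, row4), (104, row3), (108, row1)],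
    [(8, row4), (12, row2), (16, row3), (24, row3), (36, row3), (40, row3), (48, row4), (56, row1), (64, row1), (68, row3), (72, row3), (76, row1), (80, row4), (92, row2), (104, row4), (108, row1)],
    [(0, row2), (4, row4), (8, row2), (12, row3), (16, row3), (20, row2), (24, row2), (28, row4), (64, row1), (68, row1), (72, row4), (76, row1), (96, row3), (100, row2), (104, row3), (108, row3)],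
    [(0, row3), (12, row3), (16, row2), (20, row4), (40, row3), (44, row3), (52, row3), (60, row2), (64, row2), (76, row3), (84, row4), (92, row2), (96, row1), (100, row1), (104, row3), (108, row3)]]
  gimg := [(1379203873615404911797253378737156, 711330288930454480256931374104864), (328341316202668049410485037319202, 1014125433464560372117458129007360), (1036007631387749794450093075595264, 1322477421993890224959138843074564), (1039632879399520133199024884039682, 24090352161799662699554713702448), (322359379526401050808851, 4050544805156136285362605523009), (44383906617349192278000233611298, 973873195324889535400224943784000), (63402999695690116033927812743234, 996452600108402885923305501758500), (973809462871313408465860405755972,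 20441195059029742752890460840722), (405649159455470791544914173755412, 709885013447742330331135236645888), (324618269562659232553263955190528, 973873816641920501805513378563075), (1298243542847577189818342041452578, 5629967541945384228726313281), (692237250852155409042702558298112, 1301877188440619486649513079484420), (41848641760516959855375953166387, 408263344183935696726626421178896), (1381824652061477335285561148047360, 365093281468509869020051522256946), (346401044596782782467337365749760, 62115192612695497881873535938576), (386808065144185091419217181278208, 731523605395804469058054140207108), (1038384435310778691679235614965760, 673300770782509325327347634749444), (735405785651221689341400150442784, 1348136357938635902405212897345),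 (231732687603804940547121, 2620719289860503300746671820832), (41837792722156373011146159100416, 1384592301465613373839391743542080), (81303878640420079126855964230688, 63402686735018563845185932960000), (694925731345325580262721600880640, 1300609844676208759091611214811923), (973640171161669300764533613133843, 328336365726697002655225488610097), (39614081257132168796771975168, 977359270445797510155478778262308), (141976867225561692967630759002112, 349950794062564687241925684696100), (1622592768292133633915780102881280, 1035759749667257227814640019451907), (6338253001141147007483516026880, 405658100519679896800794633249792), (171207997922955055087938, 22828564692417560972868769022003)]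
  mem := [
    (711330288930454480256931374104864, ![⟨0, 0⟩, ⟨0, 1⟩, ⟨1, 0⟩, ⟨0, 1⟩, ⟨1, 0⟩, ⟨0, 1⟩, ⟨0, 2⟩, ⟨-2, 3⟩, ⟨0, 0⟩, ⟨0, 1⟩, ⟨-3, 3⟩, ⟨-4, 0⟩, ⟨-2, 2⟩, ⟨-3, 1⟩, ⟨-3, 1⟩, ⟨-7, -1⟩, ⟨-4, 3⟩, ⟨-13, -4⟩, ⟨-5, 2⟩, ⟨-17, -9⟩, ⟨-17, -9⟩, ⟨-10, -22⟩, ⟨-15, -23⟩, ⟨9, -37⟩, ⟨-12, -33⟩, ⟨6, -70⟩, ⟨10, -41⟩, ⟨18, -47⟩]),
    (1014125433464560372117458129007360, ![⟨0, 0⟩, ⟨0, 0⟩, ⟨-1, 0⟩, ⟨-1, 0⟩, ⟨0, 0⟩, ⟨-1, -1⟩, ⟨-1, -1⟩, ⟨0, -3⟩, ⟨1, 0⟩, ⟨0, 0⟩, ⟨1, -3⟩, ⟨2, -2⟩, ⟨0, -2⟩, ⟨2, -2⟩, ⟨0, -2⟩, ⟨6, -2⟩, ⟨1, -4⟩, ⟨10, -3⟩, ⟨3, -2⟩, ⟨16, -1⟩, ⟨14, 0⟩, ⟨15, 11⟩, ⟨17, 9⟩, ⟨7, 27⟩, ⟨20, 15⟩, ⟨25, 45⟩, ⟨10, 28⟩, ⟨6, 36⟩]),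
    (1322477421993890224959138843074564, ![⟨0, -1⟩, ⟨0, 0⟩, ⟨0, 0⟩, ⟨1, 0⟩, ⟨0, 0⟩, ⟨1, 0⟩, ⟨1, 0⟩, ⟨2, 2⟩, ⟨0, 1⟩, ⟨-1, 1⟩, ⟨0, 3⟩, ⟨-2, 1⟩, ⟨1, 1⟩, ⟨1, 2⟩, ⟨1, 1⟩, ⟨-3, 5⟩, ⟨1, 3⟩, ⟨-6, 8⟩, ⟨-2, 4⟩, ⟨-11, 10⟩, ⟨-10, 6⟩, ⟨-17, -1⟩, ⟨-18, 1⟩, ⟨-18, -18⟩, ⟨-23, -2⟩, ⟨-40, -23⟩, ⟨-20, -18⟩, ⟨-22, -27⟩]),
    (24090352161799662699554713702448, ![⟨0, 0⟩, ⟨-1, 0⟩, ⟨0, 0⟩, ⟨0, -1⟩, ⟨1, 0⟩, ⟨0, -1⟩, ⟨0, 0⟩, ⟨1, -1⟩, ⟨1, 0⟩, ⟨0, 0⟩, ⟨2, 0⟩, ⟨2, 0⟩, ⟨0, -1⟩, ⟨1, 0⟩, ⟨1, -2⟩, ⟨4, 2⟩, ⟨2, -1⟩, ⟨5, 4⟩, ⟨3, 1⟩, ⟨8, 6⟩, ⟨7, 5⟩, ⟨2, 13⟩, ⟨4, 12⟩, ⟨-9, 16⟩, ⟨2, 17⟩, ⟨-9, 32⟩, ⟨-10, 19⟩, ⟨-15, 19⟩]),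
    (4050544805156136285362605523009, ![⟨1, 0⟩, ⟨0, -1⟩, ⟨0, 0⟩, ⟨1, 0⟩, ⟨0, 0⟩, ⟨1, 0⟩, ⟨1, 0⟩, ⟨1, 2⟩, ⟨0, -1⟩, ⟨1, -1⟩, ⟨1, 2⟩, ⟨0, 3⟩, ⟨1, 1⟩, ⟨0, 2⟩, ⟨2, 2⟩, ⟨-1, 4⟩, ⟨2, 4⟩, ⟨-3, 8⟩, ⟨1, 3⟩, ⟨-7, 10⟩, ⟨-4, 10⟩, ⟨-14, 5⟩, ⟨-14, 11⟩, ⟨-22, -4⟩, ⟨-22, 9⟩, ⟨-44, -3⟩, ⟨-29, -7⟩, ⟨-31, -11⟩]),
    (973873195324889535400224943784000, ![⟨0, 0⟩, ⟨0, -1⟩, ⟨0, 0⟩, ⟨0, -1⟩, ⟨0, -1⟩, ⟨1, -1⟩, ⟨1, -2⟩, ⟨4, -1⟩, ⟨-1, 0⟩, ⟨0, -1⟩, ⟨5, 0⟩, ⟨4, 4⟩, ⟨3, -1⟩, ⟨4, 1⟩, ⟨4, 0⟩, ⟨6, 5⟩, ⟨6, 0⟩, ⟨11, 13⟩, ⟨5, 2⟩, ⟨9, 22⟩, ⟨10, 19⟩, ⟨-7, 28⟩, ⟨0, 32⟩, ⟨-34, 29⟩, ⟨-10, 40⟩, ⟨-53, 63⟩, ⟨-39, 33⟩, ⟨-49, 35⟩]),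
    (996452600108402885923305501758500, ![⟨0, -1⟩, ⟨0, 1⟩, ⟨0, -1⟩, ⟨1, -1⟩, ⟨0, -1⟩, ⟨1, 0⟩, ⟨2, -1⟩, ⟨4, 1⟩, ⟨0, 0⟩, ⟨0, 0⟩, ⟨3, 3⟩, ⟨0, 3⟩, ⟨2, 1⟩, ⟨2, 3⟩, ⟨2, 1⟩, ⟨2, 7⟩, ⟨6, 3⟩, ⟨1, 14⟩, ⟨3, 5⟩, ⟨-3, 19⟩, ⟨-4, 17⟩, ⟨-19, 16⟩, ⟨-17, 21⟩, ⟨-36, 1⟩, ⟨-26, 22⟩, ⟨-66, 16⟩, ⟨-40, 4⟩, ⟨-51, -2⟩]),
    (20441195059029742752890460840722, ![⟨0, 1⟩, ⟨1, 0⟩, ⟨-1, 0⟩, ⟨0, 1⟩, ⟨0, -1⟩, ⟨0, 1⟩, ⟨0, 0⟩, ⟨-1, 1⟩, ⟨0, 0⟩, ⟨0, 0⟩, ⟨-1, 0⟩, ⟨-1, 0⟩, ⟨-1, 0⟩, ⟨0, -1⟩, ⟨0, 1⟩, ⟨0, -2⟩, ⟨-3, 1⟩, ⟨-2, -2⟩, ⟨-2, -1⟩, ⟨-3, -4⟩, ⟨-2, -3⟩, ⟨1, -6⟩, ⟨-2, -6⟩, ⟨4, -7⟩, ⟨0, -8⟩, ⟨7, -15⟩, ⟨6, -9⟩, ⟨7, -8⟩]),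
    (709885013447742330331135236645888, ![⟨0, 0⟩, ⟨0, 0⟩, ⟨0, -1⟩, ⟨1, 0⟩, ⟨0, 0⟩, ⟨0, 0⟩, ⟨1, 0⟩, ⟨1, 1⟩, ⟨0, -1⟩, ⟨1, -1⟩, ⟨1, 1⟩, ⟨0, 2⟩, ⟨1, 0⟩, ⟨0, 1⟩, ⟨1, 1⟩, ⟨1, 3⟩, ⟨2, 2⟩, ⟨0, 5⟩, ⟨2, 1⟩, ⟨-1, 6⟩, ⟨0, 7⟩, ⟨-6, 6⟩, ⟨-6, 10⟩, ⟨-13, 3⟩, ⟨-11, 10⟩, ⟨-25, 8⟩, ⟨-18, 3⟩, ⟨-22, 0⟩]),
    (973873816641920501805513378563075, ![⟨-1, 0⟩, ⟨0, 0⟩, ⟨0, -1⟩, ⟨0, -1⟩, ⟨-1, 0⟩, ⟨-1, -2⟩, ⟨1, -2⟩, ⟨3, -4⟩, ⟨0, 1⟩, ⟨0, 0⟩, ⟨4, -3⟩, ⟨4, 0⟩, ⟨3, -2⟩, ⟨4, 0⟩, ⟨2, -1⟩, ⟨7, 4⟩, ⟨6, -4⟩, ⟨14, 6⟩, ⟨6, 0⟩, ⟨18, 14⟩, ⟨14, 12⟩, ⟨7, 25⟩, ⟨11, 24⟩, ⟨-13, 35⟩, ⟨8, 35⟩, ⟨-16, 72⟩, ⟨-13, 42⟩, ⟨-25, 44⟩]),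
    (5629967541945384228726313281, ![⟨1, 0⟩, ⟨0, -1⟩, ⟨1, 0⟩, ⟨2, 0⟩, ⟨1, 0⟩, ⟨2, 2⟩, ⟨2, 2⟩, ⟨1, 6⟩, ⟨0, -1⟩, ⟨2, -1⟩, ⟨-1, 7⟩, ⟨-4, 6⟩, ⟨1, 4⟩, ⟨-3, 5⟩, ⟨1, 5⟩, ⟨-8, 8⟩, ⟨1, 10⟩, ⟨-19, 14⟩, ⟨-2, 8⟩, ⟨-30, 12⟩, ⟨-24, 14⟩, ⟨-40, -8⟩, ⟨-43, 2⟩, ⟨-40, -43⟩, ⟨-57, -12⟩, ⟨-89, -70⟩, ⟨-51, -52⟩, ⟨-49, -66⟩]),
    (1301877188440619486649513079484420, ![⟨0, -1⟩, ⟨0, 0⟩, ⟨0, 0⟩, ⟨0, 0⟩, ⟨0, -1⟩, ⟨1, -1⟩, ⟨0, 0⟩, ⟨2, 0⟩, ⟨0, -1⟩, ⟨0, -1⟩, ⟨3, 0⟩, ⟨2, 1⟩, ⟨1, 0⟩, ⟨2, 1⟩, ⟨2, -1⟩, ⟨4, 2⟩, ⟨3, 0⟩, ⟨6, 7⟩, ⟨3, 0⟩, ⟨5, 10⟩, ⟨8, 9⟩, ⟨0, 17⟩, ⟨3, 18⟩, ⟨-16, 21⟩, ⟨-2, 23⟩, ⟨-23, 39⟩, ⟨-20, 23⟩, ⟨-24, 23⟩]),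
    (408263344183935696726626421178896, ![⟨0, 0⟩, ⟨1, 0⟩, ⟨0, 1⟩, ⟨0, 1⟩, ⟨0, 0⟩, ⟨0, 1⟩, ⟨-1, 1⟩, ⟨-2, 1⟩, ⟨0, 0⟩, ⟨0, 1⟩, ⟨-3, 1⟩, ⟨-3, -1⟩, ⟨-2, 1⟩, ⟨-2, -1⟩, ⟨-2, 0⟩, ⟨-4, -4⟩, ⟨-4, 1⟩, ⟨-7, -7⟩, ⟨-4, 0⟩, ⟨-8, -11⟩, ⟨-8, -10⟩, ⟨0, -17⟩, ⟨-3, -18⟩, ⟨15, -20⟩, ⟨2, -25⟩, ⟨23, -43⟩, ⟨18, -25⟩, ⟨26, -24⟩]),
    (365093281468509869020051522256946, ![⟨0, 1⟩, ⟨-1, 0⟩, ⟨0, 0⟩, ⟨-1, 0⟩, ⟨1, 0⟩, ⟨-1, 0⟩, ⟨0, -1⟩, ⟨-1, -1⟩, ⟨0, -1⟩, ⟨0, -1⟩, ⟨0, -2⟩, ⟨2, -1⟩, ⟨0, -2⟩, ⟨1, -1⟩, ⟨1, 0⟩, ⟨4, -1⟩, ⟨0, -3⟩, ⟨6, -2⟩, ⟨2, -4⟩, ⟨9, -3⟩, ⟨10, -2⟩, ⟨11, 5⟩, ⟨13, 4⟩, ⟨8, 17⟩, ⟨15, 9⟩, ⟨21, 28⟩, ⟨8, 20⟩, ⟨7, 24⟩]),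
    (62115192612695497881873535938576, ![⟨0, 0⟩, ⟨1, 0⟩, ⟨0, 0⟩, ⟨0, 1⟩, ⟨-1, 0⟩, ⟨-1, 1⟩, ⟨-1, 1⟩, ⟨-3, 0⟩, ⟨1, 0⟩, ⟨1, 1⟩, ⟨-3, -1⟩, ⟨-3, -2⟩, ⟨-1, 0⟩, ⟨-2, -2⟩, ⟨-2, 0⟩, ⟨-2, -4⟩, ⟨-4, 0⟩, ⟨-4, -9⟩, ⟨-3, -1⟩, ⟨-2, -13⟩, ⟨-4, -10⟩, ⟨7, -15⟩, ⟨2, -17⟩, ⟨21, -12⟩, ⟨9, -22⟩, ⟨35, -30⟩, ⟨25, -17⟩, ⟨30, -15⟩]),
    (731523605395804469058054140207108, ![⟨0, -1⟩, ⟨0, 0⟩, ⟨0, 0⟩, ⟨1, 0⟩, ⟨0, 0⟩, ⟨1, 0⟩, ⟨0, 0⟩, ⟨2, 1⟩, ⟨1, 0⟩, ⟨0, 0⟩, ⟨1, 3⟩, ⟨-1, 2⟩, ⟨0, 1⟩, ⟨0, 1⟩, ⟨1, 0⟩, ⟨0, 3⟩, ⟨2, 2⟩, ⟨-2, 7⟩, ⟨1, 4⟩, ⟨-4, 9⟩, ⟨-4, 8⟩, ⟨-13, 6⟩, ⟨-12, 9⟩, ⟨-20, -5⟩, ⟨-17, 7⟩, ⟨-36, -3⟩, ⟨-23, -6⟩, ⟨-26, -9⟩]),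
    (673300770782509325327347634749444, ![⟨0, -1⟩, ⟨0, 0⟩, ⟨0, 0⟩, ⟨0, -1⟩, ⟨1, 0⟩, ⟨2, -1⟩, ⟨1, 0⟩, ⟨3, 1⟩, ⟨0, 1⟩, ⟨0, 0⟩, ⟨3, 3⟩, ⟨1, 3⟩, ⟨2, 1⟩, ⟨2, 4⟩, ⟨2, 1⟩, ⟨0, 8⟩, ⟨4, 2⟩, ⟨-2, 14⟩, ⟨2, 5⟩, ⟨-7, 19⟩, ⟨-5, 17⟩, ⟨-21, 15⟩, ⟨-18, 17⟩, ⟨-37, -3⟩, ⟨-28, 18⟩, ⟨-67, 9⟩, ⟨-41, -2⟩, ⟨-46, -8⟩]),
    (1348136357938635902405212897345, ![⟨1, 0⟩, ⟨0, -1⟩, ⟨0, 0⟩, ⟨1, 0⟩, ⟨0, 0⟩, ⟨2, 0⟩, ⟨1, 0⟩, ⟨2, 2⟩, ⟨0, -1⟩, ⟨1, -1⟩, ⟨2, 3⟩, ⟨1, 4⟩, ⟨2, 1⟩, ⟨0, 3⟩, ⟨3, 2⟩, ⟨-1, 6⟩, ⟨3, 4⟩, ⟨-3, 12⟩, ⟨2, 4⟩, ⟨-8, 15⟩, ⟨-4, 16⟩, ⟨-19, 11⟩, ⟨-18, 17⟩, ⟨-34, -2⟩, ⟨-29, 15⟩, ⟨-63, 4⟩, ⟨-41, -5⟩, ⟨-44, -10⟩]),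
    (2620719289860503300746671820832, ![⟨0, 0⟩, ⟨0, 1⟩, ⟨0, 0⟩, ⟨0, 0⟩, ⟨0, 0⟩, ⟨0, 1⟩, ⟨0, 1⟩, ⟨-1, 1⟩, ⟨1, 0⟩, ⟨0, 1⟩, ⟨-2, 1⟩, ⟨-3, -1⟩, ⟨-1, 1⟩, ⟨-2, 0⟩, ⟨-2, 1⟩, ⟨-3, -1⟩, ⟨-2, 1⟩, ⟨-6, -3⟩, ⟨-2, 1⟩, ⟨-7, -7⟩, ⟨-9, -5⟩, ⟨-4, -12⟩, ⟨-8, -13⟩, ⟨6, -20⟩, ⟨-4, -19⟩, ⟨7, -37⟩, ⟨10, -23⟩, ⟨12, -24⟩]),
    (1384592301465613373839391743542080, ![⟨0, 0⟩, ⟨0, -1⟩, ⟨-1, 0⟩, ⟨0, -1⟩, ⟨0, 0⟩, ⟨1, -1⟩, ⟨0, -2⟩, ⟨2, -2⟩, ⟨0, -1⟩, ⟨0, -1⟩, ⟨4, -1⟩, ⟨4, 2⟩, ⟨2, -2⟩, ⟨4, 0⟩, ⟨4, -1⟩, ⟨8, 3⟩, ⟨5, -2⟩, ⟨13, 9⟩, ⟨6, -1⟩, ⟨15, 15⟩, ⟨17, 14⟩, ⟨4, 28⟩, ⟨10, 31⟩, ⟨-22, 38⟩, ⟨3, 41⟩, ⟨-27, 76⟩, ⟨-27, 42⟩, ⟨-36, 47⟩]),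
    (63402686735018563845185932960000, ![⟨0, 0⟩, ⟨0, 0⟩, ⟨1, 0⟩, ⟨1, 1⟩, ⟨1, 0⟩, ⟨0, 1⟩, ⟨1, 2⟩, ⟨-1, 4⟩, ⟨1, 0⟩, ⟨1, 1⟩, ⟨-3, 4⟩, ⟨-5, 1⟩, ⟨-1, 3⟩, ⟨-3, 2⟩, ⟨-2, 3⟩, ⟨-8, 3⟩, ⟨-3, 6⟩, ⟨-17, 2⟩, ⟨-4, 5⟩, ⟨-22, -3⟩, ⟨-21, -1⟩, ⟨-21, -19⟩, ⟨-28, -17⟩, ⟨-8, -43⟩, ⟨-30, -30⟩, ⟨-27, -77⟩, ⟨-10, -50⟩, ⟨-4, -62⟩]),
    (1300609844676208759091611214811923, ![⟨-1, 0⟩, ⟨1, 0⟩, ⟨-1, 0⟩, ⟨0, -1⟩, ⟨0, 0⟩, ⟨0, 0⟩, ⟨1, 0⟩, ⟨1, -1⟩, ⟨0, -1⟩, ⟨1, 0⟩, ⟨2, 0⟩, ⟨0, 2⟩, ⟨1, 0⟩, ⟨1, 0⟩, ⟨0, 1⟩, ⟨3, 1⟩, ⟨1, 0⟩, ⟨3, 4⟩, ⟨2, 0⟩, ⟨3, 5⟩, ⟨3, 6⟩, ⟨0, 8⟩, ⟨0, 10⟩, ⟨-10, 9⟩, ⟨-3, 12⟩, ⟨-15, 18⟩, ⟨-11, 9⟩, ⟨-16, 11⟩]),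
    (328336365726697002655225488610097, ![⟨1, 0⟩, ⟨-1, 0⟩, ⟨-1, 0⟩, ⟨0, -1⟩, ⟨0, 0⟩, ⟨1, -1⟩, ⟨0, -1⟩, ⟨2, -1⟩, ⟨-1, 0⟩, ⟨-1, -2⟩, ⟨2, -1⟩, ⟨4, 0⟩, ⟨1, -2⟩, ⟨2, 1⟩, ⟨3, -2⟩, ⟨5, 1⟩, ⟨4, -2⟩, ⟨9, 4⟩, ⟨3, -2⟩, ⟨10, 8⟩, ⟨13, 5⟩, ⟨6, 16⟩, ⟨12, 17⟩, ⟨-6, 27⟩, ⟨8, 26⟩, ⟨-5, 51⟩, ⟨-9, 32⟩, ⟨-14, 36⟩]),
    (977359270445797510155478778262308, ![⟨0, -1⟩, ⟨0, 1⟩, ⟨-1, 0⟩, ⟨-1, 0⟩, ⟨0, 0⟩, ⟨-1, -1⟩, ⟨-1, -1⟩, ⟨0, -3⟩, ⟨0, 0⟩, ⟨-1, 0⟩, ⟨1, -3⟩, ⟨2, -3⟩, ⟨-1, -2⟩, ⟨2, -2⟩, ⟨0, -3⟩, ⟨6, -4⟩, ⟨1, -6⟩, ⟨11, -6⟩, ⟨2, -4⟩, ⟨17, -5⟩, ⟨15, -5⟩, ⟨20, 9⟩, ⟨24, 5⟩, ⟨17, 28⟩, ⟨29, 13⟩, ⟨41, 46⟩, ⟨20, 33⟩, ⟨18, 42⟩]),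
    (349950794062564687241925684696100, ![⟨0, -1⟩, ⟨0, 1⟩, ⟨0, -1⟩, ⟨1, -1⟩, ⟨1, 0⟩, ⟨1, 0⟩, ⟨1, 0⟩, ⟨3, 2⟩, ⟨0, 0⟩, ⟨0, 0⟩, ⟨2, 4⟩, ⟨-1, 3⟩, ⟨1, 1⟩, ⟨1, 3⟩, ⟨1, 1⟩, ⟨0, 7⟩, ⟨3, 3⟩, ⟨-4, 12⟩, ⟨1, 5⟩, ⟨-9, 15⟩, ⟨-8, 13⟩, ⟨-21, 8⟩, ⟨-20, 12⟩, ⟨-31, -11⟩, ⟨-28, 10⟩, ⟨-58, -8⟩, ⟨-34, -10⟩, ⟨-41, -17⟩]),
    (1035759749667257227814640019451907, ![⟨-1, 0⟩, ⟨0, 0⟩, ⟨0, 0⟩, ⟨-1, 0⟩, ⟨0, 1⟩, ⟨-2, -1⟩, ⟨-1, 0⟩, ⟨-2, -3⟩, ⟨0, 0⟩, ⟨0, 0⟩, ⟨-1, -4⟩, ⟨1, -3⟩, ⟨-1, -2⟩, ⟨0, -3⟩, ⟨-2, -2⟩, ⟨3, -5⟩, ⟨-1, -5⟩, ⟨7, -11⟩, ⟨1, -4⟩, ⟨14, -12⟩, ⟨11, -11⟩, ⟨22, -3⟩, ⟨23, -7⟩, ⟨30, 17⟩, ⟨32, -3⟩, ⟨60, 22⟩, ⟨34, 19⟩, ⟨36, 27⟩]),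
    (405658100519679896800794633249792, ![⟨0, 0⟩, ⟨0, 0⟩, ⟨0, -1⟩, ⟨1, 0⟩, ⟨-1, 0⟩, ⟨0, 0⟩, ⟨0, 0⟩, ⟨1, 0⟩, ⟨0, 0⟩, ⟨0, 0⟩, ⟨0, 0⟩, ⟨0, 0⟩, ⟨0, -1⟩, ⟨0, -1⟩, ⟨1, -1⟩, ⟨2, 0⟩, ⟨2, 0⟩, ⟨3, 0⟩, ⟨1, 1⟩, ⟨5, 2⟩, ⟨3, 1⟩, ⟨2, 4⟩, ⟨2, 5⟩, ⟨0, 7⟩, ⟨2, 6⟩, ⟨0, 13⟩, ⟨-1, 8⟩, ⟨-4, 8⟩]),
    (22828564692417560972868769022003, ![⟨-1, 0⟩, ⟨-1, 0⟩, ⟨0, 0⟩, ⟨-1, -1⟩, ⟨0, 0⟩, ⟨-1, -2⟩, ⟨0, -1⟩, ⟨1, -3⟩, ⟨0, 1⟩, ⟨-1, 0⟩, ⟨2, -3⟩, ⟨3, -2⟩, ⟨0, -2⟩, ⟨2, -2⟩, ⟨0, -3⟩, ⟨5, -2⟩, ⟨2, -5⟩, ⟨11, -3⟩, ⟨3, -3⟩, ⟨17, 0⟩, ⟨14, -3⟩, ⟨18, 11⟩, ⟨21, 7⟩, ⟨12, 28⟩, ⟨25, 16⟩, ⟨31, 50⟩, ⟨15, 35⟩, ⟨11, 39⟩])]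

set_option maxRecDepth 1000000 in
theorem colsE : colsOK dE = true := by decide +kernel

set_option maxRecDepth 1000000 in
theorem lattE : lattOK dE := by decide +kernel

end Cfsg.Agent.Lib.Helper9.RuGen
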