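import Cfsg.Agent.Lib.Helper9.RuGenGA
import Cfsg.Agent.Lib.Helper9.RuGenGB
import Cfsg.Agent.Lib.Helper9.RuGenGC
import Cfsg.Agent.Lib.Helper9.RuGenGD
import Cfsg.Agent.Lib.Helper9.RuGenGE

set_option autoImplicit false

/-!
# Automorphisms of the Rudvalis lattice: the five generators
-/

namespace Cfsg.Agent.Lib.Helper9.RuGen

open Cfsg.Spor Cfsg.Agent.Lib.Helper14.RuLat Cfsg.Agent.Lib.Helper9.RuDfs Cfsg.Agent.Lib.Helper9.RuMin
  Cfsg.Agent.Lib.Helper9.RuAut

/-- the data of the five generators -/
def Dg : ℕ → GenData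
  | 0 => dA
  | 1 => dB
  | 2 => dC
  | 3 => dD
  | _ => dE

/-- the five generators -/
noncomputable def Ag : ℕ → fourRu
  | 0 => theAut colsA lattA
  | 1 => theAut colsB lattB
  | 2 => theAut colsC lattC
  | 3 => theAut colsD lattD
  | _ => theAut colsE lattE

theorem Ag_apply : ∀ x c c' (hc : decodeC c ∈ ruLattice), applyOK (Dg x) c c' = true →
    ∃ hc' : decodeC c' ∈ ruLattice, (Ag x : Equiv.Perm ruLattice) ⟨decodeC c, hc⟩ = ⟨decodeC c', hc'⟩ := by
  intro x c c' hc h
  match x with
  | 0 => exact theAut_apply colsA lattA c c' hc h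
  | 1 => exact theAut_apply colsB lattB c c' hc h
  | 2 => exact theAut_apply colsC lattC c c' hc h
  | 3 => exact theAut_apply colsD lattD c c' hc h
  | (_ + 4) => exact theAut_apply colsE lattE c c' hc h

theorem Ag_mul_self (x : ℕ) : Ag x * Ag x = 1 := by
  match x with
  | 0 => exact theAut_mul_self colsA lattA
  | 1 => exact theAut_mul_self colsB lattB
  | 2 => exact theAut_mul_self colsC lattC
  | 3 => exact theAut_mul_self colsD lattD
  | (_ + 4) => exact theAut_mul_self colsE lattE

/-- a word in the generators which multiplies the five base vectors by `i ^ s` is that scalar -/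
theorem rel_scal_Ag (L : List ℕ) (s : ℕ) (traces : List (List ℕ)) (h : relOK Dg L s traces = true) :
    (L.map Ag).prod = scal ^ s := rel_scal Ag Dg Ag_apply L s traces h

end Cfsg.Agent.Lib.Helper9.RuGen
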