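import Cfsg.Agent.Lib.Helper9.RuGenF

set_option autoImplicit false

/-!
# Automorphisms of the Rudvalis lattice: the generator A (generated)
-/

namespace Cfsg.Agent.Lib.Helper9.RuGen

open Cfsg.Spor Cfsg.Agent.Lib.Helper9.RuAut

/-- the data of the generator A -/
def dA : GenData where
  cols := [5, 60926519993450223710942106157840, 83684765999117165852619949944880, 5402371862119959021142703870720, 652860485213189037331262176559920, 973650426479987243408604191011328, 1342680603495603293383500551684384, 1358922081999554017113799944839680, 689601985771266606560588918366256, 1322491402223758683806120418608176, 652840119880229983895127846945040, 324696875053131919393916219109392, 692227308736290349627736416321536, 324677631541336558672636959399968,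 1015546901448035460173500500739120, 973799284934282949952918643548928, 82407870818388163079730880332032, 3882818446350786244022849520640, 4125435186233651590992700383248, 21550992286885879649083243700288, 2620719289860503300746671820832, 60932337189009828405424755310896, 5321938278928984793283821568, 25358293806267791886757886308864, 993838091140414430454299619237904, 405658100519679896800794633249792, 1320976163464520830290882839183920, 366588707953504770634268751953920]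
  sps := [
    [(0, row5)],
    [(4, row1), (8, row3), (16, row3), (24, row4), (32, row3), (36, row3), (40, row1), (44, row1), (52, row4), (56, row3), (72, row1), (76, row2), (80, row4), (84, row3), (96, row1), (104, row3)],
    [(4, row3), (12, row3), (16, row3), (20, row4), (24, row1), (28, row4), (36, row2), (40, row1), (56, row2), (60, row3), (64, row1), (68, row2), (84, row1), (92, row4), (100, row2), (104, row4)],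
    [(8, row3), (12, row1), (20, row3), (28, row4), (32, row4), (44, row3), (52, row4), (60, row4), (64, row2), (68, row2), (72, row4), (76, row4), (80, row1), (92, row3), (96, row4), (100, row4)],
    [(4, row3), (8, row3), (16, row1), (24, row2), (32, row3), (36, row4), (40, row4), (44, row1), (52, row4), (56, row1), (72, row2), (76, row1), (88, row2), (92, row4), (100, row3), (108, row2)],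
    [(8, row2), (12, row3), (24, row2), (28, row2), (36, row2), (44, row3), (52, row1), (56, row1), (68, row3), (76, row3), (80, row4), (84, row3), (88, row2), (92, row3), (96, row1), (108, row3)],
    [(4, row2), (8, row1), (16, row4), (20, row4), (40, row1), (44, row3), (52, row4), (60, row1), (64, row4), (76, row1), (80, row4), (88, row3), (96, row3), (100, row3), (104, row2), (108, row4)],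
    [(8, row2), (12, row2), (20, row4), (28, row1), (32, row4), (44, row1), (52, row3), (60, row1), (64, row2), (68, row4), (72, row3), (76, row3), (84, row1), (88, row2), (104, row3), (108, row4)],
    [(4, row3), (12, row2), (16, row3), (28, row2), (32, row1), (40, row2), (48, row3), (52, row3), (56, row2), (60, row4), (68, row1), (72, row2), (80, row1), (84, row3), (104, row2), (108, row2)],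
    [(4, row3), (8, row4), (16, row2), (20, row4), (40, row3), (44, row1), (48, row1), (56, row3), (64, row4), (76, row3), (84, row3), (92, row3), (96, row4), (100, row3), (104, row1), (108, row4)],
    [(4, row1), (8, row1), (16, row2), (24, row1), (32, row4), (36, row3), (40, row1), (44, row4), (48, row4), (60, row2), (72, row3), (76, row4), (80, row2), (84, row3), (100, row3), (108, row2)],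
    [(4, row1), (12, row3), (16, row1), (20, row3), (24, row3), (28, row1), (36, row1), (40, row2), (48, row1), (52, row3), (64, row1), (68, row2), (84, row3), (92, row4), (96, row2), (108, row1)],
    [(32, row3), (36, row1), (40, row2), (44, row1), (64, row4), (68, row3), (72, row4), (76, row4), (80, row1), (84, row1), (88, row3), (92, row2), (96, row1), (100, row2), (104, row2), (108, row2)],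
    [(4, row2), (12, row2), (16, row2), (20, row1), (24, row2), (28, row3), (32, row3), (44, row3), (56, row3), (60, row4), (72, row4), (76, row2), (80, row2), (88, row2), (96, row2), (108, row1)],
    [(4, row3), (8, row4), (16, row1), (20, row1), (32, row4), (36, row3), (52, row3), (60, row2), (68, row2), (72, row4), (80, row4), (88, row1), (96, row2), (100, row1), (104, row2), (108, row3)],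
    [(8, row3), (12, row2), (24, row1), (28, row1), (32, row2), (40, row4), (52, row2), (56, row4), (64, row1), (72, row4), (80, row1), (84, row3), (88, row3), (92, row1), (96, row3), (108, row3)],
    [(8, row1), (12, row4), (24, row2), (28, row4), (36, row2), (44, row1), (48, row2), (60, row1), (68, row1), (76, row1), (80, row1), (84, row3), (88, row2), (92, row2), (100, row1), (104, row4)],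
    [(8, row4), (12, row4), (20, row3), (28, row2), (32, row1), (44, row4), (48, row3), (56, row4), (64, row1), (68, row1), (72, row4), (76, row2), (84, row1), (88, row2), (96, row1), (100, row3)],
    [(4, row1), (12, row2), (16, row4), (28, row3), (32, row4), (40, row3), (48, row2), (52, row2), (56, row2), (60, row2), (68, row2), (72, row1), (88, row2), (92, row1), (96, row4), (100, row3)],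
    [(4, row4), (12, row2), (16, row1), (20, row3), (24, row1), (28, row3), (36, row3), (40, row2), (48, row2), (52, row4), (64, row1), (68, row4), (80, row3), (88, row3), (100, row1), (104, row1)],
    [(4, row2), (12, row1), (20, row2), (24, row2), (32, row1), (40, row4), (48, row1), (52, row4), (56, row2), (60, row1), (64, row1), (76, row3), (88, row4), (92, row1), (96, row1), (100, row2)],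
    [(4, row3), (8, row1), (20, row3), (28, row1), (32, row3), (36, row3), (40, row3), (44, row3), (48, row1), (60, row3), (64, row3), (68, row1), (88, row3), (92, row1), (96, row1), (104, row3)],
    [(16, row4), (20, row4), (24, row3), (28, row4), (48, row3), (52, row4), (56, row1), (60, row3), (64, row4), (68, row4), (72, row4), (76, row3), (80, row2), (84, row3), (88, row1), (92, row1)],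
    [(8, row2), (12, row3), (16, row2), (20, row3), (36, row3), (44, row2), (48, row4), (60, row1), (64, row4), (72, row1), (80, row1), (84, row1), (88, row1), (92, row1), (100, row4), (104, row1)],
    [(4, row1), (12, row2), (20, row1), (24, row3), (36, row2), (44, row4), (48, row1), (52, row4), (56, row4), (60, row3), (68, row1), (72, row2), (80, row1), (84, row1), (104, row1), (108, row3)],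
    [(8, row4), (12, row2), (16, row3), (24, row3), (36, row3), (40, row3), (48, row4), (56, row1), (64, row1), (68, row3), (72, row3), (76, row1), (80, row4), (92, row2), (104, row4), (108, row1)],
    [(4, row3), (8, row2), (24, row4), (28, row3), (32, row4), (36, row1), (48, row4), (56, row4), (64, row2), (76, row1), (84, row3), (92, row1), (96, row1), (100, row2), (104, row1), (108, row4)],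
    [(16, row4), (20, row3), (24, row2), (28, row2), (32, row4), (36, row2), (40, row4), (44, row1), (48, row4), (52, row1), (56, row3), (60, row3), (96, row3), (100, row1), (104, row2), (108, row1)]]
  gimg := [(1379203873615404911797253378737156, 1366690955844151377826670444596), (328341316202668049410485037319202, 1298326832004373284718079168807170), (1036007631387749794450093075595264, 734207696360470846809739943347216), (1039632879399520133199024884039682, 1362897726495909864122780477440002), (322359379526401050808851, 4119944259625595924292927947523), (44383906617349192278000233611298, 649211717318187205444172771229762), (63402999695690116033927812743234, 651587268652452624173768405758482), (973809462871313408465860405755972,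 61165128096482059474406383698228), (405649159455470791544914173755412, 1034418983017080911738872396972548), (324618269562659232553263955190528, 344816437518477327899052424110096), (1298243542847577189818342041452578, 973715357658808380977269386183426), (692237250852155409042702558298112, 652840137698344759245316987814160), (41848641760516959855375953166387, 43101363273229704617587980370947), (1381824652061477335285561148047360, 993838091281825946040009294360608), (346401044596782782467337365749760, 82408202064655339691127117976064), (386808065144185091419217181278208, 386890963298460169725173421048848), (1038384435310778691679235614965760, 3901989667611222468286063055104), (735405785651221689341400150442784, 62115501110732151616417638400032),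 (231732687603804940547121, 2694396008989335025921283915809), (41837792722156373011146159100416, 5318499913559643711949389377600), (81303878640420079126855964230688, 976106746227636374859486452646944), (694925731345325580262721600880640, 63393443136495767128328777057024), (973640171161669300764533613133843, 3887133088493572247187043319843), (39614081257132168796771975168, 84953717421864373871608974090496), (141976867225561692967630759002112, 715207497866296236686677712569360), (1622592768292133633915780102881280, 366588707953504770634268751953920), (6338253001141147007483516026880, 405658100519679896800794633249792), (171207997922955055087938, 347653491447767405196132923621378)]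
  mem := [
    (1366690955844151377826670444596, ![⟨0, -1⟩, ⟨-1, 0⟩, ⟨0, 0⟩, ⟨0, -1⟩, ⟨0, 0⟩, ⟨1, -1⟩, ⟨0, -1⟩, ⟨3, -1⟩, ⟨0, 0⟩, ⟨-1, -1⟩, ⟨3, 0⟩, ⟨3, 1⟩, ⟨1, -1⟩, ⟨2, 0⟩, ⟨2, -2⟩, ⟨5, 2⟩, ⟨4, -2⟩, ⟨9, 6⟩, ⟨3, 0⟩, ⟨10, 11⟩, ⟨10, 7⟩, ⟨2, 18⟩, ⟨8, 18⟩, ⟨-12, 23⟩, ⟨5, 26⟩, ⟨-14, 48⟩, ⟨-14, 30⟩, ⟨-20, 32⟩]),
    (1298326832004373284718079168807170, ![⟨0, 1⟩, ⟨0, 0⟩, ⟨1, 0⟩, ⟨0, 1⟩, ⟨1, 0⟩, ⟨-1, 2⟩, ⟨1, 1⟩, ⟨-3, 3⟩, ⟨-1, 0⟩, ⟨0, 0⟩, ⟨-4, 1⟩, ⟨-3, -1⟩, ⟨-1, 2⟩, ⟨-3, 1⟩, ⟨-2, 3⟩, ⟨-8, -1⟩, ⟨-5, 3⟩, ⟨-14, -5⟩, ⟨-5, 0⟩, ⟨-18, -12⟩, ⟨-16, -10⟩, ⟨-8, -26⟩, ⟨-13, -26⟩, ⟨14, -38⟩, ⟨-10, -35⟩, ⟨11, -72⟩, ⟨15, -41⟩, ⟨24, -48⟩]),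
    (734207696360470846809739943347216, ![⟨0, 0⟩, ⟨1, 0⟩, ⟨0, -1⟩, ⟨1, 0⟩, ⟨0, 1⟩, ⟨0, 1⟩, ⟨1, 1⟩, ⟨0, 2⟩, ⟨0, 0⟩, ⟨1, 0⟩, ⟨-1, 3⟩, ⟨-3, 2⟩, ⟨0, 2⟩, ⟨-2, 2⟩, ⟨-1, 3⟩, ⟨-5, 3⟩, ⟨0, 3⟩, ⟨-11, 2⟩, ⟨-1, 3⟩, ⟨-14, 0⟩, ⟨-14, 3⟩, ⟨-16, -10⟩, ⟨-19, -6⟩, ⟨-9, -27⟩, ⟨-23, -14⟩, ⟨-28, -45⟩, ⟨-12, -31⟩, ⟨-11, -37⟩]),
    (1362897726495909864122780477440002, ![⟨0, 1⟩, ⟨0, 0⟩, ⟨0, 0⟩, ⟨-1, 0⟩, ⟨0, 1⟩, ⟨-1, 1⟩, ⟨-1, 0⟩, ⟨-3, -1⟩, ⟨0, 1⟩, ⟨-1, 1⟩, ⟨-3, -2⟩, ⟨-1, -3⟩, ⟨-1, 0⟩, ⟨-2, -1⟩, ⟨-2, 0⟩, ⟨-4, -4⟩, ⟨-4, -3⟩, ⟨-4, -11⟩, ⟨-3, -3⟩, ⟨-2, -16⟩, ⟨-4, -13⟩, ⟨9, -18⟩, ⟨7, -22⟩, ⟨27, -15⟩, ⟨16, -25⟩, ⟨46, -30⟩, ⟨35, -15⟩, ⟨41, -12⟩]),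
    (4119944259625595924292927947523, ![⟨-1, 0⟩, ⟨0, 0⟩, ⟨-1, 0⟩, ⟨-1, -1⟩, ⟨-1, 0⟩, ⟨-1, -2⟩, ⟨-1, -2⟩, ⟨1, -5⟩, ⟨-1, 0⟩, ⟨-1, -1⟩, ⟨3, -5⟩, ⟨5, -2⟩, ⟨1, -4⟩, ⟨4, -4⟩, ⟨1, -4⟩, ⟨10, -5⟩, ⟨3, -8⟩, ⟨21, -5⟩, ⟨5, -7⟩, ⟨29, 0⟩, ⟨28, -3⟩, ⟨32, 21⟩, ⟨39, 17⟩, ⟨19, 55⟩, ⟨43, 33⟩, ⟨50, 94⟩, ⟨21, 64⟩, ⟨15, 77⟩]),
    (649211717318187205444172771229762, ![⟨0, 1⟩, ⟨0, -1⟩, ⟨0, 0⟩, ⟨0, 0⟩, ⟨0, 0⟩, ⟨0, 0⟩, ⟨1, -1⟩, ⟨0, 0⟩, ⟨0, -1⟩, ⟨1, -1⟩, ⟨1, 0⟩, ⟨1, 2⟩, ⟨2, 0⟩, ⟨1, 1⟩, ⟨2, 2⟩, ⟨1, 3⟩, ⟨1, 1⟩, ⟨1, 6⟩, ⟨2, 0⟩, ⟨-1, 7⟩, ⟨2, 9⟩, ⟨-5, 8⟩, ⟨-5, 11⟩, ⟨-16, 6⟩, ⟨-10, 12⟩, ⟨-27, 15⟩, ⟨-19, 5⟩, ⟨-22, 4⟩]),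
    (651587268652452624173768405758482, ![⟨0, 1⟩, ⟨1, 0⟩, ⟨0, 1⟩, ⟨-1, 2⟩, ⟨1, 0⟩, ⟨-1, 2⟩, ⟨-1, 2⟩, ⟨-5, 2⟩, ⟨0, 0⟩, ⟨0, 1⟩, ⟨-6, 0⟩, ⟨-5, -3⟩, ⟨-3, 2⟩, ⟨-4, -1⟩, ⟨-4, 3⟩, ⟨-9, -6⟩, ⟨-10, 1⟩, ⟨-16, -14⟩, ⟨-8, -3⟩, ⟨-18, -25⟩, ⟨-16, -21⟩, ⟨2, -37⟩, ⟨-6, -41⟩, ⟨34, -43⟩, ⟨4, -54⟩, ⟨51, -92⟩, ⟨41, -52⟩, ⟨57, -53⟩]),
    (61165128096482059474406383698228, ![⟨0, -1⟩, ⟨-1, 0⟩, ⟨1, 0⟩, ⟨0, -1⟩, ⟨0, 1⟩, ⟨0, -1⟩, ⟨0, 0⟩, ⟨1, -1⟩, ⟨0, 0⟩, ⟨0, 0⟩, ⟨1, 0⟩, ⟨1, 0⟩, ⟨1, 0⟩, ⟨0, 1⟩, ⟨0, -1⟩, ⟨0, 2⟩, ⟨3, -1⟩, ⟨2, 2⟩, ⟨2, 1⟩, ⟨3, 4⟩, ⟨2, 3⟩, ⟨-1, 6⟩, ⟨2, 6⟩, ⟨-4, 7⟩, ⟨0, 8⟩, ⟨-7, 15⟩, ⟨-6, 9⟩, ⟨-7, 8⟩]),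
    (1034418983017080911738872396972548, ![⟨0, -1⟩, ⟨0, 0⟩, ⟨0, 1⟩, ⟨0, 0⟩, ⟨-1, 0⟩, ⟨0, -1⟩, ⟨-1, 0⟩, ⟨0, -1⟩, ⟨-1, 0⟩, ⟨-1, 0⟩, ⟨0, -2⟩, ⟨1, -2⟩, ⟨-1, -1⟩, ⟨1, -2⟩, ⟨-1, -3⟩, ⟨1, -5⟩, ⟨0, -2⟩, ⟨6, -6⟩, ⟨-1, -2⟩, ⟨8, -5⟩, ⟨8, -9⟩, ⟨15, -1⟩, ⟨17, -4⟩, ⟨20, 14⟩, ⟨22, 1⟩, ⟨38, 18⟩, ⟨21, 17⟩, ⟨24, 22⟩]),
    (344816437518477327899052424110096, ![⟨0, 0⟩, ⟨1, 0⟩, ⟨0, 0⟩, ⟨1, 1⟩, ⟨1, 0⟩, ⟨1, 2⟩, ⟨1, 2⟩, ⟨-1, 5⟩, ⟨0, 0⟩, ⟨1, 1⟩, ⟨-3, 5⟩, ⟨-6, 2⟩, ⟨-1, 4⟩, ⟨-3, 3⟩, ⟨-2, 4⟩, ⟨-10, 3⟩, ⟨-4, 7⟩, ⟨-21, 3⟩, ⟨-5, 5⟩, ⟨-29, -3⟩, ⟨-26, 0⟩, ⟨-27, -23⟩, ⟨-34, -19⟩, ⟨-13, -53⟩, ⟨-38, -35⟩, ⟨-38, -94⟩, ⟨-14, -62⟩, ⟨-7, -74⟩]),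
    (973715357658808380977269386183426, ![⟨0, 1⟩, ⟨0, 0⟩, ⟨-1, 0⟩, ⟨-1, 0⟩, ⟨-1, 0⟩, ⟨-1, 0⟩, ⟨-1, -2⟩, ⟨-1, -3⟩, ⟨0, 0⟩, ⟨-1, -1⟩, ⟨-1, -4⟩, ⟨2, -3⟩, ⟨0, -3⟩, ⟨2, -3⟩, ⟨1, -2⟩, ⟨6, -5⟩, ⟨0, -6⟩, ⟨12, -7⟩, ⟨2, -6⟩, ⟨17, -7⟩, ⟨17, -6⟩, ⟨23, 6⟩, ⟨25, 3⟩, ⟨21, 28⟩, ⟨32, 11⟩, ⟨48, 47⟩, ⟨26, 32⟩, ⟨23, 43⟩]),
    (652840137698344759245316987814160, ![⟨0, 0⟩, ⟨1, 0⟩, ⟨1, 0⟩, ⟨1, 1⟩, ⟨0, 0⟩, ⟨1, 1⟩, ⟨1, 2⟩, ⟨-1, 4⟩, ⟨1, 0⟩, ⟨2, 2⟩, ⟨-2, 4⟩, ⟨-5, 2⟩, ⟨1, 3⟩, ⟨-2, 3⟩, ⟨-1, 4⟩, ⟨-8, 6⟩, ⟨-2, 8⟩, ⟨-16, 7⟩, ⟨-4, 7⟩, ⟨-24, 5⟩, ⟨-23, 7⟩, ⟨-28, -14⟩, ⟨-36, -10⟩, ⟨-23, -42⟩, ⟨-41, -23⟩, ⟨-54, -71⟩, ⟨-25, -52⟩, ⟨-22, -64⟩]),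
    (43101363273229704617587980370947, ![⟨-1, 0⟩, ⟨0, 0⟩, ⟨0, -1⟩, ⟨0, -1⟩, ⟨0, -1⟩, ⟨1, -1⟩, ⟨2, -1⟩, ⟨4, -1⟩, ⟨1, 0⟩, ⟨1, 0⟩, ⟨5, 1⟩, ⟨2, 4⟩, ⟨3, 0⟩, ⟨3, 2⟩, ⟨3, 1⟩, ⟨6, 8⟩, ⟨6, 1⟩, ⟨7, 16⟩, ⟨6, 4⟩, ⟨6, 23⟩, ⟨4, 22⟩, ⟨-13, 28⟩, ⟨-11, 31⟩, ⟨-42, 19⟩, ⟨-21, 36⟩, ⟨-69, 49⟩, ⟨-46, 22⟩, ⟨-59, 18⟩]),
    (993838091281825946040009294360608, ![⟨0, 0⟩, ⟨0, 1⟩, ⟨0, 0⟩, ⟨-1, 1⟩, ⟨0, 0⟩, ⟨-2, 1⟩, ⟨-2, 1⟩, ⟨-4, -1⟩, ⟨0, 1⟩, ⟨-1, 1⟩, ⟨-5, -3⟩, ⟨-2, -6⟩, ⟨-4, 0⟩, ⟨-3, -4⟩, ⟨-5, -2⟩, ⟨-3, -10⟩, ⟨-6, -3⟩, ⟨-3, -20⟩, ⟨-5, -4⟩, ⟨3, -27⟩, ⟨-1, -26⟩, ⟨22, -27⟩, ⟨18, -34⟩, ⟨52, -13⟩, ⟨34, -38⟩, ⟨92, -40⟩, ⟨62, -14⟩, ⟨72, -8⟩]),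
    (82408202064655339691127117976064, ![⟨0, 0⟩, ⟨0, 0⟩, ⟨0, 1⟩, ⟨0, 0⟩, ⟨0, -1⟩, ⟨1, -1⟩, ⟨0, 0⟩, ⟨1, 0⟩, ⟨0, -1⟩, ⟨0, 0⟩, ⟨2, 0⟩, ⟨1, 1⟩, ⟨0, 0⟩, ⟨1, 0⟩, ⟨1, -1⟩, ⟨2, 0⟩, ⟨1, 1⟩, ⟨4, 4⟩, ⟨1, 0⟩, ⟨3, 5⟩, ⟨4, 3⟩, ⟨1, 8⟩, ⟨2, 9⟩, ⟨-8, 12⟩, ⟨0, 12⟩, ⟨-10, 20⟩, ⟨-10, 12⟩, ⟨-12, 13⟩]),
    (386890963298460169725173421048848, ![⟨0, 0⟩, ⟨1, 0⟩, ⟨0, -1⟩, ⟨1, 0⟩, ⟨0, -1⟩, ⟨2, 1⟩, ⟨2, 0⟩, ⟨3, 3⟩, ⟨-1, 0⟩, ⟨1, 0⟩, ⟨2, 4⟩, ⟨-1, 5⟩, ⟨3, 2⟩, ⟨1, 4⟩, ⟨3, 4⟩, ⟨-2, 9⟩, ⟨3, 6⟩, ⟨-7, 16⟩, ⟨0, 6⟩, ⟨-16, 20⟩, ⟨-13, 20⟩, ⟨-30, 9⟩, ⟨-31, 15⟩, ⟨-45, -17⟩, ⟨-44, 10⟩, ⟨-88, -17⟩, ⟨-51, -20⟩, ⟨-56, -30⟩]),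
    (3901989667611222468286063055104, ![⟨0, 0⟩, ⟨0, 0⟩, ⟨1, 0⟩, ⟨1, 0⟩, ⟨0, 0⟩, ⟨1, 1⟩, ⟨1, 1⟩, ⟨1, 3⟩, ⟨0, 0⟩, ⟨0, 1⟩, ⟨0, 4⟩, ⟨-3, 3⟩, ⟨1, 3⟩, ⟨-2, 3⟩, ⟨0, 3⟩, ⟨-7, 5⟩, ⟨-1, 5⟩, ⟨-12, 7⟩, ⟨-3, 4⟩, ⟨-20, 6⟩, ⟨-19, 6⟩, ⟨-24, -9⟩, ⟨-27, -6⟩, ⟨-21, -34⟩, ⟨-32, -15⟩, ⟨-49, -53⟩, ⟨-22, -37⟩, ⟨-21, -47⟩]),
    (62115501110732151616417638400032, ![⟨0, 0⟩, ⟨0, 1⟩, ⟨0, 0⟩, ⟨-1, 0⟩, ⟨0, -1⟩, ⟨0, 0⟩, ⟨-1, 0⟩, ⟨-1, -1⟩, ⟨0, 0⟩, ⟨-1, 1⟩, ⟨0, -1⟩, ⟨0, -2⟩, ⟨-1, 0⟩, ⟨0, -1⟩, ⟨-1, -2⟩, ⟨1, -4⟩, ⟨-2, -2⟩, ⟨3, -5⟩, ⟨-1, -2⟩, ⟨4, -7⟩, ⟨3, -7⟩, ⟨10, -2⟩, ⟨10, -6⟩, ⟨13, 5⟩, ⟨15, -5⟩, ⟨29, 4⟩, ⟨18, 6⟩, ⟨20, 10⟩]),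
    (2694396008989335025921283915809, ![⟨1, 0⟩, ⟨0, 1⟩, ⟨0, 0⟩, ⟨0, 1⟩, ⟨1, 0⟩, ⟨0, 2⟩, ⟨-1, 2⟩, ⟨-3, 3⟩, ⟨0, 0⟩, ⟨0, 0⟩, ⟨-5, 2⟩, ⟨-4, -2⟩, ⟨-3, 2⟩, ⟨-4, 1⟩, ⟨-3, 1⟩, ⟨-7, -3⟩, ⟨-6, 2⟩, ⟨-15, -8⟩, ⟨-6, -1⟩, ⟨-18, -17⟩, ⟨-15, -14⟩, ⟨-5, -28⟩, ⟨-10, -29⟩, ⟨20, -38⟩, ⟨-5, -40⟩, ⟨26, -77⟩, ⟨23, -44⟩, ⟨33, -47⟩]),
    (5318499913559643711949389377600, ![⟨0, 0⟩, ⟨0, -1⟩, ⟨0, 0⟩, ⟨0, 0⟩, ⟨-1, 0⟩, ⟨0, -1⟩, ⟨0, -1⟩, ⟨1, -2⟩, ⟨1, 0⟩, ⟨1, 0⟩, ⟨2, -1⟩, ⟨2, 1⟩, ⟨1, -2⟩, ⟨2, -2⟩, ⟨2, -2⟩, ⟨6, 0⟩, ⟨3, -1⟩, ⟨10, 3⟩, ⟨4, 0⟩, ⟨14, 8⟩, ⟨13, 7⟩, ⟨8, 18⟩, ⟨10, 19⟩, ⟨-8, 30⟩, ⟨7, 26⟩, ⟨-6, 54⟩, ⟨-12, 31⟩, ⟨-17, 34⟩]),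
    (976106746227636374859486452646944, ![⟨0, 0⟩, ⟨0, 1⟩, ⟨0, -1⟩, ⟨0, 0⟩, ⟨0, 1⟩, ⟨-1, 1⟩, ⟨0, 0⟩, ⟨-1, 0⟩, ⟨-1, 0⟩, ⟨-1, -1⟩, ⟨-2, -1⟩, ⟨0, -2⟩, ⟨-1, 0⟩, ⟨-1, 0⟩, ⟨-2, 0⟩, ⟨-2, -3⟩, ⟨-1, -2⟩, ⟨-2, -7⟩, ⟨-2, -2⟩, ⟨-1, -10⟩, ⟨-2, -9⟩, ⟨6, -12⟩, ⟨6, -13⟩, ⟨20, -9⟩, ⟨11, -14⟩, ⟨31, -18⟩, ⟨23, -6⟩, ⟨25, -4⟩]),
    (63393443136495767128328777057024, ![⟨0, 0⟩, ⟨0, 0⟩, ⟨-1, 0⟩, ⟨-1, -1⟩, ⟨1, 0⟩, ⟨0, -1⟩, ⟨0, -1⟩, ⟨1, -2⟩, ⟨1, 0⟩, ⟨0, 0⟩, ⟨2, -1⟩, ⟨2, 0⟩, ⟨0, -1⟩, ⟨2, 0⟩, ⟨1, -1⟩, ⟨5, 1⟩, ⟨2, -3⟩, ⟨7, 3⟩, ⟨4, -1⟩, ⟨10, 5⟩, ⟨9, 6⟩, ⟨4, 14⟩, ⟨7, 14⟩, ⟨-9, 19⟩, ⟨6, 19⟩, ⟨-5, 39⟩, ⟨-8, 21⟩, ⟨-13, 26⟩]),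
    (3887133088493572247187043319843, ![⟨-1, 0⟩, ⟨0, 1⟩, ⟨0, 0⟩, ⟨-1, 0⟩, ⟨-1, 0⟩, ⟨-2, -1⟩, ⟨-2, 0⟩, ⟨-2, -4⟩, ⟨0, 1⟩, ⟨-1, 1⟩, ⟨-1, -5⟩, ⟨1, -5⟩, ⟨-2, -2⟩, ⟨0, -5⟩, ⟨-3, -4⟩, ⟨3, -9⟩, ⟨-3, -7⟩, ⟨10, -17⟩, ⟨0, -6⟩, ⟨19, -18⟩, ⟨14, -19⟩, ⟨33, -5⟩, ⟨33, -14⟩, ⟨45, 22⟩, ⟨47, -8⟩, ⟨89, 26⟩, ⟨54, 26⟩, ⟨58, 36⟩]),
    (84953717421864373871608974090496, ![⟨0, 0⟩, ⟨0, 0⟩, ⟨1, 0⟩, ⟨1, 1⟩, ⟨1, 0⟩, ⟨1, 2⟩, ⟨1, 2⟩, ⟨-1, 5⟩, ⟨0, 0⟩, ⟨1, 1⟩, ⟨-3, 5⟩, ⟨-5, 2⟩, ⟨-1, 4⟩, ⟨-4, 3⟩, ⟨-2, 4⟩, ⟨-11, 3⟩, ⟨-4, 8⟩, ⟨-21, 3⟩, ⟨-6, 5⟩, ⟨-29, -3⟩, ⟨-27, -2⟩, ⟨-27, -25⟩, ⟨-34, -22⟩, ⟨-10, -55⟩, ⟨-37, -37⟩, ⟨-36, -97⟩, ⟨-12, -62⟩, ⟨-4, -76⟩]),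
    (715207497866296236686677712569360, ![⟨0, 0⟩, ⟨1, 0⟩, ⟨0, -1⟩, ⟨1, 0⟩, ⟨0, 0⟩, ⟨1, 1⟩, ⟨2, 1⟩, ⟨2, 3⟩, ⟨0, 1⟩, ⟨0, 1⟩, ⟨0, 4⟩, ⟨-3, 3⟩, ⟨2, 3⟩, ⟨-1, 4⟩, ⟨0, 5⟩, ⟨-7, 8⟩, ⟨0, 5⟩, ⟨-14, 10⟩, ⟨-2, 6⟩, ⟨-22, 11⟩, ⟨-22, 12⟩, ⟨-31, -7⟩, ⟨-35, -3⟩, ⟨-31, -39⟩, ⟨-43, -13⟩, ⟨-69, -58⟩, ⟨-32, -44⟩, ⟨-33, -55⟩]),
    (366588707953504770634268751953920, ![⟨0, 0⟩, ⟨0, 0⟩, ⟨0, 0⟩, ⟨0, 0⟩, ⟨0, -1⟩, ⟨0, 0⟩, ⟨1, 0⟩, ⟨1, 1⟩, ⟨0, -1⟩, ⟨1, 0⟩, ⟨1, 0⟩, ⟨0, 1⟩, ⟨0, 0⟩, ⟨1, 0⟩, ⟨0, 0⟩, ⟨2, 1⟩, ⟨1, 2⟩, ⟨2, 4⟩, ⟨1, 1⟩, ⟨1, 5⟩, ⟨1, 4⟩, ⟨-2, 5⟩, ⟨-3, 7⟩, ⟨-9, 5⟩, ⟨-5, 8⟩, ⟨-14, 9⟩, ⟨-11, 5⟩, ⟨-14, 4⟩]),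
    (405658100519679896800794633249792, ![⟨0, 0⟩, ⟨0, 0⟩, ⟨0, -1⟩, ⟨1, 0⟩, ⟨-1, 0⟩, ⟨0, 0⟩, ⟨0, 0⟩, ⟨1, 0⟩, ⟨0, 0⟩, ⟨0, 0⟩, ⟨0, 0⟩, ⟨0, 0⟩, ⟨0, -1⟩, ⟨0, -1⟩, ⟨1, -1⟩, ⟨2, 0⟩, ⟨2, 0⟩, ⟨3, 0⟩, ⟨1, 1⟩, ⟨5, 2⟩, ⟨3, 1⟩, ⟨2, 4⟩, ⟨2, 5⟩, ⟨0, 7⟩, ⟨2, 6⟩, ⟨0, 13⟩, ⟨-1, 8⟩, ⟨-4, 8⟩]),
    (347653491447767405196132923621378, ![⟨0, 1⟩, ⟨0, 0⟩, ⟨0, 0⟩, ⟨-1, 0⟩, ⟨0, 1⟩, ⟨-2, 0⟩, ⟨-1, 0⟩, ⟨-3, -2⟩, ⟨-1, 0⟩, ⟨0, 0⟩, ⟨-2, -4⟩, ⟨1, -3⟩, ⟨-1, -1⟩, ⟨-1, -2⟩, ⟨-2, 0⟩, ⟨-1, -5⟩, ⟨-3, -4⟩, ⟨2, -13⟩, ⟨-2, -5⟩, ⟨6, -16⟩, ⟨4, -14⟩, ⟨18, -13⟩, ⟨18, -17⟩, ⟨34, 2⟩, ⟨27, -16⟩, ⟨61, -5⟩, ⟨40, 3⟩, ⟨45, 10⟩])]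

set_option maxRecDepth 1000000 in
theorem colsA : colsOK dA = true := by decide +kernel

set_option maxRecDepth 1000000 in
theorem lattA : lattOK dA := by decide +kernel

end Cfsg.Agent.Lib.Helper9.RuGen
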