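import Cfsg.Agent.Lib.Helper9.RuGenH0
import Cfsg.Agent.Lib.Helper9.RuGenH1
import Cfsg.Agent.Lib.Helper9.RuGenH2
import Cfsg.Agent.Lib.Helper9.RuGenH3
import Cfsg.Agent.Lib.Helper9.RuGenH4
import Cfsg.Agent.Lib.Helper9.RuGenH5
import Cfsg.Agent.Lib.Helper3.TCX.RuPSimple

set_option autoImplicit false

/-!
# The Rudvalis group of the Prelude is the group presented on five involutions

The automorphism group `fourRu` of the lattice has at most `4 * 145926144000` elements (`RuAutD`), its centre
contains the four scalars, and the simple group `RuPSimple.P` of order `145926144000` maps to the quotient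
by the five explicit automorphisms `Ag`: hence the quotient is isomorphic to that group.
-/

namespace Cfsg.Agent.Lib.Helper9.RuIso

open Cfsg.Spor Cfsg.Agent.Lib.Helper14.RuLat Cfsg.Agent.Lib.Helper9.RuDfs Cfsg.Agent.Lib.Helper9.RuMin
  Cfsg.Agent.Lib.Helper9.RuAut Cfsg.Agent.Lib.Helper9.RuGen
open Cfsg.Agent.Lib.Helper3.TCX

/-- all relators with their scalars and traces -/
def relDataAll : List (List ℕ × ℕ × List (List ℕ)) :=
  relData0 ++ relData1 ++ relData2 ++ relData3 ++ relData4 ++ relData5

theorem relDataAll_ok : ∀ t ∈ relDataAll, relOK Dg t.1 t.2.1 t.2.2 = true := by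
  intro t ht
  simp only [relDataAll, List.mem_append] at ht
  rcases ht with ((((h | h) | h) | h) | h) | h
  exacts [relData0_ok t h, relData1_ok t h, relData2_ok t h, relData3_ok t h, relData4_ok t h,
    relData5_ok t h]

/-- the words of the checked relators -/
def relKeys : List (List ℕ) := relDataAll.map fun t => t.1

set_option maxRecDepth 1000000 in
theorem cover : ∀ L ∈ RuPLink.relWords, L.map RuPLink.lw ∈ relKeys := by decide +kernel

theorem rel_word (L : List (RuPDef.Gen × Bool)) (hL : L ∈ RuPLink.relWords) :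
    ∃ s, ((L.map RuPLink.lw).map Ag).prod = scal ^ s := by
  obtain ⟨t, ht, e⟩ := List.mem_map.1 (cover L hL)
  refine ⟨t.2.1, ?_⟩
  rw [← e]
  exact rel_scal_Ag t.1 t.2.1 t.2.2 (relDataAll_ok t ht)

/-- the images of the five generators -/
noncomputable def gen (x : RuPDef.Gen) : Spor.Ru := QuotientGroup.mk (Ag (RuPLink.lw (x, true)))

theorem gen_letter (p : RuPDef.Gen × Bool) :
    (bif p.2 then gen p.1 else (gen p.1)⁻¹) =
      QuotientGroup.mk' (Subgroup.center fourRu) (Ag (RuPLink.lw p)) := by
  obtain ⟨x, b⟩ := p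
  have hlw : RuPLink.lw (x, b) = RuPLink.lw (x, true) := by cases x <;> rfl
  rw [hlw]
  cases b
  · change (gen x)⁻¹ = _
    unfold gen
    rw [← QuotientGroup.mk_inv]
    congr 1
    exact inv_eq_of_mul_eq_one_left (Ag_mul_self _)
  · rfl

theorem lift_rel : ∀ r ∈ RuPLink.rels, FreeGroup.lift gen r = 1 := by
  intro r hr
  obtain ⟨L, hL, rfl⟩ := (RuPLink.link.hrels r).1 hr
  rw [FreeGroup.lift_mk]
  have e : (L.map fun x => bif x.2 then gen x.1 else (gen x.1)⁻¹) =
      ((L.map RuPLink.lw).map Ag).map (QuotientGroup.mk' (Subgroup.center fourRu)) := by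
    rw [List.map_map, List.map_map]
    exact List.map_congr_left fun p _ => gen_letter p
  rw [e, ← map_list_prod]
  obtain ⟨s, hs⟩ := rel_word L hL
  rw [hs]
  exact (QuotientGroup.eq_one_iff _).2 (Subgroup.pow_mem _ scal_mem_center s)

/-- the homomorphism from the presented group -/
noncomputable def hom : RuPSimple.P →* Spor.Ru := PresentedGroup.toGroup lift_rel

theorem hom_of (x : RuPDef.Gen) : hom (PresentedGroup.of x) = gen x := PresentedGroup.toGroup.of _

set_option maxRecDepth 1000000 in
theorem fwd_ca : fwd Dg [2, 0] [651573066191921485593840328127283, 2783198699231007409559868342531] beta2 =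
    some 2783198699231007409559868342531 := by decide +kernel

set_option maxRecDepth 1000000 in
theorem fwd_ac : fwd Dg [0, 2] [1379214685039006477419007185125635, 84953077900103491907428385030163] beta2 =
    some 84953077900103491907428385030163 := by decide +kernel

set_option maxRecDepth 1000000 in
theorem digits_ne : decodeC 2783198699231007409559868342531 ((0 : Fin 7), (1 : Fin 4)) ≠
    decodeC 84953077900103491907428385030163 ((0 : Fin 7), (1 : Fin 4)) := by decide +kernel

theorem Ag0_not_central : Ag 0 ∉ Subgroup.center fourRu := by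
  intro h
  have hcomm : Ag 2 * Ag 0 = Ag 0 * Ag 2 := (Subgroup.mem_center_iff.1 h) (Ag 2)
  have hm : decodeC beta2 ∈ ruLattice := hb5 beta2 (by simp)
  obtain ⟨h1, e1⟩ := fwd_spec Ag Dg Ag_apply _ _ _ _ fwd_ca hm
  obtain ⟨h2, e2⟩ := fwd_spec Ag Dg Ag_apply _ _ _ _ fwd_ac hm
  simp only [List.reverse_cons, List.reverse_nil, List.nil_append, List.cons_append, List.map_cons,
    List.map_nil, List.prod_cons, List.prod_nil, mul_one] at e1 e2
  rw [hcomm, e1] at e2
  have e3 := congrFun (Subtype.ext_iff.1 e2) ((0 : Fin 7), (1 : Fin 4))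
  exact digits_ne e3

set_option maxRecDepth 1000000 in
theorem digit_beta1 : decodeC beta1 ((0 : Fin 7), (0 : Fin 4)) ≠
    (gI ^ 2 • decodeC beta1) ((0 : Fin 7), (0 : Fin 4)) := by decide +kernel

theorem scal_pow_two_ne : scal ^ 2 ≠ 1 := by
  intro h
  have hm : decodeC beta1 ∈ ruLattice := hb5 beta1 (by simp)
  have e := scal_pow_apply 2 ⟨decodeC beta1, hm⟩
  rw [h] at e
  have e' : decodeC beta1 = gI ^ 2 • decodeC beta1 := e
  exact digit_beta1 (congrFun e' _)

theorem scal_pow_four : scal ^ 4 = 1 := by
  apply Subtype.ext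
  apply Equiv.ext
  intro v
  apply Subtype.ext
  rw [scal_pow_apply]
  have : gI ^ 4 = 1 := by decide
  rw [this, one_smul]
  rfl

theorem orderOf_scal : orderOf scal = 4 :=
  orderOf_eq_prime_pow (p := 2) (n := 1) (by simpa using scal_pow_two_ne) (by simpa using scal_pow_four)

/-- the order of the centre, the order of the quotient, and the isomorphism -/
theorem main : Nat.card (Subgroup.center fourRu) = 4 ∧ Nat.card Spor.Ru = 145926144000 ∧
    Function.Bijective hom := by
  obtain ⟨hfin, hle⟩ := card_fourRu_le
  have := hfin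
  obtain ⟨hsimple, hcardP, _⟩ := RuPSimple.main
  have := hsimple
  have hinj : Function.Injective hom := by
    rw [← MonoidHom.ker_eq_bot_iff]
    rcases (MonoidHom.normal_ker hom).eq_bot_or_eq_top with h | h
    · exact h
    · exfalso
      have hk : PresentedGroup.of RuPDef.Gen.a ∈ hom.ker := by rw [h]; trivial
      rw [MonoidHom.mem_ker, hom_of] at hk
      exact Ag0_not_central ((QuotientGroup.eq_one_iff _).1 hk)
  have h1 : Nat.card RuPSimple.P ≤ Nat.card Spor.Ru := Nat.card_le_card_of_injective hom hinj
  rw [hcardP] at h1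
  have h2 : Nat.card fourRu = Nat.card Spor.Ru * Nat.card (Subgroup.center fourRu) :=
    Subgroup.card_eq_card_quotient_mul_card_subgroup (Subgroup.center fourRu)
  have h3 : 4 ≤ Nat.card (Subgroup.center fourRu) := by
    have hz : Subgroup.zpowers scal ≤ Subgroup.center fourRu := (Subgroup.zpowers_le).2 scal_mem_center
    have := Subgroup.card_le_of_le hz
    rwa [Nat.card_zpowers, orderOf_scal] at this
  have h4 : Nat.card Spor.Ru * 4 ≤ Nat.card Spor.Ru * Nat.card (Subgroup.center fourRu) :=
    Nat.mul_le_mul_left _ h3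
  have hR : Nat.card Spor.Ru = 145926144000 := by omega
  have hZ : Nat.card (Subgroup.center fourRu) = 4 := by
    rw [hR] at h2
    omega
  refine ⟨hZ, hR, hinj.bijective_of_nat_card_le ?_⟩
  rw [hR, hcardP]

/-- the isomorphism -/
noncomputable def iso : RuPSimple.P ≃* Spor.Ru := MulEquiv.ofBijective hom main.2.2

theorem iso_of (x : RuPDef.Gen) : iso (PresentedGroup.of x) = gen x := hom_of x

/-- the Rudvalis group of the Prelude is the presented group -/
theorem ru_iso : Nonempty (Spor.Ru ≃* RuPSimple.P) := ⟨iso.symm⟩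

theorem ru_simple : IsSimpleGroup Spor.Ru := by
  have := RuPSimple.main.1
  exact iso.symm.isSimpleGroup

theorem card_ru : Nat.card Spor.Ru = 145926144000 := main.2.1

theorem card_center : Nat.card (Subgroup.center fourRu) = 4 := main.1

theorem card_fourRu : Nat.card fourRu = 583704576000 := by
  rw [Subgroup.card_eq_card_quotient_mul_card_subgroup (Subgroup.center fourRu), card_center, card_ru]

end Cfsg.Agent.Lib.Helper9.RuIso
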