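import Cfsg.Agent.Lib.Helper14.RuLatC

set_option autoImplicit false

/-!
# The Rudvalis lattice: the lattice of the definitions is the span of the triangular basis

Generated data: 28 images of generating vectors under the monomial group which form a basis of the lattice,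
and the coefficients of the triangular basis `Bv` with respect to them.
-/

namespace Cfsg.Agent.Lib.Helper9.RuMin

open Cfsg.Spor Cfsg.Agent.Lib.Helper14.RuLat

/-- the words: the number of the generating vector and the letters (0: multiplication by i, 1: `ruRj`, 2: `ruRk`,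
3: `ruSign`, 4: `ruShift`), the first letter applied last -/
def Gw : Fin 28 → ℕ × List (Fin 5) := ![
  (6, [4, 4, 3, 4, 4, 2, 1]),
  (10, [3, 0, 0, 0]),
  (4, [3, 4, 2, 1]),
  (17, [4, 1, 0, 0]),
  (4, [4, 4, 4, 3, 1, 0]),
  (6, [4, 3, 4, 1, 2, 0]),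
  (17, [3, 4, 4, 0]),
  (6, [4, 4, 3, 2]),
  (7, [3, 4, 4, 3, 4]),
  (6, [4, 4, 1, 0]),
  (8, [3, 4, 4, 3, 2, 0]),
  (2, [3, 4, 3, 2, 0]),
  (8, [4, 3, 4, 3, 2, 1, 0]),
  (2, [4, 0]),
  (2, [4, 2]),
  (4, [4, 3, 2]),
  (3, [4, 1, 2]),
  (17, [3, 4, 3, 0]),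
  (4, [4, 3, 4, 4]),
  (8, [3, 4, 4, 3, 0, 0]),
  (19, [4, 3, 4, 4, 4, 4]),
  (2, [3, 4, 0]),
  (5, [4, 3, 4, 0, 0]),
  (0, [4, 4, 1, 2]),
  (0, [4, 2, 0]),
  (0, [4, 1, 2, 0]),
  (0, [4, 3, 1, 0]),
  (4, [4, 3, 4, 3, 4, 0])]

/-- the images -/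
def Gv : Fin 28 → RuVec := ![
  ruOfArray ![![⟨0, -1⟩, ⟨0, 0⟩, ⟨0, -1⟩, ⟨0, 0⟩], ![⟨1, 0⟩, ⟨0, 0⟩, ⟨0, 0⟩, ⟨0, 1⟩], ![⟨0, 0⟩, ⟨0, 1⟩, ⟨0, 0⟩, ⟨0, -1⟩], ![⟨0, -1⟩, ⟨-1, 0⟩, ⟨1, 0⟩, ⟨0, -1⟩], ![⟨0, 0⟩, ⟨0, -1⟩, ⟨-1, 0⟩, ⟨0, 0⟩], ![⟨1, 0⟩, ⟨1, 0⟩, ⟨0, 0⟩, ⟨0, 0⟩], ![⟨0, 0⟩, ⟨0, 0⟩, ⟨0, -1⟩, ⟨0, -1⟩]],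
  ruOfArray ![![⟨0, 1⟩, ⟨0, 1⟩, ⟨0, -1⟩, ⟨0, -1⟩], ![⟨0, -1⟩, ⟨0, 0⟩, ⟨0, 0⟩, ⟨0, -1⟩], ![⟨-1, 0⟩, ⟨1, 0⟩, ⟨0, 0⟩, ⟨0, 0⟩], ![⟨0, 0⟩, ⟨0, 0⟩, ⟨0, 1⟩, ⟨0, 1⟩], ![⟨0, 0⟩, ⟨0, 1⟩, ⟨0, 0⟩, ⟨1, 0⟩], ![⟨-1, 0⟩, ⟨0, 0⟩, ⟨0, 0⟩, ⟨0, -1⟩], ![⟨0, 0⟩, ⟨-1, 0⟩, ⟨0, 0⟩, ⟨1, 0⟩]],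
  ruOfArray ![![⟨0, 0⟩, ⟨0, 0⟩, ⟨0, 0⟩, ⟨0, 0⟩], ![⟨0, 0⟩, ⟨0, 0⟩, ⟨0, 0⟩, ⟨0, 0⟩], ![⟨0, -1⟩, ⟨0, -1⟩, ⟨1, 0⟩, ⟨0, 1⟩], ![⟨0, 0⟩, ⟨0, 0⟩, ⟨0, 0⟩, ⟨0, 0⟩], ![⟨0, -1⟩, ⟨1, 0⟩, ⟨0, -1⟩, ⟨0, 1⟩], ![⟨-1, 0⟩, ⟨-1, 0⟩, ⟨1, 0⟩, ⟨0, -1⟩], ![⟨0, -1⟩, ⟨1, 0⟩, ⟨-1, 0⟩, ⟨-1, 0⟩]],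
  ruOfArray ![![⟨0, 1⟩, ⟨0, 0⟩, ⟨0, 0⟩, ⟨0, -1⟩], ![⟨0, -1⟩, ⟨0, 1⟩, ⟨0, 0⟩, ⟨0, 0⟩], ![⟨-1, 0⟩, ⟨0, 1⟩, ⟨0, 0⟩, ⟨0, 0⟩], ![⟨0, 1⟩, ⟨0, 0⟩, ⟨0, 1⟩, ⟨0, 0⟩], ![⟨0, 0⟩, ⟨1, 0⟩, ⟨-1, 0⟩, ⟨0, 0⟩], ![⟨0, 1⟩, ⟨0, 0⟩, ⟨-1, 0⟩, ⟨0, 0⟩], ![⟨0, 1⟩, ⟨0, -1⟩, ⟨-1, 0⟩, ⟨-1, 0⟩]],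
  ruOfArray ![![⟨-1, 0⟩, ⟨1, 0⟩, ⟨0, 1⟩, ⟨1, 0⟩], ![⟨0, 0⟩, ⟨0, 0⟩, ⟨0, 0⟩, ⟨0, 0⟩], ![⟨0, 1⟩, ⟨1, 0⟩, ⟨0, 1⟩, ⟨0, 1⟩], ![⟨1, 0⟩, ⟨1, 0⟩, ⟨-1, 0⟩, ⟨0, 1⟩], ![⟨-1, 0⟩, ⟨0, -1⟩, ⟨0, -1⟩, ⟨0, -1⟩], ![⟨0, 0⟩, ⟨0, 0⟩, ⟨0, 0⟩, ⟨0, 0⟩], ![⟨0, 0⟩, ⟨0, 0⟩, ⟨0, 0⟩, ⟨0, 0⟩]],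
  ruOfArray ![![⟨0, 1⟩, ⟨0, 1⟩, ⟨0, 0⟩, ⟨0, 0⟩], ![⟨0, 0⟩, ⟨0, 0⟩, ⟨-1, 0⟩, ⟨-1, 0⟩], ![⟨1, 0⟩, ⟨0, 0⟩, ⟨1, 0⟩, ⟨0, 0⟩], ![⟨0, 1⟩, ⟨0, 0⟩, ⟨0, 0⟩, ⟨-1, 0⟩], ![⟨0, 0⟩, ⟨-1, 0⟩, ⟨0, 0⟩, ⟨1, 0⟩], ![⟨-1, 0⟩, ⟨0, 1⟩, ⟨0, -1⟩, ⟨-1, 0⟩], ![⟨0, 0⟩, ⟨-1, 0⟩, ⟨0, 1⟩, ⟨0, 0⟩]],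
  ruOfArray ![![⟨0, 1⟩, ⟨0, -1⟩, ⟨0, 0⟩, ⟨0, 0⟩], ![⟨0, -1⟩, ⟨1, 0⟩, ⟨0, 0⟩, ⟨0, 0⟩], ![⟨0, 0⟩, ⟨0, -1⟩, ⟨0, 0⟩, ⟨1, 0⟩], ![⟨1, 0⟩, ⟨0, 0⟩, ⟨0, 0⟩, ⟨0, -1⟩], ![⟨0, 0⟩, ⟨0, -1⟩, ⟨0, 0⟩, ⟨0, 1⟩], ![⟨0, -1⟩, ⟨0, 1⟩, ⟨0, 1⟩, ⟨0, -1⟩], ![⟨0, 0⟩, ⟨0, 1⟩, ⟨-1, 0⟩, ⟨0, 0⟩]],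
  ruOfArray ![![⟨0, -1⟩, ⟨0, -1⟩, ⟨0, 0⟩, ⟨0, 0⟩], ![⟨0, 0⟩, ⟨0, 0⟩, ⟨0, 1⟩, ⟨0, -1⟩], ![⟨0, 0⟩, ⟨1, 0⟩, ⟨0, 0⟩, ⟨0, 1⟩], ![⟨0, 0⟩, ⟨0, 1⟩, ⟨0, 1⟩, ⟨0, 0⟩], ![⟨1, 0⟩, ⟨0, 0⟩, ⟨0, 1⟩, ⟨0, 0⟩], ![⟨0, -1⟩, ⟨1, 0⟩, ⟨0, -1⟩, ⟨-1, 0⟩], ![⟨-1, 0⟩, ⟨0, 0⟩, ⟨0, 0⟩, ⟨-1, 0⟩]],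
  ruOfArray ![![⟨0, -1⟩, ⟨1, 0⟩, ⟨0, 0⟩, ⟨0, 0⟩], ![⟨0, 0⟩, ⟨1, 0⟩, ⟨0, 0⟩, ⟨0, -1⟩], ![⟨0, 1⟩, ⟨0, 0⟩, ⟨0, 0⟩, ⟨-1, 0⟩], ![⟨0, 1⟩, ⟨0, 0⟩, ⟨-1, 0⟩, ⟨0, 0⟩], ![⟨-1, 0⟩, ⟨-1, 0⟩, ⟨-1, 0⟩, ⟨-1, 0⟩], ![⟨0, 0⟩, ⟨0, 1⟩, ⟨-1, 0⟩, ⟨0, 0⟩], ![⟨0, 0⟩, ⟨0, 0⟩, ⟨0, -1⟩, ⟨1, 0⟩]],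
  ruOfArray ![![⟨0, 0⟩, ⟨0, 0⟩, ⟨-1, 0⟩, ⟨0, 1⟩], ![⟨0, -1⟩, ⟨1, 0⟩, ⟨0, 0⟩, ⟨0, 0⟩], ![⟨0, -1⟩, ⟨0, 0⟩, ⟨0, -1⟩, ⟨0, 0⟩], ![⟨0, 0⟩, ⟨1, 0⟩, ⟨-1, 0⟩, ⟨0, 0⟩], ![⟨0, 0⟩, ⟨1, 0⟩, ⟨0, 0⟩, ⟨1, 0⟩], ![⟨-1, 0⟩, ⟨-1, 0⟩, ⟨0, 1⟩, ⟨0, -1⟩], ![⟨1, 0⟩, ⟨0, 0⟩, ⟨0, 0⟩, ⟨1, 0⟩]],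
  ruOfArray ![![⟨0, 1⟩, ⟨0, 1⟩, ⟨0, 0⟩, ⟨0, 0⟩], ![⟨0, 0⟩, ⟨0, 0⟩, ⟨-1, 0⟩, ⟨-1, 0⟩], ![⟨0, 1⟩, ⟨0, 0⟩, ⟨0, 1⟩, ⟨0, 0⟩], ![⟨0, 1⟩, ⟨0, 0⟩, ⟨0, 0⟩, ⟨1, 0⟩], ![⟨-1, 0⟩, ⟨0, 0⟩, ⟨0, -1⟩, ⟨0, 0⟩], ![⟨1, 0⟩, ⟨0, 1⟩, ⟨-1, 0⟩, ⟨0, 1⟩], ![⟨0, 1⟩, ⟨0, 0⟩, ⟨0, 0⟩, ⟨0, -1⟩]],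
  ruOfArray ![![⟨0, 0⟩, ⟨0, 0⟩, ⟨0, 0⟩, ⟨0, 0⟩], ![⟨0, 0⟩, ⟨0, 0⟩, ⟨0, 0⟩, ⟨0, 0⟩], ![⟨0, 1⟩, ⟨0, 1⟩, ⟨1, 0⟩, ⟨0, 1⟩], ![⟨0, 0⟩, ⟨0, 0⟩, ⟨0, 0⟩, ⟨0, 0⟩], ![⟨1, 0⟩, ⟨0, 1⟩, ⟨1, 0⟩, ⟨-1, 0⟩], ![⟨1, 0⟩, ⟨-1, 0⟩, ⟨-1, 0⟩, ⟨0, -1⟩], ![⟨1, 0⟩, ⟨0, 1⟩, ⟨0, 1⟩, ⟨0, 1⟩]],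
  ruOfArray ![![⟨-1, 0⟩, ⟨-1, 0⟩, ⟨0, 0⟩, ⟨0, 0⟩], ![⟨0, 0⟩, ⟨0, 0⟩, ⟨1, 0⟩, ⟨-1, 0⟩], ![⟨0, 0⟩, ⟨-1, 0⟩, ⟨0, 0⟩, ⟨0, -1⟩], ![⟨0, 0⟩, ⟨-1, 0⟩, ⟨1, 0⟩, ⟨0, 0⟩], ![⟨0, 0⟩, ⟨0, -1⟩, ⟨0, 0⟩, ⟨0, 1⟩], ![⟨1, 0⟩, ⟨0, -1⟩, ⟨0, -1⟩, ⟨-1, 0⟩], ![⟨0, 0⟩, ⟨1, 0⟩, ⟨0, 1⟩, ⟨0, 0⟩]],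
  ruOfArray ![![⟨0, 0⟩, ⟨0, 0⟩, ⟨0, 0⟩, ⟨0, 0⟩], ![⟨0, 0⟩, ⟨0, 0⟩, ⟨0, 0⟩, ⟨0, 0⟩], ![⟨0, 1⟩, ⟨0, -1⟩, ⟨-1, 0⟩, ⟨0, 1⟩], ![⟨0, 0⟩, ⟨0, 0⟩, ⟨0, 0⟩, ⟨0, 0⟩], ![⟨0, 1⟩, ⟨1, 0⟩, ⟨0, 1⟩, ⟨0, 1⟩], ![⟨0, 1⟩, ⟨0, -1⟩, ⟨0, -1⟩, ⟨1, 0⟩], ![⟨1, 0⟩, ⟨0, 1⟩, ⟨0, -1⟩, ⟨0, -1⟩]],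
  ruOfArray ![![⟨0, 0⟩, ⟨0, 0⟩, ⟨0, 0⟩, ⟨0, 0⟩], ![⟨0, 0⟩, ⟨0, 0⟩, ⟨0, 0⟩, ⟨0, 0⟩], ![⟨-1, 0⟩, ⟨-1, 0⟩, ⟨0, 1⟩, ⟨-1, 0⟩], ![⟨0, 0⟩, ⟨0, 0⟩, ⟨0, 0⟩, ⟨0, 0⟩], ![⟨0, 1⟩, ⟨-1, 0⟩, ⟨0, 1⟩, ⟨0, -1⟩], ![⟨0, -1⟩, ⟨0, 1⟩, ⟨0, 1⟩, ⟨-1, 0⟩], ![⟨0, -1⟩, ⟨1, 0⟩, ⟨1, 0⟩, ⟨1, 0⟩]],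
  ruOfArray ![![⟨0, 0⟩, ⟨0, 0⟩, ⟨0, 0⟩, ⟨0, 0⟩], ![⟨0, 0⟩, ⟨0, 0⟩, ⟨0, 0⟩, ⟨0, 0⟩], ![⟨-1, 0⟩, ⟨-1, 0⟩, ⟨0, -1⟩, ⟨1, 0⟩], ![⟨0, 0⟩, ⟨0, 0⟩, ⟨0, 0⟩, ⟨0, 0⟩], ![⟨0, -1⟩, ⟨-1, 0⟩, ⟨0, -1⟩, ⟨0, -1⟩], ![⟨0, -1⟩, ⟨0, -1⟩, ⟨0, -1⟩, ⟨-1, 0⟩], ![⟨0, 1⟩, ⟨1, 0⟩, ⟨-1, 0⟩, ⟨1, 0⟩]],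
  ruOfArray ![![⟨0, 0⟩, ⟨0, 0⟩, ⟨0, 0⟩, ⟨0, 0⟩], ![⟨0, 0⟩, ⟨0, 0⟩, ⟨0, 0⟩, ⟨0, 0⟩], ![⟨0, -1⟩, ⟨0, 1⟩, ⟨1, 0⟩, ⟨0, -1⟩], ![⟨0, 0⟩, ⟨0, 0⟩, ⟨0, 0⟩, ⟨0, 0⟩], ![⟨0, 1⟩, ⟨1, 0⟩, ⟨0, -1⟩, ⟨0, -1⟩], ![⟨1, 0⟩, ⟨1, 0⟩, ⟨1, 0⟩, ⟨0, -1⟩], ![⟨0, 1⟩, ⟨-1, 0⟩, ⟨-1, 0⟩, ⟨-1, 0⟩]],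
  ruOfArray ![![⟨0, 0⟩, ⟨0, 1⟩, ⟨-1, 0⟩, ⟨0, 0⟩], ![⟨0, -1⟩, ⟨0, 1⟩, ⟨0, 0⟩, ⟨0, 0⟩], ![⟨0, 1⟩, ⟨-1, 0⟩, ⟨0, 0⟩, ⟨0, 0⟩], ![⟨0, 0⟩, ⟨0, 1⟩, ⟨0, 0⟩, ⟨-1, 0⟩], ![⟨1, 0⟩, ⟨0, 0⟩, ⟨0, 0⟩, ⟨0, -1⟩], ![⟨0, 0⟩, ⟨0, -1⟩, ⟨0, 0⟩, ⟨0, 1⟩], ![⟨0, 1⟩, ⟨0, -1⟩, ⟨0, -1⟩, ⟨0, 1⟩]],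
  ruOfArray ![![⟨1, 0⟩, ⟨-1, 0⟩, ⟨0, -1⟩, ⟨-1, 0⟩], ![⟨0, 0⟩, ⟨0, 0⟩, ⟨0, 0⟩, ⟨0, 0⟩], ![⟨-1, 0⟩, ⟨0, -1⟩, ⟨-1, 0⟩, ⟨1, 0⟩], ![⟨1, 0⟩, ⟨1, 0⟩, ⟨1, 0⟩, ⟨0, -1⟩], ![⟨0, 1⟩, ⟨1, 0⟩, ⟨1, 0⟩, ⟨-1, 0⟩], ![⟨0, 0⟩, ⟨0, 0⟩, ⟨0, 0⟩, ⟨0, 0⟩], ![⟨0, 0⟩, ⟨0, 0⟩, ⟨0, 0⟩, ⟨0, 0⟩]],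
  ruOfArray ![![⟨0, 0⟩, ⟨0, 0⟩, ⟨0, 1⟩, ⟨1, 0⟩], ![⟨-1, 0⟩, ⟨0, -1⟩, ⟨0, 0⟩, ⟨0, 0⟩], ![⟨0, 1⟩, ⟨0, 0⟩, ⟨0, 1⟩, ⟨0, 0⟩], ![⟨0, 0⟩, ⟨0, 1⟩, ⟨0, 1⟩, ⟨0, 0⟩], ![⟨0, -1⟩, ⟨0, 0⟩, ⟨-1, 0⟩, ⟨0, 0⟩], ![⟨-1, 0⟩, ⟨-1, 0⟩, ⟨1, 0⟩, ⟨1, 0⟩], ![⟨0, 0⟩, ⟨1, 0⟩, ⟨0, 1⟩, ⟨0, 0⟩]],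
  ruOfArray ![![⟨0, 0⟩, ⟨0, 1⟩, ⟨0, -1⟩, ⟨0, 0⟩], ![⟨1, 0⟩, ⟨0, 0⟩, ⟨0, -1⟩, ⟨0, 0⟩], ![⟨-1, 0⟩, ⟨1, 0⟩, ⟨1, 0⟩, ⟨-1, 0⟩], ![⟨1, 0⟩, ⟨0, 0⟩, ⟨0, 0⟩, ⟨1, 0⟩], ![⟨0, 0⟩, ⟨0, 0⟩, ⟨-1, 0⟩, ⟨0, 1⟩], ![⟨0, 0⟩, ⟨0, 0⟩, ⟨-1, 0⟩, ⟨-1, 0⟩], ![⟨0, 1⟩, ⟨0, 0⟩, ⟨0, -1⟩, ⟨0, 0⟩]],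
  ruOfArray ![![⟨0, 0⟩, ⟨0, 0⟩, ⟨0, 0⟩, ⟨0, 0⟩], ![⟨0, 0⟩, ⟨0, 0⟩, ⟨0, 0⟩, ⟨0, 0⟩], ![⟨0, 1⟩, ⟨0, -1⟩, ⟨-1, 0⟩, ⟨0, 1⟩], ![⟨0, 0⟩, ⟨0, 0⟩, ⟨0, 0⟩, ⟨0, 0⟩], ![⟨0, 1⟩, ⟨1, 0⟩, ⟨0, 1⟩, ⟨0, 1⟩], ![⟨0, -1⟩, ⟨0, 1⟩, ⟨0, 1⟩, ⟨-1, 0⟩], ![⟨-1, 0⟩, ⟨0, -1⟩, ⟨0, 1⟩, ⟨0, 1⟩]],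
  ruOfArray ![![⟨-1, 0⟩, ⟨1, 0⟩, ⟨0, 0⟩, ⟨0, 0⟩], ![⟨0, 0⟩, ⟨0, 0⟩, ⟨1, 0⟩, ⟨-1, 0⟩], ![⟨1, 0⟩, ⟨0, 0⟩, ⟨-1, 0⟩, ⟨0, 0⟩], ![⟨0, 0⟩, ⟨1, 0⟩, ⟨-1, 0⟩, ⟨0, 0⟩], ![⟨0, 0⟩, ⟨1, 0⟩, ⟨0, 0⟩, ⟨-1, 0⟩], ![⟨1, 0⟩, ⟨1, 0⟩, ⟨1, 0⟩, ⟨1, 0⟩], ![⟨1, 0⟩, ⟨0, 0⟩, ⟨0, 0⟩, ⟨-1, 0⟩]],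
  ruOfArray ![![⟨0, 0⟩, ⟨0, 0⟩, ⟨0, 0⟩, ⟨0, 0⟩], ![⟨0, 0⟩, ⟨0, 0⟩, ⟨0, 0⟩, ⟨0, 0⟩], ![⟨0, 0⟩, ⟨0, 0⟩, ⟨0, 0⟩, ⟨0, 0⟩], ![⟨0, 0⟩, ⟨0, 0⟩, ⟨0, 0⟩, ⟨0, 0⟩], ![⟨0, 0⟩, ⟨0, 0⟩, ⟨0, 0⟩, ⟨0, 0⟩], ![⟨0, 0⟩, ⟨0, 0⟩, ⟨0, 0⟩, ⟨0, -4⟩], ![⟨0, 0⟩, ⟨0, 0⟩, ⟨0, 0⟩, ⟨0, 0⟩]],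
  ruOfArray ![![⟨0, 0⟩, ⟨0, 0⟩, ⟨0, 0⟩, ⟨0, 0⟩], ![⟨0, 0⟩, ⟨0, 0⟩, ⟨0, 0⟩, ⟨0, 0⟩], ![⟨0, 0⟩, ⟨0, 0⟩, ⟨0, 0⟩, ⟨0, 0⟩], ![⟨0, 0⟩, ⟨0, 0⟩, ⟨0, 0⟩, ⟨0, 0⟩], ![⟨0, 0⟩, ⟨0, 0⟩, ⟨0, 0⟩, ⟨0, 0⟩], ![⟨0, 0⟩, ⟨0, 0⟩, ⟨0, 0⟩, ⟨0, 0⟩], ![⟨0, 0⟩, ⟨0, 0⟩, ⟨-4, 0⟩, ⟨0, 0⟩]],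
  ruOfArray ![![⟨0, 0⟩, ⟨0, 0⟩, ⟨0, 0⟩, ⟨0, 0⟩], ![⟨0, 0⟩, ⟨0, 0⟩, ⟨0, 0⟩, ⟨0, 0⟩], ![⟨0, 0⟩, ⟨0, 0⟩, ⟨0, 0⟩, ⟨0, 0⟩], ![⟨0, 0⟩, ⟨0, 0⟩, ⟨0, 0⟩, ⟨0, 0⟩], ![⟨0, 0⟩, ⟨0, 0⟩, ⟨0, 0⟩, ⟨0, 0⟩], ![⟨0, 0⟩, ⟨0, 0⟩, ⟨0, 0⟩, ⟨0, 0⟩], ![⟨0, 0⟩, ⟨0, 0⟩, ⟨0, 0⟩, ⟨4, 0⟩]],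
  ruOfArray ![![⟨0, 0⟩, ⟨0, 0⟩, ⟨0, 0⟩, ⟨0, 0⟩], ![⟨0, 0⟩, ⟨0, 0⟩, ⟨0, 0⟩, ⟨0, 0⟩], ![⟨0, 0⟩, ⟨0, 0⟩, ⟨0, 0⟩, ⟨0, 0⟩], ![⟨0, 0⟩, ⟨0, 0⟩, ⟨0, 0⟩, ⟨0, 0⟩], ![⟨0, 0⟩, ⟨0, 0⟩, ⟨0, 0⟩, ⟨0, 0⟩], ![⟨0, 0⟩, ⟨0, 0⟩, ⟨0, 0⟩, ⟨0, 0⟩], ![⟨0, 0⟩, ⟨4, 0⟩, ⟨0, 0⟩, ⟨0, 0⟩]],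
  ruOfArray ![![⟨0, 1⟩, ⟨0, -1⟩, ⟨1, 0⟩, ⟨0, -1⟩], ![⟨0, 0⟩, ⟨0, 0⟩, ⟨0, 0⟩, ⟨0, 0⟩], ![⟨0, -1⟩, ⟨1, 0⟩, ⟨0, -1⟩, ⟨0, 1⟩], ![⟨0, -1⟩, ⟨0, -1⟩, ⟨0, -1⟩, ⟨-1, 0⟩], ![⟨1, 0⟩, ⟨0, -1⟩, ⟨0, -1⟩, ⟨0, 1⟩], ![⟨0, 0⟩, ⟨0, 0⟩, ⟨0, 0⟩, ⟨0, 0⟩], ![⟨0, 0⟩, ⟨0, 0⟩, ⟨0, 0⟩, ⟨0, 0⟩]]]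

/-- the coefficients of the triangular basis -/
def TT : Fin 28 → Fin 28 → GaussianInt := ![
  ![⟨-9, -28⟩, ⟨-28, 7⟩, ⟨-8, 7⟩, ⟨22, -33⟩, ⟨-2, -28⟩, ⟨27, -34⟩, ⟨-56, 3⟩, ⟨12, 18⟩, ⟨8, 33⟩, ⟨26, 17⟩, ⟨0, 25⟩, ⟨2, -38⟩, ⟨33, 16⟩, ⟨7, 5⟩, ⟨41, 1⟩, ⟨32, -5⟩, ⟨-7, 50⟩, ⟨-28, 33⟩, ⟨25, 0⟩, ⟨48, 22⟩, ⟨30, -14⟩, ⟨0, -25⟩, ⟨26, -7⟩, ⟨27, 26⟩, ⟨37, 20⟩, ⟨-17, 1⟩, ⟨-40, 6⟩, ⟨27, 22⟩],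
  ![⟨-4, -12⟩, ⟨-12, 3⟩, ⟨-3, 3⟩, ⟨9, -14⟩, ⟨-1, -12⟩, ⟨12, -15⟩, ⟨-24, 2⟩, ⟨5, 7⟩, ⟨4, 14⟩, ⟨10, 7⟩, ⟨-1, 11⟩, ⟨0, -17⟩, ⟨14, 6⟩, ⟨4, 1⟩, ⟨18, 0⟩, ⟨14, -3⟩, ⟨-1, 22⟩, ⟨-12, 14⟩, ⟨11, 0⟩, ⟨21, 10⟩, ⟨13, -7⟩, ⟨0, -10⟩, ⟨11, -3⟩, ⟨12, 11⟩, ⟨15, 8⟩, ⟨-7, 1⟩, ⟨-17, 3⟩, ⟨12, 9⟩],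
  ![⟨-9, 4⟩, ⟨3, 9⟩, ⟨1, 3⟩, ⟨-11, -6⟩, ⟨-9, 1⟩, ⟨-12, -8⟩, ⟨2, 18⟩, ⟨5, -4⟩, ⟨11, -3⟩, ⟨5, -8⟩, ⟨8, 0⟩, ⟨-14, -1⟩, ⟨5, -11⟩, ⟨2, -3⟩, ⟨0, -14⟩, ⟨-2, -9⟩, ⟨16, 1⟩, ⟨11, 8⟩, ⟨0, -8⟩, ⟨7, -16⟩, ⟨-5, -10⟩, ⟨-9, 1⟩, ⟨-3, -8⟩, ⟨9, -10⟩, ⟨6, -13⟩, ⟨-1, 6⟩, ⟨2, 12⟩, ⟨7, -9⟩],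
  ![⟨-8, 20⟩, ⟨19, 8⟩, ⟨6, 0⟩, ⟨-29, 10⟩, ⟨-12, 18⟩, ⟨-31, 8⟩, ⟨34, 23⟩, ⟨1, -15⟩, ⟨10, -22⟩, ⟨-6, -22⟩, ⟨12, -15⟩, ⟨-19, 20⟩, ⟨-11, -22⟩, ⟨-1, -7⟩, ⟨-22, -20⟩, ⟨-20, -12⟩, ⟨26, -25⟩, ⟨32, -7⟩, ⟨-15, -10⟩, ⟨-17, -35⟩, ⟨-21, -5⟩, ⟨-12, 15⟩, ⟨-18, -8⟩, ⟨-4, -27⟩, ⟨-11, -29⟩, ⟨9, 8⟩, ⟨24, 14⟩, ⟨-4, -25⟩],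
  ![⟨-22, -23⟩, ⟨-24, 20⟩, ⟨-5, 8⟩, ⟨5, -42⟩, ⟨-16, -26⟩, ⟨10, -45⟩, ⟨-53, 29⟩, ⟨19, 11⟩, ⟨23, 28⟩, ⟨32, 5⟩, ⟨12, 24⟩, ⟨-16, -38⟩, ⟨38, 1⟩, ⟨9, 1⟩, ⟨40, -18⟩, ⟨27, -20⟩, ⟨16, 51⟩, ⟨-11, 45⟩, ⟨24, -11⟩, ⟨57, 1⟩, ⟨23, -27⟩, ⟨-12, -24⟩, ⟨22, -19⟩, ⟨39, 13⟩, ⟨45, 3⟩, ⟨-15, 8⟩, ⟨-36, 24⟩, ⟨37, 10⟩],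
  ![⟨14, -6⟩, ⟨-6, -14⟩, ⟨-3, -4⟩, ⟨19, 9⟩, ⟨15, -3⟩, ⟨20, 12⟩, ⟨-6, -31⟩, ⟨-8, 7⟩, ⟨-17, 7⟩, ⟨-8, 15⟩, ⟨-13, 2⟩, ⟨19, -1⟩, ⟨-6, 19⟩, ⟨-3, 3⟩, ⟨2, 21⟩, ⟨4, 15⟩, ⟨-27, -1⟩, ⟨-19, -13⟩, ⟨1, 14⟩, ⟨-10, 28⟩, ⟨10, 14⟩, ⟨14, -1⟩, ⟨6, 13⟩, ⟨-11, 17⟩, ⟨-9, 21⟩, ⟨-1, -9⟩, ⟨-6, -20⟩, ⟨-10, 16⟩],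
  ![⟨-8, -8⟩, ⟨-8, 7⟩, ⟨-1, 2⟩, ⟨0, -15⟩, ⟨-6, -8⟩, ⟨3, -15⟩, ⟨-18, 10⟩, ⟨7, 3⟩, ⟨7, 10⟩, ⟨11, 1⟩, ⟨5, 7⟩, ⟨-6, -12⟩, ⟨13, 2⟩, ⟨3, -1⟩, ⟨14, -7⟩, ⟨9, -9⟩, ⟨6, 18⟩, ⟨-2, 15⟩, ⟨7, -3⟩, ⟨19, 0⟩, ⟨9, -9⟩, ⟨-4, -7⟩, ⟨8, -7⟩, ⟨13, 4⟩, ⟨14, 1⟩, ⟨-4, 3⟩, ⟨-12, 9⟩, ⟨14, 3⟩],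
  ![⟨5, -16⟩, ⟨-15, -5⟩, ⟨-3, -1⟩, ⟨20, -10⟩, ⟨7, -14⟩, ⟨22, -7⟩, ⟨-26, -17⟩, ⟨0, 11⟩, ⟨-7, 17⟩, ⟨5, 15⟩, ⟨-7, 12⟩, ⟨13, -16⟩, ⟨7, 17⟩, ⟨1, 4⟩, ⟨17, 14⟩, ⟨16, 6⟩, ⟨-19, 19⟩, ⟨-22, 8⟩, ⟨10, 8⟩, ⟨13, 26⟩, ⟨17, 4⟩, ⟨8, -12⟩, ⟨15, 5⟩, ⟨5, 21⟩, ⟨10, 22⟩, ⟨-6, -6⟩, ⟨-19, -9⟩, ⟨4, 20⟩],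
  ![⟨-2, -3⟩, ⟨-3, 2⟩, ⟨1, 0⟩, ⟨0, -5⟩, ⟨-2, -3⟩, ⟨1, -4⟩, ⟨-6, 2⟩, ⟨2, 1⟩, ⟨2, 3⟩, ⟨3, 0⟩, ⟨2, 2⟩, ⟨-2, -4⟩, ⟨3, 1⟩, ⟨1, -1⟩, ⟨4, -2⟩, ⟨3, -3⟩, ⟨1, 5⟩, ⟨0, 5⟩, ⟨2, 0⟩, ⟨5, 1⟩, ⟨3, -2⟩, ⟨-1, -2⟩, ⟨3, -2⟩, ⟨4, 2⟩, ⟨4, 0⟩, ⟨0, 1⟩, ⟨-5, 3⟩, ⟨4, 2⟩],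
  ![⟨8, -1⟩, ⟨-1, -8⟩, ⟨-1, -2⟩, ⟨9, 8⟩, ⟨8, 1⟩, ⟨9, 10⟩, ⟨2, -16⟩, ⟨-5, 2⟩, ⟨-10, 1⟩, ⟨-7, 6⟩, ⟨-8, -2⟩, ⟨10, 3⟩, ⟨-6, 8⟩, ⟨-2, 1⟩, ⟨-3, 11⟩, ⟨0, 8⟩, ⟨-13, -4⟩, ⟨-9, -10⟩, ⟨-1, 7⟩, ⟨-9, 13⟩, ⟨3, 8⟩, ⟨7, 2⟩, ⟨1, 8⟩, ⟨-8, 6⟩, ⟨-9, 10⟩, ⟨2, -4⟩, ⟨0, -11⟩, ⟨-8, 6⟩],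
  ![⟨-2, 0⟩, ⟨0, 2⟩, ⟨0, -1⟩, ⟨-2, -1⟩, ⟨-1, 0⟩, ⟨-1, -2⟩, ⟨-1, 2⟩, ⟨0, -1⟩, ⟨2, 1⟩, ⟨0, 0⟩, ⟨1, 0⟩, ⟨-2, 0⟩, ⟨2, 0⟩, ⟨-1, -2⟩, ⟨0, -3⟩, ⟨-2, -2⟩, ⟨3, -1⟩, ⟨1, 1⟩, ⟨1, 0⟩, ⟨2, -1⟩, ⟨0, -3⟩, ⟨-1, 0⟩, ⟨0, -2⟩, ⟨2, -1⟩, ⟨1, 0⟩, ⟨1, -1⟩, ⟨0, 2⟩, ⟨1, -1⟩],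
  ![⟨-5, 4⟩, ⟨4, 5⟩, ⟨4, -1⟩, ⟨-11, -1⟩, ⟨-6, 4⟩, ⟨-10, -1⟩, ⟨7, 10⟩, ⟨3, -6⟩, ⟨5, -5⟩, ⟨-1, -9⟩, ⟨6, -4⟩, ⟨-8, 4⟩, ⟨-2, -7⟩, ⟨1, -4⟩, ⟨-4, -9⟩, ⟨-5, -9⟩, ⟨12, -4⟩, ⟨12, 1⟩, ⟨-4, -3⟩, ⟨-3, -11⟩, ⟨-4, -4⟩, ⟨-5, 3⟩, ⟨-4, -5⟩, ⟨3, -7⟩, ⟨-2, -10⟩, ⟨4, 3⟩, ⟨6, 8⟩, ⟨2, -8⟩],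
  ![⟨11, 5⟩, ⟨5, -11⟩, ⟨4, -3⟩, ⟨4, 16⟩, ⟨10, 8⟩, ⟨3, 19⟩, ⟨17, -20⟩, ⟨-8, -2⟩, ⟨-13, -7⟩, ⟨-14, 0⟩, ⟨-8, -8⟩, ⟨10, 15⟩, ⟨-15, 5⟩, ⟨-5, -3⟩, ⟨-15, 11⟩, ⟨-7, 7⟩, ⟨-12, -18⟩, ⟨-2, -18⟩, ⟨-9, 9⟩, ⟨-25, 8⟩, ⟨-3, 13⟩, ⟨10, 8⟩, ⟨-5, 11⟩, ⟨-16, 3⟩, ⟨-21, 6⟩, ⟨9, -4⟩, ⟨10, -12⟩, ⟨-16, 1⟩],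
  ![⟨-2, -6⟩, ⟨-6, 2⟩, ⟨-1, 1⟩, ⟨4, -8⟩, ⟨-1, -6⟩, ⟨5, -7⟩, ⟨-12, 1⟩, ⟨3, 3⟩, ⟨2, 7⟩, ⟨6, 3⟩, ⟨1, 5⟩, ⟨-1, -8⟩, ⟨6, 3⟩, ⟨2, 0⟩, ⟨9, -1⟩, ⟨7, -2⟩, ⟨-1, 10⟩, ⟨-5, 8⟩, ⟨5, 0⟩, ⟨10, 4⟩, ⟨6, -3⟩, ⟨-1, -5⟩, ⟨6, -2⟩, ⟨6, 5⟩, ⟨8, 3⟩, ⟨-3, 1⟩, ⟨-9, 2⟩, ⟨6, 5⟩],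
  ![⟨-5, 1⟩, ⟨1, 5⟩, ⟨1, 2⟩, ⟨-6, -5⟩, ⟨-6, 0⟩, ⟨-6, -5⟩, ⟨0, 11⟩, ⟨4, -2⟩, ⟨6, -1⟩, ⟨4, -5⟩, ⟨5, 0⟩, ⟨-8, -2⟩, ⟨3, -6⟩, ⟨3, -1⟩, ⟨2, -8⟩, ⟨1, -6⟩, ⟨9, 3⟩, ⟨6, 6⟩, ⟨0, -5⟩, ⟨5, -9⟩, ⟨-2, -5⟩, ⟨-6, 0⟩, ⟨-1, -5⟩, ⟨5, -5⟩, ⟨5, -8⟩, ⟨-1, 5⟩, ⟨0, 7⟩, ⟨5, -4⟩],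
  ![⟨-5, 9⟩, ⟨9, 5⟩, ⟨3, 0⟩, ⟨-15, 4⟩, ⟨-6, 8⟩, ⟨-16, 2⟩, ⟨15, 13⟩, ⟨1, -7⟩, ⟨6, -10⟩, ⟨-2, -11⟩, ⟨7, -7⟩, ⟨-11, 9⟩, ⟨-3, -11⟩, ⟨-1, -4⟩, ⟨-10, -12⟩, ⟨-10, -7⟩, ⟨14, -12⟩, ⟨16, -3⟩, ⟨-6, -5⟩, ⟨-7, -18⟩, ⟨-10, -4⟩, ⟨-6, 6⟩, ⟨-9, -5⟩, ⟨0, -13⟩, ⟨-4, -15⟩, ⟨4, 4⟩, ⟨11, 9⟩, ⟨-1, -13⟩],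
  ![⟨-1, 5⟩, ⟨5, 1⟩, ⟨1, 0⟩, ⟨-6, 4⟩, ⟨-2, 4⟩, ⟨-7, 3⟩, ⟨9, 5⟩, ⟨0, -3⟩, ⟨2, -6⟩, ⟨-2, -5⟩, ⟨2, -4⟩, ⟨-4, 5⟩, ⟨-3, -6⟩, ⟨0, -1⟩, ⟨-6, -4⟩, ⟨-5, -1⟩, ⟨5, -7⟩, ⟨7, -3⟩, ⟨-3, -3⟩, ⟨-5, -8⟩, ⟨-6, 0⟩, ⟨-3, 4⟩, ⟨-5, -1⟩, ⟨-2, -7⟩, ⟨-3, -7⟩, ⟨2, 2⟩, ⟨6, 2⟩, ⟨-2, -6⟩],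
  ![⟨2, -4⟩, ⟨-4, -2⟩, ⟨1, 0⟩, ⟨5, -2⟩, ⟨2, -3⟩, ⟨6, -1⟩, ⟨-5, -6⟩, ⟨0, 2⟩, ⟨-3, 4⟩, ⟨0, 3⟩, ⟨-2, 3⟩, ⟨3, -3⟩, ⟨0, 5⟩, ⟨1, -1⟩, ⟨4, 3⟩, ⟨4, 0⟩, ⟨-4, 4⟩, ⟨-5, 1⟩, ⟨1, 3⟩, ⟨1, 7⟩, ⟨5, 2⟩, ⟨3, -1⟩, ⟨4, 2⟩, ⟨0, 6⟩, ⟨0, 5⟩, ⟨1, -1⟩, ⟨-5, -3⟩, ⟨0, 5⟩],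
  ![⟨-2, -1⟩, ⟨-1, 2⟩, ⟨0, 0⟩, ⟨-1, -2⟩, ⟨-1, -1⟩, ⟨0, -3⟩, ⟨-3, 2⟩, ⟨1, 0⟩, ⟨2, 2⟩, ⟨1, 0⟩, ⟨1, 1⟩, ⟨-1, -2⟩, ⟨3, 0⟩, ⟨0, 0⟩, ⟨2, -2⟩, ⟨0, -2⟩, ⟨2, 2⟩, ⟨0, 2⟩, ⟨2, 0⟩, ⟨3, 0⟩, ⟨1, -3⟩, ⟨-1, -2⟩, ⟨1, -2⟩, ⟨3, 0⟩, ⟨3, 0⟩, ⟨-1, 0⟩, ⟨-1, 2⟩, ⟨2, 0⟩],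
  ![⟨3, -1⟩, ⟨-1, -3⟩, ⟨-1, 1⟩, ⟨5, 1⟩, ⟨3, -1⟩, ⟨4, 2⟩, ⟨-1, -5⟩, ⟨-1, 2⟩, ⟨-3, 1⟩, ⟨0, 3⟩, ⟨-3, 1⟩, ⟨3, -1⟩, ⟨-1, 2⟩, ⟨1, 1⟩, ⟨1, 4⟩, ⟨3, 4⟩, ⟨-5, 1⟩, ⟨-5, -1⟩, ⟨0, 1⟩, ⟨-1, 4⟩, ⟨1, 3⟩, ⟨2, 0⟩, ⟨1, 3⟩, ⟨-3, 3⟩, ⟨-1, 3⟩, ⟨-1, 0⟩, ⟨-2, -4⟩, ⟨-2, 3⟩],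
  ![⟨-1, 0⟩, ⟨0, 1⟩, ⟨0, 1⟩, ⟨-1, -1⟩, ⟨-1, 0⟩, ⟨-1, -1⟩, ⟨0, 2⟩, ⟨1, 0⟩, ⟨1, 0⟩, ⟨1, -1⟩, ⟨1, 0⟩, ⟨-2, 0⟩, ⟨1, -1⟩, ⟨1, -1⟩, ⟨0, -2⟩, ⟨1, -1⟩, ⟨2, 1⟩, ⟨1, 1⟩, ⟨0, -1⟩, ⟨1, -2⟩, ⟨0, -1⟩, ⟨-1, 1⟩, ⟨0, -1⟩, ⟨1, -1⟩, ⟨0, -2⟩, ⟨0, 1⟩, ⟨-1, 1⟩, ⟨1, -1⟩],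
  ![⟨0, -2⟩, ⟨-2, 0⟩, ⟨0, 0⟩, ⟨2, -2⟩, ⟨0, -2⟩, ⟨2, -2⟩, ⟨-3, -1⟩, ⟨1, 1⟩, ⟨0, 2⟩, ⟨1, 1⟩, ⟨0, 2⟩, ⟨1, -3⟩, ⟨1, 1⟩, ⟨1, 1⟩, ⟨3, 1⟩, ⟨2, 0⟩, ⟨-1, 3⟩, ⟨-2, 2⟩, ⟨1, 0⟩, ⟨2, 2⟩, ⟨2, 0⟩, ⟨0, -2⟩, ⟨2, 0⟩, ⟨2, 2⟩, ⟨3, 2⟩, ⟨-1, 0⟩, ⟨-3, -1⟩, ⟨1, 2⟩],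
  ![⟨0, 1⟩, ⟨1, 0⟩, ⟨-1, 0⟩, ⟨-1, 1⟩, ⟨0, 1⟩, ⟨-1, 1⟩, ⟨1, 1⟩, ⟨-1, 0⟩, ⟨0, -1⟩, ⟨0, 0⟩, ⟨0, -1⟩, ⟨-1, 0⟩, ⟨0, 0⟩, ⟨0, 0⟩, ⟨0, -1⟩, ⟨-1, 1⟩, ⟨0, -1⟩, ⟨1, -1⟩, ⟨0, 0⟩, ⟨0, -1⟩, ⟨-1, 0⟩, ⟨-1, 1⟩, ⟨-1, 0⟩, ⟨0, -2⟩, ⟨0, -1⟩, ⟨-1, 0⟩, ⟨0, 0⟩, ⟨0, -1⟩],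
  ![⟨0, 0⟩, ⟨0, 0⟩, ⟨0, 0⟩, ⟨0, 0⟩, ⟨0, 0⟩, ⟨0, 0⟩, ⟨0, 0⟩, ⟨0, 0⟩, ⟨0, 0⟩, ⟨0, 0⟩, ⟨0, 0⟩, ⟨0, 0⟩, ⟨0, 0⟩, ⟨0, 0⟩, ⟨0, 0⟩, ⟨0, 0⟩, ⟨0, 0⟩, ⟨0, 0⟩, ⟨0, 0⟩, ⟨0, 0⟩, ⟨0, 0⟩, ⟨0, 0⟩, ⟨0, 0⟩, ⟨0, 1⟩, ⟨0, 0⟩, ⟨0, 0⟩, ⟨0, 0⟩, ⟨0, 0⟩],
  ![⟨0, 0⟩, ⟨0, 0⟩, ⟨0, 0⟩, ⟨0, 0⟩, ⟨0, 0⟩, ⟨0, 0⟩, ⟨0, 0⟩, ⟨0, 0⟩, ⟨0, 0⟩, ⟨0, 0⟩, ⟨0, 0⟩, ⟨1, 0⟩, ⟨0, 0⟩, ⟨0, 1⟩, ⟨0, 1⟩, ⟨0, 0⟩, ⟨0, 0⟩, ⟨0, 0⟩, ⟨0, 0⟩, ⟨0, 0⟩, ⟨0, 0⟩, ⟨0, -1⟩, ⟨0, 0⟩, ⟨0, 0⟩, ⟨1, 1⟩, ⟨-1, -1⟩, ⟨0, -1⟩, ⟨0, 0⟩],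
  ![⟨0, 0⟩, ⟨0, 0⟩, ⟨0, 0⟩, ⟨0, 0⟩, ⟨0, 0⟩, ⟨0, 0⟩, ⟨0, 0⟩, ⟨0, 0⟩, ⟨0, 0⟩, ⟨0, 0⟩, ⟨0, 0⟩, ⟨0, 0⟩, ⟨0, 0⟩, ⟨0, 0⟩, ⟨0, 0⟩, ⟨0, 0⟩, ⟨0, 0⟩, ⟨0, 0⟩, ⟨0, 0⟩, ⟨0, 0⟩, ⟨0, 0⟩, ⟨0, 0⟩, ⟨0, 0⟩, ⟨0, 0⟩, ⟨0, 0⟩, ⟨0, 0⟩, ⟨1, 0⟩, ⟨0, 0⟩],
  ![⟨0, 0⟩, ⟨0, 0⟩, ⟨0, 0⟩, ⟨0, 0⟩, ⟨0, 0⟩, ⟨0, 0⟩, ⟨0, 0⟩, ⟨0, 0⟩, ⟨0, 0⟩, ⟨0, 0⟩, ⟨0, 0⟩, ⟨0, 0⟩, ⟨0, 0⟩, ⟨0, 0⟩, ⟨0, 0⟩, ⟨0, 0⟩, ⟨0, 0⟩, ⟨0, 0⟩, ⟨0, 0⟩, ⟨0, 0⟩, ⟨0, 0⟩, ⟨0, 0⟩, ⟨0, 0⟩, ⟨0, 0⟩, ⟨-1, 0⟩, ⟨0, 0⟩, ⟨0, 0⟩, ⟨0, 0⟩],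
  ![⟨0, 0⟩, ⟨0, 0⟩, ⟨0, 0⟩, ⟨0, 0⟩, ⟨0, 0⟩, ⟨0, 0⟩, ⟨0, 0⟩, ⟨0, 0⟩, ⟨0, 0⟩, ⟨0, 0⟩, ⟨0, 0⟩, ⟨0, 0⟩, ⟨0, 0⟩, ⟨0, 0⟩, ⟨0, 0⟩, ⟨0, 0⟩, ⟨0, 0⟩, ⟨0, 0⟩, ⟨0, 0⟩, ⟨0, 0⟩, ⟨0, 0⟩, ⟨0, 0⟩, ⟨0, 0⟩, ⟨0, 0⟩, ⟨0, 0⟩, ⟨1, 0⟩, ⟨0, 0⟩, ⟨0, 0⟩]]

end Cfsg.Agent.Lib.Helper9.RuMin
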