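import Cfsg.Agent.Lib.Helper9.RuMinA

set_option autoImplicit false

/-!
# The Rudvalis lattice: the lattice of the definitions is the span of the triangular basis
-/

namespace Cfsg.Agent.Lib.Helper9.RuMin

open Cfsg.Spor Cfsg.Agent.Lib.Helper14.RuLat

theorem mem_closed {v : RuVec} (hv : v ∈ ruLattice) :
    gI • v ∈ ruLattice ∧ ruRj v ∈ ruLattice ∧ ruRk v ∈ ruLattice ∧ ruSign v ∈ ruLattice ∧
      ruShift v ∈ ruLattice := by
  simp only [ruLattice, AddSubgroup.mem_sInf] at hv ⊢
  exact ⟨fun L hL => (hL.2 v (hv L hL)).1, fun L hL => (hL.2 v (hv L hL)).2.1,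
    fun L hL => (hL.2 v (hv L hL)).2.2.1, fun L hL => (hL.2 v (hv L hL)).2.2.2.1,
    fun L hL => (hL.2 v (hv L hL)).2.2.2.2⟩

theorem table_mem_ruLattice {v : RuVec} (hv : v ∈ ruTable) : v ∈ ruLattice := by
  simp only [ruLattice, AddSubgroup.mem_sInf]
  exact fun L hL => hL.1 v hv

/-- apply a word in the generators of the monomial group -/
def applyWord : List (Fin 5) → RuVec → RuVec
  | [], v => v
  | k :: w, v =>
    match k with
    | 0 => gI • applyWord w v
    | 1 => ruRj (applyWord w v)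
    | 2 => ruRk (applyWord w v)
    | 3 => ruSign (applyWord w v)
    | 4 => ruShift (applyWord w v)

theorem applyWord_mem (w : List (Fin 5)) {v : RuVec} (hv : v ∈ ruLattice) :
    applyWord w v ∈ ruLattice := by
  induction w with
  | nil => exact hv
  | cons k w ih =>
    have h := mem_closed ih
    fin_cases k
    · exact h.1
    · exact h.2.1
    · exact h.2.2.1
    · exact h.2.2.2.1
    · exact h.2.2.2.2

theorem smul_mem_ruLattice (c : GaussianInt) {v : RuVec} (hv : v ∈ ruLattice) :
    c • v ∈ ruLattice := by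
  have hc : c = (c.re : GaussianInt) + (c.im : GaussianInt) * gI := by
    ext <;> simp [gI]
  rw [hc, add_smul, mul_smul]
  refine ruLattice.add_mem ?_ ?_
  · rw [Int.cast_smul_eq_zsmul]; exact ruLattice.zsmul_mem hv _
  · rw [Int.cast_smul_eq_zsmul]; exact ruLattice.zsmul_mem (mem_closed hv).1 _

set_option maxRecDepth 100000 in
theorem Gv_eq : ∀ k : Fin 28, ∀ p : RuIdx,
    Gv k p = applyWord (Gw k).2 (ruTable.getD (Gw k).1 0) p := by
  decide +kernel

set_option maxRecDepth 100000 in
theorem Gw_lt : ∀ k : Fin 28, (Gw k).1 < 20 := by decide +kernel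

theorem Gv_mem (k : Fin 28) : Gv k ∈ ruLattice := by
  have h : Gv k = applyWord (Gw k).2 (ruTable.getD (Gw k).1 0) := funext (Gv_eq k)
  rw [h]
  apply applyWord_mem
  apply table_mem_ruLattice
  have hlen : ruTable.length = 20 := by rfl
  have hi : (Gw k).1 < ruTable.length := by rw [hlen]; exact Gw_lt k
  rw [List.getD_eq_getElem?_getD, List.getElem?_eq_getElem hi]
  exact List.getElem_mem hi

set_option maxRecDepth 100000 in
theorem Bv_eq : ∀ j : Fin 28, ∀ p : RuIdx, Bv j p = ∑ k, TT j k * Gv k p := by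
  decide +kernel

theorem Bv_mem_ruLattice (j : Fin 28) : Bv j ∈ ruLattice := by
  have h : Bv j = ∑ k, TT j k • Gv k := by
    funext p
    rw [Bv_eq j p]
    simp [Finset.sum_apply]
  rw [h]
  exact ruLattice.sum_mem fun k _ => smul_mem_ruLattice _ (Gv_mem k)

theorem Lc_le : ∀ v ∈ Lc, v ∈ ruLattice := by
  intro v hv
  refine Submodule.span_induction ?_ ?_ ?_ ?_ hv
  · rintro _ ⟨j, rfl⟩; exact Bv_mem_ruLattice j
  · exact ruLattice.zero_mem
  · intro x y _ _ hx hy; exact ruLattice.add_mem hx hy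
  · intro c x _ hx; exact smul_mem_ruLattice c hx

theorem mem_ruLattice_iff (v : RuVec) : v ∈ ruLattice ↔ v ∈ Lc :=
  ⟨ruLattice_le v, Lc_le v⟩

end Cfsg.Agent.Lib.Helper9.RuMin
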