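import Cfsg.Agent.Lib.Helper9.RuDfsJ
import Cfsg.Agent.Lib.Helper9.RuMinB

set_option autoImplicit false

/-!
# The Rudvalis lattice: the vectors of norm 16 (in the scale of the definitions)

A vector of norm 16 of the lattice is four times a unit vector of the standard frame, or the vector of one of the
final states of the search.
-/

namespace Cfsg.Agent.Lib.Helper9.RuDfs

open Cfsg.Spor Cfsg.Agent.Lib.Helper14.RuLat Finset

/-- the coordinate value of a residue -/
def sgn (d : ℕ) : ℤ :=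
  match d % 4 with
  | 0 => 0
  | 1 => 1
  | 2 => 2
  | _ => -1

/-- the vector of a state -/
def decodeW (W : ℕ) : RuVec := fun p =>
  ⟨sgn (dig W (2 * pos p + 4)), sgn (dig W (2 * pos p + 5))⟩

theorem cost_eq_sum (W : ℕ) : ((cost W : ℕ) : ℤ) =
    ∑ p : RuIdx, (((cfun (dig W (2 * pos p + 4)) : ℕ) : ℤ) + ((cfun (dig W (2 * pos p + 5)) : ℕ) : ℤ)) := by
  unfold cost
  rw [total_allPairs, Nat.cast_sum,
    ← sum_pos fun q => ((cfun (dig W (2 * q + 4)) + cfun (dig W (2 * q + 5)) : ℕ) : ℤ)]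
  refine Finset.sum_congr rfl fun p _ => ?_
  push_cast
  rfl

theorem eq_sgn (n : ℤ) (d : ℕ) (hcong : (d : ℤ) ≡ n [ZMOD 4]) (hsq : ((cfun d : ℕ) : ℤ) = n * n)
    (hd : d % 4 = 0 ∨ d % 4 = 1 ∨ d % 4 = 3) : n = sgn d := by
  have hc : (d : ℤ) % 4 = n % 4 := hcong
  unfold cfun at hsq
  unfold sgn
  rcases hd with h | h | h
  · rw [h] at hsq ⊢
    simp only at hsq ⊢
    have : n * n = 0 := by exact_mod_cast hsq.symm
    exact mul_self_eq_zero.1 this
  · rw [h] at hsq ⊢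
    simp only at hsq ⊢
    have h1 : n * n = 1 := by exact_mod_cast hsq.symm
    have h2 : -1 ≤ n ∧ n ≤ 1 := by constructor <;> nlinarith
    have h3 : (d : ℤ) % 4 = 1 := by omega
    omega
  · rw [h] at hsq ⊢
    simp only at hsq ⊢
    have h1 : n * n = 1 := by exact_mod_cast hsq.symm
    have h2 : -1 ≤ n ∧ n ≤ 1 := by constructor <;> nlinarith
    have h3 : (d : ℤ) % 4 = 3 := by omega
    omega

theorem unitsW_cases {W : ℕ} (h : unitsW W) (p : RuIdx) :
    (dig W (2 * pos p + 4) % 4 = 0 ∨ dig W (2 * pos p + 4) % 4 = 1 ∨ dig W (2 * pos p + 4) % 4 = 3) ∧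
    (dig W (2 * pos p + 5) % 4 = 0 ∨ dig W (2 * pos p + 5) % 4 = 1 ∨ dig W (2 * pos p + 5) % 4 = 3) := by
  have hp : pos p < 28 := by
    unfold pos
    have h1 := p.1.isLt
    have h2 := p.2.isLt
    omega
  have := h (pos p) hp
  simp only [List.mem_cons, Prod.mk.injEq, List.not_mem_nil, or_false] at this
  omega

/-- a state of cost 16 with unit coordinates determines the vector of norm 16 -/
theorem eq_decodeW {v : RuVec} {W : ℕ} (hn : ruNorm v = 16) (hcost : cost W = 16) (hu : unitsW W)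
    (h : ∀ p : RuIdx, ((dig W (2 * pos p + 4) : ℕ) : ℤ) ≡ (v p).re [ZMOD 4] ∧
      ((dig W (2 * pos p + 5) : ℕ) : ℤ) ≡ (v p).im [ZMOD 4]) : v = decodeW W := by
  have hle : ∀ p ∈ (univ : Finset RuIdx),
      (((cfun (dig W (2 * pos p + 4)) : ℕ) : ℤ) + ((cfun (dig W (2 * pos p + 5)) : ℕ) : ℤ)) ≤
        ((v p).re * (v p).re + (v p).im * (v p).im) :=
    fun p _ => add_le_add (cfun_le _ _ (h p).1) (cfun_le _ _ (h p).2)
  have hsum : ∑ p : RuIdx, (((cfun (dig W (2 * pos p + 4)) : ℕ) : ℤ) +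
      ((cfun (dig W (2 * pos p + 5)) : ℕ) : ℤ)) =
      ∑ p : RuIdx, ((v p).re * (v p).re + (v p).im * (v p).im) := by
    rw [← cost_eq_sum, ← ruNorm_eq, hn, hcost]; rfl
  have hterm := (Finset.sum_eq_sum_iff_of_le hle).1 hsum
  funext p
  have h1 := hterm p (mem_univ p)
  have h2 := cfun_le _ _ (h p).1
  have h3 := cfun_le _ _ (h p).2
  have hre : ((cfun (dig W (2 * pos p + 4)) : ℕ) : ℤ) = (v p).re * (v p).re := by linarith
  have him : ((cfun (dig W (2 * pos p + 5)) : ℕ) : ℤ) = (v p).im * (v p).im := by linarith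
  have hc := unitsW_cases hu p
  ext
  · exact eq_sgn _ _ (h p).1 hre hc.1
  · exact eq_sgn _ _ (h p).2 him hc.2

/-- four times a unit vector of the standard frame -/
def frameVec (p0 : RuIdx) (k : Fin 4) : RuVec := fun p =>
  if p = p0 then
    (match k with
      | 0 => ⟨4, 0⟩
      | 1 => ⟨0, 4⟩
      | 2 => ⟨-4, 0⟩
      | 3 => ⟨0, -4⟩)
  else 0

/-- a vector of norm 16 all of whose coordinates are divisible by 4 -/
theorem eq_frameVec {v : RuVec} (hn : ruNorm v = 16)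
    (h : ∀ p : RuIdx, (0 : ℤ) ≡ (v p).re [ZMOD 4] ∧ (0 : ℤ) ≡ (v p).im [ZMOD 4]) :
    ∃ p0 k, v = frameVec p0 k := by
  have hdiv : ∀ p, ∃ a b : ℤ, (v p).re = 4 * a ∧ (v p).im = 4 * b := by
    intro p
    obtain ⟨h1, h2⟩ := h p
    have h1' : (v p).re % 4 = 0 := by have := h1.symm; simpa [Int.ModEq] using this
    have h2' : (v p).im % 4 = 0 := by have := h2.symm; simpa [Int.ModEq] using this
    exact ⟨(v p).re / 4, (v p).im / 4, by omega, by omega⟩
  have hnorm : ∀ p, (v p).norm = (v p).re * (v p).re + (v p).im * (v p).im := by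
    intro p; rw [Zsqrtd.norm_def]; ring
  have hnn : ∀ p ∈ (univ : Finset RuIdx), 0 ≤ (v p).norm := fun p _ => norm_nonneg' _
  have hex : ∃ p0, (v p0).norm ≠ 0 := by
    by_contra hcon
    simp only [not_exists, not_not] at hcon
    have : ruNorm v = 0 := by unfold ruNorm; exact Finset.sum_eq_zero fun p _ => hcon p
    omega
  obtain ⟨p0, hp0⟩ := hex
  obtain ⟨a, b, ha, hb⟩ := hdiv p0
  have hsplit : (v p0).norm + ∑ p ∈ univ.erase p0, (v p).norm = 16 := by
    have := Finset.add_sum_erase univ (fun p => (v p).norm) (mem_univ p0)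
    rw [this]; exact hn
  have hrest : 0 ≤ ∑ p ∈ univ.erase p0, (v p).norm :=
    Finset.sum_nonneg fun p _ => norm_nonneg' _
  have hn0 : (v p0).norm = 16 * (a * a + b * b) := by rw [hnorm, ha, hb]; ring
  have hab : a * a + b * b = 1 := by
    have h0 : 0 ≤ a * a + b * b := by nlinarith [mul_self_nonneg a, mul_self_nonneg b]
    have h1 : a * a + b * b ≠ 0 := by intro h; rw [hn0, h] at hp0; simp at hp0
    have h2 : 16 * (a * a + b * b) ≤ 16 := by rw [← hn0]; linarith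
    omega
  have hrest0 : ∑ p ∈ univ.erase p0, (v p).norm = 0 := by rw [hn0, hab] at hsplit; linarith
  have hz : ∀ p, p ≠ p0 → v p = 0 := by
    intro p hp
    have := (Finset.sum_eq_zero_iff_of_nonneg fun p _ => norm_nonneg' (v p)).1 hrest0 p
      (Finset.mem_erase.2 ⟨hp, mem_univ p⟩)
    exact (norm_eq_zero' _).1 this
  have ha1 : -1 ≤ a ∧ a ≤ 1 := by constructor <;> nlinarith [mul_self_nonneg b]
  have hb1 : -1 ≤ b ∧ b ≤ 1 := by constructor <;> nlinarith [mul_self_nonneg a]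
  have hcases : (a = 1 ∧ b = 0) ∨ (a = 0 ∧ b = 1) ∨ (a = -1 ∧ b = 0) ∨ (a = 0 ∧ b = -1) := by
    obtain ⟨ha1, ha2⟩ := ha1
    obtain ⟨hb1, hb2⟩ := hb1
    interval_cases a <;> interval_cases b <;> simp_all
  have hv0 : ∀ k : Fin 4, v p0 = frameVec p0 k p0 → v = frameVec p0 k := by
    intro k hk
    funext p
    by_cases hp : p = p0
    · rw [hp]; exact hk
    · rw [hz p hp]; simp [frameVec, hp]
  rcases hcases with ⟨h1, h2⟩ | ⟨h1, h2⟩ | ⟨h1, h2⟩ | ⟨h1, h2⟩
  · exact ⟨p0, 0, hv0 0 (by ext <;> simp [frameVec, ha, hb, h1, h2])⟩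
  · exact ⟨p0, 1, hv0 1 (by ext <;> simp [frameVec, ha, hb, h1, h2])⟩
  · exact ⟨p0, 2, hv0 2 (by ext <;> simp [frameVec, ha, hb, h1, h2])⟩
  · exact ⟨p0, 3, hv0 3 (by ext <;> simp [frameVec, ha, hb, h1, h2])⟩

/-- the vectors of norm 16 -/
theorem min_class {v : RuVec} (hv : v ∈ Lc) (hn : ruNorm v = 16) :
    (∃ p0 k, v = frameVec p0 k) ∨ ∃ W ∈ minW, W ≠ 0 ∧ unitsW W ∧ v = decodeW W := by
  obtain ⟨W, hW, hdig, _⟩ := found hv (le_of_eq hn)
  rw [search_eq] at hW
  rcases minW_good W hW with h0 | ⟨hcost, hu⟩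
  · left
    apply eq_frameVec hn
    intro p
    have := hdig p
    rw [h0] at this
    simpa [dig_zero_left] using this
  · right
    refine ⟨W, hW, ?_, hu, eq_decodeW hn hcost hu hdig⟩
    rintro rfl
    have : cost 0 = 0 := by decide
    omega

end Cfsg.Agent.Lib.Helper9.RuDfs
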