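import Cfsg.Agent.Lib.Helper9.RuMinD

set_option autoImplicit false

/-!
# The Rudvalis lattice: codes for the vectors of norm 16

A code has one hexadecimal digit for each of the 28 coordinates: `0` for `0`, `1, 2, 3, 4` for `1, i, -1, -i`, and
`5, 6, 7, 8` for `4, 4i, -4, -4i`.
-/

namespace Cfsg.Agent.Lib.Helper9.RuDfs

open Cfsg.Spor Cfsg.Agent.Lib.Helper14.RuLat Finset

/-- the value of a hexadecimal digit -/
def val (h : ℕ) : GaussianInt :=
  match h with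
  | 1 => ⟨1, 0⟩
  | 2 => ⟨0, 1⟩
  | 3 => ⟨-1, 0⟩
  | 4 => ⟨0, -1⟩
  | 5 => ⟨4, 0⟩
  | 6 => ⟨0, 4⟩
  | 7 => ⟨-4, 0⟩
  | 8 => ⟨0, -4⟩
  | _ => 0

/-- hexadecimal digit `q` -/
def hexd (c q : ℕ) : ℕ := c / 16 ^ q % 16

/-- the vector of a code -/
def decodeC (c : ℕ) : RuVec := fun p => val (hexd c (pos p))

/-- the digit of a pair of residues -/
def hx (a b : ℕ) : ℕ :=
  match a % 4, b % 4 with
  | 1, 0 => 1
  | 0, 1 => 2
  | 3, 0 => 3
  | 0, 3 => 4
  | _, _ => 0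

/-- the number with the hexadecimal digits `h q, h (q + 1), …, h (q + n - 1)` -/
def hornerFrom (h : ℕ → ℕ) : ℕ → ℕ → ℕ
  | _, 0 => 0
  | q, n + 1 => h q + 16 * hornerFrom h (q + 1) n

/-- the code of a state -/
def normW (W : ℕ) : ℕ :=
  hornerFrom (fun q => hx (dig W (2 * q + 4)) (dig W (2 * q + 5))) 0 28

set_option maxRecDepth 1000000 in
theorem minW_norm : minW.map normW = 0 :: minCn := by decide +kernel

end Cfsg.Agent.Lib.Helper9.RuDfs
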