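import Cfsg.Agent.Lib.Helper9.RuMinE

set_option autoImplicit false

/-!
# The Rudvalis lattice: the vectors of norm 16 are the vectors of the codes
-/

namespace Cfsg.Agent.Lib.Helper9.RuDfs

open Cfsg.Spor Cfsg.Agent.Lib.Helper14.RuLat Finset

theorem hexd_zero (c : ℕ) : hexd c 0 = c % 16 := by simp [hexd]

theorem hexd_succ (c q : ℕ) : hexd c (q + 1) = hexd (c / 16) q := by
  unfold hexd
  rw [pow_succ, mul_comm, Nat.div_div_eq_div_mul]

theorem hexd_horner (h : ℕ → ℕ) (hh : ∀ i, h i < 16) (n : ℕ) :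
    ∀ q j, j < n → hexd (hornerFrom h q n) j = h (q + j) := by
  induction n with
  | zero => intro q j hj; omega
  | succ n ih =>
    intro q j hj
    rw [hornerFrom]
    cases j with
    | zero =>
      rw [hexd_zero, add_zero, Nat.add_mul_mod_self_left, Nat.mod_eq_of_lt (hh q)]
    | succ j =>
      rw [hexd_succ]
      have : (h q + 16 * hornerFrom h (q + 1) n) / 16 = hornerFrom h (q + 1) n := by
        have := hh q
        omega
      rw [this, ih (q + 1) j (by omega)]
      congr 1
      ring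

theorem hx_lt (a b : ℕ) : hx a b < 16 := by
  unfold hx
  split <;> norm_num

theorem pos_lt (p : RuIdx) : pos p < 28 := by
  unfold pos
  have h1 := p.1.isLt
  have h2 := p.2.isLt
  omega

theorem pos_inj {p p' : RuIdx} (h : pos p = pos p') : p = p' := by
  unfold pos at h
  have h1 := p.2.isLt
  have h2 := p'.2.isLt
  exact Prod.ext (Fin.ext (by omega)) (Fin.ext (by omega))

theorem val_hx (a b : ℕ) (h : (a % 4, b % 4) ∈ [(0, 0), (1, 0), (3, 0), (0, 1), (0, 3)]) :
    val (hx a b) = ⟨sgn a, sgn b⟩ := by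
  simp only [List.mem_cons, Prod.mk.injEq, List.not_mem_nil, or_false] at h
  unfold hx sgn
  rcases h with ⟨h1, h2⟩ | ⟨h1, h2⟩ | ⟨h1, h2⟩ | ⟨h1, h2⟩ | ⟨h1, h2⟩ <;> rw [h1, h2] <;> rfl

theorem decodeC_normW {W : ℕ} (hu : unitsW W) : decodeC (normW W) = decodeW W := by
  funext p
  unfold decodeC decodeW normW
  rw [hexd_horner _ (fun i => hx_lt _ _) 28 0 (pos p) (pos_lt p), zero_add]
  exact val_hx _ _ (hu (pos p) (pos_lt p))

/-- the code of four times a unit vector of the standard frame -/
def frameCode (q k : ℕ) : ℕ := (5 + k) * 16 ^ q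

/-- the codes of the frame -/
def frameC : List ℕ := (List.range 28).flatMap fun q => (List.range 4).map fun k => frameCode q k

theorem hexd_frameCode (q k j : ℕ) (hk : k < 4) :
    hexd (frameCode q k) j = if j = q then 5 + k else 0 := by
  unfold hexd frameCode
  rcases lt_trichotomy j q with h | h | h
  · rw [if_neg (by omega)]
    obtain ⟨d, rfl⟩ := Nat.exists_eq_add_of_lt h
    have : (5 + k) * 16 ^ (j + d + 1) = ((5 + k) * 16 ^ d * 16) * 16 ^ j := by ring
    rw [this, Nat.mul_div_cancel _ (by positivity)]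
    exact Nat.mul_mod_left _ _
  · rw [if_pos h, h, Nat.mul_div_cancel _ (by positivity)]
    exact Nat.mod_eq_of_lt (by omega)
  · rw [if_neg (by omega)]
    obtain ⟨d, rfl⟩ := Nat.exists_eq_add_of_lt h
    have : 16 ^ (q + d + 1) = 16 ^ q * 16 ^ (d + 1) := by ring
    rw [this, ← Nat.div_div_eq_div_mul, Nat.mul_div_cancel _ (by positivity)]
    have h16 : 16 ≤ 16 ^ (d + 1) := by
      calc 16 = 16 ^ 1 := by norm_num
        _ ≤ 16 ^ (d + 1) := Nat.pow_le_pow_right (by norm_num) (by omega)
    rw [Nat.div_eq_of_lt (by omega)]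

theorem decodeC_frameCode (p0 : RuIdx) (k : Fin 4) :
    decodeC (frameCode (pos p0) k.val) = frameVec p0 k := by
  funext p
  unfold decodeC frameVec
  rw [hexd_frameCode _ _ _ k.isLt]
  by_cases hp : p = p0
  · rw [if_pos (by rw [hp]), if_pos hp]
    fin_cases k <;> rfl
  · rw [if_neg (fun h => hp (pos_inj h)), if_neg hp]
    rfl

theorem frameCode_mem (p0 : RuIdx) (k : Fin 4) : frameCode (pos p0) k.val ∈ frameC := by
  unfold frameC
  simp only [List.mem_flatMap, List.mem_range, List.mem_map]
  exact ⟨pos p0, pos_lt p0, k.val, k.isLt, rfl⟩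

/-- all codes -/
def minC : List ℕ := frameC ++ minCn

/-- the vectors of norm 16 of the lattice are the vectors of the codes -/
theorem min_code {v : RuVec} (hv : v ∈ Lc) (hn : ruNorm v = 16) : ∃ c ∈ minC, v = decodeC c := by
  rcases min_class hv hn with ⟨p0, k, rfl⟩ | ⟨W, hW, hW0, hu, rfl⟩
  · exact ⟨_, List.mem_append_left _ (frameCode_mem p0 k), (decodeC_frameCode p0 k).symm⟩
  · have hm : normW W ∈ minW.map normW := List.mem_map_of_mem hW
    rw [minW_norm, List.mem_cons] at hm
    rcases hm with h0 | hm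
    · exfalso
      have hd : decodeW W = 0 := by
        rw [← decodeC_normW hu, h0]
        funext p
        simp [decodeC, hexd, val]
      rw [hd] at hn
      simp [ruNorm] at hn
    · exact ⟨_, List.mem_append_right _ hm, (decodeC_normW hu).symm⟩

end Cfsg.Agent.Lib.Helper9.RuDfs
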