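import Cfsg.Agent.Lib.Helper9.RuMinF

set_option autoImplicit false

/-!
# The Rudvalis lattice: Hermitian products of the vectors of codes
-/

namespace Cfsg.Agent.Lib.Helper9.RuDfs

open Cfsg.Spor Cfsg.Agent.Lib.Helper14.RuLat Finset

/-- the absolute value of the value of a digit -/
def mag (h : ℕ) : ℤ :=
  match h with
  | 1 => 1
  | 2 => 1
  | 3 => 1
  | 4 => 1
  | 5 => 4
  | 6 => 4
  | 7 => 4
  | 8 => 4
  | _ => 0

/-- the value of a digit is `mag h * i ^ ex h` -/
def ex (h : ℕ) : ℕ :=
  match h with
  | 2 => 1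
  | 3 => 2
  | 4 => 3
  | 6 => 1
  | 7 => 2
  | 8 => 3
  | _ => 0

/-- the product `val a * star (val b)` as a pair of integers -/
def termZ (a b : ℕ) : ℤ × ℤ :=
  match (ex a + 4 - ex b) % 4 with
  | 0 => (mag a * mag b, 0)
  | 1 => (0, mag a * mag b)
  | 2 => (-(mag a * mag b), 0)
  | _ => (0, -(mag a * mag b))

/-- the Gaussian integer of a pair -/
def toG (z : ℤ × ℤ) : GaussianInt := ⟨z.1, z.2⟩

theorem toG_inj {z w : ℤ × ℤ} (h : toG z = toG w) : z = w := by
  unfold toG at h
  have h1 := congrArg Zsqrtd.re h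
  have h2 := congrArg Zsqrtd.im h
  exact Prod.ext h1 h2

set_option maxRecDepth 100000 in
theorem termZ_spec : ∀ a : Fin 16, ∀ b : Fin 16, val a.val * star (val b.val) = toG (termZ a.val b.val) := by
  decide +kernel

/-- the nonzero digits of a code with their places -/
def sparse (c : ℕ) : List (ℕ × ℕ) :=
  (List.range 28).filterMap fun q => if hexd c q = 0 then none else some (q, hexd c q)

/-- the Hermitian product of the vector of a code with a vector given by its nonzero digits -/
def hermS (c : ℕ) : List (ℕ × ℕ) → ℤ × ℤ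
  | [] => (0, 0)
  | (q, h) :: rs =>
    match termZ (hexd c q) h, hermS c rs with
    | (x1, x2), (z1, z2) => (x1 + z1, x2 + z2)

theorem hermS_cons (c q h : ℕ) (rs : List (ℕ × ℕ)) :
    toG (hermS c ((q, h) :: rs)) = toG (termZ (hexd c q) h) + toG (hermS c rs) := by
  rw [hermS]
  unfold toG
  ext <;> simp

theorem sum_pos' {M : Type*} [AddCommMonoid M] (F : ℕ → M) :
    ∑ p : RuIdx, F (pos p) = ∑ q ∈ range 28, F q := by
  rw [← Fin.sum_univ_eq_sum_range F 28]
  refine Fintype.sum_equiv (finProdFinEquiv : Fin 7 × Fin 4 ≃ Fin 28) _ _ fun p => ?_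
  congr 1
  simp [pos, finProdFinEquiv]
  ring

theorem sum_map_range' {M : Type*} [AddCommMonoid M] (k : ℕ) (g : ℕ → M) :
    ((List.range k).map g).sum = ∑ s ∈ range k, g s := by
  induction k with
  | zero => simp
  | succ k ih => rw [List.range_succ, List.map_append, List.sum_append, ih, Finset.sum_range_succ]; simp

theorem hexd_lt (c q : ℕ) : hexd c q < 16 := Nat.mod_lt _ (by norm_num)

theorem hermS_filterMap (c r : ℕ) (l : List ℕ) :
    toG (hermS c (l.filterMap fun q => if hexd r q = 0 then none else some (q, hexd r q))) =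
      (l.map fun q => val (hexd c q) * star (val (hexd r q))).sum := by
  induction l with
  | nil => simp [hermS, toG]; rfl
  | cons q l ih =>
    rw [List.map_cons, List.sum_cons]
    by_cases h0 : hexd r q = 0
    · rw [List.filterMap_cons_none (by simp [h0]), ih, h0]
      simp [val]
    · rw [List.filterMap_cons_some (b := (q, hexd r q)) (by simp [h0]), hermS_cons, ih]
      congr 1
      exact (termZ_spec ⟨hexd c q, hexd_lt c q⟩ ⟨hexd r q, hexd_lt r q⟩).symm

theorem herm_decodeC (c r : ℕ) : herm (decodeC c) (decodeC r) = toG (hermS c (sparse r)) := by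
  unfold herm decodeC sparse
  rw [sum_pos' fun q => val (hexd c q) * star (val (hexd r q)), ← sum_map_range', hermS_filterMap]

end Cfsg.Agent.Lib.Helper9.RuDfs
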