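import Cfsg.Agent.Lib.Helper9.RuMinG

set_option autoImplicit false

/-!
# The Rudvalis lattice: a fast evaluation of Hermitian products of the vectors of codes

The product is accumulated in one natural number: the real part plus 16 for each term in the low 16 bits, the
imaginary part plus 16 for each term in the next 16 bits.  The possible terms for a digit of the reference
vector are stored in one number with 64 bits for each digit of the other vector.
-/

namespace Cfsg.Agent.Lib.Helper9.RuDfs

open Cfsg.Spor Cfsg.Agent.Lib.Helper14.RuLat Finset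

/-- the absolute value of the value of a digit, as a natural number -/
def magN (h : ℕ) : ℕ :=
  match h with
  | 1 => 1
  | 2 => 1
  | 3 => 1
  | 4 => 1
  | 5 => 4
  | 6 => 4
  | 7 => 4
  | 8 => 4
  | _ => 0

/-- the term `val a * star (val b)`, packed: real part plus 16, and 65536 times (imaginary part plus 16) -/
def entry (a b : ℕ) : ℕ :=
  match (ex a + 4 - ex b) % 4 with
  | 0 => (16 + magN a * magN b) + 65536 * 16
  | 1 => 16 + 65536 * (16 + magN a * magN b)
  | 2 => (16 - magN a * magN b) + 65536 * 16
  | _ => 16 + 65536 * (16 - magN a * magN b)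

/-- the entries for the digits `a, a + 1, …, a + n - 1`, 64 bits each -/
def rowFrom (b : ℕ) : ℕ → ℕ → ℕ
  | _, 0 => 0
  | a, n + 1 => entry a b + 18446744073709551616 * rowFrom b (a + 1) n

/-- the entries for a digit of the reference vector -/
def rowT (b : ℕ) : ℕ := rowFrom b 0 16

set_option maxRecDepth 100000 in
theorem row_lookup : ∀ b : Fin 16, ∀ a : Fin 16,
    Nat.land (Nat.shiftRight (rowT b.val) (Nat.mul 64 a.val)) 18446744073709551615 = entry a.val b.val := by
  decide +kernel

set_option maxRecDepth 100000 in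
theorem entry_spec : ∀ a : Fin 16, ∀ b : Fin 16, ((entry a.val b.val : ℕ) : ℤ) =
    (termZ a.val b.val).1 + 16 + 65536 * ((termZ a.val b.val).2 + 16) := by
  decide +kernel

/-- the accumulated product of the vector of the code `c` with a vector given by shifts and rows -/
def hermN (c : ℕ) : List (ℕ × ℕ) → ℕ → ℕ
  | [], acc => acc
  | x :: rs, acc =>
    hermN c rs (Nat.add acc
      (Nat.land (Nat.shiftRight x.2 (Nat.mul 64 (Nat.land (Nat.shiftRight c x.1) 15)))
        18446744073709551615))

/-- the nonzero digits of a code: shifts and rows -/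
def sparseN (r : ℕ) : List (ℕ × ℕ) :=
  (List.range 28).filterMap fun q => if hexd r q = 0 then none else some (4 * q, rowT (hexd r q))

theorem sparseN_eq (r : ℕ) :
    sparseN r = (sparse r).map fun x => (4 * x.1, rowT x.2) := by
  unfold sparseN sparse
  rw [List.map_filterMap]
  congr 1
  funext q
  by_cases h : hexd r q = 0 <;> simp [h]

theorem land_shift (c q : ℕ) : Nat.land (Nat.shiftRight c (4 * q)) 15 = hexd c q := by
  unfold hexd
  have h1 : Nat.shiftRight c (4 * q) = c / 16 ^ q := by
    change c >>> (4 * q) = _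
    rw [Nat.shiftRight_eq_div_pow, pow_mul]
    norm_num
  rw [h1]
  change (c / 16 ^ q) &&& 15 = _
  exact Nat.and_two_pow_sub_one_eq_mod _ 4

theorem hermS_cons' (c q h : ℕ) (rs : List (ℕ × ℕ)) :
    hermS c ((q, h) :: rs) =
      ((termZ (hexd c q) h).1 + (hermS c rs).1, (termZ (hexd c q) h).2 + (hermS c rs).2) := by
  rw [hermS]

theorem hermN_map (c : ℕ) (l : List (ℕ × ℕ)) (hl : ∀ x ∈ l, x.2 < 16) (acc : ℕ) :
    ((hermN c (l.map fun x => (4 * x.1, rowT x.2)) acc : ℕ) : ℤ) =
      acc + ((hermS c l).1 + 16 * l.length) + 65536 * ((hermS c l).2 + 16 * l.length) := by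
  induction l generalizing acc with
  | nil => simp [hermN, hermS]
  | cons x rs ih =>
    obtain ⟨q, h⟩ := x
    have hh : h < 16 := hl (q, h) (List.mem_cons_self ..)
    rw [List.map_cons, hermN, ih (fun y hy => hl y (List.mem_cons_of_mem _ hy)), hermS_cons']
    simp only
    rw [land_shift]
    have e1 := row_lookup ⟨h, hh⟩ ⟨hexd c q, hexd_lt c q⟩
    simp only at e1
    rw [e1]
    have e2 := entry_spec ⟨hexd c q, hexd_lt c q⟩ ⟨h, hh⟩
    simp only at e2
    have e3 : ((Nat.add acc (entry (hexd c q) h) : ℕ) : ℤ) = (acc : ℤ) + ((entry (hexd c q) h : ℕ) : ℤ) := by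
      change ((acc + entry (hexd c q) h : ℕ) : ℤ) = _
      push_cast; rfl
    rw [e3, e2, List.length_cons]
    push_cast
    ring

theorem sparse_lt (r : ℕ) : ∀ x ∈ sparse r, x.2 < 16 := by
  intro x hx
  unfold sparse at hx
  rw [List.mem_filterMap] at hx
  obtain ⟨q, _, hq⟩ := hx
  by_cases h : hexd r q = 0
  · simp [h] at hq
  · simp only [h, if_false, Option.some.injEq] at hq
    rw [← hq]
    exact hexd_lt r q

/-- equal Hermitian products give equal accumulated products -/
theorem hermN_congr (c t r : ℕ) (h : hermS c (sparse r) = hermS t (sparse r)) :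
    hermN c (sparseN r) 0 = hermN t (sparseN r) 0 := by
  have h1 := hermN_map c (sparse r) (sparse_lt r) 0
  have h2 := hermN_map t (sparse r) (sparse_lt r) 0
  rw [← sparseN_eq] at h1 h2
  rw [h] at h1
  exact_mod_cast h1.trans h2.symm

end Cfsg.Agent.Lib.Helper9.RuDfs
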