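import Mathlib
import Cfsg.Agent.Lib.Helper8.ThTwoA
import Cfsg.Agent.Lib.Helper18.SzQuadB
import Cfsg.Agent.Lib.Helper9.Quasisimple

/-!
helper9: leaf `szb` of the SF market (S2752): Suzuki module bound on a (not necessarily faithful) invariant
section, by a bridge to `Helper18.SLQuad.quot_bounds_prime` inside the holomorph `W ⋊ Aut W`.
-/

set_option autoImplicit false
universe u v
open Cfsg Cfsg.Agent.Lib.Helper8.ThTwo

namespace Cfsg.Agent.Lib.Helper9.SFLeaf

section module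
variable {Γ : Type u} {V : Type v} [Group Γ] [Finite Γ] [Group V] [Finite V] [MulDistribMulAction Γ V]

/-- the action of an invariant subgroup `K` on an invariant subgroup `W`, as a homomorphism to `Aut W` -/
def resAut (K : Subgroup Γ) (W : Subgroup V) (hW : ∀ g ∈ K, ∀ w ∈ W, g • w ∈ W) : ↥K →* MulAut ↥W where
  toFun k :=
    { toFun := fun w => ⟨k.1 • w.1, hW k.1 k.2 w.1 w.2⟩
      invFun := fun w => ⟨k.1⁻¹ • w.1, hW k.1⁻¹ (K.inv_mem k.2) w.1 w.2⟩
      left_inv := fun w => Subtype.ext (inv_smul_smul k.1 w.1)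
      right_inv := fun w => Subtype.ext (smul_inv_smul k.1 w.1)
      map_mul' := fun a b => Subtype.ext (smul_mul' k.1 a.1 b.1) }
  map_one' := by
    ext w
    show (1 : Γ) • w.1 = w.1
    exact one_smul _ _
  map_mul' := fun a b => by
    ext w
    show (a.1 * b.1) • w.1 = a.1 • b.1 • w.1
    exact mul_smul _ _ _

theorem resAut_apply (K : Subgroup Γ) (W : Subgroup V) (hW : ∀ g ∈ K, ∀ w ∈ W, g • w ∈ W) (k : ↥K)
    (w : ↥W) : ((resAut K W hW k) w : V) = k.1 • w.1 := rfl

end module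

/-- the holomorph -/
abbrev Hol (W : Type*) [Group W] := W ⋊[MonoidHom.id (MulAut W)] MulAut W

instance (W : Type*) [Group W] [Finite W] : Finite (Hol W) :=
  Finite.of_equiv _ (SemidirectProduct.equivProd (φ := MonoidHom.id (MulAut W))).symm

section hol
variable {W : Type*} [Group W]

theorem hol_comm_iff (w : W) (α : MulAut W) :
    (SemidirectProduct.inl w : Hol W) * SemidirectProduct.inr α = SemidirectProduct.inr α * SemidirectProduct.inl w
      ↔ α w = w := by
  constructor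
  · intro h
    have := congrArg SemidirectProduct.left h
    simpa using this.symm
  · intro h
    apply SemidirectProduct.ext
    · simp [h]
    · simp

end hol

section module
variable {Γ : Type u} {V : Type v} [Group Γ] [Finite Γ] [Group V] [Finite V] [MulDistribMulAction Γ V]

open Cfsg.Agent.Lib.Helper18.SzQuad Cfsg.Agent.Lib.Helper18.SLQuad in
theorem szb (hVc : ∀ a b : V, a * b = b * a) (hV2 : ∀ v : V, v ^ 2 = 1)
    (K : Subgroup Γ) (hK : Cfsg.IsQuasisimple ↥K) (hZ : Odd (Nat.card ↥(Subgroup.center ↥K)))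
    {F : Type} [Field F] [Fintype F] (m : ℕ) (hm : 1 ≤ m) (hF : Fintype.card F = 2 ^ (2 * m + 1))
    (e : Nonempty (↥K ⧸ Subgroup.center ↥K ≃* ↥(Cfsg.Lie.Sz F (2 ^ (m + 1)))))
    (W : Subgroup V) (hW : ∀ g ∈ K, ∀ w ∈ W, g • w ∈ W) (hnt : ∃ g ∈ K, ∃ w ∈ W, g • w ≠ w)
    (t : Γ) (htK : t ∈ K) (ht2 : t * t = 1) (htZ : ∃ k ∈ K, k * t ≠ t * k) :
    (2 ^ (2 * m + 1)) ^ 2 * Nat.card ↥(W ⊓ fixElt t) ≤ Nat.card ↥W := by
  classical
  obtain ⟨e⟩ := e
  haveI : Fact (Nat.Prime 2) := ⟨Nat.prime_two⟩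
  -- the representation and its kernel
  set ρ : ↥K →* MulAut ↥W := resAut K W hW with hρ
  have hker_ne : ρ.ker ≠ ⊤ := by
    intro h
    obtain ⟨g, hg, w, hw, hne⟩ := hnt
    apply hne
    have h1 : (⟨g, hg⟩ : ↥K) ∈ ρ.ker := by rw [h]; trivial
    have h2 : ρ ⟨g, hg⟩ = 1 := h1
    have h3 := resAut_apply K W hW ⟨g, hg⟩ ⟨w, hw⟩
    rw [← hρ, h2] at h3
    exact h3.symm
  have hker_le : ρ.ker ≤ Subgroup.center ↥K :=
    Cfsg.Agent.Lib.Helper9.IsQuasisimple_normal_le_center hK ρ.ker hker_ne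
  -- the ambient group
  set f : ↥K →* Hol ↥W := (SemidirectProduct.inr).comp ρ with hf
  have hf_ker : f.ker = ρ.ker := by
    ext k
    rw [MonoidHom.mem_ker, MonoidHom.mem_ker, hf, MonoidHom.comp_apply]
    constructor
    · intro h
      exact SemidirectProduct.inr_injective (by rw [h, map_one])
    · intro h
      rw [h, map_one]
  set V' : Subgroup (Hol ↥W) := (SemidirectProduct.inl : ↥W →* Hol ↥W).range with hV'
  set H' : Subgroup (Hol ↥W) := f.range with hH'
  haveI hV'n : V'.Normal := by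
    rw [hV', SemidirectProduct.range_inl_eq_ker_rightHom]
    infer_instance
  have hVp : IsPGroup 2 V' := by
    rintro ⟨x, w, rfl⟩
    refine ⟨1, ?_⟩
    apply Subtype.ext
    show (SemidirectProduct.inl w : Hol ↥W) ^ 2 ^ 1 = 1
    rw [pow_one, ← map_pow]
    have : w ^ 2 = 1 := Subtype.ext (hV2 w.1)
    rw [this, map_one]
  have hHV : H' ≤ Subgroup.normalizer (V' : Set (Hol ↥W)) := by
    rw [Subgroup.normalizer_eq_top]
    exact le_top
  have hfaith : H' ⊓ Subgroup.centralizer (V' : Set (Hol ↥W)) = ⊥ := by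
    rw [eq_bot_iff]
    intro x hx0
    obtain ⟨hx1, hx⟩ := Subgroup.mem_inf.mp hx0
    obtain ⟨k, rfl⟩ := hx1
    rw [Subgroup.mem_bot]
    rw [Subgroup.mem_centralizer_iff] at hx
    have h1 : ρ k = 1 := by
      ext w
      have h2 := hx (SemidirectProduct.inl w) ⟨w, rfl⟩
      rw [hf, MonoidHom.comp_apply] at h2
      have h3 := (hol_comm_iff w (ρ k)).mp h2
      rw [h3]
      rfl
    rw [hf, MonoidHom.comp_apply, h1, map_one]
  -- the projection onto `Sz`
  set g₀ : ↥K →* ↥(Cfsg.Lie.Sz F (2 ^ (m + 1))) :=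
    e.toMonoidHom.comp (QuotientGroup.mk' (Subgroup.center ↥K)) with hg₀
  have hg₀ker : g₀.ker = Subgroup.center ↥K := by
    ext k
    rw [MonoidHom.mem_ker, hg₀, MonoidHom.comp_apply]
    show e (QuotientGroup.mk' _ k) = 1 ↔ _
    rw [MulEquiv.map_eq_one_iff, QuotientGroup.mk'_apply, QuotientGroup.eq_one_iff]
  have hle : f.rangeRestrict.ker ≤ g₀.ker := by
    rw [MonoidHom.ker_rangeRestrict, hf_ker, hg₀ker]
    exact hker_le
  set π : ↥H' →* ↥(Cfsg.Lie.Sz F (2 ^ (m + 1))) :=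
    MonoidHom.liftOfSurjective f.rangeRestrict f.rangeRestrict_surjective ⟨g₀, hle⟩ with hπdef
  have hπ_apply : ∀ k : ↥K, π (f.rangeRestrict k) = g₀ k := by
    intro k
    rw [hπdef]
    exact MonoidHom.liftOfRightInverse_comp_apply _ _ _ ⟨g₀, hle⟩ k
  have hπ : Function.Surjective π := by
    intro x
    obtain ⟨y, hy⟩ := e.surjective x
    obtain ⟨k, hk⟩ := QuotientGroup.mk'_surjective (Subgroup.center ↥K) y
    refine ⟨f.rangeRestrict k, ?_⟩
    rw [hπ_apply, hg₀, MonoidHom.comp_apply, hk]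
    exact hy
  have hπker : (Nat.card π.ker).Coprime 2 := by
    have h1 : π.ker ≤ (Subgroup.center ↥K).map f.rangeRestrict := by
      intro x hx
      obtain ⟨k, rfl⟩ := f.rangeRestrict_surjective x
      rw [MonoidHom.mem_ker, hπ_apply] at hx
      have : k ∈ g₀.ker := hx
      rw [hg₀ker] at this
      exact ⟨k, this, rfl⟩
    have h2 : Nat.card π.ker ∣ Nat.card ↥(Subgroup.center ↥K) :=
      (Subgroup.card_dvd_of_le h1).trans (Subgroup.card_map_dvd _ _)
    have h3 : Odd (Nat.card π.ker) := by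
      obtain ⟨c, hc⟩ := h2
      rw [hc] at hZ
      exact (Nat.odd_mul.mp hZ).1
    exact (Nat.coprime_two_right.mpr h3)
  -- the prime `l`
  obtain ⟨l, hl, hl2, -, hldvd, hprim⟩ := exists_ppd 2 (2 * (2 * m + 1)) Nat.prime_two (by omega)
    (by rintro ⟨-, h⟩; omega)
  have hlq : l ∣ (2 ^ (2 * m + 1)) ^ 2 + 1 := by
    rw [← pow_mul, mul_comm (2 * m + 1) 2]
    exact hldvd
  have hlq' : ¬ l ∣ 2 ^ (2 * m + 1) - 1 := by
    intro h
    have := hprim (2 * m + 1) (by omega) h
    omega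
  have hL : ∀ x : ↥(Cfsg.Lie.Sz F (2 ^ (m + 1))), orderOf x = 2 →
      ∃ y : ↥(Cfsg.Lie.Sz F (2 ^ (m + 1))), l ^ 1 ∣ orderOf (x * y * x⁻¹ * y⁻¹) := by
    intro x hx
    set ε := Cfsg.Agent.Lib.Helper15.SuzukiLie.equivLie hF hm with hε
    set x' := ε.symm x with hx'
    have hx'ord : orderOf x' = 2 := by rw [hx', MulEquiv.orderOf_eq]; exact hx
    have hx'x' : x' * x' = 1 := by
      rw [← pow_two, ← hx'ord]
      exact pow_orderOf_eq_one x'
    have hx'1 : x' ≠ 1 := by
      intro h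
      rw [h, orderOf_one] at hx'ord
      omega
    obtain ⟨y', hy'⟩ := exists_commutator_Sz hF hm l hl hlq hlq' x' hx'x' hx'1
    refine ⟨ε y', ?_⟩
    have : x * ε y' * x⁻¹ * (ε y')⁻¹ = ε (x' * y' * x'⁻¹ * y'⁻¹) := by
      rw [map_mul, map_mul, map_mul, map_inv, map_inv, hx', MulEquiv.apply_symm_apply]
    rw [this, MulEquiv.orderOf_eq, pow_one]
    exact hy'
  -- the involution
  set b : ↥H' := f.rangeRestrict ⟨t, htK⟩ with hb
  have hb_ord : orderOf b = 2 := by
    apply orderOf_eq_prime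
    · rw [hb, ← map_pow]
      have : (⟨t, htK⟩ : ↥K) ^ 2 = 1 := by
        apply Subtype.ext
        show t ^ 2 = 1
        rw [pow_two, ht2]
      rw [this, map_one]
    · intro h
      have h1 : (⟨t, htK⟩ : ↥K) ∈ f.rangeRestrict.ker := h
      rw [MonoidHom.ker_rangeRestrict, hf_ker] at h1
      have h2 := hker_le h1
      obtain ⟨k, hk, hne⟩ := htZ
      apply hne
      have h3 := Subgroup.mem_center_iff.mp h2 ⟨k, hk⟩
      exact congrArg Subtype.val h3
  have key := (quot_bounds_prime (p := 2) V' H' hVp hHV hfaith π hπ hπker (2 * (2 * m + 1)) l 1 hl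
    one_pos hl2 (by
      intro k hk hd
      rw [pow_one] at hd
      exact hprim k hk hd) hL b hb_ord).1
  -- translate back
  have hbval : (b : Hol ↥W) = SemidirectProduct.inr (ρ ⟨t, htK⟩) := rfl
  have hcV : cV V' (b : Hol ↥W) =
      ((W ⊓ fixElt t).subgroupOf W).map (SemidirectProduct.inl : ↥W →* Hol ↥W) := by
    ext x
    rw [mem_cV, Subgroup.mem_map]
    constructor
    · rintro ⟨⟨w, rfl⟩, hx⟩
      refine ⟨w, ?_, rfl⟩
      rw [hbval] at hx
      have h1 := (hol_comm_iff w _).mp hx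
      rw [Subgroup.mem_subgroupOf]
      refine Subgroup.mem_inf.mpr ⟨w.2, ?_⟩
      show t • w.1 = w.1
      have h2 := congrArg Subtype.val h1
      rw [hρ, resAut_apply] at h2
      exact h2
    · rintro ⟨w, hw, rfl⟩
      refine ⟨⟨w, rfl⟩, ?_⟩
      rw [hbval]
      apply (hol_comm_iff w _).mpr
      rw [Subgroup.mem_subgroupOf] at hw
      apply Subtype.ext
      rw [hρ, resAut_apply]
      exact (Subgroup.mem_inf.mp hw).2
  have hcard1 : Nat.card ↥(cV V' (b : Hol ↥W)) = Nat.card ↥(W ⊓ fixElt t) := by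
    rw [hcV, Subgroup.card_map_of_injective SemidirectProduct.inl_injective]
    exact Nat.card_congr (Subgroup.subgroupOfEquivOfLe inf_le_left).toEquiv
  have hcard2 : Nat.card ↥V' = Nat.card ↥W := by
    rw [hV']
    exact (Nat.card_congr (MonoidHom.ofInjective SemidirectProduct.inl_injective).toEquiv).symm
  have hmul := card_mul_relIndex (cV_le V' (b : Hol ↥W))
  rw [hcard1, hcard2] at hmul
  have e2 : (2 ^ (2 * m + 1)) ^ 2 = 2 ^ (2 * (2 * m + 1)) := by
    rw [← pow_mul]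
    congr 1
    ring
  rw [e2, ← hmul, mul_comm]
  exact Nat.mul_le_mul_left _ key

end module

end Cfsg.Agent.Lib.Helper9.SFLeaf
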