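import Mathlib
import Cfsg.Prelude.Def_Classical
import Cfsg.Agent.Lib.Helper14.Unitary
import Cfsg.Agent.Lib.Helper14.Unitary2
import Cfsg.Agent.Lib.Helper14.Unitary3
import Cfsg.Agent.Lib.Helper14.HermCount
import Cfsg.Agent.Lib.Helper9.UT3

set_option autoImplicit false
set_option linter.unusedSectionVars false
set_option linter.unusedVariables false
set_option linter.style.haveILetI false

namespace Cfsg.Agent.Lib.Helper9.SU3SpecC

open Cfsg.Agent.Lib.Helper14 Matrix Finset Polynomial

section fld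

variable {F K : Type*} [Field F] [Fintype F] [Field K] [Algebra F K]

/-- Frobenius of `F` acts on evaluations of polynomials over `F` -/
theorem aeval_pow_card (f : F[X]) (x : K) :
    aeval (x ^ Fintype.card F) f = (aeval x f) ^ Fintype.card F := by
  rw [← Polynomial.expand_aeval, FiniteField.expand_card, map_pow]

/-- the fixed points of the Frobenius of `F` on an extension are the elements of `F` -/
theorem mem_range_of_pow_card_eq (x : K) (hx : x ^ Fintype.card F = x) :
    ∃ c : F, algebraMap F K c = x := by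
  classical
  by_contra hcon
  push Not at hcon
  set Q := Fintype.card F with hQ
  have hQ1 : 1 < Q := Fintype.one_lt_card
  set P : K[X] := X ^ Q - X with hP
  have hP0 : P ≠ 0 := FiniteField.X_pow_card_sub_X_ne_zero K hQ1
  have hdeg : P.natDegree = Q := FiniteField.X_pow_card_sub_X_natDegree_eq K hQ1
  set S : Finset K := insert x (Finset.image (algebraMap F K) Finset.univ) with hS
  have hx_notin : x ∉ Finset.image (algebraMap F K) Finset.univ := by
    intro h
    obtain ⟨c, _, hc⟩ := Finset.mem_image.mp h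
    exact hcon c hc
  have hcardS : S.card = Q + 1 := by
    rw [hS, Finset.card_insert_of_notMem hx_notin,
      Finset.card_image_of_injective _ (algebraMap F K).injective, Finset.card_univ]
  have hsub : S ⊆ P.roots.toFinset := by
    intro y hy
    rw [Multiset.mem_toFinset, Polynomial.mem_roots hP0, Polynomial.IsRoot, hP, eval_sub, eval_pow,
      eval_X]
    rw [hS, Finset.mem_insert] at hy
    rcases hy with rfl | hy
    · rw [hx, sub_self]
    · obtain ⟨c, _, rfl⟩ := Finset.mem_image.mp hy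
      rw [← map_pow, hQ, FiniteField.pow_card, sub_self]
  have h1 : S.card ≤ Q := by
    calc S.card ≤ P.roots.toFinset.card := Finset.card_le_card hsub
      _ ≤ Multiset.card P.roots := Multiset.toFinset_card_le _
      _ ≤ P.natDegree := Polynomial.card_roots' P
      _ = Q := hdeg
  omega

/-- the twisted Frobenius identity: `f^σ (x^q) = (f x)^q` -/
theorem aeval_frob_twist {p : ℕ} [Fact p.Prime] [CharP F p] (j : ℕ) (f : F[X]) (x : K) :
    aeval (x ^ p ^ j) (f.map (iterateFrobenius F p j)) = (aeval x f) ^ p ^ j := by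
  haveI : CharP K p := charP_of_injective_algebraMap (algebraMap F K).injective p
  have h1 : (aeval x f) ^ p ^ j = iterateFrobenius K p j (aeval x f) := by
    rw [iterateFrobenius_def]
  rw [h1, aeval_def, aeval_def, Polynomial.hom_eval₂, Polynomial.eval₂_map, iterateFrobenius_def]
  congr 1
  ext c
  simp only [RingHom.comp_apply, iterateFrobenius_def, map_pow]

end fld

section cubic

variable {F : Type*} [Field F] [Fintype F] (χ : F[X]) [hirr : Fact (Irreducible χ)]

local notation "K" => AdjoinRoot χ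
local notation "lam" => AdjoinRoot.root χ
local notation "Q" => Fintype.card F

theorem finite_adjoinRoot (hm : χ.Monic) : Finite (AdjoinRoot χ) := by
  haveI : Module.Finite F (AdjoinRoot χ) := hm.finite_adjoinRoot
  exact Module.finite_of_finite F

theorem finrank_adjoinRoot (hm : χ.Monic) (h3 : χ.natDegree = 3) :
    Module.finrank F (AdjoinRoot χ) = 3 := by
  rw [(AdjoinRoot.powerBasis hm.ne_zero).finrank, AdjoinRoot.powerBasis_dim, h3]

theorem natCard_adjoinRoot (hm : χ.Monic) (h3 : χ.natDegree = 3) :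
    Nat.card (AdjoinRoot χ) = Q ^ 3 := by
  haveI : Module.Finite F (AdjoinRoot χ) := hm.finite_adjoinRoot
  have := @Module.natCard_eq_pow_finrank F (AdjoinRoot χ) _ _ _ _
  rw [this, Nat.card_eq_fintype_card, finrank_adjoinRoot χ hm h3]

theorem pow_card_cube (hm : χ.Monic) (h3 : χ.natDegree = 3) (x : AdjoinRoot χ) :
    x ^ (Q ^ 3) = x := by
  haveI := finite_adjoinRoot χ hm
  haveI : Fintype (AdjoinRoot χ) := Fintype.ofFinite _
  have := FiniteField.pow_card x
  rwa [Fintype.card_eq_nat_card, natCard_adjoinRoot χ hm h3] at this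

theorem root_pow_card_ne (hm : χ.Monic) (h3 : χ.natDegree = 3) : lam ^ Q ≠ lam := by
  intro h
  obtain ⟨c, hc⟩ := mem_range_of_pow_card_eq (F := F) (AdjoinRoot.root χ) h
  have h1 : AdjoinRoot.mk χ (X - C c) = 0 := by
    rw [map_sub, AdjoinRoot.mk_X, AdjoinRoot.mk_C, ← hc, sub_eq_zero]
    rfl
  rw [AdjoinRoot.mk_eq_zero] at h1
  have h2 := Polynomial.natDegree_le_of_dvd h1 (X_sub_C_ne_zero c)
  rw [h3, natDegree_X_sub_C] at h2
  omega

/-- Frobenius is injective (it has order three) -/
theorem pow_card_injective (hm : χ.Monic) (h3 : χ.natDegree = 3) (x y : AdjoinRoot χ)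
    (h : x ^ Q = y ^ Q) : x = y := by
  have hx := pow_card_cube χ hm h3 x
  have hy := pow_card_cube χ hm h3 y
  have : Q ^ 3 = Q * Q ^ 2 := by ring
  rw [this, pow_mul] at hx hy
  rw [← hx, ← hy, h]

theorem aeval_root_pow (k : ℕ) : aeval (lam ^ (Q ^ k)) χ = 0 := by
  induction k with
  | zero =>
    rw [pow_zero, pow_one, AdjoinRoot.aeval_eq, AdjoinRoot.mk_self]
  | succ k ih =>
    rw [pow_succ, pow_mul, aeval_pow_card, ih, zero_pow Fintype.card_ne_zero]

/-- the roots of `χ` in `K` are the three conjugates of the root -/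
theorem root_cases (hm : χ.Monic) (h3 : χ.natDegree = 3) (μ : AdjoinRoot χ)
    (hμ : aeval μ χ = 0) : μ = lam ∨ μ = lam ^ Q ∨ μ = lam ^ (Q ^ 2) := by
  classical
  by_contra hcon
  push Not at hcon
  obtain ⟨n0, n1, n2⟩ := hcon
  have hne := root_pow_card_ne χ hm h3
  have d01 : lam ≠ lam ^ Q := fun h => hne h.symm
  have d12 : lam ^ Q ≠ lam ^ (Q ^ 2) := by
    intro h
    rw [pow_two, pow_mul] at h
    exact d01 (pow_card_injective χ hm h3 _ _ h)
  have d02 : lam ≠ lam ^ (Q ^ 2) := by
    intro h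
    have h1 : lam ^ Q = (lam ^ (Q ^ 2)) ^ Q := by rw [← h]
    rw [← pow_mul, ← pow_succ, pow_card_cube χ hm h3] at h1
    exact hne h1
  set P : (AdjoinRoot χ)[X] := χ.map (algebraMap F (AdjoinRoot χ)) with hP
  have hP0 : P ≠ 0 := by
    rw [hP]
    exact (hm.map _).ne_zero
  have hPdeg : P.natDegree = 3 := by
    rw [hP, Polynomial.natDegree_map, h3]
  have hroot : ∀ y : AdjoinRoot χ, aeval y χ = 0 → y ∈ P.roots.toFinset := by
    intro y hy
    rw [Multiset.mem_toFinset, Polynomial.mem_roots hP0, Polynomial.IsRoot, hP, eval_map_algebraMap]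
    exact hy
  have hsub : ({μ, lam, lam ^ Q, lam ^ (Q ^ 2)} : Finset (AdjoinRoot χ)) ⊆ P.roots.toFinset := by
    intro y hy
    simp only [Finset.mem_insert, Finset.mem_singleton] at hy
    rcases hy with rfl | rfl | rfl | rfl
    · exact hroot _ hμ
    · have := aeval_root_pow χ 0
      rw [pow_zero, pow_one] at this
      exact hroot _ this
    · have := aeval_root_pow χ 1
      rw [pow_one] at this
      exact hroot _ this
    · exact hroot _ (aeval_root_pow χ 2)
  have hcard : ({μ, lam, lam ^ Q, lam ^ (Q ^ 2)} : Finset (AdjoinRoot χ)).card = 4 := by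
    rw [Finset.card_insert_of_notMem, Finset.card_insert_of_notMem, Finset.card_insert_of_notMem,
      Finset.card_singleton]
    · simp only [Finset.mem_singleton]; exact d12
    · simp only [Finset.mem_insert, Finset.mem_singleton]; push Not; exact ⟨d01, d02⟩
    · simp only [Finset.mem_insert, Finset.mem_singleton]; push Not; exact ⟨n0, n1, n2⟩
  have : 4 ≤ 3 := by
    calc 4 = _ := hcard.symm
      _ ≤ P.roots.toFinset.card := Finset.card_le_card hsub
      _ ≤ Multiset.card P.roots := Multiset.toFinset_card_le _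
      _ ≤ P.natDegree := Polynomial.card_roots' P
      _ = 3 := hPdeg
  omega

/-- the norm of the root -/
theorem root_norm (hm : χ.Monic) (h3 : χ.natDegree = 3) (h0 : χ.coeff 0 = -1) :
    lam ^ (Q ^ 2 + Q + 1) = 1 := by
  haveI := finite_adjoinRoot χ hm
  have h1 := FiniteField.algebraMap_norm_eq_pow_sum F (AdjoinRoot χ) (AdjoinRoot.root χ)
  rw [finrank_adjoinRoot χ hm h3] at h1
  have h2 : Algebra.norm F (AdjoinRoot.root χ) = 1 := by
    have := Algebra.PowerBasis.norm_gen_eq_coeff_zero_minpoly (AdjoinRoot.powerBasis hm.ne_zero)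
    rw [AdjoinRoot.powerBasis_gen, AdjoinRoot.powerBasis_dim, h3,
      AdjoinRoot.minpoly_root hm.ne_zero, hm.leadingCoeff, inv_one, map_one, mul_one, h0] at this
    rw [this]
    norm_num
  rw [h2, map_one, Nat.card_eq_fintype_card] at h1
  have h4 : ∑ i ∈ Finset.range 3, Q ^ i = Q ^ 2 + Q + 1 := by
    rw [Finset.sum_range_succ, Finset.sum_range_succ, Finset.sum_range_one]
    ring
  rw [h4] at h1
  exact h1.symm

theorem root_ne_zero (hm : χ.Monic) (h3 : χ.natDegree = 3) : lam ≠ 0 := by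
  intro h
  apply root_pow_card_ne χ hm h3
  rw [h, zero_pow Fintype.card_ne_zero]

end cubic

section singer

variable {F : Type*} [Field F] [Fintype F] [DecidableEq F] {q : ℕ}

/-- unitary matrices: `Mᵀ M^(q) = 1` -/
theorem transpose_mul_map_of_isUni (hF : Fintype.card F = q ^ 2) (M : Matrix (Fin 3) (Fin 3) F)
    (hM : IsUni F q 3 M) : M.transpose * M.map (fun x => x ^ q) = 1 := by
  apply transpose_mul_map_of_orthoN
  intro j l
  have := hM (Pi.single j 1) (Pi.single l 1)
  rw [hermForm_single hF, Matrix.mulVec_single_one, Matrix.mulVec_single_one] at this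
  exact this

/-- the characteristic polynomial of a special unitary matrix is twisted self-reciprocal -/
theorem charpoly_twist {p : ℕ} [Fact p.Prime] [CharP F p] (j : ℕ)
    (hF : Fintype.card F = (p ^ j) ^ 2) (M : Matrix (Fin 3) (Fin 3) F)
    (hM : IsUni F (p ^ j) 3 M) (hdet : M.det = 1) :
    M.charpoly.map (iterateFrobenius F p j) = - M.charpoly.reverse := by
  have hU := transpose_mul_map_of_isUni hF M hM
  have h1 : M.map (fun x => x ^ p ^ j) = (Mᵀ)⁻¹ := (Matrix.inv_eq_right_inv hU).symm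
  have h2 : (M.map (iterateFrobenius F p j)).charpoly = M.charpoly.map (iterateFrobenius F p j) :=
    Matrix.charpoly_map M _
  have h3 : (M.map (iterateFrobenius F p j)) = M.map (fun x => x ^ p ^ j) := by
    ext i k
    simp [iterateFrobenius_def]
  have hunit : IsUnit Mᵀ := by
    rw [Matrix.isUnit_iff_isUnit_det, Matrix.det_transpose, hdet]
    exact isUnit_one
  rw [← h2, h3, h1, Matrix.charpoly_inv _ hunit, ← Matrix.reverse_charpoly,
    Matrix.charpoly_transpose, Matrix.det_transpose, hdet]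
  simp only [Fintype.card_fin, Ring.inverse_one, map_one, mul_one]
  ring

theorem pow_eq_smul_of_root_pow (M : Matrix (Fin 3) (Fin 3) F) [Fact (Irreducible M.charpoly)]
    (k : ℕ) (c : F)
    (h : (AdjoinRoot.root M.charpoly) ^ k = algebraMap F (AdjoinRoot M.charpoly) c) :
    M ^ k = c • (1 : Matrix (Fin 3) (Fin 3) F) := by
  have h1 : AdjoinRoot.mk M.charpoly (X ^ k - C c) = 0 := by
    rw [map_sub, map_pow, AdjoinRoot.mk_X, AdjoinRoot.mk_C, h, sub_eq_zero]
    rfl
  rw [AdjoinRoot.mk_eq_zero] at h1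
  obtain ⟨g, hg⟩ := h1
  have h2 := congrArg (aeval M) hg
  rw [map_mul, Matrix.aeval_self_charpoly, zero_mul, map_sub, map_pow, aeval_X, aeval_C,
    sub_eq_zero] at h2
  rw [h2, Algebra.algebraMap_eq_smul_one]

theorem singer_root_pow {p : ℕ} [Fact p.Prime] [CharP F p] (j : ℕ) (hq : q = p ^ j)
    (hF : Fintype.card F = q ^ 2) (M : Matrix (Fin 3) (Fin 3) F) (hM : IsUni F q 3 M)
    (hdet : M.det = 1) [Fact (Irreducible M.charpoly)] :
    (AdjoinRoot.root M.charpoly) ^ (q ^ 2 - q + 1) = 1 := by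
  subst hq
  have hq2 := herm_two_le hF
  obtain ⟨χ, hχ⟩ : ∃ χ, χ = M.charpoly := ⟨_, rfl⟩
  have hm : M.charpoly.Monic := Matrix.charpoly_monic M
  have h3 : M.charpoly.natDegree = 3 := by
    rw [Matrix.charpoly_natDegree_eq_dim, Fintype.card_fin]
  have h0 : M.charpoly.coeff 0 = -1 := by
    have := Matrix.det_eq_sign_charpoly_coeff M
    rw [hdet, Fintype.card_fin] at this
    have h : (-1 : F) ^ 3 = -1 := by norm_num
    rw [h] at this
    linear_combination this
  have hx0 := root_ne_zero M.charpoly hm h3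
  have hne := root_pow_card_ne M.charpoly hm h3
  rw [hF] at hne
  have hroot : aeval (AdjoinRoot.root M.charpoly) M.charpoly = 0 := by
    rw [AdjoinRoot.aeval_eq, AdjoinRoot.mk_self]
  have hcases := root_cases M.charpoly hm h3
  have hnorm := root_norm M.charpoly hm h3 h0
  rw [hF] at hcases hnorm
  obtain ⟨x, hx⟩ : ∃ x, x = AdjoinRoot.root M.charpoly := ⟨_, rfl⟩
  rw [← hx] at hx0 hne hroot hcases hnorm ⊢
  have hinj : ∀ a b : AdjoinRoot M.charpoly, a ^ (p ^ j) = b ^ (p ^ j) → a = b := by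
    intro a b hab
    apply pow_card_injective M.charpoly hm h3
    rw [hF, pow_two, pow_mul, pow_mul, hab]
  -- step 1
  have s1 : aeval (x ^ p ^ j) (M.charpoly.map (iterateFrobenius F p j)) = 0 := by
    rw [aeval_frob_twist, hroot, zero_pow]
    exact pow_ne_zero _ (Nat.Prime.ne_zero Fact.out)
  rw [charpoly_twist j hF M hM hdet, map_neg, neg_eq_zero] at s1
  -- step 3
  have hxq0 : (x ^ p ^ j)⁻¹ ≠ 0 := inv_ne_zero (pow_ne_zero _ hx0)
  have s3 : aeval ((x ^ p ^ j)⁻¹) M.charpoly = 0 := by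
    letI : Invertible ((x ^ p ^ j)⁻¹) := invertibleOfNonzero hxq0
    have := Polynomial.eval₂_reverse_eq_zero_iff (algebraMap F (AdjoinRoot M.charpoly))
      ((x ^ p ^ j)⁻¹) M.charpoly
    rw [invOf_eq_inv, inv_inv] at this
    exact this.mp s1
  have key : x ^ (p ^ j + 1) ≠ 1 := by
    intro h
    apply hne
    obtain ⟨r, hr⟩ : ∃ r, p ^ j = r + 1 := ⟨p ^ j - 1, by omega⟩
    have e : (p ^ j) ^ 2 = (p ^ j + 1) * r + 1 := by rw [hr]; ring
    rw [e, pow_succ, pow_mul, h, one_pow, one_mul]
  have hmul : x ^ p ^ j * (x ^ p ^ j)⁻¹ = 1 := mul_inv_cancel₀ (pow_ne_zero _ hx0)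
  rcases hcases _ s3 with hc | hc | hc
  · exfalso
    apply key
    rw [hc] at hmul
    rw [pow_succ, hmul]
  · exfalso
    apply key
    apply hinj
    rw [hc] at hmul
    rw [one_pow, ← pow_mul, add_mul, one_mul, pow_add, ← pow_two, mul_comm, hmul]
  · have hC : x ^ ((p ^ j) ^ 3 + 1) = 1 := by
      apply hinj
      rw [hc] at hmul
      rw [one_pow, ← pow_mul, add_mul, one_mul, pow_add]
      have e : (p ^ j) ^ 3 * p ^ j = ((p ^ j) ^ 2) ^ 2 := by ring
      rw [e, mul_comm, hmul]
    obtain ⟨N, hN⟩ : ∃ N, N = (p ^ j) ^ 2 - p ^ j + 1 := ⟨_, rfl⟩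
    have hNq : N + p ^ j = (p ^ j) ^ 2 + 1 := by
      have : p ^ j ≤ (p ^ j) ^ 2 := Nat.le_self_pow two_ne_zero _
      omega
    have e : ((p ^ j) ^ 2) ^ 2 + (p ^ j) ^ 2 + 1 = ((p ^ j) ^ 3 + 1) * p ^ j + N := by
      nlinarith [hNq]
    rw [e, pow_add, pow_mul, hC, one_pow, one_mul] at hnorm
    rw [← hN]
    exact hnorm

/-- **Singer case**: a special unitary matrix with irreducible characteristic polynomial -/
theorem singer_case {p : ℕ} [Fact p.Prime] [CharP F p] (j : ℕ) (hq : q = p ^ j)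
    (hF : Fintype.card F = q ^ 2) (M : Matrix (Fin 3) (Fin 3) F) (hM : IsUni F q 3 M)
    (hdet : M.det = 1) (hirr : Irreducible M.charpoly) :
    ∃ c : F, M ^ ((q ^ 2 - q + 1) / Nat.gcd 3 (q + 1)) = c • (1 : Matrix (Fin 3) (Fin 3) F) := by
  haveI : Fact (Irreducible M.charpoly) := ⟨hirr⟩
  have hpow := singer_root_pow j hq hF M hM hdet
  have hq2 := herm_two_le hF
  rcases UT3.gcd_three_cases q with ⟨hd, _⟩ | ⟨hd, h3⟩
  · rw [hd, Nat.div_one]
    exact ⟨1, pow_eq_smul_of_root_pow M _ 1 (by rw [hpow, map_one])⟩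
  · rw [hd]
    obtain ⟨N, hN⟩ : ∃ N, N = q ^ 2 - q + 1 := ⟨_, rfl⟩
    have hNq : N + q = q ^ 2 + 1 := by
      have : q ≤ q ^ 2 := Nat.le_self_pow two_ne_zero _
      omega
    obtain ⟨t, ht⟩ := h3
    have h3N : 3 ∣ N := by
      have e : N + 3 * q = 3 * (3 * t ^ 2) := by nlinarith
      exact (Nat.dvd_add_left (dvd_mul_right 3 q)).mp ⟨_, e⟩
    obtain ⟨m, hm⟩ := h3N
    rw [← hN, hm, Nat.mul_div_cancel_left _ (by norm_num)]
    rw [← hN, hm] at hpow
    have hω3 : ((AdjoinRoot.root M.charpoly) ^ m) ^ 3 = 1 := by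
      rw [← pow_mul, mul_comm]
      exact hpow
    obtain ⟨r, hr⟩ : ∃ r, q = r + 1 := ⟨q - 1, by omega⟩
    have hQ : q ^ 2 = 3 * (t * r) + 1 := by
      have : r + 2 = 3 * t := by omega
      rw [hr]
      nlinarith
    have hfix : ((AdjoinRoot.root M.charpoly) ^ m) ^ (Fintype.card F) =
        (AdjoinRoot.root M.charpoly) ^ m := by
      rw [hF, hQ, pow_succ, pow_mul, hω3, one_pow, one_mul]
    obtain ⟨c, hc⟩ := mem_range_of_pow_card_eq (F := F) _ hfix
    exact ⟨c, pow_eq_smul_of_root_pow M m c hc.symm⟩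

end singer

end Cfsg.Agent.Lib.Helper9.SU3SpecC
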