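import Mathlib
import Cfsg.Agent.Lib.Helper9.SU3SpecC

set_option autoImplicit false
set_option linter.unusedSectionVars false
set_option linter.unusedVariables false
set_option linter.style.haveILetI false

namespace Cfsg.Agent.Lib.Helper9.SL3SpecA

open Matrix Finset Polynomial

section adj

variable {F : Type*} [Field F] [Fintype F] (χ : F[X]) [hirr : Fact (Irreducible χ)]

local notation "Q" => Fintype.card F

theorem finrank_adj (hm : χ.Monic) : Module.finrank F (AdjoinRoot χ) = χ.natDegree := by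
  rw [(AdjoinRoot.powerBasis hm.ne_zero).finrank, AdjoinRoot.powerBasis_dim]

theorem pow_card_pow_adj (hm : χ.Monic) (x : AdjoinRoot χ) : x ^ (Q ^ χ.natDegree) = x := by
  haveI := SU3SpecC.finite_adjoinRoot χ hm
  haveI : Fintype (AdjoinRoot χ) := Fintype.ofFinite _
  have h1 := FiniteField.pow_card x
  haveI : Module.Finite F (AdjoinRoot χ) := hm.finite_adjoinRoot
  have h2 := @Module.natCard_eq_pow_finrank F (AdjoinRoot χ) _ _ _ _
  rw [Nat.card_eq_fintype_card, Nat.card_eq_fintype_card, finrank_adj χ hm] at h2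
  rwa [h2] at h1

theorem root_norm_adj (hm : χ.Monic) :
    algebraMap F (AdjoinRoot χ) ((-1) ^ χ.natDegree * χ.coeff 0) =
      (AdjoinRoot.root χ) ^ (∑ i ∈ Finset.range χ.natDegree, Q ^ i) := by
  haveI := SU3SpecC.finite_adjoinRoot χ hm
  have h1 := FiniteField.algebraMap_norm_eq_pow_sum F (AdjoinRoot χ) (AdjoinRoot.root χ)
  rw [finrank_adj χ hm, Nat.card_eq_fintype_card] at h1
  rw [← h1]
  congr 1
  have := Algebra.PowerBasis.norm_gen_eq_coeff_zero_minpoly (AdjoinRoot.powerBasis hm.ne_zero)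
  rw [AdjoinRoot.powerBasis_gen, AdjoinRoot.powerBasis_dim,
    AdjoinRoot.minpoly_root hm.ne_zero, hm.leadingCoeff, inv_one, map_one, mul_one] at this
  exact this.symm

theorem dvd_of_root_pow (k : ℕ) (e : F)
    (h : (AdjoinRoot.root χ) ^ k = algebraMap F (AdjoinRoot χ) e) : χ ∣ X ^ k - C e := by
  rw [← AdjoinRoot.mk_eq_zero, map_sub, map_pow, AdjoinRoot.mk_X, AdjoinRoot.mk_C, h, sub_eq_zero]
  rfl

end adj

section cases3

theorem gcd_three_cases' (n : ℕ) :
    (Nat.gcd 3 n = 1 ∧ ¬ 3 ∣ n) ∨ (Nat.gcd 3 n = 3 ∧ 3 ∣ n) := by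
  by_cases h : 3 ∣ n
  · right
    exact ⟨Nat.gcd_eq_left h, h⟩
  · left
    exact ⟨(Nat.Prime.coprime_iff_not_dvd Nat.prime_three).mpr h, h⟩

end cases3

section poly

variable {F : Type*} [Field F] [Fintype F]

local notation "Q" => Fintype.card F

/-- Cayley–Hamilton: divisibility of `X ^ k - e` by the characteristic polynomial -/
theorem pow_eq_smul_of_dvd (M : Matrix (Fin 3) (Fin 3) F) (k : ℕ) (e : F)
    (h : M.charpoly ∣ X ^ k - C e) : M ^ k = e • (1 : Matrix (Fin 3) (Fin 3) F) := by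
  obtain ⟨g, hg⟩ := h
  have h2 := congrArg (aeval M) hg
  rw [map_mul, Matrix.aeval_self_charpoly, zero_mul, map_sub, map_pow, aeval_X, aeval_C,
    sub_eq_zero] at h2
  rw [h2, Algebra.algebraMap_eq_smul_one]

/-- **irreducible cubic** -/
theorem irr_case (χ : F[X]) (hm : χ.Monic) (h3 : χ.natDegree = 3) (h0 : χ.coeff 0 = -1)
    (hirr : Irreducible χ) :
    ∃ e : F, χ ∣ X ^ ((Q ^ 2 + Q + 1) / Nat.gcd 3 (Q - 1)) - C e := by
  haveI : Fact (Irreducible χ) := ⟨hirr⟩
  have hQ1 : 1 < Q := Fintype.one_lt_card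
  have hnorm : (AdjoinRoot.root χ) ^ (Q ^ 2 + Q + 1) = 1 := by
    have := root_norm_adj χ hm
    rw [h3, h0] at this
    have h4 : ∑ i ∈ Finset.range 3, Q ^ i = Q ^ 2 + Q + 1 := by
      rw [Finset.sum_range_succ, Finset.sum_range_succ, Finset.sum_range_one]
      ring
    rw [h4] at this
    rw [← this]
    norm_num
  rcases gcd_three_cases' (Q - 1) with ⟨hd, _⟩ | ⟨hd, t, ht⟩
  · rw [hd, Nat.div_one]
    exact ⟨1, dvd_of_root_pow χ _ 1 (by rw [hnorm, map_one])⟩
  · rw [hd]
    have hQt : Q = 3 * t + 1 := by omega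
    have hN : Q ^ 2 + Q + 1 = 3 * (3 * t ^ 2 + 3 * t + 1) := by rw [hQt]; ring
    rw [hN, Nat.mul_div_cancel_left _ (by norm_num)]
    rw [hN] at hnorm
    have hω3 : ((AdjoinRoot.root χ) ^ (3 * t ^ 2 + 3 * t + 1)) ^ 3 = 1 := by
      rw [← pow_mul, mul_comm]
      exact hnorm
    have hfix : ((AdjoinRoot.root χ) ^ (3 * t ^ 2 + 3 * t + 1)) ^ Q =
        (AdjoinRoot.root χ) ^ (3 * t ^ 2 + 3 * t + 1) := by
      rw [hQt, pow_succ, pow_mul, hω3, one_pow, one_mul]
    obtain ⟨e, he⟩ := SU3SpecC.mem_range_of_pow_card_eq (F := F) _ hfix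
    exact ⟨e, dvd_of_root_pow χ _ e he.symm⟩

theorem sq_sub_one' (n : ℕ) (hn : 1 ≤ n) : n ^ 2 - 1 = (n - 1) * (n + 1) := by
  obtain ⟨r, rfl⟩ : ∃ r, n = r + 1 := ⟨n - 1, by omega⟩
  have : (r + 1) ^ 2 = r * (r + 1 + 1) + 1 := by ring
  rw [this]
  simp

theorem pow_card_sub_one_eq (a : F) (ha : a ≠ 0) : a ^ (Q - 1) = 1 :=
  FiniteField.pow_card_sub_one_eq_one a ha

/-- **linear times irreducible quadratic** -/
theorem quad_case (a : F) (g : F[X]) (hm : g.Monic) (h2 : g.natDegree = 2)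
    (hirr : Irreducible g) (ha : a * g.coeff 0 = 1) :
    ∃ e : F, (X - C a) * g ∣ X ^ ((Q ^ 2 - 1) / Nat.gcd 3 (Q - 1)) - C e := by
  haveI : Fact (Irreducible g) := ⟨hirr⟩
  have hQ1 : 1 < Q := Fintype.one_lt_card
  have ha0 : a ≠ 0 := by
    rintro rfl
    rw [zero_mul] at ha
    exact zero_ne_one ha
  have hδ0 : g.coeff 0 ≠ 0 := by
    intro h
    rw [h, mul_zero] at ha
    exact zero_ne_one ha
  have hcop : IsCoprime (X - C a) g := by
    rw [(irreducible_X_sub_C a).coprime_iff_not_dvd, dvd_iff_isRoot]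
    intro hroot
    have := Polynomial.degree_eq_one_of_irreducible_of_root hirr hroot
    rw [Polynomial.degree_eq_natDegree hm.ne_zero, h2] at this
    norm_num at this
  have hnorm : algebraMap F (AdjoinRoot g) (g.coeff 0) = (AdjoinRoot.root g) ^ (1 + Q) := by
    have := root_norm_adj g hm
    rw [h2] at this
    have h4 : ∑ i ∈ Finset.range 2, Q ^ i = 1 + Q := by
      rw [Finset.sum_range_succ, Finset.sum_range_one, pow_one, pow_zero]
    rw [h4] at this
    rw [← this]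
    norm_num
  have hμ0 : AdjoinRoot.root g ≠ 0 := by
    intro h
    rw [h, zero_pow (by omega)] at hnorm
    exact hδ0 ((map_eq_zero _).mp hnorm)
  have hμ1 : (AdjoinRoot.root g) ^ (Q ^ 2 - 1) = 1 := by
    have h5 := pow_card_pow_adj g hm (AdjoinRoot.root g)
    rw [h2] at h5
    obtain ⟨r, hr⟩ : ∃ r, Q ^ 2 = r + 1 := ⟨Q ^ 2 - 1, by
      have : 1 ≤ Q ^ 2 := Nat.one_le_pow _ _ (by omega)
      omega⟩
    have hr' : Q ^ 2 - 1 = r := by omega
    rw [hr'] 
    rw [hr, pow_succ] at h5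
    have h6 : (AdjoinRoot.root g) ^ r * AdjoinRoot.root g = 1 * AdjoinRoot.root g := by
      rw [one_mul]; exact h5
    exact mul_right_cancel₀ hμ0 h6
  have hsq := sq_sub_one' Q (by omega)
  rcases gcd_three_cases' (Q - 1) with ⟨hd, _⟩ | ⟨hd, t, ht⟩
  · rw [hd, Nat.div_one]
    refine ⟨1, hcop.mul_dvd ?_ (dvd_of_root_pow g _ 1 (by rw [hμ1, map_one]))⟩
    rw [dvd_iff_isRoot, IsRoot, eval_sub, eval_pow, eval_X, eval_C, hsq, pow_mul,
      pow_card_sub_one_eq a ha0, one_pow, sub_self]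
  · rw [hd]
    have hQt : Q = 3 * t + 1 := by omega
    have hK : Q ^ 2 - 1 = 3 * (t * (3 * t + 2)) := by
      rw [hsq, ht, hQt]
      ring
    rw [hK, Nat.mul_div_cancel_left _ (by norm_num)]
    rw [hK] at hμ1
    have hω3 : ((AdjoinRoot.root g) ^ (t * (3 * t + 2))) ^ 3 = 1 := by
      rw [← pow_mul, mul_comm]
      exact hμ1
    have hfix : ((AdjoinRoot.root g) ^ (t * (3 * t + 2))) ^ Q =
        (AdjoinRoot.root g) ^ (t * (3 * t + 2)) := by
      rw [hQt, pow_succ, pow_mul, hω3, one_pow, one_mul]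
    obtain ⟨e, he⟩ := SU3SpecC.mem_range_of_pow_card_eq (F := F) _ hfix
    have he3 : e ^ 3 = 1 := by
      apply (algebraMap F (AdjoinRoot g)).injective
      rw [map_pow, he, hω3, map_one]
    have hδK : (g.coeff 0) ^ (t * (3 * t + 2)) = e ^ 2 := by
      apply (algebraMap F (AdjoinRoot g)).injective
      rw [map_pow, hnorm, ← pow_mul, mul_comm, pow_mul, ← he, ← map_pow]
      congr 1
      have : 1 + Q = 3 * t + 2 := by omega
      rw [this, pow_add, pow_mul, he3, one_pow, one_mul]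
    have haK : a ^ (t * (3 * t + 2)) = e := by
      have h7 : a ^ (t * (3 * t + 2)) * (g.coeff 0) ^ (t * (3 * t + 2)) = 1 := by
        rw [← mul_pow, ha, one_pow]
      rw [hδK] at h7
      calc a ^ (t * (3 * t + 2)) = a ^ (t * (3 * t + 2)) * e ^ 3 := by rw [he3, mul_one]
        _ = (a ^ (t * (3 * t + 2)) * e ^ 2) * e := by ring
        _ = e := by rw [h7, one_mul]
    refine ⟨e, hcop.mul_dvd ?_ (dvd_of_root_pow g _ e he.symm)⟩
    rw [dvd_iff_isRoot, IsRoot, eval_sub, eval_pow, eval_X, eval_C, haK, sub_self]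

end poly

section split

variable {F : Type*} [Field F] [Fintype F]

local notation "Q" => Fintype.card F

theorem coprime_lin (a b : F) (h : a ≠ b) : IsCoprime (X - C a) (X - C b : F[X]) :=
  isCoprime_X_sub_C_of_isUnit_sub (sub_ne_zero.mpr h).isUnit

theorem lin_dvd (a e : F) (k : ℕ) (h : a ^ k = e) : (X - C a : F[X]) ∣ X ^ k - C e := by
  rw [dvd_iff_isRoot, IsRoot, eval_sub, eval_pow, eval_X, eval_C, h, sub_self]

/-- three distinct roots -/
theorem split_distinct (a b c : F) (hab : a ≠ b) (hac : a ≠ c) (hbc : b ≠ c) (ha : a ≠ 0)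
    (hb : b ≠ 0) (hc : c ≠ 0) :
    (X - C a) * ((X - C b) * (X - C c)) ∣ (X ^ (Q - 1) - C 1 : F[X]) := by
  have h1 := lin_dvd a 1 (Q - 1) (pow_card_sub_one_eq a ha)
  have h2 := lin_dvd b 1 (Q - 1) (pow_card_sub_one_eq b hb)
  have h3 := lin_dvd c 1 (Q - 1) (pow_card_sub_one_eq c hc)
  have hbc' := (coprime_lin b c hbc).mul_dvd h2 h3
  exact (IsCoprime.mul_right (coprime_lin a b hab) (coprime_lin a c hac)).mul_dvd h1 hbc'

theorem pow_char_dvd {p : ℕ} [Fact p.Prime] [CharP F p] (a : F) (m : ℕ) :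
    (X - C a : F[X]) ^ p ∣ X ^ (p * m) - C (a ^ (p * m)) := by
  have h1 : (X ^ (p * m) - C (a ^ (p * m)) : F[X]) = (X ^ m - C (a ^ m)) ^ p := by
    rw [sub_pow_char, ← pow_mul, ← C_pow, ← pow_mul, mul_comm]
  rw [h1]
  exact pow_dvd_pow_of_dvd (lin_dvd a _ m rfl) p

theorem three_mul_div_gcd (n : ℕ) : n ∣ 3 * (n / Nat.gcd 3 n) := by
  rcases gcd_three_cases' n with ⟨hd, _⟩ | ⟨hd, t, ht⟩
  · rw [hd, Nat.div_one]
    exact dvd_mul_left _ _
  · rw [hd, ht, Nat.mul_div_cancel_left _ (by norm_num)]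

/-- a repeated root -/
theorem split_double {p : ℕ} [Fact p.Prime] [CharP F p] (a c : F) (hac : a * a * c = 1)
    (h : c ≠ a ∨ p ≠ 2) :
    ∃ e : F, (X - C a) ^ 2 * (X - C c) ∣
      (X ^ (p * (Q - 1) / Nat.gcd 3 (Q - 1)) - C e : F[X]) := by
  have hp2 : 2 ≤ p := (Fact.out : p.Prime).two_le
  have ha0 : a ≠ 0 := by
    rintro rfl
    rw [zero_mul, zero_mul] at hac
    exact zero_ne_one hac
  rw [Nat.mul_div_assoc p (Nat.gcd_dvd_right 3 (Q - 1))]
  obtain ⟨m, hm⟩ : ∃ m, m = (Q - 1) / Nat.gcd 3 (Q - 1) := ⟨_, rfl⟩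
  rw [← hm]
  refine ⟨a ^ (p * m), ?_⟩
  have hmain := pow_char_dvd (p := p) a m
  by_cases hca : c = a
  · have hp3 : 3 ≤ p := by
      rcases h with h | h
      · exact absurd hca h
      · omega
    rw [hca]
    have : (X - C a : F[X]) ^ 2 * (X - C a) = (X - C a) ^ 3 := by ring
    rw [this]
    exact dvd_trans (pow_dvd_pow _ hp3) hmain
  · have h3m : a ^ (3 * m) = 1 := by
      obtain ⟨r, hr⟩ := three_mul_div_gcd (Q - 1)
      rw [← hm] at hr
      rw [hr, pow_mul, pow_card_sub_one_eq a ha0, one_pow]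
    have hcK : c ^ (p * m) = a ^ (p * m) := by
      have h5 : a ^ (3 * (p * m)) = 1 := by
        have : 3 * (p * m) = (3 * m) * p := by ring
        rw [this, pow_mul, h3m, one_pow]
      calc c ^ (p * m) = c ^ (p * m) * a ^ (3 * (p * m)) := by rw [h5, mul_one]
        _ = (a * a * c) ^ (p * m) * a ^ (p * m) := by ring
        _ = a ^ (p * m) := by rw [hac, one_pow, one_mul]
    have hcop : IsCoprime ((X - C a : F[X]) ^ 2) (X - C c) :=
      (coprime_lin a c (Ne.symm hca)).pow_left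
    exact hcop.mul_dvd (dvd_trans (pow_dvd_pow _ hp2) hmain) (lin_dvd c _ _ hcK)

theorem split_triple_two [CharP F 2] (a : F) :
    (X - C a : F[X]) ^ 2 * (X - C a) ∣ X ^ 4 - C (a ^ 4) := by
  haveI : Fact (Nat.Prime 2) := ⟨Nat.prime_two⟩
  have h1 := pow_char_dvd (p := 2) a 1
  have h2 := pow_char_dvd (p := 2) (a ^ 2) 1
  have e1 : (X ^ 4 - C (a ^ 4) : F[X]) = (X ^ 2 - C (a ^ 2)) ^ 2 := by
    rw [sub_pow_char, ← pow_mul, ← C_pow, ← pow_mul]
  have e2 : (X ^ 2 - C (a ^ 2) : F[X]) = (X - C a) ^ 2 := by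
    rw [sub_pow_char, ← C_pow]
  rw [e1, e2]
  exact ⟨X - C a, by ring⟩

end split

section t1

variable {F : Type*} [Field F] [Fintype F]

local notation "Q" => Fintype.card F

theorem split_two_equal {p : ℕ} [Fact p.Prime] [CharP F p] (x y : F) (hxy : x * x * y = 1) :
    (∃ e : F, (X - C x) ^ 2 * (X - C y) ∣
      (X ^ (p * (Q - 1) / Nat.gcd 3 (Q - 1)) - C e : F[X])) ∨
    (p = 2 ∧ ∃ e : F, (X - C x) ^ 2 * (X - C y) ∣ (X ^ 4 - C e : F[X])) := by
  by_cases h : y ≠ x ∨ p ≠ 2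
  · left
    exact split_double x y hxy h
  · right
    push Not at h
    obtain ⟨hyx, hp2⟩ := h
    subst hp2
    subst hyx
    exact ⟨rfl, y ^ 4, split_triple_two y⟩

/-- factorisation of a reducible monic cubic -/
theorem exists_root_factor (χ : F[X]) (hm : χ.Monic) (hd : 2 ≤ χ.natDegree) (hd3 : χ.natDegree ≤ 3)
    (hirr : ¬ Irreducible χ) :
    ∃ (a : F) (g : F[X]), g.Monic ∧ g.natDegree + 1 = χ.natDegree ∧ χ = (X - C a) * g := by
  have h1 : χ.roots ≠ 0 := by
    intro h0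
    apply hirr
    rw [Polynomial.irreducible_iff_roots_eq_zero_of_degree_le_three hd hd3]
    exact h0
  obtain ⟨a, ha⟩ := Multiset.exists_mem_of_ne_zero h1
  rw [Polynomial.mem_roots hm.ne_zero] at ha
  have hfac := (mul_divByMonic_eq_iff_isRoot (p := χ)).mpr ha
  refine ⟨a, χ /ₘ (X - C a), ?_, ?_, hfac.symm⟩
  · have h2 : (X - C a) * (χ /ₘ (X - C a)) = χ := hfac
    have hmon := hm
    rw [← h2] at hmon
    exact (monic_X_sub_C a).of_mul_monic_left hmon
  · rw [natDegree_divByMonic _ (monic_X_sub_C a), natDegree_X_sub_C]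
    omega

theorem poly_T1 {p : ℕ} [Fact p.Prime] [CharP F p] (χ : F[X]) (hm : χ.Monic)
    (h3 : χ.natDegree = 3) (h0 : χ.coeff 0 = -1) :
    (∃ e : F, χ ∣ X ^ ((Q ^ 2 + Q + 1) / Nat.gcd 3 (Q - 1)) - C e) ∨
    (∃ e : F, χ ∣ X ^ ((Q ^ 2 - 1) / Nat.gcd 3 (Q - 1)) - C e) ∨
    (∃ e : F, χ ∣ X ^ (Q - 1) - C e) ∨
    (∃ e : F, χ ∣ X ^ (p * (Q - 1) / Nat.gcd 3 (Q - 1)) - C e) ∨
    (p = 2 ∧ ∃ e : F, χ ∣ X ^ 4 - C e) := by
  by_cases hirr : Irreducible χ
  · left
    exact irr_case χ hm h3 h0 hirr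
  · obtain ⟨a, g, hgm, hgd, hχ⟩ := exists_root_factor χ hm (by omega) (by omega) hirr
    have hg2 : g.natDegree = 2 := by omega
    have hag : a * g.coeff 0 = 1 := by
      rw [hχ, mul_coeff_zero, coeff_sub, coeff_X_zero, coeff_C_zero] at h0
      linear_combination (-1 : F) * h0
    by_cases hirr2 : Irreducible g
    · right; left
      rw [hχ]
      exact quad_case a g hgm hg2 hirr2 hag
    · obtain ⟨b, h, hhm, hhd, hg⟩ := exists_root_factor g hgm (by omega) (by omega) hirr2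
      have hh1 : h.natDegree = 1 := by omega
      have hh := hhm.eq_X_add_C hh1
      obtain ⟨c, hc⟩ : ∃ c, c = -h.coeff 0 := ⟨_, rfl⟩
      have hh' : h = X - C c := by
        rw [hh, hc, C_neg, sub_neg_eq_add]
      have habc : a * b * c = 1 := by
        rw [hg, mul_coeff_zero, coeff_sub, coeff_X_zero, coeff_C_zero] at hag
        rw [hc]
        linear_combination hag
      rw [hχ, hg, hh']
      have ha0 : a ≠ 0 := by
        rintro rfl
        rw [zero_mul, zero_mul] at habc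
        exact zero_ne_one habc
      have hb0 : b ≠ 0 := by
        rintro rfl
        rw [mul_zero, zero_mul] at habc
        exact zero_ne_one habc
      have hc0 : c ≠ 0 := by
        rintro rfl
        rw [mul_zero] at habc
        exact zero_ne_one habc
      by_cases hab : a = b
      · subst hab
        have e1 : (X - C a : F[X]) * ((X - C a) * (X - C c)) = (X - C a) ^ 2 * (X - C c) := by
          ring
        rw [e1]
        rcases split_two_equal (p := p) a c habc with h | h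
        · right; right; right; left; exact h
        · right; right; right; right; exact h
      · by_cases hac : a = c
        · subst hac
          have e1 : (X - C a : F[X]) * ((X - C b) * (X - C a)) = (X - C a) ^ 2 * (X - C b) := by
            ring
          rw [e1]
          rcases split_two_equal (p := p) a b (by linear_combination habc) with h | h
          · right; right; right; left; exact h
          · right; right; right; right; exact h
        · by_cases hbc : b = c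
          · subst hbc
            have e1 : (X - C a : F[X]) * ((X - C b) * (X - C b)) = (X - C b) ^ 2 * (X - C a) := by
              ring
            rw [e1]
            rcases split_two_equal (p := p) b a (by linear_combination habc) with h | h
            · right; right; right; left; exact h
            · right; right; right; right; exact h
          · right; right; left
            exact ⟨1, split_distinct a b c hab hac hbc ha0 hb0 hc0⟩

/-- **upper bound for the spectrum of `PSL_3`** -/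
theorem pow_scalar {p : ℕ} [Fact p.Prime] [CharP F p] (M : Matrix (Fin 3) (Fin 3) F)
    (hdet : M.det = 1) :
    (∃ e : F, M ^ ((Q ^ 2 + Q + 1) / Nat.gcd 3 (Q - 1)) = e • (1 : Matrix (Fin 3) (Fin 3) F)) ∨
    (∃ e : F, M ^ ((Q ^ 2 - 1) / Nat.gcd 3 (Q - 1)) = e • (1 : Matrix (Fin 3) (Fin 3) F)) ∨
    (∃ e : F, M ^ (Q - 1) = e • (1 : Matrix (Fin 3) (Fin 3) F)) ∨
    (∃ e : F, M ^ (p * (Q - 1) / Nat.gcd 3 (Q - 1)) = e • (1 : Matrix (Fin 3) (Fin 3) F)) ∨
    (p = 2 ∧ ∃ e : F, M ^ 4 = e • (1 : Matrix (Fin 3) (Fin 3) F)) := by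
  have hm : M.charpoly.Monic := Matrix.charpoly_monic M
  have h3 : M.charpoly.natDegree = 3 := by
    rw [Matrix.charpoly_natDegree_eq_dim, Fintype.card_fin]
  have h0 : M.charpoly.coeff 0 = -1 := by
    have := Matrix.det_eq_sign_charpoly_coeff M
    rw [hdet, Fintype.card_fin] at this
    have h : (-1 : F) ^ 3 = -1 := by norm_num
    rw [h] at this
    linear_combination this
  rcases poly_T1 (p := p) M.charpoly hm h3 h0 with ⟨e, h⟩ | ⟨e, h⟩ | ⟨e, h⟩ | ⟨e, h⟩ | ⟨hp, e, h⟩
  · left; exact ⟨e, pow_eq_smul_of_dvd M _ e h⟩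
  · right; left; exact ⟨e, pow_eq_smul_of_dvd M _ e h⟩
  · right; right; left; exact ⟨e, pow_eq_smul_of_dvd M _ e h⟩
  · right; right; right; left; exact ⟨e, pow_eq_smul_of_dvd M _ e h⟩
  · right; right; right; right; exact ⟨hp, e, pow_eq_smul_of_dvd M _ e h⟩

end t1

end Cfsg.Agent.Lib.Helper9.SL3SpecA
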