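import Mathlib
import Cfsg.Agent.Lib.Helper9.SU3SpecC
import Cfsg.Agent.Lib.Helper9.SL3SpecA
import Cfsg.Agent.Lib.Helper9.SU3SpecD

set_option autoImplicit false
set_option linter.unusedSectionVars false
set_option linter.unusedVariables false
set_option linter.style.haveILetI false

namespace Cfsg.Agent.Lib.Helper9.SL3SpecB

open Matrix Finset Cfsg.Agent.Lib.Helper9.SL3SpecA

section arith

theorem arith_pn {p : ℕ} (hp : p.Prime) (n k : ℕ) (hcop : Nat.Coprime p n) :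
    (p ∣ k ∧ n ∣ 3 * k) ↔ (p * n / Nat.gcd 3 n) ∣ k := by
  have hdvd : Nat.gcd 3 n ∣ n := Nat.gcd_dvd_right _ _
  rw [Nat.mul_div_assoc p hdvd]
  have key : n ∣ 3 * k ↔ (n / Nat.gcd 3 n) ∣ k := by
    rcases gcd_three_cases' n with ⟨hd1, h3⟩ | ⟨hd3, m, hm⟩
    · rw [hd1, Nat.div_one]
      have hc3 : Nat.Coprime n 3 :=
        ((Nat.Prime.coprime_iff_not_dvd Nat.prime_three).mpr h3).symm
      constructor
      · intro h
        rw [mul_comm] at h
        exact hc3.dvd_of_dvd_mul_right h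
      · intro h
        exact Dvd.dvd.mul_left h _
    · rw [hd3, hm, Nat.mul_div_cancel_left _ (by norm_num)]
      exact Nat.mul_dvd_mul_iff_left (by norm_num)
  rw [key]
  have hcop' : Nat.Coprime p (n / Nat.gcd 3 n) :=
    Nat.Coprime.coprime_dvd_right (Nat.div_dvd_of_dvd hdvd) hcop
  constructor
  · rintro ⟨h1, h2⟩
    exact hcop'.mul_dvd_of_dvd_of_dvd h1 h2
  · intro h
    exact ⟨dvd_trans (dvd_mul_right _ _) h, dvd_trans (dvd_mul_left _ _) h⟩

/-- if `gcd N m = gcd 3 m`-type situation: `N ∣ k * m ↔ N / gcd N m ∣ k` -/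
theorem dvd_mul_iff_div_gcd (N m k : ℕ) (hm : 0 < m) :
    N ∣ k * m ↔ (N / Nat.gcd N m) ∣ k := by
  have hgpos : 0 < Nat.gcd N m := Nat.gcd_pos_of_pos_right _ hm
  have hc2 := Nat.coprime_div_gcd_div_gcd hgpos
  obtain ⟨N', hN1⟩ := Nat.gcd_dvd_left N m
  obtain ⟨m', hm1⟩ := Nat.gcd_dvd_right N m
  obtain ⟨g, hgdef⟩ : ∃ g, g = Nat.gcd N m := ⟨_, rfl⟩
  rw [← hgdef] at hgpos hc2 hN1 hm1 ⊢
  have e1 : N / g = N' := by
    rw [hN1]
    exact Nat.mul_div_cancel_left _ hgpos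
  have e2 : m / g = m' := by
    rw [hm1]
    exact Nat.mul_div_cancel_left _ hgpos
  rw [e1, e2] at hc2
  rw [e1, hm1, hN1]
  constructor
  · intro h
    have h2 : g * N' ∣ g * (k * m') := by
      have : g * (k * m') = k * (g * m') := by ring
      rw [this]
      exact h
    have h3 := Nat.dvd_of_mul_dvd_mul_left hgpos h2
    exact hc2.dvd_of_dvd_mul_right h3
  · intro h
    obtain ⟨k', rfl⟩ := h
    exact ⟨k' * m', by ring⟩

theorem arith_S (Q k : ℕ) (hQ : 2 ≤ Q) :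
    (Q ^ 2 + Q + 1) ∣ k * (Q - 1) ↔ ((Q ^ 2 + Q + 1) / Nat.gcd 3 (Q - 1)) ∣ k := by
  obtain ⟨r, rfl⟩ : ∃ r, Q = r + 1 := ⟨Q - 1, by omega⟩
  have hg : Nat.gcd ((r + 1) ^ 2 + (r + 1) + 1) (r + 1 - 1) = Nat.gcd 3 (r + 1 - 1) := by
    have e : (r + 1) ^ 2 + (r + 1) + 1 = 3 + (r + 3) * r := by ring
    rw [e]
    simp only [Nat.add_sub_cancel]
    rw [Nat.gcd_add_mul_right_left]
  rw [dvd_mul_iff_div_gcd _ _ _ (by simp; omega), hg]

theorem arith_T (Q k : ℕ) (hQ : 2 ≤ Q) :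
    ((Q ^ 2 - 1) ∣ (Q - 1) * k ∧ (Q ^ 2 - 1) ∣ (Q + 2) * k) ↔
      ((Q ^ 2 - 1) / Nat.gcd 3 (Q - 1)) ∣ k := by
  obtain ⟨n, hn⟩ : ∃ n, n = Q ^ 2 - 1 := ⟨_, rfl⟩
  have hn' : n = (Q - 1) * (Q + 1) := by rw [hn]; exact sq_sub_one' Q (by omega)
  rw [← hn]
  have hd : Nat.gcd 3 (Q - 1) ∣ n := by
    rw [hn']
    exact Dvd.dvd.mul_right (Nat.gcd_dvd_right _ _) _
  have hdpos : 0 < Nat.gcd 3 (Q - 1) := Nat.gcd_pos_of_pos_left _ (by norm_num)
  constructor
  · rintro ⟨h1, h2⟩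
    have h3 : n ∣ 3 * k := by
      have := Nat.dvd_sub h2 h1
      have e : (Q + 2) * k - (Q - 1) * k = 3 * k := by
        rw [← Nat.sub_mul]
        congr 1
        omega
      rwa [e] at this
    have h4 : n ∣ Nat.gcd 3 (Q - 1) * k := by
      rw [← Nat.gcd_mul_right]
      exact Nat.dvd_gcd h3 h1
    obtain ⟨n', hn''⟩ := hd
    rw [hn'', Nat.mul_div_cancel_left _ hdpos]
    rw [hn''] at h4
    exact Nat.dvd_of_mul_dvd_mul_left hdpos h4
  · intro h
    rcases gcd_three_cases' (Q - 1) with ⟨hd1, _⟩ | ⟨hd3, m, hm⟩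
    · rw [hd1, Nat.div_one] at h
      exact ⟨Dvd.dvd.mul_left h _, Dvd.dvd.mul_left h _⟩
    · rw [hd3] at h
      have hn3 : n = 3 * (m * (Q + 1)) := by rw [hn', hm]; ring
      rw [hn3, Nat.mul_div_cancel_left _ (by norm_num)] at h
      obtain ⟨k', rfl⟩ := h
      have hq2 : Q + 2 = 3 * (m + 1) := by omega
      constructor
      · rw [hn3, hm]
        exact ⟨m * k', by ring⟩
      · rw [hn3, hq2]
        exact ⟨(m + 1) * k', by ring⟩

end arith

section alg

variable {F : Type*} [Field F] [Fintype F] [DecidableEq F]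

local notation "Q" => Fintype.card F

/-- matrices from a rank-3 commutative algebra -/
theorem exists_of_algebra (E : Type*) [CommRing E] [Algebra F E] (b : Module.Basis (Fin 3) F E)
    (x xi : E) (hnorm : Algebra.norm F x = 1) (K : ℕ)
    (hK : ∀ k : ℕ, (∃ e : F, x ^ k = algebraMap F E e) ↔ K ∣ k) :
    ∃ M : Matrix (Fin 3) (Fin 3) F, M.det = 1 ∧
      ∀ k : ℕ, (∃ e : F, M ^ k = e • (1 : Matrix (Fin 3) (Fin 3) F)) ↔ K ∣ k := by
  refine ⟨Algebra.leftMulMatrix b x, ?_, ?_⟩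
  · rw [← Algebra.norm_eq_matrix_det b x, hnorm]
  · intro k
    rw [← hK k]
    constructor
    · rintro ⟨a, ha⟩
      refine ⟨a, ?_⟩
      apply Algebra.leftMulMatrix_injective b
      rw [map_pow, ha, AlgHom.commutes, Algebra.algebraMap_eq_smul_one]
    · rintro ⟨a, ha⟩
      refine ⟨a, ?_⟩
      rw [← map_pow, ha, AlgHom.commutes, Algebra.algebraMap_eq_smul_one]

/-- membership in the base field via the Frobenius, as a power condition -/
theorem pow_mem_base_iff {L : Type*} [Field L] [Algebra F L] (c : L) (hc : c ≠ 0) (k : ℕ) :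
    (∃ e : F, c ^ k = algebraMap F L e) ↔ c ^ (k * (Q - 1)) = 1 := by
  have hQ1 : 1 < Q := Fintype.one_lt_card
  have e2 : (∃ a : F, c ^ k = algebraMap F L a) ↔ (c ^ k) ^ Q = c ^ k := by
    constructor
    · rintro ⟨a, ha⟩
      rw [ha, ← map_pow, FiniteField.pow_card]
    · intro h
      obtain ⟨a, ha⟩ := SU3SpecC.mem_range_of_pow_card_eq (F := F) _ h
      exact ⟨a, ha.symm⟩
  rw [e2]
  obtain ⟨r, hr⟩ : ∃ r, Q = r + 1 := ⟨Q - 1, by omega⟩
  have hr' : Q - 1 = r := by omega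
  rw [hr', hr]
  have e3 : (c ^ k) ^ (r + 1) = c ^ (k * r) * c ^ k := by ring
  rw [e3]
  constructor
  · intro h
    have h' : c ^ (k * r) * c ^ k = 1 * c ^ k := by rw [one_mul]; exact h
    exact mul_right_cancel₀ (pow_ne_zero _ hc) h'
  · intro h
    rw [h, one_mul]

theorem card_ext {L : Type*} [Field L] [Algebra F L] [Fintype L] (n : ℕ)
    (hL : Module.finrank F L = n) : Fintype.card L = Q ^ n := by
  have := @Module.natCard_eq_pow_finrank F L _ _ _ _
  rw [Nat.card_eq_fintype_card, Nat.card_eq_fintype_card, hL] at this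
  exact this

/-- the Singer element of `SL_3` -/
theorem exists_singer (L : Type*) [Field L] [Algebra F L] [Finite L]
    (hL : Module.finrank F L = 3) :
    ∃ M : Matrix (Fin 3) (Fin 3) F, M.det = 1 ∧
      ∀ k : ℕ, (∃ e : F, M ^ k = e • (1 : Matrix (Fin 3) (Fin 3) F)) ↔
        ((Q ^ 2 + Q + 1) / Nat.gcd 3 (Q - 1)) ∣ k := by
  have hQ1 : 1 < Q := Fintype.one_lt_card
  haveI : Fintype L := Fintype.ofFinite L
  have hcard := card_ext (F := F) (L := L) 3 hL
  have hNdvd : (Q ^ 2 + Q + 1) ∣ Fintype.card L - 1 := by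
    obtain ⟨r, hr⟩ : ∃ r, Q = r + 1 := ⟨Q - 1, by omega⟩
    rw [hcard, hr]
    refine ⟨r, ?_⟩
    have : (r + 1) ^ 3 = ((r + 1) ^ 2 + (r + 1) + 1) * r + 1 := by ring
    rw [this]
    simp
  obtain ⟨c, hc⟩ := SU3SpecD.exists_orderOf_eq (K := L) _ hNdvd
  have hcN : c ^ (Q ^ 2 + Q + 1) = 1 := by
    rw [← hc]
    exact pow_orderOf_eq_one c
  have hc0 : c ≠ 0 := by
    rintro rfl
    rw [zero_pow (by positivity)] at hcN
    exact zero_ne_one hcN
  obtain ⟨b⟩ : Nonempty (Module.Basis (Fin 3) F L) := ⟨Module.finBasisOfFinrankEq F L hL⟩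
  refine exists_of_algebra L b c c⁻¹ ?_ _ ?_
  · apply (algebraMap F L).injective
    rw [FiniteField.algebraMap_norm_eq_pow_sum, hL, map_one, Nat.card_eq_fintype_card]
    have h4 : ∑ i ∈ Finset.range 3, Q ^ i = Q ^ 2 + Q + 1 := by
      rw [Finset.sum_range_succ, Finset.sum_range_succ, Finset.sum_range_one]
      ring
    rw [h4, hcN]
  · intro k
    rw [pow_mem_base_iff c hc0, ← arith_S Q k (by omega), ← hc, orderOf_dvd_iff_pow_eq_one]

end alg

section quad

variable {F : Type*} [Field F] [Fintype F] [DecidableEq F]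

local notation "Q" => Fintype.card F

theorem norm_prod_eq {K₂ : Type*} [Field K₂] [Algebra F K₂] [Module.Finite F K₂] (t : K₂)
    (s : F) : Algebra.norm F ((t, s) : K₂ × F) = Algebra.norm F t * s := by
  rw [Algebra.norm_apply, Algebra.norm_apply]
  have h1 : Algebra.lmul F (K₂ × F) (t, s) =
      LinearMap.prodMap (Algebra.lmul F K₂ t) (Algebra.lmul F F s) := by
    apply LinearMap.ext
    rintro ⟨u, v⟩
    rfl
  rw [h1, LinearMap.det_prodMap]
  congr 1
  have h2 : Algebra.lmul F F s = LinearMap.mulLeft F s := rfl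
  rw [h2, LinearMap.det_mulLeft]

/-- the element of order `(Q ^ 2 - 1) / d` of `SL_3` -/
theorem exists_quad (K₂ : Type*) [Field K₂] [Algebra F K₂] [Finite K₂]
    (hK₂ : Module.finrank F K₂ = 2) :
    ∃ M : Matrix (Fin 3) (Fin 3) F, M.det = 1 ∧
      ∀ k : ℕ, (∃ e : F, M ^ k = e • (1 : Matrix (Fin 3) (Fin 3) F)) ↔
        ((Q ^ 2 - 1) / Nat.gcd 3 (Q - 1)) ∣ k := by
  have hQ1 : 1 < Q := Fintype.one_lt_card
  haveI : Fintype K₂ := Fintype.ofFinite K₂
  have hcard := card_ext (F := F) (L := K₂) 2 hK₂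
  obtain ⟨t, ht⟩ := SU3SpecD.exists_orderOf_eq (K := K₂) (Q ^ 2 - 1) (by rw [hcard])
  have hQQ : 2 ≤ Q ^ 2 := by nlinarith
  have ht1 : t ^ (Q ^ 2 - 1) = 1 := by
    rw [← ht]
    exact pow_orderOf_eq_one t
  have ht0 : t ≠ 0 := by
    rintro rfl
    rw [zero_pow (by omega)] at ht1
    exact zero_ne_one ht1
  obtain ⟨ν, hν⟩ : ∃ ν, ν = Algebra.norm F t := ⟨_, rfl⟩
  have hνt : algebraMap F K₂ ν = t ^ (1 + Q) := by
    rw [hν, FiniteField.algebraMap_norm_eq_pow_sum, hK₂, Nat.card_eq_fintype_card,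
      Finset.sum_range_succ, Finset.sum_range_one, pow_one, pow_zero]
  have hν0 : ν ≠ 0 := by
    rintro rfl
    rw [map_zero] at hνt
    exact pow_ne_zero _ ht0 hνt.symm
  have hfr : Module.finrank F (K₂ × F) = 3 := by
    rw [Module.finrank_prod, hK₂, Module.finrank_self]
  obtain ⟨b⟩ : Nonempty (Module.Basis (Fin 3) F (K₂ × F)) :=
    ⟨Module.finBasisOfFinrankEq F (K₂ × F) hfr⟩
  refine exists_of_algebra (K₂ × F) b (t, ν⁻¹) (t⁻¹, ν) ?_ _ ?_
  · rw [norm_prod_eq, ← hν, mul_inv_cancel₀ hν0]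
  · intro k
    rw [← arith_T Q k (by omega), ← ht, orderOf_dvd_iff_pow_eq_one, orderOf_dvd_iff_pow_eq_one]
    have hsν : algebraMap F K₂ ((ν⁻¹) ^ k) * t ^ ((1 + Q) * k) = 1 := by
      rw [pow_mul, ← hνt, ← map_pow, ← map_mul, ← mul_pow, inv_mul_cancel₀ hν0, one_pow, map_one]
    have e5 : t ^ k * t ^ ((1 + Q) * k) = t ^ ((Q + 2) * k) := by
      rw [← pow_add]
      congr 1
      ring
    constructor
    · rintro ⟨e, he⟩
      rw [Prod.pow_mk, Prod.algebraMap_apply, Prod.mk.injEq] at he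
      obtain ⟨he1, he2⟩ := he
      constructor
      · rw [mul_comm]
        exact (pow_mem_base_iff t ht0 k).mp ⟨e, he1⟩
      · rw [← e5, he1, ← hsν]
        congr 2
        exact he2.symm
    · rintro ⟨h1, h2⟩
      rw [mul_comm] at h1
      obtain ⟨e, he⟩ := (pow_mem_base_iff t ht0 k).mpr h1
      refine ⟨e, ?_⟩
      rw [Prod.pow_mk, Prod.algebraMap_apply, Prod.mk.injEq]
      refine ⟨he, ?_⟩
      have h6 : algebraMap F K₂ ((ν⁻¹) ^ k) = t ^ k := by
        have h7 : algebraMap F K₂ ((ν⁻¹) ^ k) * t ^ ((1 + Q) * k) = t ^ k * t ^ ((1 + Q) * k) := by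
          rw [hsν, e5, h2]
        exact mul_right_cancel₀ (pow_ne_zero _ ht0) h7
      rw [he] at h6
      exact (algebraMap F K₂).injective h6

end quad

section explicit

variable {F : Type*} [Field F] [Fintype F] [DecidableEq F]

local notation "Q" => Fintype.card F

theorem exists_diag :
    ∃ M : Matrix (Fin 3) (Fin 3) F, M.det = 1 ∧
      ∀ k : ℕ, (∃ e : F, M ^ k = e • (1 : Matrix (Fin 3) (Fin 3) F)) ↔ (Q - 1) ∣ k := by
  have hQ1 : 1 < Q := Fintype.one_lt_card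
  obtain ⟨a, ha⟩ := SU3SpecD.exists_orderOf_eq (K := F) (Q - 1) dvd_rfl
  have ha1 : a ^ (Q - 1) = 1 := by
    rw [← ha]
    exact pow_orderOf_eq_one a
  have ha0 : a ≠ 0 := by
    rintro rfl
    rw [zero_pow (by omega)] at ha1
    exact zero_ne_one ha1
  refine ⟨Matrix.diagonal ![a, a⁻¹, 1], ?_, ?_⟩
  · rw [Matrix.det_diagonal, Fin.prod_univ_three]
    show a * a⁻¹ * 1 = 1
    rw [mul_inv_cancel₀ ha0, one_mul]
  · intro k
    rw [Matrix.diagonal_pow, ← ha, orderOf_dvd_iff_pow_eq_one]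
    constructor
    · rintro ⟨c, hc⟩
      have h2 := congrFun (congrFun hc 2) 2
      have h0 := congrFun (congrFun hc 0) 0
      simp only [Matrix.diagonal_apply_eq, Matrix.smul_apply, Matrix.one_apply_eq, smul_eq_mul,
        mul_one, Pi.pow_apply] at h2 h0
      have h2' : (1 : F) ^ k = c := h2
      have h0' : a ^ k = c := h0
      rw [h0', ← h2', one_pow]
    · intro hk
      refine ⟨1, ?_⟩
      rw [one_smul, ← Matrix.diagonal_one]
      congr 1
      funext i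
      fin_cases i
      · exact hk
      · show a⁻¹ ^ k = 1
        rw [inv_pow, hk, inv_one]
      · show (1 : F) ^ k = 1
        exact one_pow k

theorem exists_transv {p : ℕ} [Fact p.Prime] [CharP F p] :
    ∃ M : Matrix (Fin 3) (Fin 3) F, M.det = 1 ∧
      ∀ k : ℕ, (∃ e : F, M ^ k = e • (1 : Matrix (Fin 3) (Fin 3) F)) ↔
        (p * (Q - 1) / Nat.gcd 3 (Q - 1)) ∣ k := by
  have hQ1 : 1 < Q := Fintype.one_lt_card
  obtain ⟨a, ha⟩ := SU3SpecD.exists_orderOf_eq (K := F) (Q - 1) dvd_rfl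
  have ha1 : a ^ (Q - 1) = 1 := by
    rw [← ha]
    exact pow_orderOf_eq_one a
  have ha0 : a ≠ 0 := by
    rintro rfl
    rw [zero_pow (by omega)] at ha1
    exact zero_ne_one ha1
  have ha20 : a ^ 2 ≠ 0 := pow_ne_zero _ ha0
  have hcop : Nat.Coprime p (Q - 1) := by
    rw [Nat.Prime.coprime_iff_not_dvd Fact.out]
    intro h
    obtain ⟨n, hp, hn⟩ := FiniteField.card F p
    have hpQ : p ∣ Q := by
      rw [hn]
      exact dvd_pow_self p n.ne_zero
    have h1 : p ∣ 1 := by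
      have : Q = (Q - 1) + 1 := by omega
      rw [this] at hpQ
      exact (Nat.dvd_add_right h).mp hpQ
    have := Nat.le_of_dvd one_pos h1
    have := hp.one_lt
    omega
  refine ⟨SU3SpecD.TV a 1 (a ^ 2)⁻¹, ?_, ?_⟩
  · rw [SU3SpecD.TV_det, ← pow_two, mul_inv_cancel₀ ha20]
  · intro k
    rw [← arith_pn (Fact.out) (Q - 1) k hcop, SU3SpecD.TV_pow, ← CharP.cast_eq_zero_iff F p k, ← ha,
      orderOf_dvd_iff_pow_eq_one]
    have e3 : a ^ (3 * k) = a ^ k * (a ^ 2) ^ k := by ring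
    constructor
    · rintro ⟨c', hc'⟩
      have h01 := congrFun (congrFun hc' 0) 1
      have h00 := congrFun (congrFun hc' 0) 0
      have h22 := congrFun (congrFun hc' 2) 2
      simp [SU3SpecD.TV] at h01 h00 h22
      constructor
      · rcases h01 with h | h
        · exact absurd h.1 ha0
        · exact h
      · rw [e3, h00, ← h22, inv_mul_cancel₀ (pow_ne_zero _ ha20)]
    · rintro ⟨hk, h3k⟩
      refine ⟨a ^ k, ?_⟩
      have hwk : ((a ^ 2)⁻¹) ^ k = a ^ k := by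
        rw [inv_pow]
        rw [e3] at h3k
        exact (eq_inv_of_mul_eq_one_left h3k).symm
      rw [hk, zero_mul, hwk]
      ext i j
      fin_cases i <;> fin_cases j <;> simp [SU3SpecD.TV]

/-- the regular unipotent matrix -/
def UU (F : Type*) [Field F] : Matrix (Fin 3) (Fin 3) F := !![1, 1, 0; 0, 1, 1; 0, 0, 1]

theorem UU_sq [CharP F 2] : UU F ^ 2 = !![1, 0, 1; 0, 1, 0; 0, 0, 1] := by
  have h2 : (1 : F) + 1 = 0 := CharTwo.add_self_eq_zero 1
  rw [pow_two]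
  ext i j
  fin_cases i <;> fin_cases j <;> simp [UU, Matrix.mul_apply, Fin.sum_univ_three, h2]

theorem UU_four [CharP F 2] : UU F ^ 4 = 1 := by
  have h2 : (1 : F) + 1 = 0 := CharTwo.add_self_eq_zero 1
  have : UU F ^ 4 = UU F ^ 2 * UU F ^ 2 := by rw [← pow_add]
  rw [this, UU_sq]
  ext i j
  fin_cases i <;> fin_cases j <;> simp [Matrix.mul_apply, Fin.sum_univ_three, h2]

theorem exists_unip [CharP F 2] :
    ∃ M : Matrix (Fin 3) (Fin 3) F, M.det = 1 ∧
      ∀ k : ℕ, (∃ e : F, M ^ k = e • (1 : Matrix (Fin 3) (Fin 3) F)) ↔ 4 ∣ k := by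
  refine ⟨UU F, ?_, ?_⟩
  · rw [Matrix.det_fin_three]
    simp [UU]
  · intro k
    constructor
    · rintro ⟨e, he⟩
      have hk : k = 4 * (k / 4) + k % 4 := (Nat.div_add_mod k 4).symm
      rw [hk, pow_add, pow_mul, UU_four, one_pow, one_mul] at he
      have hr : k % 4 < 4 := Nat.mod_lt _ (by norm_num)
      rcases (by omega : k % 4 = 0 ∨ k % 4 = 1 ∨ k % 4 = 2 ∨ k % 4 = 3) with h | h | h | h
      · exact Nat.dvd_of_mod_eq_zero h
      · exfalso
        rw [h, pow_one] at he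
        have := congrFun (congrFun he 0) 1
        simp [UU] at this
      · exfalso
        rw [h, UU_sq] at he
        have := congrFun (congrFun he 0) 2
        simp at this
      · exfalso
        have h3 : UU F ^ 3 = UU F ^ 2 * UU F := by rw [pow_succ]
        rw [h, h3, UU_sq] at he
        have := congrFun (congrFun he 0) 1
        simp [UU, Matrix.mul_apply, Fin.sum_univ_three] at this
    · rintro ⟨m, rfl⟩
      exact ⟨1, by rw [pow_mul, UU_four, one_pow, one_smul]⟩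

end explicit

end Cfsg.Agent.Lib.Helper9.SL3SpecB
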