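import Mathlib
import Cfsg.Agent.Lib.Helper9.SU3Invol

/-!
helper9: the commuting involution graph of `SU_3(q)`, `q` odd: neighbours, distance two and three.
-/

set_option autoImplicit false
set_option linter.unusedSectionVars false
set_option linter.unusedVariables false
set_option linter.style.haveILetI false

namespace Cfsg.Agent.Lib.Helper9.SU3Graph

open Cfsg.Agent.Lib.Helper14 Cfsg.Agent.Lib.Helper9.SU3Local Cfsg.Agent.Lib.Helper9.SU3Invol
  Matrix Finset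

section cnt

variable {F : Type*} [Field F] [Fintype F] [DecidableEq F] {q : ℕ}

local notation "hh" => Cfsg.hermForm 3 F q

/-- counting involutions with a property through unit vectors -/
theorem card_invol_pred_mul (hq : Odd q) (hF : Fintype.card F = q ^ 2)
    (P : ↥(Cfsg.SU 3 F q) → Prop) :
    Nat.card {x : ↥(Cfsg.SU 3 F q) // x ≠ 1 ∧ x * x = 1 ∧ P x} * (q + 1) =
      Nat.card {v : {v : Fin 3 → F // hh v v = 1} // P (refl q hF v.1 v.2)} := by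
  symm
  apply card_eq_mul_of_fibers
    (fun v : {v : {v : Fin 3 → F // hh v v = 1} // P (refl q hF v.1 v.2)} =>
    (⟨refl q hF v.1.1 v.1.2, refl_ne_one hq hF v.1.1 v.1.2, refl_mul_self hF v.1.1 v.1.2, v.2⟩ :
      {x : ↥(Cfsg.SU 3 F q) // x ≠ 1 ∧ x * x = 1 ∧ P x}))
  rintro ⟨x, hx1, hx2, hPx⟩
  obtain ⟨v₀, hv₀, rfl⟩ := exists_refl hq hF x hx1 hx2
  rw [← card_refl_fiber hq hF v₀ hv₀]
  apply Nat.card_congr
  refine
    { toFun := fun v => ⟨v.1.1, congrArg Subtype.val v.2⟩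
      invFun := fun v => ⟨⟨v.1, by rw [v.2]; exact hPx⟩, Subtype.ext v.2⟩
      left_inv := fun v => rfl
      right_inv := fun v => rfl }

theorem sq_sub_one (q : ℕ) (hq : 1 ≤ q) : q ^ 2 - 1 = (q - 1) * (q + 1) := by
  obtain ⟨r, rfl⟩ : ∃ r, q = r + 1 := ⟨q - 1, by omega⟩
  simp only [Nat.add_sub_cancel]
  have : (r + 1) ^ 2 = r * (r + 1 + 1) + 1 := by ring
  rw [this, Nat.add_sub_cancel]

/-- involutions commuting with a given involution -/
theorem card_commuting (hq : Odd q) (hF : Fintype.card F = q ^ 2) (t : ↥(Cfsg.SU 3 F q))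
    (ht : t ≠ 1) (ht2 : t * t = 1) :
    Nat.card {x : ↥(Cfsg.SU 3 F q) // x ≠ 1 ∧ x * x = 1 ∧ x ≠ t ∧ Commute t x} = q * (q - 1) := by
  have hq2 := herm_two_le hF
  obtain ⟨v₀, hv₀, rfl⟩ := exists_refl hq hF t ht ht2
  have h1 := card_invol_pred_mul hq hF (fun x => x ≠ refl q hF v₀ hv₀ ∧ Commute (refl q hF v₀ hv₀) x)
  have hO : OrthoN F q (1 + 2) 1 (fun _ => v₀) := by
    intro i j
    rw [if_pos (Subsingleton.elim i j)]
    exact hv₀
  have h2 := perpCount_one hF hO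
  rw [hermAB_snd_succ hq2 1] at h2
  have e1 : ¬ Even 1 := by decide
  simp only [e1, if_false, pow_one] at h2
  have h3 : Nat.card {v : {v : Fin 3 → F // hh v v = 1} //
      refl q hF v.1 v.2 ≠ refl q hF v₀ hv₀ ∧ Commute (refl q hF v₀ hv₀) (refl q hF v.1 v.2)} =
      perpCount F q (1 + 2) (fun _ : Fin 1 => v₀) 1 := by
    unfold perpCount
    apply Nat.card_congr
    refine
      { toFun := fun v => ⟨v.1.1, ?_, v.1.2⟩
        invFun := fun w => ⟨⟨w.1, w.2.2⟩, ?_, ?_⟩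
        left_inv := fun v => rfl
        right_inv := fun v => rfl }
    · intro i
      exact perp_of_commute_ne hq hF v₀ v.1.1 hv₀ v.1.2 v.2.2 (Ne.symm v.2.1)
    · intro h
      obtain ⟨l, hl, hl2⟩ := (refl_eq_iff hq hF v₀ w.1 hv₀ w.2.2).mp h.symm
      have h5 := w.2.1 0
      have h5' : hh w.1 v₀ = 0 := h5
      rw [hl2, hermForm_smul_left, hv₀, mul_one] at h5'
      rw [h5', zero_mul] at hl
      exact zero_ne_one hl
    · apply (refl_commute_iff hq hF v₀ w.1 hv₀ w.2.2).mpr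
      left
      exact w.2.1 0
  rw [h3, h2, sq_sub_one q (by omega)] at h1
  have h4 : q * ((q - 1) * (q + 1)) = q * (q - 1) * (q + 1) := by ring
  rw [h4] at h1
  exact Nat.eq_of_mul_eq_mul_right (by omega) h1

end cnt

section dist

variable {F : Type*} [Field F] [Fintype F] [DecidableEq F] {q : ℕ}

local notation "hh" => Cfsg.hermForm 3 F q

/-- the component of `v` perpendicular to `v₀` -/
def pr (q : ℕ) (v₀ v : Fin 3 → F) : Fin 3 → F := v - Cfsg.hermForm 3 F q v v₀ • v₀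

theorem pr_perp (v₀ v : Fin 3 → F) (hv₀ : hh v₀ v₀ = 1) : hh (pr q v₀ v) v₀ = 0 := by
  unfold pr
  rw [hermForm_sub_left, hermForm_smul_left, hv₀, mul_one, sub_self]

theorem pr_add (v₀ v : Fin 3 → F) : v = hh v v₀ • v₀ + pr q v₀ v := by
  unfold pr
  abel

theorem pr_norm (hF : Fintype.card F = q ^ 2) (v₀ v : Fin 3 → F) (hv₀ : hh v₀ v₀ = 1) :
    hh v v = hh v v₀ * (hh v v₀) ^ q + hh (pr q v₀ v) (pr q v₀ v) := by
  have h1 := pr_perp (q := q) v₀ v hv₀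
  have h2 := hermForm_eq_zero_symm hF _ _ h1
  conv_lhs => rw [pr_add (q := q) v₀ v]
  rw [hermForm_add_left, hermForm_add_right hF, hermForm_add_right hF, hermForm_smul_left,
    hermForm_smul_left, hermForm_smul_right, hermForm_smul_right, hv₀, h1, h2]
  ring

theorem pr_eq_zero_iff (v₀ v : Fin 3 → F) (hv₀ : hh v₀ v₀ = 1) :
    pr q v₀ v = 0 ↔ ∃ l : F, v = l • v₀ := by
  constructor
  · intro h
    refine ⟨hh v v₀, ?_⟩
    have := pr_add (q := q) v₀ v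
    rw [h, add_zero] at this
    exact this
  · rintro ⟨l, rfl⟩
    unfold pr
    rw [hermForm_smul_left, hv₀, mul_one, sub_self]

theorem not_commute_iff (hq : Odd q) (hF : Fintype.card F = q ^ 2) (v₀ v : Fin 3 → F)
    (hv₀ : hh v₀ v₀ = 1) (hv : hh v v = 1) :
    ¬ Commute (refl q hF v₀ hv₀) (refl q hF v hv) ↔ hh v v₀ ≠ 0 ∧ pr q v₀ v ≠ 0 := by
  rw [refl_commute_iff hq hF v₀ v hv₀ hv, ← pr_eq_zero_iff v₀ v hv₀]
  tauto

/-- if the perpendicular component is non-isotropic there is a unit vector perpendicular to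
both -/
theorem exists_common_perp (hF : Fintype.card F = q ^ 2) (v₀ v : Fin 3 → F)
    (hv₀ : hh v₀ v₀ = 1) (h : hh (pr q v₀ v) (pr q v₀ v) ≠ 0) :
    ∃ z : Fin 3 → F, hh z z = 1 ∧ hh z v₀ = 0 ∧ hh v z = 0 := by
  obtain ⟨l, hl0, hl⟩ := exists_unit_smul hF _ h
  have h1 : hh (l • pr q v₀ v) v₀ = 0 := by
    rw [hermForm_smul_left, pr_perp v₀ v hv₀, mul_zero]
  obtain ⟨z, hz0, hz1, hzz⟩ := exists_perp_two hF v₀ (l • pr q v₀ v) hv₀ hl h1
  refine ⟨z, hzz, hz0, ?_⟩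
  rw [hermForm_smul_right] at hz1
  have h2 : hh z (pr q v₀ v) = 0 := by
    rcases mul_eq_zero.mp hz1 with h3 | h3
    · exact absurd (pow_eq_zero_iff (by have := herm_two_le hF; omega) |>.mp h3) hl0
    · exact h3
  have h3 := hermForm_eq_zero_symm hF _ _ h2
  have h4 := hermForm_eq_zero_symm hF _ _ hz0
  rw [pr_add (q := q) v₀ v, hermForm_add_left, hermForm_smul_left, h4, h3, mul_zero, add_zero]

theorem dist2_iff (hq : Odd q) (hF : Fintype.card F = q ^ 2) (v₀ v : Fin 3 → F)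
    (hv₀ : hh v₀ v₀ = 1) (hv : hh v v = 1)
    (hnc : ¬ Commute (refl q hF v₀ hv₀) (refl q hF v hv)) :
    (∃ y : ↥(Cfsg.SU 3 F q), y ≠ 1 ∧ y * y = 1 ∧ Commute (refl q hF v₀ hv₀) y ∧
      Commute y (refl q hF v hv)) ↔ hh (pr q v₀ v) (pr q v₀ v) ≠ 0 := by
  constructor
  · rintro ⟨y, hy1, hy2, hty, hyx⟩
    obtain ⟨w, hw, rfl⟩ := exists_refl hq hF y hy1 hy2
    have h1 : hh w v₀ = 0 := by
      apply perp_of_commute_ne hq hF v₀ w hv₀ hw hty
      intro h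
      rw [← h] at hyx
      exact hnc hyx
    have h2 : hh v w = 0 := by
      apply perp_of_commute_ne hq hF w v hw hv hyx
      intro h
      rw [h] at hty
      exact hnc hty
    intro h0
    obtain ⟨z, hzv₀, hzw, hzz⟩ := exists_perp_two hF v₀ w hv₀ hw h1
    have h3 : hh (pr q v₀ v) w = 0 := by
      unfold pr
      rw [hermForm_sub_left, hermForm_smul_left, h2, hermForm_eq_zero_symm hF _ _ h1, mul_zero,
        sub_zero]
    have he := frame_expand hF v₀ w z hv₀ hw hzz h1 hzv₀ hzw (pr q v₀ v)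
    rw [pr_perp v₀ v hv₀, h3, zero_smul, zero_smul, zero_add, zero_add] at he
    have h4 := h0
    nth_rewrite 1 [he] at h4
    nth_rewrite 2 [he] at h4
    rw [hermForm_smul_left, hermForm_smul_right, hzz, mul_one] at h4
    have h5 : hh (pr q v₀ v) z = 0 := by
      rcases mul_eq_zero.mp h4 with h6 | h6
      · exact h6
      · exact pow_eq_zero_iff (by have := herm_two_le hF; omega) |>.mp h6
    rw [h5, zero_smul] at he
    exact ((not_commute_iff hq hF v₀ v hv₀ hv).mp hnc).2 he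
  · intro h
    obtain ⟨z, hzz, hz0, hvz⟩ := exists_common_perp hF v₀ v hv₀ h
    refine ⟨refl q hF z hzz, refl_ne_one hq hF z hzz, refl_mul_self hF z hzz, ?_, ?_⟩
    · exact (refl_commute_iff hq hF v₀ z hv₀ hzz).mpr (Or.inl hz0)
    · exact (refl_commute_iff hq hF z v hzz hv).mpr (Or.inl hvz)

end dist

section far

variable {F : Type*} [Field F] [Fintype F] [DecidableEq F] {q : ℕ}

local notation "hh" => Cfsg.hermForm 3 F q

theorem far_iff (hq : Odd q) (hF : Fintype.card F = q ^ 2) (v₀ v : Fin 3 → F)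
    (hv₀ : hh v₀ v₀ = 1) (hv : hh v v = 1) :
    (¬ Commute (refl q hF v₀ hv₀) (refl q hF v hv) ∧
      ∀ y : ↥(Cfsg.SU 3 F q), y ≠ 1 → y * y = 1 →
        ¬ (Commute (refl q hF v₀ hv₀) y ∧ Commute y (refl q hF v hv))) ↔
      pr q v₀ v ≠ 0 ∧ hh (pr q v₀ v) (pr q v₀ v) = 0 := by
  constructor
  · rintro ⟨hnc, hall⟩
    refine ⟨((not_commute_iff hq hF v₀ v hv₀ hv).mp hnc).2, ?_⟩
    by_contra h
    obtain ⟨y, hy1, hy2, h1, h2⟩ := (dist2_iff hq hF v₀ v hv₀ hv hnc).mpr h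
    exact hall y hy1 hy2 ⟨h1, h2⟩
  · rintro ⟨h1, h2⟩
    have h3 := pr_norm hF v₀ v hv₀
    rw [hv, h2, add_zero] at h3
    have h4 : hh v v₀ ≠ 0 := by
      intro h
      rw [h, zero_mul] at h3
      exact one_ne_zero h3
    have hnc := (not_commute_iff hq hF v₀ v hv₀ hv).mpr ⟨h4, h1⟩
    refine ⟨hnc, ?_⟩
    intro y hy1 hy2 hy
    exact (dist2_iff hq hF v₀ v hv₀ hv hnc).mp ⟨y, hy1, hy2, hy.1, hy.2⟩ h2

theorem pr_comb (v₀ w : Fin 3 → F) (a : F) (hv₀ : hh v₀ v₀ = 1) (hw : hh w v₀ = 0) :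
    hh (a • v₀ + w) v₀ = a ∧ pr q v₀ (a • v₀ + w) = w := by
  have h1 : hh (a • v₀ + w) v₀ = a := by
    rw [hermForm_add_left, hermForm_smul_left, hv₀, hw, mul_one, add_zero]
  refine ⟨h1, ?_⟩
  unfold pr
  rw [h1]
  abel

theorem card_normOne_set (hF : Fintype.card F = q ^ 2) :
    Nat.card {a : F // a * a ^ q = 1} = q + 1 := by
  have h1F : (1 : F) ∈ fixStar F q := mem_fixStar.mpr ⟨one_ne_zero, one_pow q⟩
  have := normFiber_of_mem hF 1 h1F
  unfold normFiber at this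
  rw [Nat.card_eq_fintype_card, Fintype.card_subtype, this]

theorem card_iso_perp (hF : Fintype.card F = q ^ 2) (v₀ : Fin 3 → F) (hv₀ : hh v₀ v₀ = 1) :
    Nat.card {w : Fin 3 → F // hh w v₀ = 0 ∧ hh w w = 0 ∧ w ≠ 0} = (q + 1) * (q ^ 2 - 1) := by
  have hq2 := herm_two_le hF
  have hO : OrthoN F q (1 + 2) 1 (fun _ => v₀) := by
    intro i j
    rw [if_pos (Subsingleton.elim i j)]
    exact hv₀
  obtain ⟨e1, -⟩ := perpCount_equations hF hO
  rw [perpCount_one hF hO] at e1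
  have hX : perpCount F q 3 (fun _ : Fin 1 => v₀) 0 = 1 + (q + 1) * ((q - 1) * (q + 1)) := by
    simp [hermAB] at e1
    exact e1.symm
  have h1 : perpCount F q 3 (fun _ : Fin 1 => v₀) 0 =
      Nat.card {w : Fin 3 → F // hh w v₀ = 0 ∧ hh w w = 0} := by
    unfold perpCount
    apply Nat.card_congr
    apply Equiv.subtypeEquivRight
    intro w
    constructor
    · rintro ⟨h1, h2⟩
      exact ⟨h1 0, h2⟩
    · rintro ⟨h1, h2⟩
      exact ⟨fun _ => h1, h2⟩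
  rw [h1] at hX
  rw [Nat.card_eq_fintype_card, Fintype.card_subtype] at hX ⊢
  have h2 : (univ.filter (fun w : Fin 3 → F => hh w v₀ = 0 ∧ hh w w = 0 ∧ w ≠ 0)) =
      (univ.filter (fun w : Fin 3 → F => hh w v₀ = 0 ∧ hh w w = 0)).erase 0 := by
    ext w
    simp only [mem_filter, mem_univ, true_and, mem_erase]
    tauto
  have h3 : (0 : Fin 3 → F) ∈ univ.filter (fun w : Fin 3 → F => hh w v₀ = 0 ∧ hh w w = 0) := by
    simp only [mem_filter, mem_univ, true_and]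
    exact ⟨hermForm_zero_left _, hermForm_zero_left _⟩
  rw [h2, Finset.card_erase_of_mem h3, hX, sq_sub_one q (by omega)]
  simp

theorem card_far_vec (hF : Fintype.card F = q ^ 2) (v₀ : Fin 3 → F) (hv₀ : hh v₀ v₀ = 1) :
    Nat.card {v : {v : Fin 3 → F // hh v v = 1} //
      pr q v₀ v.1 ≠ 0 ∧ hh (pr q v₀ v.1) (pr q v₀ v.1) = 0} = (q + 1) * ((q + 1) * (q ^ 2 - 1)) := by
  rw [← card_iso_perp hF v₀ hv₀, ← card_normOne_set hF, ← Nat.card_prod]
  have e : {v : {v : Fin 3 → F // hh v v = 1} //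
      pr q v₀ v.1 ≠ 0 ∧ hh (pr q v₀ v.1) (pr q v₀ v.1) = 0} ≃
      {p : F × (Fin 3 → F) // p.1 * p.1 ^ q = 1 ∧ (hh p.2 v₀ = 0 ∧ hh p.2 p.2 = 0 ∧ p.2 ≠ 0)} :=
    { toFun := fun v => ⟨(hh v.1.1 v₀, pr q v₀ v.1.1), by
        have h3 := pr_norm hF v₀ v.1.1 hv₀
        rw [v.1.2, v.2.2, add_zero] at h3
        exact ⟨h3.symm, pr_perp v₀ v.1.1 hv₀, v.2.2, v.2.1⟩⟩
      invFun := fun p => ⟨⟨p.1.1 • v₀ + p.1.2, by
        have h3 := pr_norm hF v₀ (p.1.1 • v₀ + p.1.2) hv₀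
        obtain ⟨h4, h5⟩ := pr_comb (q := q) v₀ p.1.2 p.1.1 hv₀ p.2.2.1
        rw [h4, h5, p.2.1, p.2.2.2.1, add_zero] at h3
        exact h3⟩, by
        obtain ⟨h4, h5⟩ := pr_comb (q := q) v₀ p.1.2 p.1.1 hv₀ p.2.2.1
        show pr q v₀ (p.1.1 • v₀ + p.1.2) ≠ 0 ∧
          hh (pr q v₀ (p.1.1 • v₀ + p.1.2)) (pr q v₀ (p.1.1 • v₀ + p.1.2)) = 0
        rw [h5]
        exact ⟨p.2.2.2.2, p.2.2.2.1⟩⟩
      left_inv := fun v => by
        apply Subtype.ext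
        apply Subtype.ext
        exact (pr_add (q := q) v₀ v.1.1).symm
      right_inv := fun p => by
        apply Subtype.ext
        obtain ⟨h4, h5⟩ := pr_comb (q := q) v₀ p.1.2 p.1.1 hv₀ p.2.2.1
        exact Prod.ext h4 h5 }
  rw [Nat.card_congr e]
  exact Nat.card_congr (Equiv.subtypeProdEquivProd (p := fun a : F => a * a ^ q = 1)
    (q := fun w : Fin 3 → F => hh w v₀ = 0 ∧ hh w w = 0 ∧ w ≠ 0))

end far

section main

variable {F : Type*} [Field F] [Fintype F] [DecidableEq F] {q : ℕ}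

local notation "hh" => Cfsg.hermForm 3 F q

/-- involutions at distance three -/
theorem card_far (hq : Odd q) (hF : Fintype.card F = q ^ 2) (t : ↥(Cfsg.SU 3 F q))
    (ht : t ≠ 1) (ht2 : t * t = 1) :
    Nat.card {x : ↥(Cfsg.SU 3 F q) // x ≠ 1 ∧ x * x = 1 ∧ ¬ Commute t x ∧
        ∀ y : ↥(Cfsg.SU 3 F q), y ≠ 1 → y * y = 1 → ¬ (Commute t y ∧ Commute y x)} =
      (q + 1) * (q ^ 2 - 1) := by
  obtain ⟨v₀, hv₀, rfl⟩ := exists_refl hq hF t ht ht2
  have h1 := card_invol_pred_mul hq hF (fun x => ¬ Commute (refl q hF v₀ hv₀) x ∧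
        ∀ y : ↥(Cfsg.SU 3 F q), y ≠ 1 → y * y = 1 → ¬ (Commute (refl q hF v₀ hv₀) y ∧ Commute y x))
  have h2 : Nat.card {v : {v : Fin 3 → F // hh v v = 1} //
      ¬ Commute (refl q hF v₀ hv₀) (refl q hF v.1 v.2) ∧
        ∀ y : ↥(Cfsg.SU 3 F q), y ≠ 1 → y * y = 1 →
          ¬ (Commute (refl q hF v₀ hv₀) y ∧ Commute y (refl q hF v.1 v.2))} =
      (q + 1) * ((q + 1) * (q ^ 2 - 1)) := by
    rw [← card_far_vec hF v₀ hv₀]
    apply Nat.card_congr
    apply Equiv.subtypeEquivRight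
    intro v
    exact far_iff hq hF v₀ v.1 hv₀ v.2
  rw [h2] at h1
  have h3 : (q + 1) * ((q + 1) * (q ^ 2 - 1)) = (q + 1) * (q ^ 2 - 1) * (q + 1) := by ring
  rw [h3] at h1
  exact Nat.eq_of_mul_eq_mul_right (by omega) h1

/-- involutions at distance two -/
theorem card_mid (hq : Odd q) (hF : Fintype.card F = q ^ 2) (t : ↥(Cfsg.SU 3 F q))
    (ht : t ≠ 1) (ht2 : t * t = 1) :
    Nat.card {x : ↥(Cfsg.SU 3 F q) // x ≠ 1 ∧ x * x = 1 ∧ ¬ Commute t x ∧
        ∃ y : ↥(Cfsg.SU 3 F q), y ≠ 1 ∧ y * y = 1 ∧ Commute t y ∧ Commute y x} =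
      q * (q - 2) * (q ^ 2 - 1) := by
  classical
  have hq2 := herm_two_le hF
  have hA := card_commuting hq hF t ht ht2
  have hC := card_far hq hF t ht ht2
  have hT := card_invol hq hF
  haveI : Fintype ↥(Cfsg.SU 3 F q) := Fintype.ofFinite _
  rw [Nat.card_eq_fintype_card, Fintype.card_subtype] at hA hC hT ⊢
  set I := univ.filter (fun x : ↥(Cfsg.SU 3 F q) => x ≠ 1 ∧ x * x = 1) with hI
  set A := univ.filter (fun x : ↥(Cfsg.SU 3 F q) => x ≠ 1 ∧ x * x = 1 ∧ x ≠ t ∧ Commute t x)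
    with hAdef
  set B := univ.filter (fun x : ↥(Cfsg.SU 3 F q) => x ≠ 1 ∧ x * x = 1 ∧ ¬ Commute t x ∧
        ∃ y : ↥(Cfsg.SU 3 F q), y ≠ 1 ∧ y * y = 1 ∧ Commute t y ∧ Commute y x) with hBdef
  set C := univ.filter (fun x : ↥(Cfsg.SU 3 F q) => x ≠ 1 ∧ x * x = 1 ∧ ¬ Commute t x ∧
        ∀ y : ↥(Cfsg.SU 3 F q), y ≠ 1 → y * y = 1 → ¬ (Commute t y ∧ Commute y x)) with hCdef
  have h1 : I.card = (I.filter (fun x => Commute t x)).card +
      (I.filter (fun x => ¬ Commute t x)).card :=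
    (Finset.card_filter_add_card_filter_not _).symm
  have h2 : I.filter (fun x => Commute t x) = insert t A := by
    ext x
    simp only [hI, hAdef, mem_filter, mem_univ, true_and, mem_insert]
    constructor
    · rintro ⟨⟨h1, h2⟩, h3⟩
      by_cases hxt : x = t
      · left; exact hxt
      · right; exact ⟨h1, h2, hxt, h3⟩
    · rintro (rfl | ⟨h1, h2, -, h3⟩)
      · exact ⟨⟨ht, ht2⟩, Commute.refl _⟩
      · exact ⟨⟨h1, h2⟩, h3⟩
  have h3 : t ∉ A := by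
    simp only [hAdef, mem_filter, mem_univ, true_and]
    tauto
  have h4 : (I.filter (fun x => ¬ Commute t x)).card = B.card + C.card := by
    rw [← Finset.card_filter_add_card_filter_not (s := I.filter (fun x => ¬ Commute t x))
      (fun x => ∃ y : ↥(Cfsg.SU 3 F q), y ≠ 1 ∧ y * y = 1 ∧ Commute t y ∧ Commute y x)]
    congr 2
    · ext x
      simp only [hI, hBdef, mem_filter, mem_univ, true_and]
      constructor
      · rintro ⟨⟨⟨h1, h2⟩, h3⟩, h4⟩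
        exact ⟨h1, h2, h3, h4⟩
      · rintro ⟨h1, h2, h3, h4⟩
        exact ⟨⟨⟨h1, h2⟩, h3⟩, h4⟩
    · ext x
      simp only [hI, hCdef, mem_filter, mem_univ, true_and]
      constructor
      · rintro ⟨⟨⟨h1, h2⟩, h3⟩, h4⟩
        refine ⟨h1, h2, h3, ?_⟩
        intro y hy1 hy2 hy
        exact h4 ⟨y, hy1, hy2, hy.1, hy.2⟩
      · rintro ⟨h1, h2, h3, h4⟩
        refine ⟨⟨⟨h1, h2⟩, h3⟩, ?_⟩
        rintro ⟨y, hy1, hy2, hy3, hy4⟩
        exact h4 y hy1 hy2 ⟨hy3, hy4⟩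
  rw [h2, Finset.card_insert_of_notMem h3, h4, hT, hA, hC] at h1
  obtain ⟨r, rfl⟩ : ∃ r, q = r + 3 := by
    obtain ⟨k, hk⟩ := hq
    exact ⟨q - 3, by omega⟩
  have e1 : (r + 3) ^ 2 - (r + 3) + 1 = r ^ 2 + 5 * r + 7 := by
    have : (r + 3) ^ 2 = (r ^ 2 + 5 * r + 6) + (r + 3) := by ring
    rw [this, Nat.add_sub_cancel]
  have e2 : (r + 3) ^ 2 - 1 = r ^ 2 + 6 * r + 8 := by
    have : (r + 3) ^ 2 = (r ^ 2 + 6 * r + 8) + 1 := by ring
    rw [this, Nat.add_sub_cancel]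
  have e3 : r + 3 - 1 = r + 2 := by omega
  have e4 : r + 3 - 2 = r + 1 := by omega
  rw [e1, e2, e3] at h1
  rw [e2, e4]
  have h5 : (r + 3) ^ 2 * (r ^ 2 + 5 * r + 7) = (r + 3) * (r + 2) + 1 +
      ((r + 3) * (r + 1) * (r ^ 2 + 6 * r + 8) + (r + 3 + 1) * (r ^ 2 + 6 * r + 8)) := by ring
  rw [h5] at h1
  omega

end main

section diam

variable {F : Type*} [Field F] [Fintype F] [DecidableEq F] {q : ℕ}

local notation "hh" => Cfsg.hermForm 3 F q

theorem pow_q_q (hF : Fintype.card F = q ^ 2) (a : F) : (a ^ q) ^ q = a := by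
  rw [← pow_mul, ← pow_two, herm_pow_card hF]

theorem chain_aux (hF : Fintype.card F = q ^ 2) (v₀ v w w' : Fin 3 → F)
    (hv₀ : hh v₀ v₀ = 1) (hw : hh w w = 1) (hw' : hh w' w' = 1) (hwv₀ : hh w v₀ = 0)
    (hw'v₀ : hh w' v₀ = 0) (hw'w : hh w' w = 0)
    (hne : hh v w' * (hh v w') ^ q + hh v v₀ * (hh v v₀) ^ q ≠ 0) :
    ∃ u : Fin 3 → F, hh u u = 1 ∧ hh u w = 0 ∧ hh v u = 0 := by
  have hq2 := herm_two_le hF
  have hv₀w := hermForm_eq_zero_symm hF _ _ hwv₀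
  have hv₀w' := hermForm_eq_zero_symm hF _ _ hw'v₀
  have hww' := hermForm_eq_zero_symm hF _ _ hw'w
  obtain ⟨a, ha⟩ : ∃ a, hh v v₀ = a := ⟨_, rfl⟩
  obtain ⟨c, hc⟩ : ∃ c, hh v w' = c := ⟨_, rfl⟩
  rw [ha, hc] at hne
  set u₂ : Fin 3 → F := (-(c ^ q)) • v₀ + (a ^ q) • w' with hu₂
  have h1 : hh u₂ w = 0 := by
    rw [hu₂, hermForm_add_left, hermForm_smul_left, hermForm_smul_left, hv₀w, hw'w]
    ring
  have h2 : hh v u₂ = 0 := by
    rw [hu₂, hermForm_add_right hF, hermForm_smul_right, hermForm_smul_right, ha, hc,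
      herm_neg_pow hF, pow_q_q hF, pow_q_q hF]
    ring
  have h3 : hh u₂ u₂ = c * c ^ q + a * a ^ q := by
    rw [hu₂]
    simp only [hermForm_add_left, hermForm_add_right hF, hermForm_smul_left, hermForm_smul_right,
      hv₀, hw', hv₀w', hw'v₀, herm_neg_pow hF, pow_q_q hF]
    ring
  obtain ⟨l, hl0, hl⟩ := exists_unit_smul hF u₂ (by rw [h3]; exact hne)
  refine ⟨l • u₂, hl, ?_, ?_⟩
  · rw [hermForm_smul_left, h1, mul_zero]
  · rw [hermForm_smul_right, h2, mul_zero]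

/-- the commuting involution graph has diameter at most three -/
theorem diam_le_three (hq : Odd q) (hF : Fintype.card F = q ^ 2) (t x : ↥(Cfsg.SU 3 F q))
    (ht : t ≠ 1) (ht2 : t * t = 1) (hx : x ≠ 1) (hx2 : x * x = 1) :
    ∃ y z : ↥(Cfsg.SU 3 F q), y ≠ 1 ∧ y * y = 1 ∧ z ≠ 1 ∧ z * z = 1 ∧
      Commute t y ∧ Commute y z ∧ Commute z x := by
  have h2 := two_ne_zero_of_odd hq hF
  by_cases hc : Commute t x
  · exact ⟨t, x, ht, ht2, hx, hx2, Commute.refl t, hc, Commute.refl x⟩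
  obtain ⟨v₀, hv₀, rfl⟩ := exists_refl hq hF t ht ht2
  obtain ⟨v, hv, rfl⟩ := exists_refl hq hF x hx hx2
  by_cases h0 : hh (pr q v₀ v) (pr q v₀ v) = 0
  · -- the distance three case
    obtain ⟨w₁, hw₁v₀, hw₁⟩ := exists_perp_one hF v₀ hv₀
    obtain ⟨w₃, hw₃v₀, hw₃w₁, hw₃⟩ := exists_perp_two hF v₀ w₁ hv₀ hw₁ hw₁v₀
    have hw₁w₃ := hermForm_eq_zero_symm hF _ _ hw₃w₁
    have hn := pr_norm hF v₀ v hv₀
    rw [hv, h0, add_zero] at hn
    -- the norm of v in the frame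
    have hexp := frame_expand hF v₀ w₁ w₃ hv₀ hw₁ hw₃ hw₁v₀ hw₃v₀ hw₃w₁ v
    obtain ⟨a, ha⟩ : ∃ a, hh v v₀ = a := ⟨_, rfl⟩
    obtain ⟨β, hb⟩ : ∃ β, hh v w₁ = β := ⟨_, rfl⟩
    obtain ⟨γ, hg⟩ : ∃ γ, hh v w₃ = γ := ⟨_, rfl⟩
    rw [ha, hb, hg] at hexp
    rw [ha] at hn
    have hnorm : hh v v = a * a ^ q + β * β ^ q + γ * γ ^ q := by
      nth_rewrite 1 [hexp]
      rw [hermForm_add_left, hermForm_add_left, hermForm_smul_left, hermForm_smul_left,
        hermForm_smul_left, ← hermForm_conj hF v v₀, ← hermForm_conj hF v w₁,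
        ← hermForm_conj hF v w₃, ha, hb, hg]
    rw [hv] at hnorm
    have hsum : β * β ^ q + γ * γ ^ q = 0 := by
      linear_combination hn - hnorm
    have hchain : ∀ w u : Fin 3 → F, hh w w = 1 → hh w v₀ = 0 → hh u u = 1 → hh u w = 0 →
        hh v u = 0 → ∃ y z : ↥(Cfsg.SU 3 F q), y ≠ 1 ∧ y * y = 1 ∧ z ≠ 1 ∧ z * z = 1 ∧
          Commute (refl q hF v₀ hv₀) y ∧ Commute y z ∧ Commute z (refl q hF v hv) := by
      intro w u hw hwv₀ hu huw hvu
      exact ⟨refl q hF w hw, refl q hF u hu, refl_ne_one hq hF w hw, refl_mul_self hF w hw,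
        refl_ne_one hq hF u hu, refl_mul_self hF u hu,
        (refl_commute_iff hq hF v₀ w hv₀ hw).mpr (Or.inl hwv₀),
        (refl_commute_iff hq hF w u hw hu).mpr (Or.inl huw),
        (refl_commute_iff hq hF u v hu hv).mpr (Or.inl hvu)⟩
    by_cases hγ : γ * γ ^ q = -1
    · have hβ : β * β ^ q = 1 := by linear_combination hsum - hγ
      obtain ⟨u, hu, huw, hvu⟩ := chain_aux hF v₀ v w₃ w₁ hv₀ hw₃ hw₁ hw₃v₀ hw₁v₀ hw₁w₃ (by
        rw [hb, ha, hβ, ← hn]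
        intro h
        apply h2
        linear_combination h)
      exact hchain w₃ u hw₃ hw₃v₀ hu huw hvu
    · obtain ⟨u, hu, huw, hvu⟩ := chain_aux hF v₀ v w₁ w₃ hv₀ hw₁ hw₃ hw₁v₀ hw₃v₀ hw₃w₁ (by
        rw [hg, ha, ← hn]
        intro h
        apply hγ
        linear_combination h)
      exact hchain w₁ u hw₁ hw₁v₀ hu huw hvu
  · obtain ⟨z, hzz, hz0, hvz⟩ := exists_common_perp hF v₀ v hv₀ h0
    exact ⟨refl q hF z hzz, refl q hF z hzz, refl_ne_one hq hF z hzz, refl_mul_self hF z hzz,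
      refl_ne_one hq hF z hzz, refl_mul_self hF z hzz,
      (refl_commute_iff hq hF v₀ z hv₀ hzz).mpr (Or.inl hz0), Commute.refl _,
      (refl_commute_iff hq hF z v hzz hv).mpr (Or.inl hvz)⟩

end diam

end Cfsg.Agent.Lib.Helper9.SU3Graph
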