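import Mathlib
import Cfsg.Prelude.Def_Classical
import Cfsg.Agent.Lib.Helper14.Unitary
import Cfsg.Agent.Lib.Helper14.Unitary2
import Cfsg.Agent.Lib.Helper14.Unitary3
import Cfsg.Agent.Lib.Helper9.SU3Local
import Cfsg.Agent.Lib.Helper9.SU3Invol
import Cfsg.Agent.Lib.Helper9.UT3

set_option autoImplicit false
set_option linter.unusedSectionVars false
set_option linter.unusedVariables false
set_option linter.style.haveILetI false

namespace Cfsg.Agent.Lib.Helper9.SU3SpecB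

open Cfsg.Agent.Lib.Helper14 Cfsg.Agent.Lib.Helper9.SU3Local Cfsg.Agent.Lib.Helper9.SU3Invol
  Matrix Finset

section quad

variable {F : Type*} [Field F] [Fintype F] [DecidableEq F] {q : ℕ}

theorem frob_frob (hF : Fintype.card F = q ^ 2) (x : F) : (x ^ q) ^ q = x := by
  rw [← pow_mul, ← pow_two, ← hF]
  exact FiniteField.pow_card x

theorem ringChar_ne_two_of_odd (hq : Odd q) (hF : Fintype.card F = q ^ 2) : ringChar F ≠ 2 := by
  intro h2
  have : (2 : ℕ) ∣ Fintype.card F := by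
    have := FiniteField.even_card_of_char_two h2
    exact Nat.dvd_of_mod_eq_zero this
  rw [hF] at this
  have h3 : Odd (q ^ 2) := hq.pow
  exact (Nat.not_even_iff_odd.mpr h3) (even_iff_two_dvd.mpr this)

/-- elements of norm one are squares -/
theorem isSquare_of_norm_one (hq : Odd q) (hF : Fintype.card F = q ^ 2) (δ : F)
    (h : δ * δ ^ q = 1) : IsSquare δ := by
  have hδ : δ ≠ 0 := by
    rintro rfl
    rw [zero_mul] at h
    exact zero_ne_one h
  rw [FiniteField.isSquare_iff (ringChar_ne_two_of_odd hq hF) hδ, hF]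
  obtain ⟨m, hm⟩ := hq
  have h1 : q ^ 2 / 2 = (q + 1) * m := by
    have : q ^ 2 = 2 * ((q + 1) * m) + 1 := by rw [hm]; ring
    omega
  rw [h1, pow_mul, pow_succ', h, one_pow]

/-- Frobenius-fixed elements are squares -/
theorem isSquare_of_fixed (hq : Odd q) (hF : Fintype.card F = q ^ 2) (ρ : F)
    (h : ρ ^ q = ρ) : IsSquare ρ := by
  by_cases hρ : ρ = 0
  · rw [hρ]; exact ⟨0, by ring⟩
  rw [FiniteField.isSquare_iff (ringChar_ne_two_of_odd hq hF) hρ, hF]
  obtain ⟨m, hm⟩ := hq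
  have hq1 : 1 ≤ q := by omega
  have h1 : q ^ 2 / 2 = (q - 1) * (m + 1) := by
    have : q ^ 2 = 2 * ((q - 1) * (m + 1)) + 1 := by
      rw [hm]
      have : 2 * m + 1 - 1 = 2 * m := by omega
      rw [this]; ring
    omega
  have h2 : ρ ^ (q - 1) = 1 := by
    have : ρ ^ (q - 1) * ρ = 1 * ρ := by
      rw [← pow_succ, Nat.sub_add_cancel hq1, h, one_mul]
    exact mul_right_cancel₀ hρ this
  rw [h1, pow_mul, h2, one_pow]

/-- the characteristic polynomial of a `2 × 2` unitary matrix has a root -/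
theorem exists_root_quadratic (hq : Odd q) (hF : Fintype.card F = q ^ 2) (τ δ : F)
    (h1 : δ * δ ^ q = 1) (h2 : τ = δ * τ ^ q) : ∃ l : F, l * l - τ * l + δ = 0 := by
  have hchar := ringChar_ne_two_of_odd hq hF
  have h2ne : (2 : F) ≠ 0 := by
    intro h
    apply hchar
    have := ringChar.dvd (R := F) (x := 2) (by exact_mod_cast h)
    rcases (Nat.dvd_prime Nat.prime_two).mp this with h3 | h3
    · exact absurd h3 (CharP.ringChar_ne_one)
    · exact h3
  have hδ : δ ≠ 0 := by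
    rintro rfl
    rw [zero_mul] at h1
    exact zero_ne_one h1
  obtain ⟨ε, hε⟩ := isSquare_of_norm_one hq hF δ h1
  have hε0 : ε ≠ 0 := by
    rintro rfl
    rw [mul_zero] at hε
    exact hδ hε
  -- `s = ε^(q+1) = ±1`
  set s := ε * ε ^ q with hs
  have hs2 : s * s = 1 := by
    have : s * s = (ε * ε) * (ε * ε) ^ q := by rw [hs, mul_pow]; ring
    rw [this, ← hε, h1]
  set r := τ / ε with hr
  -- `r^q = s r`
  have hrq : r ^ q = s * r := by
    have hεq : ε ^ q ≠ 0 := pow_ne_zero _ hε0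
    have h3 : r ^ q * (δ * ε ^ q) = s * r * (δ * ε ^ q) := by
      have e1 : r ^ q * (δ * ε ^ q) = τ := by
        rw [hr, div_pow]
        rw [show τ ^ q / ε ^ q * (δ * ε ^ q) = δ * τ ^ q by field_simp]
        exact h2.symm
      have e2 : s * r * (δ * ε ^ q) = τ := by
        rw [hr, hs, hε]
        have : ε * ε ^ q * (τ / ε) * (ε * ε * ε ^ q) = τ * ((ε * ε ^ q) * (ε * ε ^ q)) := by
          field_simp
        rw [this, ← hs, hs2, mul_one]
      rw [e1, e2]
    exact mul_right_cancel₀ (mul_ne_zero hδ hεq) h3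
  have hρ : (r * r - 4) ^ q = r * r - 4 := by
    have h2q : (2 : F) ^ q = 2 := by
      have := herm_add_pow hF (1 : F) 1
      rw [one_pow] at this
      rw [← one_add_one_eq_two]
      exact this
    have h4 : ((4 : F)) ^ q = 4 := by
      have : (4 : F) = 2 * 2 := by norm_num
      rw [this, mul_pow, h2q]
    rw [herm_sub_pow hF, mul_pow, hrq, h4]
    linear_combination (r * r) * hs2
  obtain ⟨σ, hσ⟩ := isSquare_of_fixed hq hF _ hρ
  refine ⟨(τ + ε * σ) / 2, ?_⟩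
  have h5 : τ = r * ε := by rw [hr, div_mul_cancel₀ _ hε0]
  field_simp
  rw [h5, hε]
  linear_combination (-(ε * ε)) * hσ

end quad

section noniso

variable {F : Type*} [Field F] [Fintype F] [DecidableEq F] {q : ℕ}

local notation "hh" => Cfsg.hermForm 3 F q

/-- eigenvalues at non-isotropic eigenvectors have norm one -/
theorem eigen_norm_one (M : Matrix (Fin 3) (Fin 3) F) (hM : IsUni F q 3 M) (v : Fin 3 → F)
    (hv : hh v v ≠ 0) (a : F) (hMv : M *ᵥ v = a • v) : a * a ^ q = 1 := by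
  have h1 : hh (M *ᵥ v) (M *ᵥ v) = hh v v := hM v v
  rw [hMv, hermForm_smul_left, hermForm_smul_right, ← mul_assoc] at h1
  have : (a * a ^ q) * hh v v = 1 * hh v v := by rw [h1, one_mul]
  exact mul_right_cancel₀ hv this

theorem perp_eigen (hF : Fintype.card F = q ^ 2) (M : Matrix (Fin 3) (Fin 3) F)
    (hM : IsUni F q 3 M) (v : Fin 3 → F) (a : F) (ha : a ≠ 0) (hMv : M *ᵥ v = a • v)
    (u : Fin 3 → F) (hu : hh u v = 0) : hh (M *ᵥ u) v = 0 := by
  have hq := herm_two_le hF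
  have h1 : hh (M *ᵥ u) (M *ᵥ v) = 0 := by rw [hM, hu]
  rw [hMv, hermForm_smul_right] at h1
  rcases mul_eq_zero.mp h1 with h | h
  · exact absurd (pow_eq_zero_iff (by omega) |>.mp h) ha
  · exact h

theorem ne_zero_of_norm_one (a : F) (h : a * a ^ q = 1) : a ≠ 0 := by
  rintro rfl
  rw [zero_mul] at h
  exact zero_ne_one h

/-- expansion of `h(x₁ a + y₁ b, x₂ a + y₂ b)` for orthonormal `a, b` -/
theorem hh_comb2 (hF : Fintype.card F = q ^ 2) (a b : Fin 3 → F) (haa : hh a a = 1)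
    (hbb : hh b b = 1) (hba : hh b a = 0) (x₁ y₁ x₂ y₂ : F) :
    hh (x₁ • a + y₁ • b) (x₂ • a + y₂ • b) = x₁ * x₂ ^ q + y₁ * y₂ ^ q := by
  have hab := hermForm_eq_zero_symm hF _ _ hba
  rw [hermForm_add_left, hermForm_add_right hF, hermForm_add_right hF, hermForm_smul_left,
    hermForm_smul_left, hermForm_smul_left, hermForm_smul_left, hermForm_smul_right,
    hermForm_smul_right, hermForm_smul_right, hermForm_smul_right, haa, hbb, hba, hab]
  ring

/-- **non-isotropic case**: a special unitary matrix with a non-isotropic eigenvector and no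
isotropic eigenvector has order dividing `q + 1` -/
theorem noniso_case (hq : Odd q) (hF : Fintype.card F = q ^ 2) (M : Matrix (Fin 3) (Fin 3) F)
    (hM : IsUni F q 3 M) (hdet : M.det = 1) (v : Fin 3 → F) (hv : hh v v ≠ 0) (a : F)
    (hMv : M *ᵥ v = a • v)
    (hno : ∀ w : Fin 3 → F, w ≠ 0 → hh w w = 0 → ∀ t : F, M *ᵥ w ≠ t • w) :
    M ^ (q + 1) = 1 := by
  have hq2 := herm_two_le hF
  obtain ⟨l, hl0, hl1⟩ := exists_unit_smul hF v hv
  obtain ⟨v₁, hv₁⟩ : ∃ x, x = l • v := ⟨_, rfl⟩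
  rw [← hv₁] at hl1
  have hMv₁ : M *ᵥ v₁ = a • v₁ := by
    rw [hv₁, Matrix.mulVec_smul, hMv, smul_comm]
  have ha : a * a ^ q = 1 := eigen_norm_one M hM v hv a hMv
  have ha0 : a ≠ 0 := ne_zero_of_norm_one a ha
  obtain ⟨v₂, h21, h22⟩ := exists_perp_one hF v₁ hl1
  obtain ⟨v₃, h31, h32, h33⟩ := exists_perp_two hF v₁ v₂ hl1 h22 h21
  have hex := frame_expand hF v₁ v₂ v₃ hl1 h22 h33 h21 h31 h32
  have h23 := hermForm_eq_zero_symm hF _ _ h32
  have h12 := hermForm_eq_zero_symm hF _ _ h21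
  have h13 := hermForm_eq_zero_symm hF _ _ h31
  -- images of `v₂`, `v₃`
  have e2 := hex (M *ᵥ v₂)
  rw [perp_eigen hF M hM v₁ a ha0 hMv₁ v₂ h21, zero_smul, zero_add] at e2
  have e3 := hex (M *ᵥ v₃)
  rw [perp_eigen hF M hM v₁ a ha0 hMv₁ v₃ h31, zero_smul, zero_add] at e3
  obtain ⟨u11, hu11⟩ : ∃ x, x = hh (M *ᵥ v₂) v₂ := ⟨_, rfl⟩
  obtain ⟨u21, hu21⟩ : ∃ x, x = hh (M *ᵥ v₂) v₃ := ⟨_, rfl⟩
  obtain ⟨u12, hu12⟩ : ∃ x, x = hh (M *ᵥ v₃) v₂ := ⟨_, rfl⟩
  obtain ⟨u22, hu22⟩ : ∃ x, x = hh (M *ᵥ v₃) v₃ := ⟨_, rfl⟩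
  rw [← hu11, ← hu21] at e2
  rw [← hu12, ← hu22] at e3
  -- unitarity relations
  have R1 : u11 * u11 ^ q + u21 * u21 ^ q = 1 := by
    have := hM v₂ v₂
    rw [e2, hh_comb2 hF v₂ v₃ h22 h33 h32, h22] at this
    exact this
  have R2 : u12 * u12 ^ q + u22 * u22 ^ q = 1 := by
    have := hM v₃ v₃
    rw [e3, hh_comb2 hF v₂ v₃ h22 h33 h32, h33] at this
    exact this
  have R3 : u11 * u12 ^ q + u21 * u22 ^ q = 0 := by
    have := hM v₂ v₃
    rw [e2, e3, hh_comb2 hF v₂ v₃ h22 h33 h32, h23] at this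
    exact this
  have R3' : u11 ^ q * u12 + u21 ^ q * u22 = 0 := by
    have : (u11 * u12 ^ q + u21 * u22 ^ q) ^ q = 0 := by rw [R3, zero_pow (by omega)]
    rw [herm_add_pow hF, mul_pow, mul_pow, frob_frob hF, frob_frob hF] at this
    exact this
  -- determinant
  have hdetT : a * (u11 * u22 - u12 * u21) = 1 := by
    set P := colMat v₁ v₂ v₃ with hP
    set T := colMat ![a, 0, 0] ![0, u11, u21] ![0, u12, u22] with hT
    have hMP : M * P = P * T := by
      rw [hP, colMat_mul, hT, colMat_mul, ← hP]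
      congr 1
      · rw [hMv₁, hP, colMat_mulVec]; simp
      · rw [e2, hP, colMat_mulVec]; simp
      · rw [e3, hP, colMat_mulVec]; simp
    have hP0 : P.det ≠ 0 :=
      det_ne_zero_of_orthoN hF _ (colMat_orthoN hF v₁ v₂ v₃ hl1 h22 h33 h21 h31 h32)
    have h3 : M.det * P.det = P.det * T.det := by
      rw [← Matrix.det_mul, hMP, Matrix.det_mul]
    rw [hdet, one_mul] at h3
    have hT1 : T.det = 1 := (mul_left_cancel₀ hP0 (by rw [mul_one]; exact h3)).symm
    rw [← hT1, hT, Matrix.det_fin_three]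
    simp [colMat]
    ring
  obtain ⟨δ, hδ⟩ : ∃ x, x = u11 * u22 - u12 * u21 := ⟨_, rfl⟩
  obtain ⟨τ, hτ⟩ : ∃ x, x = u11 + u22 := ⟨_, rfl⟩
  rw [← hδ] at hdetT
  have hδ1 : δ * δ ^ q = 1 := by
    have h1 : (a * δ) * (a * δ) ^ q = 1 := by rw [hdetT, one_pow, one_mul]
    rw [mul_pow] at h1
    have h2 : (a * a ^ q) * (δ * δ ^ q) = 1 := by rw [← h1]; ring
    rwa [ha, one_mul] at h2
  have c1 : δ * u11 ^ q = u22 := by
    rw [hδ]
    linear_combination u22 * R1 - u21 * R3'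
  have c2 : δ * u22 ^ q = u11 := by
    rw [hδ]
    linear_combination u11 * R2 - u12 * R3
  have hτ1 : τ = δ * τ ^ q := by
    rw [hτ, herm_add_pow hF, mul_add, c1, c2, add_comm]
  obtain ⟨lam, hlam⟩ := exists_root_quadratic hq hF τ δ hδ1 hτ1
  -- an eigenvector in `⟨v₂, v₃⟩`
  have hdetA : (!![u11 - lam, u12; u21, u22 - lam] : Matrix (Fin 2) (Fin 2) F).det = 0 := by
    rw [Matrix.det_fin_two_of]
    rw [hτ, hδ] at hlam
    linear_combination hlam
  obtain ⟨z, hz0, hz⟩ := Matrix.exists_mulVec_eq_zero_iff.mpr hdetA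
  have hz1 : (u11 - lam) * z 0 + u12 * z 1 = 0 := by
    have := congrFun hz 0
    simpa [Matrix.mulVec, dotProduct, Fin.sum_univ_two] using this
  have hz2 : u21 * z 0 + (u22 - lam) * z 1 = 0 := by
    have := congrFun hz 1
    simpa [Matrix.mulVec, dotProduct, Fin.sum_univ_two] using this
  obtain ⟨w, hw⟩ : ∃ x, x = z 0 • v₂ + z 1 • v₃ := ⟨_, rfl⟩
  have hw2 : hh w v₂ = z 0 := by
    rw [hw, hermForm_add_left, hermForm_smul_left, hermForm_smul_left, h22, h32]; ring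
  have hw3 : hh w v₃ = z 1 := by
    rw [hw, hermForm_add_left, hermForm_smul_left, hermForm_smul_left, h23, h33]; ring
  have hw1 : hh w v₁ = 0 := by
    rw [hw, hermForm_add_left, hermForm_smul_left, hermForm_smul_left, h21, h31]; ring
  have hw0 : w ≠ 0 := by
    intro h0
    apply hz0
    funext i
    fin_cases i
    · show z 0 = 0
      rw [← hw2, h0, hermForm_zero_left]
    · show z 1 = 0
      rw [← hw3, h0, hermForm_zero_left]
  have hMw : M *ᵥ w = lam • w := by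
    rw [hw, Matrix.mulVec_add, Matrix.mulVec_smul, Matrix.mulVec_smul, e2, e3]
    have x1 : z 0 * u11 + z 1 * u12 = lam * z 0 := by linear_combination hz1
    have x2 : z 0 * u21 + z 1 * u22 = lam * z 1 := by linear_combination hz2
    calc z 0 • (u11 • v₂ + u21 • v₃) + z 1 • (u12 • v₂ + u22 • v₃)
        = (z 0 * u11 + z 1 * u12) • v₂ + (z 0 * u21 + z 1 * u22) • v₃ := by
          simp only [smul_add, smul_smul, add_smul]; abel
      _ = lam • (z 0 • v₂ + z 1 • v₃) := by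
          rw [x1, x2, smul_add, smul_smul, smul_smul]
  have hww : hh w w ≠ 0 := fun h => hno w hw0 h lam hMw
  obtain ⟨l', hl'0, hl'1⟩ := exists_unit_smul hF w hww
  obtain ⟨w₁, hw₁⟩ : ∃ x, x = l' • w := ⟨_, rfl⟩
  rw [← hw₁] at hl'1
  have hMw₁ : M *ᵥ w₁ = lam • w₁ := by
    rw [hw₁, Matrix.mulVec_smul, hMw, smul_comm]
  have hw₁v₁ : hh w₁ v₁ = 0 := by
    rw [hw₁, hermForm_smul_left, hw1, mul_zero]
  have hlam1 : lam * lam ^ q = 1 :=
    eigen_norm_one M hM w₁ (by rw [hl'1]; exact one_ne_zero) lam hMw₁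
  have hlam0 : lam ≠ 0 := ne_zero_of_norm_one lam hlam1
  obtain ⟨z₁, hz11, hz12, hz13⟩ := exists_perp_two hF v₁ w₁ hl1 hl'1 hw₁v₁
  have hex' := frame_expand hF v₁ w₁ z₁ hl1 hl'1 hz13 hw₁v₁ hz11 hz12
  have e4 := hex' (M *ᵥ z₁)
  rw [perp_eigen hF M hM v₁ a ha0 hMv₁ z₁ hz11, perp_eigen hF M hM w₁ lam hlam0 hMw₁ z₁ hz12,
    zero_smul, zero_smul, zero_add, zero_add] at e4
  obtain ⟨c, hc⟩ : ∃ x, x = hh (M *ᵥ z₁) z₁ := ⟨_, rfl⟩
  rw [← hc] at e4
  have hc1 : c * c ^ q = 1 :=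
    eigen_norm_one M hM z₁ (by rw [hz13]; exact one_ne_zero) c e4
  -- conclusion
  have hpow : ∀ x : F, x * x ^ q = 1 → x ^ (q + 1) = 1 := by
    intro x hx
    rw [pow_succ', hx]
  apply mat_ext_mulVec
  intro u
  rw [Matrix.one_mulVec]
  conv_lhs => rw [hex' u]
  rw [Matrix.mulVec_add, Matrix.mulVec_add, Matrix.mulVec_smul, Matrix.mulVec_smul,
    Matrix.mulVec_smul, pow_mulVec_eigen M v₁ a hMv₁, pow_mulVec_eigen M w₁ lam hMw₁,
    pow_mulVec_eigen M z₁ c e4, hpow a ha, hpow lam hlam1, hpow c hc1, one_smul, one_smul, one_smul]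
  exact (hex' u).symm

end noniso

end Cfsg.Agent.Lib.Helper9.SU3SpecB
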