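import Mathlib
import Cfsg.Prelude.Def_Classical
import Cfsg.Agent.Lib.Helper9.SU3SpecC
import Cfsg.Agent.Lib.Helper9.SU3SpecD
import Cfsg.Agent.Lib.Helper9.SU3Invol

set_option autoImplicit false
set_option linter.unusedSectionVars false
set_option linter.unusedVariables false
set_option linter.style.haveILetI false

namespace Cfsg.Agent.Lib.Helper9.SU3SpecE

open Cfsg.Agent.Lib.Helper14 Matrix Finset

theorem arith_E4 (q k : ℕ) (hq : 2 ≤ q) :
    (q ^ 2 - q + 1) ∣ k * (q ^ 2 - 1) ↔ ((q ^ 2 - q + 1) / Nat.gcd 3 (q + 1)) ∣ k := by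
  obtain ⟨N, hN⟩ : ∃ N, N = q ^ 2 - q + 1 := ⟨_, rfl⟩
  rw [← hN]
  obtain ⟨r, rfl⟩ : ∃ r, q = r + 2 := ⟨q - 2, by omega⟩
  have hN' : N = 3 + r * (r + 2 + 1) := by
    have : (r + 2) ^ 2 = r * (r + 2 + 1) + (r + 2) + 2 := by ring
    rw [hN, this]
    omega
  have hN'' : N = 1 + (r + 2) * (r + 1) := by
    rw [hN']
    ring
  have hsq : (r + 2) ^ 2 - 1 = (r + 2 + 1) * (r + 1) := by
    have : (r + 2) ^ 2 = (r + 2 + 1) * (r + 1) + 1 := by ring
    rw [this]
    simp
  have hg : Nat.gcd N (r + 2 + 1) = Nat.gcd 3 (r + 2 + 1) := by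
    rw [hN', Nat.gcd_add_mul_right_left]
  have hcop : Nat.Coprime N (r + 1) := by
    unfold Nat.Coprime
    rw [hN'', Nat.gcd_add_mul_right_left, Nat.gcd_one_left]
  rw [hsq, ← mul_assoc]
  have h1 : N ∣ k * (r + 2 + 1) * (r + 1) ↔ N ∣ k * (r + 2 + 1) :=
    ⟨fun h => hcop.dvd_of_dvd_mul_right h, fun h => Dvd.dvd.mul_right h _⟩
  rw [h1, ← hg]
  have hgpos : 0 < Nat.gcd N (r + 2 + 1) := Nat.gcd_pos_of_pos_right _ (by omega)
  have hc2 := Nat.coprime_div_gcd_div_gcd hgpos
  obtain ⟨N', hN1⟩ := Nat.gcd_dvd_left N (r + 2 + 1)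
  obtain ⟨m', hm1⟩ := Nat.gcd_dvd_right N (r + 2 + 1)
  obtain ⟨g, hgdef⟩ : ∃ g, g = Nat.gcd N (r + 2 + 1) := ⟨_, rfl⟩
  rw [← hgdef] at hgpos hc2 hN1 hm1 ⊢
  have e1 : N / g = N' := by
    rw [hN1]
    exact Nat.mul_div_cancel_left _ hgpos
  have e2 : (r + 2 + 1) / g = m' := by
    rw [hm1]
    exact Nat.mul_div_cancel_left _ hgpos
  rw [e1, e2] at hc2
  rw [e1, hm1, hN1]
  constructor
  · intro h
    have h2 : g * N' ∣ g * (k * m') := by
      have : g * (k * m') = k * (g * m') := by ring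
      rw [this]
      exact h
    have h3 := Nat.dvd_of_mul_dvd_mul_left hgpos h2
    exact hc2.dvd_of_dvd_mul_right h3
  · intro h
    obtain ⟨k', rfl⟩ := h
    exact ⟨k' * m', by ring⟩


section gen

variable {F : Type*} [Field F] [Fintype F] [DecidableEq F] {q : ℕ}
variable {L : Type*} [Field L] [Algebra F L] [Finite L]
variable {p : ℕ} [Fact p.Prime] [CharP F p]

/-- the involution `x ↦ x ^ q ^ 3` of the cubic extension -/
noncomputable def sig (F : Type*) [Field F] (L : Type*) [Field L] [Algebra F L] (p : ℕ)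
    [Fact p.Prime] [CharP F p] (j : ℕ) : L →+* L :=
  haveI : CharP L p := charP_of_injective_algebraMap (algebraMap F L).injective p
  iterateFrobenius L p (j * 3)

theorem sig_apply (j : ℕ) (hq : q = p ^ j) (x : L) : sig F L p j x = x ^ (q ^ 3) := by
  haveI : CharP L p := charP_of_injective_algebraMap (algebraMap F L).injective p
  unfold sig
  rw [iterateFrobenius_def, hq, pow_mul]

theorem sig_algebraMap (j : ℕ) (hq : q = p ^ j) (hF : Fintype.card F = q ^ 2) (a : F) :
    sig F L p j (algebraMap F L a) = algebraMap F L (a ^ q) := by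
  rw [sig_apply j hq, ← map_pow]
  congr 1
  have : q ^ 3 = q ^ 2 * q := by ring
  rw [this, pow_mul, ← hF, FiniteField.pow_card]

theorem sig_smul (j : ℕ) (hq : q = p ^ j) (hF : Fintype.card F = q ^ 2) (a : F) (x : L) :
    sig F L p j (a • x) = (a ^ q) • sig F L p j x := by
  rw [Algebra.smul_def, map_mul, sig_algebraMap j hq hF, ← Algebra.smul_def]

theorem sig_sig (j : ℕ) (hq : q = p ^ j) (hF : Fintype.card F = q ^ 2)
    (hL : Module.finrank F L = 3) (x : L) : sig F L p j (sig F L p j x) = x := by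
  rw [sig_apply j hq, sig_apply j hq, ← pow_mul]
  haveI : Fintype L := Fintype.ofFinite L
  have hcard : Fintype.card L = q ^ 3 * q ^ 3 := by
    have := @Module.natCard_eq_pow_finrank F L _ _ _ _
    rw [Nat.card_eq_fintype_card, Nat.card_eq_fintype_card, hL, hF] at this
    rw [this]
    ring
  rw [← hcard, FiniteField.pow_card]

end gen

section form

variable {F : Type*} [Field F] [Fintype F] [DecidableEq F] {q : ℕ}
variable {L : Type*} [Field L] [Algebra F L] [Finite L]
variable {p : ℕ} [Fact p.Prime] [CharP F p]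

/-- Gram matrix of the twisted trace form -/
noncomputable def gram (b : Module.Basis (Fin 3) F L) (j : ℕ) : Matrix (Fin 3) (Fin 3) F :=
  Matrix.of (fun i k => Algebra.trace F L (sig F L p j (b i) * b k))

theorem phi_expand (b : Module.Basis (Fin 3) F L) (j : ℕ) (hq : q = p ^ j)
    (hF : Fintype.card F = q ^ 2) (u v : Fin 3 → F) :
    Algebra.trace F L (sig F L p j (∑ i, u i • b i) * (∑ k, v k • b k)) =
      ∑ i, ∑ k, (u i) ^ q * gram (p := p) b j i k * v k := by
  rw [map_sum, Finset.sum_mul_sum, map_sum]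
  apply Finset.sum_congr rfl
  intro i _
  rw [map_sum]
  apply Finset.sum_congr rfl
  intro k _
  rw [sig_smul j hq hF, smul_mul_smul_comm, map_smul, smul_eq_mul]
  unfold gram
  rw [Matrix.of_apply]
  ring

theorem leftMul_expand (b : Module.Basis (Fin 3) F L) (c : L) (l : Fin 3) :
    c * b l = ∑ k, (Algebra.leftMulMatrix b c) k l • b k := by
  conv_lhs => rw [← b.sum_repr (c * b l)]
  apply Finset.sum_congr rfl
  intro k _
  rw [Algebra.leftMulMatrix_eq_repr_mul]

/-- multiplication by an element of norm one for the involution preserves the twisted trace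
form -/
theorem gram_invariant (b : Module.Basis (Fin 3) F L) (j : ℕ) (hq : q = p ^ j)
    (hF : Fintype.card F = q ^ 2) (c : L) (hc : sig F L p j c * c = 1) :
    ((Algebra.leftMulMatrix b c)ᵀ.map (fun x => x ^ q)) * gram (p := p) b j *
      Algebra.leftMulMatrix b c = gram (p := p) b j := by
  ext i' l
  have h1 := phi_expand (p := p) b j hq hF (fun i => Algebra.leftMulMatrix b c i i')
    (fun k => Algebra.leftMulMatrix b c k l)
  beta_reduce at h1
  rw [← leftMul_expand, ← leftMul_expand, map_mul (sig F L p j)] at h1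
  have h2 : sig F L p j c * sig F L p j (b i') * (c * b l) = sig F L p j (b i') * b l := by
    calc sig F L p j c * sig F L p j (b i') * (c * b l)
        = (sig F L p j c * c) * (sig F L p j (b i') * b l) := by ring
      _ = sig F L p j (b i') * b l := by rw [hc, one_mul]
  rw [h2] at h1
  rw [Matrix.mul_apply]
  simp only [Matrix.mul_apply, Matrix.map_apply, Matrix.transpose_apply]
  have h3 : gram (p := p) b j i' l = Algebra.trace F L (sig F L p j (b i') * b l) := rfl
  rw [h3, h1, Finset.sum_comm]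
  apply Finset.sum_congr rfl
  intro k _
  rw [Finset.sum_mul]

end form

section nondeg

variable {F : Type*} [Field F] [Fintype F] [DecidableEq F] {q : ℕ}
variable {L : Type*} [Field L] [Algebra F L] [Finite L]
variable {p : ℕ} [Fact p.Prime] [CharP F p]

theorem gram_mulVec (b : Module.Basis (Fin 3) F L) (j : ℕ) (v : Fin 3 → F) (i : Fin 3) :
    (gram (p := p) b j *ᵥ v) i = Algebra.trace F L (sig F L p j (b i) * ∑ k, v k • b k) := by
  unfold gram
  rw [Finset.mul_sum, map_sum]
  simp only [Matrix.mulVec, dotProduct, Matrix.of_apply]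
  apply Finset.sum_congr rfl
  intro k _
  rw [mul_smul_comm, map_smul, smul_eq_mul, mul_comm]

theorem gram_ker (b : Module.Basis (Fin 3) F L) (j : ℕ) (hq : q = p ^ j)
    (hF : Fintype.card F = q ^ 2) (hL : Module.finrank F L = 3) (v : Fin 3 → F)
    (hv : gram (p := p) b j *ᵥ v = 0) : v = 0 := by
  obtain ⟨y, hy⟩ : ∃ y : L, y = ∑ k, v k • b k := ⟨_, rfl⟩
  have h1 : ∀ i, Algebra.trace F L (sig F L p j (b i) * y) = 0 := by
    intro i
    rw [hy, ← gram_mulVec, hv]
    rfl
  have h2 : ∀ z : L, Algebra.trace F L (y * z) = 0 := by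
    intro z
    have hz : z = sig F L p j (∑ i, (b.repr (sig F L p j z) i) • b i) := by
      rw [b.sum_repr, sig_sig j hq hF hL]
    rw [mul_comm, hz, map_sum, Finset.sum_mul, map_sum]
    apply Finset.sum_eq_zero
    intro i _
    rw [sig_smul j hq hF, smul_mul_assoc, map_smul, h1, smul_zero]
  have h3 : y = 0 := by
    have hnd := traceForm_nondegenerate F L
    apply hnd.1 y
    intro z
    rw [Algebra.traceForm_apply]
    exact h2 z
  rw [hy] at h3
  funext i
  exact Fintype.linearIndependent_iff.mp b.linearIndependent v h3 i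

theorem gram_det_ne_zero (b : Module.Basis (Fin 3) F L) (j : ℕ) (hq : q = p ^ j)
    (hF : Fintype.card F = q ^ 2) (hL : Module.finrank F L = 3) :
    (gram (p := p) b j).det ≠ 0 := by
  intro hdet
  obtain ⟨v, hv0, hv⟩ := Matrix.exists_mulVec_eq_zero_iff.mpr hdet
  exact hv0 (gram_ker b j hq hF hL v hv)

end nondeg

section main

variable {F : Type*} [Field F] [Fintype F] [DecidableEq F] {q : ℕ}
variable {p : ℕ} [Fact p.Prime] [CharP F p]

theorem exists_E4_gen (L : Type*) [Field L] [Algebra F L] [Finite L] (j : ℕ) (hq : q = p ^ j)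
    (hF : Fintype.card F = q ^ 2) (hL : Module.finrank F L = 3) :
    ∃ M : Matrix (Fin 3) (Fin 3) F, IsUni F q 3 M ∧ M.det = 1 ∧
      ∀ k : ℕ, (∃ c : F, M ^ k = c • (1 : Matrix (Fin 3) (Fin 3) F)) ↔
        ((q ^ 2 - q + 1) / Nat.gcd 3 (q + 1)) ∣ k := by
  classical
  have hq2 := herm_two_le hF
  haveI : Fintype L := Fintype.ofFinite L
  have hcard : Fintype.card L = (q ^ 2) ^ 3 := by
    have := @Module.natCard_eq_pow_finrank F L _ _ _ _
    rw [Nat.card_eq_fintype_card, Nat.card_eq_fintype_card, hL, hF] at this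
    exact this
  obtain ⟨N, hN⟩ : ∃ N, N = q ^ 2 - q + 1 := ⟨_, rfl⟩
  have hNq : N + q = q ^ 2 + 1 := by
    have : q ≤ q ^ 2 := Nat.le_self_pow two_ne_zero _
    omega
  have hcube : q ^ 3 + 1 = (q + 1) * N := by
    rw [hN]
    exact SU3Invol.cube_add_one q
  have hNdvd : N ∣ Fintype.card L - 1 := by
    have e : (q ^ 2) ^ 3 = (q ^ 3) ^ 2 := by ring
    rw [hcard, e, SU3SpecD.sq_sub_one_eq (Nat.one_le_pow _ _ (by omega)), hcube]
    exact Dvd.dvd.mul_right (dvd_mul_left _ _) _
  obtain ⟨c, hc⟩ := SU3SpecD.exists_orderOf_eq (K := L) N hNdvd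
  have hcN : c ^ N = 1 := by
    rw [← hc]
    exact pow_orderOf_eq_one c
  have hN0 : N ≠ 0 := by omega
  have hc0 : c ≠ 0 := by
    rintro rfl
    rw [zero_pow hN0] at hcN
    exact zero_ne_one hcN
  have hc1 : c ^ (q ^ 3 + 1) = 1 := by
    rw [hcube, mul_comm, pow_mul, hcN, one_pow]
  have hsig : sig F L p j c * c = 1 := by
    rw [sig_apply j hq, ← pow_succ, hc1]
  obtain ⟨b⟩ : Nonempty (Module.Basis (Fin 3) F L) := ⟨Module.finBasisOfFinrankEq F L hL⟩
  have hA1 : Algebra.leftMulMatrix b c * Algebra.leftMulMatrix b c⁻¹ = 1 := by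
    rw [← map_mul, mul_inv_cancel₀ hc0, map_one]
  have hdet : (Algebra.leftMulMatrix b c).det = 1 := by
    rw [← Algebra.norm_eq_matrix_det b c]
    apply (algebraMap F L).injective
    rw [FiniteField.algebraMap_norm_eq_pow_sum, hL, map_one, Nat.card_eq_fintype_card, hF]
    have h4 : ∑ i ∈ Finset.range 3, (q ^ 2) ^ i = (q ^ 2 + q + 1) * N := by
      rw [Finset.sum_range_succ, Finset.sum_range_succ, Finset.sum_range_one]
      nlinarith [hNq]
    rw [h4, mul_comm, pow_mul, hcN, one_pow]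
  have hg := gram_det_ne_zero (p := p) b j hq hF hL
  refine SU3SpecD.transfer hF (Algebra.leftMulMatrix b c) _ (gram (p := p) b j)
    (gram (p := p) b j)⁻¹ hA1 (Matrix.nonsing_inv_mul _ (isUnit_iff_ne_zero.mpr hg))
    (gram_invariant b j hq hF c hsig) hdet _ ?_
  intro k
  rw [← arith_E4 q k hq2, ← hN, ← hc, orderOf_dvd_iff_pow_eq_one]
  have e1 : (∃ a : F, Algebra.leftMulMatrix b c ^ k = a • (1 : Matrix (Fin 3) (Fin 3) F)) ↔
      ∃ a : F, c ^ k = algebraMap F L a := by
    constructor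
    · rintro ⟨a, ha⟩
      refine ⟨a, ?_⟩
      apply Algebra.leftMulMatrix_injective b
      rw [map_pow, ha, AlgHom.commutes, Algebra.algebraMap_eq_smul_one]
    · rintro ⟨a, ha⟩
      refine ⟨a, ?_⟩
      rw [← map_pow, ha, AlgHom.commutes, Algebra.algebraMap_eq_smul_one]
  have e2 : (∃ a : F, c ^ k = algebraMap F L a) ↔ (c ^ k) ^ (Fintype.card F) = c ^ k := by
    constructor
    · rintro ⟨a, ha⟩
      rw [ha, ← map_pow, FiniteField.pow_card]
    · intro h
      obtain ⟨a, ha⟩ := SU3SpecC.mem_range_of_pow_card_eq (F := F) _ h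
      exact ⟨a, ha.symm⟩
  rw [e1, e2, hF]
  obtain ⟨r, hr⟩ : ∃ r, q ^ 2 = r + 1 := ⟨q ^ 2 - 1, by
    have : 1 ≤ q ^ 2 := Nat.one_le_pow _ _ (by omega)
    omega⟩
  have hr' : q ^ 2 - 1 = r := by omega
  rw [hr', hr]
  have e3 : (c ^ k) ^ (r + 1) = c ^ (k * r) * c ^ k := by ring
  rw [e3]
  constructor
  · intro h
    have h' : c ^ (k * r) * c ^ k = 1 * c ^ k := by rw [one_mul]; exact h
    exact mul_right_cancel₀ (pow_ne_zero _ hc0) h'
  · intro h
    rw [h, one_mul]

theorem exists_E4 (j : ℕ) (hq : q = p ^ j) (hF : Fintype.card F = q ^ 2) :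
    ∃ M : Matrix (Fin 3) (Fin 3) F, IsUni F q 3 M ∧ M.det = 1 ∧
      ∀ k : ℕ, (∃ c : F, M ^ k = c • (1 : Matrix (Fin 3) (Fin 3) F)) ↔
        ((q ^ 2 - q + 1) / Nat.gcd 3 (q + 1)) ∣ k :=
  exists_E4_gen (FiniteField.Extension F p 3) j hq hF (FiniteField.finrank_extension F p 3)

end main

end Cfsg.Agent.Lib.Helper9.SU3SpecE
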