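import Mathlib
import Cfsg.Prelude.Def_Classical
import Cfsg.Agent.Lib.Helper9.SU3SpecA
import Cfsg.Agent.Lib.Helper9.SU3SpecB
import Cfsg.Agent.Lib.Helper9.SU3SpecC

set_option autoImplicit false
set_option linter.unusedSectionVars false
set_option linter.unusedVariables false
set_option linter.style.haveILetI false

namespace Cfsg.Agent.Lib.Helper9.SU3SpecT1

open Cfsg.Agent.Lib.Helper14 Matrix Finset Polynomial

section T1

variable {F : Type*} [Field F] [Fintype F] [DecidableEq F] {q : ℕ}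

local notation "hh" => Cfsg.hermForm 3 F q

/-- a matrix whose characteristic polynomial is reducible has an eigenvector -/
theorem exists_eigen_of_not_irreducible (M : Matrix (Fin 3) (Fin 3) F)
    (h : ¬ Irreducible M.charpoly) : ∃ (a : F) (v : Fin 3 → F), v ≠ 0 ∧ M *ᵥ v = a • v := by
  have h3 : M.charpoly.natDegree = 3 := by
    rw [Matrix.charpoly_natDegree_eq_dim, Fintype.card_fin]
  have h1 : M.charpoly.roots ≠ 0 := by
    intro h0
    apply h
    rw [Polynomial.irreducible_iff_roots_eq_zero_of_degree_le_three (by omega) (by omega)]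
    exact h0
  obtain ⟨a, ha⟩ := Multiset.exists_mem_of_ne_zero h1
  have hm : M.charpoly ≠ 0 := (Matrix.charpoly_monic M).ne_zero
  rw [Polynomial.mem_roots hm, Polynomial.IsRoot, Matrix.eval_charpoly] at ha
  obtain ⟨v, hv0, hv⟩ := Matrix.exists_mulVec_eq_zero_iff.mpr ha
  refine ⟨a, v, hv0, ?_⟩
  rw [Matrix.sub_mulVec, sub_eq_zero] at hv
  rw [← hv]
  ext i
  simp [Matrix.mulVec, dotProduct, Matrix.scalar, Matrix.diagonal_apply]

/-- **upper bound for the spectrum**: some power of each special unitary matrix, with exponent one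
of the four numbers, is scalar -/
theorem pow_scalar {p : ℕ} [Fact p.Prime] [CharP F p] (hp : p ≠ 2) (j : ℕ) (hq : q = p ^ j)
    (hF : Fintype.card F = q ^ 2) (M : Matrix (Fin 3) (Fin 3) F) (hM : IsUni F q 3 M)
    (hdet : M.det = 1) :
    (∃ c : F, M ^ (q + 1) = c • (1 : Matrix (Fin 3) (Fin 3) F)) ∨
    (∃ c : F, M ^ (p * (q + 1) / Nat.gcd 3 (q + 1)) = c • (1 : Matrix (Fin 3) (Fin 3) F)) ∨
    (∃ c : F, M ^ ((q ^ 2 - 1) / Nat.gcd 3 (q + 1)) = c • (1 : Matrix (Fin 3) (Fin 3) F)) ∨
    (∃ c : F, M ^ ((q ^ 2 - q + 1) / Nat.gcd 3 (q + 1)) = c • (1 : Matrix (Fin 3) (Fin 3) F)) := by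
  have hodd : Odd q := by
    rw [hq]
    exact Odd.pow ((Nat.Prime.eq_two_or_odd' Fact.out).resolve_left hp)
  by_cases hirr : Irreducible M.charpoly
  · right; right; right
    exact SU3SpecC.singer_case j hq hF M hM hdet hirr
  · obtain ⟨a, v, hv0, hv⟩ := exists_eigen_of_not_irreducible M hirr
    by_cases hiso : ∃ w : Fin 3 → F, w ≠ 0 ∧ hh w w = 0 ∧ ∃ t : F, M *ᵥ w = t • w
    · obtain ⟨w, hw0, hww, t, ht⟩ := hiso
      rcases SU3SpecA.borel_case hp hF M hM hdet w hw0 hww t ht with h | h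
      · right; right; left; exact h
      · right; left; exact h
    · left
      push Not at hiso
      have hvv : hh v v ≠ 0 := fun h0 => hiso v hv0 h0 a hv
      refine ⟨1, ?_⟩
      rw [one_smul]
      exact SU3SpecB.noniso_case hodd hF M hM hdet v hvv a hv (fun w hw0 hww t => hiso w hw0 hww t)

end T1

end Cfsg.Agent.Lib.Helper9.SU3SpecT1
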