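import Mathlib

/-!
S2282 (planner helper13): leaf L3 = unital line closure, in an API-free abstract form (helper9).
`K` a field with an involution `σ`, `V` a `K`-module with a `σ`-hermitian form `h` (`Herm`), `R` a set of isotropic vectors closed
under scalars and chords `v ↦ v + c h(v,v') v'` (`σ c = -c`) (`RClosed`; for `R = Rt X` these are `Rt_smul` and `Rt_chord`).
For a Witt triple `E, D, F'` (`h E F' = 1`, `h D D = 1`, all other products `0`): if `E`, `F'` and one `β E + α D + F'` with `α ≠ 0`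
lie in `R` then every isotropic vector `x E + y D + z F'` lies in `R` (theorem `L3`).  Port of helper4's `SU3End.endgame3`.
-/

set_option autoImplicit false

namespace Cfsg.Agent.Lib.Helper9.SUL3

variable {K : Type*} [Field K] {V : Type*} [AddCommGroup V] [Module K V]

/-- `h` is a `σ`-hermitian form (linear in the first, `σ`-semilinear in the second variable) -/
structure Herm (σ : K →+* K) (h : V → V → K) : Prop where
  inv : ∀ x, σ (σ x) = x
  add_left : ∀ x x' y, h (x + x') y = h x y + h x' y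
  add_right : ∀ x y y', h x (y + y') = h x y + h x y'
  smul_left : ∀ (l : K) x y, h (l • x) y = l * h x y
  smul_right : ∀ (l : K) x y, h x (l • y) = σ l * h x y
  symm : ∀ x y, σ (h x y) = h y x

/-- `R` consists of isotropic vectors and is closed under scalars and chords -/
structure RClosed (σ : K →+* K) (h : V → V → K) (R : Set V) : Prop where
  iso : ∀ v ∈ R, h v v = 0
  smul : ∀ (l : K) (v : V), v ∈ R → l • v ∈ R
  chord : ∀ v v' : V, v ∈ R → v' ∈ R → ∀ c : K, σ c = -c → v + (c * h v v') • v' ∈ R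

/-- `E, D, F'` is a Witt triple -/
structure Witt (h : V → V → K) (E D F' : V) : Prop where
  EE : h E E = 0
  FF : h F' F' = 0
  EF : h E F' = 1
  DD : h D D = 1
  ED : h E D = 0
  FD : h F' D = 0

section

variable {σ : K →+* K} {h : V → V → K} {E D F' : V}

/-- the vector `x E + y D + z F'` -/
def cmb (E D F' : V) (x y z : K) : V := x • E + y • D + z • F'

theorem cmb_add (x y z x' y' z' : K) :
    cmb E D F' x y z + cmb E D F' x' y' z' = cmb E D F' (x + x') (y + y') (z + z') := by
  unfold cmb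
  rw [add_smul, add_smul, add_smul]
  abel

theorem cmb_smul (l x y z : K) : l • cmb E D F' x y z = cmb E D F' (l * x) (l * y) (l * z) := by
  unfold cmb
  rw [smul_add, smul_add, smul_smul, smul_smul, smul_smul]

theorem cmb_congr {x y z x' y' z' : K} (hx : x = x') (hy : y = y') (hz : z = z') :
    cmb E D F' x y z = cmb E D F' x' y' z' := by rw [hx, hy, hz]

theorem cmb_E : cmb E D F' (1 : K) 0 0 = E := by
  unfold cmb
  rw [one_smul, zero_smul, zero_smul, add_zero, add_zero]

theorem cmb_F : cmb E D F' (0 : K) 0 1 = F' := by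
  unfold cmb
  rw [one_smul, zero_smul, zero_smul, zero_add, zero_add]

theorem Witt.FE (hh : Herm σ h) (hw : Witt h E D F') : h F' E = 1 := by
  rw [← hh.symm, hw.EF, map_one]

theorem Witt.DE (hh : Herm σ h) (hw : Witt h E D F') : h D E = 0 := by
  rw [← hh.symm, hw.ED, map_zero]

theorem Witt.DF (hh : Herm σ h) (hw : Witt h E D F') : h D F' = 0 := by
  rw [← hh.symm, hw.FD, map_zero]

/-- the form on combinations -/
theorem h_cmb (hh : Herm σ h) (hw : Witt h E D F') (x y z x' y' z' : K) :
    h (cmb E D F' x y z) (cmb E D F' x' y' z') = x * σ z' + y * σ y' + z * σ x' := by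
  unfold cmb
  simp only [hh.add_left, hh.add_right, hh.smul_left, hh.smul_right, hw.EE, hw.FF, hw.EF, hw.DD,
    hw.ED, hw.FD, hw.FE hh, hw.DE hh, hw.DF hh]
  ring

/-- the point `b E + σ a D + F'` -/
def Pt (σ : K →+* K) (E D F' : V) (a b : K) : V := cmb E D F' b (σ a) 1

theorem h_Pt_Pt (hh : Herm σ h) (hw : Witt h E D F') (a b a' b' : K) :
    h (Pt σ E D F' a b) (Pt σ E D F' a' b') = b + σ a * a' + σ b' := by
  unfold Pt
  rw [h_cmb hh hw, map_one, hh.inv]
  ring

theorem h_Pt_E (hh : Herm σ h) (hw : Witt h E D F') (a b : K) :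
    h (Pt σ E D F' a b) E = 1 := by
  have : h (Pt σ E D F' a b) (cmb E D F' (1 : K) 0 0) = 1 := by
    unfold Pt
    rw [h_cmb hh hw]
    simp only [map_zero, map_one]
    ring
  rwa [cmb_E] at this

variable {R : Set V}

/-- lines through `E` -/
theorem Pt_line (hh : Herm σ h) (hw : Witt h E D F') (hR : RClosed σ h R) (he : E ∈ R)
    {a b₀ : K} (h0 : Pt σ E D F' a b₀ ∈ R) (b : K) (hb : b + σ b + σ a * a = 0) :
    Pt σ E D F' a b ∈ R := by
  have hb0 : b₀ + σ b₀ + σ a * a = 0 := by
    have := hR.iso _ h0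
    rw [h_Pt_Pt hh hw] at this
    linear_combination this
  have hr : σ (b - b₀) = -(b - b₀) := by
    rw [map_sub]; linear_combination hb - hb0
  have := hR.chord _ _ h0 he (b - b₀) hr
  rw [h_Pt_E hh hw, mul_one] at this
  have e : Pt σ E D F' a b₀ + (b - b₀) • E = Pt σ E D F' a b := by
    have eE : (b - b₀) • E = cmb E D F' (b - b₀) 0 0 := by
      unfold cmb
      rw [zero_smul, zero_smul, add_zero, add_zero]
    rw [eE]
    unfold Pt
    rw [cmb_add]
    apply cmb_congr <;> ring
  rwa [e] at this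

/-- the line through two points with different parameters -/
theorem Pt_affine (hh : Herm σ h) (hw : Witt h E D F') (hR : RClosed σ h R) (he : E ∈ R)
    {a b₀ a' b' : K} (h0 : Pt σ E D F' a b₀ ∈ R) (h1 : Pt σ E D F' a' b' ∈ R)
    (haa : a ≠ a') (z : K) (hz : σ z ≠ z) :
    ∃ b'', Pt σ E D F' (a + z * (a' - a)) b'' ∈ R := by
  have hσ := hh.inv
  have hb0 : b₀ + σ b₀ + σ a * a = 0 := by
    have := hR.iso _ h0
    rw [h_Pt_Pt hh hw] at this
    linear_combination this
  have hb' : b' + σ b' + σ a' * a' = 0 := by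
    have := hR.iso _ h1
    rw [h_Pt_Pt hh hw] at this
    linear_combination this
  have hz1 : 1 - z ≠ 0 := by
    intro h
    apply hz
    have : z = 1 := by linear_combination -h
    rw [this, map_one]
  have hz1' : 1 - σ z ≠ 0 := by
    intro h
    apply hz
    have h' : σ z = 1 := by linear_combination -h
    have := congrArg σ h'
    rw [hσ, map_one] at this
    rw [this, map_one]
  set y₀ := σ z / (1 - σ z) with hy
  have hsy : σ y₀ = z / (1 - z) := by
    rw [hy, map_div₀, map_sub, map_one, hσ]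
  set η₀ := b₀ + σ a * a' + σ b' with hη
  have hsη : σ η₀ = σ b₀ + a * σ a' + b' := by
    rw [hη, map_add, map_add, map_mul, hσ, hσ]
  set Dd := η₀ + σ η₀ with hD
  have hDv : Dd = -((a - a') * (σ a - σ a')) := by
    rw [hD, hsη, hη]; linear_combination hb0 + hb'
  have hD0 : Dd ≠ 0 := by
    rw [hDv, neg_ne_zero]
    apply mul_ne_zero (sub_ne_zero.2 haa)
    intro h
    apply haa
    have := congrArg σ (sub_eq_zero.1 h)
    rwa [hσ, hσ] at this
  have hsD : σ Dd = Dd := by
    rw [hD, map_add, hσ]; ring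
  have hyy : y₀ - σ y₀ ≠ 0 := by
    rw [hsy, hy]
    intro h
    apply hz
    field_simp at h
    linear_combination h
  set c := (y₀ - σ y₀) / Dd with hc
  have hc0 : c ≠ 0 := div_ne_zero hyy hD0
  have hsc : σ c = -c := by
    rw [hc, map_div₀, map_sub, hσ, hsD]; ring
  set r := y₀ / c - η₀ with hr
  have key : y₀ - σ y₀ = c * Dd := by
    rw [hc]; field_simp
  have hsr : σ r = -r := by
    have h2 : σ η₀ = Dd - η₀ := by rw [hD]; ring
    have e' : y₀ / c - σ y₀ / c = Dd := by
      rw [← sub_div, key]; field_simp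
    rw [hr, map_sub, map_div₀, hsc, h2, div_neg]
    linear_combination e'
  have hb : (b₀ + r) + σ (b₀ + r) + σ a * a = 0 := by
    rw [map_add, hsr]; linear_combination hb0
  have h0' := Pt_line hh hw hR he h0 (b₀ + r) hb
  have hch := hR.chord _ _ h0' h1 c hsc
  rw [h_Pt_Pt hh hw] at hch
  have hcη : c * (b₀ + r + σ a * a' + σ b') = y₀ := by
    have : b₀ + r + σ a * a' + σ b' = y₀ / c := by rw [hr, hη]; ring
    rw [this]; field_simp
  rw [hcη] at hch
  have h1y : 1 + y₀ ≠ 0 := by
    rw [hy]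
    intro h
    field_simp at h
    simp at h
  have hsm := hR.smul (1 + y₀)⁻¹ _ hch
  refine ⟨(1 + y₀)⁻¹ * (b₀ + r + y₀ * b'), ?_⟩
  have e : (1 + y₀)⁻¹ • (Pt σ E D F' a (b₀ + r) + y₀ • Pt σ E D F' a' b') =
      Pt σ E D F' (a + z * (a' - a)) ((1 + y₀)⁻¹ * (b₀ + r + y₀ * b')) := by
    have e1 : (1 + y₀)⁻¹ * (σ a + y₀ * σ a') = σ (a + z * (a' - a)) := by
      rw [map_add, map_mul, map_sub, hy]
      field_simp
      ring
    have e2 : (1 + y₀)⁻¹ * (1 + y₀ * 1) = 1 := by
      rw [mul_one]; field_simp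
    unfold Pt
    rw [cmb_smul, cmb_add, cmb_smul]
    exact cmb_congr rfl e1 e2
  rwa [e] at hsm

/-- all parameters occur -/
theorem Pt_all (hh : Herm σ h) (hw : Witt h E D F') (hR : RClosed σ h R) (hne : ∃ z, σ z ≠ z)
    (he : E ∈ R) {a₁ b₁ a₂ b₂ : K} (h1 : Pt σ E D F' a₁ b₁ ∈ R) (h2 : Pt σ E D F' a₂ b₂ ∈ R)
    (h12 : a₁ ≠ a₂) (a : K) : ∃ b, Pt σ E D F' a b ∈ R := by
  have hσ := hh.inv
  have hd : a₂ - a₁ ≠ 0 := sub_ne_zero.2 (Ne.symm h12)
  set z := (a - a₁) / (a₂ - a₁) with hz
  have ha : a = a₁ + z * (a₂ - a₁) := by rw [hz]; field_simp; ring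
  by_cases hzz : σ z = z
  · obtain ⟨z₁, hz₁⟩ := hne
    have hz10 : z₁ ≠ 0 := by
      rintro rfl
      exact hz₁ (map_zero σ)
    obtain ⟨b₃, h3⟩ := Pt_affine hh hw hR he h1 h2 h12 z₁ hz₁
    by_cases hz0 : z = 0
    · exact ⟨b₁, by rw [ha, hz0, zero_mul, add_zero]; exact h1⟩
    · have h13 : a₁ ≠ a₁ + z₁ * (a₂ - a₁) := by
        intro h
        have : z₁ * (a₂ - a₁) = 0 := by linear_combination -h
        rcases mul_eq_zero.1 this with h | h
        · exact hz10 h
        · exact hd h
      have hzz' : σ (z / z₁) ≠ z / z₁ := by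
        rw [map_div₀, hzz]
        intro h
        apply hz₁
        have hs0 : σ z₁ ≠ 0 := by
          intro h0
          have := congrArg σ h0
          rw [hσ, map_zero] at this
          exact hz10 this
        have h' := (div_eq_div_iff hs0 hz10).1 h
        exact (mul_left_cancel₀ hz0 h').symm
      obtain ⟨b, hb⟩ := Pt_affine hh hw hR he h1 h3 h13 (z / z₁) hzz'
      refine ⟨b, ?_⟩
      have : a = a₁ + z / z₁ * (a₁ + z₁ * (a₂ - a₁) - a₁) := by
        rw [ha]; field_simp; ring
      rw [this]; exact hb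
  · obtain ⟨b, hb⟩ := Pt_affine hh hw hR he h1 h2 h12 z hzz
    exact ⟨b, by rw [ha]; exact hb⟩

/-- **L3, point form**: `E`, and two points `Pt a₁ b₁`, `Pt a₂ b₂` with `a₁ ≠ a₂` in `R` give every isotropic vector of the
Witt triple span -/
theorem L3_pts (hh : Herm σ h) (hw : Witt h E D F') (hR : RClosed σ h R) (hne : ∃ z, σ z ≠ z)
    (he : E ∈ R) {a₁ b₁ a₂ b₂ : K} (h1 : Pt σ E D F' a₁ b₁ ∈ R) (h2 : Pt σ E D F' a₂ b₂ ∈ R)
    (h12 : a₁ ≠ a₂) (x y z : K)
    (hv : h (cmb E D F' x y z) (cmb E D F' x y z) = 0) : cmb E D F' x y z ∈ R := by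
  have hσ := hh.inv
  rw [h_cmb hh hw] at hv
  by_cases hz0 : z = 0
  · rw [hz0, map_zero, mul_zero, zero_mul, zero_add, add_zero] at hv
    have hy0 : y = 0 := by
      rcases mul_eq_zero.1 hv with h | h
      · exact h
      · have := congrArg σ h
        rwa [hσ, map_zero] at this
    have : cmb E D F' x y z = x • E := by
      rw [hy0, hz0]
      unfold cmb
      rw [zero_smul, zero_smul, add_zero, add_zero]
    rw [this]
    exact hR.smul _ _ he
  · obtain ⟨b₀, hb₀⟩ := Pt_all hh hw hR hne he h1 h2 h12 (σ (y / z))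
    have hs2 : σ z ≠ 0 := by
      intro h
      have := congrArg σ h
      rw [hσ, map_zero] at this
      exact hz0 this
    have hb : x / z + σ (x / z) + σ (σ (y / z)) * σ (y / z) = 0 := by
      rw [hσ, map_div₀, map_div₀]
      field_simp
      linear_combination hv
    have := Pt_line hh hw hR he hb₀ (x / z) hb
    have e : cmb E D F' x y z = z • Pt σ E D F' (σ (y / z)) (x / z) := by
      unfold Pt
      rw [cmb_smul, hσ]
      apply cmb_congr <;> field_simp
    rw [e]
    exact hR.smul _ _ this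

/-- **L3** (unital line closure): `E`, `F'` and one `β E + α D + F'` with `α ≠ 0` in `R` give every isotropic vector
`x E + y D + z F'` -/
theorem L3 (hh : Herm σ h) (hw : Witt h E D F') (hR : RClosed σ h R) (hne : ∃ z, σ z ≠ z)
    (he : E ∈ R) (hf : F' ∈ R) {α β : K} (hP : β • E + α • D + F' ∈ R) (hα : α ≠ 0) (x y z : K)
    (hv : h (x • E + y • D + z • F') (x • E + y • D + z • F') = 0) :
    x • E + y • D + z • F' ∈ R := by
  have hσ := hh.inv
  have h1 : Pt σ E D F' 0 0 ∈ R := by
    have : Pt σ E D F' 0 0 = F' := by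
      unfold Pt
      rw [map_zero]
      exact cmb_F (K := K)
    rw [this]; exact hf
  have h2 : Pt σ E D F' (σ α) β ∈ R := by
    have : Pt σ E D F' (σ α) β = β • E + α • D + F' := by
      unfold Pt cmb
      rw [hσ, one_smul]
    rw [this]; exact hP
  have h12 : (0 : K) ≠ σ α := by
    intro h0
    apply hα
    have := congrArg σ h0
    rw [hσ, map_zero] at this
    exact this.symm
  exact L3_pts hh hw hR hne he h1 h2 h12 x y z hv

end

end Cfsg.Agent.Lib.Helper9.SUL3
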