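/-
helper9: S4394 leaf (N2) `frame_P_eq_sylow`: for a generating frame with `P` a `p`-group and `y` of order `q^r`,
`𝔣.P` is the Sylow `p`-subgroup.
-/
import Mathlib
import Cfsg.Prelude.Def_Transfer
import Cfsg.Prelude.Def_SolvableStructure
import Cfsg.Prelude.Def_Local
import Cfsg.Prelude.Def_CaseTheorems
import Cfsg.Agent.Lib.Helper21.SchDefs
import Cfsg.Agent.Lib.Helper21.SchPDefs
import Cfsg.Agent.Lib.Helper22.SchNORM
import Cfsg.Agent.Lib.Helper17.SchCARD
import Cfsg.Agent.Lib.Helper24.PSolvable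

set_option autoImplicit false
universe u v
open Cfsg
open Cfsg.Agent.Lib.Helper21.Sch
open Cfsg.Agent.Lib.Helper21.SchP

namespace Cfsg.Agent.Lib.Helper9.SchPN2

section frames
variable {p : ℕ} [Fact p.Prime] {K : Type*} [Field K] {ω : K} {X : Type*} [Group X]

/-- **TAG N2** -/
theorem frame_P_eq_sylow [Finite X] (𝔣 : Frame p ω X) (q r : ℕ) [Fact q.Prime] (hpq : p ≠ q)
    (hgen : 𝔣.IsGen) (hP : IsPGroup p 𝔣.P) (hy : orderOf 𝔣.y = q ^ r) (P : Sylow p X) :
    𝔣.P = (P : Subgroup X) := by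
  have hN : 𝔣.P.Normal := Cfsg.Agent.Lib.Helper22.SchNORM.normal_of_frame 𝔣 hgen
  have hle : 𝔣.P ≤ (P : Subgroup X) := Cfsg.Agent.Lib.Helper24.normal_pgroup_le_sylow 𝔣.P hP P
  have hcard : Nat.card X = Nat.card 𝔣.P * q ^ r :=
    Cfsg.Agent.Lib.Helper17.SchCARD.card_eq_of_frame 𝔣 q r hpq hgen hP hy
  obtain ⟨n, hn⟩ := IsPGroup.iff_card.mp P.isPGroup'
  have hdvd : Nat.card (P : Subgroup X) ∣ Nat.card 𝔣.P * q ^ r := by
    rw [← hcard]; exact Subgroup.card_subgroup_dvd_card _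
  have hcop : Nat.Coprime (Nat.card (P : Subgroup X)) (q ^ r) := by
    rw [hn]
    apply Nat.Coprime.pow
    exact (Nat.coprime_primes (Fact.out : p.Prime) (Fact.out : q.Prime)).mpr hpq
  have hdvd' : Nat.card (P : Subgroup X) ∣ Nat.card 𝔣.P := hcop.dvd_of_dvd_mul_right hdvd
  have hle' : Nat.card (P : Subgroup X) ≤ Nat.card 𝔣.P := Nat.le_of_dvd Nat.card_pos hdvd'
  have hset : (𝔣.P : Set X) = ((P : Subgroup X) : Set X) := by
    apply Set.eq_of_subset_of_ncard_le (fun x hx => hle hx) _ (Set.toFinite _)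
    rw [← Nat.card_coe_set_eq, ← Nat.card_coe_set_eq]
    exact hle'
  exact SetLike.coe_injective hset

end frames

end Cfsg.Agent.Lib.Helper9.SchPN2
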