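/-
Helper9 library: structure of a field subalgebra `K` of `M_n(F)` of degree `n` (`F` finite):
evaluation at a vector, the centraliser, eigenvectors of normalising elements (for `n` prime), and
the Frobenius matrix (an element `s` with `s ^ n = 1` normalising `K`, with a cyclic vector).
-/
import Mathlib
import Cfsg.Prelude.Def_GeometricClasses
import Cfsg.Agent.Lib.Helper9.FieldNorm
import Cfsg.Agent.Lib.Helper9.Ord3A

set_option autoImplicit false
set_option linter.unusedSectionVars false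
set_option linter.style.haveILetI false

namespace Cfsg.Agent.Lib.Helper9.SingerN

open Matrix Polynomial

variable {F : Type*} [Field F] [Fintype F] {n : ℕ} [NeZero n]
variable (K : Subalgebra F (Matrix (Fin n) (Fin n) F))

/-- evaluation of the subalgebra at a vector -/
def evalAt (v₀ : Fin n → F) : ↥K →ₗ[F] (Fin n → F) where
  toFun k := (k : Matrix (Fin n) (Fin n) F) *ᵥ v₀
  map_add' a b := by simp [Matrix.add_mulVec]
  map_smul' c a := by simp [Matrix.smul_mulVec]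

@[simp] theorem evalAt_apply (v₀ : Fin n → F) (k : ↥K) :
    evalAt K v₀ k = (k : Matrix (Fin n) (Fin n) F) *ᵥ v₀ := rfl

theorem evalAt_injective (hi : ∀ x ∈ K, x ≠ 0 → ∃ y ∈ K, x * y = 1) {v₀ : Fin n → F}
    (hv₀ : v₀ ≠ 0) : Function.Injective (evalAt K v₀) := by
  rw [← LinearMap.ker_eq_bot, LinearMap.ker_eq_bot']
  intro k hk
  by_contra hne
  obtain ⟨y, hy, hxy⟩ := hi k.1 k.2 (fun h => hne (Subtype.ext h))
  have hyx : y * k.1 = 1 := mul_eq_one_comm.mp hxy
  apply hv₀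
  calc v₀ = (y * k.1) *ᵥ v₀ := by rw [hyx, Matrix.one_mulVec]
    _ = y *ᵥ (k.1 *ᵥ v₀) := by rw [Matrix.mulVec_mulVec]
    _ = 0 := by rw [show k.1 *ᵥ v₀ = 0 from hk, Matrix.mulVec_zero]

theorem evalAt_surjective (hi : ∀ x ∈ K, x ≠ 0 → ∃ y ∈ K, x * y = 1)
    (hr : Module.finrank F K = n) {v₀ : Fin n → F}
    (hv₀ : v₀ ≠ 0) : Function.Surjective (evalAt K v₀) := by
  have hfin : Module.finrank F ↥K = Module.finrank F (Fin n → F) := by
    rw [hr]; simp
  exact (LinearMap.injective_iff_surjective_of_finrank_eq_finrank hfin).mp (evalAt_injective K hi hv₀)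

/-- the evaluation as a linear equivalence -/
noncomputable def evalEquiv (hi : ∀ x ∈ K, x ≠ 0 → ∃ y ∈ K, x * y = 1)
    (hr : Module.finrank F K = n) {v₀ : Fin n → F} (hv₀ : v₀ ≠ 0) : ↥K ≃ₗ[F] (Fin n → F) :=
  LinearEquiv.ofBijective (evalAt K v₀) ⟨evalAt_injective K hi hv₀, evalAt_surjective K hi hr hv₀⟩

theorem single_ne_zero : (Pi.single 0 1 : Fin n → F) ≠ 0 := by
  intro h
  have := congrFun h 0
  simp at this

/-- a matrix commuting with the whole of `K` lies in `K` -/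
theorem mem_of_commute (hc : ∀ x ∈ K, ∀ y ∈ K, x * y = y * x)
    (hi : ∀ x ∈ K, x ≠ 0 → ∃ y ∈ K, x * y = 1)
    (hr : Module.finrank F K = n) (g : Matrix (Fin n) (Fin n) F)
    (hg : ∀ k ∈ K, g * k = k * g) : g ∈ K := by
  have hv₀ : (Pi.single 0 1 : Fin n → F) ≠ 0 := single_ne_zero
  obtain ⟨k₀, hk₀⟩ := evalAt_surjective K hi hr hv₀ (g *ᵥ (Pi.single 0 1))
  rw [evalAt_apply] at hk₀
  suffices h : g = k₀.1 by rw [h]; exact k₀.2
  apply Matrix.toLin'.injective
  apply LinearMap.ext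
  intro v
  obtain ⟨k, rfl⟩ := evalAt_surjective K hi hr hv₀ v
  rw [Matrix.toLin'_apply, Matrix.toLin'_apply, evalAt_apply, Matrix.mulVec_mulVec,
    Matrix.mulVec_mulVec, hg k.1 k.2, ← Matrix.mulVec_mulVec, ← hk₀, Matrix.mulVec_mulVec,
    hc k.1 k.2 k₀.1 k₀.2]

/-- the elements of `K` commuting with a given matrix -/
def centSub (g : Matrix (Fin n) (Fin n) F) : Subalgebra F ↥K where
  carrier := {x | g * x.1 = x.1 * g}
  mul_mem' := by
    intro a b ha hb
    simp only [Set.mem_ofPred_eq] at ha hb ⊢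
    rw [Subalgebra.coe_mul, ← mul_assoc, ha, mul_assoc, hb, mul_assoc]
  add_mem' := by
    intro a b ha hb
    simp only [Set.mem_ofPred_eq] at ha hb ⊢
    rw [Subalgebra.coe_add, mul_add, add_mul, ha, hb]
  algebraMap_mem' := by
    intro c
    simp only [Set.mem_ofPred_eq]
    rw [Subalgebra.coe_algebraMap, Algebra.algebraMap_eq_smul_one]
    simp

/-- an element of the normaliser of `K` with a two-dimensional eigenspace is a scalar -/
theorem scalar_of_eigen (hc : ∀ x ∈ K, ∀ y ∈ K, x * y = y * x)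
    (hi : ∀ x ∈ K, x ≠ 0 → ∃ y ∈ K, x * y = 1)
    (hr : Module.finrank F K = n) (hp : n.Prime) (g : GL (Fin n) F)
    (hg : g ∈ Cfsg.Geo.subalgebraNormalizer K) (c : F) (w₁ w₂ : Fin n → F)
    (hind : LinearIndependent F ![w₁, w₂])
    (h₁ : (g : Matrix (Fin n) (Fin n) F) *ᵥ w₁ = c • w₁)
    (h₂ : (g : Matrix (Fin n) (Fin n) F) *ᵥ w₂ = c • w₂) :
    (g : Matrix (Fin n) (Fin n) F) = c • (1 : Matrix (Fin n) (Fin n) F) := by
  have hw₁ : w₁ ≠ 0 := hind.ne_zero 0
  have hgi : ((g⁻¹ : GL (Fin n) F) : Matrix (Fin n) (Fin n) F) * (g : Matrix (Fin n) (Fin n) F) = 1 := by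
    rw [← Units.val_mul, inv_mul_cancel, Units.val_one]
  have hgi' : (g : Matrix (Fin n) (Fin n) F) * ((g⁻¹ : GL (Fin n) F) : Matrix (Fin n) (Fin n) F) = 1 := by
    rw [← Units.val_mul, mul_inv_cancel, Units.val_one]
  have hc0 : c ≠ 0 := by
    intro h0
    apply hw₁
    calc w₁ = (((g⁻¹ : GL (Fin n) F) : Matrix (Fin n) (Fin n) F) * (g : Matrix (Fin n) (Fin n) F)) *ᵥ w₁ := by
          rw [hgi, Matrix.one_mulVec]
      _ = 0 := by rw [← Matrix.mulVec_mulVec, h₁, h0, zero_smul, Matrix.mulVec_zero]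
  have hinv₁ : ((g⁻¹ : GL (Fin n) F) : Matrix (Fin n) (Fin n) F) *ᵥ w₁ = c⁻¹ • w₁ := by
    have : w₁ = c • (((g⁻¹ : GL (Fin n) F) : Matrix (Fin n) (Fin n) F) *ᵥ w₁) := by
      calc w₁ = (((g⁻¹ : GL (Fin n) F) : Matrix (Fin n) (Fin n) F) * (g : Matrix (Fin n) (Fin n) F)) *ᵥ w₁ := by
            rw [hgi, Matrix.one_mulVec]
        _ = _ := by rw [← Matrix.mulVec_mulVec, h₁, Matrix.mulVec_smul]
    rw [this, smul_smul, inv_mul_cancel₀ hc0, one_smul, ← this]
  obtain ⟨k, hk⟩ := evalAt_surjective K hi hr hw₁ w₂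
  rw [evalAt_apply] at hk
  have hk' : (g : Matrix (Fin n) (Fin n) F) * k.1 * ((g⁻¹ : GL (Fin n) F) : Matrix (Fin n) (Fin n) F) ∈ K :=
    (hg k.1).mp k.2
  have hk'w : ((g : Matrix (Fin n) (Fin n) F) * k.1 * ((g⁻¹ : GL (Fin n) F) : Matrix (Fin n) (Fin n) F)) *ᵥ w₁ = w₂ := by
    rw [← Matrix.mulVec_mulVec, hinv₁, Matrix.mulVec_smul, ← Matrix.mulVec_mulVec, hk, h₂, smul_smul,
      inv_mul_cancel₀ hc0, one_smul]
  have hkk : (⟨_, hk'⟩ : ↥K) = k := by
    apply evalAt_injective K hi hw₁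
    rw [evalAt_apply, evalAt_apply, hk]
    exact hk'w
  have hcomm : (g : Matrix (Fin n) (Fin n) F) * k.1 = k.1 * (g : Matrix (Fin n) (Fin n) F) := by
    have h := congrArg Subtype.val hkk
    simp only at h
    calc (g : Matrix (Fin n) (Fin n) F) * k.1
        = (g : Matrix (Fin n) (Fin n) F) * k.1 * (((g⁻¹ : GL (Fin n) F) : Matrix (Fin n) (Fin n) F) * (g : Matrix (Fin n) (Fin n) F)) := by
          rw [hgi, mul_one]
      _ = k.1 * (g : Matrix (Fin n) (Fin n) F) := by rw [← mul_assoc, h]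
  -- the centraliser is everything
  haveI : Nonempty (Fin n) := ⟨0⟩
  letI := FieldNorm.fieldOf K hc hi
  have hsimple : IsSimpleOrder (Subalgebra F ↥K) :=
    Subalgebra.isSimpleOrder_of_finrank_prime F ↥K (by rw [hr]; exact hp)
  have hkC : k ∈ centSub K (g : Matrix (Fin n) (Fin n) F) := hcomm
  rcases hsimple.eq_bot_or_eq_top (centSub K (g : Matrix (Fin n) (Fin n) F)) with hbot | htop
  · exfalso
    rw [hbot, Algebra.mem_bot] at hkC
    obtain ⟨a, ha⟩ := hkC
    have hka : k.1 = a • (1 : Matrix (Fin n) (Fin n) F) := by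
      rw [← ha, Subalgebra.coe_algebraMap, Algebra.algebraMap_eq_smul_one]
    rw [hka, Matrix.smul_mulVec, Matrix.one_mulVec] at hk
    exact (LinearIndependent.pair_iff' hw₁).mp hind a hk
  · have hall : ∀ x ∈ K, (g : Matrix (Fin n) (Fin n) F) * x = x * (g : Matrix (Fin n) (Fin n) F) := by
      intro x hx
      have : (⟨x, hx⟩ : ↥K) ∈ centSub K (g : Matrix (Fin n) (Fin n) F) := by rw [htop]; exact Algebra.mem_top
      exact this
    have hgK : (g : Matrix (Fin n) (Fin n) F) ∈ K := mem_of_commute K hc hi hr _ hall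
    have hsub : (g : Matrix (Fin n) (Fin n) F) - c • 1 ∈ K :=
      K.sub_mem hgK (K.smul_mem K.one_mem c)
    have h0 : (⟨_, hsub⟩ : ↥K) = 0 := by
      apply evalAt_injective K hi hw₁
      rw [evalAt_apply, map_zero]
      show ((g : Matrix (Fin n) (Fin n) F) - c • 1) *ᵥ w₁ = 0
      rw [Matrix.sub_mulVec, h₁, Matrix.smul_mulVec, Matrix.one_mulVec, sub_self]
    have := congrArg Subtype.val h0
    exact sub_eq_zero.mp this

/-- an element of `SL_n(F)` with a two-dimensional eigenspace which is not the corresponding scalar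
has no conjugate in the normaliser of `K` -/
theorem not_conj_of_eigen (hc : ∀ x ∈ K, ∀ y ∈ K, x * y = y * x)
    (hi : ∀ x ∈ K, x ≠ 0 → ∃ y ∈ K, x * y = 1)
    (hr : Module.finrank F K = n) (hp : n.Prime)
    (x : Matrix.SpecialLinearGroup (Fin n) F) (c : F) (w₁ w₂ : Fin n → F)
    (hind : LinearIndependent F ![w₁, w₂])
    (h₁ : (x : Matrix (Fin n) (Fin n) F) *ᵥ w₁ = c • w₁)
    (h₂ : (x : Matrix (Fin n) (Fin n) F) *ᵥ w₂ = c • w₂)
    (hns : (x : Matrix (Fin n) (Fin n) F) ≠ c • (1 : Matrix (Fin n) (Fin n) F))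
    (P : Matrix.SpecialLinearGroup (Fin n) F) :
    P⁻¹ * x * P ∉ (Cfsg.Geo.subalgebraNormalizer K).comap
        (Matrix.SpecialLinearGroup.toGL : Matrix.SpecialLinearGroup (Fin n) F →* GL (Fin n) F) := by
  intro hmem
  rw [Subgroup.mem_comap] at hmem
  obtain ⟨Q, hQ⟩ : ∃ Q : Matrix (Fin n) (Fin n) F, Q = ((P⁻¹ : Matrix.SpecialLinearGroup (Fin n) F) : Matrix (Fin n) (Fin n) F) :=
    ⟨_, rfl⟩
  have hQP : Q * (P : Matrix (Fin n) (Fin n) F) = 1 := by
    rw [hQ, ← Matrix.SpecialLinearGroup.coe_mul, inv_mul_cancel, Matrix.SpecialLinearGroup.coe_one]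
  have hPQ : (P : Matrix (Fin n) (Fin n) F) * Q = 1 := by
    rw [hQ, ← Matrix.SpecialLinearGroup.coe_mul, mul_inv_cancel, Matrix.SpecialLinearGroup.coe_one]
  have hgval : ((Matrix.SpecialLinearGroup.toGL (P⁻¹ * x * P) : GL (Fin n) F) : Matrix (Fin n) (Fin n) F)
      = Q * (x : Matrix (Fin n) (Fin n) F) * (P : Matrix (Fin n) (Fin n) F) := by
    rw [hQ]
    show ((P⁻¹ * x * P : Matrix.SpecialLinearGroup (Fin n) F) : Matrix (Fin n) (Fin n) F) = _
    rw [Matrix.SpecialLinearGroup.coe_mul, Matrix.SpecialLinearGroup.coe_mul]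
  have hind' : LinearIndependent F ![Q *ᵥ w₁, Q *ᵥ w₂] := by
    rw [LinearIndependent.pair_iff] at hind ⊢
    intro a b hab
    apply hind a b
    have := congrArg (fun u => (P : Matrix (Fin n) (Fin n) F) *ᵥ u) hab
    simp only [Matrix.mulVec_add, Matrix.mulVec_smul, Matrix.mulVec_mulVec, hPQ, Matrix.one_mulVec,
      Matrix.mulVec_zero] at this
    exact this
  have key := scalar_of_eigen K hc hi hr hp _ hmem c (Q *ᵥ w₁) (Q *ᵥ w₂) hind'
    (by rw [hgval, Matrix.mulVec_mulVec, mul_assoc, hPQ, mul_one, ← Matrix.mulVec_mulVec, h₁,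
      Matrix.mulVec_smul])
    (by rw [hgval, Matrix.mulVec_mulVec, mul_assoc, hPQ, mul_one, ← Matrix.mulVec_mulVec, h₂,
      Matrix.mulVec_smul])
  rw [hgval] at key
  apply hns
  calc (x : Matrix (Fin n) (Fin n) F)
      = ((P : Matrix (Fin n) (Fin n) F) * Q) * (x : Matrix (Fin n) (Fin n) F) * ((P : Matrix (Fin n) (Fin n) F) * Q) := by
        rw [hPQ, one_mul, mul_one]
    _ = (P : Matrix (Fin n) (Fin n) F) * (Q * (x : Matrix (Fin n) (Fin n) F) * (P : Matrix (Fin n) (Fin n) F)) * Q := by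
        simp only [mul_assoc]
    _ = c • (1 : Matrix (Fin n) (Fin n) F) := by
        rw [key, Matrix.mul_smul, mul_one, Matrix.smul_mul, hPQ]

/-- the Frobenius matrix of a field subalgebra of degree `n` -/
theorem exists_sigma (hc : ∀ x ∈ K, ∀ y ∈ K, x * y = y * x)
    (hi : ∀ x ∈ K, x ≠ 0 → ∃ y ∈ K, x * y = 1)
    (hr : Module.finrank F K = n) :
    ∃ s : Matrix (Fin n) (Fin n) F, s ^ n = 1 ∧
      (∀ k ∈ K, s * k = k ^ (Fintype.card F) * s) ∧
      (∀ k ∈ K, k ^ (Fintype.card F ^ n) = k) ∧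
      ∃ v : Fin n → F, ∀ p : F[X], (aeval s p) *ᵥ v = 0 → (X ^ n - 1 : F[X]) ∣ p := by
  haveI : Nonempty (Fin n) := ⟨0⟩
  letI := FieldNorm.fieldOf K hc hi
  haveI : Finite ↥K := inferInstance
  letI : Fintype ↥K := Fintype.ofFinite ↥K
  have hv₀ : (Pi.single 0 1 : Fin n → F) ≠ 0 := single_ne_zero
  obtain ⟨ψ, hψ⟩ : ∃ ψ : ↥K ≃ₗ[F] (Fin n → F), ψ = evalEquiv K hi hr hv₀ := ⟨_, rfl⟩
  have hψa : ∀ k : ↥K, ψ k = k.1 *ᵥ (Pi.single 0 1 : Fin n → F) := by
    intro k; rw [hψ]; rfl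
  obtain ⟨φL, hφL⟩ : ∃ φL : ↥K →ₗ[F] ↥K, φL = (FiniteField.frobeniusAlgHom F ↥K).toLinearMap :=
    ⟨_, rfl⟩
  have hφ : ∀ x, φL x = x ^ Fintype.card F := fun x => by rw [hφL]; rfl
  obtain ⟨sL, hsL⟩ : ∃ sL : (Fin n → F) →ₗ[F] (Fin n → F),
    sL = ψ.toLinearMap ∘ₗ φL ∘ₗ ψ.symm.toLinearMap := ⟨_, rfl⟩
  obtain ⟨s, hsdef⟩ : ∃ s : Matrix (Fin n) (Fin n) F, s = LinearMap.toMatrix' sL := ⟨_, rfl⟩
  have hs : ∀ x : ↥K, s *ᵥ (ψ x) = ψ (x ^ Fintype.card F) := by
    intro x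
    rw [← Matrix.toLin'_apply, hsdef, Matrix.toLin'_toMatrix', hsL]
    simp [hφ]
  have hspow : ∀ (j : ℕ) (x : ↥K), (s ^ j) *ᵥ (ψ x) = ψ (x ^ (Fintype.card F ^ j)) := by
    intro j
    induction j with
    | zero => intro x; simp
    | succ j ih =>
      intro x
      rw [pow_succ, ← Matrix.mulVec_mulVec, hs, ih, ← pow_mul, ← pow_succ']
  have hcardn : Fintype.card ↥K = Fintype.card F ^ n := by
    rw [Module.card_eq_pow_finrank (K := F), hr]
  have hpown : ∀ x : ↥K, x ^ (Fintype.card F ^ n) = x := by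
    intro x
    have h := FiniteField.pow_card x
    rw [hcardn] at h
    exact h
  have hmul : ∀ k x : ↥K, k.1 *ᵥ ψ x = ψ (k * x) := by
    intro k x
    rw [hψa, hψa, Matrix.mulVec_mulVec]
    rfl
  have hcoe_pow : ∀ (k : ↥K) (m : ℕ), ((k ^ m : ↥K) : Matrix (Fin n) (Fin n) F) = k.1 ^ m := by
    intro k m
    exact SubmonoidClass.coe_pow k m
  have haev : ∀ (p : F[X]) (x : ↥K), (aeval s p) *ᵥ (ψ x) = ψ (aeval φL p x) := by
    intro p
    induction p using Polynomial.induction_on with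
    | C a =>
      intro x
      simp [Algebra.algebraMap_eq_smul_one, Matrix.smul_mulVec]
    | add p q hp hq =>
      intro x
      rw [map_add, map_add, Matrix.add_mulVec, hp, hq, LinearMap.add_apply, map_add]
    | monomial m a ih =>
      intro x
      have e1 : aeval s (C a * X ^ (m + 1)) = aeval s (C a * X ^ m) * s := by
        rw [pow_succ, ← mul_assoc, map_mul, aeval_X]
      have e2 : aeval φL (C a * X ^ (m + 1)) = aeval φL (C a * X ^ m) * φL := by
        rw [pow_succ, ← mul_assoc, map_mul, aeval_X]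
      rw [e1, e2, ← Matrix.mulVec_mulVec, hs, ih, Module.End.mul_apply, hφ]
  refine ⟨s, ?_, ?_, ?_, ?_⟩
  · apply Matrix.toLin'.injective
    apply LinearMap.ext
    intro v
    obtain ⟨x, rfl⟩ := ψ.surjective v
    rw [Matrix.toLin'_apply, Matrix.toLin'_apply, Matrix.one_mulVec, hspow, hpown]
  · intro k hk
    apply Matrix.toLin'.injective
    apply LinearMap.ext
    intro v
    obtain ⟨x, rfl⟩ := ψ.surjective v
    rw [Matrix.toLin'_apply, Matrix.toLin'_apply, ← Matrix.mulVec_mulVec, ← Matrix.mulVec_mulVec,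
      hs, hmul ⟨k, hk⟩ x, hs, mul_pow, ← hmul, hcoe_pow]
  · intro k hk
    have := congrArg Subtype.val (hpown ⟨k, hk⟩)
    rw [hcoe_pow] at this
    exact this
  · obtain ⟨θ, hθ⟩ := Ord3A.exists_cyclic φL
    have hmin : minpoly F φL = X ^ n - 1 := by
      rw [hφL, FiniteField.minpoly_frobeniusAlgHom, hr]
    refine ⟨ψ θ, fun p hp => ?_⟩
    rw [haev] at hp
    have h0 : aeval φL p θ = 0 := by
      apply ψ.injective
      rw [hp, map_zero]
    rw [← hmin]
    exact hθ p h0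

/-- the Frobenius matrix normalises `K` -/
theorem sigma_normalizes (hn : 1 ≤ n) (s t : Matrix (Fin n) (Fin n) F) (hst : s * t = 1)
    (hts : t * s = 1) (hsk : ∀ k ∈ K, s * k = k ^ (Fintype.card F) * s)
    (hpn : ∀ k ∈ K, k ^ (Fintype.card F ^ n) = k) (k : Matrix (Fin n) (Fin n) F) :
    k ∈ K ↔ s * k * t ∈ K := by
  constructor
  · intro hk
    rw [hsk k hk, mul_assoc, hst, mul_one]
    exact pow_mem hk _
  · intro hm
    have hk' : (s * k * t) ^ (Fintype.card F ^ (n - 1)) ∈ K := pow_mem hm _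
    have h1 := hsk _ hk'
    rw [← pow_mul, ← pow_succ, Nat.sub_add_cancel hn, hpn _ hm] at h1
    have h2 : k = (s * k * t) ^ (Fintype.card F ^ (n - 1)) := by
      calc k = t * s * k * (t * s) := by rw [hts, one_mul, mul_one]
        _ = t * ((s * k * t) * s) := by simp only [mul_assoc]
        _ = t * (s * ((s * k * t) ^ (Fintype.card F ^ (n - 1)))) := by rw [h1]
        _ = _ := by rw [← mul_assoc, hts, one_mul]
    rw [h2]
    exact hk'

end Cfsg.Agent.Lib.Helper9.SingerN
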