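import Mathlib
import Cfsg.Agent.Lib.Helper13.TwoRankSp
import Cfsg.Agent.Lib.Helper9.ClassTwoBound

set_option autoImplicit false
set_option linter.unusedSectionVars false

/-!
# Elementary abelian 2-subgroups of `PSp_{2m}(q)`, `q` odd, `m ≥ 3`, have order at most `2^(2m-1)`
-/

namespace Cfsg.Agent.Lib.Helper9.SpExtremal

open Module Matrix Cfsg.Agent.Lib.Helper13 Cfsg.Agent.Lib.Helper9.ClassTwoBound

section linear

variable {K V : Type*} [Field K] [AddCommGroup V] [Module K V]

/-- An involution fixing pointwise a subspace of more than half the dimension is not conjugate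
to its negative. -/
theorem not_anticommute [FiniteDimensional K V] (h2 : (2 : K) ≠ 0) (a e : Module.End K V)
    (he : Function.Injective e) (W : Submodule K V) (hW : ∀ w ∈ W, a w = w)
    (hdim : finrank K V < 2 * finrank K W) (hanti : ∀ v, e (a v) = -(a (e v))) : False := by
  -- `e W` meets `W` trivially
  have hdisj : Disjoint W (W.map e) := by
    rw [Submodule.disjoint_def]
    intro x hx hx'
    obtain ⟨w, hw, rfl⟩ := Submodule.mem_map.1 hx'
    have h1 := hanti w
    rw [hW w hw, hW (e w) hx] at h1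
    have h3 : (2 : K) • e w = 0 := by
      rw [two_smul]
      nth_rewrite 1 [h1]
      exact neg_add_cancel _
    rcases smul_eq_zero.1 h3 with h | h
    · exact absurd h h2
    · exact h
  have hfr : finrank K (W.map e) = finrank K W :=
    LinearEquiv.finrank_eq (Submodule.equivMapOfInjective e he W).symm
  have h1 := Submodule.finrank_sup_add_finrank_inf_eq W (W.map e)
  rw [disjoint_iff.1 hdisj, finrank_bot, add_zero, hfr] at h1
  have h2' := Submodule.finrank_le (W ⊔ W.map e)
  omega

/-- The extremal case of helper13's bound: a family of `2 ^ m` commuting involutions preserving a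
non-degenerate alternating form on a space of dimension `2 m` contains a member fixing pointwise a
subspace of dimension at least `2 m - 2` and negating some non-zero vector. -/
theorem exists_unbalanced [FiniteDimensional K V] {ι : Type*} [Finite ι] (h2 : (2 : K) ≠ 0)
    (β : V →ₗ[K] V →ₗ[K] K) (halt : ∀ v, β v v = 0) (hnd : ∀ u, (∀ v, β u v = 0) → u = 0)
    (f : ι → Module.End K V) (hinj : Function.Injective f)
    (hcomm : ∀ i j, Commute (f i) (f j)) (hinv : ∀ i, f i * f i = 1)
    (hpres : ∀ i u v, β (f i u) (f i v) = β u v)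
    (m : ℕ) (hm : 1 ≤ m) (hdim : finrank K V = 2 * m) (hcard : Nat.card ι = 2 ^ m) :
    ∃ (i₀ : ι) (W : Submodule K V), (∀ w ∈ W, f i₀ w = w) ∧ 2 * m ≤ finrank K W + 2 ∧
      ∃ v : V, v ≠ 0 ∧ f i₀ v = -v := by
  classical
  obtain ⟨b, c, hbc⟩ := exists_common_eigenbasis h2 f hcomm hinv
  have hc : ∀ i j, c i j = 1 ∨ c i j = -1 := fun i j =>
    eigenvalue_of_involution (hinv i) (b.ne_zero j) (hbc i j)
  let χ : Fin (finrank K V) → (ι → K) := fun j a => c a j
  have hpair : ∀ j, ∃ k, k ≠ j ∧ χ k = χ j := by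
    intro j
    have hex : ∃ k, β (b j) (b k) ≠ 0 := by
      by_contra hno
      push Not at hno
      apply b.ne_zero j
      apply hnd
      intro v
      have : β (b j) = 0 := b.ext (fun k => by simpa using hno k)
      rw [this]; rfl
    obtain ⟨k, hk⟩ := hex
    refine ⟨k, ?_, ?_⟩
    · rintro rfl
      exact hk (halt _)
    · funext a
      have h1 := hpres a (b j) (b k)
      rw [hbc, hbc] at h1
      simp only [map_smul, LinearMap.smul_apply, smul_eq_mul] at h1
      have h3 : c a j * c a k = 1 := by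
        have : (c a j * c a k - 1) * β (b j) (b k) = 0 := by linear_combination h1
        rcases mul_eq_zero.mp this with h | h
        · exact sub_eq_zero.mp h
        · exact absurd h hk
      change c a k = c a j
      rcases hc a j with h | h <;> rcases hc a k with h' | h' <;> rw [h, h'] at h3 ⊢
      · exfalso; apply h2; linear_combination -h3
      · exfalso; apply h2; linear_combination -h3
  let T : Finset (ι → K) := Finset.univ.image χ
  have hT : 2 * T.card ≤ finrank K V := by
    have := Finset.mul_card_image_le_card (f := χ) Finset.univ 2 (by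
      intro x hx
      obtain ⟨j, -, rfl⟩ := Finset.mem_image.mp hx
      obtain ⟨k, hkj, hk⟩ := hpair j
      have : 1 < (Finset.univ.filter (fun a => χ a = χ j)).card := by
        rw [Finset.one_lt_card]
        exact ⟨k, by simp [hk], j, by simp, hkj⟩
      exact this)
    simpa using this
  let Φ : ι → (T → Bool) := fun a x => decide (x.1 a = 1)
  have hΦ : Function.Injective Φ := by
    intro i i' h
    apply hinj
    apply b.ext
    intro j
    rw [hbc, hbc]
    congr 1
    have hj := congrFun h ⟨χ j, Finset.mem_image_of_mem χ (Finset.mem_univ j)⟩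
    simp only [Φ, decide_eq_decide] at hj
    change c i j = 1 ↔ c i' j = 1 at hj
    rcases hc i j with h1 | h1
    · rw [h1, hj.mp h1]
    · rcases hc i' j with h1' | h1'
      · rw [hj.mpr h1', h1']
      · rw [h1, h1']
  have h4 : Nat.card (T → Bool) = 2 ^ T.card := by simp
  have h3 := Nat.card_le_card_of_injective Φ hΦ
  rw [h4, hcard] at h3
  have hTm : m ≤ T.card := (Nat.pow_le_pow_iff_right (by norm_num)).1 h3
  have hTm' : T.card = m := by omega
  have hbij : Function.Bijective Φ :=
    hΦ.bijective_of_nat_card_le (by rw [h4, hcard, hTm'])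
  -- a character with a small fibre
  have hTne : T.Nonempty := Finset.card_pos.1 (by omega)
  obtain ⟨x₀, hx₀T, hx₀⟩ := Finset.exists_card_fiber_le_of_card_le_mul (s := Finset.univ) (f := χ)
    (n := 2) hTne (by rw [Finset.card_univ, Fintype.card_fin, hdim, hTm', mul_comm])
  obtain ⟨i₀, hi₀⟩ := hbij.2 (fun x => decide (x.1 ≠ x₀))
  have hi₀' : ∀ j, c i₀ j = 1 ↔ χ j ≠ x₀ := by
    intro j
    have := congrFun hi₀ ⟨χ j, Finset.mem_image_of_mem χ (Finset.mem_univ j)⟩
    simp only [Φ, decide_eq_decide] at this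
    exact this
  let J : Finset (Fin (finrank K V)) := Finset.univ.filter (fun j => χ j ≠ x₀)
  refine ⟨i₀, Submodule.span K (Set.range (fun j : J => b j)), ?_, ?_, ?_⟩
  · intro w hw
    induction hw using Submodule.span_induction with
    | mem x hx =>
      obtain ⟨j, rfl⟩ := hx
      rw [hbc, (hi₀' j).2 (Finset.mem_filter.1 j.2).2, one_smul]
    | zero => rw [map_zero]
    | add x y _ _ hx hy => rw [map_add, hx, hy]
    | smul t x _ hx => rw [map_smul, hx]
  · have hli : LinearIndependent K (fun j : J => b j) :=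
      b.linearIndependent.comp (fun j : J => (j : Fin (finrank K V))) Subtype.val_injective
    rw [finrank_span_eq_card hli, Fintype.card_coe]
    have hJ : J.card + (Finset.univ.filter (fun j => χ j = x₀)).card = finrank K V := by
      have := Finset.card_filter_add_card_filter_not (s := (Finset.univ : Finset (Fin (finrank K V))))
        (fun j => χ j = x₀)
      rw [Finset.card_univ, Fintype.card_fin] at this
      rw [add_comm]
      exact this
    omega
  · obtain ⟨j, -, hj⟩ := Finset.mem_image.1 hx₀T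
    refine ⟨b j, b.ne_zero j, ?_⟩
    rw [hbc]
    have : c i₀ j ≠ 1 := fun h => ((hi₀' j).1 h) hj
    rcases hc i₀ j with h | h
    · exact absurd h this
    · rw [h, neg_smul, one_smul]

end linear

section sp

variable {F : Type*} [Field F]

/-- The standard alternating form and its invariance under the symplectic group (extracted from
helper13's `card_le_of_elemAb_two_Sp`). -/
theorem exists_alt_form (h2 : (2 : F) ≠ 0) (n : ℕ) :
    ∃ β : (Fin n ⊕ Fin n → F) →ₗ[F] (Fin n ⊕ Fin n → F) →ₗ[F] F,
      (∀ v, β v v = 0) ∧ (∀ u, (∀ v, β u v = 0) → u = 0) ∧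
      ∀ (g : Matrix.symplecticGroup (Fin n) F) (u v : Fin n ⊕ Fin n → F),
        β ((g : Matrix (Fin n ⊕ Fin n) (Fin n ⊕ Fin n) F) *ᵥ u)
          ((g : Matrix (Fin n ⊕ Fin n) (Fin n ⊕ Fin n) F) *ᵥ v) = β u v := by
  let β : (Fin n ⊕ Fin n → F) →ₗ[F] (Fin n ⊕ Fin n → F) →ₗ[F] F :=
    Matrix.toLinearMap₂' F (Matrix.J (Fin n) F)
  have hβ : ∀ u v, β u v = u ⬝ᵥ (Matrix.J (Fin n) F *ᵥ v) := fun u v =>
    Matrix.toLinearMap₂'_apply' _ _ _
  have hdot : ∀ (M : Matrix (Fin n ⊕ Fin n) (Fin n ⊕ Fin n) F) (u w : Fin n ⊕ Fin n → F),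
      (M *ᵥ u) ⬝ᵥ w = u ⬝ᵥ (Mᵀ *ᵥ w) := by
    intro M u w
    rw [dotProduct_comm, Matrix.dotProduct_mulVec, dotProduct_comm, Matrix.mulVec_transpose]
  refine ⟨β, ?_, ?_, ?_⟩
  · intro v
    have h1 : β v v = - β v v := by
      rw [hβ]
      conv_lhs => rw [dotProduct_comm, hdot, Matrix.J_transpose, Matrix.neg_mulVec, dotProduct_neg]
    have : (2 : F) * β v v = 0 := by linear_combination h1
    rcases mul_eq_zero.mp this with h | h
    · exact absurd h h2
    · exact h
  · intro u hu
    apply dotProduct_eq_zero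
    intro w
    have := hu ((-Matrix.J (Fin n) F) *ᵥ w)
    rw [hβ, Matrix.mulVec_mulVec, mul_neg, Matrix.J_squared, neg_neg, Matrix.one_mulVec] at this
    exact this
  · intro g u v
    rw [hβ, hβ, hdot, Matrix.mulVec_mulVec, Matrix.mulVec_mulVec,
      SymplecticGroup.mem_iff'.mp g.2]

end sp

section spbound

variable {F : Type*} [Field F] [Fintype F]

theorem sp_card_le (h2 : (2 : F) ≠ 0) (m : ℕ) (hm : 3 ≤ m)
    (Eg : Subgroup (Matrix.symplecticGroup (Fin m) F))
    (zg : Matrix.symplecticGroup (Fin m) F)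
    (hzg : (zg : Matrix (Fin m ⊕ Fin m) (Fin m ⊕ Fin m) F) = -1) (hzE : zg ∈ Eg)
    (hcomm : ∀ x ∈ Eg, ∀ y ∈ Eg, x * y = y * x ∨ x * y = zg * (y * x))
    (hsq : ∀ x ∈ Eg, x * x = 1 ∨ x * x = zg) :
    Nat.card Eg ≤ 2 ^ (2 * m) := by
  classical
  have hfin : finrank F (Fin m ⊕ Fin m → F) = 2 * m := by
    rw [Module.finrank_fintype_fun_eq_card, Fintype.card_sum, Fintype.card_fin, two_mul]
  have hne1 : (-1 : Matrix (Fin m ⊕ Fin m) (Fin m ⊕ Fin m) F) ≠ 1 := by
    intro h
    have := congrFun (congrFun h (Sum.inl ⟨0, by omega⟩)) (Sum.inl ⟨0, by omega⟩)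
    rw [Matrix.neg_apply, Matrix.one_apply_eq] at this
    apply h2
    linear_combination -this
  have hzg1 : zg ≠ 1 := by
    intro h
    apply hne1
    rw [← hzg, h]
    rfl
  have hzmul : ∀ x : Matrix.symplecticGroup (Fin m) F, zg * x = x * zg := by
    intro x
    apply Subtype.ext
    change (zg : Matrix (Fin m ⊕ Fin m) (Fin m ⊕ Fin m) F) * x = x * zg
    rw [hzg, neg_one_mul, mul_neg_one]
  have hzz : zg * zg = 1 := by
    apply Subtype.ext
    change (zg : Matrix (Fin m ⊕ Fin m) (Fin m ⊕ Fin m) F) * zg = 1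
    rw [hzg, neg_one_mul, neg_neg]
  -- the linear map of an element
  let T : Matrix.symplecticGroup (Fin m) F → Module.End F (Fin m ⊕ Fin m → F) := fun g =>
    Matrix.toLin' (g : Matrix (Fin m ⊕ Fin m) (Fin m ⊕ Fin m) F)
  have hTmul : ∀ g h : Matrix.symplecticGroup (Fin m) F, T g * T h = T (g * h) := by
    intro g h
    change _ = Matrix.toLin' ((g : Matrix (Fin m ⊕ Fin m) (Fin m ⊕ Fin m) F) * (h : Matrix _ _ F))
    rw [Matrix.toLin'_mul]
    rfl
  have hTone : T 1 = 1 := by
    change Matrix.toLin' (1 : Matrix (Fin m ⊕ Fin m) (Fin m ⊕ Fin m) F) = 1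
    rw [Matrix.toLin'_one]
    rfl
  have hTinj : Function.Injective T := by
    intro g h hgh
    exact Subtype.ext ((Matrix.toLin' (R := F) (m := Fin m ⊕ Fin m) (n := Fin m ⊕ Fin m)).injective hgh)
  have hTz : ∀ v, T zg v = -v := by
    intro v
    change Matrix.toLin' (zg : Matrix (Fin m ⊕ Fin m) (Fin m ⊕ Fin m) F) v = -v
    rw [hzg, Matrix.toLin'_apply, Matrix.neg_mulVec, Matrix.one_mulVec]
  have hTapp : ∀ (g : Matrix.symplecticGroup (Fin m) F) v,
      T g v = (g : Matrix (Fin m ⊕ Fin m) (Fin m ⊕ Fin m) F) *ᵥ v := fun g v => Matrix.toLin'_apply _ _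
  obtain ⟨β, halt, hnd, hpres⟩ := exists_alt_form (F := F) h2 m
  refine card_le_two_pow (E := ↥Eg) ⟨zg, hzE⟩ ?_ ?_ ?_ ?_ ?_ m ?_ ?_
  · intro h
    exact hzg1 (congrArg Subtype.val h)
  · exact Subtype.ext hzz
  · intro x
    exact Subtype.ext (hzmul x.1)
  · intro x y
    rcases hcomm x.1 x.2 y.1 y.2 with h | h
    · exact Or.inl (Subtype.ext h)
    · exact Or.inr (Subtype.ext h)
  · intro x
    rcases hsq x.1 x.2 with h | h
    · exact Or.inl (Subtype.ext h)
    · exact Or.inr (Subtype.ext h)
  · -- elementary abelian subgroups have order at most `2 ^ m`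
    intro B hBc hB2
    have h1 := card_le_of_elemAb_two_Sp h2 (B.map Eg.subtype) (by
      rintro _ ⟨a, ha, rfl⟩ _ ⟨b, hb, rfl⟩
      have := hBc a ha b hb
      exact congrArg Subtype.val this) (by
      rintro _ ⟨a, ha, rfl⟩
      have := hB2 a ha
      rw [pow_two]
      exact congrArg Subtype.val this)
    rwa [Subgroup.card_map_of_injective Eg.subtype_injective] at h1
  · -- the extremal case
    intro B hBc hB2 hzB hcardB
    let f : B → Module.End F (Fin m ⊕ Fin m → F) := fun b => T ((b : ↥Eg) : Matrix.symplecticGroup (Fin m) F)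
    have hfinj : Function.Injective f := fun a b h => Subtype.ext (Subtype.ext (hTinj h))
    have hfcomm : ∀ a b, Commute (f a) (f b) := by
      intro a b
      change T _ * T _ = T _ * T _
      rw [hTmul, hTmul]
      have := hBc a a.2 b b.2
      rw [show ((a : ↥Eg) : Matrix.symplecticGroup (Fin m) F) * ((b : ↥Eg) : Matrix.symplecticGroup (Fin m) F)
        = ((b : ↥Eg) : Matrix.symplecticGroup (Fin m) F) * ((a : ↥Eg) : Matrix.symplecticGroup (Fin m) F)
        from congrArg Subtype.val this]
    have hfinv : ∀ a, f a * f a = 1 := by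
      intro a
      change T _ * T _ = 1
      rw [hTmul]
      have := hB2 a a.2
      rw [show ((a : ↥Eg) : Matrix.symplecticGroup (Fin m) F) * ((a : ↥Eg) : Matrix.symplecticGroup (Fin m) F)
        = 1 from congrArg Subtype.val this, hTone]
    have hfpres : ∀ a u v, β (f a u) (f a v) = β u v := by
      intro a u v
      change β (T _ u) (T _ v) = _
      rw [hTapp, hTapp, hpres]
    obtain ⟨i₀, W, hW, hWdim, v, hv0, hv⟩ := exists_unbalanced h2 β halt hnd f hfinj hfcomm hfinv hfpres
      m (by omega) hfin hcardB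
    have hWpos : 0 < finrank F W := by omega
    obtain ⟨w, hwW, hw0⟩ : ∃ w ∈ W, w ≠ 0 := by
      by_contra hcon
      push Not at hcon
      have : W = ⊥ := by
        rw [Submodule.eq_bot_iff]
        exact hcon
      rw [this, finrank_bot] at hWpos
      exact lt_irrefl _ hWpos
    have hneg_ne : ∀ u : Fin m ⊕ Fin m → F, u ≠ 0 → u ≠ -u := by
      intro u hu h
      have h3 : (2 : F) • u = 0 := by
        rw [two_smul]
        nth_rewrite 1 [h]
        exact neg_add_cancel _
      rcases smul_eq_zero.1 h3 with h' | h'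
      · exact h2 h'
      · exact hu h'
    refine ⟨(i₀ : ↥Eg), i₀.2, ?_, ?_, ?_⟩
    · intro h
      have h3 : f i₀ v = v := by
        change T ((i₀ : ↥Eg) : Matrix.symplecticGroup (Fin m) F) v = v
        rw [h]
        change T 1 v = v
        rw [hTone]
        rfl
      rw [hv] at h3
      exact hneg_ne v hv0 h3.symm
    · intro h
      have h3 : f i₀ w = -w := by
        change T ((i₀ : ↥Eg) : Matrix.symplecticGroup (Fin m) F) w = -w
        rw [h]
        exact hTz w
      rw [hW w hwW] at h3
      exact hneg_ne w hw0 h3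
    · intro e
      rcases hcomm e.1 e.2 (i₀ : ↥Eg).1 (i₀ : ↥Eg).2 with h | h
      · exact Subtype.ext h
      · exfalso
        apply not_anticommute h2 (f i₀) (T e.1) ?_ W hW (by rw [hfin]; omega)
        · intro u
          have h3 : T e.1 * T (i₀ : ↥Eg).1 = T zg * (T (i₀ : ↥Eg).1 * T e.1) := by
            rw [hTmul, hTmul, hTmul, h]
          have h4 := LinearMap.congr_fun h3 u
          rw [Module.End.mul_apply, Module.End.mul_apply, Module.End.mul_apply, hTz] at h4
          exact h4
        · intro u u' huu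
          have h3 : T (e.1⁻¹) (T e.1 u) = T (e.1⁻¹) (T e.1 u') := by rw [huu]
          rw [← Module.End.mul_apply, ← Module.End.mul_apply, hTmul, inv_mul_cancel, hTone] at h3
          exact h3

end spbound

end Cfsg.Agent.Lib.Helper9.SpExtremal
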