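-- SpLow market (helper14): leaf SPL-SF `subfield_max` = S5650 (subfield subgroups of Sp_2m(q)) with `5 ≤ m`.
-- The proof of S5650 only uses `3 ≤ m` (easy case) and `5 ≤ m` (hard case); this file re-runs its assembly.
import Mathlib
import Cfsg.Prelude.Def_GeometricClasses
import Cfsg.Agent.S5650

set_option autoImplicit false

namespace Cfsg.Agent.Lib.Helper9.SpLowLeaf

open Matrix Cfsg Cfsg.Agent.Lib.Helper5 Cfsg.Agent.Lib.Helper5.SpMax Cfsg.Agent.Lib.Helper2.SpSub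

/-- the standard subfield group is maximal, `5 ≤ m` -/
theorem std_maximal_low {F : Type*} [Field F] [Fintype F] {m : ℕ} (hm : 5 ≤ m) (F₀ : Subfield F)
    (hp : (Module.finrank F₀ F).Prime) : Cfsg.Geo.IsMaximalIn (spGL m F) (H0 m F₀) := by
  refine ⟨Cfsg.Agent.Lib.Helper2.SpSubLeaf.H0_lt F₀ (by omega) hp.two_le, fun M hHM hMS => ?_⟩
  by_cases hM : spGL m F ≤ M
  · right
    exact le_antisymm hMS hM
  · left
    have hctx : Ctx F₀ M := ⟨hHM, hMS, hM, hp⟩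
    apply le_antisymm _ hHM
    intro g hg
    refine Subgroup.mem_inf.mpr ⟨?_, hMS hg⟩
    by_cases hrn : Module.finrank F₀ F < 2 * m
    · exact Cfsg.Agent.S5650.easy_case5650 (by omega) hctx hrn hg
    · exact Cfsg.Agent.S5650.hard_case5650 hm hctx (by omega) hg

/-- SPL-SF: S5650 (subfield subgroups) with `5 ≤ m`. -/
theorem subfield_max {F : Type*} [Field F] [Fintype F] (m : ℕ) (hm : 5 ≤ m) (F₀ : Subfield F) (r : ℕ) (hr : r.Prime) (hcard : Fintype.card F = Nat.card F₀ ^ r) (P : Matrix.GeneralLinearGroup (Fin m ⊕ Fin m) F) (ζ : F) (hζ : ζ ≠ 0) (hP : Cfsg.Geo.IsFormRationalStructure (Cfsg.sympForm m F) F₀ ζ P) : Cfsg.Geo.IsMaximalIn (Cfsg.spGL m F) (Cfsg.Geo.subfieldSubgroup F₀ P ⊓ Cfsg.spGL m F) := by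
  have hfr : Module.finrank F₀ F = r := Cfsg.Agent.S5650.finrank_eq_of_card5650 F₀ hcard
  have hp : (Module.finrank F₀ F).Prime := by rw [hfr]; exact hr
  obtain ⟨P', hP'eq, hP'⟩ :=
    Cfsg.Agent.Lib.Helper1.SpSubLeaf.exists_normalized F₀ P ζ hζ hP
  rw [← hP'eq]
  exact Cfsg.Agent.Lib.Helper2.SpSubLeaf.maximal_transfer F₀ P' ζ hζ hP' (std_maximal_low hm F₀ hp)

end Cfsg.Agent.Lib.Helper9.SpLowLeaf
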