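import Cfsg.Agent.Lib.Helper27.SpMDefs
import Cfsg.Agent.Lib.Helper7.C3sL0
import Cfsg.Agent.Lib.Helper12.SpA

/-!
# SpnMax market (helper27), block N, leaf N3 `c3s_dvd` (helper9).  Exact signature of `notes/SpnMax_leaves.lean`.

`V = F^{2m}` is a vector space over the field `E ≅ K` (helper7 `exists_KS`) carrying the non-degenerate alternating
`E`-bilinear form `fE`; so `dim_E V = 2j` is even and `2m = dim_F V = r · 2j`.
-/

set_option autoImplicit false
set_option linter.unusedSectionVars false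
set_option linter.unusedVariables false

namespace Cfsg.Agent.Lib.Helper9.SpMLeaf

open Cfsg Cfsg.Geo Matrix Module Cfsg.Agent.Lib.Helper27.SpM Cfsg.Agent.Lib.Helper22.C3s

section ks
universe u
variable {F : Type u} [Field F] {m : ℕ} {E : Type u} [Field E] [Algebra F E]

/-- `F^{2m}` as a vector space over `E` -/
@[reducible] def ksModule (S : KS m F E) : Module E (Fin m ⊕ Fin m → F) where
  smul e x := S.act e x
  one_smul := S.act_one
  mul_smul := S.act_mul
  smul_zero := S.act_vzero
  smul_add := S.act_vadd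
  add_smul := S.act_add
  zero_smul := S.act_zero

/-- the dimension of `E` divides `m` -/
theorem ks_finrank_dvd (hm : 0 < m) (S : KS m F E) : finrank F E ∣ m := by
  classical
  -- `E` is finite-dimensional
  have hnt : Nontrivial (Matrix (Fin m ⊕ Fin m) (Fin m ⊕ Fin m) F) := by
    refine ⟨⟨1, 0, fun h => ?_⟩⟩
    have := congrFun (congrFun h (Sum.inl ⟨0, hm⟩)) (Sum.inl ⟨0, hm⟩)
    rw [Matrix.one_apply_eq, Matrix.zero_apply] at this
    exact one_ne_zero this
  have hinj : Function.Injective S.ρ.toLinearMap := fun a b h =>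
    (S.ρ.toRingHom.injective : Function.Injective S.ρ.toRingHom) h
  have hfd : FiniteDimensional F E := FiniteDimensional.of_injective S.ρ.toLinearMap hinj
  letI inst : Module E (Fin m ⊕ Fin m → F) := ksModule S
  have hsm : ∀ (e : E) (x : Fin m ⊕ Fin m → F), e • x = S.act e x := fun e x => rfl
  have htower : IsScalarTower F E (Fin m ⊕ Fin m → F) := ⟨fun c e x => by
    rw [hsm, hsm, S.act_smul]⟩
  have hfin : Module.Finite E (Fin m ⊕ Fin m → F) := Module.Finite.of_restrictScalars_finite F E _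
  have hmul := Module.finrank_mul_finrank F E (Fin m ⊕ Fin m → F)
  rw [Module.finrank_pi, Fintype.card_sum, Fintype.card_fin] at hmul
  -- the `E`-bilinear form
  let B : LinearMap.BilinForm E (Fin m ⊕ Fin m → F) :=
    LinearMap.mk₂ E S.fE S.add_left (fun e x y => by rw [hsm, S.fE_smul_left, smul_eq_mul])
      S.fE_add_right (fun e x y => by rw [hsm, S.fE_smul_right, smul_eq_mul])
  have hB : ∀ x y, B x y = S.fE x y := fun x y => rfl
  have halt : ∀ v, B v v = 0 := fun v => S.alt v
  have hnd : Cfsg.Agent.Lib.Helper12.Sp.NdOn B ⊤ := by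
    intro u _ hu0
    obtain ⟨y, hy⟩ := S.fE_nondeg hu0
    exact ⟨y, Submodule.mem_top, hy⟩
  have heven := Cfsg.Agent.Lib.Helper12.Sp.even_finrank_of_ndOn B halt ⊤ hnd
  rw [finrank_top] at heven
  obtain ⟨j, hj⟩ := heven
  refine ⟨j, ?_⟩
  rw [hj] at hmul
  have : 2 * (finrank F E * j) = 2 * m := by
    calc 2 * (finrank F E * j) = finrank F E * (j + j) := by ring
      _ = m + m := hmul
      _ = 2 * m := by ring
  omega

end ks

variable {m : ℕ} {F : Type*} [Field F] [Fintype F]

/-- N3. -/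
theorem c3s_dvd (hm : 1 ≤ m) {r : ℕ} {K : Subalgebra F (Matrix (Fin m ⊕ Fin m) (Fin m ⊕ Fin m) F)}
    (hK : IsFieldSubalgebra r K) (hsa : IsSelfAdjointFor (sympForm m F) K)
    (halt : ∀ k ∈ K, ∀ v : Fin m ⊕ Fin m → F, sympForm m F (k *ᵥ v) v = 0) : r ∣ m := by
  obtain ⟨E, instE, instA, S, -, hr⟩ := Cfsg.Agent.Lib.Helper7.C3sLeaf.exists_KS (by omega : 0 < m) r K hK hsa halt
  rw [← hr]
  exact ks_finrank_dvd (by omega) S

end Cfsg.Agent.Lib.Helper9.SpMLeaf
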