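import Cfsg.Agent.Lib.Helper27.SpMDefs

/-!
# SpnMax stage 2 (helper27), leaf S8a `plus_normal_form` (helper9).  Exact signature of `notes/SpnMax_stage2_leaves.lean`
(with `detForm` restated here verbatim, since the notes file is not on the import path).
-/

set_option autoImplicit false
set_option linter.unusedSectionVars false
set_option linter.unusedVariables false

namespace Cfsg.Agent.Lib.Helper9.SpMLeaf

open Cfsg Cfsg.Geo Matrix Module Cfsg.Agent.Lib.Helper27.SpM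
open scoped Kronecker

variable {F : Type*} [Field F] [Fintype F]

/-- the polar form of `det` on `M_2(F) = F^{2×2}`: `β(x, y) = x₀₀ y₁₁ + x₁₁ y₀₀ - x₀₁ y₁₀ - x₁₀ y₀₁` -/
def detForm (F : Type*) [Field F] (x y : Fin 2 × Fin 2 → F) : F :=
  x (0, 0) * y (1, 1) + x (1, 1) * y (0, 0) - x (0, 1) * y (1, 0) - x (1, 0) * y (0, 1)

/-- the reindexing `Fin 4 ≃ Fin 2 × Fin 2` -/
def eps4 : Fin 4 ≃ Fin 2 × Fin 2 where
  toFun := ![(0, 0), (0, 1), (1, 0), (1, 1)]
  invFun p := if p = (0, 0) then 0 else if p = (0, 1) then 1 else if p = (1, 0) then 2 else 3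
  left_inv := by decide
  right_inv := by decide

/-- a symmetric form as a Mathlib bilinear form -/
def symB {n : ℕ} {f : (Fin n → F) → (Fin n → F) → F} (hf : IsSymmetricForm f) :
    LinearMap.BilinForm F (Fin n → F) :=
  LinearMap.mk₂ F f hf.bilinear.add_left hf.bilinear.smul_left hf.bilinear.add_right hf.bilinear.smul_right

theorem symB_apply {n : ℕ} {f : (Fin n → F) → (Fin n → F) → F} (hf : IsSymmetricForm f) (x y : Fin n → F) :
    symB hf x y = f x y := rfl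

theorem symB_nondeg {n : ℕ} {f : (Fin n → F) → (Fin n → F) → F} (hf : IsSymmetricForm f) :
    (symB hf).Nondegenerate := by
  constructor
  · intro x hx
    by_contra hx0
    obtain ⟨-, y, hy⟩ := hf.nondegenerate x hx0
    exact hy (hx y)
  · intro y hy
    by_contra hy0
    obtain ⟨⟨x, hx⟩, -⟩ := hf.nondegenerate y hy0
    exact hx (hy x)

/-- the matrix with columns `bv (eps4 j)` -/
def colMat (bv : Fin 2 × Fin 2 → (Fin 4 → F)) : Matrix (Fin 4) (Fin 4) F := fun i j => bv (eps4 j) i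

theorem colMat_mulVec (bv : Fin 2 × Fin 2 → (Fin 4 → F)) (x : Fin 2 × Fin 2 → F) :
    colMat bv *ᵥ (x ∘ eps4) =
      x (0, 0) • bv (0, 0) + x (0, 1) • bv (0, 1) + x (1, 0) • bv (1, 0) + x (1, 1) • bv (1, 1) := by
  ext i
  simp only [Matrix.mulVec, dotProduct, colMat, Function.comp_apply, Fin.sum_univ_four, Pi.add_apply,
    Pi.smul_apply, smul_eq_mul]
  have e0 : eps4 0 = (0, 0) := rfl
  have e1 : eps4 1 = (0, 1) := rfl
  have e2 : eps4 2 = (1, 0) := rfl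
  have e3 : eps4 3 = (1, 1) := rfl
  rw [e0, e1, e2, e3]
  ring

/-- Gram data of a "double hyperbolic" basis give the normal form -/
theorem normal_form_of_gram {f₂ : (Fin 4 → F) → (Fin 4 → F) → F} (hf₂ : IsSymmetricForm f₂)
    (b00 b01 b10 b11 : Fin 4 → F)
    (h1 : f₂ b00 b11 = 1) (h2 : f₂ b01 b10 = -1)
    (z1 : f₂ b00 b00 = 0) (z2 : f₂ b00 b01 = 0) (z3 : f₂ b00 b10 = 0)
    (z4 : f₂ b01 b01 = 0) (z5 : f₂ b01 b11 = 0) (z6 : f₂ b10 b10 = 0) (z7 : f₂ b10 b11 = 0)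
    (z8 : f₂ b11 b11 = 0) :
    ∃ (ε : Fin 4 ≃ Fin 2 × Fin 2) (B : GL (Fin 4) F), ∀ x y : Fin 2 × Fin 2 → F,
      f₂ ((B : Matrix (Fin 4) (Fin 4) F) *ᵥ (x ∘ ε)) ((B : Matrix (Fin 4) (Fin 4) F) *ᵥ (y ∘ ε)) = detForm F x y := by
  classical
  set bv : Fin 2 × Fin 2 → (Fin 4 → F) := fun p =>
    if p = (0, 0) then b00 else if p = (0, 1) then b01 else if p = (1, 0) then b10 else b11 with hbv
  have v00 : bv (0, 0) = b00 := by simp [hbv]
  have v01 : bv (0, 1) = b01 := by simp [hbv]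
  have v10 : bv (1, 0) = b10 := by simp [hbv]
  have v11 : bv (1, 1) = b11 := by simp [hbv]
  have hs : ∀ u v, f₂ u v = f₂ v u := hf₂.symm
  have key : ∀ x y : Fin 2 × Fin 2 → F,
      f₂ (colMat bv *ᵥ (x ∘ eps4)) (colMat bv *ᵥ (y ∘ eps4)) = detForm F x y := by
    intro x y
    rw [colMat_mulVec, colMat_mulVec, v00, v01, v10, v11, ← symB_apply hf₂]
    simp only [map_add, map_smul, LinearMap.add_apply, LinearMap.smul_apply, smul_eq_mul, symB_apply]
    rw [hs b01 b00, hs b10 b00, hs b11 b00, hs b10 b01, hs b11 b01, hs b11 b10, h1, h2, z1, z2, z3, z4, z5,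
      z6, z7, z8]
    unfold detForm
    ring
  have hinj : Function.Injective (colMat bv).mulVec := by
    intro v v' hvv
    have hsub : colMat bv *ᵥ (v - v') = 0 := by
      rw [Matrix.mulVec_sub]; exact sub_eq_zero.2 hvv
    set x : Fin 2 × Fin 2 → F := (v - v') ∘ eps4.symm with hx
    have hxv : x ∘ eps4 = v - v' := by
      ext i; simp [hx]
    have hzero : ∀ y, detForm F x y = 0 := by
      intro y
      rw [← key x y, hxv, hsub]
      have := hf₂.bilinear.smul_left 0 0 (colMat bv *ᵥ (y ∘ eps4))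
      rwa [zero_smul, zero_mul] at this
    have c11 := hzero (Pi.single (1, 1) 1)
    have c00 := hzero (Pi.single (0, 0) 1)
    have c10 := hzero (Pi.single (1, 0) 1)
    have c01 := hzero (Pi.single (0, 1) 1)
    unfold detForm at c11 c00 c10 c01
    simp at c11 c00 c10 c01
    have hx0 : x = 0 := by
      ext ⟨i, j⟩
      fin_cases i <;> fin_cases j
      · exact c11
      · exact c10
      · exact c01
      · exact c00
    have : v - v' = 0 := by rw [← hxv, hx0]; rfl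
    exact sub_eq_zero.1 this
  have hunit : IsUnit (colMat bv).det :=
    (Matrix.isUnit_iff_isUnit_det _).1 (Matrix.mulVec_injective_iff_isUnit.1 hinj)
  refine ⟨eps4, Matrix.GeneralLinearGroup.mk'' (colMat bv) hunit, ?_⟩
  intro x y
  exact key x y

/-- S8a (M). -/
theorem plus_normal_form (h2 : (2 : F) ≠ 0) {f₂ : (Fin 4 → F) → (Fin 4 → F) → F} (hf₂ : IsSymmetricForm f₂)
    (hplus : IsPlusTypeOn (fun v : Fin 4 → F => f₂ v v) ⊤) :
    ∃ (ε : Fin 4 ≃ Fin 2 × Fin 2) (B : GL (Fin 4) F), ∀ x y : Fin 2 × Fin 2 → F,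
      f₂ ((B : Matrix (Fin 4) (Fin 4) F) *ᵥ (x ∘ ε)) ((B : Matrix (Fin 4) (Fin 4) F) *ᵥ (y ∘ ε)) = detForm F x y := by
  classical
  obtain ⟨U, -, hUts, hUdim⟩ := hplus
  rw [finrank_top, Module.finrank_pi, Fintype.card_fin] at hUdim
  have hU2 : finrank F U = 2 := by omega
  set Bf := symB hf₂ with hBf
  have hnd : Bf.Nondegenerate := symB_nondeg hf₂
  have hs : ∀ u v, f₂ u v = f₂ v u := hf₂.symm
  -- `U` is totally isotropic
  have hUU : ∀ u ∈ U, ∀ u' ∈ U, f₂ u u' = 0 := by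
    intro u hu u' hu'
    have h := hUts (u + u') (U.add_mem hu hu')
    have h1 := hUts u hu
    have h1' := hUts u' hu'
    simp only at h h1 h1'
    rw [← symB_apply hf₂] at h
    simp only [map_add, LinearMap.add_apply, symB_apply] at h
    rw [h1, h1', hs u' u] at h
    have : (2 : F) * f₂ u u' = 0 := by linear_combination h
    rcases mul_eq_zero.1 this with h' | h'
    · exact absurd h' h2
    · exact h'
  -- a basis of `U` and dual vectors
  let b : Basis (Fin 2) F U := Module.finBasisOfFinrankEq F U hU2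
  obtain ⟨φ₁, hφ₁⟩ := LinearMap.exists_extend (b.coord 0)
  obtain ⟨φ₂, hφ₂⟩ := LinearMap.exists_extend (b.coord 1)
  set u₁ : Fin 4 → F := ((b 0 : U) : Fin 4 → F) with hu₁
  set u₂ : Fin 4 → F := ((b 1 : U) : Fin 4 → F) with hu₂
  have hu₁U : u₁ ∈ U := (b 0).2
  have hu₂U : u₂ ∈ U := (b 1).2
  have hφ₁u : ∀ u : U, φ₁ (u : Fin 4 → F) = b.coord 0 u := fun u => by
    rw [← hφ₁]; rfl
  have hφ₂u : ∀ u : U, φ₂ (u : Fin 4 → F) = b.coord 1 u := fun u => by
    rw [← hφ₂]; rfl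
  have p11 : φ₁ u₁ = 1 := by rw [hu₁, hφ₁u]; simp [Module.Basis.coord_apply]
  have p12 : φ₁ u₂ = 0 := by rw [hu₂, hφ₁u]; simp [Module.Basis.coord_apply]
  have p21 : φ₂ u₁ = 0 := by rw [hu₁, hφ₂u]; simp [Module.Basis.coord_apply]
  have p22 : φ₂ u₂ = 1 := by rw [hu₂, hφ₂u]; simp [Module.Basis.coord_apply]
  set w₁ : Fin 4 → F := (Bf.toDual hnd).symm φ₁ with hw₁
  set w₂ : Fin 4 → F := (Bf.toDual hnd).symm φ₂ with hw₂
  have hw₁f : ∀ v, f₂ w₁ v = φ₁ v := fun v => by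
    rw [← symB_apply hf₂, hw₁]; exact LinearMap.BilinForm.apply_toDual_symm_apply φ₁ v
  have hw₂f : ∀ v, f₂ w₂ v = φ₂ v := fun v => by
    rw [← symB_apply hf₂, hw₂]; exact LinearMap.BilinForm.apply_toDual_symm_apply φ₂ v
  -- Gram values of `u₁ u₂ w₁ w₂`
  have g11 : f₂ w₁ u₁ = 1 := by rw [hw₁f, p11]
  have g12 : f₂ w₁ u₂ = 0 := by rw [hw₁f, p12]
  have g21 : f₂ w₂ u₁ = 0 := by rw [hw₂f, p21]
  have g22 : f₂ w₂ u₂ = 1 := by rw [hw₂f, p22]
  have k11 : f₂ u₁ u₁ = 0 := hUU _ hu₁U _ hu₁U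
  have k12 : f₂ u₁ u₂ = 0 := hUU _ hu₁U _ hu₂U
  have k22 : f₂ u₂ u₂ = 0 := hUU _ hu₂U _ hu₂U
  -- corrected partners
  set α : F := f₂ w₁ w₁ / 2 with hα
  set w₁' : Fin 4 → F := w₁ - α • u₁ with hw₁'
  set a : F := f₂ w₂ w₁' with ha
  set β : F := f₂ w₂ w₂ / 2 with hβ
  set w₂' : Fin 4 → F := w₂ - a • u₁ - β • u₂ with hw₂'
  have e1 : f₂ u₁ w₁' = 1 := by
    rw [hw₁', ← symB_apply hf₂]
    simp only [map_sub, map_smul, smul_eq_mul, symB_apply]
    rw [hs u₁ w₁, g11, k11]; ring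
  have e2 : f₂ u₂ w₁' = 0 := by
    rw [hw₁', ← symB_apply hf₂]
    simp only [map_sub, map_smul, smul_eq_mul, symB_apply]
    rw [hs u₂ w₁, g12, hs u₂ u₁, k12]; ring
  have e3 : f₂ w₁' w₁' = 0 := by
    rw [hw₁', ← symB_apply hf₂]
    simp only [map_sub, map_smul, LinearMap.sub_apply, LinearMap.smul_apply, smul_eq_mul, symB_apply]
    rw [hs u₁ w₁, g11, k11, hα]; field_simp; ring
  have e4 : f₂ u₁ w₂' = 0 := by
    rw [hw₂', ← symB_apply hf₂]
    simp only [map_sub, map_smul, smul_eq_mul, symB_apply]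
    rw [hs u₁ w₂, g21, k11, k12]; ring
  have e5 : f₂ u₂ w₂' = 1 := by
    rw [hw₂', ← symB_apply hf₂]
    simp only [map_sub, map_smul, smul_eq_mul, symB_apply]
    rw [hs u₂ w₂, g22, hs u₂ u₁, k12, k22]; ring
  have e6 : f₂ w₂' w₁' = 0 := by
    have : f₂ w₂' w₁' = f₂ w₂ w₁' - a * f₂ u₁ w₁' - β * f₂ u₂ w₁' := by
      rw [hw₂', ← symB_apply hf₂]
      simp only [map_sub, map_smul, LinearMap.sub_apply, LinearMap.smul_apply, smul_eq_mul, symB_apply]
    rw [this, e1, e2, ← ha]; ring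
  have e7 : f₂ w₂' w₂' = 0 := by
    rw [hw₂', ← symB_apply hf₂]
    simp only [map_sub, map_smul, LinearMap.sub_apply, LinearMap.smul_apply, smul_eq_mul, symB_apply]
    rw [hs u₁ w₂, hs u₂ w₂, hs u₂ u₁, g21, g22, k11, k12, k22, hβ]; field_simp; ring
  -- assemble: `b00 = u₁`, `b11 = w₁'`, `b01 = u₂`, `b10 = -w₂'`
  have n1 : f₂ u₂ (-w₂') = -1 := by
    have := hf₂.bilinear.smul_right (-1) u₂ w₂'
    rw [neg_one_smul] at this; rw [this, e5]; ring
  have n2 : f₂ u₁ (-w₂') = 0 := by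
    have := hf₂.bilinear.smul_right (-1) u₁ w₂'
    rw [neg_one_smul] at this; rw [this, e4]; ring
  have n3 : f₂ (-w₂') (-w₂') = 0 := by
    have h1 := hf₂.bilinear.smul_right (-1) (-w₂') w₂'
    have h2' := hf₂.bilinear.smul_left (-1) w₂' w₂'
    rw [neg_one_smul] at h1 h2'; rw [h1, h2', e7]; ring
  have n4 : f₂ (-w₂') w₁' = 0 := by
    have h2' := hf₂.bilinear.smul_left (-1) w₂' w₁'
    rw [neg_one_smul] at h2'; rw [h2', e6]; ring
  exact normal_form_of_gram hf₂ u₁ u₂ (-w₂') w₁' e1 n1 k11 k12 n2 k22 e2 n3 n4 e3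

end Cfsg.Agent.Lib.Helper9.SpMLeaf
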