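import Cfsg.Agent.Lib.Helper9.SpMS8a

/-!
# SpnMax stage 2 (helper27), leaf S8b `detForm_similarity` (helper9).  Exact signature of `notes/SpnMax_stage2_leaves.lean`.

Every similarity of `det` on `M_2(F)` (`char ≠ 2`) is `X ↦ a X bᵀ` or `X ↦ a Xᵀ bᵀ`.  Proof by rank-one matrices: the images
`P, S, T, R` of `E₀₀, E₀₁, E₁₀, E₁₁` are singular, hence outer products; `β(x yᵀ, z wᵀ) = ω(x,z) ω(y,w)`; `P = p₁ p₂ᵀ`,
`R = r₁ r₂ᵀ` with `ω(p₁,r₁) ω(p₂,r₂) = μ ≠ 0`; `S, T ⊥ P, R` are multiples of `p₁ r₂ᵀ` or `r₁ p₂ᵀ`, of different types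
because `β(S,T) = -μ ≠ 0`.
-/

set_option autoImplicit false
set_option linter.unusedSectionVars false
set_option linter.unusedVariables false

namespace Cfsg.Agent.Lib.Helper9.SpMLeaf

open Cfsg Cfsg.Geo Matrix Module Cfsg.Agent.Lib.Helper27.SpM
open scoped Kronecker

section tools
variable {F : Type*} [Field F]

/-- the symplectic form on `F²` -/
def om (x z : Fin 2 → F) : F := x 0 * z 1 - x 1 * z 0

/-- the outer product `x yᵀ` as a vector of `F^{2×2}` -/
def op (x y : Fin 2 → F) : Fin 2 × Fin 2 → F := fun p => x p.1 * y p.2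

/-- the determinant on `F^{2×2}` -/
def qd (X : Fin 2 × Fin 2 → F) : F := X (0, 0) * X (1, 1) - X (0, 1) * X (1, 0)

lemma detForm_self (X : Fin 2 × Fin 2 → F) : detForm F X X = 2 * qd X := by
  unfold detForm qd; ring

lemma detForm_op (x y z w : Fin 2 → F) : detForm F (op x y) (op z w) = om x z * om y w := by
  unfold detForm op om; ring

lemma detForm_smul_left (c : F) (X Y : Fin 2 × Fin 2 → F) : detForm F (c • X) Y = c * detForm F X Y := by
  unfold detForm; simp only [Pi.smul_apply, smul_eq_mul]; ring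

lemma detForm_smul_right (c : F) (X Y : Fin 2 × Fin 2 → F) : detForm F X (c • Y) = c * detForm F X Y := by
  unfold detForm; simp only [Pi.smul_apply, smul_eq_mul]; ring

lemma detForm_comm (X Y : Fin 2 × Fin 2 → F) : detForm F X Y = detForm F Y X := by
  unfold detForm; ring

lemma om_smul_left (c : F) (x z : Fin 2 → F) : om (c • x) z = c * om x z := by
  unfold om; simp only [Pi.smul_apply, smul_eq_mul]; ring

lemma om_smul_right (c : F) (x z : Fin 2 → F) : om x (c • z) = c * om x z := by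
  unfold om; simp only [Pi.smul_apply, smul_eq_mul]; ring

lemma om_self (x : Fin 2 → F) : om x x = 0 := by unfold om; ring

lemma om_swap (x z : Fin 2 → F) : om z x = - om x z := by unfold om; ring

lemma op_smul_left (c : F) (x y : Fin 2 → F) : op (c • x) y = c • op x y := by
  ext p; simp only [op, Pi.smul_apply, smul_eq_mul]; ring

lemma op_smul_right (c : F) (x y : Fin 2 → F) : op x (c • y) = c • op x y := by
  ext p; simp only [op, Pi.smul_apply, smul_eq_mul]; ring

lemma op_zero_left (y : Fin 2 → F) : op (0 : Fin 2 → F) y = 0 := by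
  ext p; simp [op]

lemma op_zero_right (x : Fin 2 → F) : op x (0 : Fin 2 → F) = 0 := by
  ext p; simp [op]

lemma exists_smul_of_om {x z : Fin 2 → F} (h : om x z = 0) (hz : z ≠ 0) : ∃ c : F, x = c • z := by
  unfold om at h
  by_cases h0 : z 0 = 0
  · have h1 : z 1 ≠ 0 := by
      intro h1; apply hz; ext i; fin_cases i <;> simp [h0, h1]
    refine ⟨x 1 / z 1, ?_⟩
    ext i; fin_cases i
    · simp only [Fin.zero_eta, Pi.smul_apply, smul_eq_mul, h0, mul_zero]
      rw [h0, mul_zero] at h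
      have : x 0 * z 1 = 0 := by linear_combination h
      rcases mul_eq_zero.1 this with h' | h'
      · exact h'
      · exact absurd h' h1
    · simp only [Fin.mk_one, Pi.smul_apply, smul_eq_mul]; field_simp
  · refine ⟨x 0 / z 0, ?_⟩
    ext i; fin_cases i
    · simp only [Fin.zero_eta, Pi.smul_apply, smul_eq_mul]; field_simp
    · simp only [Fin.mk_one, Pi.smul_apply, smul_eq_mul]; field_simp; linear_combination -h

lemma exists_op_of_qd {X : Fin 2 × Fin 2 → F} (h : qd X = 0) (h0 : X ≠ 0) : ∃ x y : Fin 2 → F, X = op x y := by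
  unfold qd at h
  by_cases h00 : X (0, 0) = 0
  · by_cases h01 : X (0, 1) = 0
    · by_cases h10 : X (1, 0) = 0
      · have h11 : X (1, 1) ≠ 0 := by
          intro h11; apply h0; ext ⟨i, j⟩; fin_cases i <;> fin_cases j <;> simp [h00, h01, h10, h11]
        refine ⟨![X (0, 1), X (1, 1)], ![X (1, 0) / X (1, 1), 1], ?_⟩
        ext ⟨i, j⟩; fin_cases i <;> fin_cases j <;> simp [op, h00, h01, h10]
      · refine ⟨![X (0, 0), X (1, 0)], ![1, X (1, 1) / X (1, 0)], ?_⟩
        ext ⟨i, j⟩; fin_cases i <;> fin_cases j <;> simp [op, h00, h01]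
        field_simp
    · refine ⟨![X (0, 1), X (1, 1)], ![X (0, 0) / X (0, 1), 1], ?_⟩
      ext ⟨i, j⟩; fin_cases i <;> fin_cases j <;> simp [op, h00]
      rw [h00] at h
      have : X (0, 1) * X (1, 0) = 0 := by linear_combination -h
      rcases mul_eq_zero.1 this with h' | h'
      · exact absurd h' h01
      · exact h'
  · refine ⟨![X (0, 0), X (1, 0)], ![1, X (0, 1) / X (0, 0)], ?_⟩
    ext ⟨i, j⟩; fin_cases i <;> fin_cases j <;> simp [op]
    · field_simp
    · field_simp; linear_combination h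
lemma om_ne_zero_left {x z : Fin 2 → F} (h : om x z ≠ 0) : x ≠ 0 := by
  rintro rfl; apply h; unfold om; simp

lemma om_ne_zero_right {x z : Fin 2 → F} (h : om x z ≠ 0) : z ≠ 0 := by
  rintro rfl; apply h; unfold om; simp

/-- a singular vector orthogonal to `op p₁ p₂` and `op r₁ r₂` is a multiple of `op p₁ r₂` or of `op r₁ p₂` -/
lemma type_of_sing {p₁ p₂ r₁ r₂ : Fin 2 → F} (h1 : om p₁ r₁ ≠ 0) (h2 : om p₂ r₂ ≠ 0)
    {S : Fin 2 × Fin 2 → F} (hq : qd S = 0) (hS0 : S ≠ 0)
    (hP : detForm F S (op p₁ p₂) = 0) (hR : detForm F S (op r₁ r₂) = 0) :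
    (∃ c : F, S = c • op p₁ r₂) ∨ (∃ c : F, S = c • op r₁ p₂) := by
  obtain ⟨s₁, s₂, rfl⟩ := exists_op_of_qd hq hS0
  have hs1 : s₁ ≠ 0 := by rintro rfl; exact hS0 (op_zero_left _)
  have hs2 : s₂ ≠ 0 := by rintro rfl; exact hS0 (op_zero_right _)
  have hp1 : p₁ ≠ 0 := om_ne_zero_left h1
  have hp2 : p₂ ≠ 0 := om_ne_zero_left h2
  have hr1 : r₁ ≠ 0 := om_ne_zero_right h1
  have hr2 : r₂ ≠ 0 := om_ne_zero_right h2
  rw [detForm_op] at hP hR
  rcases mul_eq_zero.1 hP with h | h
  · obtain ⟨c, rfl⟩ := exists_smul_of_om h hp1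
    have hc : c ≠ 0 := by rintro rfl; exact hs1 (zero_smul _ _)
    rw [om_smul_left] at hR
    have h' : om s₂ r₂ = 0 := by
      rcases mul_eq_zero.1 hR with h' | h'
      · exact absurd h' (mul_ne_zero hc h1)
      · exact h'
    obtain ⟨d, rfl⟩ := exists_smul_of_om h' hr2
    left
    exact ⟨c * d, by rw [op_smul_left, op_smul_right, smul_smul]⟩
  · obtain ⟨c, rfl⟩ := exists_smul_of_om h hp2
    have hc : c ≠ 0 := by rintro rfl; exact hs2 (zero_smul _ _)
    rw [om_smul_left] at hR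
    have h' : om s₁ r₁ = 0 := by
      rcases mul_eq_zero.1 hR with h' | h'
      · exact h'
      · exact absurd h' (mul_ne_zero hc h2)
    obtain ⟨d, rfl⟩ := exists_smul_of_om h' hr1
    right
    exact ⟨d * c, by rw [op_smul_left, op_smul_right, smul_smul]⟩

lemma swapMat_apply (r q : Fin 2 × Fin 2) :
    (Matrix.reindex (Equiv.refl _) (Equiv.prodComm (Fin 2) (Fin 2))
      (1 : Matrix (Fin 2 × Fin 2) (Fin 2 × Fin 2) F)) r q = (1 : Matrix (Fin 2 × Fin 2) (Fin 2 × Fin 2) F) r q.swap := rfl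

lemma mul_swapMat_apply (N : Matrix (Fin 2 × Fin 2) (Fin 2 × Fin 2) F) (p : Fin 2 × Fin 2) (k l : Fin 2) :
    (N * Matrix.reindex (Equiv.refl _) (Equiv.prodComm (Fin 2) (Fin 2))
      (1 : Matrix (Fin 2 × Fin 2) (Fin 2 × Fin 2) F)) p (k, l) = N p (l, k) := by
  rw [Matrix.mul_apply, Finset.sum_eq_single (l, k)]
  · rw [swapMat_apply, Prod.swap_prod_mk, Matrix.one_apply_eq, mul_one]
  · intro r _ hr
    rw [swapMat_apply, Prod.swap_prod_mk, Matrix.one_apply_ne hr, mul_zero]
  · intro h; exact absurd (Finset.mem_univ _) h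

/-- the matrix with columns `u`, `v` -/
def cols2 (u v : Fin 2 → F) : Matrix (Fin 2) (Fin 2) F := fun i k => if k = 0 then u i else v i

lemma cols2_zero (u v : Fin 2 → F) (i : Fin 2) : cols2 u v i 0 = u i := by simp [cols2]
lemma cols2_one (u v : Fin 2 → F) (i : Fin 2) : cols2 u v i 1 = v i := by simp [cols2]

lemma det_cols2 (u v : Fin 2 → F) : (cols2 u v).det = om u v := by
  rw [Matrix.det_fin_two]; simp [cols2, om]; ring

lemma detForm_zero_left (Y : Fin 2 × Fin 2 → F) : detForm F 0 Y = 0 := by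
  unfold detForm; simp

end tools

variable {F : Type*} [Field F] [Fintype F]

/-- S8b (L). -/
theorem detForm_similarity (h2 : (2 : F) ≠ 0) (g : GL (Fin 2 × Fin 2) F) (μ : F)
    (hg : ∀ x y : Fin 2 × Fin 2 → F, detForm F ((g : Matrix (Fin 2 × Fin 2) (Fin 2 × Fin 2) F) *ᵥ x)
      ((g : Matrix (Fin 2 × Fin 2) (Fin 2 × Fin 2) F) *ᵥ y) = μ * detForm F x y) :
    ∃ (a b : GL (Fin 2) F), (g : Matrix (Fin 2 × Fin 2) (Fin 2 × Fin 2) F) = (a : Matrix (Fin 2) (Fin 2) F) ⊗ₖ (b : Matrix (Fin 2) (Fin 2) F) ∨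
      (g : Matrix (Fin 2 × Fin 2) (Fin 2 × Fin 2) F) = ((a : Matrix (Fin 2) (Fin 2) F) ⊗ₖ (b : Matrix (Fin 2) (Fin 2) F)) *
        (Matrix.reindex (Equiv.refl _) (Equiv.prodComm (Fin 2) (Fin 2)) (1 : Matrix (Fin 2 × Fin 2) (Fin 2 × Fin 2) F)) := by
  classical
  set G : Matrix (Fin 2 × Fin 2) (Fin 2 × Fin 2) F := (g : Matrix (Fin 2 × Fin 2) (Fin 2 × Fin 2) F) with hG
  set col : Fin 2 × Fin 2 → (Fin 2 × Fin 2 → F) := fun q p => G p q with hcol
  have hcolE : ∀ q, G *ᵥ Pi.single q 1 = col q := by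
    intro q; ext p; simp [hcol]
  have hcc : ∀ q q', detForm F (col q) (col q') = μ * detForm F (Pi.single q (1 : F)) (Pi.single q' (1 : F)) := by
    intro q q'; rw [← hcolE, ← hcolE]; exact hg _ _
  -- Gram values of the standard basis
  have d1 : detForm F (Pi.single ((0 : Fin 2), (0 : Fin 2)) (1 : F)) (Pi.single ((1 : Fin 2), (1 : Fin 2)) (1 : F)) = 1 := by
    unfold detForm; simp
  have d2 : detForm F (Pi.single ((0 : Fin 2), (1 : Fin 2)) (1 : F)) (Pi.single ((1 : Fin 2), (0 : Fin 2)) (1 : F)) = -1 := by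
    unfold detForm; simp
  have d3 : ∀ q : Fin 2 × Fin 2, detForm F (Pi.single q (1 : F)) (Pi.single q (1 : F)) = 0 := by
    rintro ⟨i, j⟩; fin_cases i <;> fin_cases j <;> (unfold detForm; simp)
  have d4 : detForm F (Pi.single ((0 : Fin 2), (1 : Fin 2)) (1 : F)) (Pi.single ((0 : Fin 2), (0 : Fin 2)) (1 : F)) = 0 := by
    unfold detForm; simp
  have d5 : detForm F (Pi.single ((0 : Fin 2), (1 : Fin 2)) (1 : F)) (Pi.single ((1 : Fin 2), (1 : Fin 2)) (1 : F)) = 0 := by
    unfold detForm; simp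
  have d6 : detForm F (Pi.single ((1 : Fin 2), (0 : Fin 2)) (1 : F)) (Pi.single ((0 : Fin 2), (0 : Fin 2)) (1 : F)) = 0 := by
    unfold detForm; simp
  have d7 : detForm F (Pi.single ((1 : Fin 2), (0 : Fin 2)) (1 : F)) (Pi.single ((1 : Fin 2), (1 : Fin 2)) (1 : F)) = 0 := by
    unfold detForm; simp
  -- `μ ≠ 0`
  have hμ : μ ≠ 0 := by
    rintro rfl
    have hgi : ∀ v : Fin 2 × Fin 2 → F, G *ᵥ ((g⁻¹ : GL (Fin 2 × Fin 2) F).val *ᵥ v) = v := by
      intro v
      rw [Matrix.mulVec_mulVec, hG, ← Units.val_mul, mul_inv_cancel, Units.val_one, Matrix.one_mulVec]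
    have := hg ((g⁻¹ : GL (Fin 2 × Fin 2) F).val *ᵥ Pi.single (0, 0) 1) ((g⁻¹ : GL (Fin 2 × Fin 2) F).val *ᵥ Pi.single (1, 1) 1)
    rw [hgi, hgi, d1, zero_mul] at this
    exact one_ne_zero this
  -- the columns are singular and non-zero
  have hqd : ∀ q, qd (col q) = 0 := by
    intro q
    have := hcc q q
    rw [d3, mul_zero, detForm_self] at this
    rcases mul_eq_zero.1 this with h | h
    · exact absurd h h2
    · exact h
  have h00 : col (0, 0) ≠ 0 := by
    intro h; have := hcc (0, 0) (1, 1); rw [h, detForm_zero_left, d1, mul_one] at this; exact hμ this.symm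
  have h01 : col (0, 1) ≠ 0 := by
    intro h; have := hcc (0, 1) (1, 0); rw [h, detForm_zero_left, d2] at this
    apply hμ; linear_combination this
  have h10 : col (1, 0) ≠ 0 := by
    intro h; have := hcc (0, 1) (1, 0); rw [h, detForm_comm, detForm_zero_left, d2] at this
    apply hμ; linear_combination this
  have h11 : col (1, 1) ≠ 0 := by
    intro h; have := hcc (0, 0) (1, 1); rw [h, detForm_comm, detForm_zero_left, d1, mul_one] at this
    exact hμ this.symm
  obtain ⟨p₁, p₂, hP⟩ := exists_op_of_qd (hqd (0, 0)) h00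
  obtain ⟨r₁, r₂, hR⟩ := exists_op_of_qd (hqd (1, 1)) h11
  have hPR : om p₁ r₁ * om p₂ r₂ = μ := by
    have := hcc (0, 0) (1, 1)
    rw [hP, hR, detForm_op, d1, mul_one] at this
    exact this
  have ho1 : om p₁ r₁ ≠ 0 := fun h => hμ (by rw [← hPR, h, zero_mul])
  have ho2 : om p₂ r₂ ≠ 0 := fun h => hμ (by rw [← hPR, h, mul_zero])
  have hS := type_of_sing ho1 ho2 (hqd (0, 1)) h01
    (by rw [← hP, hcc, d4, mul_zero]) (by rw [← hR, hcc, d5, mul_zero])
  have hT := type_of_sing ho1 ho2 (hqd (1, 0)) h10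
    (by rw [← hP, hcc, d6, mul_zero]) (by rw [← hR, hcc, d7, mul_zero])
  have hST : detForm F (col (0, 1)) (col (1, 0)) = -μ := by rw [hcc, d2]; ring
  -- entries of `G`
  have hGe : ∀ i j k l, G (i, j) (k, l) = col (k, l) (i, j) := fun i j k l => rfl
  rcases hS with ⟨c, hS⟩ | ⟨c, hS⟩ <;> rcases hT with ⟨d, hT⟩ | ⟨d, hT⟩
  · exfalso
    rw [hS, hT, detForm_smul_left, detForm_smul_right, detForm_op, om_self, zero_mul, mul_zero, mul_zero] at hST
    exact hμ (by linear_combination hST)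
  · -- case A
    have hcd : c * d = 1 := by
      rw [hS, hT, detForm_smul_left, detForm_smul_right, detForm_op, om_swap p₂ r₂] at hST
      have : (c * d - 1) * μ = 0 := by linear_combination -hST - c * d * hPR
      rcases mul_eq_zero.1 this with h | h
      · linear_combination h
      · exact absurd h hμ
    have hc0 : c ≠ 0 := left_ne_zero_of_mul_eq_one hcd
    have hd0 : d ≠ 0 := right_ne_zero_of_mul_eq_one hcd
    refine ⟨Matrix.GeneralLinearGroup.mk'' (cols2 p₁ (d • r₁)) (by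
        rw [det_cols2, om_smul_right]; exact isUnit_iff_ne_zero.2 (mul_ne_zero hd0 ho1)),
      Matrix.GeneralLinearGroup.mk'' (cols2 p₂ (c • r₂)) (by
        rw [det_cols2, om_smul_right]; exact isUnit_iff_ne_zero.2 (mul_ne_zero hc0 ho2)), Or.inl ?_⟩
    ext ⟨i, j⟩ ⟨k, l⟩
    change G (i, j) (k, l) = (cols2 p₁ (d • r₁) ⊗ₖ cols2 p₂ (c • r₂)) (i, j) (k, l)
    rw [Matrix.kroneckerMap_apply, hGe]
    fin_cases k <;> fin_cases l
    · simp only [Fin.zero_eta, cols2_zero]; rw [hP]; rfl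
    · simp only [Fin.zero_eta, Fin.mk_one, cols2_zero, cols2_one]; rw [hS]
      simp only [Pi.smul_apply, op, smul_eq_mul]; ring
    · simp only [Fin.zero_eta, Fin.mk_one, cols2_zero, cols2_one]; rw [hT]
      simp only [Pi.smul_apply, op, smul_eq_mul]; ring
    · simp only [Fin.mk_one, cols2_one]; rw [hR]
      simp only [Pi.smul_apply, op, smul_eq_mul]
      have : r₁ i * r₂ j = (c * d) * (r₁ i * r₂ j) := by rw [hcd, one_mul]
      rw [this]; ring
  · -- case B
    have hcd : c * d = 1 := by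
      rw [hS, hT, detForm_smul_left, detForm_smul_right, detForm_op, om_swap p₁ r₁] at hST
      have : (c * d - 1) * μ = 0 := by linear_combination -hST - c * d * hPR
      rcases mul_eq_zero.1 this with h | h
      · linear_combination h
      · exact absurd h hμ
    have hc0 : c ≠ 0 := left_ne_zero_of_mul_eq_one hcd
    have hd0 : d ≠ 0 := right_ne_zero_of_mul_eq_one hcd
    refine ⟨Matrix.GeneralLinearGroup.mk'' (cols2 p₁ (c • r₁)) (by
        rw [det_cols2, om_smul_right]; exact isUnit_iff_ne_zero.2 (mul_ne_zero hc0 ho1)),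
      Matrix.GeneralLinearGroup.mk'' (cols2 p₂ (d • r₂)) (by
        rw [det_cols2, om_smul_right]; exact isUnit_iff_ne_zero.2 (mul_ne_zero hd0 ho2)), Or.inr ?_⟩
    ext ⟨i, j⟩ ⟨k, l⟩
    change G (i, j) (k, l) = ((cols2 p₁ (c • r₁) ⊗ₖ cols2 p₂ (d • r₂)) *
      (Matrix.reindex (Equiv.refl _) (Equiv.prodComm (Fin 2) (Fin 2)) (1 : Matrix (Fin 2 × Fin 2) (Fin 2 × Fin 2) F))) (i, j) (k, l)
    rw [mul_swapMat_apply, Matrix.kroneckerMap_apply, hGe]
    fin_cases k <;> fin_cases l
    · simp only [Fin.zero_eta, cols2_zero]; rw [hP]; rfl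
    · simp only [Fin.zero_eta, Fin.mk_one, cols2_zero, cols2_one]; rw [hS]
      simp only [Pi.smul_apply, op, smul_eq_mul]; ring
    · simp only [Fin.zero_eta, Fin.mk_one, cols2_zero, cols2_one]; rw [hT]
      simp only [Pi.smul_apply, op, smul_eq_mul]; ring
    · simp only [Fin.mk_one, cols2_one]; rw [hR]
      simp only [Pi.smul_apply, op, smul_eq_mul]
      have : r₁ i * r₂ j = (c * d) * (r₁ i * r₂ j) := by rw [hcd, one_mul]
      rw [this]; ring
  · exfalso
    rw [hS, hT, detForm_smul_left, detForm_smul_right, detForm_op, om_self, zero_mul, mul_zero, mul_zero] at hST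
    exact hμ (by linear_combination hST)

end Cfsg.Agent.Lib.Helper9.SpMLeaf
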