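import Mathlib
import Cfsg.Prelude.Def_GeometricClasses
import Cfsg.Agent.Lib.Helper5.TSMax
import Cfsg.Agent.Lib.Helper20.OSubDEC
import Cfsg.Agent.Lib.Helper25.SpTDefs
import Cfsg.Agent.Lib.Helper27.SpTGDefs
import Cfsg.Agent.Lib.Helper9.SpTGG3
import Cfsg.Agent.Lib.Helper23.SpTGS

/-!
S5704 Stage III (G) leaves G3, G4, G5, G6 (helper27's sub-market), exact signatures of
`notes/S5704_G_leaves.lean`: the cores of `SpTGG3.lean` fed with helper23's `S`-block.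
-/

set_option autoImplicit false
set_option linter.unusedSectionVars false
set_option linter.unusedVariables false

namespace Cfsg.Agent.Lib.Helper9.SpTGLeaf
open Matrix QuadraticMap
open Cfsg.Agent.Lib.Helper25.Tens Cfsg.Agent.Lib.Helper25.SpT Cfsg.Agent.Lib.Helper19.OSub
  Cfsg.Agent.Lib.Helper27.SpTG
open Cfsg.Agent.Lib.Helper23.SpTGLeaf
open scoped commutatorElement

variable {F : Type*} [Field F] {a b : ℕ} {Q : QuadraticForm F (Idx a b → F)}
  {M : Subgroup (GL (Idx a b) F)}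

section G
variable [Fintype F]

/-- G3: T3 & T3 → T7 (`b ≥ 6`). -/
theorem P7_of_P3 (h : GCtx a b Q M) (h3 : P3 Q M) : P7 Q M :=
  P7_of_P3_core (fun hn _ hx => exists_sf_eq_one hn hx)
    (fun hn h6 y y₁ => exists_hyp_pair_perp2 hn h6 y y₁) h h3

/-- G4: T3 & T7 → T4. -/
theorem P4_of_P3_P7 (h : GCtx a b Q M) (h3 : P3 Q M) (h7 : P7 Q M) : P4 Q M :=
  P4_of_P3_P7_core (fun hn _ hx => exists_sf_eq_one hn hx)
    (fun hn h4 _ _ hne => exists_pair_of_ne hn h4 hne) h h3 h7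

/-- G5: T4 & T7 → T6. -/
theorem P6_of_P4_P7 (h : GCtx a b Q M) (h4 : P4 Q M) (h7 : P7 Q M) : P6 Q M :=
  P6_of_P4_P7_core (fun hn _ _ hli => exists_perp_not_perp hn hli) h h4 h7

/-- G6: T1 & T1 → T4 (`a ≥ 4`). -/
theorem P4_of_P1 (h : GCtx a b Q M) (ha4 : 4 ≤ a) (h1 : P1 Q M) : P4 Q M :=
  P4_of_P1_core (fun hn _ hx => exists_sf_eq_one hn hx)
    (fun hn h4 x => exists_hyp_pair_perp1 hn h4 x) h ha4 h1

end G

end Cfsg.Agent.Lib.Helper9.SpTGLeaf
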