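import Mathlib.Data.Nat.Notation
import Mathlib.Data.Int.Notation

/-!
# Tableau checker for the uniqueness of `srg(77,16,0,4)`: computational definitions

A *model* is a list of `n` named vertices together with partial knowledge of their adjacencies
(`a1` = known adjacent, `a0` = known non-adjacent, as bit rows).  A certificate is a flat list of
natural numbers, read by `chk`.
-/

set_option autoImplicit false

namespace Cfsg.Agent.Lib.Helper9.Srg77

structure Model where
  n : ℕ
  a1 : List ℕ
  a0 : List ℕ

namespace Model

def adj1 (M : Model) (i j : ℕ) : Bool := (M.a1.getD i 0).testBit j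
def adj0 (M : Model) (i j : ℕ) : Bool := (M.a0.getD i 0).testBit j

def orBit (l : List ℕ) (i j : ℕ) : List ℕ := l.set i (l.getD i 0 ||| (1 <<< j))

def setE (M : Model) (p q : ℕ) (v : Bool) : Model :=
  if v then ⟨M.n, orBit (orBit M.a1 p q) q p, M.a0⟩
  else ⟨M.n, M.a1, orBit (orBit M.a0 p q) q p⟩

def addV (M : Model) : Model := ⟨M.n + 1, M.a1 ++ [0], M.a0 ++ [0]⟩

def empty : Model := ⟨0, [], []⟩

def count (M : Model) (p : ℕ → Bool) : ℕ := ((List.range M.n).filter p).length

def okNewN (M : Model) (i : ℕ) : Bool :=
  decide (i < M.n) && decide (M.count (fun w => decide (w ≠ i) && !M.adj0 i w) ≤ 15)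

def okNewC (M : Model) (i j : ℕ) : Bool :=
  decide (i < M.n) && decide (j < M.n) && decide (i ≠ j) && M.adj0 i j &&
    decide (M.count (fun w => decide (w ≠ i) && decide (w ≠ j) && !M.adj0 i w && !M.adj0 j w) ≤ 3)

def okPair (M : Model) (p q : ℕ) : Bool :=
  decide (p < M.n) && decide (q < M.n) && decide (p ≠ q)

def okClash (M : Model) (i j : ℕ) : Bool :=
  decide (i < M.n) && decide (j < M.n) && M.adj1 i j && M.adj0 i j

def okTri (M : Model) (i j k : ℕ) : Bool :=
  decide (i < M.n) && decide (j < M.n) && decide (k < M.n) && M.adj1 i j && M.adj1 j k && M.adj1 i k

def okMu5 (M : Model) (i j : ℕ) : Bool :=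
  decide (i < M.n) && decide (j < M.n) && decide (i ≠ j) && M.adj0 i j &&
    decide (5 ≤ M.count (fun w => M.adj1 i w && M.adj1 j w))

def okDeg17 (M : Model) (i : ℕ) : Bool :=
  decide (i < M.n) && decide (17 ≤ M.count (fun w => M.adj1 i w))

end Model

open Model

/-- decode a signed weight -/
def decW (w : ℕ) : ℤ := if w % 2 = 1 then -((w / 2 : ℕ) : ℤ) else ((w / 2 : ℕ) : ℤ)

def pairsOf : List ℕ → List (ℕ × ℤ)
  | i :: w :: t => (i, decW w) :: pairsOf t
  | _ => []

def psdEntry (form : ℕ) (M : Model) (i j : ℕ) : ℤ :=
  if i = j then (if form = 0 then 48 else 80)
  else if M.adj1 i j then (if form = 0 then -18 else 10) else (if form = 0 then 4 else -4)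

def psdVal (form : ℕ) (M : Model) (ws : List (ℕ × ℤ)) : ℤ :=
  (ws.map fun a => (ws.map fun b => a.2 * b.2 * psdEntry form M a.1 b.1).sum).sum

def psdKnown (M : Model) (ws : List (ℕ × ℤ)) : Bool :=
  ws.all fun a => decide (a.1 < M.n) &&
    ws.all fun b => decide (a.1 = b.1) || M.adj1 a.1 b.1 || M.adj0 a.1 b.1

def okPsd (M : Model) (form : ℕ) (ws : List (ℕ × ℤ)) : Bool :=
  psdKnown M ws && decide (psdVal form M ws < 0)

def nodupB : List ℕ → Bool
  | [] => true
  | a :: t => !t.contains a && nodupB t

def takePerms : ℕ → ℕ → List ℕ → List (List ℕ) × List ℕ
  | 0, _, ts => ([], ts)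
  | m + 1, n, ts => ((ts.take n) :: (takePerms m n (ts.drop n)).1, (takePerms m n (ts.drop n)).2)

def permOK (M : Model) (π : List ℕ) : Bool :=
  decide (π.length = M.n) && π.all (fun x => decide (x < M.n)) && nodupB π &&
  (List.range M.n).all fun i => (List.range M.n).all fun j =>
    (!M.adj1 i j || M.adj1 (π.getD i 0) (π.getD j 0)) &&
    (!M.adj0 i j || M.adj0 (π.getD i 0) (π.getD j 0))

def wlogZero (M : Model) (p q : ℕ) (pis : List (List ℕ)) : Model :=
  pis.foldl (fun M' π => M'.setE (π.getD p 0) (π.getD q 0) false) (M.setE p q false)

/-- rows of the adjacency matrix of the reference graph (block graph of `S(3,6,22)`) -/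
def h0rows : List ℕ := [48761618768695572561920,
  65536094081481957179392,
  95498924806612132560896,
  14402343442150546472960,
  78032473804442206994432,
  132759199485980477227008,
  27246034651736837193728,
  87964509457911434444800,
  5500091413707876204544,
  11621449215100051259392,
  80341335095820846891008,
  11972801688496941039616,
  127504111563034194870272,
  40324609743082684940288,
  18894818620758240002048,
  1187618419571978928128,
  18890990694778682736640,
  298787588979065618432,
  304962693053634576384,
  1190126385756511404032,
  38461463089819995340800,
  130732075250379593334784,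
  99178021044173745695232,
  21408344965665596282368,
  2151393748842883152896,
  85308409482489906651456,
  487109530309952606400,
  20167191221944468255104,
  12986706215248426501408,
  57037486221196924587392,
  5939937485857716586656,
  113350649825433212881728,
  10035680976159023703136,
  37929172584655302706880,
  4741538943650349818528,
  2380829109728689279776,
  628363201029052078176,
  15362102588246139805716,
  19795085773359339319320,
  3582415345213785788428,
  58439375297556047596568,
  9887571917186813936658,
  75890071752474688063498,
  40143142649311445714444,
  42511684209522241489428,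
  9518955102385771684870,
  115304535385732421638,
  75576676387527348871690,
  170686988833234686482,
  96808513233173769486601,
  23759406586881048346769,
  39273118238553778766232,
  47229429581373300801876,
  76150465469478175318089,
  4798459589217376297093,
  37816690325941685223628,
  2444193733816501768453,
  747093183381737984081,
  5312698498505752774705,
  75631686740236141086979,
  221365451004078916739,
  9463206740765291217202,
  2951483907376668525609,
  55556422735074427050,
  11531889384902102085,
  18898725407698863531793,
  1819559803264959096,
  1181890066992668354860,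
  7083551982976883884581,
  5053040229333599110,
  75705439932092013642307,
  299832221122259069138,
  295455293601805768010,
  18891776315612855278217,
  9481628144111643082854,
  42811695528161315,
  1181177796756645090484]

def h0bit (a b : ℕ) : Bool := (h0rows.getD a 0).testBit b

def okFull (M : Model) (π : List ℕ) : Bool :=
  decide (M.n = 77) && decide (π.length = 77) && π.all (fun x => decide (x < 77)) && nodupB π &&
  (List.range 77).all fun i => (List.range 77).all fun j =>
    decide (i = j) || ((M.adj1 i j && h0bit (π.getD i 0) (π.getD j 0)) ||
      (M.adj0 i j && !h0bit (π.getD i 0) (π.getD j 0)))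

inductive Step
  | closed (rest : List ℕ)
  | one (M' : Model) (rest : List ℕ)
  | two (M1 M2 : Model) (rest : List ℕ)
  | fail

def step (M : Model) (ts : List ℕ) : Step :=
  match ts with
  | [] => .fail
  | op :: ts =>
    if op = 0 then (if M.n ≤ 76 then .one M.addV ts else .fail)
    else if op = 1 then
      match ts with
      | i :: ts => if okNewN M i then .one (M.addV.setE M.n i true) ts else .fail
      | _ => .fail
    else if op = 2 then
      match ts with
      | i :: j :: ts =>
        if okNewC M i j then .one ((M.addV.setE M.n i true).setE M.n j true) ts else .fail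
      | _ => .fail
    else if op = 3 then
      match ts with
      | p :: q :: ts => if okPair M p q then .two (M.setE p q false) (M.setE p q true) ts else .fail
      | _ => .fail
    else if op = 4 then
      match ts with
      | p :: q :: ts => if okPair M p q then .two (M.setE p q true) (M.setE p q false) ts else .fail
      | _ => .fail
    else if op = 5 then
      match ts with
      | p :: q :: m :: ts =>
        if okPair M p q && (takePerms m M.n ts).1.all (permOK M) then
          .two (M.setE p q true) (wlogZero M p q (takePerms m M.n ts).1) (takePerms m M.n ts).2
        else .fail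
      | _ => .fail
    else if op = 6 then
      match ts with
      | i :: j :: ts => if okClash M i j then .closed ts else .fail
      | _ => .fail
    else if op = 7 then
      match ts with
      | i :: j :: k :: ts => if okTri M i j k then .closed ts else .fail
      | _ => .fail
    else if op = 8 then
      match ts with
      | i :: j :: ts => if okMu5 M i j then .closed ts else .fail
      | _ => .fail
    else if op = 9 then
      match ts with
      | i :: ts => if okDeg17 M i then .closed ts else .fail
      | _ => .fail
    else if op = 10 then (if 78 ≤ M.n then .closed ts else .fail)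
    else if op = 11 then
      match ts with
      | form :: m :: ts =>
        if okPsd M form (pairsOf (ts.take (2 * m))) then .closed (ts.drop (2 * m)) else .fail
      | _ => .fail
    else if op = 12 then
      (if okFull M (ts.take 77) then .closed (ts.drop 77) else .fail)
    else .fail

def chk : ℕ → Model → List ℕ → Option (List ℕ)
  | 0, _, _ => none
  | f + 1, M, ts =>
    match step M ts with
    | .closed r => some r
    | .one M' r => chk f M' r
    | .two M1 M2 r => (chk f M1 r).bind (chk f M2)
    | .fail => none

end Cfsg.Agent.Lib.Helper9.Srg77
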