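import Cfsg.Agent.Lib.Helper9.Srg77SoundD
import Cfsg.Agent.Lib.Helper9.Srg77Seg1
import Cfsg.Agent.Lib.Helper9.Srg77Seg2
import Cfsg.Agent.Lib.Helper9.Srg77Seg3
import Cfsg.Agent.Lib.Helper9.Srg77Seg4
import Cfsg.Agent.Lib.Helper9.Srg77Seg5
import Cfsg.Agent.Lib.Helper9.Srg77Seg6
import Cfsg.Agent.Lib.Helper9.Srg77Seg7
import Cfsg.Agent.Lib.Helper9.Srg77Seg8
import Cfsg.Agent.Lib.Helper9.Srg77Seg9
import Cfsg.Agent.Lib.Helper9.Srg77Seg10
import Cfsg.Agent.Lib.Helper9.Srg77Seg11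
import Cfsg.Agent.Lib.Helper9.Srg77Seg12
import Cfsg.Agent.Lib.Helper9.Srg77Seg13
import Cfsg.Agent.Lib.Helper9.Srg77Seg14
import Cfsg.Agent.Lib.Helper9.Srg77Seg15
import Cfsg.Agent.Lib.Helper9.Srg77Seg16
import Cfsg.Agent.Lib.Helper9.Srg77Seg17
import Cfsg.Agent.Lib.Helper9.Srg77Seg18
import Cfsg.Agent.Lib.Helper9.Srg77Seg19
import Cfsg.Agent.Lib.Helper9.Srg77Seg20
import Cfsg.Agent.Lib.Helper9.Srg77Seg21
import Cfsg.Agent.Lib.Helper9.Srg77Seg22
import Cfsg.Agent.Lib.Helper9.Srg77Seg23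
import Cfsg.Agent.Lib.Helper9.Srg77Seg24
import Cfsg.Agent.Lib.Helper9.Srg77Seg25

/-!
# Uniqueness of `srg(77,16,0,4)`: assembling the certificate segments
-/

set_option autoImplicit false

namespace Cfsg.Agent.Lib.Helper9.Srg77

variable {V : Type*} [Fintype V] {G : SimpleGraph V} [DecidableRel G.Adj]

/-- every strongly regular graph with parameters `(77,16,0,4)` is isomorphic to the reference
graph `H0` (the block graph of `S(3,6,22)`) -/
theorem iso_H0 (hG : G.IsSRGWith 77 16 0 4) : Nonempty (G ≃g H0) := by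
  have h25 : AllProved G stM24 stS24 := run_sound hG _ _ _ _ _ seg25_ok trivial
  have h24 : AllProved G stM23 stS23 := run_sound hG _ _ _ _ _ seg24_ok h25
  have h23 : AllProved G stM22 stS22 := run_sound hG _ _ _ _ _ seg23_ok h24
  have h22 : AllProved G stM21 stS21 := run_sound hG _ _ _ _ _ seg22_ok h23
  have h21 : AllProved G stM20 stS20 := run_sound hG _ _ _ _ _ seg21_ok h22
  have h20 : AllProved G stM19 stS19 := run_sound hG _ _ _ _ _ seg20_ok h21
  have h19 : AllProved G stM18 stS18 := run_sound hG _ _ _ _ _ seg19_ok h20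
  have h18 : AllProved G stM17 stS17 := run_sound hG _ _ _ _ _ seg18_ok h19
  have h17 : AllProved G stM16 stS16 := run_sound hG _ _ _ _ _ seg17_ok h18
  have h16 : AllProved G stM15 stS15 := run_sound hG _ _ _ _ _ seg16_ok h17
  have h15 : AllProved G stM14 stS14 := run_sound hG _ _ _ _ _ seg15_ok h16
  have h14 : AllProved G stM13 stS13 := run_sound hG _ _ _ _ _ seg14_ok h15
  have h13 : AllProved G stM12 stS12 := run_sound hG _ _ _ _ _ seg13_ok h14
  have h12 : AllProved G stM11 stS11 := run_sound hG _ _ _ _ _ seg12_ok h13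
  have h11 : AllProved G stM10 stS10 := run_sound hG _ _ _ _ _ seg11_ok h12
  have h10 : AllProved G stM9 stS9 := run_sound hG _ _ _ _ _ seg10_ok h11
  have h9 : AllProved G stM8 stS8 := run_sound hG _ _ _ _ _ seg9_ok h10
  have h8 : AllProved G stM7 stS7 := run_sound hG _ _ _ _ _ seg8_ok h9
  have h7 : AllProved G stM6 stS6 := run_sound hG _ _ _ _ _ seg7_ok h8
  have h6 : AllProved G stM5 stS5 := run_sound hG _ _ _ _ _ seg6_ok h7
  have h5 : AllProved G stM4 stS4 := run_sound hG _ _ _ _ _ seg5_ok h6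
  have h4 : AllProved G stM3 stS3 := run_sound hG _ _ _ _ _ seg4_ok h5
  have h3 : AllProved G stM2 stS2 := run_sound hG _ _ _ _ _ seg3_ok h4
  have h2 : AllProved G stM1 stS1 := run_sound hG _ _ _ _ _ seg2_ok h3
  have h1 : AllProved G stM0 stS0 := run_sound hG _ _ _ _ _ seg1_ok h2
  exact iso_of_proved_empty hG h1.1

end Cfsg.Agent.Lib.Helper9.Srg77
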