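import Mathlib

/-!
# Positive semidefinite forms attached to a strongly regular graph `srg(77,16,0,4)`

For the adjacency matrix `A` of such a graph, `A² = 12 I - 4 A + 4 J`, hence
`P = 44 I - 22 A + 4 J` and `R = 84 I + 14 A - 4 J` satisfy `P² = 176 P`, `R² = 112 R`
and are positive semidefinite (they are multiples of the eigenspace projections).
-/

set_option autoImplicit false

namespace Cfsg.Agent.Lib.Helper9.Srg77

open Matrix Finset

variable {V : Type*} [Fintype V] {G : SimpleGraph V} [DecidableRel G.Adj]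

/-- the all-ones matrix -/
def allOnes (V : Type*) : Matrix V V ℤ := Matrix.of fun _ _ => 1

section
variable [DecidableEq V]
set_option linter.unusedSectionVars false

theorem adj_sq (hG : G.IsSRGWith 77 16 0 4) :
    G.adjMatrix ℤ * G.adjMatrix ℤ = (12 : ℤ) • (1 : Matrix V V ℤ) - (4 : ℤ) • G.adjMatrix ℤ
      + (4 : ℤ) • allOnes V := by
  have h := hG.matrix_eq (α := ℤ)
  rw [pow_two] at h
  ext u v
  have h' := congrFun (congrFun h u) v
  rw [h']
  simp only [Matrix.add_apply, Matrix.sub_apply, Matrix.smul_apply]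
  simp only [SimpleGraph.adjMatrix_apply, SimpleGraph.compl_adj, allOnes, Matrix.of_apply,
    Matrix.one_apply, smul_eq_mul, nsmul_eq_mul]
  by_cases huv : u = v
  · subst huv; simp
  · by_cases ha : G.Adj u v <;> simp [huv, ha]

theorem adj_mul_ones (hG : G.IsSRGWith 77 16 0 4) :
    G.adjMatrix ℤ * allOnes V = (16 : ℤ) • allOnes V := by
  ext u v
  simp only [Matrix.mul_apply, SimpleGraph.adjMatrix_apply, allOnes, Matrix.of_apply, mul_one,
    Matrix.smul_apply, smul_eq_mul]
  rw [Finset.sum_boole]
  have : (Finset.univ.filter fun x => G.Adj u x) = G.neighborFinset u := by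
    ext x; simp
  rw [this, SimpleGraph.card_neighborFinset_eq_degree, hG.regular u]; rfl

theorem ones_mul_adj (hG : G.IsSRGWith 77 16 0 4) :
    allOnes V * G.adjMatrix ℤ = (16 : ℤ) • allOnes V := by
  ext u v
  simp only [Matrix.mul_apply, SimpleGraph.adjMatrix_apply, allOnes, Matrix.of_apply, one_mul,
    Matrix.smul_apply, smul_eq_mul, mul_one]
  rw [Finset.sum_boole]
  have : (Finset.univ.filter fun x => G.Adj x v) = G.neighborFinset v := by
    ext x; simp [SimpleGraph.adj_comm]
  rw [this, SimpleGraph.card_neighborFinset_eq_degree, hG.regular v]; rfl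

theorem ones_mul_ones (hG : G.IsSRGWith 77 16 0 4) :
    allOnes V * allOnes V = (77 : ℤ) • allOnes V := by
  ext u v
  simp only [Matrix.mul_apply, allOnes, Matrix.of_apply, mul_one, Matrix.smul_apply, smul_eq_mul,
    Finset.sum_const, Finset.card_univ, hG.card]
  rfl

/-- `P = 44 I - 22 A + 4 J` -/
def matP (G : SimpleGraph V) [DecidableRel G.Adj] : Matrix V V ℤ :=
  (44 : ℤ) • (1 : Matrix V V ℤ) - (22 : ℤ) • G.adjMatrix ℤ + (4 : ℤ) • allOnes V

/-- `R = 84 I + 14 A - 4 J` -/
def matR (G : SimpleGraph V) [DecidableRel G.Adj] : Matrix V V ℤ :=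
  (84 : ℤ) • (1 : Matrix V V ℤ) + (14 : ℤ) • G.adjMatrix ℤ - (4 : ℤ) • allOnes V

theorem matP_sq (hG : G.IsSRGWith 77 16 0 4) : matP G * matP G = (176 : ℤ) • matP G := by
  have h1 := adj_sq hG
  have h2 := adj_mul_ones hG
  have h3 := ones_mul_adj hG
  have h4 := ones_mul_ones hG
  unfold matP
  simp only [mul_add, add_mul, mul_sub, sub_mul, smul_mul_assoc, mul_smul_comm, one_mul, mul_one,
    h1, h2, h3, h4, smul_add, smul_sub, smul_smul]
  module

theorem matR_sq (hG : G.IsSRGWith 77 16 0 4) : matR G * matR G = (112 : ℤ) • matR G := by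
  have h1 := adj_sq hG
  have h2 := adj_mul_ones hG
  have h3 := ones_mul_adj hG
  have h4 := ones_mul_ones hG
  unfold matR
  simp only [mul_add, add_mul, mul_sub, sub_mul, smul_mul_assoc, mul_smul_comm, one_mul, mul_one,
    h1, h2, h3, h4, smul_add, smul_sub, smul_smul]
  module

theorem matP_apply (u v : V) :
    matP G u v = if u = v then 48 else if G.Adj u v then -18 else 4 := by
  unfold matP allOnes
  simp only [Matrix.add_apply, Matrix.sub_apply, Matrix.smul_apply, Matrix.one_apply,
    SimpleGraph.adjMatrix_apply, Matrix.of_apply, smul_eq_mul]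
  by_cases huv : u = v
  · subst huv; simp
  · by_cases ha : G.Adj u v <;> simp [huv, ha]

theorem matR_apply (u v : V) :
    matR G u v = if u = v then 80 else if G.Adj u v then 10 else -4 := by
  unfold matR allOnes
  simp only [Matrix.add_apply, Matrix.sub_apply, Matrix.smul_apply, Matrix.one_apply,
    SimpleGraph.adjMatrix_apply, Matrix.of_apply, smul_eq_mul]
  by_cases huv : u = v
  · subst huv; simp
  · by_cases ha : G.Adj u v <;> simp [huv, ha]

theorem matP_transpose : (matP G)ᵀ = matP G := by
  ext u v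
  rw [Matrix.transpose_apply, matP_apply, matP_apply]
  by_cases huv : u = v
  · subst huv; simp
  · have hvu : ¬ v = u := fun h => huv h.symm
    by_cases ha : G.Adj u v
    · have ha' : G.Adj v u := ha.symm
      simp [huv, hvu, ha, ha']
    · have ha' : ¬ G.Adj v u := fun h => ha h.symm
      simp [huv, hvu, ha, ha']

theorem matR_transpose : (matR G)ᵀ = matR G := by
  ext u v
  rw [Matrix.transpose_apply, matR_apply, matR_apply]
  by_cases huv : u = v
  · subst huv; simp
  · have hvu : ¬ v = u := fun h => huv h.symm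
    by_cases ha : G.Adj u v
    · have ha' : G.Adj v u := ha.symm
      simp [huv, hvu, ha, ha']
    · have ha' : ¬ G.Adj v u := fun h => ha h.symm
      simp [huv, hvu, ha, ha']

theorem quad_nonneg_of_sq {M : Matrix V V ℤ} {k : ℤ} (hk : 0 < k) (hT : Mᵀ = M)
    (hsq : M * M = k • M) (c : V → ℤ) : 0 ≤ c ⬝ᵥ (M *ᵥ c) := by
  have h : k * (c ⬝ᵥ (M *ᵥ c)) = (M *ᵥ c) ⬝ᵥ (M *ᵥ c) := by
    have : (M *ᵥ c) ⬝ᵥ (M *ᵥ c) = c ⬝ᵥ ((M * M) *ᵥ c) := by
      rw [← Matrix.mulVec_mulVec, Matrix.dotProduct_mulVec c M, ← Matrix.mulVec_transpose, hT]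
    rw [this, hsq, Matrix.smul_mulVec, dotProduct_smul, smul_eq_mul]
  have h2 : 0 ≤ (M *ᵥ c) ⬝ᵥ (M *ᵥ c) := by
    unfold dotProduct
    exact Finset.sum_nonneg fun i _ => mul_self_nonneg _
  rw [← h] at h2
  exact nonneg_of_mul_nonneg_right h2 hk

end

open Classical in
/-- the two quadratic forms, written entrywise; `form = 0` is `P`, otherwise `R` -/
noncomputable def formEntry (G : SimpleGraph V) (form : ℕ) (u v : V) : ℤ :=
  if u = v then (if form = 0 then 48 else 80)
    else if G.Adj u v then (if form = 0 then -18 else 10) else (if form = 0 then 4 else -4)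

theorem form_nonneg (hG : G.IsSRGWith 77 16 0 4) (form : ℕ) (c : V → ℤ) :
    0 ≤ ∑ u, ∑ v, c u * c v * formEntry G form u v := by
  classical
  by_cases hf : form = 0
  · have h := quad_nonneg_of_sq (M := matP G) (k := 176) (by norm_num) matP_transpose
      (matP_sq hG) c
    have e : c ⬝ᵥ (matP G *ᵥ c) = ∑ u, ∑ v, c u * c v * formEntry G form u v := by
      unfold dotProduct Matrix.mulVec dotProduct
      refine Finset.sum_congr rfl fun u _ => ?_
      rw [Finset.mul_sum]
      refine Finset.sum_congr rfl fun v _ => ?_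
      beta_reduce
      rw [matP_apply]
      unfold formEntry
      simp only [hf, if_true]
      split_ifs <;> ring
    rw [← e]; exact h
  · have h := quad_nonneg_of_sq (M := matR G) (k := 112) (by norm_num) matR_transpose
      (matR_sq hG) c
    have e : c ⬝ᵥ (matR G *ᵥ c) = ∑ u, ∑ v, c u * c v * formEntry G form u v := by
      unfold dotProduct Matrix.mulVec dotProduct
      refine Finset.sum_congr rfl fun u _ => ?_
      rw [Finset.mul_sum]
      refine Finset.sum_congr rfl fun v _ => ?_
      beta_reduce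
      rw [matR_apply]
      unfold formEntry
      simp only [hf, if_false]
      split_ifs <;> ring
    rw [← e]; exact h

end Cfsg.Agent.Lib.Helper9.Srg77
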