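import Cfsg.Agent.Lib.Helper9.Srg77Chk

/-!
# Tableau checker for `srg(77,16,0,4)`: a stack machine reading certificate segments

`run` reads the same certificates as `chk`, but keeps the pending second children on an explicit
stack, so that a certificate can be cut into segments at any node boundary.
-/

set_option autoImplicit false

namespace Cfsg.Agent.Lib.Helper9.Srg77

deriving instance DecidableEq for Model

/-- state of the stack machine between two nodes -/
inductive St
  | done
  | pend (M : Model) (stack : List Model)
deriving DecidableEq

def run : ℕ → Model → List Model → List ℕ → Option St
  | 0, _, _, _ => none
  | f + 1, M, st, ts =>
    match ts with
    | [] => some (.pend M st)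
    | _ :: _ =>
      match step M ts with
      | .closed r =>
        match st with
        | [] => if r = [] then some .done else none
        | N :: st' => run f N st' r
      | .one M' r => run f M' st r
      | .two M1 M2 r => run f M1 (M2 :: st) r
      | .fail => none

end Cfsg.Agent.Lib.Helper9.Srg77
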