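import Cfsg.Agent.Lib.Helper9.Srg77Chk
import Cfsg.Agent.Lib.Helper9.Srg77Psd

/-!
# Tableau checker for `srg(77,16,0,4)`: embeddings of models and basic lemmas
-/

set_option autoImplicit false
set_option linter.unusedSectionVars false

namespace Cfsg.Agent.Lib.Helper9.Srg77

open Model

/-- the reference graph on `Fin 77` -/
def H0 : SimpleGraph (Fin 77) := SimpleGraph.fromRel fun a b => h0bit a.1 b.1 = true

section bits

theorem testBit_or_one_shiftLeft (x j b : ℕ) :
    (x ||| (1 <<< j)).testBit b = (x.testBit b || decide (j = b)) := by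
  rw [Nat.testBit_or, Nat.one_shiftLeft, Nat.testBit_two_pow]

theorem getD_set_eq (l : List ℕ) (i a x : ℕ) :
    (l.set i x).getD a 0 = if i = a ∧ i < l.length then x else l.getD a 0 := by
  rw [List.getD_eq_getElem?_getD, List.getD_eq_getElem?_getD, List.getElem?_set]
  by_cases h : i = a
  · subst h
    by_cases h2 : i < l.length
    · simp [h2]
    · simp [h2]
  · simp [h]

theorem testBit_orBit {l : List ℕ} {i j a b : ℕ}
    (h : ((orBit l i j).getD a 0).testBit b = true) :
    (l.getD a 0).testBit b = true ∨ (a = i ∧ b = j) := by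
  unfold orBit at h
  rw [getD_set_eq] at h
  split_ifs at h with hc
  · obtain ⟨rfl, _⟩ := hc
    rw [testBit_or_one_shiftLeft] at h
    rcases Bool.or_eq_true _ _ |>.mp h with h | h
    · exact Or.inl h
    · exact Or.inr ⟨rfl, (of_decide_eq_true h).symm⟩
  · exact Or.inl h

theorem getD_append_zero (l : List ℕ) (i : ℕ) : (l ++ [0]).getD i 0 = l.getD i 0 := by
  rw [List.getD_eq_getElem?_getD, List.getD_eq_getElem?_getD]
  by_cases h : i < l.length
  · rw [List.getElem?_append_left h]
  · push Not at h
    rw [List.getElem?_append_right h, List.getElem?_eq_none h]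
    by_cases h2 : i - l.length = 0
    · simp [h2]
    · have : [0][i - l.length]? = (none : Option ℕ) := by
        apply List.getElem?_eq_none
        simp; omega
      rw [this]

end bits

section model

variable {M : Model} {p q i j : ℕ}

@[simp] theorem n_setE (M : Model) (p q : ℕ) (v : Bool) : (M.setE p q v).n = M.n := by
  unfold setE; split <;> rfl

@[simp] theorem n_addV (M : Model) : M.addV.n = M.n + 1 := rfl

theorem adj1_setE_true (h : (M.setE p q true).adj1 i j = true) :
    M.adj1 i j = true ∨ (i = p ∧ j = q) ∨ (i = q ∧ j = p) := by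
  unfold setE adj1 at h
  simp only [if_true] at h
  rcases testBit_orBit h with h | h
  · rcases testBit_orBit h with h | h
    · exact Or.inl h
    · exact Or.inr (Or.inl h)
  · exact Or.inr (Or.inr h)

theorem adj0_setE_true : (M.setE p q true).adj0 i j = M.adj0 i j := by
  unfold setE adj0; simp

theorem adj0_setE_false (h : (M.setE p q false).adj0 i j = true) :
    M.adj0 i j = true ∨ (i = p ∧ j = q) ∨ (i = q ∧ j = p) := by
  unfold setE adj0 at h
  simp only [Bool.false_eq_true, if_false] at h
  rcases testBit_orBit h with h | h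
  · rcases testBit_orBit h with h | h
    · exact Or.inl h
    · exact Or.inr (Or.inl h)
  · exact Or.inr (Or.inr h)

theorem adj1_setE_false : (M.setE p q false).adj1 i j = M.adj1 i j := by
  unfold setE adj1; simp

theorem adj1_addV : M.addV.adj1 i j = M.adj1 i j := by
  unfold addV adj1; simp only; rw [getD_append_zero]

theorem adj0_addV : M.addV.adj0 i j = M.adj0 i j := by
  unfold addV adj0; simp only; rw [getD_append_zero]

end model

variable {V : Type*} [Fintype V] {G : SimpleGraph V} [DecidableRel G.Adj]

/-- `e` realises the model `M` inside `G` -/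
structure Emb (G : SimpleGraph V) (M : Model) (e : ℕ → V) : Prop where
  wf1 : ∀ i j, M.adj1 i j = true → i < M.n ∧ j < M.n
  wf0 : ∀ i j, M.adj0 i j = true → i < M.n ∧ j < M.n
  inj : ∀ i j, i < M.n → j < M.n → e i = e j → i = j
  h1 : ∀ i j, M.adj1 i j = true → G.Adj (e i) (e j)
  h0 : ∀ i j, M.adj0 i j = true → ¬ G.Adj (e i) (e j)

/-- every realisation of `M` in `G` forces `G ≃g H0` -/
def Proved (G : SimpleGraph V) (M : Model) : Prop :=
  ∀ e : ℕ → V, Emb G M e → Nonempty (G ≃g H0)

variable {M : Model} {e : ℕ → V} {p q : ℕ}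

theorem Emb.setE_true (h : Emb G M e) (hp : p < M.n) (hq : q < M.n) (ha : G.Adj (e p) (e q)) :
    Emb G (M.setE p q true) e where
  wf1 i j hij := by
    rw [n_setE]
    rcases adj1_setE_true hij with h' | ⟨rfl, rfl⟩ | ⟨rfl, rfl⟩
    · exact h.wf1 i j h'
    · exact ⟨hp, hq⟩
    · exact ⟨hq, hp⟩
  wf0 i j hij := by
    rw [n_setE]; rw [adj0_setE_true] at hij; exact h.wf0 i j hij
  inj i j hi hj := by rw [n_setE] at hi hj; exact h.inj i j hi hj
  h1 i j hij := by
    rcases adj1_setE_true hij with h' | ⟨rfl, rfl⟩ | ⟨rfl, rfl⟩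
    · exact h.h1 i j h'
    · exact ha
    · exact ha.symm
  h0 i j hij := by rw [adj0_setE_true] at hij; exact h.h0 i j hij

theorem Emb.setE_false (h : Emb G M e) (hp : p < M.n) (hq : q < M.n) (ha : ¬ G.Adj (e p) (e q)) :
    Emb G (M.setE p q false) e where
  wf0 i j hij := by
    rw [n_setE]
    rcases adj0_setE_false hij with h' | ⟨rfl, rfl⟩ | ⟨rfl, rfl⟩
    · exact h.wf0 i j h'
    · exact ⟨hp, hq⟩
    · exact ⟨hq, hp⟩
  wf1 i j hij := by
    rw [n_setE]; rw [adj1_setE_false] at hij; exact h.wf1 i j hij
  inj i j hi hj := by rw [n_setE] at hi hj; exact h.inj i j hi hj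
  h0 i j hij := by
    rcases adj0_setE_false hij with h' | ⟨rfl, rfl⟩ | ⟨rfl, rfl⟩
    · exact h.h0 i j h'
    · exact ha
    · exact fun h' => ha h'.symm
  h1 i j hij := by rw [adj1_setE_false] at hij; exact h.h1 i j hij

theorem Emb.addV (h : Emb G M e) (z : V) (hz : ∀ i < M.n, e i ≠ z) :
    Emb G M.addV (Function.update e M.n z) where
  wf1 i j hij := by
    rw [adj1_addV] at hij
    have := h.wf1 i j hij
    rw [n_addV]; omega
  wf0 i j hij := by
    rw [adj0_addV] at hij
    have := h.wf0 i j hij
    rw [n_addV]; omega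
  inj i j hi hj hij := by
    rw [n_addV] at hi hj
    by_cases h1 : i = M.n
    · by_cases h2 : j = M.n
      · omega
      · exfalso
        rw [h1, Function.update_self, Function.update_of_ne h2] at hij
        exact hz j (by omega) hij.symm
    · by_cases h2 : j = M.n
      · exfalso
        rw [h2, Function.update_self, Function.update_of_ne h1] at hij
        exact hz i (by omega) hij
      · rw [Function.update_of_ne h1, Function.update_of_ne h2] at hij
        exact h.inj i j (by omega) (by omega) hij
  h1 i j hij := by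
    rw [adj1_addV] at hij
    have hw := h.wf1 i j hij
    rw [Function.update_of_ne (by omega), Function.update_of_ne (by omega)]
    exact h.h1 i j hij
  h0 i j hij := by
    rw [adj0_addV] at hij
    have hw := h.wf0 i j hij
    rw [Function.update_of_ne (by omega), Function.update_of_ne (by omega)]
    exact h.h0 i j hij

theorem Emb.empty (e : ℕ → V) : Emb G Model.empty e where
  wf1 i j hij := by simp [Model.empty, adj1] at hij
  wf0 i j hij := by simp [Model.empty, adj0] at hij
  inj i j hi := by simp [Model.empty] at hi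
  h1 i j hij := by simp [Model.empty, adj1] at hij
  h0 i j hij := by simp [Model.empty, adj0] at hij

section counting

open Classical in
theorem count_le_card {n : ℕ} {e : ℕ → V}
    (hinj : ∀ i j, i < n → j < n → e i = e j → i = j) (p : ℕ → Bool) (S : Finset V)
    (h : ∀ w < n, p w = true → e w ∈ S) : ((List.range n).filter p).length ≤ S.card := by
  have hnd : ((List.range n).filter p).Nodup := (List.nodup_range).filter _
  rw [← List.toFinset_card_of_nodup hnd]
  apply Finset.card_le_card_of_injOn e
  · intro w hw
    simp only [List.coe_toFinset, List.mem_filter, List.mem_range, Set.mem_ofPred_eq] at hw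
    exact h w hw.1 hw.2
  · intro a ha b hb hab
    simp only [List.coe_toFinset, List.mem_filter, List.mem_range, Set.mem_ofPred_eq] at ha hb
    exact hinj a b ha.1 hb.1 hab

open Classical in
theorem exists_unnamed {n k : ℕ} {e : ℕ → V} (p : ℕ → Bool) (S : Finset V)
    (hc : ((List.range n).filter p).length ≤ k) (hk : k < S.card)
    (h : ∀ w < n, e w ∈ S → p w = true) : ∃ z ∈ S, ∀ w < n, e w ≠ z := by
  by_contra hcon
  push Not at hcon
  have hsub : S ⊆ (((List.range n).filter p).toFinset).image e := by
    intro z hz
    obtain ⟨w, hw, rfl⟩ := hcon z hz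
    refine Finset.mem_image.mpr ⟨w, ?_, rfl⟩
    simp only [List.mem_toFinset, List.mem_filter, List.mem_range]
    exact ⟨hw, h w hw hz⟩
  have h1 := Finset.card_le_card hsub
  have h2 := Finset.card_image_le (s := ((List.range n).filter p).toFinset) (f := e)
  have h3 := List.toFinset_card_le ((List.range n).filter p)
  omega

end counting

section srg

open Classical in
theorem card_common (hG : G.IsSRGWith 77 16 0 4) {v w : V} (hne : v ≠ w) (h : ¬ G.Adj v w) :
    (Finset.univ.filter fun z => G.Adj v z ∧ G.Adj w z).card = 4 := by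
  rw [← hG.of_not_adj hne h]
  symm
  apply Fintype.card_of_subtype
  intro x
  simp [SimpleGraph.mem_commonNeighbors]

theorem no_common (hG : G.IsSRGWith 77 16 0 4) {v w z : V} (h : G.Adj v w) (h1 : G.Adj v z)
    (h2 : G.Adj w z) : False := by
  classical
  have hc := hG.of_adj v w h
  have : z ∈ G.commonNeighbors v w := by
    rw [SimpleGraph.mem_commonNeighbors]; exact ⟨h1, h2⟩
  have hpos : 0 < Fintype.card (G.commonNeighbors v w) := Fintype.card_pos_iff.mpr ⟨⟨z, this⟩⟩
  omega

open Classical in
theorem card_nbrs (hG : G.IsSRGWith 77 16 0 4) (v : V) :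
    (Finset.univ.filter fun z => G.Adj v z).card = 16 := by
  have h := hG.regular v
  rw [← SimpleGraph.card_neighborFinset_eq_degree] at h
  rw [← h]
  congr 1
  ext x; simp

end srg

end Cfsg.Agent.Lib.Helper9.Srg77
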