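import Cfsg.Agent.Lib.Helper9.Srg77SoundA

/-!
# Tableau checker for `srg(77,16,0,4)`: soundness of the individual rules
-/

set_option autoImplicit false
set_option linter.unusedSectionVars false

namespace Cfsg.Agent.Lib.Helper9.Srg77

open Model

variable {V : Type*} [Fintype V] {G : SimpleGraph V} [DecidableRel G.Adj]
variable {M : Model} {p q i j k : ℕ}

theorem sound_newV (hG : G.IsSRGWith 77 16 0 4) (hn : M.n ≤ 76) (h : Proved G M.addV) :
    Proved G M := by
  intro e he
  obtain ⟨z, -, hz⟩ := exists_unnamed (e := e) (n := M.n) (k := M.n) (fun _ => true)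
    Finset.univ ((List.length_filter_le _ _).trans (by simp))
    (by rw [Finset.card_univ, hG.card]; omega) (fun _ _ _ => rfl)
  exact h _ (he.addV z hz)

theorem sound_newN (hG : G.IsSRGWith 77 16 0 4) (hok : okNewN M i = true)
    (h : Proved G (M.addV.setE M.n i true)) : Proved G M := by
  intro e he
  classical
  unfold okNewN at hok
  simp only [Bool.and_eq_true, decide_eq_true_eq] at hok
  obtain ⟨hi, hc⟩ := hok
  unfold count at hc
  obtain ⟨z, hzS, hz⟩ := exists_unnamed (e := e) (n := M.n) (k := 15) _
    (Finset.univ.filter fun z => G.Adj (e i) z) hc (by rw [card_nbrs hG]; norm_num) (by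
      intro w hw hmem
      simp only [Finset.mem_filter, Finset.mem_univ, true_and] at hmem
      simp only [Bool.and_eq_true, decide_eq_true_eq, Bool.not_eq_true']
      refine ⟨?_, ?_⟩
      · rintro rfl; exact G.loopless.irrefl _ hmem
      · by_contra h0
        exact he.h0 i w (by simpa using h0) hmem)
  have hadj : G.Adj (e i) z := by simpa using hzS
  have he' := he.addV z hz
  refine h _ (he'.setE_true (by simp) (by simp; omega) ?_)
  rw [Function.update_self, Function.update_of_ne (by omega)]
  exact hadj.symm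

theorem sound_newC (hG : G.IsSRGWith 77 16 0 4) (hok : okNewC M i j = true)
    (h : Proved G ((M.addV.setE M.n i true).setE M.n j true)) : Proved G M := by
  intro e he
  classical
  unfold okNewC at hok
  simp only [Bool.and_eq_true, decide_eq_true_eq] at hok
  obtain ⟨⟨⟨⟨hi, hj⟩, hij⟩, h0ij⟩, hc⟩ := hok
  unfold count at hc
  have hne : e i ≠ e j := fun h' => hij (he.inj i j hi hj h')
  have hnadj : ¬ G.Adj (e i) (e j) := he.h0 i j h0ij
  obtain ⟨z, hzS, hz⟩ := exists_unnamed (e := e) (n := M.n) (k := 3) _
    (Finset.univ.filter fun z => G.Adj (e i) z ∧ G.Adj (e j) z) hc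
    (by rw [card_common hG hne hnadj]; norm_num) (by
      intro w hw hmem
      simp only [Finset.mem_filter, Finset.mem_univ, true_and] at hmem
      simp only [Bool.and_eq_true, decide_eq_true_eq, Bool.not_eq_true']
      refine ⟨⟨⟨?_, ?_⟩, ?_⟩, ?_⟩
      · rintro rfl; exact G.loopless.irrefl _ hmem.1
      · rintro rfl; exact G.loopless.irrefl _ hmem.2
      · by_contra h0
        exact he.h0 i w (by simpa using h0) hmem.1
      · by_contra h0
        exact he.h0 j w (by simpa using h0) hmem.2)
  have hadj : G.Adj (e i) z ∧ G.Adj (e j) z := by simpa using hzS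
  have he' := he.addV z hz
  have he'' := he'.setE_true (p := M.n) (q := i) (by simp) (by simp; omega) (by
    rw [Function.update_self, Function.update_of_ne (by omega)]
    exact hadj.1.symm)
  refine h _ (he''.setE_true (by simp) (by simp; omega) ?_)
  rw [Function.update_self, Function.update_of_ne (by omega)]
  exact hadj.2.symm

theorem okPair_iff : okPair M p q = true ↔ p < M.n ∧ q < M.n ∧ p ≠ q := by
  unfold okPair
  simp only [Bool.and_eq_true, decide_eq_true_eq, and_assoc]

theorem sound_split (hok : okPair M p q = true) (h0 : Proved G (M.setE p q false))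
    (h1 : Proved G (M.setE p q true)) : Proved G M := by
  intro e he
  obtain ⟨hp, hq, -⟩ := okPair_iff.mp hok
  by_cases ha : G.Adj (e p) (e q)
  · exact h1 e (he.setE_true hp hq ha)
  · exact h0 e (he.setE_false hp hq ha)

theorem nodup_of_nodupB : ∀ l : List ℕ, nodupB l = true → l.Nodup
  | [], _ => List.nodup_nil
  | a :: t, h => by
    unfold nodupB at h
    simp only [Bool.and_eq_true, Bool.not_eq_true', List.contains_eq_mem,
      decide_eq_false_iff_not] at h
    exact List.nodup_cons.mpr ⟨h.1, nodup_of_nodupB t h.2⟩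

theorem permOK_spec {π : List ℕ} (h : permOK M π = true) :
    π.length = M.n ∧ (∀ x ∈ π, x < M.n) ∧ π.Nodup ∧
    (∀ a b, a < M.n → b < M.n → M.adj1 a b = true → M.adj1 (π.getD a 0) (π.getD b 0) = true) ∧
    (∀ a b, a < M.n → b < M.n → M.adj0 a b = true → M.adj0 (π.getD a 0) (π.getD b 0) = true) := by
  unfold permOK at h
  simp only [Bool.and_eq_true, decide_eq_true_eq, List.all_eq_true, List.mem_range,
    Bool.or_eq_true, Bool.not_eq_true'] at h
  obtain ⟨⟨⟨h1, h2⟩, h3⟩, h4⟩ := h
  refine ⟨h1, h2, nodup_of_nodupB _ h3, ?_, ?_⟩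
  · intro a b ha hb hab
    rcases (h4 a ha b hb).1 with h' | h'
    · rw [hab] at h'; cases h'
    · exact h'
  · intro a b ha hb hab
    rcases (h4 a ha b hb).2 with h' | h'
    · rw [hab] at h'; cases h'
    · exact h'

theorem getD_lt_of_perm {π : List ℕ} {n a : ℕ} (hlen : π.length = n) (hall : ∀ x ∈ π, x < n)
    (ha : a < n) : π.getD a 0 < n := by
  rw [List.getD_eq_getElem _ _ (by omega)]
  exact hall _ (List.getElem_mem _)

theorem Emb.perm {e : ℕ → V} (he : Emb G M e) {π : List ℕ} (hπ : permOK M π = true) :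
    Emb G M (fun a => e (π.getD a 0)) := by
  obtain ⟨hlen, hall, hnd, h1, h0⟩ := permOK_spec hπ
  refine ⟨he.wf1, he.wf0, ?_, ?_, ?_⟩
  · intro a b ha hb hab
    have h' := he.inj _ _ (getD_lt_of_perm hlen hall ha) (getD_lt_of_perm hlen hall hb) hab
    rw [List.getD_eq_getElem _ _ (by omega), List.getD_eq_getElem _ _ (by omega)] at h'
    exact (List.Nodup.getElem_inj_iff hnd).mp h'
  · intro a b hab
    obtain ⟨ha, hb⟩ := he.wf1 a b hab
    exact he.h1 _ _ (h1 a b ha hb hab)
  · intro a b hab
    obtain ⟨ha, hb⟩ := he.wf0 a b hab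
    exact he.h0 _ _ (h0 a b ha hb hab)

theorem emb_foldl_zero {e : ℕ → V} (pis : List (List ℕ)) :
    ∀ (M' : Model), Emb G M' e →
      (∀ π ∈ pis, π.getD p 0 < M'.n ∧ π.getD q 0 < M'.n ∧
        ¬ G.Adj (e (π.getD p 0)) (e (π.getD q 0))) →
      Emb G (pis.foldl (fun M'' π => M''.setE (π.getD p 0) (π.getD q 0) false) M') e := by
  induction pis with
  | nil => intro M' h _; exact h
  | cons π t ih =>
    intro M' h hall
    rw [List.foldl_cons]
    obtain ⟨h1, h2, h3⟩ := hall π (List.mem_cons_self)
    apply ih _ (h.setE_false h1 h2 h3)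
    intro π' hπ'
    rw [n_setE]
    exact hall π' (List.mem_cons_of_mem _ hπ')

theorem sound_wlog {pis : List (List ℕ)} (hok : okPair M p q = true)
    (hpis : pis.all (permOK M) = true) (h1 : Proved G (M.setE p q true))
    (h0 : Proved G (wlogZero M p q pis)) : Proved G M := by
  intro e he
  obtain ⟨hp, hq, -⟩ := okPair_iff.mp hok
  rw [List.all_eq_true] at hpis
  by_cases hex : ∃ π ∈ pis, G.Adj (e (π.getD p 0)) (e (π.getD q 0))
  · obtain ⟨π, hπ, ha⟩ := hex
    exact h1 _ ((he.perm (hpis π hπ)).setE_true hp hq ha)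
  · push Not at hex
    by_cases ha : G.Adj (e p) (e q)
    · exact h1 e (he.setE_true hp hq ha)
    · refine h0 e ?_
      unfold wlogZero
      apply emb_foldl_zero pis _ (he.setE_false hp hq ha)
      intro π hπ
      obtain ⟨hlen, hall, -, -, -⟩ := permOK_spec (hpis π hπ)
      rw [n_setE]
      exact ⟨getD_lt_of_perm hlen hall hp, getD_lt_of_perm hlen hall hq, hex π hπ⟩

theorem sound_clash (hok : okClash M i j = true) : Proved G M := by
  intro e he
  unfold okClash at hok
  simp only [Bool.and_eq_true, decide_eq_true_eq] at hok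
  exact absurd (he.h1 i j hok.1.2) (he.h0 i j hok.2)

theorem sound_tri (hG : G.IsSRGWith 77 16 0 4) (hok : okTri M i j k = true) : Proved G M := by
  intro e he
  unfold okTri at hok
  simp only [Bool.and_eq_true, decide_eq_true_eq] at hok
  obtain ⟨⟨⟨_, hij⟩, hjk⟩, hik⟩ := hok
  exact (no_common hG (he.h1 i k hik) (he.h1 i j hij) (he.h1 j k hjk).symm).elim

theorem sound_mu5 (hG : G.IsSRGWith 77 16 0 4) (hok : okMu5 M i j = true) : Proved G M := by
  intro e he
  classical
  unfold okMu5 at hok
  simp only [Bool.and_eq_true, decide_eq_true_eq] at hok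
  obtain ⟨⟨⟨⟨hi, hj⟩, hij⟩, h0ij⟩, hc⟩ := hok
  unfold count at hc
  have hne : e i ≠ e j := fun h' => hij (he.inj i j hi hj h')
  have hnadj : ¬ G.Adj (e i) (e j) := he.h0 i j h0ij
  have := count_le_card (e := e) (n := M.n) he.inj (fun w => M.adj1 i w && M.adj1 j w)
    (Finset.univ.filter fun z => G.Adj (e i) z ∧ G.Adj (e j) z) (by
      intro w _ hw
      simp only [Bool.and_eq_true] at hw
      simp only [Finset.mem_filter, Finset.mem_univ, true_and]
      exact ⟨he.h1 i w hw.1, he.h1 j w hw.2⟩)
  rw [card_common hG hne hnadj] at this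
  omega

theorem sound_deg17 (hG : G.IsSRGWith 77 16 0 4) (hok : okDeg17 M i = true) : Proved G M := by
  intro e he
  classical
  unfold okDeg17 at hok
  simp only [Bool.and_eq_true, decide_eq_true_eq] at hok
  obtain ⟨hi, hc⟩ := hok
  unfold count at hc
  have := count_le_card (e := e) (n := M.n) he.inj (fun w => M.adj1 i w)
    (Finset.univ.filter fun z => G.Adj (e i) z) (by
      intro w _ hw
      simp only [Finset.mem_filter, Finset.mem_univ, true_and]
      exact he.h1 i w hw)
  rw [card_nbrs hG] at this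
  omega

theorem sound_over (hG : G.IsSRGWith 77 16 0 4) (hok : 78 ≤ M.n) : Proved G M := by
  intro e he
  have := count_le_card (e := e) (n := M.n) he.inj (fun _ => true) Finset.univ
    (fun _ _ _ => Finset.mem_univ _)
  rw [Finset.card_univ, hG.card] at this
  simp at this
  omega

end Cfsg.Agent.Lib.Helper9.Srg77
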