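import Cfsg.Agent.Lib.Helper9.Srg77SoundB

/-!
# Tableau checker for `srg(77,16,0,4)`: PSD leaves, full leaves, and soundness of `chk`
-/

set_option autoImplicit false
set_option linter.unusedSectionVars false

namespace Cfsg.Agent.Lib.Helper9.Srg77

open Model

variable {V : Type*} [Fintype V] {G : SimpleGraph V} [DecidableRel G.Adj]
variable {M : Model}

section psd

open Classical in
/-- the integer vector on `V` attached to a weighted list of named vertices -/
noncomputable def vecOf (e : ℕ → V) (ws : List (ℕ × ℤ)) : V → ℤ :=
  fun u => (ws.map fun a => if e a.1 = u then a.2 else 0).sum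

theorem sum_vecOf_mul (e : ℕ → V) (ws : List (ℕ × ℤ)) (f : V → ℤ) :
    ∑ u, vecOf e ws u * f u = (ws.map fun a => a.2 * f (e a.1)).sum := by
  classical
  induction ws with
  | nil => simp [vecOf]
  | cons a t ih =>
    have : ∀ u, vecOf e (a :: t) u = (if e a.1 = u then a.2 else 0) + vecOf e t u := by
      intro u; simp [vecOf]
    simp only [this, add_mul, Finset.sum_add_distrib, ih, List.map_cons, List.sum_cons]
    congr 1
    simp [ite_mul]

theorem formEntry_eq (form : ℕ) {e : ℕ → V} (he : Emb G M e) {a b : ℕ} (ha : a < M.n)
    (hb : b < M.n) (hk : a = b ∨ M.adj1 a b = true ∨ M.adj0 a b = true) :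
    formEntry G form (e a) (e b) = psdEntry form M a b := by
  classical
  unfold formEntry psdEntry
  by_cases hab : a = b
  · subst hab; simp
  · have hne : e a ≠ e b := fun h => hab (he.inj a b ha hb h)
    rw [if_neg hne, if_neg hab]
    by_cases h1 : M.adj1 a b = true
    · rw [if_pos (he.h1 a b h1), if_pos h1]
    · have h0 : M.adj0 a b = true := by
        rcases hk with h | h | h
        · exact absurd h hab
        · exact absurd h h1
        · exact h
      rw [if_neg (he.h0 a b h0), if_neg h1]

theorem sound_psd (hG : G.IsSRGWith 77 16 0 4) {form : ℕ} {ws : List (ℕ × ℤ)}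
    (hok : okPsd M form ws = true) : Proved G M := by
  intro e he
  exfalso
  unfold okPsd at hok
  simp only [Bool.and_eq_true, decide_eq_true_eq] at hok
  obtain ⟨hkn, hneg⟩ := hok
  unfold psdKnown at hkn
  simp only [List.all_eq_true, Bool.and_eq_true, decide_eq_true_eq, Bool.or_eq_true] at hkn
  have hnn := form_nonneg hG form (vecOf e ws)
  have key : ∑ u, ∑ v, vecOf e ws u * vecOf e ws v * formEntry G form u v
      = psdVal form M ws := by
    have h1 : ∀ u, ∑ v, vecOf e ws u * vecOf e ws v * formEntry G form u v
        = vecOf e ws u * ∑ v, vecOf e ws v * formEntry G form u v := by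
      intro u
      rw [Finset.mul_sum]
      exact Finset.sum_congr rfl fun v _ => by ring
    simp only [h1]
    rw [sum_vecOf_mul]
    unfold psdVal
    congr 1
    apply List.map_congr_left
    intro a ha
    rw [sum_vecOf_mul, ← List.sum_map_mul_left]
    congr 1
    apply List.map_congr_left
    intro b hb
    have hab := hkn a ha
    have hbn := (hkn b hb).1
    rw [formEntry_eq form he hab.1 hbn (by
      rcases hab.2 b hb with (h | h) | h
      · exact Or.inl h
      · exact Or.inr (Or.inl h)
      · exact Or.inr (Or.inr h))]
    ring
  rw [key] at hnn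
  omega

end psd

section full

theorem okFull_spec {π : List ℕ} (h : okFull M π = true) :
    M.n = 77 ∧ π.length = 77 ∧ (∀ x ∈ π, x < 77) ∧ π.Nodup ∧
    (∀ a b, a < 77 → b < 77 → a ≠ b →
      (M.adj1 a b = true ∧ h0bit (π.getD a 0) (π.getD b 0) = true) ∨
      (M.adj0 a b = true ∧ h0bit (π.getD a 0) (π.getD b 0) = false)) := by
  unfold okFull at h
  simp only [Bool.and_eq_true, decide_eq_true_eq, List.all_eq_true, List.mem_range,
    Bool.or_eq_true, Bool.not_eq_true'] at h
  obtain ⟨⟨⟨⟨h1, h2⟩, h3⟩, h4⟩, h5⟩ := h
  refine ⟨h1, h2, h3, nodup_of_nodupB _ h4, ?_⟩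
  intro a b ha hb hab
  rcases h5 a ha b hb with h | h
  · exact absurd h hab
  · exact h

theorem sound_full (hG : G.IsSRGWith 77 16 0 4) {π : List ℕ} (hok : okFull M π = true) :
    Proved G M := by
  intro e he
  classical
  obtain ⟨hn, hlen, hall, hnd, hfull⟩ := okFull_spec hok
  -- the two bijections
  let f : Fin 77 → V := fun a => e a.1
  have hf_inj : Function.Injective f := by
    intro a b hab
    exact Fin.ext (he.inj a.1 b.1 (by omega) (by omega) hab)
  have hf : Function.Bijective f :=
    (Fintype.bijective_iff_injective_and_card f).mpr ⟨hf_inj, by simp [hG.card]⟩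
  let g : Fin 77 → Fin 77 := fun a => ⟨π.getD a.1 0, getD_lt_of_perm hlen hall a.2⟩
  have hg_inj : Function.Injective g := by
    intro a b hab
    have h' : π.getD a.1 0 = π.getD b.1 0 := congrArg Fin.val hab
    rw [List.getD_eq_getElem _ _ (by omega), List.getD_eq_getElem _ _ (by omega)] at h'
    exact Fin.ext ((List.Nodup.getElem_inj_iff hnd).mp h')
  have hg : Function.Bijective g := Finite.injective_iff_bijective.mp hg_inj
  -- key equivalence
  have key : ∀ a b : Fin 77, H0.Adj (g a) (g b) ↔ G.Adj (f a) (f b) := by
    intro a b
    by_cases hab : a = b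
    · subst hab; simp
    · have hab' : a.1 ≠ b.1 := fun h => hab (Fin.ext h)
      have hba' : b.1 ≠ a.1 := fun h => hab' h.symm
      have h1 := hfull a.1 b.1 a.2 b.2 hab'
      have h2 := hfull b.1 a.1 b.2 a.2 hba'
      unfold H0
      rw [SimpleGraph.fromRel_adj]
      constructor
      · rintro ⟨-, hb | hb⟩
        · rcases h1 with h1 | h1
          · exact he.h1 _ _ h1.1
          · have : h0bit (π.getD a.1 0) (π.getD b.1 0) = true := hb
            rw [h1.2] at this; cases this
        · rcases h2 with h2 | h2
          · exact (he.h1 _ _ h2.1).symm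
          · have : h0bit (π.getD b.1 0) (π.getD a.1 0) = true := hb
            rw [h2.2] at this; cases this
      · intro hadj
        refine ⟨fun h => hab (hg_inj h), Or.inl ?_⟩
        rcases h1 with h1 | h1
        · exact h1.2
        · exact absurd hadj (he.h0 _ _ h1.1)
  let φ : V ≃ Fin 77 := (Equiv.ofBijective f hf).symm.trans (Equiv.ofBijective g hg)
  refine ⟨⟨φ, ?_⟩⟩
  intro u v
  obtain ⟨a, rfl⟩ := hf.2 u
  obtain ⟨b, rfl⟩ := hf.2 v
  have hφ : ∀ c : Fin 77, φ (f c) = g c := by
    intro c
    show (Equiv.ofBijective g hg) ((Equiv.ofBijective f hf).symm (f c)) = g c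
    rw [show f c = (Equiv.ofBijective f hf) c from rfl, Equiv.symm_apply_apply]
    rfl
  rw [hφ a, hφ b]
  exact key a b

end full

/-- what a step of the checker proves -/
def Step.Sound (G : SimpleGraph V) (M : Model) : Step → Prop
  | .closed _ => Proved G M
  | .one M' _ => Proved G M' → Proved G M
  | .two M1 M2 _ => Proved G M1 → Proved G M2 → Proved G M
  | .fail => True

theorem step_sound (hG : G.IsSRGWith 77 16 0 4) (M : Model) (ts : List ℕ) :
    (step M ts).Sound G M := by
  unfold step
  split
  · trivial
  · rename_i op ts
    by_cases h0 : op = 0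
    · rw [if_pos h0]
      split
      · exact fun h => sound_newV hG ‹_› h
      · trivial
    rw [if_neg h0]
    by_cases h1 : op = 1
    · rw [if_pos h1]
      split
      · split
        · exact fun h => sound_newN hG ‹_› h
        · trivial
      · trivial
    rw [if_neg h1]
    by_cases h2 : op = 2
    · rw [if_pos h2]
      split
      · split
        · exact fun h => sound_newC hG ‹_› h
        · trivial
      · trivial
    rw [if_neg h2]
    by_cases h3 : op = 3
    · rw [if_pos h3]
      split
      · split
        · exact fun ha hb => sound_split ‹_› ha hb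
        · trivial
      · trivial
    rw [if_neg h3]
    by_cases h4 : op = 4
    · rw [if_pos h4]
      split
      · split
        · exact fun ha hb => sound_split ‹_› hb ha
        · trivial
      · trivial
    rw [if_neg h4]
    by_cases h5 : op = 5
    · rw [if_pos h5]
      split
      · split
        · rename_i hc
          rw [Bool.and_eq_true] at hc
          exact fun ha hb => sound_wlog hc.1 hc.2 ha hb
        · trivial
      · trivial
    rw [if_neg h5]
    by_cases h6 : op = 6
    · rw [if_pos h6]
      split
      · split
        · exact sound_clash ‹_›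
        · trivial
      · trivial
    rw [if_neg h6]
    by_cases h7 : op = 7
    · rw [if_pos h7]
      split
      · split
        · exact sound_tri hG ‹_›
        · trivial
      · trivial
    rw [if_neg h7]
    by_cases h8 : op = 8
    · rw [if_pos h8]
      split
      · split
        · exact sound_mu5 hG ‹_›
        · trivial
      · trivial
    rw [if_neg h8]
    by_cases h9 : op = 9
    · rw [if_pos h9]
      split
      · split
        · exact sound_deg17 hG ‹_›
        · trivial
      · trivial
    rw [if_neg h9]
    by_cases h10 : op = 10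
    · rw [if_pos h10]
      split
      · exact sound_over hG ‹_›
      · trivial
    rw [if_neg h10]
    by_cases h11 : op = 11
    · rw [if_pos h11]
      split
      · split
        · exact sound_psd hG ‹_›
        · trivial
      · trivial
    rw [if_neg h11]
    by_cases h12 : op = 12
    · rw [if_pos h12]
      split
      · exact sound_full hG ‹_›
      · trivial
    rw [if_neg h12]
    trivial

theorem chk_sound (hG : G.IsSRGWith 77 16 0 4) :
    ∀ (f : ℕ) (M : Model) (ts r : List ℕ), chk f M ts = some r → Proved G M
  | 0, _, _, _, h => by simp [chk] at h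
  | f + 1, M, ts, r, h => by
    have hs := step_sound hG M ts
    unfold chk at h
    split at h
    · rename_i r' heq
      rw [heq] at hs; exact hs
    · rename_i M' r' heq
      rw [heq] at hs
      exact hs (chk_sound hG f M' r' r h)
    · rename_i M1 M2 r' heq
      rw [heq] at hs
      rw [Option.bind_eq_some_iff] at h
      obtain ⟨r1, h1, h2⟩ := h
      exact hs (chk_sound hG f M1 r' r1 h1) (chk_sound hG f M2 r1 r h2)
    · cases h

/-- a successful run of the checker on the empty model proves `G ≃g H0` -/
theorem iso_of_chk (hG : G.IsSRGWith 77 16 0 4) {f : ℕ} {ts r : List ℕ}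
    (h : chk f Model.empty ts = some r) : Nonempty (G ≃g H0) := by
  have hne : Nonempty V := by
    apply Fintype.card_pos_iff.mp
    rw [hG.card]; norm_num
  obtain ⟨v⟩ := hne
  exact chk_sound hG f Model.empty ts r h (fun _ => v) (Emb.empty _)

end Cfsg.Agent.Lib.Helper9.Srg77
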