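import Cfsg.Agent.Lib.Helper9.Srg77SoundC
import Cfsg.Agent.Lib.Helper9.Srg77Run

/-!
# Tableau checker for `srg(77,16,0,4)`: soundness of the stack machine `run`
-/

set_option autoImplicit false
set_option linter.unusedSectionVars false

namespace Cfsg.Agent.Lib.Helper9.Srg77

variable {V : Type*} [Fintype V] {G : SimpleGraph V} [DecidableRel G.Adj]

/-- all models of a state are proved -/
def AllProved (G : SimpleGraph V) (M : Model) (st : List Model) : Prop :=
  Proved G M ∧ ∀ N ∈ st, Proved G N

/-- what the final state of a run says about its initial state -/
def St.Sound (G : SimpleGraph V) : St → Prop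
  | .done => True
  | .pend M st => AllProved G M st

theorem run_sound (hG : G.IsSRGWith 77 16 0 4) :
    ∀ (f : ℕ) (M : Model) (st : List Model) (ts : List ℕ) (s : St),
      run f M st ts = some s → s.Sound G → AllProved G M st
  | 0, _, _, _, _, h, _ => by simp [run] at h
  | f + 1, M, st, ts, s, h, hs => by
    unfold run at h
    split at h
    · -- no tokens left
      cases h
      exact hs
    · rename_i t ts'
      have hstep := step_sound hG M (t :: ts')
      split at h
      · rename_i r heq
        rw [heq] at hstep
        split at h
        · exact ⟨hstep, by simp⟩
        · rename_i N st'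
          have := run_sound hG f N st' r s h hs
          refine ⟨hstep, ?_⟩
          intro N' hN'
          rcases List.mem_cons.mp hN' with rfl | hN'
          · exact this.1
          · exact this.2 N' hN'
      · rename_i M' r heq
        rw [heq] at hstep
        have := run_sound hG f M' st r s h hs
        exact ⟨hstep this.1, this.2⟩
      · rename_i M1 M2 r heq
        rw [heq] at hstep
        have := run_sound hG f M1 (M2 :: st) r s h hs
        refine ⟨hstep this.1 (this.2 M2 (List.mem_cons_self)), ?_⟩
        intro N hN
        exact this.2 N (List.mem_cons_of_mem _ hN)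
      · cases h

theorem iso_of_proved_empty (hG : G.IsSRGWith 77 16 0 4) (h : Proved G Model.empty) :
    Nonempty (G ≃g H0) := by
  have hne : Nonempty V := by
    apply Fintype.card_pos_iff.mp
    rw [hG.card]; norm_num
  obtain ⟨v⟩ := hne
  exact h (fun _ => v) (Emb.empty _)

end Cfsg.Agent.Lib.Helper9.Srg77
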