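/-
Helper9 library: subgroups `M` containing the centralizers of their involutions.
* involutions inside and outside `M` have products of odd order, hence are conjugate;
* the counting argument of Aschbacher (46.4): if `M` is transitive on its involutions then
  for a suitable involution `t ∉ M` every involution of `M` is conjugate to a given one
  under `M ∩ M^t`.
-/
import Mathlib
import Cfsg.Agent.Lib.Helper2.Dihedral
import Cfsg.Agent.Lib.Helper2.StronglyEmbedded

set_option autoImplicit false

namespace Cfsg.Agent.Lib.Helper9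

open Cfsg.Agent.Lib.Helper2

variable {S : Type*} [Group S]

/-- Involutions inside and outside `M` have product of odd order. -/
theorem odd_orderOf_mul_of_centralizer_le [Finite S] {M : Subgroup S}
    (hC : ∀ i ∈ M, orderOf i = 2 → Subgroup.centralizer ({i} : Set S) ≤ M)
    {z v : S} (hz : orderOf z = 2) (hzM : z ∈ M) (hv : orderOf v = 2) (hvM : v ∉ M) :
    Odd (orderOf (z * v)) := by
  rw [← Nat.not_even_iff_odd]
  intro heven
  have hpos : 0 < orderOf (z * v) := orderOf_pos _
  obtain ⟨hw2, hwz, hwv⟩ := dih_central_invol (invol_mul_self hz) (invol_mul_self hv) hpos heven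
  set w := (z * v) ^ (orderOf (z * v) / 2) with hw
  have hwM : w ∈ M := by
    apply hC z hzM hz
    rw [Subgroup.mem_centralizer_singleton_iff]
    exact hwz.eq
  have hvM' : v ∈ M := by
    apply hC w hwM hw2
    rw [Subgroup.mem_centralizer_singleton_iff]
    exact hwv.eq.symm
  exact hvM hvM'

/-- Involutions inside and outside `M` are conjugate. -/
theorem exists_conj_of_centralizer_le [Finite S] {M : Subgroup S}
    (hC : ∀ i ∈ M, orderOf i = 2 → Subgroup.centralizer ({i} : Set S) ≤ M)
    {z v : S} (hz : orderOf z = 2) (hzM : z ∈ M) (hv : orderOf v = 2) (hvM : v ∉ M) :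
    ∃ d : S, d * z * d⁻¹ = v := by
  obtain ⟨d, _, hd⟩ := dih_conj_of_odd (invol_mul_self hz) (invol_mul_self hv)
    (odd_orderOf_mul_of_centralizer_le hC hz hzM hv hvM)
  exact ⟨d, hd⟩

/-- If `M` has even order and its normal core has odd order, some involution lies outside `M`. -/
theorem exists_invol_not_mem [Finite S] {M : Subgroup S} (hM : Even (Nat.card M))
    (hcore : Odd (Nat.card M.normalCore)) : ∃ v : S, orderOf v = 2 ∧ v ∉ M := by
  by_contra hcon
  push Not at hcon
  obtain ⟨z, hzM, hz⟩ := (even_card_iff_exists_invol M).mp hM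
  have hzc : z ∈ M.normalCore := by
    intro b
    exact hcon _ (orderOf_conj_two b hz)
  have h2 : Even (Nat.card M.normalCore) := (even_card_iff_exists_invol _).mpr ⟨z, hzc, hz⟩
  exact (Nat.not_even_iff_odd.mpr hcore) h2

/-- All involutions are conjugate. -/
theorem isConj_invol_of_centralizer_le [Finite S] {M : Subgroup S} (hM : Even (Nat.card M))
    (hC : ∀ i ∈ M, orderOf i = 2 → Subgroup.centralizer ({i} : Set S) ≤ M)
    (hcore : Odd (Nat.card M.normalCore)) (x y : S) (hx : orderOf x = 2) (hy : orderOf y = 2) :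
    IsConj x y := by
  obtain ⟨z, hzM, hz⟩ := (even_card_iff_exists_invol M).mp hM
  obtain ⟨v, hv, hvM⟩ := exists_invol_not_mem hM hcore
  have key : ∀ a b : S, orderOf a = 2 → a ∈ M → orderOf b = 2 → b ∉ M → IsConj a b := by
    intro a b ha haM hb hbM
    obtain ⟨d, hd⟩ := exists_conj_of_centralizer_le hC ha haM hb hbM
    exact isConj_iff.mpr ⟨d, hd⟩
  by_cases hxM : x ∈ M
  · by_cases hyM : y ∈ M
    · exact (key x v hx hxM hv hvM).trans (key y v hy hyM hv hvM).symm
    · exact key x y hx hxM hy hyM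
  · by_cases hyM : y ∈ M
    · exact (key y x hy hyM hx hxM).symm
    · exact (key z x hz hzM hx hxM).symm.trans (key z y hz hzM hy hyM)

/-- An element centralizing the involution `z ∈ M` and inverted by the involution `x ∉ M`
is trivial. -/
theorem eq_one_of_centralizes_of_inverted [Finite S] {M : Subgroup S}
    (hC : ∀ i ∈ M, orderOf i = 2 → Subgroup.centralizer ({i} : Set S) ≤ M)
    {z x c : S} (hz : orderOf z = 2) (hzM : z ∈ M) (hx : orderOf x = 2) (hxM : x ∉ M)
    (hcz : c * z = z * c) (hinv : x * c * x⁻¹ = c⁻¹) : c = 1 := by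
  have hxx : x * x = 1 := invol_mul_self hx
  have hzz : z * z = 1 := invol_mul_self hz
  have hxi : x⁻¹ = x := invol_inv hx
  -- `x z x` commutes with `c`
  have h1 : c * (x * z * x) = (x * z * x) * c := by
    have hc' : c = x * c⁻¹ * x := by
      rw [← hinv, hxi]
      calc c = (x * x) * c * (x * x) := by rw [hxx]; group
        _ = x * (x * c * x) * x := by group
    have hcz' : c⁻¹ * z = z * c⁻¹ := by
      calc c⁻¹ * z = c⁻¹ * (z * c) * c⁻¹ := by group
        _ = c⁻¹ * (c * z) * c⁻¹ := by rw [hcz]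
        _ = z * c⁻¹ := by group
    calc c * (x * z * x) = (x * c⁻¹ * x) * (x * z * x) := by rw [← hc']
      _ = x * c⁻¹ * (x * x) * z * x := by group
      _ = x * (c⁻¹ * z) * x := by rw [hxx]; group
      _ = x * (z * c⁻¹) * x := by rw [hcz']
      _ = x * z * (x * x) * c⁻¹ * x := by rw [hxx]; group
      _ = (x * z * x) * (x * c⁻¹ * x) := by group
      _ = (x * z * x) * c := by rw [← hc']
  -- `(z x)^2 = z (x z x)` commutes with `c`
  have h2 : Commute c ((z * x) ^ 2) := by
    have : (z * x) ^ 2 = z * (x * z * x) := by rw [pow_two]; group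
    rw [this]
    exact (Commute.mul_right hcz h1)
  -- `z x` has odd order, so is a power of its square
  have hodd := odd_orderOf_mul_of_centralizer_le hC hz hzM hx hxM
  obtain ⟨k, hk⟩ := hodd
  have h3 : z * x = ((z * x) ^ 2) ^ (k + 1) := by
    rw [← pow_mul]
    have : 2 * (k + 1) = orderOf (z * x) + 1 := by omega
    rw [this, pow_succ, pow_orderOf_eq_one, one_mul]
  have h4 : Commute c (z * x) := by
    rw [h3]; exact h2.pow_right _
  have h5 : Commute c x := by
    have : x = z * (z * x) := by rw [← mul_assoc, hzz, one_mul]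
    rw [this]
    exact Commute.mul_right hcz h4
  -- so `c = c⁻¹`
  have h6 : c = c⁻¹ := by
    rw [← hinv, hxi]
    calc c = c * (x * x) := by rw [hxx, mul_one]
      _ = (c * x) * x := by group
      _ = (x * c) * x := by rw [h5.eq]
  have hcc : c * c = 1 := by
    nth_rewrite 2 [h6]
    exact mul_inv_cancel c
  by_contra hc1
  have hc2 : orderOf c = 2 := orderOf_two_iff.mpr ⟨hc1, hcc⟩
  have hcM : c ∈ M := by
    apply hC z hzM hz
    rw [Subgroup.mem_centralizer_singleton_iff]
    exact hcz
  have : x ∈ M := by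
    apply hC c hcM hc2
    rw [Subgroup.mem_centralizer_singleton_iff]
    exact h5.eq.symm
  exact hxM this

/-- Orbit-stabilizer for conjugacy classes. -/
theorem ncard_conj_mul_card_centralizer [Finite S] (z : S) :
    Set.ncard {x : S | ∃ g : S, g * z * g⁻¹ = x} * Nat.card (Subgroup.centralizer ({z} : Set S))
      = Nat.card S := by
  have h1 := MulAction.index_stabilizer (ConjAct S) z
  have h2 : MulAction.orbit (ConjAct S) z = {x : S | ∃ g : S, g * z * g⁻¹ = x} := by
    ext x
    constructor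
    · rintro ⟨g, rfl⟩
      exact ⟨ConjAct.ofConjAct g, by show _ = g • z; rw [ConjAct.smul_def]⟩
    · rintro ⟨g, rfl⟩
      exact ⟨ConjAct.toConjAct g, by show (ConjAct.toConjAct g) • z = _; rw [ConjAct.smul_def]; simp⟩
  rw [← h2, ← h1, Subgroup.nat_card_centralizer_nat_card_stabilizer, Subgroup.index_mul_card]
  rfl

theorem exists_invol_conj_inter [Finite S] {M : Subgroup S}
    (hC : ∀ i ∈ M, orderOf i = 2 → Subgroup.centralizer ({i} : Set S) ≤ M)
    {z : S} (hz : orderOf z = 2) (hzM : z ∈ M)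
    (hall : ∀ x : S, orderOf x = 2 → ∃ g : S, g * z * g⁻¹ = x)
    (htr : ∀ x ∈ M, orderOf x = 2 → ∃ g ∈ M, g * z * g⁻¹ = x)
    (hex : ∃ v : S, orderOf v = 2 ∧ v ∉ M) :
    ∃ t : S, orderOf t = 2 ∧ t ∉ M ∧
      ∀ x ∈ M, orderOf x = 2 → ∃ a ∈ M, t * a * t⁻¹ = a⁻¹ ∧ a * z * a⁻¹ = x := by
  classical
  have := Fintype.ofFinite S
  set c := Nat.card (Subgroup.centralizer ({z} : Set S)) with hc
  have hcpos : 0 < c := Nat.card_pos
  set InvF : Finset S := Finset.univ.filter (fun x => orderOf x = 2) with hInvF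
  set AF : Finset S := Finset.univ.filter (fun x => orderOf x = 2 ∧ x ∈ M) with hAF
  set BF : Finset S := Finset.univ.filter (fun x => orderOf x = 2 ∧ x ∉ M) with hBF
  -- (1)
  have h1 : InvF.card * c = Nat.card S := by
    rw [← ncard_conj_mul_card_centralizer z, ← Set.ncard_coe_finset]
    congr 2
    ext x
    simp only [hInvF, Finset.coe_filter, Finset.mem_univ, true_and, Set.mem_ofPred_eq]
    constructor
    · exact hall x
    · rintro ⟨g, rfl⟩; exact orderOf_conj_two g hz
  -- (2)
  have h2 : AF.card * c = Nat.card M := by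
    have e := ncard_conj_mul_card_centralizer (S := M) ⟨z, hzM⟩
    have hcard : Nat.card (Subgroup.centralizer ({(⟨z, hzM⟩ : M)} : Set M)) = c := by
      have hle : Subgroup.centralizer ({z} : Set S) ≤ M := hC z hzM hz
      have : Subgroup.centralizer ({(⟨z, hzM⟩ : M)} : Set M) =
          (Subgroup.centralizer ({z} : Set S)).subgroupOf M := by
        ext y
        rw [Subgroup.mem_subgroupOf, Subgroup.mem_centralizer_singleton_iff,
          Subgroup.mem_centralizer_singleton_iff]
        constructor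
        · intro h; exact congrArg Subtype.val h
        · intro h; exact Subtype.ext h
      rw [this]
      exact Nat.card_congr (Subgroup.subgroupOfEquivOfLe hle).toEquiv
    rw [hcard] at e
    rw [← e]
    congr 1
    rw [← Set.ncard_coe_finset, ← Set.ncard_image_of_injective _ Subtype.val_injective]
    congr 1
    ext x
    simp only [hAF, Finset.coe_filter, Finset.mem_univ, true_and, Set.mem_ofPred_eq, Set.mem_image]
    constructor
    · rintro ⟨hx2, hxM⟩
      obtain ⟨g, hgM, hg⟩ := htr x hxM hx2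
      exact ⟨⟨x, hxM⟩, ⟨⟨g, hgM⟩, Subtype.ext hg⟩, rfl⟩
    · rintro ⟨y, ⟨g, rfl⟩, rfl⟩
      refine ⟨?_, Subtype.property _⟩
      have : ((g * ⟨z, hzM⟩ * g⁻¹ : M) : S) = (g : S) * z * (g : S)⁻¹ := by simp
      rw [this]; exact orderOf_conj_two _ hz
  -- (3)
  have h3 : InvF.card = AF.card + BF.card := by
    rw [hInvF, hAF, hBF, ← Finset.card_union_of_disjoint]
    · congr 1
      ext x
      simp only [Finset.mem_filter, Finset.mem_univ, true_and, Finset.mem_union]
      tauto
    · rw [Finset.disjoint_left]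
      intro x hx hx'
      simp only [Finset.mem_filter, Finset.mem_univ, true_and] at hx hx'
      exact hx'.2 hx.2
  -- (4)
  have h4 : BF.card = (M.index - 1) * AF.card := by
    have e1 : (AF.card + BF.card) * c = M.index * (AF.card * c) := by
      rw [← h3, h1, h2, Subgroup.index_mul_card]
    have e2 : AF.card + BF.card = M.index * AF.card := by
      have : (AF.card + BF.card) * c = (M.index * AF.card) * c := by rw [e1, mul_assoc]
      exact Nat.eq_of_mul_eq_mul_right hcpos this
    have hi : 1 ≤ M.index := Nat.one_le_iff_ne_zero.mpr (Subgroup.index_ne_zero_of_finite)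
    have : M.index * AF.card = AF.card + (M.index - 1) * AF.card := by
      conv_lhs => rw [show M.index = 1 + (M.index - 1) by omega]
      rw [add_mul, one_mul]
    omega
  -- (5) pigeonhole over the nontrivial cosets
  obtain ⟨v, hv, hvM⟩ := hex
  have : Fintype (S ⧸ M) := Fintype.ofFinite _
  let T : Finset (S ⧸ M) := Finset.univ.erase ((1 : S) : S ⧸ M)
  have hTcard : T.card = M.index - 1 := by
    rw [Finset.card_erase_of_mem (Finset.mem_univ _), Finset.card_univ, Subgroup.index,
      Nat.card_eq_fintype_card]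
  have hmaps : ∀ a ∈ BF, ((a : S) : S ⧸ M) ∈ T := by
    intro a ha
    simp only [hBF, Finset.mem_filter, Finset.mem_univ, true_and] at ha
    rw [Finset.mem_erase]
    refine ⟨?_, Finset.mem_univ _⟩
    intro h
    rw [QuotientGroup.eq] at h
    have h' : a⁻¹ ∈ M := by simpa using h
    exact ha.2 (by simpa using M.inv_mem h')
  have hTne : T.Nonempty := ⟨_, hmaps v (by simp [hBF, hv, hvM])⟩
  obtain ⟨y, hyT, hy⟩ := Finset.exists_le_card_fiber_of_mul_le_card_of_maps_to
    (f := fun a : S => ((a : S) : S ⧸ M)) hmaps hTne (n := AF.card) (by rw [hTcard, h4])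
  -- (6)
  have hApos : 0 < AF.card := Finset.card_pos.mpr ⟨z, by simp [hAF, hz, hzM]⟩
  set F := BF.filter (fun x : S => ((x : S) : S ⧸ M) = y) with hF
  obtain ⟨t, htF⟩ := Finset.card_pos.mp (lt_of_lt_of_le hApos hy)
  have ht' : (orderOf t = 2 ∧ t ∉ M) ∧ ((t : S) : S ⧸ M) = y := by
    simpa [hF, hBF] using htF
  obtain ⟨⟨ht2, htM⟩, hty⟩ := ht'
  have htt : t * t = 1 := invol_mul_self ht2
  have hti : t⁻¹ = t := invol_inv ht2
  have hFmem : ∀ x ∈ F, orderOf x = 2 ∧ x ∉ M ∧ t * x ∈ M := by
    intro x hx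
    have hx' : (orderOf x = 2 ∧ x ∉ M) ∧ ((x : S) : S ⧸ M) = y := by
      simpa [hF, hBF] using hx
    refine ⟨hx'.1.1, hx'.1.2, ?_⟩
    have : ((t : S) : S ⧸ M) = ((x : S) : S ⧸ M) := by rw [hty, hx'.2]
    rw [QuotientGroup.eq, hti] at this
    exact this
  -- (7)
  have hsurj := Finset.surj_on_of_inj_on_of_card_le (s := F) (t := AF)
    (fun x _ => (t * x) * z * (t * x)⁻¹)
    (by
      intro x hx
      obtain ⟨hx2, hxM, htx⟩ := hFmem x hx
      simp only [hAF, Finset.mem_filter, Finset.mem_univ, true_and]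
      exact ⟨orderOf_conj_two _ hz, M.mul_mem (M.mul_mem htx hzM) (M.inv_mem htx)⟩)
    (by
      intro x₁ x₂ hx₁ hx₂ heq
      obtain ⟨hx12, hx1M, htx1⟩ := hFmem x₁ hx₁
      obtain ⟨hx22, hx2M, htx2⟩ := hFmem x₂ hx₂
      have hx1i : x₁⁻¹ = x₁ := invol_inv hx12
      have hx2i : x₂⁻¹ = x₂ := invol_inv hx22
      have hx11 : x₁ * x₁ = 1 := invol_mul_self hx12
      -- c = x₂ x₁ centralizes z
      have hcz : (x₂ * x₁) * z = z * (x₂ * x₁) := by
        have e : x₂ * x₁ = (t * x₂)⁻¹ * (t * x₁) := by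
          rw [mul_inv_rev, hx2i, hti]
          calc x₂ * x₁ = x₂ * (t * t) * x₁ := by rw [htt, mul_one]
            _ = x₂ * t * (t * x₁) := by group
        rw [e]
        calc (t * x₂)⁻¹ * (t * x₁) * z
            = (t * x₂)⁻¹ * ((t * x₁) * z * (t * x₁)⁻¹) * (t * x₁) := by group
          _ = (t * x₂)⁻¹ * ((t * x₂) * z * (t * x₂)⁻¹) * (t * x₁) := by rw [heq]
          _ = z * ((t * x₂)⁻¹ * (t * x₁)) := by group
      have hinv : x₁ * (x₂ * x₁) * x₁⁻¹ = (x₂ * x₁)⁻¹ := by
        rw [mul_inv_rev, hx1i, hx2i]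
        calc x₁ * (x₂ * x₁) * x₁ = x₁ * x₂ * (x₁ * x₁) := by group
          _ = x₁ * x₂ := by rw [hx11, mul_one]
      have h1 := eq_one_of_centralizes_of_inverted hC hz hzM hx12 hx1M hcz hinv
      calc x₁ = x₂⁻¹ * (x₂ * x₁) := by group
        _ = x₂⁻¹ := by rw [h1, mul_one]
        _ = x₂ := hx2i)
    hy
  -- (8)
  refine ⟨t, ht2, htM, ?_⟩
  intro x hxM hx2
  obtain ⟨x', hx'F, hxx'⟩ := hsurj x (by simp [hAF, hx2, hxM])
  obtain ⟨hx'2, hx'M, htx'⟩ := hFmem x' hx'F
  refine ⟨t * x', htx', ?_, hxx'.symm⟩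
  rw [mul_inv_rev, hti, invol_inv hx'2]
  calc t * (t * x') * t = (t * t) * x' * t := by group
    _ = x' * t := by rw [htt, one_mul]

end Cfsg.Agent.Lib.Helper9
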