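import Mathlib
import Cfsg.Agent.Lib.Helper15.NilpotentConj

/-! Rank of a matrix is invariant under field extension; descent of conjugacy for nilpotent
matrices. -/

set_option autoImplicit false
open scoped MatrixGroups

namespace Cfsg.Agent.Lib.Helper9.SubfieldB
open Matrix Module Cfsg.Agent.Lib.Helper15.NilpotentConj

variable {K L : Type*} [Field K] [Field L] (f : K →+* L) {n : ℕ}

theorem rank_fromBlocks_one (r s : ℕ) :
    (Matrix.fromBlocks (1 : Matrix (Fin r) (Fin r) L) 0 0 (0 : Matrix (Fin s) (Fin s) L)).rank = r := by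
  classical
  rw [← Matrix.diagonal_one, ← Matrix.diagonal_zero, Matrix.fromBlocks_diagonal, Matrix.rank_diagonal]
  have : Fintype.card {i : Fin r ⊕ Fin s // Sum.elim (fun _ => (1 : L)) (fun _ => (0 : L)) i ≠ 0} =
      Fintype.card (Fin r) := by
    apply Fintype.card_congr
    refine ⟨fun x => match x with
      | ⟨Sum.inl i, _⟩ => i
      | ⟨Sum.inr j, h⟩ => absurd rfl h, fun i => ⟨Sum.inl i, by simp⟩, ?_, ?_⟩
    · rintro ⟨i | j, h⟩
      · rfl
      · exact absurd rfl h
    · intro i
      rfl
  rw [this, Fintype.card_fin]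

theorem rank_map (A : Matrix (Fin n) (Fin n) K) : (A.map f).rank = A.rank := by
  classical
  obtain ⟨V, U, e, hV, hU, h⟩ := Matrix.exists_rank_normal_form A
  have hVd : IsUnit (V.map f).det := by
    rw [← RingHom.mapMatrix_apply, ← RingHom.map_det]
    exact ((Matrix.isUnit_iff_isUnit_det _).mp hV).map f
  have hUd : IsUnit (U.map f).det := by
    rw [← RingHom.mapMatrix_apply, ← RingHom.map_det]
    exact ((Matrix.isUnit_iff_isUnit_det _).mp hU).map f
  have h1 : (V.map f) * (A.map f) * (U.map f) =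
      (Matrix.fromBlocks (1 : Matrix (Fin A.rank) (Fin A.rank) L) 0 0
        (0 : Matrix (Fin (Fintype.card (Fin n) - A.rank)) (Fin (Fintype.card (Fin n) - A.rank)) L)).submatrix e e := by
    rw [← Matrix.map_mul, ← Matrix.map_mul, h]
    ext i j
    rw [Matrix.map_apply, Matrix.submatrix_apply, Matrix.submatrix_apply]
    rcases e i with a | a <;> rcases e j with b | b <;>
      simp [Matrix.one_apply, apply_ite f]
  have h2 : ((V.map f) * (A.map f) * (U.map f)).rank = (A.map f).rank := by
    rw [Matrix.rank_mul_eq_left_of_isUnit_det _ _ hUd, Matrix.rank_mul_eq_right_of_isUnit_det _ _ hVd]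
  rw [← h2, h1, Matrix.rank_submatrix, rank_fromBlocks_one]

theorem finrank_ker_toLin' (B : Matrix (Fin n) (Fin n) K) :
    finrank K (LinearMap.ker (Matrix.toLin' B)) + B.rank = n := by
  have h := LinearMap.finrank_range_add_finrank_ker (Matrix.toLin' B)
  rw [Module.finrank_fin_fun] at h
  have hr : B.rank = finrank K (LinearMap.range (Matrix.toLin' B)) := by
    rw [Matrix.rank, Matrix.toLin'_apply']
  omega

theorem mkap_map (A : Matrix (Fin n) (Fin n) K) (k : ℕ) : mkap (A.map f) k = mkap A k := by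
  unfold mkap kap
  rw [← Matrix.toLin'_pow, ← Matrix.toLin'_pow]
  have h1 := finrank_ker_toLin' (A ^ k)
  have h2 := finrank_ker_toLin' ((A.map f) ^ k)
  have h3 : (A.map f) ^ k = (A ^ k).map f := by
    rw [← RingHom.mapMatrix_apply, ← RingHom.mapMatrix_apply, map_pow]
  rw [h3, rank_map] at h2
  rw [h3]
  omega

/-- conjugacy of nilpotent matrices descends to subfields -/
theorem conj_descent (A B : Matrix (Fin n) (Fin n) K) (hA : IsNilpotent A) (hB : IsNilpotent B)
    (M : GL (Fin n) L)
    (hM : (M : Matrix (Fin n) (Fin n) L) * A.map f = B.map f * (M : Matrix (Fin n) (Fin n) L)) :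
    ∃ M₀ : GL (Fin n) K,
      (M₀ : Matrix (Fin n) (Fin n) K) * A = B * (M₀ : Matrix (Fin n) (Fin n) K) := by
  apply matrix_conj_of_mkap_eq A B hA hB
  intro k
  rw [← mkap_map f A, ← mkap_map f B]
  exact mkap_eq_of_conj _ _ M hM k

end Cfsg.Agent.Lib.Helper9.SubfieldB
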