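import Mathlib
import Cfsg.Agent.Lib.Helper9.SubfieldA
import Cfsg.Agent.Lib.Helper9.SubfieldB

set_option autoImplicit false
open scoped MatrixGroups

namespace Cfsg.Agent.Lib.Helper9.SubfieldE
open Matrix Cfsg.Agent.Lib.Helper9.SubfieldA Cfsg.Agent.Lib.Helper9.SubfieldB

variable {R : Type*} [CommRing R] {m : ℕ}

/-- the nilpotent matrix with `m` Jordan blocks of size 2 -/
def EE (R : Type*) [CommRing R] (m : ℕ) : Matrix (Fin (m + m)) (Fin (m + m)) R :=
  Matrix.reindex finSumFinEquiv finSumFinEquiv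
    (Matrix.fromBlocks (0 : Matrix (Fin m) (Fin m) R) 0 1 0)

theorem EE_mul_EE : EE R m * EE R m = 0 := by
  unfold EE
  rw [Matrix.reindex_apply, Matrix.submatrix_mul_equiv, Matrix.fromBlocks_multiply]
  simp

theorem EE_map {S : Type*} [CommRing S] (f : R →+* S) : (EE R m).map f = EE S m := by
  unfold EE
  ext i j
  simp only [Matrix.map_apply, Matrix.reindex_apply, Matrix.submatrix_apply]
  rcases finSumFinEquiv.symm i with a | a <;> rcases finSumFinEquiv.symm j with b | b <;>
    simp [Matrix.one_apply, apply_ite f]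

theorem EE_ne_zero [Nontrivial R] (hm : 1 ≤ m) : EE R m ≠ 0 := by
  intro h
  have := congrFun (congrFun h (finSumFinEquiv (Sum.inr ⟨0, hm⟩))) (finSumFinEquiv (Sum.inl ⟨0, hm⟩))
  rw [EE, Matrix.reindex_apply, Matrix.submatrix_apply, Equiv.symm_apply_apply,
    Equiv.symm_apply_apply] at this
  simp at this

/-- the determinant of a matrix commuting with `EE` is a square -/
theorem det_of_comm (c : Matrix (Fin (m + m)) (Fin (m + m)) R) (hc : c * EE R m = EE R m * c) :
    ∃ a : R, c.det = a * a := by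
  set c' : Matrix (Fin m ⊕ Fin m) (Fin m ⊕ Fin m) R :=
    Matrix.reindex finSumFinEquiv.symm finSumFinEquiv.symm c with hc'
  have hcc : c = Matrix.reindex finSumFinEquiv finSumFinEquiv c' := by
    rw [hc']
    ext i j
    simp
  have hdet : c.det = c'.det := by
    rw [hc', Matrix.det_reindex_self]
  rw [hcc] at hc
  unfold EE at hc
  rw [Matrix.reindex_apply, Matrix.reindex_apply, Matrix.submatrix_mul_equiv,
    Matrix.submatrix_mul_equiv] at hc
  have hc2 : c' * Matrix.fromBlocks (0 : Matrix (Fin m) (Fin m) R) 0 1 0 =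
      Matrix.fromBlocks (0 : Matrix (Fin m) (Fin m) R) 0 1 0 * c' := by
    have := congrArg (fun M => Matrix.submatrix M finSumFinEquiv finSumFinEquiv) hc
    simpa using this
  rw [← Matrix.fromBlocks_toBlocks c', Matrix.fromBlocks_multiply, Matrix.fromBlocks_multiply] at hc2
  simp only [Matrix.mul_zero, Matrix.mul_one, Matrix.zero_mul, Matrix.one_mul, zero_add, add_zero,
    Matrix.fromBlocks_inj] at hc2
  obtain ⟨h12, -, h22, -⟩ := hc2
  have hform : c' = Matrix.fromBlocks c'.toBlocks₁₁ 0 c'.toBlocks₂₁ c'.toBlocks₁₁ := by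
    conv_lhs => rw [← Matrix.fromBlocks_toBlocks c', h12, h22]
  have hd2 : c'.det = c'.toBlocks₁₁.det * c'.toBlocks₁₁.det := by
    conv_lhs => rw [hform]
    rw [Matrix.det_fromBlocks_zero₁₂]
  exact ⟨c'.toBlocks₁₁.det, by rw [hdet, hd2]⟩

theorem conj_pow {n : Type*} [Fintype n] [DecidableEq n] {R : Type*} [CommRing R]
    (A B Bi : Matrix n n R) (h : B * Bi = 1) (h' : Bi * B = 1) (k : ℕ) :
    (Bi * A * B) ^ k = Bi * A ^ k * B := by
  induction k with
  | zero => rw [pow_zero, pow_zero, Matrix.mul_one, h']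
  | succ k ih =>
    rw [pow_succ, ih, pow_succ]
    calc Bi * A ^ k * B * (Bi * A * B) = Bi * A ^ k * (B * Bi) * A * B := by
          simp only [Matrix.mul_assoc]
      _ = Bi * (A ^ k * A) * B := by rw [h, Matrix.mul_one]; simp only [Matrix.mul_assoc]

variable {F : Type*} [Field F] [Fintype F]

/-- if `k = 2` (all elements of the subfield are squares) there is an element of order `p` (the
characteristic, odd) of `SL_{2m}(F)` not conjugate into the subfield subgroup -/
theorem exists_not_conj (p : ℕ) [Fact p.Prime] [CharP F p] (F₀ : Subfield F)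
    (hsq : ∀ a : F₀, IsSquare (a : F)) (ν : F) (hν : ¬ IsSquare ν) (m : ℕ) (hm : 1 ≤ m) :
    ∃ x : Matrix.SpecialLinearGroup (Fin (m + m)) F,
      ((x ^ p : Matrix.SpecialLinearGroup (Fin (m + m)) F) : Matrix (Fin (m + m)) (Fin (m + m)) F) = 1 ∧
      (∀ z : F, (x : Matrix (Fin (m + m)) (Fin (m + m)) F) ≠ z • 1) ∧
      ∀ P : Matrix.SpecialLinearGroup (Fin (m + m)) F, P⁻¹ * x * P ∉ HH F₀ (m + m) := by
  classical
  have hp : p.Prime := Fact.out
  have hν0 : ν ≠ 0 := by
    rintro rfl
    exact hν ⟨0, by simp⟩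
  let i₀ : Fin (m + m) := ⟨0, by omega⟩
  have : Nonempty (Fin (m + m)) := ⟨i₀⟩
  set E : Matrix (Fin (m + m)) (Fin (m + m)) F := EE F m with hE
  have hEE : E * E = 0 := EE_mul_EE
  have hEp : E ^ p = 0 := by
    have : p = 2 + (p - 2) := by have := hp.two_le; omega
    rw [this, pow_add, pow_two, hEE, zero_mul]
  have hJp : (1 + E) ^ p = 1 := by
    rw [add_pow_char_of_commute p (Commute.one_left E), one_pow, hEp, add_zero]
  let D : Matrix (Fin (m + m)) (Fin (m + m)) F := Matrix.diagonal (Function.update (fun _ => (1 : F)) i₀ ν)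
  let Di : Matrix (Fin (m + m)) (Fin (m + m)) F := Matrix.diagonal (Function.update (fun _ => (1 : F)) i₀ ν⁻¹)
  have hDDi : D * Di = 1 := by
    rw [Matrix.diagonal_mul_diagonal, ← Matrix.diagonal_one]
    congr 1
    funext i
    by_cases hi : i = i₀
    · subst hi
      simp [mul_inv_cancel₀ hν0]
    · simp [Function.update_of_ne hi]
  have hDiD : Di * D = 1 := by
    rw [Matrix.diagonal_mul_diagonal, ← Matrix.diagonal_one]
    congr 1
    funext i
    by_cases hi : i = i₀
    · subst hi
      simp [inv_mul_cancel₀ hν0]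
    · simp [Function.update_of_ne hi]
  have hDdet : D.det = ν := by
    rw [Matrix.det_diagonal, Finset.prod_update_of_mem (Finset.mem_univ _)]
    simp
  have hDidet : Di.det = ν⁻¹ := by
    rw [Matrix.det_diagonal, Finset.prod_update_of_mem (Finset.mem_univ _)]
    simp
  set X : Matrix (Fin (m + m)) (Fin (m + m)) F := D * (1 + E) * Di with hX
  have hXpow : ∀ k : ℕ, X ^ k = D * (1 + E) ^ k * Di := by
    intro k
    induction k with
    | zero => rw [pow_zero, pow_zero, Matrix.mul_one, hDDi]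
    | succ k ih =>
      rw [pow_succ, ih, hX, pow_succ]
      calc D * (1 + E) ^ k * Di * (D * (1 + E) * Di)
          = D * (1 + E) ^ k * (Di * D) * (1 + E) * Di := by simp only [Matrix.mul_assoc]
        _ = D * ((1 + E) ^ k * (1 + E)) * Di := by rw [hDiD, Matrix.mul_one]; simp only [Matrix.mul_assoc]
  have hXp : X ^ p = 1 := by rw [hXpow, hJp, Matrix.mul_one, hDDi]
  have hJdet : (1 + E).det = 1 := by
    have h1 := congrArg Matrix.det hJp
    rw [Matrix.det_pow, Matrix.det_one] at h1
    have h2 : (frobenius F p) (1 + E).det = (frobenius F p) 1 := by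
      rw [frobenius_def, frobenius_def, one_pow]
      exact h1
    exact frobenius_inj F p h2
  have hXdet : X.det = 1 := by
    rw [hX, Matrix.det_mul, Matrix.det_mul, hJdet, hDdet, hDidet, mul_one, mul_inv_cancel₀ hν0]
  let x : Matrix.SpecialLinearGroup (Fin (m + m)) F := ⟨X, hXdet⟩
  have hxX : (x : Matrix (Fin (m + m)) (Fin (m + m)) F) = X := rfl
  refine ⟨x, ?_, ?_, ?_⟩
  · rw [Matrix.SpecialLinearGroup.coe_pow, hxX]
    exact hXp
  · intro z hz
    have hz' : X = z • 1 := by rw [← hxX]; exact hz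
    have h1 : 1 + E = z • 1 := by
      calc 1 + E = (Di * D) * (1 + E) * (Di * D) := by rw [hDiD, Matrix.one_mul, Matrix.mul_one]
        _ = Di * X * D := by rw [hX]; simp only [Matrix.mul_assoc]
        _ = z • 1 := by rw [hz', Matrix.mul_smul, Matrix.smul_mul, Matrix.mul_one, hDiD]
    have h2 : E = (z - 1) • 1 := by
      rw [sub_smul, one_smul, ← h1]
      abel
    have h3 : (z - 1) * (z - 1) = 0 := by
      have := hEE
      rw [h2, Matrix.smul_mul, Matrix.mul_smul, Matrix.mul_one, smul_smul] at this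
      have h4 := congrFun (congrFun this i₀) i₀
      simpa using h4
    have h5 : z - 1 = 0 := by
      rcases mul_eq_zero.mp h3 with h | h <;> exact h
    rw [h5, zero_smul] at h2
    exact EE_ne_zero hm h2
  · intro P hP
    obtain ⟨y₀, c, hc0, hy₀det, hxP⟩ := exists_of_conj_mem F₀ x P hP
    set Pm : Matrix (Fin (m + m)) (Fin (m + m)) F := (P : Matrix (Fin (m + m)) (Fin (m + m)) F) with hPm
    set Pi : Matrix (Fin (m + m)) (Fin (m + m)) F :=
      ((P⁻¹ : Matrix.SpecialLinearGroup (Fin (m + m)) F) : Matrix (Fin (m + m)) (Fin (m + m)) F) with hPi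
    have hPiP : Pi * Pm = 1 := by
      rw [hPi, hPm, ← Matrix.SpecialLinearGroup.coe_mul, inv_mul_cancel, Matrix.SpecialLinearGroup.coe_one]
    have hPPi : Pm * Pi = 1 := by
      rw [hPi, hPm, ← Matrix.SpecialLinearGroup.coe_mul, mul_inv_cancel, Matrix.SpecialLinearGroup.coe_one]
    have hPidet : Pi.det = 1 := (P⁻¹).2
    set ι : F₀ →+* F := F₀.subtype with hι
    have hιinj : Function.Injective ι := Subtype.val_injective
    set Y : Matrix (Fin (m + m)) (Fin (m + m)) F := c • y₀.map ι with hY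
    have hYX : Y = Pi * X * Pm := by
      rw [Matrix.mul_assoc, ← hxX, hxP, ← Matrix.mul_assoc, hPiP, Matrix.one_mul]
    have hYp : Y ^ p = 1 := by
      rw [hYX, conj_pow X Pm Pi hPPi hPiP, hXp, Matrix.mul_one, hPiP]
    -- the scalar lies in the subfield
    have hYp' : c ^ p • (y₀ ^ p).map ι = 1 := by
      rw [← hYp, hY, smul_pow]
      congr 1
      rw [← RingHom.mapMatrix_apply, ← RingHom.mapMatrix_apply, map_pow]
    set b : F₀ := (y₀ ^ p) i₀ i₀ with hb
    have hcb : c ^ p * (b : F) = 1 := by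
      have := congrFun (congrFun hYp' i₀) i₀
      simpa [hι] using this
    have hb0 : b ≠ 0 := by
      rintro h
      rw [h, Subfield.coe_zero, mul_zero] at hcb
      exact zero_ne_one hcb
    have hfrob : Function.Surjective (fun a : F₀ => a ^ p) := by
      apply Finite.surjective_of_injective
      intro a a' h
      have h1 : ((a ^ p : F₀) : F) = ((a' ^ p : F₀) : F) := congrArg _ h
      rw [SubmonoidClass.coe_pow, SubmonoidClass.coe_pow] at h1
      have h2 : frobenius F p (a : F) = frobenius F p (a' : F) := by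
        rw [frobenius_def, frobenius_def]
        exact h1
      exact Subtype.ext (frobenius_inj F p h2)
    obtain ⟨r, hr⟩ := hfrob b⁻¹
    have hcr : c = (r : F) := by
      apply frobenius_inj F p
      rw [frobenius_def, frobenius_def, ← SubmonoidClass.coe_pow]
      have hr' : r ^ p = b⁻¹ := hr
      rw [hr', Subfield.coe_inv]
      have hb' : (b : F) ≠ 0 := by
        intro h
        apply hb0
        exact_mod_cast h
      field_simp
      exact hcb
    set y₁ : Matrix (Fin (m + m)) (Fin (m + m)) F₀ := r • y₀ with hy₁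
    have hy₁map : y₁.map ι = Y := by
      rw [hy₁, hY, hcr]
      ext i j
      simp [hι]
    set N₀ : Matrix (Fin (m + m)) (Fin (m + m)) F₀ := y₁ - 1 with hN₀
    have hN₀map : N₀.map ι = Y - 1 := by
      rw [hN₀, ← hy₁map]
      ext i j
      simp [Matrix.one_apply, apply_ite ι]
    obtain ⟨M, hM⟩ : ∃ M : Matrix (Fin (m + m)) (Fin (m + m)) F, M = Di * Pm := ⟨_, rfl⟩
    obtain ⟨Mi, hMi⟩ : ∃ Mi : Matrix (Fin (m + m)) (Fin (m + m)) F, Mi = Pi * D := ⟨_, rfl⟩
    have hMMi : M * Mi = 1 := by
      rw [hM, hMi]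
      calc Di * Pm * (Pi * D) = Di * (Pm * Pi) * D := by simp only [Matrix.mul_assoc]
        _ = 1 := by rw [hPPi, Matrix.mul_one, hDiD]
    have hMiM : Mi * M = 1 := by
      rw [hM, hMi]
      calc Pi * D * (Di * Pm) = Pi * (D * Di) * Pm := by simp only [Matrix.mul_assoc]
        _ = 1 := by rw [hDDi, Matrix.mul_one, hPiP]
    have hY1 : Y - 1 = Mi * E * M := by
      have h1 : X - 1 = D * E * Di := by
        rw [hX, Matrix.mul_add, Matrix.add_mul, Matrix.mul_one, hDDi]
        abel
      calc Y - 1 = Pi * X * Pm - Pi * 1 * Pm := by rw [hYX, Matrix.mul_one, hPiP]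
        _ = Pi * (X - 1) * Pm := by rw [Matrix.mul_sub, Matrix.sub_mul]
        _ = Mi * E * M := by rw [h1, hM, hMi]; simp only [Matrix.mul_assoc]
    have hN₀sq : N₀ * N₀ = 0 := by
      apply Matrix.map_injective hιinj
      show (N₀ * N₀).map ι = (0 : Matrix (Fin (m + m)) (Fin (m + m)) F₀).map ι
      rw [Matrix.map_mul, hN₀map, hY1]
      calc Mi * E * M * (Mi * E * M) = Mi * E * (M * Mi) * E * M := by simp only [Matrix.mul_assoc]
        _ = Mi * (E * E) * M := by rw [hMMi, Matrix.mul_one]; simp only [Matrix.mul_assoc]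
        _ = (0 : Matrix (Fin (m + m)) (Fin (m + m)) F₀).map ι := by
            rw [hEE, Matrix.mul_zero, Matrix.zero_mul]
            ext i j
            simp
    let Mu : GL (Fin (m + m)) F := ⟨M, Mi, hMMi, hMiM⟩
    have hMconj : (Mu : Matrix (Fin (m + m)) (Fin (m + m)) F) * N₀.map ι =
        (EE F₀ m).map ι * (Mu : Matrix (Fin (m + m)) (Fin (m + m)) F) := by
      show M * N₀.map ι = (EE F₀ m).map ι * M
      rw [EE_map, hN₀map, hY1, ← Matrix.mul_assoc, ← Matrix.mul_assoc, hMMi, Matrix.one_mul]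
    obtain ⟨M₀, hM₀⟩ := conj_descent ι N₀ (EE F₀ m) ⟨2, by rw [pow_two, hN₀sq]⟩
      ⟨2, by rw [pow_two, EE_mul_EE]⟩ Mu hMconj
    have hM₀map : (M₀ : Matrix (Fin (m + m)) (Fin (m + m)) F₀).map ι * (Y - 1) =
        E * (M₀ : Matrix (Fin (m + m)) (Fin (m + m)) F₀).map ι := by
      rw [← hN₀map, ← Matrix.map_mul, hM₀, Matrix.map_mul, EE_map]
    set c' : Matrix (Fin (m + m)) (Fin (m + m)) F :=
      (M₀ : Matrix (Fin (m + m)) (Fin (m + m)) F₀).map ι * Mi with hc'
    have hc'comm : c' * E = E * c' := by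
      have h1 : Mi * E = (Y - 1) * Mi := by
        rw [hY1]
        calc Mi * E = Mi * E * (M * Mi) := by rw [hMMi, Matrix.mul_one]
          _ = Mi * E * M * Mi := by simp only [Matrix.mul_assoc]
      rw [hc', Matrix.mul_assoc, h1, ← Matrix.mul_assoc, hM₀map, Matrix.mul_assoc]
    obtain ⟨a, ha⟩ := det_of_comm c' hc'comm
    have hc'det : c'.det = ι (M₀ : Matrix (Fin (m + m)) (Fin (m + m)) F₀).det * ν := by
      rw [hc', Matrix.det_mul, hMi, Matrix.det_mul, hPidet, hDdet, one_mul,
        ← RingHom.mapMatrix_apply, ← RingHom.map_det]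
    obtain ⟨s, hs⟩ := hsq (M₀ : Matrix (Fin (m + m)) (Fin (m + m)) F₀).det
    have hs0 : s ≠ 0 := by
      rintro rfl
      rw [mul_zero] at hs
      have hM₀det : (M₀ : Matrix (Fin (m + m)) (Fin (m + m)) F₀).det ≠ 0 :=
        ((Matrix.isUnit_iff_isUnit_det _).mp M₀.isUnit).ne_zero
      apply hM₀det
      exact_mod_cast hs
    apply hν
    refine ⟨a / s, ?_⟩
    have h1 : s * s * ν = a * a := by
      rw [← ha, hc'det]
      congr 1
      exact hs.symm
    field_simp
    linear_combination h1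

end Cfsg.Agent.Lib.Helper9.SubfieldE
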