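import Mathlib
import Cfsg.Agent.Lib.Helper9.SubfieldA
import Cfsg.Agent.Lib.Helper9.SubfieldD
import Cfsg.Agent.Lib.Helper15.SylowLarge

set_option autoImplicit false
open scoped MatrixGroups

namespace Cfsg.Agent.Lib.Helper9.SubfieldG
open Matrix Cfsg.Agent.Lib.Helper9.SubfieldA Cfsg.Agent.Lib.Helper9.SubfieldD

theorem factor_odd (q₀ k n i : ℕ) (hq₀ : Odd q₀) (hk : Odd k) (hi : i < n) :
    ∃ c : ℕ, Odd c ∧ (q₀ ^ k) ^ n - (q₀ ^ k) ^ i = (q₀ ^ n - q₀ ^ i) * c := by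
  obtain ⟨S, hS, hSeq⟩ := odd_geom (q₀ ^ (n - i)) k hq₀.pow hk
  have hk1 : 1 ≤ k := hk.pos
  refine ⟨q₀ ^ ((k - 1) * i) * S, (hq₀.pow).mul hS, ?_⟩
  have h1 : (q₀ ^ k) ^ n = (q₀ ^ k) ^ i * (q₀ ^ (n - i)) ^ k := by
    rw [← pow_mul, ← pow_mul, ← pow_mul, ← pow_add]
    congr 1
    have : n = i + (n - i) := by omega
    nth_rewrite 1 [this]
    ring
  have h2 : q₀ ^ n = q₀ ^ i * q₀ ^ (n - i) := by
    rw [← pow_add]
    congr 1
    omega
  have h3 : (q₀ ^ k) ^ i = q₀ ^ i * q₀ ^ ((k - 1) * i) := by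
    rw [← pow_mul, ← pow_add]
    congr 1
    have : k = 1 + (k - 1) := by omega
    nth_rewrite 1 [this]
    ring
  have h4 : (q₀ ^ k) ^ n - (q₀ ^ k) ^ i = (q₀ ^ k) ^ i * ((q₀ ^ (n - i)) ^ k - 1) := by
    rw [h1, Nat.mul_sub, mul_one]
  have h5 : q₀ ^ n - q₀ ^ i = q₀ ^ i * (q₀ ^ (n - i) - 1) := by
    rw [h2, Nat.mul_sub, mul_one]
  rw [h4, h5, hSeq, h3]
  ring

variable {F : Type*} [Field F] [Fintype F]

/-- for `k` odd and `q` odd the subfield subgroup has odd index -/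
theorem index_odd (F₀ : Subfield F) (k q₀ : ℕ) (hF₀ : Nat.card F₀ = q₀)
    (hq : Fintype.card F = q₀ ^ k) (hodd : Odd (Fintype.card F)) (hk : Odd k) (n : ℕ) (hn : 1 ≤ n) :
    Odd (HH F₀ n).index := by
  classical
  have : Fintype F₀ := Fintype.ofFinite F₀
  have hcard₀ : Fintype.card F₀ = q₀ := by rw [← Nat.card_eq_fintype_card, hF₀]
  have hq₀ : Odd q₀ := by
    rw [hq] at hodd
    exact (Nat.odd_pow_iff hk.pos.ne').mp hodd
  have hq₀1 : 1 < q₀ := by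
    rw [← hcard₀]
    exact Fintype.one_lt_card
  -- GL orders
  have hGL : Nat.card (GL (Fin n) F) = ∏ i : Fin n, ((q₀ ^ k) ^ n - (q₀ ^ k) ^ (i : ℕ)) := by
    rw [Matrix.card_GL_field, hq]
  have hGL₀ : Nat.card (GL (Fin n) F₀) = ∏ i : Fin n, (q₀ ^ n - q₀ ^ (i : ℕ)) := by
    rw [Matrix.card_GL_field, hcard₀]
  have hfac : ∀ i : Fin n, ∃ c : ℕ, Odd c ∧
      (q₀ ^ k) ^ n - (q₀ ^ k) ^ (i : ℕ) = (q₀ ^ n - q₀ ^ (i : ℕ)) * c :=
    fun i => factor_odd q₀ k n i hq₀ hk i.2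
  choose c hcodd hceq using hfac
  have hR : Nat.card (GL (Fin n) F) = Nat.card (GL (Fin n) F₀) * ∏ i : Fin n, c i := by
    rw [hGL, hGL₀, ← Finset.prod_mul_distrib]
    exact Finset.prod_congr rfl (fun i _ => hceq i)
  have hRodd : Odd (∏ i : Fin n, c i) :=
    Finset.prod_induction _ Odd (fun _ _ => Odd.mul) odd_one (fun i _ => hcodd i)
  obtain ⟨S₁, hS₁, hS₁eq⟩ := odd_geom q₀ k hq₀ hk
  have hSL := Cfsg.Agent.Lib.Helper15.SylowLarge.card_SL_mul (F := F) n hn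
  have hSL₀ := Cfsg.Agent.Lib.Helper15.SylowLarge.card_SL_mul (F := F₀) n hn
  rw [hq, hS₁eq] at hSL
  rw [hcard₀] at hSL₀
  -- |SL(F)| * S₁ = |SL(F₀)| * R
  have h1 : Nat.card (Matrix.SpecialLinearGroup (Fin n) F) * S₁ =
      Nat.card (Matrix.SpecialLinearGroup (Fin n) F₀) * ∏ i : Fin n, c i := by
    have h2 : (q₀ - 1) * (Nat.card (Matrix.SpecialLinearGroup (Fin n) F) * S₁) =
        (q₀ - 1) * (Nat.card (Matrix.SpecialLinearGroup (Fin n) F₀) * ∏ i : Fin n, c i) := by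
      calc (q₀ - 1) * (Nat.card (Matrix.SpecialLinearGroup (Fin n) F) * S₁)
          = Nat.card (Matrix.SpecialLinearGroup (Fin n) F) * ((q₀ - 1) * S₁) := by ring
        _ = Nat.card (GL (Fin n) F) := hSL
        _ = Nat.card (GL (Fin n) F₀) * ∏ i : Fin n, c i := hR
        _ = (Nat.card (Matrix.SpecialLinearGroup (Fin n) F₀) * (q₀ - 1)) * ∏ i : Fin n, c i := by
            rw [hSL₀]
        _ = _ := by ring
    exact Nat.eq_of_mul_eq_mul_left (by omega) h2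
  -- SL(F₀) embeds in HH
  let φ : Matrix.SpecialLinearGroup (Fin n) F₀ →* Matrix.SpecialLinearGroup (Fin n) F :=
    Matrix.SpecialLinearGroup.map (F₀.subtype : F₀ →+* F)
  have hφmem : ∀ A, φ A ∈ HH F₀ n := by
    intro A
    rw [Subgroup.mem_comap, mem_subfield_iff]
    refine ⟨Matrix.SpecialLinearGroup.toGL A, 1, ?_⟩
    rw [Units.val_one, one_smul]
    rfl
  let ψ : Matrix.SpecialLinearGroup (Fin n) F₀ →* HH F₀ n := φ.codRestrict (HH F₀ n) hφmem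
  have hψinj : Function.Injective ψ := by
    intro A B hAB
    have h2 : φ A = φ B := congrArg Subtype.val hAB
    apply Subtype.ext
    have h3 : (φ A : Matrix (Fin n) (Fin n) F) = (φ B : Matrix (Fin n) (Fin n) F) := by rw [h2]
    ext i j
    have h4 := congrFun (congrFun h3 i) j
    exact h4
  have hdvd : Nat.card (Matrix.SpecialLinearGroup (Fin n) F₀) ∣ Nat.card (HH F₀ n) :=
    Subgroup.card_dvd_of_injective ψ hψinj
  obtain ⟨e, he⟩ := hdvd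
  have hidx := Subgroup.card_mul_index (HH F₀ n)
  have hpos : 0 < Nat.card (Matrix.SpecialLinearGroup (Fin n) F₀) := Nat.card_pos
  have h3 : e * (HH F₀ n).index * S₁ = ∏ i : Fin n, c i := by
    apply Nat.eq_of_mul_eq_mul_left hpos
    rw [← h1, ← hidx, he]
    ring
  rw [← h3] at hRodd
  exact (Nat.odd_mul.mp (Nat.odd_mul.mp hRodd).1).2

end Cfsg.Agent.Lib.Helper9.SubfieldG
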