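import Mathlib

/-!
Sylow subgroups of a group with a normal subgroup of prime index `p` that is "good" for `p`
(Sylow `p`-subgroups self-normalising, each acting transitively on the Sylow `p`-subgroups opposite
to it) pairwise meet non-trivially (helper9).
-/

set_option autoImplicit false

namespace Cfsg.Agent.Lib.Helper9.SylMeet

open scoped Pointwise

variable {S : Type*} [Group S]

theorem mem_conj {K : Subgroup S} {s y : S} : y ∈ MulAut.conj s • K ↔ s⁻¹ * y * s ∈ K := by
  rw [Subgroup.mem_pointwise_smul_iff_inv_smul_mem, MulAut.smul_def, ← map_inv, MulAut.conj_apply,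
    inv_inv]

theorem conj_mul_smul (a b : S) (K : Subgroup S) :
    MulAut.conj (a * b) • K = MulAut.conj a • MulAut.conj b • K := by
  rw [map_mul, mul_smul]

/-- Subgroups of Sylow order are self-normalising, and each acts transitively (by conjugation) on
those meeting it trivially. -/
def Good (p : ℕ) (S : Type*) [Group S] : Prop :=
  ∀ P Q Q' : Subgroup S, Nat.card P = p ^ (Nat.card S).factorization p →
    Nat.card Q = p ^ (Nat.card S).factorization p → Nat.card Q' = p ^ (Nat.card S).factorization p →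
    (Subgroup.normalizer (P : Set S) ≤ P) ∧
    (P ⊓ Q = ⊥ → P ⊓ Q' = ⊥ → ∃ u ∈ P, Q' = MulAut.conj u • Q)

theorem good_of [Finite S] (p : ℕ) [Fact p.Prime] (U₀ : Sylow p S)
    (hN : Subgroup.normalizer ((U₀ : Subgroup S) : Set S) ≤ U₀)
    (L : Subgroup S) (hL : Nat.card L = Nat.card U₀)
    (hLU : ∀ g : S, (∀ u ∈ U₀, g⁻¹ * u * g ∈ L → u = 1) → ∃ u ∈ U₀, ∃ l ∈ L, g = u * l) :
    Good p S := by
  intro P Q Q' hP hQ hQ'
  have hLc : Nat.card L = p ^ (Nat.card S).factorization p := hL.trans U₀.card_eq_multiplicity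
  -- every subgroup of Sylow order is a conjugate of `U₀`, and of `L`
  have conjU : ∀ R : Subgroup S, Nat.card R = p ^ (Nat.card S).factorization p →
      ∃ s : S, R = MulAut.conj s • (U₀ : Subgroup S) := by
    intro R hR
    obtain ⟨s, hs⟩ := MulAction.exists_smul_eq S U₀ (Sylow.ofCard R hR)
    refine ⟨s, ?_⟩
    have := congrArg (fun X : Sylow p S => (X : Subgroup S)) hs
    simp only [Sylow.coe_subgroup_smul, Sylow.coe_ofCard] at this
    exact this.symm
  have conjL : ∀ R : Subgroup S, Nat.card R = p ^ (Nat.card S).factorization p →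
      ∃ s : S, R = MulAut.conj s • L := by
    intro R hR
    obtain ⟨s, hs⟩ := MulAction.exists_smul_eq S (Sylow.ofCard L hLc) (Sylow.ofCard R hR)
    refine ⟨s, ?_⟩
    have := congrArg (fun X : Sylow p S => (X : Subgroup S)) hs
    simp only [Sylow.coe_subgroup_smul, Sylow.coe_ofCard] at this
    exact this.symm
  obtain ⟨s, hs⟩ := conjU P hP
  constructor
  · intro x hx
    rw [Subgroup.mem_normalizer_iff] at hx
    rw [hs, mem_conj]
    apply hN
    rw [Subgroup.mem_normalizer_iff]
    intro z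
    have h1 : z ∈ (U₀ : Subgroup S) ↔ s * z * s⁻¹ ∈ P := by
      rw [hs, mem_conj]
      have : s⁻¹ * (s * z * s⁻¹) * s = z := by group
      rw [this]
    have h2 : s⁻¹ * x * s * z * (s⁻¹ * x * s)⁻¹ ∈ (U₀ : Subgroup S) ↔
        x * (s * z * s⁻¹) * x⁻¹ ∈ P := by
      rw [hs, mem_conj]
      have : s⁻¹ * (x * (s * z * s⁻¹) * x⁻¹) * s = s⁻¹ * x * s * z * (s⁻¹ * x * s)⁻¹ := by group
      rw [this]
    rw [h1, h2]
    exact hx _
  · -- each `R` of Sylow order opposite to `P` is `conj (s * u) • L` with `u ∈ U₀`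
    have key : ∀ R : Subgroup S, Nat.card R = p ^ (Nat.card S).factorization p → P ⊓ R = ⊥ →
        ∃ u ∈ U₀, R = MulAut.conj (s * u) • L := by
      intro R hR hPR
      obtain ⟨g, hg⟩ := conjL R hR
      obtain ⟨u, hu, l, hl, hgul⟩ := hLU (s⁻¹ * g) (by
        intro u hu hul
        have h1 : s * u * s⁻¹ ∈ P := by
          rw [hs, mem_conj]
          have : s⁻¹ * (s * u * s⁻¹) * s = u := by group
          rw [this]
          exact hu
        have h2 : s * u * s⁻¹ ∈ R := by
          rw [hg, mem_conj]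
          have : g⁻¹ * (s * u * s⁻¹) * g = (s⁻¹ * g)⁻¹ * u * (s⁻¹ * g) := by group
          rw [this]
          exact hul
        have h3 : s * u * s⁻¹ ∈ P ⊓ R := ⟨h1, h2⟩
        rw [hPR, Subgroup.mem_bot] at h3
        have : u = s⁻¹ * (s * u * s⁻¹) * s := by group
        rw [this, h3]
        group)
      refine ⟨u, hu, ?_⟩
      have hg' : g = s * u * l := by
        rw [mul_assoc, ← hgul]
        group
      rw [hg, hg', conj_mul_smul (s * u) l, Subgroup.conj_smul_eq_self_of_mem hl]
    intro hPQ hPQ'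
    obtain ⟨u₁, hu₁, hQ1⟩ := key Q hQ hPQ
    obtain ⟨u₂, hu₂, hQ2⟩ := key Q' hQ' hPQ'
    refine ⟨s * u₂ * u₁⁻¹ * s⁻¹, ?_, ?_⟩
    · rw [hs, mem_conj]
      have : s⁻¹ * (s * u₂ * u₁⁻¹ * s⁻¹) * s = u₂ * u₁⁻¹ := by group
      rw [this]
      exact Subgroup.mul_mem _ hu₂ (Subgroup.inv_mem _ hu₁)
    · rw [hQ1, hQ2, ← conj_mul_smul]
      congr 2
      group

variable {G : Type*} [Group G] [Finite G]

theorem card_facts (p : ℕ) [Fact p.Prime] (N : Subgroup G) [N.Normal] (hidx : N.index = p)
    (K : Sylow p G) :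
    N.relIndex K = p ∧ Nat.card (N ⊓ (K : Subgroup G) : Subgroup G) = p ^ (Nat.card N).factorization p ∧
      Nat.card (N ⊓ (K : Subgroup G) : Subgroup G) * p = Nat.card K := by
  have hp : p.Prime := Fact.out
  have hG : Nat.card G = Nat.card N * p := by
    rw [← hidx]
    exact (Subgroup.card_mul_index N).symm
  have hv : (Nat.card G).factorization p = (Nat.card N).factorization p + 1 := by
    rw [hG, Nat.factorization_mul Nat.card_pos.ne' hp.ne_zero, Finsupp.add_apply,
      hp.factorization_self]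
  have hK : Nat.card K = p ^ ((Nat.card N).factorization p + 1) := by
    rw [← hv]
    exact K.card_eq_multiplicity
  have hrel : N.relIndex K ∣ p := by
    have := Subgroup.relIndex_dvd_index_of_normal N (K : Subgroup G)
    rwa [hidx] at this
  have hmul : Nat.card (N ⊓ (K : Subgroup G) : Subgroup G) * N.relIndex K = Nat.card K := by
    have := Subgroup.relIndex_inf_mul_relIndex (⊥ : Subgroup G) N (K : Subgroup G)
    rwa [Subgroup.relIndex_bot_left, bot_inf_eq, Subgroup.relIndex_bot_left] at this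
  rcases (Nat.dvd_prime hp).mp hrel with h1 | h1
  · exfalso
    rw [h1, mul_one] at hmul
    have hdvd : Nat.card (N ⊓ (K : Subgroup G) : Subgroup G) ∣ Nat.card N :=
      Subgroup.card_dvd_of_le inf_le_left
    rw [hmul, hK] at hdvd
    exact Nat.pow_succ_factorization_not_dvd Nat.card_pos.ne' hp hdvd
  · refine ⟨h1, ?_, ?_⟩
    · rw [h1, hK, pow_succ] at hmul
      exact Nat.eq_of_mul_eq_mul_right hp.pos hmul
    · rw [h1] at hmul
      exact hmul


omit [Finite G] in
theorem comap_card {S : Type*} [Group S] (φ : S →* G) (hφ : Function.Injective φ)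
    (A : Subgroup G) (hA : A ≤ φ.range) : Nat.card (A.comap φ) = Nat.card A := by
  rw [← Subgroup.card_map_of_injective hφ, Subgroup.map_comap_eq_self hA]

omit [Finite G] in
theorem map_conj_smul {S : Type*} [Group S] (φ : S →* G) (u : S) (A : Subgroup S) :
    (MulAut.conj u • A).map φ = MulAut.conj (φ u) • A.map φ := by
  ext z
  rw [mem_conj, Subgroup.mem_map, Subgroup.mem_map]
  constructor
  · rintro ⟨w, hw, rfl⟩
    refine ⟨u⁻¹ * w * u, mem_conj.mp hw, ?_⟩
    rw [map_mul, map_mul, map_inv]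
  · rintro ⟨w, hw, hwz⟩
    refine ⟨u * w * u⁻¹, ?_, ?_⟩
    · rw [mem_conj]
      have : u⁻¹ * (u * w * u⁻¹) * u = w := by group
      rw [this]
      exact hw
    · rw [map_mul, map_mul, map_inv, hwz]
      group

/-- If `N ◁ G` has prime index `p`, `N` is (the image of) a group `S` that is `Good` for `p`, then
any two Sylow `p`-subgroups of `G` meet non-trivially. -/
theorem main {S : Type*} [Group S] (p : ℕ) [Fact p.Prime]
    (φ : S →* G) (hφ : Function.Injective φ) [hN : φ.range.Normal] (hidx : φ.range.index = p)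
    (hgood : Good p S) (H : Sylow p G) (x : G) :
    (H : Subgroup G) ⊓ MulAut.conj x • (H : Subgroup G) ≠ ⊥ := by
  have hp : p.Prime := Fact.out
  intro hbot
  obtain ⟨N, hNdef⟩ : ∃ N : Subgroup G, N = φ.range := ⟨_, rfl⟩
  have : N.Normal := by rw [hNdef]; exact hN
  have hidx' : N.index = p := by rw [hNdef]; exact hidx
  have hcardN : Nat.card N = Nat.card S := by
    rw [hNdef]
    exact (Nat.card_congr (MonoidHom.ofInjective hφ).toEquiv).symm
  -- the three Sylow subgroups
  obtain ⟨H', hH'⟩ : ∃ H' : Sylow p G, H' = x • H := ⟨_, rfl⟩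
  have hH'c : (H' : Subgroup G) = MulAut.conj x • (H : Subgroup G) := by
    rw [hH', Sylow.coe_subgroup_smul]
  rw [← hH'c] at hbot
  obtain ⟨hrelH, hcP, hcP'⟩ := card_facts p N hidx' H
  obtain ⟨hrelH', hcQ, hcQ'⟩ := card_facts p N hidx' H'
  -- an element of `H` outside `N`
  obtain ⟨t, htH, htN⟩ : ∃ t, t ∈ (H : Subgroup G) ∧ t ∉ N := by
    have : ¬ (H : Subgroup G) ≤ N := by
      intro hle
      have := Subgroup.relIndex_eq_one.mpr hle
      rw [hrelH] at this
      exact hp.one_lt.ne' this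
    exact SetLike.not_le_iff_exists.mp this
  obtain ⟨H'', hH''⟩ : ∃ H'' : Sylow p G, H'' = t • H' := ⟨_, rfl⟩
  have hH''c : (H'' : Subgroup G) = MulAut.conj t • (H' : Subgroup G) := by
    rw [hH'', Sylow.coe_subgroup_smul]
  obtain ⟨-, hcQ2, -⟩ := card_facts p N hidx' H''
  -- the subgroups of `N`
  obtain ⟨P, hP⟩ : ∃ P : Subgroup G, P = N ⊓ (H : Subgroup G) := ⟨_, rfl⟩
  obtain ⟨Q, hQ⟩ : ∃ Q : Subgroup G, Q = N ⊓ (H' : Subgroup G) := ⟨_, rfl⟩
  obtain ⟨Q', hQ'⟩ : ∃ Q' : Subgroup G, Q' = N ⊓ (H'' : Subgroup G) := ⟨_, rfl⟩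
  have hQ'conj : Q' = MulAut.conj t • Q := by
    rw [hQ', hQ, Subgroup.smul_inf, Subgroup.Normal.conj_smul_eq_self, hH''c]
  have hPconj : MulAut.conj t • P = P := by
    rw [hP, Subgroup.smul_inf, Subgroup.Normal.conj_smul_eq_self, Subgroup.conj_smul_eq_self_of_mem htH]
  have hPQ : P ⊓ Q = ⊥ := by
    rw [eq_bot_iff, ← hbot, hP, hQ]
    exact inf_le_inf inf_le_right inf_le_right
  have hPQ' : P ⊓ Q' = ⊥ := by
    rw [hQ'conj]
    nth_rewrite 1 [← hPconj]
    rw [← Subgroup.smul_inf, hPQ, Subgroup.smul_bot]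
  have hPle : P ≤ φ.range := by rw [hP, ← hNdef]; exact inf_le_left
  have hQle : Q ≤ φ.range := by rw [hQ, ← hNdef]; exact inf_le_left
  have hQ'le : Q' ≤ φ.range := by rw [hQ', ← hNdef]; exact inf_le_left
  have hc : ∀ A : Subgroup G, A ≤ φ.range → Nat.card A = p ^ (Nat.card N).factorization p →
      Nat.card (A.comap φ) = p ^ (Nat.card S).factorization p := by
    intro A hA hcA
    rw [comap_card φ hφ A hA, hcA, hcardN]
  obtain ⟨hnorm, htrans⟩ := hgood (P.comap φ) (Q.comap φ) (Q'.comap φ)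
    (hc P hPle (by rw [hP]; exact hcP)) (hc Q hQle (by rw [hQ]; exact hcQ))
    (hc Q' hQ'le (by rw [hQ']; exact hcQ2))
  have hker : (⊥ : Subgroup G).comap φ = ⊥ := by
    exact (MonoidHom.ker_eq_bot_iff φ).mpr hφ
  obtain ⟨ũ, hũ, hũQ⟩ := htrans (by rw [← Subgroup.comap_inf, hPQ, hker])
    (by rw [← Subgroup.comap_inf, hPQ', hker])
  obtain ⟨u, hu⟩ : ∃ u : G, u = φ ũ := ⟨_, rfl⟩
  have huP : u ∈ P := by rw [hu]; exact hũ
  have hQ'u : Q' = MulAut.conj u • Q := by
    have := congrArg (Subgroup.map φ) hũQ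
    rwa [map_conj_smul, Subgroup.map_comap_eq_self hQ'le, Subgroup.map_comap_eq_self hQle, ← hu]
      at this
  -- the element `s`
  obtain ⟨s, hs⟩ : ∃ s : G, s = u⁻¹ * t := ⟨_, rfl⟩
  have huH : u ∈ (H : Subgroup G) := by
    have := huP
    rw [hP] at this
    exact this.2
  have huN : u ∈ N := by
    have := huP
    rw [hP] at this
    exact this.1
  have hsH : s ∈ (H : Subgroup G) := by
    rw [hs]
    exact Subgroup.mul_mem _ (Subgroup.inv_mem _ huH) htH
  have hsN : s ∉ N := by
    intro h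
    apply htN
    have : t = u * s := by rw [hs]; group
    rw [this]
    exact Subgroup.mul_mem _ huN h
  have hsQ : MulAut.conj s • Q = Q := by
    rw [hs, conj_mul_smul, ← hQ'conj, hQ'u, ← conj_mul_smul, inv_mul_cancel, map_one, one_smul]
  -- `s` lies in `H'`
  have hsH' : s ∈ (H' : Subgroup G) := by
    obtain ⟨M, hM⟩ : ∃ M : Subgroup G, M = Subgroup.normalizer (Q : Set G) := ⟨_, rfl⟩
    have hsM : s ∈ M := by
      rw [hM, Subgroup.mem_normalizer_iff]
      intro y
      nth_rewrite 2 [← hsQ]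
      rw [mem_conj]
      have : s⁻¹ * (s * y * s⁻¹) * s = y := by group
      rw [this]
    have hH'M : (H' : Subgroup G) ≤ M := by
      intro y hy
      rw [hM, Subgroup.mem_normalizer_iff]
      intro z
      have hyQ : MulAut.conj y • Q = Q := by
        rw [hQ, Subgroup.smul_inf, Subgroup.Normal.conj_smul_eq_self, Subgroup.conj_smul_eq_self_of_mem hy]
      nth_rewrite 2 [← hyQ]
      rw [mem_conj]
      have : y⁻¹ * (y * z * y⁻¹) * y = z := by group
      rw [this]
    have hNM : N ⊓ M ≤ Q := by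
      intro y hy
      obtain ⟨y', hy'⟩ : ∃ y', φ y' = y := by
        have : y ∈ N := hy.1
        rw [hNdef] at this
        exact this
      have hyM : y ∈ M := hy.2
      rw [hM, Subgroup.mem_normalizer_iff] at hyM
      have hnormQ := (hgood (Q.comap φ) (Q.comap φ) (Q.comap φ)
        (hc Q hQle (by rw [hQ]; exact hcQ)) (hc Q hQle (by rw [hQ]; exact hcQ))
        (hc Q hQle (by rw [hQ]; exact hcQ))).1
      have : y' ∈ Q.comap φ := by
        apply hnormQ
        rw [Subgroup.mem_normalizer_iff]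
        intro z
        rw [Subgroup.mem_comap, Subgroup.mem_comap, map_mul, map_mul, map_inv, hy']
        exact hyM (φ z)
      rw [← hy']
      exact this
    have hrelM : N.relIndex M ∣ p := by
      have := Subgroup.relIndex_dvd_index_of_normal N M
      rwa [hidx'] at this
    have hmulM : Nat.card (N ⊓ M : Subgroup G) * N.relIndex M = Nat.card M := by
      have := Subgroup.relIndex_inf_mul_relIndex (⊥ : Subgroup G) N M
      rwa [Subgroup.relIndex_bot_left, bot_inf_eq, Subgroup.relIndex_bot_left] at this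
    have hcardM : Nat.card M ≤ Nat.card (H' : Subgroup G) := by
      rw [← hmulM, ← hcQ', ← hQ]
      exact Nat.mul_le_mul (Subgroup.card_le_of_le hNM) (Nat.le_of_dvd hp.pos hrelM)
    have := Subgroup.eq_of_le_of_card_ge hH'M hcardM
    rw [this]
    exact hsM
  have : s ∈ (H : Subgroup G) ⊓ (H' : Subgroup G) := ⟨hsH, hsH'⟩
  rw [hbot, Subgroup.mem_bot] at this
  apply hsN
  rw [this]
  exact Subgroup.one_mem _

end Cfsg.Agent.Lib.Helper9.SylMeet
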