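import Mathlib

set_option autoImplicit false

namespace Cfsg.Agent.Lib.Helper9.Sym8

abbrev P8 := Equiv.Perm (Fin 8)

def mF : Fin 8 → Fin 8 := ![1,0,3,2,5,4,7,6]
theorem mF_invol : Function.Involutive mF := by
  show ∀ i, mF (mF i) = i
  decide
def m : P8 := Function.Involutive.toPerm mF mF_invol
theorem m_apply (i : Fin 8) : m i = mF i := rfl
def eF : Fin 8 → Fin 4 := ![0,0,1,1,2,2,3,3]
def rep : Fin 4 → Fin 8 := ![0,2,4,6]
def hb : Fin 4 → Fin 2 := ![0,0,1,1]
def blk (i : Fin 8) : Fin 2 := hb (eF i)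

theorem eF_rep : ∀ e, eF (rep e) = e := by decide
theorem eq_rep_or : ∀ i, i = rep (eF i) ∨ i = mF (rep (eF i)) := by decide
theorem eF_mF : ∀ i, eF (mF i) = eF i := by decide
theorem eF_eq : ∀ i j, eF i = eF j → j = i ∨ j = mF i := by decide
theorem mF_ne : ∀ i, mF i ≠ i := by decide

theorem fin4_cover : ∀ e0 e1 e2 e3 e : Fin 4, e0 ≠ e1 → e0 ≠ e2 → e0 ≠ e3 → e1 ≠ e2 → e1 ≠ e3 → e2 ≠ e3 →
    e = e0 ∨ e = e1 ∨ e = e2 ∨ e = e3 := by decide
theorem fin4_fourth : ∀ e0 e1 e2 : Fin 4, ∃ e, e ≠ e0 ∧ e ≠ e1 ∧ e ≠ e2 := by decide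

set_option maxRecDepth 100000 in
theorem F4a : ∀ f : Fin 4 → Fin 4, Function.Injective f →
    (∀ e e', hb (f e) = hb (f e') ↔ hb e = hb e') → ∀ e, f (f (f (f e))) = e := by decide

set_option maxRecDepth 100000 in
theorem F4b : ∀ f : Fin 4 → Fin 4, (∀ e, f (f e) = e) → (∀ e, f e ≠ e) →
    ∀ e e', hb (f e) = hb (f e') ↔ hb e = hb e' := by decide


theorem m_mul_m : m * m = 1 := by
  ext i; simp only [Equiv.Perm.coe_mul, Function.comp_apply, m_apply, Equiv.Perm.coe_one, id_eq]
  rw [mF_invol i]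

theorem m_m_apply (i : Fin 8) : m (m i) = i := by
  rw [m_apply, m_apply, mF_invol i]

theorem m_ne (i : Fin 8) : m i ≠ i := by rw [m_apply]; exact mF_ne i

theorem eF_m (i : Fin 8) : eF (m i) = eF i := by rw [m_apply]; exact eF_mF i

theorem eF_eq' {i j : Fin 8} (h : eF i = eF j) : j = i ∨ j = m i := by
  rw [m_apply]; exact eF_eq i j h

theorem comm_apply {g : P8} (h : g * m = m * g) (i : Fin 8) : g (m i) = m (g i) := by
  have := congrArg (fun f : P8 => f i) h
  simpa using this

/-- the 2-subgroup of `Sym 8` stabilising the standard matching and the two halves -/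
def H0 : Subgroup P8 where
  carrier := {g | g * m = m * g ∧ ∀ i j, blk (g i) = blk (g j) ↔ blk i = blk j}
  one_mem' := by
    refine ⟨by simp, ?_⟩
    intro i j; simp
  mul_mem' := by
    rintro g h ⟨hg1, hg2⟩ ⟨hh1, hh2⟩
    refine ⟨?_, ?_⟩
    · rw [mul_assoc, hh1, ← mul_assoc, hg1, mul_assoc]
    · intro i j
      rw [Equiv.Perm.mul_apply, Equiv.Perm.mul_apply, hg2, hh2]
  inv_mem' := by
    rintro g ⟨hg1, hg2⟩
    refine ⟨?_, ?_⟩
    · have : m * g⁻¹ = g⁻¹ * (g * m) * g⁻¹ := by group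
      rw [this, hg1]; group
    · intro i j
      have e1 : ∀ i, g (g⁻¹ i) = i := fun i => by
        rw [← Equiv.Perm.mul_apply, mul_inv_cancel, Equiv.Perm.one_apply]
      have := hg2 (g⁻¹ i) (g⁻¹ j)
      rw [e1, e1] at this
      exact this.symm

theorem mem_H0 {g : P8} : g ∈ H0 ↔
    g * m = m * g ∧ ∀ i j, blk (g i) = blk (g j) ↔ blk i = blk j := Iff.rfl

/-- the action on edges of a permutation commuting with `m` -/
def bar (g : P8) (e : Fin 4) : Fin 4 := eF (g (rep e))

theorem bar_spec {g : P8} (hg : g * m = m * g) (i : Fin 8) : eF (g i) = bar g (eF i) := by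
  rcases eq_rep_or i with h | h
  · unfold bar; rw [← h]
  · unfold bar
    have : g i = m (g (rep (eF i))) := by
      conv_lhs => rw [h]
      rw [← m_apply, comm_apply hg]
    rw [this, eF_m]

theorem bar_mul {g h : P8} (hg : g * m = m * g) (e : Fin 4) :
    bar (g * h) e = bar g (bar h e) := by
  unfold bar
  rw [Equiv.Perm.mul_apply, bar_spec hg]
  rfl

theorem bar_one (e : Fin 4) : bar 1 e = e := by
  unfold bar; simp [eF_rep]

theorem bar_inj {g : P8} (hg : g * m = m * g) : Function.Injective (bar g) := by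
  intro e e' h
  unfold bar at h
  rcases eF_eq' h with h1 | h1
  · have := g.injective h1
    have h2 := congrArg eF this
    rw [eF_rep, eF_rep] at h2
    exact h2.symm
  · rw [← comm_apply hg] at h1
    have := g.injective h1
    have h2 := congrArg eF this
    rw [eF_m, eF_rep, eF_rep] at h2
    exact h2.symm

theorem bar_hb {g : P8} (hg : g ∈ H0) (e e' : Fin 4) :
    hb (bar g e) = hb (bar g e') ↔ hb e = hb e' := by
  have := hg.2 (rep e) (rep e')
  unfold blk at this
  rw [eF_rep, eF_rep] at this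
  exact this

theorem pow_eight_eq_one {g : P8} (hg : g ∈ H0) : g ^ 8 = 1 := by
  have hg1 := hg.1
  set k : P8 := g * g * g * g with hk
  have hkm : k * m = m * k := (H0.mul_mem (H0.mul_mem (H0.mul_mem hg hg) hg) hg).1
  have hbar : ∀ e, bar k e = e := by
    intro e
    have h2 : g * g * m = m * (g * g) := (H0.mul_mem hg hg).1
    have h3 : g * g * g * m = m * (g * g * g) := (H0.mul_mem (H0.mul_mem hg hg) hg).1
    rw [hk, bar_mul h3, bar_mul h2, bar_mul hg1]
    exact F4a (bar g) (bar_inj hg1) (bar_hb hg) e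
  have hk2 : ∀ i, k (k i) = i := by
    intro i
    have h1 : eF (k i) = eF i := by rw [bar_spec hkm, hbar]
    rcases eF_eq' h1.symm with h | h
    · rw [h, h]
    · rw [h, comm_apply hkm, h, m_m_apply]
  have : g ^ 8 = k * k := by rw [hk]; simp only [pow_succ, pow_zero, one_mul, mul_assoc]
  rw [this]
  ext i
  simp [hk2]

theorem isPGroup_H0 : IsPGroup 2 ↥H0 := by
  intro g
  refine ⟨3, ?_⟩
  apply Subtype.ext
  have := pow_eight_eq_one g.2
  simpa using this

/-- fixed-point-free involutions commuting with `m` and sharing no edge with it lie in `H0` -/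
theorem mem_H0_of_invol {y : P8} (hym : y * m = m * y) (hy2 : y * y = 1)
    (hf : ∀ i, y i ≠ i) (hne : ∀ i, y i ≠ m i) : y ∈ H0 := by
  refine ⟨hym, ?_⟩
  intro i j
  unfold blk
  rw [bar_spec hym, bar_spec hym]
  apply F4b (bar y)
  · intro e
    rw [← bar_mul hym, hy2, bar_one]
  · intro e he
    unfold bar at he
    have h1 : eF (y (rep e)) = eF (rep e) := by rw [he, eF_rep]
    rcases eF_eq' h1.symm with h | h
    · exact hf _ h
    · exact hne _ h

theorem swap_mem_H0 (a : Fin 8) : Equiv.swap a (m a) ∈ H0 := by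
  refine ⟨?_, ?_⟩
  · revert a; decide
  · revert a; decide


/-- a fixed-point-free involution sharing no edge with `m` -/
structure Pair (t : P8) : Prop where
  sq : t * t = 1
  fpf : ∀ i, t i ≠ i
  nm : ∀ i, t i ≠ m i

/-- the rotation `m t` of the dihedral group `⟨m, t⟩` -/
def cc (t : P8) : P8 := m * t

theorem cc_apply (t : P8) (i : Fin 8) : cc t i = m (t i) := rfl

namespace Pair

variable {t : P8} (ht : Pair t)
include ht

theorem t_t_apply (i : Fin 8) : t (t i) = i := by
  rw [← Equiv.Perm.mul_apply, ht.sq, Equiv.Perm.one_apply]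

theorem cc_ne (i : Fin 8) : cc t i ≠ i := by
  intro h
  rw [cc_apply] at h
  have := congrArg m h
  rw [m_m_apply] at this
  exact ht.nm i this

theorem t_eq : t = m * cc t := by
  unfold cc; rw [← mul_assoc, m_mul_m, one_mul]

theorem cc_inv : (cc t)⁻¹ = t * m := by
  unfold cc
  rw [inv_eq_iff_mul_eq_one, mul_assoc, ← mul_assoc t, ht.sq, one_mul, m_mul_m]

theorem m_cc_inv : m * (cc t)⁻¹ = cc t * m := by
  rw [ht.cc_inv]; unfold cc; rw [mul_assoc]

theorem t_of_cc {y y' : Fin 8} (h : cc t y = y') : t y = m y' ∧ t (m y') = y := by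
  rw [cc_apply] at h
  refine ⟨?_, ?_⟩
  · rw [← h, m_m_apply]
  · rw [← h, m_m_apply, ht.t_t_apply]

theorem refl_fpf : ∀ n : ℕ, (∀ y, ((cc t) ^ n * m) y ≠ y) ∧ (∀ y, ((cc t) ^ (n + 1) * m) y ≠ y) := by
  intro n
  induction n with
  | zero =>
    refine ⟨?_, ?_⟩
    · intro y; simpa using m_ne y
    · intro y h
      rw [zero_add, pow_one, Equiv.Perm.mul_apply, cc_apply] at h
      have := congrArg m h
      rw [m_m_apply] at this
      exact ht.fpf _ this
  | succ n ih =>
    refine ⟨ih.2, ?_⟩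
    intro y h
    have hconj : (cc t) ^ (n + 1 + 1) * m = cc t * ((cc t) ^ n * m) * (cc t)⁻¹ := by
      rw [mul_assoc (cc t), mul_assoc ((cc t) ^ n), ht.m_cc_inv, ← mul_assoc, ← mul_assoc,
        ← pow_succ', ← pow_succ]
    rw [hconj] at h
    apply ih.1 ((cc t)⁻¹ y)
    have h2 := congrArg (fun z => (cc t)⁻¹ z) h
    simpa using h2

theorem D1 (n : ℕ) (y : Fin 8) : m y ≠ ((cc t) ^ n) y := by
  intro h
  apply (ht.refl_fpf n).1 (m y)
  rw [Equiv.Perm.mul_apply, m_m_apply, ← h]

theorem D2 (n : ℕ) (y : Fin 8) : t y ≠ ((cc t) ^ n) y := by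
  intro h
  cases n with
  | zero => simp at h; exact ht.fpf y h
  | succ n =>
    have h1 : t y = m (cc t y) := (ht.t_of_cc rfl).1
    rw [pow_succ, Equiv.Perm.mul_apply, h1] at h
    exact ht.D1 n _ h

theorem no_period_three (x : Fin 8) (h3 : ((cc t) ^ 3) x = x) : False := by
  set c := cc t with hc
  have hx2 : c (c (c x)) = x := by
    have : (c ^ 3) x = c (c (c x)) := by
      simp only [pow_succ, pow_zero, one_mul, Equiv.Perm.mul_apply]
    rw [← this]; exact h3
  have h01 : eF x ≠ eF (c x) := by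
    intro h
    rcases eF_eq' h with h | h
    · exact ht.cc_ne x h
    · exact ht.D1 1 x (by rw [pow_one]; exact h.symm)
  have h02 : eF x ≠ eF (c (c x)) := by
    intro h
    rcases eF_eq' h with h | h
    · rw [h] at hx2; exact ht.cc_ne x hx2
    · apply ht.D1 2 x
      rw [pow_two, Equiv.Perm.mul_apply]; exact h.symm
  have h12 : eF (c x) ≠ eF (c (c x)) := by
    intro h
    rcases eF_eq' h with h | h
    · exact ht.cc_ne (c x) h
    · exact ht.D1 1 (c x) (by rw [pow_one]; exact h.symm)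
  obtain ⟨es, hs0, hs1, hs2⟩ := fin4_fourth (eF x) (eF (c x)) (eF (c (c x)))
  have hb : eF (rep es) = es := eF_rep es
  have t0 := ht.t_of_cc (y := x) (y' := c x) rfl
  have t1 := ht.t_of_cc (y := c x) (y' := c (c x)) rfl
  have t2 := ht.t_of_cc (y := c (c x)) (y' := x) hx2
  have hcov := fin4_cover (eF x) (eF (c x)) (eF (c (c x))) es (eF (t (rep es)))
    h01 h02 hs0.symm h12 hs1.symm hs2.symm
  -- from `t b = v` deduce `b = t v`
  have back : ∀ v, t (rep es) = v → rep es = t v := by
    intro v hv; rw [← hv, ht.t_t_apply]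
  rcases hcov with h | h | h | h
  · rcases eF_eq' h.symm with h' | h'
    · have := back _ h'
      rw [t0.1] at this
      have := congrArg eF this
      rw [hb, eF_m] at this
      exact hs1 this
    · have := back _ h'
      rw [t2.2] at this
      have := congrArg eF this
      rw [hb] at this
      exact hs2 this
  · rcases eF_eq' h.symm with h' | h'
    · have := back _ h'
      rw [t1.1] at this
      have := congrArg eF this
      rw [hb, eF_m] at this
      exact hs2 this
    · have := back _ h'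
      rw [t0.2] at this
      have := congrArg eF this
      rw [hb] at this
      exact hs0 this
  · rcases eF_eq' h.symm with h' | h'
    · have := back _ h'
      rw [t2.1] at this
      have := congrArg eF this
      rw [hb, eF_m] at this
      exact hs0 this
    · have := back _ h'
      rw [t1.2] at this
      have := congrArg eF this
      rw [hb] at this
      exact hs1 this
  · have h'' : eF (t (rep es)) = eF (rep es) := h.trans hb.symm
    rcases eF_eq' h''.symm with h' | h'
    · exact ht.fpf _ h'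
    · exact ht.nm _ h'

/-- a coincidence of edges along a `c`-orbit gives a period -/
theorem period_of_eF_eq (x : Fin 8) (i d : ℕ) (h : eF (((cc t) ^ i) x) = eF (((cc t) ^ (i + d)) x)) :
    ((cc t) ^ d) x = x := by
  rcases eF_eq' h with h' | h'
  · rw [pow_add, Equiv.Perm.mul_apply] at h'
    exact ((cc t) ^ i).injective h'
  · exfalso
    rw [add_comm, pow_add, Equiv.Perm.mul_apply] at h'
    exact ht.D1 d _ h'.symm

theorem pow_four (x : Fin 8) : ((cc t) ^ 4) x = x := by
  obtain ⟨i, j, hij, he⟩ := Fintype.exists_ne_map_eq_of_card_lt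
    (fun i : Fin 5 => eF (((cc t) ^ (i : ℕ)) x)) (by simp)
  have key : ∀ i j : Fin 5, (i : ℕ) < j → eF (((cc t) ^ (i : ℕ)) x) = eF (((cc t) ^ (j : ℕ)) x) →
      ((cc t) ^ 4) x = x := by
    intro i j hlt he
    obtain ⟨d, hd⟩ := Nat.exists_eq_add_of_lt hlt
    have hj : (j : ℕ) = i + (d + 1) := by omega
    rw [hj] at he
    have hp := ht.period_of_eF_eq x i (d + 1) he
    have hd4 : d + 1 ≤ 4 := by have := j.2; omega
    have hd' : d = 0 ∨ d = 1 ∨ d = 2 ∨ d = 3 := by omega
    rcases hd' with rfl | rfl | rfl | rfl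
    · exfalso; rw [zero_add, pow_one] at hp; exact ht.cc_ne x hp
    · have : (cc t) ^ 4 = (cc t) ^ 2 * (cc t) ^ 2 := by rw [← pow_add]
      rw [this, Equiv.Perm.mul_apply, hp, hp]
    · exact (ht.no_period_three x hp).elim
    · exact hp
  rcases lt_or_gt_of_ne (fun h => hij (Fin.ext h) : (i : ℕ) ≠ j) with h | h
  · exact key i j h he
  · exact key j i h he.symm

theorem pow_four_eq_one : (cc t) ^ 4 = 1 := by
  ext x; rw [ht.pow_four x]; rfl

theorem t_cc_inv : t * (cc t)⁻¹ = cc t * t := by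
  rw [ht.cc_inv]; unfold cc
  rw [← mul_assoc, ht.sq, one_mul, mul_assoc, ht.sq, mul_one]

theorem cc_m_apply (v : Fin 8) : cc t (m v) = m ((cc t)⁻¹ v) := by
  have := congrArg (fun f : P8 => f v) ht.m_cc_inv
  simpa using this.symm

theorem sq_of_sq_m {v : Fin 8} (h : cc t (cc t (m v)) = m v) : cc t (cc t v) = v := by
  rw [ht.cc_m_apply, ht.cc_m_apply] at h
  have h1 : (cc t)⁻¹ ((cc t)⁻¹ v) = v := m.injective h
  have h2 := congrArg (fun z => cc t (cc t z)) h1
  have e1 : ∀ a : Fin 8, cc t ((cc t)⁻¹ a) = a := fun a => by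
    rw [← Equiv.Perm.mul_apply, mul_inv_cancel, Equiv.Perm.one_apply]
  simp only [e1] at h2
  exact h2.symm

theorem dich : (∀ x, cc t (cc t x) = x) ∨ (∀ x, cc t (cc t x) ≠ x) := by
  by_contra hcon
  push Not at hcon
  obtain ⟨⟨y, hy⟩, ⟨x, hx⟩⟩ := hcon
  have hd : ∀ i d : ℕ, 1 ≤ d → i + d ≤ 3 →
      eF (((cc t) ^ i) y) ≠ eF (((cc t) ^ (i + d)) y) := by
    intro i d hd1 hd3 he
    have hp := ht.period_of_eF_eq y i d he
    have : d = 1 ∨ d = 2 ∨ d = 3 := by omega
    rcases this with rfl | rfl | rfl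
    · rw [pow_one] at hp; exact ht.cc_ne y hp
    · rw [pow_two, Equiv.Perm.mul_apply] at hp; exact hy hp
    · exact ht.no_period_three y hp
  have hcov := fin4_cover (eF (((cc t) ^ 0) y)) (eF (((cc t) ^ 1) y)) (eF (((cc t) ^ 2) y))
    (eF (((cc t) ^ 3) y)) (eF x)
    (hd 0 1 (by omega) (by omega)) (hd 0 2 (by omega) (by omega)) (hd 0 3 (by omega) (by omega))
    (hd 1 1 (by omega) (by omega)) (hd 1 2 (by omega) (by omega)) (hd 2 1 (by omega) (by omega))
  have hex : ∃ i : ℕ, eF x = eF (((cc t) ^ i) y) := by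
    rcases hcov with h | h | h | h <;> exact ⟨_, h⟩
  obtain ⟨i, hi⟩ := hex
  have hcomm : ∀ v, ((cc t) ^ i) (cc t (cc t v)) = cc t (cc t (((cc t) ^ i) v)) := by
    intro v
    have : (cc t) ^ i * (cc t) ^ 2 = (cc t) ^ 2 * (cc t) ^ i := pow_mul_comm _ _ _
    have := congrArg (fun f : P8 => f v) this
    simpa [pow_two] using this
  have hfin : cc t (cc t (((cc t) ^ i) y)) = ((cc t) ^ i) y → False := by
    intro h
    rw [← hcomm] at h
    exact hy (((cc t) ^ i).injective h)
  rcases eF_eq' hi.symm with h | h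
  · apply hfin; rw [← h]; exact hx
  · apply hfin
    apply ht.sq_of_sq_m
    rw [← h]; exact hx

end Pair

theorem comm_w_aux {c s : P8} (hs : s * c⁻¹ = c * s) (h4 : c * c * (c * c) = 1) :
    (if c * c = 1 then c else c * c) * s = s * (if c * c = 1 then c else c * c) := by
  split_ifs with h
  · have hinv : c⁻¹ = c := inv_eq_of_mul_eq_one_left h
    rw [hinv] at hs
    exact hs.symm
  · have hinv : c⁻¹ * c⁻¹ = c * c := by
      rw [← mul_inv_rev]; exact inv_eq_of_mul_eq_one_left h4
    calc c * c * s = c * (c * s) := by rw [mul_assoc]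
      _ = c * (s * c⁻¹) := by rw [hs]
      _ = (c * s) * c⁻¹ := by rw [mul_assoc]
      _ = s * c⁻¹ * c⁻¹ := by rw [hs]
      _ = s * (c * c) := by rw [mul_assoc, hinv]

/-- the central involution of the dihedral group `⟨m, t⟩` -/
def ww (t : P8) : P8 := if cc t * cc t = 1 then cc t else cc t * cc t

namespace Pair

variable {t : P8} (ht : Pair t)
include ht

theorem four : cc t * cc t * (cc t * cc t) = 1 := by
  have := ht.pow_four_eq_one
  rw [← this]; simp only [pow_succ, pow_zero, one_mul, mul_assoc]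

theorem ww_sq : ww t * ww t = 1 := by
  unfold ww
  split_ifs with h
  · exact h
  · exact ht.four

theorem ww_m : ww t * m = m * ww t := comm_w_aux ht.m_cc_inv ht.four

theorem ww_t : ww t * t = t * ww t := comm_w_aux ht.t_cc_inv ht.four

theorem ww_fpf (i : Fin 8) : ww t i ≠ i := by
  unfold ww
  split_ifs with h
  · exact ht.cc_ne i
  · rcases ht.dich with h1 | h1
    · exfalso; apply h; apply Equiv.ext; intro x
      show cc t (cc t x) = x
      exact h1 x
    · simpa using h1 i

theorem ww_ne_one : ww t ≠ 1 := by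
  intro h
  apply ht.ww_fpf 0
  rw [h]; rfl

theorem ww_nm (i : Fin 8) : ww t i ≠ m i := by
  unfold ww
  split_ifs with h
  · intro h'; exact ht.D1 1 i (by rw [pow_one]; exact h'.symm)
  · intro h'; exact ht.D1 2 i (by rw [pow_two]; exact h'.symm)

theorem ww_nt (i : Fin 8) : ww t i ≠ t i := by
  unfold ww
  split_ifs with h
  · intro h'; exact ht.D2 1 i (by rw [pow_one]; exact h'.symm)
  · intro h'; exact ht.D2 2 i (by rw [pow_two]; exact h'.symm)

end Pair

/-- any two conjugates of `H0` meet non-trivially -/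
theorem exists_common (z : P8) : ∃ g : P8, g ≠ 1 ∧ g ∈ H0 ∧ z⁻¹ * g * z ∈ H0 := by
  set t : P8 := z * m * z⁻¹ with htdef
  have ht_apply : ∀ i, t i = z (m (z⁻¹ i)) := fun i => rfl
  have htz : ∀ i, t (z i) = z (m i) := by
    intro i; rw [ht_apply]; simp
  by_cases hsh : ∃ a, t a = m a
  · obtain ⟨a, ha⟩ := hsh
    refine ⟨Equiv.swap a (m a), ?_, swap_mem_H0 a, ?_⟩
    · intro h
      have := congrArg (fun f : P8 => f a) h
      simp only [Equiv.swap_apply_left, Equiv.Perm.coe_one, id_eq] at this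
      exact m_ne a this
    · have h1 : z⁻¹ (m a) = m (z⁻¹ a) := by
        rw [ht_apply] at ha
        rw [← ha]; simp
      have h2 : z⁻¹ * Equiv.swap a (m a) * z = Equiv.swap (z⁻¹ a) (z⁻¹ (m a)) := by
        rw [Equiv.swap_apply_apply, inv_inv]
      rw [h2, h1]
      exact swap_mem_H0 _
  · push Not at hsh
    have ht : Pair t := by
      refine ⟨?_, ?_, hsh⟩
      · rw [htdef]
        calc z * m * z⁻¹ * (z * m * z⁻¹) = z * (m * m) * z⁻¹ := by group
          _ = 1 := by rw [m_mul_m]; group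
      · intro i h
        rw [ht_apply] at h
        have := congrArg (fun j => z⁻¹ j) h
        have e1 : ∀ a : Fin 8, z⁻¹ (z a) = a := fun a => by
          rw [← Equiv.Perm.mul_apply, inv_mul_cancel, Equiv.Perm.one_apply]
        simp only [e1] at this
        exact m_ne _ this
    refine ⟨ww t, ht.ww_ne_one, mem_H0_of_invol ht.ww_m ht.ww_sq ht.ww_fpf ht.ww_nm, ?_⟩
    apply mem_H0_of_invol
    · have hmz : m = z⁻¹ * t * z := by rw [htdef]; group
      calc z⁻¹ * ww t * z * m = z⁻¹ * (ww t * t) * z := by rw [hmz]; group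
        _ = z⁻¹ * (t * ww t) * z := by rw [ht.ww_t]
        _ = m * (z⁻¹ * ww t * z) := by rw [hmz]; group
    · calc z⁻¹ * ww t * z * (z⁻¹ * ww t * z) = z⁻¹ * (ww t * ww t) * z := by group
        _ = 1 := by rw [ht.ww_sq]; group
    · intro i h
      have h1 : ww t (z i) = z i := by
        have := congrArg (fun j => z j) h
        simpa using this
      exact ht.ww_fpf _ h1
    · intro i h
      have h1 : ww t (z i) = t (z i) := by
        have := congrArg (fun j => z j) h
        rw [htz]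
        simpa using this
      exact ht.ww_nt _ h1

theorem exists_conj_le (H : Sylow 2 P8) :
    ∃ u : P8, ∀ g ∈ H0, u * g * u⁻¹ ∈ (H : Subgroup P8) := by
  have : Fact (Nat.Prime 2) := ⟨Nat.prime_two⟩
  obtain ⟨Q, hQ⟩ := isPGroup_H0.exists_le_sylow
  obtain ⟨u, hu⟩ := MulAction.exists_smul_eq P8 Q H
  refine ⟨u, fun g hg => ?_⟩
  have : (H : Subgroup P8) = (Q : Subgroup P8).map (MulAut.conj u).toMonoidHom := by
    rw [← hu, Sylow.smul_def, Sylow.pointwise_smul_def, Subgroup.pointwise_smul_def]; rfl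
  rw [this]
  exact ⟨g, hQ hg, rfl⟩

theorem sylow_inf_conj_ne_bot (H : Sylow 2 P8) (x : P8) :
    (H : Subgroup P8) ⊓ (H : Subgroup P8).map (MulAut.conj x).toMonoidHom ≠ ⊥ := by
  obtain ⟨u, hu⟩ := exists_conj_le H
  obtain ⟨g, hg1, hg, hg'⟩ := exists_common (u⁻¹ * x * u)
  intro hbot
  have hmem : u * g * u⁻¹ ∈ (H : Subgroup P8) ⊓ (H : Subgroup P8).map (MulAut.conj x).toMonoidHom := by
    refine ⟨hu g hg, ?_⟩
    refine ⟨u * ((u⁻¹ * x * u)⁻¹ * g * (u⁻¹ * x * u)) * u⁻¹, hu _ hg', ?_⟩
    show x * (u * ((u⁻¹ * x * u)⁻¹ * g * (u⁻¹ * x * u)) * u⁻¹) * x⁻¹ = u * g * u⁻¹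
    group
  rw [hbot, Subgroup.mem_bot] at hmem
  apply hg1
  have : g = u⁻¹ * (u * g * u⁻¹) * u := by group
  rw [this, hmem]; group

end Cfsg.Agent.Lib.Helper9.Sym8
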