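import Mathlib
import Cfsg.Agent.Lib.Helper9.SympB
import Cfsg.Agent.Lib.Helper9.SubfieldB

set_option autoImplicit false
open scoped MatrixGroups

namespace Cfsg.Agent.Lib.Helper9.SympD
open Matrix Cfsg.Agent.Lib.Helper9.SympA Cfsg.Agent.Lib.Helper9.SympB
  Cfsg.Agent.Lib.Helper15.NilpotentConj

variable {F : Type*} [Field F] {n : ℕ}

theorem BD_sub {o : Type*} [Fintype o] [DecidableEq o] (e : Fin 2 × o ≃ Fin n)
    (B B' : o → Matrix (Fin 2) (Fin 2) F) :
    BD e B - BD e B' = BD e (fun i => B i - B' i) := by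
  unfold BD
  rw [Matrix.reindex_apply, Matrix.reindex_apply, Matrix.reindex_apply]
  have : (Matrix.blockDiagonal fun i => B i - B' i) =
      Matrix.blockDiagonal B - Matrix.blockDiagonal B' := Matrix.blockDiagonal_sub B B'
  rw [this]
  rfl

theorem BD_zero {o : Type*} [Fintype o] [DecidableEq o] (e : Fin 2 × o ≃ Fin n) :
    BD e (fun _ => (0 : Matrix (Fin 2) (Fin 2) F)) = 0 := by
  unfold BD
  have : Matrix.blockDiagonal (fun _ : o => (0 : Matrix (Fin 2) (Fin 2) F)) = 0 :=
    Matrix.blockDiagonal_zero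
  rw [this]
  ext i j
  simp

/-- rank of the model nilpotent matrix -/
theorem rank_model (m a : ℕ) (ha : a ≤ m) (e : Fin 2 × Fin m ≃ Fin n) :
    (BD e (fun i : Fin m => if i.val < a then (!![0, 0; 1, 0] : Matrix (Fin 2) (Fin 2) F) else 0)).rank
      = a := by
  classical
  let S2 : Matrix (Fin 2) (Fin 2) F := !![0, 1; 1, 0]
  have hfac : (fun i : Fin m => if i.val < a then (!![0, 0; 1, 0] : Matrix (Fin 2) (Fin 2) F) else 0) =
      fun i => S2 * Matrix.diagonal (fun k : Fin 2 => if k = 0 ∧ i.val < a then (1 : F) else 0) := by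
    funext i
    by_cases hi : i.val < a
    · rw [if_pos hi]
      ext k l
      fin_cases k <;> fin_cases l <;> simp [S2, hi, Matrix.mul_apply, Fin.sum_univ_two, Matrix.diagonal]
    · rw [if_neg hi]
      ext k l
      simp [hi]
  rw [hfac, ← BD_mul]
  have hdet : IsUnit (BD e (fun _ : Fin m => S2)).det := by
    rw [BD_det]
    have hS2 : S2.det = -1 := by
      simp [S2, Matrix.det_fin_two]
    rw [Finset.prod_const, hS2]
    exact (isUnit_one.neg).pow _
  rw [Matrix.rank_mul_eq_right_of_isUnit_det _ _ hdet]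
  unfold BD
  rw [Matrix.blockDiagonal_diagonal, Matrix.rank_reindex, Matrix.rank_diagonal]
  have : Fintype.card {p : Fin 2 × Fin m // (if p.1 = 0 ∧ p.2.val < a then (1 : F) else 0) ≠ 0} =
      Fintype.card (Fin a) := by
    apply Fintype.card_congr
    refine ⟨fun p => ⟨p.1.2.val, ?_⟩, fun j => ⟨(0, ⟨j.val, lt_of_lt_of_le j.2 ha⟩), ?_⟩, ?_, ?_⟩
    · have := p.2
      by_contra hlt
      apply this
      rw [if_neg]
      exact fun h => hlt h.2
    · simp
    · rintro ⟨⟨k, i⟩, hp⟩
      have h1 : k = 0 ∧ i.val < a := by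
        by_contra h
        apply hp
        rw [if_neg h]
      apply Subtype.ext
      simp [h1.1]
    · intro j
      rfl
  rw [this, Fintype.card_fin]

theorem mkap_sq_zero (A : Matrix (Fin n) (Fin n) F) (hA : A * A = 0) (k : ℕ) :
    mkap A k = if k = 0 then 0 else if k = 1 then n - A.rank else n := by
  rcases k with _ | _ | k
  · simp only [if_true]
    unfold mkap kap
    rw [pow_zero]
    have : LinearMap.ker (1 : Module.End F (Fin n → F)) = ⊥ := by
      ext v
      simp
    rw [this, finrank_bot]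
  · simp only [zero_add, one_ne_zero, if_false, if_true]
    unfold mkap kap
    rw [pow_one]
    have := Cfsg.Agent.Lib.Helper9.SubfieldB.finrank_ker_toLin' A
    omega
  · have h1 : k + 1 + 1 ≠ 0 := by omega
    have h2 : k + 1 + 1 ≠ 1 := by omega
    rw [if_neg h1, if_neg h2, ← pow_eq_zero_iff_mkap]
    have : k + 1 + 1 = 2 + k := by ring
    rw [this, pow_add, pow_two, hA, zero_mul]

/-- characteristic 2 -/
theorem char_two_conj [Fintype F] [CharP F 2] (f : (Fin n → F) → (Fin n → F) → F)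
    (hf : Cfsg.Geo.IsSymplecticForm f) (m : ℕ) (hm : 1 ≤ m) (hnm : n = 2 * m)
    (x : Matrix.SpecialLinearGroup (Fin n) F) (z : F)
    (hx : (x : Matrix (Fin n) (Fin n) F) * (x : Matrix (Fin n) (Fin n) F) = z • 1) :
    ∃ P : Matrix.SpecialLinearGroup (Fin n) F, P⁻¹ * x * P ∈ HS f := by
  classical
  have h2 : Fact (Nat.Prime 2) := ⟨Nat.prime_two⟩
  have : Nonempty (Fin n) := ⟨⟨0, by omega⟩⟩
  have hz : z ≠ 0 := by
    rintro rfl
    have hd := congrArg Matrix.det hx
    rw [Matrix.det_mul, x.2, zero_smul, Matrix.det_zero, mul_one] at hd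
    exact one_ne_zero hd
  have hfrob : ∀ δ : F, ∃ s : F, s ^ 2 = δ := by
    intro δ
    obtain ⟨s, hs⟩ := Finite.surjective_of_injective (frobenius_inj F 2) δ
    exact ⟨s, by rwa [frobenius_def] at hs⟩
  obtain ⟨lam, hlam⟩ := hfrob z
  have hlam0 : lam ≠ 0 := by
    rintro rfl
    rw [zero_pow (by norm_num)] at hlam
    exact hz hlam.symm
  obtain ⟨u, hu⟩ : ∃ u : Matrix (Fin n) (Fin n) F, u = lam⁻¹ • (x : Matrix (Fin n) (Fin n) F) := ⟨_, rfl⟩
  have hu2 : u ^ 2 = 1 := by
    rw [pow_two, hu, Matrix.smul_mul, Matrix.mul_smul, hx, smul_smul, smul_smul, ← hlam]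
    have : lam⁻¹ * lam⁻¹ * lam ^ 2 = 1 := by field_simp
    rw [this, one_smul]
  obtain ⟨N, hN⟩ : ∃ N : Matrix (Fin n) (Fin n) F, N = u - 1 := ⟨_, rfl⟩
  have hNN : N * N = 0 := by
    have := sub_one_pow_char_pow 2 u 1
    rw [pow_one, hu2, sub_self, pow_two, ← hN] at this
    exact this
  have ha : N.rank + N.rank ≤ n := by
    have := Matrix.rank_add_rank_le_card_of_mul_eq_zero hNN
    simpa using this
  have ham : N.rank ≤ m := by omega
  have hcard : Fintype.card (Fin 2 × Fin m) = Fintype.card (Fin n) := by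
    simp [hnm]
  let e : Fin 2 × Fin m ≃ Fin n := Fintype.equivOfCardEq hcard
  let U2 : Matrix (Fin 2) (Fin 2) F := !![1, 0; 1, 1]
  let B : Fin m → Matrix (Fin 2) (Fin 2) F := fun i => if i.val < N.rank then U2 else 1
  have hBsub : (fun i => B i - 1) = fun i : Fin m =>
      if i.val < N.rank then (!![0, 0; 1, 0] : Matrix (Fin 2) (Fin 2) F) else 0 := by
    funext i
    simp only [B]
    by_cases hi : i.val < N.rank
    · rw [if_pos hi, if_pos hi]
      ext k l
      fin_cases k <;> fin_cases l <;> simp [U2]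
    · rw [if_neg hi, if_neg hi, sub_self]
  obtain ⟨N', hN'⟩ : ∃ N' : Matrix (Fin n) (Fin n) F, N' = BD e B - 1 := ⟨_, rfl⟩
  have hN'BD : N' = BD e (fun i : Fin m =>
      if i.val < N.rank then (!![0, 0; 1, 0] : Matrix (Fin 2) (Fin 2) F) else 0) := by
    rw [hN', ← BD_one e, BD_sub, hBsub]
  have hN'N' : N' * N' = 0 := by
    rw [hN'BD, BD_mul]
    have : (fun i : Fin m =>
        (if i.val < N.rank then (!![0, 0; 1, 0] : Matrix (Fin 2) (Fin 2) F) else 0) *
        (if i.val < N.rank then (!![0, 0; 1, 0] : Matrix (Fin 2) (Fin 2) F) else 0)) =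
        fun _ => 0 := by
      funext i
      by_cases hi : i.val < N.rank
      · rw [if_pos hi]
        ext k l
        fin_cases k <;> fin_cases l <;> simp [Matrix.mul_apply, Fin.sum_univ_two]
      · rw [if_neg hi, Matrix.mul_zero]
    rw [this, BD_zero]
  have hrank : N'.rank = N.rank := by
    rw [hN'BD]
    exact rank_model m N.rank ham e
  obtain ⟨Mg, hMg⟩ := matrix_conj_of_mkap_eq N N' ⟨2, by rw [pow_two, hNN]⟩
    ⟨2, by rw [pow_two, hN'N']⟩ (fun k => by rw [mkap_sq_zero N hNN, mkap_sq_zero N' hN'N', hrank])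
  obtain ⟨g, hg⟩ : ∃ g : Matrix (Fin n) (Fin n) F,
    g = ((Mg⁻¹ : GL (Fin n) F) : Matrix (Fin n) (Fin n) F) := ⟨_, rfl⟩
  have hgM : g * (Mg : Matrix (Fin n) (Fin n) F) = 1 := by
    rw [hg, ← Units.val_mul, inv_mul_cancel, Units.val_one]
  have hMg' : (Mg : Matrix (Fin n) (Fin n) F) * g = 1 := by
    rw [hg, ← Units.val_mul, mul_inv_cancel, Units.val_one]
  have hgdet : g.det ≠ 0 := by
    intro h
    have := congrArg Matrix.det hgM
    rw [Matrix.det_mul, h, zero_mul, Matrix.det_one] at this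
    exact zero_ne_one this
  have hMgu : (Mg : Matrix (Fin n) (Fin n) F) * u = BD e B * (Mg : Matrix (Fin n) (Fin n) F) := by
    have h1 : u = N + 1 := by rw [hN]; abel
    have h2 : BD e B = N' + 1 := by rw [hN']; abel
    rw [h1, h2, Matrix.mul_add, Matrix.add_mul, hMg, Matrix.mul_one, Matrix.one_mul]
  have hug : u * g = g * BD e B := by
    calc u * g = (g * (Mg : Matrix (Fin n) (Fin n) F)) * u * g := by rw [hgM, Matrix.one_mul]
      _ = g * ((Mg : Matrix (Fin n) (Fin n) F) * u) * g := by simp only [Matrix.mul_assoc]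
      _ = g * BD e B * ((Mg : Matrix (Fin n) (Fin n) F) * g) := by rw [hMgu]; simp only [Matrix.mul_assoc]
      _ = g * BD e B := by rw [hMg', Matrix.mul_one]
  have hxg : (x : Matrix (Fin n) (Fin n) F) * g = g * (lam • BD e B) := by
    have hxu : (x : Matrix (Fin n) (Fin n) F) = lam • u := by
      rw [hu, smul_smul, mul_inv_cancel₀ hlam0, one_smul]
    rw [hxu, Matrix.smul_mul, hug, Matrix.mul_smul]
  refine block_conj f hf e B 1 one_ne_zero ?_ ⟨0, hm⟩ ?_ x g hgdet lam hlam0 hxg
  · intro i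
    simp only [B]
    by_cases hi : i.val < N.rank
    · rw [if_pos hi]
      simp [U2, Matrix.det_fin_two]
    · rw [if_neg hi, Matrix.det_one]
  · intro δ _
    obtain ⟨s, hs⟩ := hfrob δ
    refine ⟨s • 1, ?_, ?_⟩
    · rw [Matrix.smul_mul, Matrix.mul_smul, Matrix.one_mul, Matrix.mul_one]
    · rw [Matrix.det_smul, Matrix.det_one, mul_one, Fintype.card_fin, hs]

end Cfsg.Agent.Lib.Helper9.SympD
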