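import Mathlib
import Cfsg.Agent.Lib.Helper9.SympB
import Cfsg.Agent.Lib.Helper9.Ext27A

set_option autoImplicit false
open scoped MatrixGroups

namespace Cfsg.Agent.Lib.Helper9.SympE
open Matrix Cfsg.Agent.Lib.Helper9.SympA Cfsg.Agent.Lib.Helper9.SympB

variable {F : Type*} [Field F] {n : ℕ}

/-- square scalar, odd characteristic -/
theorem square_conj (h2 : (2 : F) ≠ 0) (f : (Fin n → F) → (Fin n → F) → F)
    (hf : Cfsg.Geo.IsSymplecticForm f) (hn : 1 ≤ n) (hne : Even n)
    (x : Matrix.SpecialLinearGroup (Fin n) F) (lam : F) (hlam : lam ≠ 0)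
    (hx : (x : Matrix (Fin n) (Fin n) F) * (x : Matrix (Fin n) (Fin n) F) = (lam * lam) • 1)
    (hpow : lam ^ n ≠ -1) :
    ∃ P : Matrix.SpecialLinearGroup (Fin n) F, P⁻¹ * x * P ∈ HS f := by
  classical
  have hne1 : (-1 : F) ≠ 1 := by
    intro h
    apply h2
    have : (1 : F) + 1 = 0 := by
      nth_rewrite 1 [← h]
      ring
    rw [← this]; norm_num
  obtain ⟨t, ht⟩ : ∃ t : Matrix (Fin n) (Fin n) F, t = lam⁻¹ • (x : Matrix (Fin n) (Fin n) F) := ⟨_, rfl⟩
  have ht2 : t ^ 2 = 1 := by
    rw [pow_two, ht, Matrix.smul_mul, Matrix.mul_smul, hx, smul_smul, smul_smul]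
    have : lam⁻¹ * lam⁻¹ * (lam * lam) = 1 := by field_simp
    rw [this, one_smul]
  obtain ⟨h, d, hdet, hth, hd⟩ := Cfsg.Agent.Lib.Helper9.Ext27A.exists_diag_sq h2 t ht2
  have hd' : ∀ i, d i = 1 ∨ d i = -1 := by
    intro i
    have h1 : (d i - 1) * (d i + 1) = 0 := by
      have := hd i
      linear_combination this
    rcases mul_eq_zero.mp h1 with h | h
    · left; linear_combination h
    · right; linear_combination h
  have hxt : (x : Matrix (Fin n) (Fin n) F) = lam • t := by
    rw [ht, smul_smul, mul_inv_cancel₀ hlam, one_smul]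
  -- determinant of t
  have htdet : t.det = ∏ i, d i := by
    have := congrArg Matrix.det hth
    rw [Matrix.det_mul, Matrix.det_mul, Matrix.det_diagonal, mul_comm] at this
    exact mul_left_cancel₀ hdet this
  have hprod : ∏ i, d i = (-1) ^ Fintype.card {i // ¬ d i = 1} := by
    have h1 : ∀ i, d i = if d i = 1 then 1 else -1 := by
      intro i
      rcases hd' i with h | h
      · rw [if_pos h, h]
      · rw [if_neg (by rw [h]; exact hne1), h]
    rw [Finset.prod_congr rfl (fun i _ => h1 i), Finset.prod_ite, Finset.prod_const_one, one_mul,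
      Finset.prod_const, Fintype.card_subtype]
  have hdetx : lam ^ n * (-1) ^ Fintype.card {i // ¬ d i = 1} = 1 := by
    have := x.2
    rw [hxt, Matrix.det_smul, Fintype.card_fin, htdet, hprod] at this
    exact this
  have hbeven : Even (Fintype.card {i // ¬ d i = 1}) := by
    by_contra hodd
    rw [Nat.not_even_iff_odd] at hodd
    rw [hodd.neg_one_pow] at hdetx
    apply hpow
    linear_combination -hdetx
  have hsum : Fintype.card {i // d i = 1} + Fintype.card {i // ¬ d i = 1} = n := by
    rw [Fintype.card_subtype_compl, Fintype.card_fin]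
    have := Fintype.card_subtype_le (fun i : Fin n => d i = 1)
    rw [Fintype.card_fin] at this
    omega
  have haeven : Even (Fintype.card {i // d i = 1}) := by
    have : Even (Fintype.card {i // d i = 1} + Fintype.card {i // ¬ d i = 1}) := by rw [hsum]; exact hne
    exact (Nat.even_add.mp this).mpr hbeven
  obtain ⟨a', ha'⟩ := haeven
  obtain ⟨b', hb'⟩ := hbeven
  have hc1 : Fintype.card {i // d i = 1} = Fintype.card (Fin 2 × Fin a') := by
    rw [ha']; simp; ring
  have hc2 : Fintype.card {i // ¬ d i = 1} = Fintype.card (Fin 2 × Fin b') := by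
    rw [hb']; simp; ring
  let ep : {i // d i = 1} ≃ Fin 2 × Fin a' := Fintype.equivOfCardEq hc1
  let em : {i // ¬ d i = 1} ≃ Fin 2 × Fin b' := Fintype.equivOfCardEq hc2
  let e : Fin 2 × (Fin a' ⊕ Fin b') ≃ Fin n :=
    (Equiv.prodSumDistrib (Fin 2) (Fin a') (Fin b')).trans
      ((ep.symm.sumCongr em.symm).trans (Equiv.sumCompl (fun i => d i = 1)))
  let s : Fin a' ⊕ Fin b' → F := fun o => Sum.elim (fun _ => 1) (fun _ => -1) o
  have hde : ∀ p : Fin 2 × (Fin a' ⊕ Fin b'), d (e p) = s p.2 := by
    rintro ⟨k, i | j⟩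
    · have : e (k, Sum.inl i) = ((ep.symm (k, i) : {i // d i = 1}) : Fin n) := rfl
      rw [this]
      exact (ep.symm (k, i)).2
    · have : e (k, Sum.inr j) = ((em.symm (k, j) : {i // ¬ d i = 1}) : Fin n) := rfl
      rw [this]
      rcases hd' (em.symm (k, j) : {i // ¬ d i = 1}) with h | h
      · exact absurd h (em.symm (k, j)).2
      · exact h
  let B : Fin a' ⊕ Fin b' → Matrix (Fin 2) (Fin 2) F := fun o => Matrix.diagonal (fun _ => s o)
  have hBD : BD e B = Matrix.diagonal d := by
    unfold BD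
    rw [Matrix.blockDiagonal_diagonal]
    ext i j
    rw [Matrix.reindex_apply, Matrix.submatrix_apply]
    by_cases hij : i = j
    · subst hij
      rw [Matrix.diagonal_apply_eq, Matrix.diagonal_apply_eq]
      have := hde (e.symm i)
      rw [Equiv.apply_symm_apply] at this
      exact this.symm
    · rw [Matrix.diagonal_apply_ne _ hij, Matrix.diagonal_apply_ne]
      intro h
      exact hij (e.symm.injective h)
  have hxh : (x : Matrix (Fin n) (Fin n) F) * h = h * (lam • BD e B) := by
    rw [hBD, hxt, Matrix.smul_mul, hth, Matrix.mul_smul]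
  let i₀ : Fin a' ⊕ Fin b' := (e.symm ⟨0, hn⟩).2
  refine block_conj f hf e B 1 one_ne_zero ?_ i₀ ?_ x h hdet lam hlam hxh
  · intro o
    simp only [B]
    rw [Matrix.det_diagonal, Fin.prod_univ_two]
    rcases o with i | j <;> simp [s]
  · intro δ _
    refine ⟨Matrix.diagonal ![δ, 1], ?_, ?_⟩
    · simp only [B]
      rw [Matrix.diagonal_mul_diagonal, Matrix.diagonal_mul_diagonal]
      congr 1
      funext k
      ring
    · rw [Matrix.det_diagonal, Fin.prod_univ_two]
      simp

end Cfsg.Agent.Lib.Helper9.SympE
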