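import Mathlib
import Cfsg.Agent.Lib.Helper9.SympA

set_option autoImplicit false
open scoped MatrixGroups

namespace Cfsg.Agent.Lib.Helper9.SympF
open Matrix Cfsg.Agent.Lib.Helper9.SympA

variable {F : Type*} [Field F] {n : ℕ}

/-- a vector orthogonal to the images of all basis vectors under an invertible matrix is zero -/
theorem eq_zero_of_orth (f : (Fin n → F) → (Fin n → F) → F) (hf : Cfsg.Geo.IsSymplecticForm f)
    (Qi Q : Matrix (Fin n) (Fin n) F) (hPP : Qi * Q = 1) (w : Fin n → F)
    (hw : ∀ j, f w (Qi *ᵥ Pi.single j 1) = 0) : w = 0 := by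
  classical
  by_contra hne
  obtain ⟨-, v, hv⟩ := hf.nondegenerate w hne
  apply hv
  set β := toBilin f hf.bilinear with hβ
  have h1 : (β w).comp (Matrix.toLin' Qi) = 0 := by
    apply (Pi.basisFun F (Fin n)).ext
    intro j
    rw [Pi.basisFun_apply, LinearMap.comp_apply, Matrix.toLin'_apply, LinearMap.zero_apply]
    exact hw j
  have h2 : v = Qi *ᵥ (Q *ᵥ v) := by
    rw [Matrix.mulVec_mulVec, hPP, Matrix.one_mulVec]
  rw [h2]
  have := congrArg (fun φ : (Fin n → F) →ₗ[F] F => φ (Q *ᵥ v)) h1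
  simp only [LinearMap.comp_apply, Matrix.toLin'_apply, LinearMap.zero_apply] at this
  exact this

/-- if `λ^n = -1` there is an involution of `PSL_n` not conjugate into the symplectic-type
subgroup -/
theorem exists_not_conj (h2 : (2 : F) ≠ 0) (f : (Fin n → F) → (Fin n → F) → F)
    (hf : Cfsg.Geo.IsSymplecticForm f) (hn : 3 ≤ n) (lam : F) (hlam : lam ^ n = -1) :
    ∃ x : Matrix.SpecialLinearGroup (Fin n) F,
      (x : Matrix (Fin n) (Fin n) F) * (x : Matrix (Fin n) (Fin n) F) = (lam * lam) • 1 ∧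
      (∀ z : F, (x : Matrix (Fin n) (Fin n) F) ≠ z • 1) ∧
      ∀ P : Matrix.SpecialLinearGroup (Fin n) F, P⁻¹ * x * P ∉ HS f := by
  classical
  have hlam0 : lam ≠ 0 := by
    rintro rfl
    rw [zero_pow (by omega)] at hlam
    have : (1 : F) = 0 := by
      have h1 : (0 : F) + 1 = -1 + 1 := by rw [← hlam]
      rw [zero_add, neg_add_cancel] at h1
      exact h1
    exact one_ne_zero this
  let i₀ : Fin n := ⟨0, by omega⟩
  let i₁ : Fin n := ⟨1, by omega⟩
  let i₂ : Fin n := ⟨2, by omega⟩
  have h01 : i₀ ≠ i₁ := by simp [i₀, i₁, Fin.ext_iff]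
  have h02 : i₀ ≠ i₂ := by simp [i₀, i₂, Fin.ext_iff]
  have h12 : i₁ ≠ i₂ := by simp [i₁, i₂, Fin.ext_iff]
  let d : Fin n → F := Function.update (fun _ => (1 : F)) i₀ (-1)
  have hd0 : d i₀ = -1 := by simp [d]
  have hdne : ∀ j, j ≠ i₀ → d j = 1 := by
    intro j hj
    simp [d, Function.update_of_ne hj]
  obtain ⟨X, hX⟩ : ∃ X : Matrix (Fin n) (Fin n) F, X = lam • Matrix.diagonal d := ⟨_, rfl⟩
  have hXdet : X.det = 1 := by
    rw [hX, Matrix.det_smul, Fintype.card_fin, Matrix.det_diagonal,
      Finset.prod_update_of_mem (Finset.mem_univ _), hlam]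
    simp
  have hXX : X * X = (lam * lam) • 1 := by
    rw [hX, Matrix.smul_mul, Matrix.mul_smul, smul_smul, Matrix.diagonal_mul_diagonal]
    congr 1
    rw [← Matrix.diagonal_one]
    congr 1
    funext j
    by_cases hj : j = i₀
    · rw [hj, hd0]; ring
    · rw [hdne j hj]; ring
  have hXE : ∀ j, X *ᵥ Pi.single j 1 = (lam * d j) • Pi.single j 1 := by
    intro j
    rw [hX, Matrix.smul_mulVec, Matrix.mulVec_single, mul_smul]
    congr 1
    funext k
    simp only [MulOpposite.op_one, one_smul, Pi.smul_apply, smul_eq_mul]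
    by_cases hk : k = j
    · subst hk
      simp [Matrix.diagonal_apply_eq]
    · simp [Matrix.diagonal_apply_ne _ hk, Pi.single_eq_of_ne hk]
  let x : Matrix.SpecialLinearGroup (Fin n) F := ⟨X, hXdet⟩
  have hxX : (x : Matrix (Fin n) (Fin n) F) = X := rfl
  refine ⟨x, by rw [hxX]; exact hXX, ?_, ?_⟩
  · intro z hz
    rw [hxX, hX] at hz
    have e0 := congrFun (congrFun hz i₀) i₀
    have e1 := congrFun (congrFun hz i₁) i₁
    simp only [Matrix.smul_apply, Matrix.diagonal_apply_eq, Matrix.one_apply_eq, smul_eq_mul,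
      mul_one] at e0 e1
    rw [hd0] at e0
    rw [hdne i₁ h01.symm] at e1
    apply hlam0
    have : (2 : F) * lam = 0 := by linear_combination e1 - e0
    rcases mul_eq_zero.mp this with h | h
    · exact absurd h h2
    · exact h
  · intro P hP
    rw [Subgroup.mem_comap] at hP
    obtain ⟨c, hc⟩ := hP
    obtain ⟨Q, hQ⟩ : ∃ Q : Matrix (Fin n) (Fin n) F, Q = (P : Matrix (Fin n) (Fin n) F) := ⟨_, rfl⟩
    obtain ⟨Qi, hQi⟩ : ∃ Qi : Matrix (Fin n) (Fin n) F,
      Qi = ((P⁻¹ : Matrix.SpecialLinearGroup (Fin n) F) : Matrix (Fin n) (Fin n) F) := ⟨_, rfl⟩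
    have hQiQ : Qi * Q = 1 := by
      rw [hQi, hQ, ← Matrix.SpecialLinearGroup.coe_mul, inv_mul_cancel, Matrix.SpecialLinearGroup.coe_one]
    have hQQi : Q * Qi = 1 := by
      rw [hQi, hQ, ← Matrix.SpecialLinearGroup.coe_mul, mul_inv_cancel, Matrix.SpecialLinearGroup.coe_one]
    have hy : ((Matrix.SpecialLinearGroup.toGL (P⁻¹ * x * P) : GL (Fin n) F) : Matrix (Fin n) (Fin n) F) =
        Qi * X * Q := by
      rw [hQi, hQ, ← hxX]
      rfl
    rw [hy] at hc
    -- f' (X u) (X v) = c f' u v
    have hf' : ∀ u v, f (Qi *ᵥ (X *ᵥ u)) (Qi *ᵥ (X *ᵥ v)) = (c : F) * f (Qi *ᵥ u) (Qi *ᵥ v) := by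
      intro u v
      have := hc (Qi *ᵥ u) (Qi *ᵥ v)
      rw [Matrix.mulVec_mulVec, Matrix.mulVec_mulVec] at this
      have h3 : Qi * X * Q * Qi = Qi * X := by
        rw [Matrix.mul_assoc, hQQi, Matrix.mul_one]
      rw [h3, ← Matrix.mulVec_mulVec, ← Matrix.mulVec_mulVec] at this
      exact this
    let w : Fin n → (Fin n → F) := fun j => Qi *ᵥ Pi.single j 1
    have hwne : ∀ j, w j ≠ 0 := by
      intro j h
      have h3 : Q *ᵥ w j = 0 := by rw [h, Matrix.mulVec_zero]
      simp only [w] at h3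
      rw [Matrix.mulVec_mulVec, hQQi, Matrix.one_mulVec] at h3
      have := congrFun h3 j
      simp at this
    have hrel : ∀ i j, (lam * d i * (lam * d j) - (c : F)) * f (w i) (w j) = 0 := by
      intro i j
      have := hf' (Pi.single i 1) (Pi.single j 1)
      rw [hXE, hXE, Matrix.mulVec_smul, Matrix.mulVec_smul, hf.bilinear.smul_left,
        hf.bilinear.smul_right] at this
      simp only [w]
      linear_combination this
    by_cases hcl : (c : F) = lam * lam
    · -- w i₀ is in the radical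
      apply hwne i₀
      apply eq_zero_of_orth f hf Qi Q hQiQ
      intro j
      by_cases hj : j = i₀
      · rw [hj]
        exact hf.alternating _
      · have := hrel i₀ j
        rw [hd0, hdne j hj, hcl] at this
        have hcoef : lam * -1 * (lam * 1) - lam * lam ≠ 0 := by
          have : lam * -1 * (lam * 1) - lam * lam = -(2 * (lam * lam)) := by ring
          rw [this]
          exact neg_ne_zero.mpr (mul_ne_zero h2 (mul_ne_zero hlam0 hlam0))
        exact (mul_eq_zero.mp this).resolve_left hcoef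
    · have hzero : ∀ i j, i ≠ i₀ → j ≠ i₀ → f (w i) (w j) = 0 := by
        intro i j hi hj
        have := hrel i j
        rw [hdne i hi, hdne j hj] at this
        have hcoef : lam * 1 * (lam * 1) - (c : F) ≠ 0 := by
          intro h
          apply hcl
          linear_combination -h
        exact (mul_eq_zero.mp this).resolve_left hcoef
      -- the vector u
      have hu : f (w i₂) (w i₀) • w i₁ - f (w i₁) (w i₀) • w i₂ = 0 := by
        apply eq_zero_of_orth f hf Qi Q hQiQ
        intro j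
        have hexp : f (f (w i₂) (w i₀) • w i₁ - f (w i₁) (w i₀) • w i₂) (w j) =
            f (w i₂) (w i₀) * f (w i₁) (w j) - f (w i₁) (w i₀) * f (w i₂) (w j) := by
          rw [sub_eq_add_neg, hf.bilinear.add_left, ← neg_smul, hf.bilinear.smul_left,
            hf.bilinear.smul_left]
          ring
        show f _ (w j) = 0
        rw [hexp]
        by_cases hj : j = i₀
        · rw [hj]; ring
        · rw [hzero i₁ j h01.symm hj, hzero i₂ j h02.symm hj]; ring
      have hu' : Qi *ᵥ (f (w i₂) (w i₀) • Pi.single i₁ 1 - f (w i₁) (w i₀) • Pi.single i₂ 1) = 0 := by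
        rw [Matrix.mulVec_sub, Matrix.mulVec_smul, Matrix.mulVec_smul]
        exact hu
      have hu'' : f (w i₂) (w i₀) • (Pi.single i₁ 1 : Fin n → F) -
          f (w i₁) (w i₀) • (Pi.single i₂ 1 : Fin n → F) = 0 := by
        have := congrArg (fun v => Q *ᵥ v) hu'
        simp only [Matrix.mulVec_mulVec, hQQi, Matrix.one_mulVec, Matrix.mulVec_zero] at this
        exact this
      have hφ1 : f (w i₁) (w i₀) = 0 := by
        have := congrFun hu'' i₂
        simp [Pi.single_eq_of_ne h12.symm] at this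
        exact this
      apply hwne i₁
      apply eq_zero_of_orth f hf Qi Q hQiQ
      intro j
      by_cases hj : j = i₀
      · rw [hj]; exact hφ1
      · exact hzero i₁ j h01.symm hj

end Cfsg.Agent.Lib.Helper9.SympF
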