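import Mathlib
import Cfsg.Prelude.Def_GeometricClasses
import Cfsg.Agent.Lib.Helper25.TensDefs
import Cfsg.Agent.Lib.Helper25.TensStmt
import Cfsg.Agent.Lib.Helper11.MonoDefs

/-!
helper9: S5637 leaves TB (`Bset_add`, `Bset_neg`, `Bset_smul`, `Bset_conj`), helper25's market,
exact signatures of notes/S5637_leaves.lean.
-/

set_option autoImplicit false
set_option linter.unusedSectionVars false
set_option linter.unusedVariables false

namespace Cfsg.Agent.Lib.Helper9.TensLeaf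
open Matrix Cfsg.Agent.Lib.Helper25.Tens Cfsg.Agent.Lib.Helper25.TensLeaves
open scoped Kronecker

variable {F : Type*} [Field F] {a b : ℕ}

/-- conjugation inside `M` on the level of matrices -/
lemma InM_conj {ι : Type} [Fintype ι] [DecidableEq ι] {M : Subgroup (GL ι F)} {k : GL ι F}
    (hk : k ∈ M) {X : Matrix ι ι F} (hX : InM M X) :
    InM M ((k : Matrix ι ι F) * X * ((k⁻¹ : GL ι F) : Matrix ι ι F)) := by
  obtain ⟨t, ht, rfl⟩ := hX
  exact ⟨k * t * k⁻¹, M.mul_mem (M.mul_mem hk ht) (M.inv_mem hk), rfl⟩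

/-- the multiplication rule of the root group `1 + θ ⊗ E_oj` -/
lemma one_add_kron_mul (o j : Fin b) (hj : j ≠ o) (θ θ' : Matrix (Fin a) (Fin a) F) :
    ((1 : Matrix (Idx a b) (Idx a b) F) +
        θ ⊗ₖ (Matrix.single o j (1 : F) : Matrix (Fin b) (Fin b) F)) *
      (1 + θ' ⊗ₖ (Matrix.single o j (1 : F) : Matrix (Fin b) (Fin b) F)) =
      1 + (θ + θ') ⊗ₖ (Matrix.single o j (1 : F) : Matrix (Fin b) (Fin b) F) := by
  rw [add_mul, mul_add, mul_add, one_mul, mul_one, one_mul, ← Matrix.mul_kronecker_mul,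
    Matrix.single_mul_single_of_ne (1 : F) o j o hj (1 : F), Matrix.kronecker_zero, add_zero, Matrix.add_kronecker]
  abel

/-- (TB1) -/
theorem Bset_add (o j : Fin b) (hj : j ≠ o) (M : Subgroup (GL (Idx a b) F))
    (θ θ' : Matrix (Fin a) (Fin a) F) (h : θ ∈ Bset o j M) (h' : θ' ∈ Bset o j M) :
    θ + θ' ∈ Bset o j M := by
  change InM M _
  rw [← one_add_kron_mul o j hj]
  exact InM_mul h h'

/-- (TB2) -/
theorem Bset_neg (o j : Fin b) (hj : j ≠ o) (M : Subgroup (GL (Idx a b) F))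
    (θ : Matrix (Fin a) (Fin a) F) (h : θ ∈ Bset o j M) : -θ ∈ Bset o j M := by
  change InM M _
  obtain ⟨t, ht, htv⟩ := h
  refine ⟨t⁻¹, M.inv_mem ht, ?_⟩
  apply Units.inv_eq_of_mul_eq_one_right
  rw [htv, one_add_kron_mul o j hj, add_neg_cancel, Matrix.zero_kronecker, add_zero]

/-- (TB4) -/
theorem Bset_conj (o j : Fin b) (M : Subgroup (GL (Idx a b) F))
    (hKM : KG a b F ⊓ SLG a b F ≤ M) (α : GL (Fin a) F)
    (hα : (α : Matrix (Fin a) (Fin a) F).det = 1)
    (θ : Matrix (Fin a) (Fin a) F) (h : θ ∈ Bset o j M) :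
    (α : Matrix (Fin a) (Fin a) F) * θ * ((α⁻¹ : GL (Fin a) F) : Matrix (Fin a) (Fin a) F) ∈
      Bset o j M := by
  change InM M _
  have hk : kel α (1 : GL (Fin b) F) ∈ M :=
    hKM (kel_mem_of_det α 1 hα (by simp))
  have hc := InM_conj hk h
  have hinv : (((kel α (1 : GL (Fin b) F))⁻¹ : GL (Idx a b) F) : Matrix (Idx a b) (Idx a b) F) =
      ((α⁻¹ : GL (Fin a) F) : Matrix (Fin a) (Fin a) F) ⊗ₖ
        (((1 : GL (Fin b) F)⁻¹ : GL (Fin b) F) : Matrix (Fin b) (Fin b) F) := rfl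
  rw [hinv, kel_val, inv_one, Units.val_one, mul_add, add_mul, mul_one,
    ← Matrix.mul_kronecker_mul, ← Matrix.mul_kronecker_mul, ← Matrix.mul_kronecker_mul,
    ← Units.val_mul, mul_inv_cancel, Units.val_one, one_mul, one_mul, mul_one,
    Matrix.one_kronecker_one] at hc
  exact hc

/-- (TB3) -/
theorem Bset_smul (hb : 3 ≤ b) (o j : Fin b) (hj : j ≠ o) (M : Subgroup (GL (Idx a b) F))
    (hKM : KG a b F ⊓ SLG a b F ≤ M) (c : F)
    (θ : Matrix (Fin a) (Fin a) F) (h : θ ∈ Bset o j M) : c • θ ∈ Bset o j M := by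
  change InM M _
  by_cases hc : c = 0
  · rw [hc, zero_smul, Matrix.zero_kronecker, add_zero]
    exact InM_one M
  -- a third index
  obtain ⟨t, hto, htj⟩ : ∃ t : Fin b, t ≠ o ∧ t ≠ j := by
    by_contra hcon
    have hall : ∀ t : Fin b, t = o ∨ t = j := by
      intro t
      by_contra hne
      rw [not_or] at hne
      exact hcon ⟨t, hne.1, hne.2⟩
    have hsub : (Finset.univ : Finset (Fin b)) ⊆ {o, j} := by
      intro x _
      rcases hall x with hx | hx <;> simp [hx]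
    have h1 := Finset.card_le_card hsub
    have h2 : ({o, j} : Finset (Fin b)).card ≤ 2 := Finset.card_le_two
    rw [Finset.card_univ, Fintype.card_fin] at h1
    omega
  set u : Fˣ := Units.mk0 c hc with hu
  set s : Fin b → Fˣ := fun x => if x = o then u else if x = t then u⁻¹ else 1 with hs
  have hso : s o = u := by rw [hs]; simp
  have hst : s t = u⁻¹ := by rw [hs]; simp [hto]
  have hsj : s j = 1 := by rw [hs]; simp [hj, htj.symm]
  have hprod : ∏ x, s x = 1 := by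
    rw [Finset.prod_eq_mul_of_mem o t (Finset.mem_univ _) (Finset.mem_univ _) hto.symm, hso, hst,
      mul_inv_cancel]
    intro x _ hx
    rw [hs]
    simp [hx.1, hx.2]
  have hdet : ((Cfsg.Agent.Lib.Helper11.Mono.dg s : GL (Fin b) F) :
      Matrix (Fin b) (Fin b) F).det = 1 := by
    rw [Cfsg.Agent.Lib.Helper11.Mono.dg_det]
    have := congrArg Units.val hprod
    rwa [Units.coe_prod, Units.val_one] at this
  have hk : kel (1 : GL (Fin a) F) (Cfsg.Agent.Lib.Helper11.Mono.dg s) ∈ M :=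
    hKM (kel_mem_of_det 1 _ (by simp) hdet)
  have hcj := InM_conj hk h
  have hinv : (((kel (1 : GL (Fin a) F) (Cfsg.Agent.Lib.Helper11.Mono.dg s))⁻¹ :
      GL (Idx a b) F) : Matrix (Idx a b) (Idx a b) F) =
      (((1 : GL (Fin a) F)⁻¹ : GL (Fin a) F) : Matrix (Fin a) (Fin a) F) ⊗ₖ
        (((Cfsg.Agent.Lib.Helper11.Mono.dg s)⁻¹ : GL (Fin b) F) :
          Matrix (Fin b) (Fin b) F) := rfl
  have hE : ((Cfsg.Agent.Lib.Helper11.Mono.dg s : GL (Fin b) F) : Matrix (Fin b) (Fin b) F) *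
      (Matrix.single o j (1 : F) : Matrix (Fin b) (Fin b) F) *
      (((Cfsg.Agent.Lib.Helper11.Mono.dg s)⁻¹ : GL (Fin b) F) : Matrix (Fin b) (Fin b) F) =
      c • (Matrix.single o j (1 : F) : Matrix (Fin b) (Fin b) F) := by
    rw [Cfsg.Agent.Lib.Helper11.Mono.dg_val, Cfsg.Agent.Lib.Helper11.Mono.dg_inv_val]
    ext x y
    rw [Matrix.mul_diagonal, Matrix.diagonal_mul, Matrix.smul_apply, Matrix.single_apply]
    by_cases hxy : o = x ∧ j = y
    · obtain ⟨rfl, rfl⟩ := hxy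
      simp [hso, hsj, hu]
    · simp [hxy]
  rw [hinv, kel_val, inv_one, Units.val_one, mul_add, add_mul, mul_one,
    ← Matrix.mul_kronecker_mul, ← Matrix.mul_kronecker_mul, ← Matrix.mul_kronecker_mul,
    ← Units.val_mul, mul_inv_cancel, Units.val_one, one_mul, mul_one, one_mul, hE,
    Matrix.one_kronecker_one, Matrix.kronecker_smul, ← Matrix.smul_kronecker] at hcj
  exact hcj

end Cfsg.Agent.Lib.Helper9.TensLeaf
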