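import Mathlib
import Cfsg.Prelude.Def_Blocks
import Cfsg.Prelude.Def_Local
import Cfsg.Agent.Lib.Helper24.PSolvable
import Cfsg.Agent.Lib.Helper14.TPDefs

/-!
S4885/S4886 leaves (NQ2a-d): transfer of Sylow subgroups, `q`-solvability, normalizers and orders
to the image `K.map (QuotientGroup.mk' N)`.
-/

set_option autoImplicit false

namespace Cfsg.Agent.Lib.Helper9.TP

open Cfsg Cfsg.Agent.Lib.Helper14.TP
open scoped Pointwise

universe u

variable {Γ : Type u} [Group Γ] [Finite Γ]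

omit [Finite Γ] in
theorem map_subgroupOf_subgroupMap {Γ' : Type*} [Group Γ'] (f : Γ →* Γ') (Q K : Subgroup Γ)
    (hQK : Q ≤ K) :
    (Q.subgroupOf K).map (f.subgroupMap K) = (Q.map f).subgroupOf (K.map f) := by
  ext ⟨y, hy⟩
  constructor
  · rintro ⟨⟨x, hxK⟩, hxQ, hxy⟩
    rw [SetLike.mem_coe, Subgroup.mem_subgroupOf] at hxQ
    rw [Subgroup.mem_subgroupOf]
    have : f x = y := congrArg Subtype.val hxy
    exact ⟨x, hxQ, this⟩
  · intro h
    rw [Subgroup.mem_subgroupOf] at h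
    obtain ⟨x, hxQ, hxy⟩ := h
    refine ⟨⟨x, hQK hxQ⟩, ?_, ?_⟩
    · rw [SetLike.mem_coe, Subgroup.mem_subgroupOf]; exact hxQ
    · apply Subtype.ext; exact hxy

/-- (NQ2a) images of Sylow subgroups. -/
theorem isSylowIn_map (q : ℕ) [Fact q.Prime] (N Q K : Subgroup Γ) [N.Normal]
    (h : IsSylowIn q Q K) :
    IsSylowIn q (Q.map (QuotientGroup.mk' N)) (K.map (QuotientGroup.mk' N)) := by
  obtain ⟨hQK, hQ, hind⟩ := h
  refine ⟨Subgroup.map_mono hQK, hQ.map _, ?_⟩
  intro hdvd
  apply hind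
  have key : (Q.map (QuotientGroup.mk' N)).relIndex (K.map (QuotientGroup.mk' N)) ∣
      Q.relIndex K := by
    have hsurj := MonoidHom.subgroupMap_surjective (QuotientGroup.mk' N) K
    have h1 := Subgroup.index_map_dvd (Q.subgroupOf K) hsurj
    rw [map_subgroupOf_subgroupMap _ Q K hQK] at h1
    exact h1
  exact dvd_trans hdvd key

/-- (NQ2b) `q`-solvability of the image. -/
theorem isPSolvable_map (q : ℕ) [Fact q.Prime] (N K : Subgroup Γ) [N.Normal]
    (h : IsPSolvable q K) : IsPSolvable q ↥(K.map (QuotientGroup.mk' N)) :=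
  Cfsg.Agent.Lib.Helper24.isPSolvable_of_surjective q ((QuotientGroup.mk' N).subgroupMap K)
    (MonoidHom.subgroupMap_surjective (QuotientGroup.mk' N) K) h

omit [Finite Γ] in
/-- (NQ2c) pulling back normalizers. -/
theorem mem_normalizer_sup_of_map (N Q : Subgroup Γ) [N.Normal] (c : Γ)
    (hc : (QuotientGroup.mk' N) c ∈
      Subgroup.normalizer ((Q.map (QuotientGroup.mk' N) : Subgroup (Γ ⧸ N)) : Set (Γ ⧸ N))) :
    c ∈ Subgroup.normalizer ((Q ⊔ N : Subgroup Γ) : Set Γ) := by
  have h1 : c ∈ (Subgroup.normalizer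
      ((Q.map (QuotientGroup.mk' N) : Subgroup (Γ ⧸ N)) : Set (Γ ⧸ N))).comap
      (QuotientGroup.mk' N) := hc
  rw [Subgroup.comap_normalizer_eq_of_surjective _ (QuotientGroup.mk'_surjective N),
    Subgroup.comap_map_eq, QuotientGroup.ker_mk'] at h1
  exact h1

/-- (NQ2d) the image is smaller. -/
theorem card_map_lt (N K : Subgroup Γ) [N.Normal] (hNK : N ≤ K) (hN : N ≠ ⊥) :
    Nat.card ↥(K.map (QuotientGroup.mk' N)) < Nat.card K := by
  have h1 : Nat.card ↥(K.map (QuotientGroup.mk' N)) = N.relIndex K := by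
    rw [← Subgroup.relIndex_ker, QuotientGroup.ker_mk']
  have h2 : N.relIndex K * Nat.card N = Nat.card K := by
    have := Subgroup.card_mul_index (N.subgroupOf K)
    have e : Nat.card ↥(N.subgroupOf K) = Nat.card N :=
      Nat.card_congr (Subgroup.subgroupOfEquivOfLe hNK).toEquiv
    rw [e] at this
    rw [Subgroup.relIndex, mul_comm]; exact this
  have h3 : 1 < Nat.card N := by
    rw [Finite.one_lt_card_iff_nontrivial]
    exact (Subgroup.nontrivial_iff_ne_bot N).mpr hN
  have h4 : 0 < N.relIndex K := by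
    rcases Nat.eq_zero_or_pos (N.relIndex K) with h | h
    · rw [h, zero_mul] at h2
      exact absurd h2.symm (Nat.card_pos.ne')
    · exact h
  rw [h1, ← h2]
  nlinarith

end Cfsg.Agent.Lib.Helper9.TP
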