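import Mathlib
import Cfsg.Agent.Lib.Helper9.TensA
import Cfsg.Agent.Lib.Helper12.ElusF

set_option autoImplicit false
open scoped MatrixGroups Kronecker

namespace Cfsg.Agent.Lib.Helper9.TensB
open Matrix Cfsg.Agent.Lib.Helper9.TensA Cfsg.Agent.Lib.Helper12.Elus

variable {F : Type*} [Field F] {a b n : ℕ}

/-- basic non-similarity criterion -/
theorem not_sim (e : Fin n ≃ Fin a × Fin b) (x : Matrix (Fin n) (Fin n) F)
    (A : GL (Fin a) F) (B : GL (Fin b) F)
    (h : Sim e x ((A : Matrix (Fin a) (Fin a) F) ⊗ₖ (B : Matrix (Fin b) (Fin b) F)))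
    (lam₁ lam₂ : F) (h1 : (x - lam₁ • 1).rank < b) (h2 : ¬ a ∣ (x - lam₂ • 1).rank) : False := by
  have hB : (B : Matrix (Fin b) (Fin b) F).det ≠ 0 :=
    ((Matrix.isUnit_iff_isUnit_det _).mp B.isUnit).ne_zero
  by_cases hA : ∃ α : F, (A : Matrix (Fin a) (Fin a) F) = α • 1
  · obtain ⟨α, hα⟩ := hA
    apply h2
    rw [h.rank_sub lam₂, hα, scalar_kron_sub, rank_one_kron]
    exact Dvd.intro _ rfl
  · push Not at hA
    have := rank_ge_of_nonscalar _ _ hA hB lam₁
    rw [← h.rank_sub lam₁] at this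
    omega

section finite

variable [Fintype F] {p : ℕ} [Fact p.Prime] [CharP F p]

/-- the order of `q` modulo `r` divides the rank of `M - 1` when `M ^ r = 1` -/
theorem c0_dvd_rank (r : ℕ) [Fact r.Prime] (hrp : r ≠ p) {m : ℕ} (M : Matrix (Fin m) (Fin m) F)
    (hM : M ^ r = 1) : orderOf (Fintype.card F : ZMod r) ∣ (M - 1).rank := by
  have hr0 : (r : F) ≠ 0 := by
    rw [Ne, CharP.cast_eq_zero_iff F p]
    intro hd
    exact hrp ((Nat.prime_dvd_prime_iff_eq Fact.out Fact.out).1 hd).symm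
  have hf : (Matrix.toLin' M) ^ r = 1 := by
    have h1 : (Matrix.toLinAlgEquiv' M) ^ r = Matrix.toLinAlgEquiv' (M ^ r) := (map_pow _ _ _).symm
    rw [hM, map_one] at h1
    exact h1
  have := orderOf_dvd_finrank_of_le_movR (Matrix.toLin' M) r hf hr0 (movR (Matrix.toLin' M))
    (movR_invariant _) le_rfl
  have h2 : (M - 1).rank = Module.finrank F (movR (Matrix.toLin' M)) := by
    unfold Matrix.rank movR
    have : (M - 1).mulVecLin = Matrix.toLin' M - 1 := by
      apply LinearMap.ext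
      intro v
      simp
    rw [this]
  rw [h2]
  exact this

end finite


section finite2

variable [Fintype F] {p : ℕ} [Fact p.Prime] [CharP F p]

/-- `r`-th roots when `r` does not divide `q - 1` -/
theorem exists_root (r : ℕ) [Fact r.Prime] (hr : ¬ r ∣ Fintype.card F - 1) (s : F) (hs : s ≠ 0) :
    ∃ t : F, t ≠ 0 ∧ t ^ r = s := by
  classical
  have hcop : (Nat.card Fˣ).Coprime r := by
    rw [Nat.card_eq_fintype_card, Fintype.card_units]
    exact ((Nat.Prime.coprime_iff_not_dvd Fact.out).2 hr).symm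
  obtain ⟨t, ht⟩ := (powCoprime hcop).surjective (Units.mk0 s hs)
  refine ⟨(t : F), t.ne_zero, ?_⟩
  have := congrArg Units.val ht
  simpa using this

/-- the block element is not similar to a Kronecker product -/
theorem not_sim_block (r : ℕ) [Fact r.Prime] (hrp : r ≠ p)
    (hc₀ : 2 ≤ orderOf (Fintype.card F : ZMod r)) (ha : 2 ≤ a) (hab : a < b)
    (e : Fin n ≃ Fin a × Fin b) (x : Matrix (Fin n) (Fin n) F) (hxr : x ^ r = 1)
    (hrank : (x - 1).rank = orderOf (Fintype.card F : ZMod r))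
    (A : GL (Fin a) F) (B : GL (Fin b) F)
    (h : Sim e x ((A : Matrix (Fin a) (Fin a) F) ⊗ₖ (B : Matrix (Fin b) (Fin b) F))) : False := by
  have hB : (B : Matrix (Fin b) (Fin b) F).det ≠ 0 :=
    ((Matrix.isUnit_iff_isUnit_det _).mp B.isUnit).ne_zero
  have hAdet : (A : Matrix (Fin a) (Fin a) F).det ≠ 0 :=
    ((Matrix.isUnit_iff_isUnit_det _).mp A.isUnit).ne_zero
  have hr1 : ¬ r ∣ Fintype.card F - 1 := by
    intro hd
    have := (orderOf_card_eq_one_iff (F := F) r).2 hd
    omega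
  have hpow : ((A : Matrix (Fin a) (Fin a) F) ⊗ₖ (B : Matrix (Fin b) (Fin b) F)) ^ r =
      (1 : F) • 1 := h.pow_eq_smul r 1 (by rw [hxr, one_smul])
  rw [kron_pow] at hpow
  obtain ⟨s, t, hst, hAr, hBr⟩ := scalar_of_kron_scalar _ _ 1 one_ne_zero (by omega) (by omega) hpow
  have hx1 : (x - 1).rank = (x - (1 : F) • 1).rank := by rw [one_smul]
  by_cases hA : ∃ α : F, (A : Matrix (Fin a) (Fin a) F) = α • 1
  · obtain ⟨α, hα⟩ := hA
    have h1 : (x - (1 : F) • 1).rank = a * (α • (B : Matrix (Fin b) (Fin b) F) - (1 : F) • 1).rank := by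
      rw [h.rank_sub 1, hα, scalar_kron_sub, rank_one_kron]
    -- (α B)^r = 1
    have hαr : α ^ r = s := by
      rw [hα, smul_pow, one_pow] at hAr
      have := congrFun (congrFun hAr ⟨0, by omega⟩) ⟨0, by omega⟩
      simpa using this
    have hM : (α • (B : Matrix (Fin b) (Fin b) F)) ^ r = 1 := by
      rw [smul_pow, hBr, smul_smul, hαr, hst, one_smul]
    have hdvd := c0_dvd_rank r hrp _ hM
    rw [← hx1, hrank, one_smul] at h1
    obtain ⟨m', hm'⟩ := hdvd
    rw [hm'] at h1
    rcases Nat.eq_zero_or_pos m' with h0 | hpos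
    · rw [h0, mul_zero, mul_zero] at h1
      omega
    · have : 2 * orderOf (Fintype.card F : ZMod r) ≤ a * (orderOf (Fintype.card F : ZMod r) * m') := by
        calc 2 * orderOf (Fintype.card F : ZMod r) ≤ a * orderOf (Fintype.card F : ZMod r) :=
              Nat.mul_le_mul_right _ ha
          _ ≤ a * (orderOf (Fintype.card F : ZMod r) * m') :=
              Nat.mul_le_mul_left _ (Nat.le_mul_of_pos_right _ hpos)
      omega
  · push Not at hA
    have hge := rank_ge_of_nonscalar _ _ hA hB 1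
    rw [← h.rank_sub 1, ← hx1, hrank] at hge
    -- c₀ ≤ a
    have hs0 : s ≠ 0 := by
      rintro rfl
      rw [zero_mul] at hst
      exact zero_ne_one hst
    obtain ⟨t', ht'0, ht'⟩ := exists_root r hr1 s hs0
    obtain ⟨A', hA'⟩ : ∃ A' : Matrix (Fin a) (Fin a) F,
      A' = t'⁻¹ • (A : Matrix (Fin a) (Fin a) F) := ⟨_, rfl⟩
    have hA'r : A' ^ r = 1 := by
      rw [hA', smul_pow, hAr, smul_smul, inv_pow, ht', inv_mul_cancel₀ hs0, one_smul]
    have hA'1 : A' - 1 ≠ 0 := by
      intro h0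
      apply hA t'
      have h1 : A' = 1 := sub_eq_zero.mp h0
      rw [hA'] at h1
      have := congrArg (fun M => t' • M) h1
      simp only [smul_smul, mul_inv_cancel₀ ht'0, one_smul] at this
      exact this
    have hdvd := c0_dvd_rank r hrp A' hA'r
    have hle : (A' - 1).rank ≤ a := by
      have := Matrix.rank_le_width (A' - 1)
      exact this
    have hpos : 0 < (A' - 1).rank := by
      rcases Nat.eq_zero_or_pos (A' - 1).rank with h0 | h0
      · exfalso
        apply hA'1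
        unfold Matrix.rank at h0
        have h2 : LinearMap.range (A' - 1).mulVecLin = ⊥ := by
          rw [← Submodule.finrank_eq_zero]
          exact h0
        rw [LinearMap.range_eq_bot] at h2
        ext i j
        have := congrFun (LinearMap.congr_fun h2 (Pi.single j 1)) i
        simp only [Matrix.mulVecLin_apply, Matrix.mulVec_single_one, LinearMap.zero_apply,
          Pi.zero_apply] at this
        rw [Matrix.zero_apply, ← this]
        rfl
      · exact h0
    have := Nat.le_of_dvd hpos hdvd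
    omega

end finite2


section finite3

variable [Fintype F] {p : ℕ} [Fact p.Prime] [CharP F p]

theorem eq_one_of_pow_eq_one (r : ℕ) [Fact r.Prime] (hr : ¬ r ∣ Fintype.card F - 1) (z : F)
    (hz : z ^ r = 1) : z = 1 := by
  classical
  by_contra hne
  have hz0 : z ≠ 0 := by
    rintro rfl
    rw [zero_pow (Fact.out : r.Prime).ne_zero] at hz
    exact zero_ne_one hz
  have h1 : (Units.mk0 z hz0) ^ r = 1 := by
    apply Units.ext
    simpa using hz
  have h2 : orderOf (Units.mk0 z hz0) = r := by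
    refine orderOf_eq_prime h1 ?_
    intro h
    apply hne
    have := congrArg Units.val h
    simpa using this
  apply hr
  rw [← h2, ← Fintype.card_units]
  exact orderOf_dvd_card

omit [Fintype F] in
theorem fb_pow {m k : ℕ} (A : Matrix (Fin m) (Fin m) F) (D : Matrix (Fin k) (Fin k) F) (j : ℕ) :
    (Matrix.fromBlocks A 0 0 D) ^ j = Matrix.fromBlocks (A ^ j) 0 0 (D ^ j) := by
  induction j with
  | zero => rw [pow_zero, pow_zero, pow_zero, Matrix.fromBlocks_one]
  | succ j ih =>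
    rw [pow_succ, ih, Matrix.fromBlocks_multiply, pow_succ, pow_succ]
    simp

/-- the block element -/
theorem exists_block (r : ℕ) [Fact r.Prime] (hrp : r ≠ p)
    (hc₀ : 2 ≤ orderOf (Fintype.card F : ZMod r)) (hn : orderOf (Fintype.card F : ZMod r) ≤ n) :
    ∃ X : Matrix (Fin n) (Fin n) F, X.det = 1 ∧ X ^ r = 1 ∧
      (X - 1).rank = orderOf (Fintype.card F : ZMod r) ∧ ∀ z : F, X ≠ z • 1 := by
  classical
  obtain ⟨c₀, hc₀def⟩ : ∃ c₀ : ℕ, c₀ = orderOf (Fintype.card F : ZMod r) := ⟨_, rfl⟩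
  rw [← hc₀def] at hc₀ hn ⊢
  have hr1 : ¬ r ∣ Fintype.card F - 1 := by
    intro hd
    have := (orderOf_card_eq_one_iff (F := F) r).2 hd
    omega
  obtain ⟨f, hfr, hfix⟩ := exists_order_r (F := F) r hrp c₀ 0 1 (by rw [← hc₀def]; ring)
  obtain ⟨L, hL⟩ : ∃ L : Matrix (Fin c₀) (Fin c₀) F, L = LinearMap.toMatrix' f := ⟨_, rfl⟩
  have hLr : L ^ r = 1 := by
    have h1 : (LinearMap.toMatrixAlgEquiv' f) ^ r = LinearMap.toMatrixAlgEquiv' (f ^ r) :=
      (map_pow _ _ _).symm
    rw [hfr, map_one] at h1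
    rw [hL]
    exact h1
  have hLdet : L.det = 1 := by
    apply eq_one_of_pow_eq_one r hr1
    rw [← Matrix.det_pow, hLr, Matrix.det_one]
  have hL1 : (L - 1).det ≠ 0 := by
    intro h0
    obtain ⟨v, hv0, hv⟩ := Matrix.exists_mulVec_eq_zero_iff.mpr h0
    have hmem : v ∈ fixE f := by
      rw [mem_fixE]
      have h1 : L *ᵥ v = v := by
        rw [Matrix.sub_mulVec, Matrix.one_mulVec] at hv
        exact sub_eq_zero.mp hv
      rw [hL, LinearMap.toMatrix'_mulVec] at h1
      exact h1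
    have h2 : fixE f = ⊥ := by
      rw [← Submodule.finrank_eq_zero]
      omega
    rw [h2, Submodule.mem_bot] at hmem
    exact hv0 hmem
  obtain ⟨m', hm'⟩ : ∃ m' : ℕ, c₀ + m' = n := ⟨n - c₀, by omega⟩
  let es : Fin c₀ ⊕ Fin m' ≃ Fin n := finSumFinEquiv.trans (finCongr hm')
  obtain ⟨X, hX⟩ : ∃ X : Matrix (Fin n) (Fin n) F,
    X = Matrix.reindex es es (Matrix.fromBlocks L 0 0 (1 : Matrix (Fin m') (Fin m') F)) := ⟨_, rfl⟩
  have hXdet : X.det = 1 := by
    rw [hX, Matrix.det_reindex_self, Matrix.det_fromBlocks_zero₂₁, hLdet, Matrix.det_one, mul_one]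
  have hXr : X ^ r = 1 := by
    rw [hX, ← Matrix.coe_reindexAlgEquiv F F, ← map_pow, fb_pow, hLr, one_pow, Matrix.fromBlocks_one,
      map_one]
  have hXsub : X - 1 = Matrix.reindex es es (Matrix.fromBlocks (L - 1) 0 0
      (0 : Matrix (Fin m') (Fin m') F)) := by
    have h1 : (1 : Matrix (Fin n) (Fin n) F) = Matrix.reindex es es
        (1 : Matrix (Fin c₀ ⊕ Fin m') (Fin c₀ ⊕ Fin m') F) := by
      rw [← Matrix.coe_reindexAlgEquiv F F, map_one]
    rw [hX, h1, ← Matrix.coe_reindexAlgEquiv F F, ← map_sub]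
    congr 1
    ext (i | i) (j | j) <;> simp [Matrix.one_apply]
  have hrank : (X - 1).rank = c₀ := by
    rw [hXsub, Matrix.rank_reindex]
    have h1 : Matrix.fromBlocks (L - 1) 0 0 (0 : Matrix (Fin m') (Fin m') F) =
        Matrix.fromBlocks (L - 1) 0 0 (1 : Matrix (Fin m') (Fin m') F) *
          Matrix.fromBlocks (1 : Matrix (Fin c₀) (Fin c₀) F) 0 0 (0 : Matrix (Fin m') (Fin m') F) := by
      rw [Matrix.fromBlocks_multiply]
      simp
    have h2 : IsUnit (Matrix.fromBlocks (L - 1) 0 0 (1 : Matrix (Fin m') (Fin m') F)).det := by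
      rw [Matrix.det_fromBlocks_zero₂₁, Matrix.det_one, mul_one]
      exact isUnit_iff_ne_zero.mpr hL1
    rw [h1, Matrix.rank_mul_eq_right_of_isUnit_det _ _ h2]
    have h3 : Matrix.fromBlocks (1 : Matrix (Fin c₀) (Fin c₀) F) 0 0 (0 : Matrix (Fin m') (Fin m') F) =
        Matrix.diagonal (Sum.elim (fun _ => (1 : F)) (fun _ => (0 : F))) := by
      rw [← Matrix.fromBlocks_diagonal, Matrix.diagonal_one, Matrix.diagonal_zero]
    rw [h3, Matrix.rank_diagonal]
    have h4 : Fintype.card {i : Fin c₀ ⊕ Fin m' // Sum.elim (fun _ => (1 : F)) (fun _ => (0 : F)) i ≠ 0} =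
        Fintype.card (Fin c₀) := by
      apply Fintype.card_congr
      refine ⟨fun i => match i with
        | ⟨Sum.inl j, _⟩ => j
        | ⟨Sum.inr j, h⟩ => absurd rfl h, fun j => ⟨Sum.inl j, by simp⟩, ?_, ?_⟩
      · rintro ⟨i | i, hi⟩
        · rfl
        · exact absurd rfl hi
      · intro j
        rfl
    rw [h4, Fintype.card_fin]
  refine ⟨X, hXdet, hXr, hrank, ?_⟩
  intro z hz
  have hn0 : 0 < n := by omega
  have hzr : z ^ r = 1 := by
    have h1 := hXr
    rw [hz, smul_pow, one_pow] at h1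
    have := congrFun (congrFun h1 ⟨0, hn0⟩) ⟨0, hn0⟩
    simpa using this
  have hz1 := eq_one_of_pow_eq_one r hr1 z hzr
  rw [hz, hz1, one_smul, sub_self, Matrix.rank_zero] at hrank
  omega

end finite3

end Cfsg.Agent.Lib.Helper9.TensB
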