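import Mathlib
import Cfsg.Agent.Lib.Helper9.TensB

set_option autoImplicit false
open scoped MatrixGroups Kronecker

namespace Cfsg.Agent.Lib.Helper9.TensC
open Matrix Cfsg.Agent.Lib.Helper9.TensA Cfsg.Agent.Lib.Helper9.TensB

variable {F : Type*} [Field F] {a b n : ℕ}

theorem eq_zero_of_rank_eq_zero {m : ℕ} (M : Matrix (Fin m) (Fin m) F) (h0 : M.rank = 0) : M = 0 := by
  unfold Matrix.rank at h0
  have h2 : LinearMap.range M.mulVecLin = ⊥ := by
    rw [← Submodule.finrank_eq_zero]
    exact h0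
  rw [LinearMap.range_eq_bot] at h2
  ext i j
  have := congrFun (LinearMap.congr_fun h2 (Pi.single j 1)) i
  simp only [Matrix.mulVecLin_apply, Matrix.mulVec_single_one, LinearMap.zero_apply,
    Pi.zero_apply] at this
  rw [Matrix.zero_apply, ← this]
  rfl

/-- rank of a diagonal matrix minus a scalar -/
theorem diag_rank [DecidableEq F] (d : Fin n → F) (lam : F) (S : Finset (Fin n))
    (hS : ∀ i, d i ≠ lam ↔ i ∈ S) : (Matrix.diagonal d - lam • 1).rank = S.card := by
  have h1 : Matrix.diagonal d - lam • (1 : Matrix (Fin n) (Fin n) F) =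
      Matrix.diagonal (fun i => d i - lam) := by
    ext i j
    by_cases hij : i = j
    · subst hij; simp
    · simp [hij]
  rw [h1, Matrix.rank_diagonal, Fintype.card_subtype]
  congr 1
  ext i
  simp only [Finset.mem_filter, Finset.mem_univ, true_and]
  rw [← hS i, sub_ne_zero]

/-- the transvection -/
theorem transvection_rank (hn : 2 ≤ n) :
    ∃ X : Matrix (Fin n) (Fin n) F, X.det = 1 ∧ (∀ k : ℕ, X ^ k = 1 + (k : F) • (X - 1)) ∧
      (X - (1 : F) • 1).rank = 1 ∧ ∀ z : F, X ≠ z • 1 := by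
  classical
  let i₀ : Fin n := ⟨0, by omega⟩
  let i₁ : Fin n := ⟨1, by omega⟩
  have h01 : i₀ ≠ i₁ := by simp [i₀, i₁, Fin.ext_iff]
  obtain ⟨N, hN⟩ : ∃ N : Matrix (Fin n) (Fin n) F,
    N = Matrix.vecMulVec (Pi.single i₀ 1) (Pi.single i₁ 1) := ⟨_, rfl⟩
  have hNN : N * N = 0 := by
    rw [hN, Matrix.vecMulVec_mul_vecMulVec]
    have : (Pi.single i₁ (1 : F) : Fin n → F) ⬝ᵥ Pi.single i₀ 1 = 0 := by
      rw [single_dotProduct, one_mul, Pi.single_eq_of_ne h01.symm]
    rw [this, zero_smul, Matrix.vecMulVec_zero]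
  have hN01 : N i₀ i₁ = 1 := by
    rw [hN, Matrix.vecMulVec_apply]
    simp
  have hN0 : N ≠ 0 := by
    intro h
    rw [h] at hN01
    simp at hN01
  refine ⟨1 + N, ?_, ?_, ?_, ?_⟩
  · have htr : (1 + N) = (Matrix.transvection i₀ i₁ (1 : F)) := by
      rw [hN]
      ext i j
      simp [Matrix.transvection, Matrix.vecMulVec_apply, Matrix.single_apply, Pi.single_apply]
      by_cases hi : i = i₀ <;> by_cases hj : j = i₁ <;> simp [hi, hj, eq_comm]
    rw [htr, Matrix.det_transvection_of_ne _ _ h01]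
  · intro k
    induction k with
    | zero => simp
    | succ k ih =>
      rw [pow_succ, ih, add_sub_cancel_left]
      simp only [Matrix.add_mul, Matrix.mul_add, Matrix.one_mul, Matrix.mul_one, Matrix.smul_mul, hNN,
        smul_zero, add_zero, Nat.cast_succ, add_smul, one_smul]
      abel
  · rw [one_smul, add_sub_cancel_left]
    have h1 : N.rank ≤ 1 := by
      rw [hN]
      exact Matrix.rank_vecMulVec_le _ _
    have h2 : N.rank ≠ 0 := fun h => hN0 (eq_zero_of_rank_eq_zero N h)
    omega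
  · intro z hz
    have e01 := congrFun (congrFun hz i₀) i₁
    simp only [Matrix.add_apply, Matrix.one_apply_ne h01, zero_add, hN01, Matrix.smul_apply,
      smul_eq_mul, mul_zero] at e01
    exact one_ne_zero e01


/-- diagonal element with two special entries -/
theorem two_diag (hn : 3 ≤ n) (u v : F) (huv : u * v = 1) (hu1 : u ≠ 1) (hv1 : v ≠ 1) :
    ∃ X : Matrix (Fin n) (Fin n) F, X.det = 1 ∧
      (∀ k : ℕ, u ^ k = 1 → X ^ k = 1) ∧
      (X - (1 : F) • 1).rank = 2 ∧ (v ≠ u → (X - u • 1).rank = n - 1) ∧ ∀ z : F, X ≠ z • 1 := by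
  classical
  let i₀ : Fin n := ⟨0, by omega⟩
  let i₁ : Fin n := ⟨1, by omega⟩
  let i₂ : Fin n := ⟨2, by omega⟩
  have h01 : i₀ ≠ i₁ := by simp [i₀, i₁, Fin.ext_iff]
  have h02 : i₂ ≠ i₀ := by simp [i₀, i₂, Fin.ext_iff]
  have h12 : i₂ ≠ i₁ := by simp [i₁, i₂, Fin.ext_iff]
  obtain ⟨d, hd⟩ : ∃ d : Fin n → F,
    d = fun i => (if i = i₀ then u else 1) * (if i = i₁ then v else 1) := ⟨_, rfl⟩
  have hd0 : d i₀ = u := by rw [hd]; simp [h01]
  have hd1 : d i₁ = v := by rw [hd]; simp [h01.symm]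
  have hdo : ∀ i, i ≠ i₀ → i ≠ i₁ → d i = 1 := by
    intro i hi0 hi1
    rw [hd]; simp [hi0, hi1]
  have hprod : ∏ i, d i = 1 := by
    rw [hd, Finset.prod_mul_distrib, Finset.prod_ite_eq' Finset.univ i₀,
      Finset.prod_ite_eq' Finset.univ i₁]
    simp [huv]
  refine ⟨Matrix.diagonal d, by rw [Matrix.det_diagonal, hprod], ?_, ?_, ?_, ?_⟩
  · intro k hk
    have hvk : v ^ k = 1 := by
      have : (u * v) ^ k = 1 := by rw [huv, one_pow]
      rw [mul_pow, hk, one_mul] at this
      exact this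
    rw [Matrix.diagonal_pow, ← Matrix.diagonal_one]
    congr 1
    funext i
    by_cases hi0 : i = i₀
    · rw [hi0]; simp [hd0, hk]
    · by_cases hi1 : i = i₁
      · rw [hi1]; simp [hd1, hvk]
      · simp [hdo i hi0 hi1]
  · rw [diag_rank d 1 {i₀, i₁}, Finset.card_pair h01]
    intro i
    rw [Finset.mem_insert, Finset.mem_singleton]
    constructor
    · intro h
      by_contra hcon
      push Not at hcon
      exact h (hdo i hcon.1 hcon.2)
    · rintro (h | h)
      · rw [h, hd0]; exact hu1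
      · rw [h, hd1]; exact hv1
  · intro hvu
    rw [diag_rank d u (Finset.univ.erase i₀), Finset.card_erase_of_mem (Finset.mem_univ _),
      Finset.card_univ, Fintype.card_fin]
    intro i
    rw [Finset.mem_erase]
    constructor
    · intro h
      refine ⟨?_, Finset.mem_univ _⟩
      intro hi
      rw [hi, hd0] at h
      exact h rfl
    · rintro ⟨hi0, -⟩
      by_cases hi1 : i = i₁
      · rw [hi1, hd1]; exact hvu
      · rw [hdo i hi0 hi1]; exact fun h => hu1 h.symm
  · intro z hz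
    have e0 := congrFun (congrFun hz i₀) i₀
    have e2 := congrFun (congrFun hz i₂) i₂
    simp only [Matrix.diagonal_apply_eq, Matrix.smul_apply, Matrix.one_apply_eq, smul_eq_mul,
      mul_one] at e0 e2
    rw [hd0] at e0
    rw [hdo i₂ h02 h12] at e2
    exact hu1 (e0.trans e2.symm)

/-- scalar multiple of a reflection -/
theorem refl_diag (hn : 2 ≤ n) (lam : F) (h2 : (2 : F) ≠ 0) (hlam : lam ^ n = -1) :
    ∃ X : Matrix (Fin n) (Fin n) F, X.det = 1 ∧ X ^ 2 = (lam * lam) • 1 ∧
      (X - lam • 1).rank = 1 ∧ ∀ z : F, X ≠ z • 1 := by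
  classical
  have hlam0 : lam ≠ 0 := by
    rintro rfl
    rw [zero_pow (by omega)] at hlam
    have : (1 : F) = 0 := by
      have h1 : (0 : F) + 1 = -1 + 1 := by rw [← hlam]
      rw [zero_add, neg_add_cancel] at h1
      exact h1
    exact one_ne_zero this
  have hneg : -lam ≠ lam := by
    intro h
    have : (2 : F) * lam = 0 := by linear_combination -h
    rcases mul_eq_zero.mp this with h | h
    · exact h2 h
    · exact hlam0 h
  let i₀ : Fin n := ⟨0, by omega⟩
  let i₁ : Fin n := ⟨1, by omega⟩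
  have h01 : i₀ ≠ i₁ := by simp [i₀, i₁, Fin.ext_iff]
  obtain ⟨d, hd⟩ : ∃ d : Fin n → F, d = fun i => lam * (if i = i₀ then -1 else 1) := ⟨_, rfl⟩
  have hd0 : d i₀ = -lam := by rw [hd]; simp
  have hdo : ∀ i, i ≠ i₀ → d i = lam := by
    intro i hi
    rw [hd]; simp [hi]
  have hprod : ∏ i, d i = 1 := by
    rw [hd, Finset.prod_mul_distrib, Finset.prod_ite_eq' Finset.univ i₀, Finset.prod_const,
      Finset.card_univ, Fintype.card_fin, hlam]
    simp
  refine ⟨Matrix.diagonal d, by rw [Matrix.det_diagonal, hprod], ?_, ?_, ?_⟩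
  · rw [Matrix.diagonal_pow]
    ext i j
    by_cases hij : i = j
    · subst hij
      rw [Matrix.diagonal_apply_eq, Matrix.smul_apply, Matrix.one_apply_eq, smul_eq_mul, mul_one]
      by_cases hi : i = i₀
      · rw [hi, Pi.pow_apply, hd0]; ring
      · rw [Pi.pow_apply, hdo i hi]; ring
    · rw [Matrix.diagonal_apply_ne _ hij, Matrix.smul_apply, Matrix.one_apply_ne hij, smul_zero]
  · rw [diag_rank d lam {i₀}, Finset.card_singleton]
    intro i
    rw [Finset.mem_singleton]
    constructor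
    · intro h
      by_contra hcon
      exact h (hdo i hcon)
    · intro h
      rw [h, hd0]
      exact hneg
  · intro z hz
    have e0 := congrFun (congrFun hz i₀) i₀
    have e1 := congrFun (congrFun hz i₁) i₁
    simp only [Matrix.diagonal_apply_eq, Matrix.smul_apply, Matrix.one_apply_eq, smul_eq_mul,
      mul_one] at e0 e1
    rw [hd0] at e0
    rw [hdo i₁ h01.symm] at e1
    exact hneg (e0.trans e1.symm)

end Cfsg.Agent.Lib.Helper9.TensC
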