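import Mathlib
import Cfsg.Agent.Lib.Helper9.TensC
import Cfsg.Agent.Lib.Helper15.FiniteFieldPow

set_option autoImplicit false
open scoped MatrixGroups Kronecker

namespace Cfsg.Agent.Lib.Helper9.TensD
open Matrix Cfsg.Agent.Lib.Helper9.TensA Cfsg.Agent.Lib.Helper9.TensB Cfsg.Agent.Lib.Helper9.TensC
  Cfsg.Agent.Lib.Helper12.Elus

variable {F : Type*} [Field F] {a b n : ℕ}

/-- the hypothesis "every element of prime order is conjugate into the tensor subgroup" -/
def AllConj (e : Fin n ≃ Fin a × Fin b) (P : GL (Fin n) F) (r : ℕ) : Prop :=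
  ∀ x ∈ Cfsg.Geo.specialLinear (Fin n) F,
    (∃ z : F, ((x ^ r : GL (Fin n) F) : Matrix (Fin n) (Fin n) F) = z • (1 : Matrix (Fin n) (Fin n) F)) →
    (∀ z : F, (x : Matrix (Fin n) (Fin n) F) ≠ z • (1 : Matrix (Fin n) (Fin n) F)) →
    ∃ g ∈ Cfsg.Geo.specialLinear (Fin n) F, g⁻¹ * x * g ∈ Cfsg.Geo.tensorProductSubgroup a b e P

theorem mem_specialLinear (x : GL (Fin n) F) :
    x ∈ Cfsg.Geo.specialLinear (Fin n) F ↔ (x : Matrix (Fin n) (Fin n) F).det = 1 := by
  unfold Cfsg.Geo.specialLinear
  rw [MonoidHom.mem_ker, Units.ext_iff, Matrix.GeneralLinearGroup.val_det_apply, Units.val_one]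

theorem pack {e : Fin n ≃ Fin a × Fin b} {P : GL (Fin n) F} {r : ℕ} (hall : AllConj e P r)
    (X : Matrix (Fin n) (Fin n) F) (hdet : X.det = 1) (z : F) (hX : X ^ r = z • 1)
    (hns : ∀ z : F, X ≠ z • 1) :
    ∃ (A : GL (Fin a) F) (B : GL (Fin b) F),
      Sim e X ((A : Matrix (Fin a) (Fin a) F) ⊗ₖ (B : Matrix (Fin b) (Fin b) F)) := by
  have hd0 : X.det ≠ 0 := by rw [hdet]; exact one_ne_zero
  obtain ⟨x, hx⟩ : ∃ x : GL (Fin n) F, x = Matrix.GeneralLinearGroup.mkOfDetNeZero X hd0 := ⟨_, rfl⟩
  have hxX : (x : Matrix (Fin n) (Fin n) F) = X := by rw [hx]; rfl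
  obtain ⟨g, -, hg⟩ := hall x ((mem_specialLinear x).2 (by rw [hxX, hdet]))
    ⟨z, by rw [Units.val_pow_eq_pow_val, hxX, hX]⟩ (by rw [hxX]; exact hns)
  obtain ⟨A, B, hS⟩ := sim_of_mem e P x g hg
  rw [hxX] at hS
  exact ⟨A, B, hS⟩

variable [Fintype F]

theorem c0_le {p : ℕ} [Fact p.Prime] [CharP F p] (r : ℕ) [Fact r.Prime] (hrp : r ≠ p) (H : Subgroup (GL (Fin n) F))
    (hΩ : r ∣ H.relIndex (Cfsg.Geo.specialLinear (Fin n) F)) :
    orderOf (Fintype.card F : ZMod r) ≤ n := by
  classical
  have h1 : r ∣ Nat.card (Cfsg.Geo.specialLinear (Fin n) F) := by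
    refine hΩ.trans ?_
    unfold Subgroup.relIndex
    exact Subgroup.index_dvd_card _
  obtain ⟨y, hy⟩ := exists_prime_orderOf_dvd_card' r h1
  have hyr : ((y : GL (Fin n) F) : Matrix (Fin n) (Fin n) F) ^ r = 1 := by
    have h2 : y ^ r = 1 := by rw [← hy]; exact pow_orderOf_eq_one y
    have h3 : ((y : GL (Fin n) F)) ^ r = 1 := by
      rw [← Subgroup.coe_pow, h2, Subgroup.coe_one]
    rw [← Units.val_pow_eq_pow_val, h3, Units.val_one]
  have hy1 : ((y : GL (Fin n) F) : Matrix (Fin n) (Fin n) F) ≠ 1 := by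
    intro h
    have h2 : (y : GL (Fin n) F) = 1 := Units.ext h
    have h3 : y = 1 := Subtype.ext h2
    rw [h3, orderOf_one] at hy
    exact (Fact.out : r.Prime).one_lt.ne hy
  have hd := c0_dvd_rank (p := p) r hrp _ hyr
  have hr0 : (((y : GL (Fin n) F) : Matrix (Fin n) (Fin n) F) - 1).rank ≠ 0 := by
    intro h0
    exact hy1 (sub_eq_zero.mp (eq_zero_of_rank_eq_zero _ h0))
  have hle : (((y : GL (Fin n) F) : Matrix (Fin n) (Fin n) F) - 1).rank ≤ n := by
    have := Matrix.rank_le_width (((y : GL (Fin n) F) : Matrix (Fin n) (Fin n) F) - 1)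
    simpa using this
  exact (Nat.le_of_dvd (Nat.pos_of_ne_zero hr0) hd).trans hle

theorem forward {p : ℕ} [Fact p.Prime] [CharP F p] {q : ℕ} (hq : Fintype.card F = q) (hab : n = a * b) (ha : 2 ≤ a) (hlt : a < b)
    (e : Fin n ≃ Fin a × Fin b) (P : GL (Fin n) F) (r : ℕ) [Fact r.Prime]
    (hΩ : r ∣ (Cfsg.Geo.tensorProductSubgroup a b e P).relIndex (Cfsg.Geo.specialLinear (Fin n) F))
    (hall : AllConj e P r) :
    r = 2 ∧ a = 2 ∧ Odd q ∧ padicValNat 2 (q - 1) ≤ padicValNat 2 n := by
  classical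
  have hn6 : 6 ≤ n := by
    rw [hab]
    calc 6 = 2 * 3 := by norm_num
      _ ≤ a * b := Nat.mul_le_mul ha (by omega)
  have hna : ¬ a ∣ 1 := by
    intro h
    have := Nat.le_of_dvd one_pos h
    omega
  by_cases hrp : r = p
  · exfalso
    obtain ⟨X, hdet, hpow, hrank, hns⟩ := transvection_rank (F := F) (n := n) (by omega)
    have hXr : X ^ r = (1 : F) • 1 := by
      rw [hpow r, hrp, CharP.cast_eq_zero F p, zero_smul, add_zero, one_smul]
    obtain ⟨A, B, hS⟩ := pack hall X hdet 1 hXr hns
    refine not_sim e X A B hS 1 1 ?_ ?_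
    · rw [hrank]; omega
    · rw [hrank]; exact hna
  · have hc₀n := c0_le (p := p) r hrp _ hΩ
    have hc₀pos := orderOf_card_pos (F := F) (p := p) r hrp
    by_cases hc₀ : 2 ≤ orderOf (Fintype.card F : ZMod r)
    · exfalso
      obtain ⟨X, hdet, hXr, hrank, hns⟩ := exists_block (F := F) (p := p) (n := n) r hrp hc₀ hc₀n
      obtain ⟨A, B, hS⟩ := pack hall X hdet 1 (by rw [hXr, one_smul]) hns
      exact not_sim_block (p := p) r hrp hc₀ ha hlt e X hXr hrank A B hS
    · have hc1 : orderOf (Fintype.card F : ZMod r) = 1 := by omega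
      have hrq : r ∣ Fintype.card F - 1 := (orderOf_card_eq_one_iff r).1 hc1
      by_cases hr2 : r = 2
      · have hodd : Odd q := by
          rw [← hq]
          have hpos : 0 < Fintype.card F := Fintype.card_pos
          rw [hr2] at hrq
          obtain ⟨k, hk⟩ := hrq
          exact ⟨k, by omega⟩
        have h2 : (2 : F) ≠ 0 := Cfsg.Agent.Lib.Helper15.two_ne_zero_of_odd_card (hq ▸ hodd)
        by_cases hv : padicValNat 2 (q - 1) ≤ padicValNat 2 n
        · by_cases ha2 : a = 2
          · exact ⟨hr2, ha2, hodd, hv⟩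
          · exfalso
            have hu1 : (-1 : F) ≠ 1 := by
              intro h
              apply h2
              have : (1 : F) + 1 = 0 := by nth_rw 1 [← h]; ring
              rw [← this]; norm_num
            obtain ⟨X, hdet, hpow, hrank, -, hns⟩ :=
              two_diag (F := F) (n := n) (by omega) (-1) (-1) (by ring) hu1 hu1
            have hXr : X ^ r = (1 : F) • 1 := by
              rw [hpow r (by rw [hr2]; ring), one_smul]
            obtain ⟨A, B, hS⟩ := pack hall X hdet 1 hXr hns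
            refine not_sim e X A B hS 1 1 ?_ ?_
            · rw [hrank]; omega
            · rw [hrank]
              intro h
              have := Nat.le_of_dvd (by norm_num) h
              omega
        · exfalso
          push Not at hv
          obtain ⟨lam, hlam⟩ :=
            (Cfsg.Agent.Lib.Helper15.exists_pow_eq_neg_one_iff hq hodd n (by omega)).mpr hv
          obtain ⟨X, hdet, hX2, hrank, hns⟩ := refl_diag (F := F) (n := n) (by omega) lam h2 hlam
          obtain ⟨A, B, hS⟩ := pack hall X hdet (lam * lam) (by rw [hr2, hX2]) hns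
          refine not_sim e X A B hS lam lam ?_ ?_
          · rw [hrank]; omega
          · rw [hrank]; exact hna
      · exfalso
        have hcard : r ∣ Fintype.card Fˣ := by
          rw [Fintype.card_units]; exact hrq
        obtain ⟨μ, hμ⟩ := exists_prime_orderOf_dvd_card r hcard
        have hμr : (μ : F) ^ r = 1 := by
          rw [← Units.val_pow_eq_pow_val, ← hμ, pow_orderOf_eq_one, Units.val_one]
        have hμ1 : (μ : F) ≠ 1 := by
          intro h
          have : μ = 1 := Units.ext h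
          rw [this, orderOf_one] at hμ
          exact (Fact.out : r.Prime).one_lt.ne hμ
        have hμi1 : ((μ⁻¹ : Fˣ) : F) ≠ 1 := by
          intro h
          have : μ⁻¹ = 1 := Units.ext h
          rw [inv_eq_one] at this
          rw [this, orderOf_one] at hμ
          exact (Fact.out : r.Prime).one_lt.ne hμ
        have hne : ((μ⁻¹ : Fˣ) : F) ≠ (μ : F) := by
          intro h
          have h2 : μ⁻¹ = μ := Units.ext h
          have h3 : μ ^ 2 = 1 := by
            rw [pow_two]
            nth_rw 1 [← h2]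
            exact inv_mul_cancel μ
          have h4 := orderOf_dvd_of_pow_eq_one h3
          rw [hμ] at h4
          exact hr2 ((Nat.prime_dvd_prime_iff_eq Fact.out Nat.prime_two).1 h4)
        obtain ⟨X, hdet, hpow, hrank1, hrank2, hns⟩ :=
          two_diag (F := F) (n := n) (by omega) (μ : F) ((μ⁻¹ : Fˣ) : F)
            (by rw [← Units.val_mul, mul_inv_cancel, Units.val_one]) hμ1 hμi1
        have hXr : X ^ r = (1 : F) • 1 := by
          rw [hpow r hμr, one_smul]
        obtain ⟨A, B, hS⟩ := pack hall X hdet 1 hXr hns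
        refine not_sim e X A B hS 1 (μ : F) ?_ ?_
        · rw [hrank1]; omega
        · rw [hrank2 hne]
          intro h
          have h5 : a ∣ n := ⟨b, hab⟩
          have h6 : a ∣ n - (n - 1) := Nat.dvd_sub h5 h
          have h7 : n - (n - 1) = 1 := by omega
          rw [h7] at h6
          exact hna h6

end Cfsg.Agent.Lib.Helper9.TensD
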