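import Mathlib
import Cfsg.Agent.Lib.Helper9.TensD
import Cfsg.Agent.Lib.Helper9.ExtE

set_option autoImplicit false
open scoped MatrixGroups Kronecker

namespace Cfsg.Agent.Lib.Helper9.TensE
open Matrix Cfsg.Agent.Lib.Helper9.TensA Cfsg.Agent.Lib.Helper9.TensD Cfsg.Agent.Lib.Helper9.SympB
  Cfsg.Agent.Lib.Helper9.ExtE

variable {F : Type*} [Field F] {b n : ℕ}

/-- Kronecker model as a block diagonal matrix -/
theorem BD_kron (e : Fin n ≃ Fin 2 × Fin b) (A : Matrix (Fin 2) (Fin 2) F) (δ : Fin b → F) :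
    BD e.symm (fun k => δ k • A) = Matrix.reindex e.symm e.symm (A ⊗ₖ Matrix.diagonal δ) := by
  ext i j
  unfold BD
  rw [Matrix.reindex_apply, Matrix.reindex_apply, Matrix.submatrix_apply, Matrix.submatrix_apply]
  obtain ⟨i1, i2⟩ := e.symm.symm i
  obtain ⟨j1, j2⟩ := e.symm.symm j
  rw [Matrix.blockDiagonal_apply, Matrix.kroneckerMap_apply, Matrix.diagonal_apply]
  by_cases h : i2 = j2
  · rw [if_pos h, if_pos h, Matrix.smul_apply, smul_eq_mul, mul_comm]
  · rw [if_neg h, if_neg h, mul_zero]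

/-- column permutation of a diagonalisation -/
theorem diag_perm (t h : Matrix (Fin n) (Fin n) F) (d : Fin n → F) (σ : Equiv.Perm (Fin n))
    (hdet : h.det ≠ 0) (hth : t * h = h * Matrix.diagonal d) :
    ∃ h' : Matrix (Fin n) (Fin n) F, h'.det ≠ 0 ∧ t * h' = h' * Matrix.diagonal (fun i => d (σ i)) := by
  refine ⟨h.submatrix id σ, ?_, ?_⟩
  · rw [Matrix.det_permute']
    refine mul_ne_zero ?_ hdet
    rcases Int.units_eq_one_or (Equiv.Perm.sign σ) with h1 | h1 <;> rw [h1] <;> simp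
  · ext i j
    have h1 := congrFun (congrFun hth i) (σ j)
    rw [Matrix.mul_diagonal] at h1
    rw [Matrix.mul_diagonal, Matrix.submatrix_apply, id, ← h1]
    simp only [Matrix.mul_apply, Matrix.submatrix_apply, id]

/-- transport to the tensor product subgroup -/
theorem transport (e : Fin n ≃ Fin 2 × Fin b) (P x : GL (Fin n) F)
    (A : Matrix (Fin 2) (Fin 2) F) (hA : A.det ≠ 0) (δ : Fin b → F) (hδ : ∀ k, δ k ≠ 0) (k₀ : Fin b)
    (hcent : ∀ c : F, c ≠ 0 → ∃ c₂ : Matrix (Fin 2) (Fin 2) F, c₂ * A = A * c₂ ∧ c₂.det = c)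
    (g₂ : Matrix (Fin n) (Fin n) F) (hg₂ : g₂.det ≠ 0)
    (hxg : (x : Matrix (Fin n) (Fin n) F) * g₂ = g₂ * BD e.symm (fun k => δ k • A)) :
    ∃ g ∈ Cfsg.Geo.specialLinear (Fin n) F, g⁻¹ * x * g ∈ Cfsg.Geo.tensorProductSubgroup 2 b e P := by
  classical
  have hPdet : (P : Matrix (Fin n) (Fin n) F).det ≠ 0 :=
    ((Matrix.isUnit_iff_isUnit_det _).mp P.isUnit).ne_zero
  obtain ⟨c₂, hc₂A, hc₂det⟩ := hcent ((P : Matrix (Fin n) (Fin n) F).det / g₂.det)
    (div_ne_zero hPdet hg₂)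
  obtain ⟨M₀, hM₀⟩ : ∃ M₀ : Matrix (Fin n) (Fin n) F, M₀ = BD e.symm (fun k => δ k • A) := ⟨_, rfl⟩
  obtain ⟨c₀, hc₀⟩ : ∃ c₀ : Matrix (Fin n) (Fin n) F,
    c₀ = BD e.symm (Function.update (fun _ => (1 : Matrix (Fin 2) (Fin 2) F)) k₀ c₂) := ⟨_, rfl⟩
  have hc₀M : c₀ * M₀ = M₀ * c₀ := by
    rw [hc₀, hM₀, BD_mul, BD_mul]
    congr 1
    funext i
    by_cases hi : i = k₀
    · subst hi
      simp only [Function.update_self]
      rw [Matrix.mul_smul, Matrix.smul_mul, hc₂A]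
    · simp only [Function.update_of_ne hi, Matrix.one_mul, Matrix.mul_one]
  have hc₀det : c₀.det = (P : Matrix (Fin n) (Fin n) F).det / g₂.det := by
    rw [hc₀, BD_det]
    have : ∀ i, (Function.update (fun _ => (1 : Matrix (Fin 2) (Fin 2) F)) k₀ c₂ i).det =
        Function.update (fun _ => (1 : F)) k₀ c₂.det i := by
      intro i
      by_cases hi : i = k₀
      · subst hi
        simp
      · simp [Function.update_of_ne hi]
    simp_rw [this]
    rw [Finset.prod_update_of_mem (Finset.mem_univ _)]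
    simp [hc₂det]
  have hM₀det : M₀.det ≠ 0 := by
    rw [hM₀, BD_det]
    refine Finset.prod_ne_zero_iff.mpr (fun k _ => ?_)
    rw [Matrix.det_smul]
    exact mul_ne_zero (pow_ne_zero _ (hδ k)) hA
  have hc₀det0 : c₀.det ≠ 0 := by
    rw [hc₀det]; exact div_ne_zero hPdet hg₂
  let m₀ : GL (Fin n) F := Matrix.GeneralLinearGroup.mkOfDetNeZero M₀ hM₀det
  let c₀' : GL (Fin n) F := Matrix.GeneralLinearGroup.mkOfDetNeZero c₀ hc₀det0
  let g₂' : GL (Fin n) F := Matrix.GeneralLinearGroup.mkOfDetNeZero g₂ hg₂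
  have hm₀ : (m₀ : Matrix (Fin n) (Fin n) F) = M₀ := rfl
  have hc₀' : (c₀' : Matrix (Fin n) (Fin n) F) = c₀ := rfl
  have hg₂' : (g₂' : Matrix (Fin n) (Fin n) F) = g₂ := rfl
  have h1 : x * g₂' = g₂' * m₀ := by
    apply Units.ext
    rw [Units.val_mul, Units.val_mul, hm₀, hg₂', hM₀, hxg]
  have h2 : c₀' * m₀ = m₀ * c₀' := by
    apply Units.ext
    rw [Units.val_mul, Units.val_mul, hm₀, hc₀', hc₀M]
  obtain ⟨g, hg⟩ : ∃ g : GL (Fin n) F, g = g₂' * c₀' * P⁻¹ := ⟨_, rfl⟩
  obtain ⟨Y, hY⟩ : ∃ Y : GL (Fin n) F, Y = P * m₀ * P⁻¹ := ⟨_, rfl⟩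
  have h3 : x * g = g * Y := by
    rw [hg, hY]
    calc x * (g₂' * c₀' * P⁻¹) = (x * g₂') * c₀' * P⁻¹ := by group
      _ = g₂' * (m₀ * c₀') * P⁻¹ := by rw [h1]; group
      _ = g₂' * (c₀' * m₀) * P⁻¹ := by rw [h2]
      _ = g₂' * c₀' * P⁻¹ * (P * m₀ * P⁻¹) := by group
  have h4 : g⁻¹ * x * g = Y := by
    rw [mul_assoc, h3, inv_mul_cancel_left]
  refine ⟨g, ?_, ?_⟩
  · rw [mem_specialLinear, hg, Units.val_mul, Units.val_mul, Matrix.det_mul, Matrix.det_mul, hg₂',
      hc₀', hc₀det]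
    have h5 : ((P⁻¹ : GL (Fin n) F) : Matrix (Fin n) (Fin n) F).det *
        (P : Matrix (Fin n) (Fin n) F).det = 1 := by
      rw [← Matrix.det_mul, ← Units.val_mul, inv_mul_cancel, Units.val_one, Matrix.det_one]
    have h6 : ((P⁻¹ : GL (Fin n) F) : Matrix (Fin n) (Fin n) F).det =
        ((P : Matrix (Fin n) (Fin n) F).det)⁻¹ := eq_inv_of_mul_eq_one_left h5
    rw [h6]
    field_simp
  · rw [h4]
    have hδdet : (Matrix.diagonal δ).det ≠ 0 := by
      rw [Matrix.det_diagonal]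
      exact Finset.prod_ne_zero_iff.mpr (fun k _ => hδ k)
    refine mem_of_eq e P Y (Matrix.GeneralLinearGroup.mkOfDetNeZero A hA)
      (Matrix.GeneralLinearGroup.mkOfDetNeZero (Matrix.diagonal δ) hδdet) ?_
    rw [hY, Units.val_mul, Units.val_mul, hm₀, hM₀, BD_kron]
    rfl

/-- nonsquare scalar -/
theorem nonsquare_conj [Fintype F] (hodd : Odd (Fintype.card F)) (hb : 0 < b)
    (e : Fin n ≃ Fin 2 × Fin b) (P x : GL (Fin n) F) (z : F) (hz : ¬ IsSquare z)
    (hx : (x : Matrix (Fin n) (Fin n) F) * (x : Matrix (Fin n) (Fin n) F) = z • 1) :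
    ∃ g ∈ Cfsg.Geo.specialLinear (Fin n) F, g⁻¹ * x * g ∈ Cfsg.Geo.tensorProductSubgroup 2 b e P := by
  classical
  have hz0 : z ≠ 0 := by
    rintro rfl
    exact hz ⟨0, by simp⟩
  obtain ⟨g₂, hg₂, hxg₂⟩ := gen_conj (x : Matrix (Fin n) (Fin n) F) z hz hx e.symm
  refine transport e P x (X2 z) ?_ (fun _ => 1) (fun _ => one_ne_zero) ⟨0, hb⟩ ?_ g₂ hg₂ ?_
  · simp [X2, Matrix.det_fin_two, hz0]
  · intro c _
    obtain ⟨a, b', hab⟩ := exists_norm_eq hodd z c hz0
    refine ⟨a • 1 + b' • X2 z, ?_, ?_⟩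
    · rw [Matrix.add_mul, Matrix.mul_add, Matrix.smul_mul, Matrix.mul_smul, Matrix.one_mul,
        Matrix.mul_one, Matrix.smul_mul, Matrix.mul_smul]
    · rw [← hab]
      simp [X2, Matrix.det_fin_two]
      ring
  · rw [hxg₂]
    congr 2
    funext k
    rw [one_smul]

/-- square scalar -/
theorem square_conj [Fintype F] (hodd : Odd (Fintype.card F)) (hb : 0 < b) (hn : n = 2 * b)
    (e : Fin n ≃ Fin 2 × Fin b) (P x : GL (Fin n) F)
    (hdetx : (x : Matrix (Fin n) (Fin n) F).det = 1) (lam : F) (hlam : lam ≠ 0)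
    (hx : (x : Matrix (Fin n) (Fin n) F) * (x : Matrix (Fin n) (Fin n) F) = (lam * lam) • 1)
    (hpow : lam ^ n ≠ -1) :
    ∃ g ∈ Cfsg.Geo.specialLinear (Fin n) F, g⁻¹ * x * g ∈ Cfsg.Geo.tensorProductSubgroup 2 b e P := by
  have h2 : (2 : F) ≠ 0 := Cfsg.Agent.Lib.Helper15.two_ne_zero_of_odd_card hodd
  classical
  have hne1 : (-1 : F) ≠ 1 := by
    intro h
    apply h2
    have : (1 : F) + 1 = 0 := by
      nth_rewrite 1 [← h]
      ring
    rw [← this]; norm_num
  obtain ⟨t, ht⟩ : ∃ t : Matrix (Fin n) (Fin n) F, t = lam⁻¹ • (x : Matrix (Fin n) (Fin n) F) := ⟨_, rfl⟩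
  have ht2 : t ^ 2 = 1 := by
    rw [pow_two, ht, Matrix.smul_mul, Matrix.mul_smul, hx, smul_smul, smul_smul]
    have : lam⁻¹ * lam⁻¹ * (lam * lam) = 1 := by field_simp
    rw [this, one_smul]
  obtain ⟨h, d, hdet, hth, hd⟩ := Cfsg.Agent.Lib.Helper9.Ext27A.exists_diag_sq h2 t ht2
  have hd' : ∀ i, d i = 1 ∨ d i = -1 := by
    intro i
    have h1 : (d i - 1) * (d i + 1) = 0 := by
      have := hd i
      linear_combination this
    rcases mul_eq_zero.mp h1 with h | h
    · left; linear_combination h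
    · right; linear_combination h
  have hxt : (x : Matrix (Fin n) (Fin n) F) = lam • t := by
    rw [ht, smul_smul, mul_inv_cancel₀ hlam, one_smul]
  -- determinant of t
  have htdet : t.det = ∏ i, d i := by
    have := congrArg Matrix.det hth
    rw [Matrix.det_mul, Matrix.det_mul, Matrix.det_diagonal, mul_comm] at this
    exact mul_left_cancel₀ hdet this
  have hprod : ∏ i, d i = (-1) ^ Fintype.card {i // ¬ d i = 1} := by
    have h1 : ∀ i, d i = if d i = 1 then 1 else -1 := by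
      intro i
      rcases hd' i with h | h
      · rw [if_pos h, h]
      · rw [if_neg (by rw [h]; exact hne1), h]
    rw [Finset.prod_congr rfl (fun i _ => h1 i), Finset.prod_ite, Finset.prod_const_one, one_mul,
      Finset.prod_const, Fintype.card_subtype]
  have hdetx' : lam ^ n * (-1) ^ Fintype.card {i // ¬ d i = 1} = 1 := by
    have := hdetx
    rw [hxt, Matrix.det_smul, Fintype.card_fin, htdet, hprod] at this
    exact this
  have hbeven : Even (Fintype.card {i // ¬ d i = 1}) := by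
    by_contra hodd
    rw [Nat.not_even_iff_odd] at hodd
    rw [hodd.neg_one_pow] at hdetx'
    apply hpow
    linear_combination -hdetx'
  have hsum : Fintype.card {i // d i = 1} + Fintype.card {i // ¬ d i = 1} = n := by
    rw [Fintype.card_subtype_compl, Fintype.card_fin]
    have := Fintype.card_subtype_le (fun i : Fin n => d i = 1)
    rw [Fintype.card_fin] at this
    omega
  have hne : Even n := ⟨b, by omega⟩
  have haeven : Even (Fintype.card {i // d i = 1}) := by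
    have : Even (Fintype.card {i // d i = 1} + Fintype.card {i // ¬ d i = 1}) := by rw [hsum]; exact hne
    exact (Nat.even_add.mp this).mpr hbeven
  obtain ⟨a', ha'⟩ := haeven
  obtain ⟨b', hb'⟩ := hbeven
  have hc1 : Fintype.card {i // d i = 1} = Fintype.card (Fin 2 × Fin a') := by
    rw [ha']; simp; ring
  have hc2 : Fintype.card {i // ¬ d i = 1} = Fintype.card (Fin 2 × Fin b') := by
    rw [hb']; simp; ring
  let ep : {i // d i = 1} ≃ Fin 2 × Fin a' := Fintype.equivOfCardEq hc1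
  let em : {i // ¬ d i = 1} ≃ Fin 2 × Fin b' := Fintype.equivOfCardEq hc2
  let e' : Fin 2 × (Fin a' ⊕ Fin b') ≃ Fin n :=
    (Equiv.prodSumDistrib (Fin 2) (Fin a') (Fin b')).trans
      ((ep.symm.sumCongr em.symm).trans (Equiv.sumCompl (fun i => d i = 1)))
  let s : Fin a' ⊕ Fin b' → F := fun o => Sum.elim (fun _ => 1) (fun _ => -1) o
  have hde : ∀ p : Fin 2 × (Fin a' ⊕ Fin b'), d (e' p) = s p.2 := by
    rintro ⟨k, i | j⟩
    · have : e' (k, Sum.inl i) = ((ep.symm (k, i) : {i // d i = 1}) : Fin n) := rfl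
      rw [this]
      exact (ep.symm (k, i)).2
    · have : e' (k, Sum.inr j) = ((em.symm (k, j) : {i // ¬ d i = 1}) : Fin n) := rfl
      rw [this]
      rcases hd' (em.symm (k, j) : {i // ¬ d i = 1}) with h | h
      · exact absurd h (em.symm (k, j)).2
      · exact h
  have hab' : a' + b' = b := by omega
  let τ₂ : Fin a' ⊕ Fin b' ≃ Fin b := finSumFinEquiv.trans (finCongr hab')
  let σ : Equiv.Perm (Fin n) := e.trans ((Equiv.prodCongr (Equiv.refl (Fin 2)) τ₂.symm).trans e')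
  obtain ⟨δ, hδdef⟩ : ∃ δ : Fin b → F, δ = fun k => s (τ₂.symm k) := ⟨_, rfl⟩
  have hdσ : ∀ i, d (σ i) = δ (e i).2 := by
    intro i
    have : σ i = e' ((e i).1, τ₂.symm (e i).2) := rfl
    rw [this, hde, hδdef]
  have hδ0 : ∀ k, δ k ≠ 0 := by
    intro k
    rw [hδdef]
    simp only [s]
    rcases τ₂.symm k with i | j
    · exact one_ne_zero
    · exact neg_ne_zero.mpr one_ne_zero
  obtain ⟨h', hdet', hth'⟩ := diag_perm t h d σ hdet hth
  have hBD : Matrix.diagonal (fun i => d (σ i)) =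
      BD e.symm (fun k => Matrix.diagonal (fun _ : Fin 2 => δ k)) := by
    unfold BD
    rw [Matrix.blockDiagonal_diagonal]
    ext i j
    rw [Matrix.reindex_apply, Matrix.submatrix_apply]
    by_cases hij : i = j
    · subst hij
      rw [Matrix.diagonal_apply_eq, Matrix.diagonal_apply_eq]
      exact hdσ i
    · rw [Matrix.diagonal_apply_ne _ hij, Matrix.diagonal_apply_ne]
      intro h
      exact hij (e.symm.symm.injective h)
  have hxh : (x : Matrix (Fin n) (Fin n) F) * h' =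
      h' * BD e.symm (fun k => δ k • (lam • (1 : Matrix (Fin 2) (Fin 2) F))) := by
    rw [hxt, Matrix.smul_mul, hth', hBD, ← Matrix.mul_smul, BD_smul]
    congr 2
    funext k
    ext i j
    by_cases hij : i = j
    · subst hij; simp [mul_comm]
    · simp [hij]
  refine transport e P x (lam • 1) ?_ δ hδ0 ⟨0, hb⟩ ?_ h' hdet' hxh
  · rw [Matrix.det_smul, Matrix.det_one, mul_one]
    exact pow_ne_zero _ hlam
  · intro c _
    refine ⟨Matrix.diagonal ![c, 1], ?_, ?_⟩
    · rw [Matrix.smul_mul, Matrix.mul_smul, Matrix.one_mul, Matrix.mul_one]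
    · rw [Matrix.det_diagonal, Fin.prod_univ_two]
      simp

/-- the backward direction -/
theorem backward [Fintype F] {q : ℕ} (hq : Fintype.card F = q) (hodd : Odd q)
    (hv : padicValNat 2 (q - 1) ≤ padicValNat 2 n) (hn : n = 2 * b) (hb : 0 < b)
    (e : Fin n ≃ Fin 2 × Fin b) (P : GL (Fin n) F) : AllConj e P 2 := by
  intro x hx hz hns
  obtain ⟨z, hz⟩ := hz
  rw [mem_specialLinear] at hx
  rw [Units.val_pow_eq_pow_val, pow_two] at hz
  have hodd' : Odd (Fintype.card F) := hq ▸ hodd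
  by_cases hzsq : IsSquare z
  · obtain ⟨lam, hlam⟩ := hzsq
    have hlam0 : lam ≠ 0 := by
      rintro rfl
      rw [mul_zero] at hlam
      rw [hlam, zero_smul] at hz
      have : Nonempty (Fin n) := ⟨⟨0, by omega⟩⟩
      have hd := congrArg Matrix.det hz
      rw [Matrix.det_mul, hx, Matrix.det_zero, mul_one] at hd
      exact one_ne_zero hd
    exact square_conj hodd' hb hn e P x hx lam hlam0 (by rw [hz, hlam])
      (Cfsg.Agent.Lib.Helper15.pow_ne_neg_one hq hodd n (by omega) hv lam)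
  · exact nonsquare_conj hodd' hb e P x z hzsq hz

end Cfsg.Agent.Lib.Helper9.TensE
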