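import Mathlib
import Cfsg.Prelude.Def_GeometricClasses
import Cfsg.Agent.Lib.Helper5.SUMax
import Cfsg.Agent.Lib.Helper18.C2Defs
import Cfsg.Agent.Lib.Helper9.C2L2
import Cfsg.Agent.Lib.Helper6.UADefs
import Cfsg.Agent.Lib.Helper9.UAA8core
import Cfsg.Agent.Lib.Helper6.UAA7
import Cfsg.Agent.Lib.Helper6.UAA11
import Cfsg.Agent.Lib.Helper11.UAA4

/-!
S5655 part A (helper6's sub-market), leaves A8 `pair_noniso`, A9 `pair_iso`, A12 `pairGood_all`
(exact signatures of `notes/S5655_A_leaves.lean`): the cores of `UAA8core.lean` fed with helper6's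
A7 `exists_move`, A11 `exists_swap` and helper11's A10 `exists_presc`.
-/

set_option autoImplicit false
set_option linter.unusedSectionVars false
set_option linter.unusedVariables false

namespace Cfsg.Agent.Lib.Helper9.UALeaf
open Cfsg Matrix Cfsg.Agent.Lib.Helper5.UForm Cfsg.Agent.Lib.Helper5.HermBridge
  Cfsg.Agent.Lib.Helper5.SUGen Cfsg.Agent.Lib.Helper5.SUMax Cfsg.Agent.Lib.Helper18.C2
  Cfsg.Agent.Lib.Helper6.UA

variable {F : Type*} [Field F] [Fintype F] {q n t k : ℕ} (hF : Fintype.card F = q ^ 2)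
  {D : Fin t → Submodule F (Fin n → F)}
  (hD : Cfsg.Geo.IsNondegenerateMDecomposition (Cfsg.hermForm n F q) k D)
  {M : Subgroup (GL (Fin n) F)}
include hF hD

/-! ## A8 -/
theorem pair_noniso (hk : 2 ≤ k) (hM : M ≤ Cfsg.GU n F q ⊓ Cfsg.Geo.specialLinear (Fin n) F)
    (hH : HU D q ≤ M) {i j : Fin t} (hij : i ≠ j) {a b : Fin n → F} (ha : a ∈ D i) (hb : b ∈ D j)
    (haa : Cfsg.hermForm n F q a a ≠ 0) (hab : Cfsg.hermForm n F q (a + b) (a + b) = 0)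
    (hs : a + b ∈ Sset hF M) :
    ∀ x ∈ D i, ∀ y ∈ D j, Cfsg.hermForm n F q x x ≠ 0 →
      Cfsg.hermForm n F q (x + y) (x + y) = 0 → x + y ∈ Sset hF M :=
  pair_noniso_core hF hD
    (fun ha' hb' hab' ha0 => Cfsg.Agent.Lib.Helper6.UALeaf.exists_move hF hD hk ha' hb' hab' ha0)
    hk hM hH hij ha hb haa hab hs

/-! ## A9 -/
theorem pair_iso (hk : 2 ≤ k) (hex : ¬ (k = 2 ∧ q = 2)) (hH : HU D q ≤ M) {i j : Fin t} (hij : i ≠ j)
    (hP : ∀ x ∈ D i, ∀ y ∈ D j, Cfsg.hermForm n F q x x ≠ 0 →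
      Cfsg.hermForm n F q (x + y) (x + y) = 0 → x + y ∈ Sset hF M) :
    ∀ x ∈ D i, ∀ y ∈ D j, Cfsg.hermForm n F q x x = 0 → Cfsg.hermForm n F q y y = 0 →
      x + y ∈ Sset hF M :=
  pair_iso_core hF hD
    (fun hx hx0 _ _ hμ hcase =>
      Cfsg.Agent.Lib.Helper11.UALeaf.exists_presc hF hD hk hx hx0 hμ hcase)
    hk hex hH hij hP

/-! ## A12 -/
theorem pairGood_all (hk : 2 ≤ k) (hM : M ≤ Cfsg.GU n F q ⊓ Cfsg.Geo.specialLinear (Fin n) F)
    (hH : HU D q ≤ M) {i j : Fin t} (hij : i ≠ j) (h : PairGood hF D M i j) {i' j' : Fin t}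
    (hij' : i' ≠ j') : PairGood hF D M i' j' :=
  pairGood_all_core hF hD
    (fun i₀ j₀ h₀ => Cfsg.Agent.Lib.Helper6.UALeaf.exists_swap hF hD hk i₀ j₀ h₀)
    hk hM hH hij h hij'

end Cfsg.Agent.Lib.Helper9.UALeaf
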