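import Mathlib

set_option autoImplicit false

namespace Cfsg.Agent.Lib.Helper9.UPartA

/-- representability of the number `j` of `r`-cycles -/
def Rep (a b r j : ℕ) : Prop :=
  ∃ u s : ℕ, u * r ≤ b ∧ s ≤ (b - u * r) * (a / r) ∧ j = u * a + s

/-- normalized form of the numerical condition -/
def Cond (a b r : ℕ) : Prop :=
  r ≤ a ∧ (b % r) * (a % r) < r ∧ (b < r ∨ a % r ≤ (b % r) * (a / r) + 1)

/-- the condition as in the statement -/
def Stmt (a b r : ℕ) : Prop :=
  r ≤ a ∧ (a % r = 0 ∨ (b % r = 0 ∧ a % r = 1) ∨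
        (a % r ≠ 0 ∧ b % r ≠ 0 ∧ (b % r) * (a % r) < r ∧ (b < r ∨ (b % r + r) * (a % r) ≤ (b % r) * a + r)))

theorem stmt_iff_cond (a b r : ℕ) (hb : 2 ≤ b) (hr : 2 ≤ r) : Stmt a b r ↔ Cond a b r := by
  obtain ⟨A, hA⟩ : ∃ A, A = a / r := ⟨_, rfl⟩
  obtain ⟨l, hl⟩ : ∃ l, l = a % r := ⟨_, rfl⟩
  obtain ⟨B, hB⟩ : ∃ B, B = b / r := ⟨_, rfl⟩
  obtain ⟨k, hk⟩ : ∃ k, k = b % r := ⟨_, rfl⟩
  have ha' : a = r * A + l := by rw [hA, hl]; exact (Nat.div_add_mod a r).symm
  have hb' : b = r * B + k := by rw [hB, hk]; exact (Nat.div_add_mod b r).symm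
  have hlr : l < r := by rw [hl]; exact Nat.mod_lt _ (by omega)
  have hkr : k < r := by rw [hk]; exact Nat.mod_lt _ (by omega)
  unfold Stmt Cond
  rw [← hA, ← hl, ← hk]
  constructor
  · rintro ⟨h1, h2⟩
    refine ⟨h1, ?_, ?_⟩
    · rcases h2 with h | ⟨h, h'⟩ | ⟨_, _, h, _⟩
      · rw [h, mul_zero]; omega
      · rw [h, zero_mul]; omega
      · exact h
    · rcases h2 with h | ⟨h, h'⟩ | ⟨_, _, _, h⟩
      · right; omega
      · right; omega
      · rcases h with h | h
        · left; exact h
        · right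
          -- (k + r) * l ≤ k * a + r, a = r * A + l
          have h3 : r * l ≤ r * (k * A + 1) := by
            have : (k + r) * l = k * l + r * l := by ring
            have h4 : k * a + r = k * l + r * (k * A + 1) := by rw [ha']; ring
            omega
          exact Nat.le_of_mul_le_mul_left h3 (by omega)
  · rintro ⟨h1, h2, h3⟩
    refine ⟨h1, ?_⟩
    by_cases hl0 : l = 0
    · left; exact hl0
    · right
      by_cases hk0 : k = 0
      · left
        refine ⟨hk0, ?_⟩
        rcases h3 with h | h
        · exfalso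
          -- b < r, b = r * B + 0
          rw [hk0, add_zero] at hb'
          have : B = 0 := by
            by_contra hB0
            have : r * 1 ≤ r * B := Nat.mul_le_mul_left r (by omega)
            omega
          rw [this, mul_zero] at hb'
          omega
        · rw [hk0, zero_mul] at h
          omega
      · right
        refine ⟨hl0, hk0, h2, ?_⟩
        rcases h3 with h | h
        · left; exact h
        · right
          have h4 : k * a + r = k * l + r * (k * A + 1) := by rw [ha']; ring
          have h5 : (k + r) * l = k * l + r * l := by ring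
          have h6 : r * l ≤ r * (k * A + 1) := Nat.mul_le_mul_left r h
          omega

/-- the condition implies every admissible `j` is representable -/
theorem rep_of_cond (a b r : ℕ) (hr : 2 ≤ r) (hc : Cond a b r) (j : ℕ)
    (hjr : j * r ≤ a * b) : Rep a b r j := by
  obtain ⟨A, hA⟩ : ∃ A, A = a / r := ⟨_, rfl⟩
  obtain ⟨l, hl⟩ : ∃ l, l = a % r := ⟨_, rfl⟩
  obtain ⟨B, hB⟩ : ∃ B, B = b / r := ⟨_, rfl⟩
  obtain ⟨k, hk⟩ : ∃ k, k = b % r := ⟨_, rfl⟩
  have ha' : a = r * A + l := by rw [hA, hl]; exact (Nat.div_add_mod a r).symm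
  have hb' : b = r * B + k := by rw [hB, hk]; exact (Nat.div_add_mod b r).symm
  have hlr : l < r := by rw [hl]; exact Nat.mod_lt _ (by omega)
  have hkr : k < r := by rw [hk]; exact Nat.mod_lt _ (by omega)
  obtain ⟨h1, h2, h3⟩ := hc
  rw [← hl, ← hk] at h2
  rw [← hl, ← hk, ← hA] at h3
  have hapos : 0 < a := by omega
  unfold Rep
  rw [← hA]
  by_cases hcase : B ≤ j / a
  · -- u = B
    have hBa : B * a ≤ j := by
      calc B * a ≤ (j / a) * a := Nat.mul_le_mul_right a hcase
        _ ≤ j := Nat.div_mul_le_self j a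
    refine ⟨B, j - B * a, by rw [hb']; nlinarith, ?_, by omega⟩
    -- j ≤ b * A + B * l
    have hkey : j ≤ b * A + B * l := by
      by_contra hcon
      push Not at hcon
      have h4 : (b * A + B * l + 1) * r ≤ j * r := Nat.mul_le_mul_right r hcon
      have h5 : a * b = r * (b * A + B * l) + k * l := by
        have e1 : l * b = l * (r * B + k) := by rw [← hb']
        calc a * b = (r * A + l) * b := by rw [← ha']
          _ = r * A * b + l * b := by ring
          _ = r * A * b + l * (r * B + k) := by rw [e1]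
          _ = r * (b * A + B * l) + k * l := by ring
      have : (b * A + B * l + 1) * r = r * (b * A + B * l) + r := by ring
      omega
    have h6 : b - B * r = k := by rw [hb']; rw [Nat.mul_comm r B]; omega
    rw [h6]
    have h7 : B * a = B * r * A + B * l := by rw [ha']; ring
    have h8 : b * A = B * r * A + k * A := by rw [hb']; ring
    omega
  · push Not at hcase
    -- u = j / a < B
    obtain ⟨u, hu⟩ : ∃ u, u = j / a := ⟨_, rfl⟩
    rw [← hu] at hcase
    have hua : u * a ≤ j := by rw [hu]; exact Nat.div_mul_le_self j a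
    have hju : j < (u + 1) * a := by
      rw [hu]
      have := Nat.lt_succ_self (j / a)
      exact (Nat.div_lt_iff_lt_mul hapos).mp this
    have hB1 : 1 ≤ B := by omega
    have hbr : ¬ b < r := by
      intro h
      rw [hb'] at h
      have : r * 1 ≤ r * B := Nat.mul_le_mul_left r hB1
      omega
    have hlk : l ≤ k * A + 1 := h3.resolve_left hbr
    have hur : u * r ≤ b := by
      rw [hb']
      have : u * r ≤ B * r := Nat.mul_le_mul_right r hcase.le
      rw [Nat.mul_comm r B]
      omega
    refine ⟨u, j - u * a, hur, ?_, by omega⟩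
    -- j - u a ≤ (b - u r) * A ; (u+1) a ≤ b A + u l + 1
    have h9 : (u + 1) * (r * A) ≤ B * (r * A) := Nat.mul_le_mul_right _ (by omega)
    have h10 : (b - u * r) * A = b * A - u * r * A := Nat.sub_mul _ _ _
    have h11 : u * r * A ≤ b * A := Nat.mul_le_mul_right A hur
    have h12 : (u + 1) * a = (u + 1) * (r * A) + u * l + l := by rw [ha']; ring
    have h13 : b * A = B * (r * A) + k * A := by rw [hb']; ring
    have h14 : u * a = u * r * A + u * l := by rw [ha']; ring
    have h15 : (u + 1) * (r * A) = u * r * A + r * A := by ring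
    omega

/-- if every admissible `j` is representable then the condition holds -/
theorem cond_of_rep (a b r : ℕ) (ha : 2 ≤ a) (hr : 2 ≤ r) (hrab : r ≤ a * b)
    (h : ∀ j : ℕ, 1 ≤ j → j * r ≤ a * b → Rep a b r j) : Cond a b r := by
  obtain ⟨A, hA⟩ : ∃ A, A = a / r := ⟨_, rfl⟩
  obtain ⟨l, hl⟩ : ∃ l, l = a % r := ⟨_, rfl⟩
  obtain ⟨B, hB⟩ : ∃ B, B = b / r := ⟨_, rfl⟩
  obtain ⟨k, hk⟩ : ∃ k, k = b % r := ⟨_, rfl⟩
  have ha' : a = r * A + l := by rw [hA, hl]; exact (Nat.div_add_mod a r).symm
  have hb' : b = r * B + k := by rw [hB, hk]; exact (Nat.div_add_mod b r).symm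
  have hlr : l < r := by rw [hl]; exact Nat.mod_lt _ (by omega)
  have hkr : k < r := by rw [hk]; exact Nat.mod_lt _ (by omega)
  have hab : a * b = r * (b * A + B * l) + k * l := by
    have e1 : l * b = l * (r * B + k) := by rw [← hb']
    calc a * b = (r * A + l) * b := by rw [← ha']
      _ = r * A * b + l * b := by ring
      _ = r * A * b + l * (r * B + k) := by rw [e1]
      _ = r * (b * A + B * l) + k * l := by ring
  -- general bound from a representation
  have hbound : ∀ j u s : ℕ, u * r ≤ b → s ≤ (b - u * r) * A → j = u * a + s →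
      u ≤ B ∧ j ≤ b * A + u * l := by
    intro j u s hur hs hj
    have huB : u ≤ B := by rw [hB]; exact (Nat.le_div_iff_mul_le (by omega)).mpr hur
    refine ⟨huB, ?_⟩
    have h10 : (b - u * r) * A = b * A - u * r * A := Nat.sub_mul _ _ _
    have h11 : u * r * A ≤ b * A := Nat.mul_le_mul_right A hur
    have h14 : u * a = u * r * A + u * l := by rw [ha']; ring
    omega
  unfold Cond
  rw [← hA, ← hl, ← hk]
  have h1 : r ≤ a := by
    by_contra hcon
    push Not at hcon
    obtain ⟨u, s, hur, hs, hj⟩ := h 1 le_rfl (by omega)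
    rw [← hA] at hs
    have hA0 : A = 0 := by rw [hA]; exact Nat.div_eq_of_lt hcon
    rw [hA0, mul_zero] at hs
    have hs0 : s = 0 := by omega
    rw [hs0, add_zero] at hj
    have : u ≠ 0 := by
      rintro rfl
      omega
    have h2 : 1 * a ≤ u * a := Nat.mul_le_mul_right a (by omega)
    omega
  refine ⟨h1, ?_, ?_⟩
  · by_contra hcon
    push Not at hcon
    obtain ⟨j₀, hj₀⟩ : ∃ j₀, j₀ = a * b / r := ⟨_, rfl⟩
    have hj₀r : j₀ * r ≤ a * b := by rw [hj₀]; exact Nat.div_mul_le_self _ _
    have hj₀1 : b * A + B * l + 1 ≤ j₀ := by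
      rw [hj₀, Nat.le_div_iff_mul_le (by omega), hab]
      have : (b * A + B * l + 1) * r = r * (b * A + B * l) + r := by ring
      omega
    obtain ⟨u, s, hur, hs, hj⟩ := h j₀ (by omega) hj₀r
    rw [← hA] at hs
    obtain ⟨huB, hle⟩ := hbound j₀ u s hur hs hj
    have : u * l ≤ B * l := Nat.mul_le_mul_right l huB
    omega
  · by_contra hcon
    push Not at hcon
    obtain ⟨hbr, hlk⟩ := hcon
    have hB1 : 1 ≤ B := by
      by_contra hB0
      have : B = 0 := by omega
      rw [this, mul_zero, zero_add] at hb'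
      omega
    obtain ⟨j₁, hj₁⟩ : ∃ j₁, j₁ = b * A + (B - 1) * l + 1 := ⟨_, rfl⟩
    have hBl : B * l = (B - 1) * l + l := by
      have : B = (B - 1) + 1 := by omega
      nth_rewrite 1 [this]
      ring
    have hj₁r : j₁ * r ≤ a * b := by
      have h2 : j₁ ≤ b * A + B * l := by omega
      calc j₁ * r ≤ (b * A + B * l) * r := Nat.mul_le_mul_right r h2
        _ = r * (b * A + B * l) := by ring
        _ ≤ a * b := by omega
    obtain ⟨u, s, hur, hs, hj⟩ := h j₁ (by omega) hj₁r
    rw [← hA] at hs
    obtain ⟨huB, hle⟩ := hbound j₁ u s hur hs hj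
    have huB' : u = B := by
      by_contra hne
      have h3 : u ≤ B - 1 := by omega
      have : u * l ≤ (B - 1) * l := Nat.mul_le_mul_right l h3
      omega
    subst huB'
    have h4 : u * a ≤ j₁ := by omega
    have h5 : u * a = u * (r * A) + u * l := by rw [ha']; ring
    have h6 : b * A = u * (r * A) + k * A := by rw [hb']; ring
    omega

/-- the number of uniform partitions is an integer -/
theorem factorial_dvd (a : ℕ) (hapos : 0 < a) :
    ∀ b : ℕ, a.factorial ^ b * b.factorial ∣ (a * b).factorial := by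
  intro b
  induction b with
  | zero => simp
  | succ b ih =>
    obtain ⟨c, hc⟩ := ih
    have h1 : (a * (b + 1)).factorial =
        (a * b + a).choose a * (a * b).factorial * a.factorial := by
      rw [Nat.add_choose_mul_factorial_mul_factorial (a * b) a, mul_add, mul_one]
    have h3 : (a * b + a).choose a * a = (a * b + a) * (a * b + a - 1).choose (a - 1) := by
      have := Nat.add_one_mul_choose_eq (a * b + a - 1) (a - 1)
      have e1 : a * b + a - 1 + 1 = a * b + a := by omega
      have e2 : a - 1 + 1 = a := by omega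
      rw [e1, e2] at this
      rw [← this]
    have h4 : (a * b + a).choose a = (b + 1) * (a * b + a - 1).choose (a - 1) := by
      have h5 : (a * b + a).choose a * a = ((b + 1) * (a * b + a - 1).choose (a - 1)) * a := by
        rw [h3]; ring
      exact Nat.eq_of_mul_eq_mul_right hapos h5
    rw [h1, h4, hc]
    refine ⟨(a * b + a - 1).choose (a - 1) * c, ?_⟩
    rw [pow_succ, Nat.factorial_succ]
    ring

theorem prime_le_of_dvd (a b r : ℕ) (hapos : 0 < a) (hr : r.Prime)
    (hrd : r ∣ (a * b).factorial / (a.factorial ^ b * b.factorial)) : r ≤ a * b := by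
  obtain ⟨c, hc⟩ := factorial_dvd a hapos b
  have hpos : 0 < a.factorial ^ b * b.factorial :=
    Nat.mul_pos (pow_pos (Nat.factorial_pos a) b) (Nat.factorial_pos b)
  rw [hc, Nat.mul_div_cancel_left _ hpos] at hrd
  have : r ∣ (a * b).factorial := by rw [hc]; exact Dvd.dvd.mul_left hrd _
  exact (Nat.Prime.dvd_factorial hr).mp this

end Cfsg.Agent.Lib.Helper9.UPartA
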