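import Mathlib

set_option autoImplicit false

namespace Cfsg.Agent.Lib.Helper9.UPartB

open Finset

/-- a permutation with `τ ^ r = 1`, `r` prime, has support of size `r * (number of cycles)` -/
theorem card_support_of_pow_eq_one {γ : Type*} [Fintype γ] [DecidableEq γ] (r : ℕ) [Fact r.Prime]
    (τ : Equiv.Perm γ) (hτ : τ ^ r = 1) : ∃ k : ℕ, τ.support.card = k * r ∧ (τ ≠ 1 → 1 ≤ k) := by
  by_cases h1 : τ = 1
  · refine ⟨0, ?_, fun h => absurd h1 h⟩
    rw [h1, Equiv.Perm.support_one, Finset.card_empty, zero_mul]
  · have ho : orderOf τ = r := orderOf_eq_prime hτ h1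
    have hp : (orderOf τ).Prime := by rw [ho]; exact Fact.out
    obtain ⟨n, hn⟩ := Equiv.Perm.cycleType_prime_order hp
    refine ⟨n + 1, ?_, fun _ => by omega⟩
    rw [← Equiv.Perm.sum_cycleType, hn, Multiset.sum_replicate, ho, smul_eq_mul]

theorem support_eq_filter {γ : Type*} [Fintype γ] [DecidableEq γ] (τ : Equiv.Perm γ) :
    τ.support = univ.filter (fun x => τ x ≠ x) := by
  ext x
  simp [Equiv.Perm.mem_support]

/-- necessity: an invariant uniform partition forces a representation of the number of cycles -/
theorem rep_of_invariant {α β : Type*} [Fintype α] [DecidableEq α] [Fintype β] [DecidableEq β]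
    (a r : ℕ) [Fact r.Prime] (hapos : 0 < a)
    (σ : Equiv.Perm α) (hσ : σ ^ r = 1)
    (f : α → β) (hf : ∀ j : β, (univ.filter (fun x => f x = j)).card = a)
    (π : Equiv.Perm β) (hπ : ∀ x, f (σ x) = π (f x)) :
    ∃ u s : ℕ, u * r ≤ Fintype.card β ∧ s ≤ (Fintype.card β - u * r) * (a / r) ∧
      σ.support.card = r * (u * a + s) := by
  classical
  have hr : r.Prime := Fact.out
  have hsurj : ∀ j : β, ∃ x, f x = j := by
    intro j
    have h1 : 0 < (univ.filter (fun x => f x = j)).card := by rw [hf j]; exact hapos
    obtain ⟨x, hx⟩ := Finset.card_pos.mp h1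
    exact ⟨x, (Finset.mem_filter.mp hx).2⟩
  have hpow : ∀ (t : ℕ) (x : α), f ((σ ^ t) x) = (π ^ t) (f x) := by
    intro t
    induction t with
    | zero => intro x; rfl
    | succ t ih =>
      intro x
      rw [pow_succ', pow_succ', Equiv.Perm.mul_apply, Equiv.Perm.mul_apply, hπ, ih]
  have hπr : π ^ r = 1 := by
    ext j
    obtain ⟨x, rfl⟩ := hsurj j
    rw [← hpow, hσ]
    rfl
  obtain ⟨u, hu, -⟩ := card_support_of_pow_eq_one r π hπr
  have hub : u * r ≤ Fintype.card β := by
    rw [← hu]; exact Finset.card_le_univ _
  -- fibrewise counts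
  have hsum : σ.support.card = ∑ i : β, ((σ.support).filter (fun x => f x = i)).card :=
    Finset.card_eq_sum_card_fiberwise (f := f) (s := σ.support) (t := univ)
      (fun x _ => Finset.mem_univ _)
  have hmoved : ∀ i ∈ π.support, ((σ.support).filter (fun x => f x = i)).card = a := by
    intro i hi
    rw [← hf i]
    congr 1
    ext x
    simp only [Finset.mem_filter, Finset.mem_univ, true_and, Equiv.Perm.mem_support]
    constructor
    · exact fun h => h.2
    · intro hx
      refine ⟨?_, hx⟩
      intro hσx
      have h1 := hπ x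
      rw [hσx, hx] at h1
      exact (Equiv.Perm.mem_support.mp hi) h1.symm
  have hfixed : ∀ i ∉ π.support, r ∣ ((σ.support).filter (fun x => f x = i)).card ∧
      ((σ.support).filter (fun x => f x = i)).card ≤ a := by
    intro i hi
    have hπi : π i = i := by
      by_contra h
      exact hi (Equiv.Perm.mem_support.mpr h)
    refine ⟨?_, ?_⟩
    · have hp : ∀ x, f (σ x) = i ↔ f x = i := by
        intro x
        rw [hπ]
        constructor
        · intro h
          apply π.injective
          rw [h, hπi]
        · intro h
          rw [h, hπi]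
      obtain ⟨k, hk, -⟩ := card_support_of_pow_eq_one r
        (σ.subtypePerm (p := fun x => f x = i) hp) (by
        rw [Equiv.Perm.subtypePerm_pow]
        ext x
        simp [hσ])
      have hcard : (σ.subtypePerm (p := fun x => f x = i) hp).support.card =
          ((σ.support).filter (fun x => f x = i)).card := by
        refine Finset.card_bij (fun y _ => (y : α)) ?_ ?_ ?_
        · intro y hy
          rw [Finset.mem_filter, Equiv.Perm.mem_support]
          refine ⟨?_, y.2⟩
          intro h
          apply (Equiv.Perm.mem_support.mp hy)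
          apply Subtype.ext
          rw [Equiv.Perm.subtypePerm_apply]
          exact h
        · intro y _ y' _ h
          exact Subtype.ext h
        · intro x hx
          rw [Finset.mem_filter, Equiv.Perm.mem_support] at hx
          refine ⟨⟨x, hx.2⟩, ?_, rfl⟩
          rw [Equiv.Perm.mem_support]
          intro h
          apply hx.1
          have := congrArg Subtype.val h
          rw [Equiv.Perm.subtypePerm_apply] at this
          exact this
      rw [← hcard, hk]
      exact Dvd.intro_left k rfl
    · rw [← hf i]
      apply Finset.card_le_card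
      intro x hx
      rw [Finset.mem_filter] at hx ⊢
      exact ⟨Finset.mem_univ _, hx.2⟩
  -- split the sum
  have hsplit : ∑ i : β, ((σ.support).filter (fun x => f x = i)).card =
      ∑ i ∈ π.support, ((σ.support).filter (fun x => f x = i)).card +
      ∑ i ∈ univ \ π.support, ((σ.support).filter (fun x => f x = i)).card := by
    rw [← Finset.sum_union (Finset.disjoint_sdiff)]
    congr 1
    rw [Finset.union_sdiff_of_subset (Finset.subset_univ _)]
  have h1 : ∑ i ∈ π.support, ((σ.support).filter (fun x => f x = i)).card = u * r * a := by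
    rw [Finset.sum_congr rfl hmoved, Finset.sum_const, hu, smul_eq_mul]
  obtain ⟨S, hS⟩ : ∃ S : ℕ, S = ∑ i ∈ univ \ π.support,
      ((σ.support).filter (fun x => f x = i)).card / r := ⟨_, rfl⟩
  have h2 : ∑ i ∈ univ \ π.support, ((σ.support).filter (fun x => f x = i)).card = r * S := by
    rw [hS, Finset.mul_sum]
    refine Finset.sum_congr rfl (fun i hi => ?_)
    have hi' : i ∉ π.support := (Finset.mem_sdiff.mp hi).2
    exact (Nat.mul_div_cancel' (hfixed i hi').1).symm
  have h3 : S ≤ (Fintype.card β - u * r) * (a / r) := by
    rw [hS]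
    have h4 : (univ \ π.support).card = Fintype.card β - u * r := by
      rw [Finset.card_sdiff_of_subset (Finset.subset_univ _), Finset.card_univ, hu]
    rw [← h4, ← smul_eq_mul]
    refine Finset.sum_le_card_nsmul _ _ _ (fun i hi => ?_)
    have hi' : i ∉ π.support := (Finset.mem_sdiff.mp hi).2
    exact Nat.div_le_div_right (hfixed i hi').2
  refine ⟨u, S, hub, h3, ?_⟩
  rw [hsum, hsplit, h1, h2]
  ring

end Cfsg.Agent.Lib.Helper9.UPartB
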