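import Mathlib
import Cfsg.Agent.Lib.Helper9.UPartB

set_option autoImplicit false

namespace Cfsg.Agent.Lib.Helper9.UPartC

open Finset Cfsg.Agent.Lib.Helper9.UPartB

theorem finRotate_pow_self (r : ℕ) (hr : 2 ≤ r) : (finRotate r) ^ r = 1 := by
  have h1 : orderOf (finRotate r) = r := by
    rw [(isCycle_finRotate_of_le hr).orderOf, support_finRotate_of_le hr, Finset.card_univ,
      Fintype.card_fin]
  have h2 := pow_orderOf_eq_one (finRotate r)
  rw [h1] at h2
  exact h2

theorem finRotate_ne (r : ℕ) (hr : 2 ≤ r) (e : Fin r) : finRotate r e ≠ e := by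
  have : e ∈ (finRotate r).support := by rw [support_finRotate_of_le hr]; exact Finset.mem_univ _
  exact Equiv.Perm.mem_support.mp this

section gadget

variable {C D : Type*} (r : ℕ) (Q : C → Prop) [DecidablePred Q]

/-- the model permutation: rotate the `r` points of each active slot -/
def sigW : Equiv.Perm ((C × Fin r) ⊕ D) :=
  Equiv.sumCongr (Equiv.prodShear (Equiv.refl C)
    (fun c => if Q c then finRotate r else Equiv.refl (Fin r))) (Equiv.refl D)

theorem sigW_inl (c : C) (e : Fin r) :
    sigW (D := D) r Q (Sum.inl (c, e)) = Sum.inl (c, if Q c then finRotate r e else e) := by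
  unfold sigW
  by_cases h : Q c <;> simp [Equiv.prodShear, h]

theorem sigW_inr (d : D) : sigW (C := C) r Q (Sum.inr d) = Sum.inr d := by
  unfold sigW
  simp

theorem sigW_pow_inl (t : ℕ) (c : C) (e : Fin r) :
    (sigW (D := D) r Q ^ t) (Sum.inl (c, e)) =
      Sum.inl (c, if Q c then (finRotate r ^ t) e else e) := by
  induction t with
  | zero => simp
  | succ t ih =>
    rw [pow_succ', Equiv.Perm.mul_apply, ih, sigW_inl]
    by_cases h : Q c
    · simp only [h, if_true]
      rw [pow_succ', Equiv.Perm.mul_apply]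
    · simp only [h, if_false]

theorem sigW_pow_inr (t : ℕ) (d : D) : (sigW (C := C) r Q ^ t) (Sum.inr d) = Sum.inr d := by
  induction t with
  | zero => simp
  | succ t ih => rw [pow_succ', Equiv.Perm.mul_apply, ih, sigW_inr]

theorem sigW_pow_self (hr : 2 ≤ r) : sigW (D := D) r Q ^ r = 1 := by
  ext x
  rcases x with ⟨c, e⟩ | d
  · rw [sigW_pow_inl, finRotate_pow_self r hr]
    simp
  · rw [sigW_pow_inr]
    simp

theorem sigW_ne_one (hr : 2 ≤ r) (c : C) (hc : Q c) : sigW (D := D) r Q ≠ 1 := by
  intro h
  have h1 := congrArg (fun τ : Equiv.Perm ((C × Fin r) ⊕ D) => τ (Sum.inl (c, ⟨0, by omega⟩))) h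
  simp only [sigW_inl, hc, if_true, Equiv.Perm.one_apply] at h1
  have h2 := Sum.inl_injective h1
  have h3 := congrArg Prod.snd h2
  exact finRotate_ne r hr _ h3

theorem sigW_support [Fintype C] [Fintype D] [DecidableEq C] [DecidableEq D] (hr : 2 ≤ r) :
    (sigW (D := D) r Q).support.card = r * (univ.filter Q).card := by
  have h1 : (sigW (D := D) r Q).support =
      ((univ.filter Q) ×ˢ (univ : Finset (Fin r))).map ⟨Sum.inl, Sum.inl_injective⟩ := by
    ext x
    rw [Equiv.Perm.mem_support, Finset.mem_map]
    rcases x with ⟨c, e⟩ | d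
    · rw [sigW_inl]
      constructor
      · intro h
        refine ⟨(c, e), ?_, rfl⟩
        rw [Finset.mem_product, Finset.mem_filter]
        refine ⟨⟨Finset.mem_univ _, ?_⟩, Finset.mem_univ _⟩
        by_contra hQ
        apply h
        simp [hQ]
      · rintro ⟨⟨c', e'⟩, hmem, heq⟩
        have h2 := Sum.inl_injective heq
        obtain ⟨rfl, rfl⟩ := Prod.mk.inj h2
        rw [Finset.mem_product, Finset.mem_filter] at hmem
        simp only [hmem.1.2, if_true]
        intro h3
        have h4 := Sum.inl_injective h3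
        exact finRotate_ne r hr _ (congrArg Prod.snd h4)
    · rw [sigW_inr]
      constructor
      · intro h; exact absurd rfl h
      · rintro ⟨p, _, heq⟩
        exact absurd heq (by simp)
  rw [h1, Finset.card_map, Finset.card_product, Finset.card_univ, Fintype.card_fin, mul_comm]

end gadget

/-- two permutations of prime order `r` with the same number of moved points, on types of the
same cardinality, are intertwined by a bijection -/
theorem exists_intertwiner {α X : Type*} [Fintype α] [DecidableEq α] [Fintype X] [DecidableEq X]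
    (r : ℕ) [Fact r.Prime] (σ : Equiv.Perm α) (τ : Equiv.Perm X)
    (hcard : Fintype.card X = Fintype.card α)
    (h1 : orderOf σ = r) (h2 : orderOf τ = r) (hc : σ.support.card = τ.support.card) :
    ∃ ε : X ≃ α, ∀ x, ε (τ x) = σ (ε x) := by
  have hr : r.Prime := Fact.out
  obtain ⟨ε₀⟩ : Nonempty (X ≃ α) := ⟨Fintype.equivOfCardEq hcard⟩
  obtain ⟨σ', hσ'⟩ : ∃ σ' : Equiv.Perm α, σ' = ε₀.permCongrHom τ := ⟨_, rfl⟩
  have happ : ∀ y, σ' y = ε₀ (τ (ε₀.symm y)) := by
    intro y
    rw [hσ']
    rfl
  have ho : orderOf σ' = r := by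
    rw [hσ', MulEquiv.orderOf_eq, h2]
  have hs : σ'.support.card = τ.support.card := by
    have : σ'.support = τ.support.map ε₀.toEmbedding := by
      ext y
      rw [Equiv.Perm.mem_support, Finset.mem_map, happ]
      constructor
      · intro h
        refine ⟨ε₀.symm y, ?_, by simp⟩
        rw [Equiv.Perm.mem_support]
        intro h'
        apply h
        rw [h', Equiv.apply_symm_apply]
      · rintro ⟨x, hx, rfl⟩
        rw [Equiv.Perm.mem_support] at hx
        intro h'
        apply hx
        have h3 : ε₀.symm (ε₀.toEmbedding x) = x := by simp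
        rw [h3] at h'
        exact ε₀.injective h'
    rw [this, Finset.card_map]
  have hct : σ'.cycleType = σ.cycleType := by
    obtain ⟨n, hn⟩ := Equiv.Perm.cycleType_prime_order (σ := σ) (by rw [h1]; exact hr)
    obtain ⟨n', hn'⟩ := Equiv.Perm.cycleType_prime_order (σ := σ') (by rw [ho]; exact hr)
    have e1 : σ.support.card = (n + 1) * r := by
      rw [← Equiv.Perm.sum_cycleType, hn, Multiset.sum_replicate, h1, smul_eq_mul]
    have e2 : σ'.support.card = (n' + 1) * r := by
      rw [← Equiv.Perm.sum_cycleType, hn', Multiset.sum_replicate, ho, smul_eq_mul]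
    have e3 : n = n' := by
      have : (n + 1) * r = (n' + 1) * r := by rw [← e1, ← e2, hs, hc]
      have := Nat.eq_of_mul_eq_mul_right hr.pos this
      omega
    rw [hn, hn', h1, ho, e3]
  obtain ⟨c, hcσ⟩ := isConj_iff.mp (Equiv.Perm.isConj_iff_cycleType_eq.mpr hct)
  refine ⟨ε₀.trans c, fun x => ?_⟩
  rw [Equiv.trans_apply, Equiv.trans_apply, ← hcσ, Equiv.Perm.mul_apply, Equiv.Perm.mul_apply]
  have h3 : c⁻¹ (c (ε₀ x)) = ε₀ x := by
    rw [← Equiv.Perm.mul_apply, inv_mul_cancel, Equiv.Perm.one_apply]
  rw [h3, happ, Equiv.symm_apply_apply]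

end Cfsg.Agent.Lib.Helper9.UPartC
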