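import Mathlib
import Cfsg.Agent.Lib.Helper9.UPartC

set_option autoImplicit false

namespace Cfsg.Agent.Lib.Helper9.UPartD

open Finset Cfsg.Agent.Lib.Helper9.UPartB Cfsg.Agent.Lib.Helper9.UPartC

theorem transport_perm {X α : Type*} [Fintype α] [DecidableEq α] [Fintype X] [DecidableEq X]
    (ε₀ : X ≃ α) (τ : Equiv.Perm X) :
    orderOf (ε₀.permCongrHom τ) = orderOf τ ∧
      (ε₀.permCongrHom τ).support.card = τ.support.card := by
  have happ : ∀ y, (ε₀.permCongrHom τ) y = ε₀ (τ (ε₀.symm y)) := fun y => rfl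
  refine ⟨MulEquiv.orderOf_eq _ _, ?_⟩
  have : (ε₀.permCongrHom τ).support = τ.support.map ε₀.toEmbedding := by
    ext y
    rw [Equiv.Perm.mem_support, Finset.mem_map, happ]
    constructor
    · intro h
      refine ⟨ε₀.symm y, ?_, by simp⟩
      rw [Equiv.Perm.mem_support]
      intro h'
      apply h
      rw [h', Equiv.apply_symm_apply]
    · rintro ⟨x, hx, rfl⟩
      rw [Equiv.Perm.mem_support] at hx
      intro h'
      apply hx
      have h3 : ε₀.symm (ε₀.toEmbedding x) = x := by simp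
      rw [h3] at h'
      exact ε₀.injective h'
  rw [this, Finset.card_map]

/-- existence of a permutation of order `r` with exactly `j` cycles of length `r` -/
theorem exists_perm (n r j : ℕ) [Fact r.Prime] (hj : 1 ≤ j) (hjn : j * r ≤ n) :
    ∃ σ : Equiv.Perm (Fin n), orderOf σ = r ∧ σ.support.card = j * r := by
  classical
  have hr : r.Prime := Fact.out
  have hr2 : 2 ≤ r := hr.two_le
  obtain ⟨τ, hτ⟩ : ∃ τ : Equiv.Perm ((Fin j × Fin r) ⊕ Fin (n - j * r)),
    τ = sigW r (fun _ : Fin j => True) := ⟨_, rfl⟩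
  have hcard : Fintype.card ((Fin j × Fin r) ⊕ Fin (n - j * r)) = Fintype.card (Fin n) := by
    simp only [Fintype.card_sum, Fintype.card_prod, Fintype.card_fin]
    omega
  have ho : orderOf τ = r := by
    rw [hτ]
    exact orderOf_eq_prime (sigW_pow_self r _ hr2) (sigW_ne_one r _ hr2 ⟨0, hj⟩ trivial)
  have hs : τ.support.card = j * r := by
    rw [hτ, sigW_support r _ hr2]
    simp [mul_comm]
  obtain ⟨h1, h2⟩ := transport_perm (Fintype.equivOfCardEq hcard) τ
  exact ⟨_, h1.trans ho, h2.trans hs⟩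

section model

variable (u a m A ℓ r s : ℕ)

/-- slots of the model -/
abbrev MC := (Fin u × Fin a) ⊕ (Fin m × Fin A)
abbrev MD := Fin m × Fin ℓ
abbrev MX := (MC u a m A × Fin r) ⊕ MD m ℓ
abbrev MB := (Fin u × Fin r) ⊕ Fin m

def mQ : MC u a m A → Prop :=
  Sum.elim (fun _ => True) (fun p => (finProdFinEquiv p).val < s)

instance : DecidablePred (mQ u a m A s) := by
  intro c
  unfold mQ
  rcases c with p | p
  · exact isTrue trivial
  · exact inferInstanceAs (Decidable ((finProdFinEquiv p).val < s))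

def mF : MX u a m A ℓ r → MB u m r :=
  Sum.elim (fun p => Sum.elim (fun gt => Sum.inl (gt.1, p.2)) (fun ic => Sum.inr ic.1) p.1)
    (fun d => Sum.inr d.1)

def mPi : Equiv.Perm (MB u m r) :=
  Equiv.sumCongr (Equiv.prodCongr (Equiv.refl _) (finRotate r)) (Equiv.refl _)

theorem mQ_card (hs : s ≤ m * A) : (univ.filter (mQ u a m A s)).card = u * a + s := by
  rw [Finset.card_filter, Fintype.sum_sum_type]
  have h1 : ∑ p : Fin u × Fin a, (if mQ u a m A s (Sum.inl p) then 1 else 0) = u * a := by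
    simp [mQ]
  have h2 : ∑ p : Fin m × Fin A, (if mQ u a m A s (Sum.inr p) then 1 else 0) = s := by
    have h3 := Equiv.sum_comp (finProdFinEquiv : Fin m × Fin A ≃ Fin (m * A))
      (fun k => if k.val < s then 1 else 0)
    have h4 : ∀ p : Fin m × Fin A, (if mQ u a m A s (Sum.inr p) then 1 else 0) =
        (fun k : Fin (m * A) => if k.val < s then 1 else 0) (finProdFinEquiv p) :=
      fun p => if_congr Iff.rfl rfl rfl
    rw [Finset.sum_congr rfl (fun p _ => h4 p), h3, ← Finset.card_filter, ← Fintype.card_subtype]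
    exact Fintype.card_fin_lt_of_le hs
  rw [h1, h2]

theorem mF_equivariant (x : MX u a m A ℓ r) :
    mF u a m A ℓ r (sigW r (mQ u a m A s) x) = mPi u m r (mF u a m A ℓ r x) := by
  rcases x with ⟨c, e⟩ | d
  · rw [sigW_inl]
    rcases c with ⟨g, t⟩ | ⟨i, c⟩
    · simp [mF, mPi, mQ]
    · by_cases h : mQ u a m A s (Sum.inr (i, c)) <;> simp [mF, mPi, h]
  · rw [sigW_inr]
    simp [mF, mPi]

theorem mF_fiber (ha : A * r + ℓ = a) (j : MB u m r) :
    Fintype.card {x : MX u a m A ℓ r // mF u a m A ℓ r x = j} = a := by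
  rcases j with ⟨g, e⟩ | i
  · have : Fintype.card (Fin a) = Fintype.card {x : MX u a m A ℓ r // mF u a m A ℓ r x = Sum.inl (g, e)} := by
      apply Fintype.card_of_bijective (f := fun t => ⟨Sum.inl (Sum.inl (g, t), e), rfl⟩)
      constructor
      · intro t t' h
        have h' := congrArg Subtype.val h
        simpa using h'
      · rintro ⟨x, hx⟩
        rcases x with ⟨c, e'⟩ | d
        · rcases c with ⟨g', t⟩ | ⟨i, c⟩
          · simp only [mF, Sum.elim_inl, Sum.inl.injEq, Prod.mk.injEq] at hx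
            obtain ⟨rfl, rfl⟩ := hx
            exact ⟨t, rfl⟩
          · simp [mF] at hx
        · simp [mF] at hx
    rw [← this, Fintype.card_fin]
  · have : Fintype.card ((Fin A × Fin r) ⊕ Fin ℓ) = Fintype.card {x : MX u a m A ℓ r // mF u a m A ℓ r x = Sum.inr i} := by
      apply Fintype.card_of_bijective (f := fun t => Sum.elim (fun ce => ⟨Sum.inl (Sum.inr (i, ce.1), ce.2), rfl⟩) (fun l => ⟨Sum.inr (i, l), rfl⟩) t)
      constructor
      · intro t t' h
        have h' := congrArg Subtype.val h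
        rcases t with ⟨c, e⟩ | l <;> rcases t' with ⟨c', e'⟩ | l' <;> simp at h' <;> simp [h']
      · rintro ⟨x, hx⟩
        rcases x with ⟨c, e'⟩ | d
        · rcases c with ⟨g', t⟩ | ⟨i', c⟩
          · simp [mF] at hx
          · simp only [mF, Sum.elim_inl, Sum.elim_inr, Sum.inr.injEq] at hx
            subst hx
            exact ⟨Sum.inl (c, e'), rfl⟩
        · obtain ⟨i', l⟩ := d
          simp only [mF, Sum.elim_inr, Sum.inr.injEq] at hx
          subst hx
          exact ⟨Sum.inr l, rfl⟩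
    rw [← this]
    simp [ha]

end model

theorem exists_partition {α : Type*} [Fintype α] [DecidableEq α] (a b r : ℕ) [Fact r.Prime]
    (hcard : Fintype.card α = a * b) (σ : Equiv.Perm α) (hσ : orderOf σ = r)
    (u s : ℕ) (hur : u * r ≤ b) (hs : s ≤ (b - u * r) * (a / r))
    (hsupp : σ.support.card = r * (u * a + s)) :
    ∃ f : α → Fin b, (∀ j, Fintype.card {x // f x = j} = a) ∧
      ∃ π : Equiv.Perm (Fin b), ∀ x, f (σ x) = π (f x) := by
  classical
  have hr : r.Prime := Fact.out
  have hr2 : 2 ≤ r := hr.two_le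
  obtain ⟨m, hm⟩ : ∃ m, m = b - u * r := ⟨_, rfl⟩
  obtain ⟨A, hA⟩ : ∃ A, A = a / r := ⟨_, rfl⟩
  obtain ⟨ℓ, hℓ⟩ : ∃ ℓ, ℓ = a % r := ⟨_, rfl⟩
  have haA : A * r + ℓ = a := by rw [hA, hℓ]; exact Nat.div_add_mod' a r
  have hbm : u * r + m = b := by omega
  rw [← hm, ← hA] at hs
  have hcX : Fintype.card (MX u a m A ℓ r) = Fintype.card α := by
    rw [hcard]
    simp only [Fintype.card_sum, Fintype.card_prod, Fintype.card_fin]
    rw [← hbm]
    linear_combination m * haA
  have hQcard := mQ_card u a m A s hs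
  have hσ1 : σ ≠ 1 := by
    intro h
    rw [h, orderOf_one] at hσ
    omega
  have hpos : 1 ≤ u * a + s := by
    rcases Nat.eq_zero_or_pos (u * a + s) with h | h
    · rw [h, mul_zero, Finset.card_eq_zero, Equiv.Perm.support_eq_empty_iff] at hsupp
      exact absurd hsupp hσ1
    · exact h
  obtain ⟨c, hc⟩ : ∃ c, mQ u a m A s c := by
    have : 0 < (univ.filter (mQ u a m A s)).card := by omega
    obtain ⟨c, hc⟩ := Finset.card_pos.mp this
    exact ⟨c, (Finset.mem_filter.mp hc).2⟩
  obtain ⟨τ, hτ⟩ : ∃ τ : Equiv.Perm (MX u a m A ℓ r), τ = sigW r (mQ u a m A s) := ⟨_, rfl⟩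
  have horder : orderOf τ = r := by
    rw [hτ]
    exact orderOf_eq_prime (sigW_pow_self r _ hr2) (sigW_ne_one r _ hr2 c hc)
  have hsup : τ.support.card = r * (u * a + s) := by
    rw [hτ, sigW_support r _ hr2, hQcard]
  obtain ⟨ε, hε⟩ := exists_intertwiner r σ τ hcX hσ horder (hsupp.trans hsup.symm)
  have hcB : Fintype.card (MB u m r) = Fintype.card (Fin b) := by
    simp only [Fintype.card_sum, Fintype.card_prod, Fintype.card_fin]
    exact hbm
  obtain ⟨κ⟩ : Nonempty (MB u m r ≃ Fin b) := ⟨Fintype.equivOfCardEq hcB⟩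
  refine ⟨fun x => κ (mF u a m A ℓ r (ε.symm x)), ?_, κ.permCongrHom (mPi u m r), ?_⟩
  · intro j
    refine Eq.trans ?_ (mF_fiber u a m A ℓ r haA (κ.symm j))
    apply Fintype.card_congr
    exact ε.symm.subtypeEquiv (fun x => (Equiv.eq_symm_apply κ).symm)
  · intro x
    have h1 : ε.symm (σ x) = τ (ε.symm x) := by
      rw [Equiv.symm_apply_eq, hε, Equiv.apply_symm_apply]
    have h2 : ∀ y, (κ.permCongrHom (mPi u m r)) y = κ (mPi u m r (κ.symm y)) := fun y => rfl
    rw [h2]
    simp only [Equiv.symm_apply_apply]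
    rw [h1, hτ, mF_equivariant]

end Cfsg.Agent.Lib.Helper9.UPartD
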