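import Mathlib
import Cfsg.Agent.Lib.Helper20.UTNDefs
import Cfsg.Agent.Lib.Helper20.UTS
import Cfsg.Agent.Lib.Helper5.SUMax
import Cfsg.Agent.Lib.Helper9.UTNConj
import Cfsg.Agent.Lib.Helper9.UTGN1

/-!
S5670 part (N) leaf N3h `scalar_of_conj_tv` (CLAIM C, pure algebra).
-/

set_option autoImplicit false
set_option linter.unusedSectionVars false
set_option linter.unusedVariables false

namespace Cfsg.Agent.Lib.Helper9.UTNLeaf
open Matrix
open Cfsg.Agent.Lib.Helper25.Tens Cfsg.Agent.Lib.Helper25.TensLeaf Cfsg.Agent.Lib.Helper25.TensLeaves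
open Cfsg.Agent.Lib.Helper20.UT Cfsg.Agent.Lib.Helper20.UTLeaf Cfsg.Agent.Lib.Helper20.UTN
open Cfsg.Agent.Lib.Helper5
open scoped Kronecker

variable {F : Type*} [Field F] [Fintype F] {a b q : ℕ} {M : Subgroup (GL (Idx a b) F)}

/-- N3h CLAIM C (pure algebra). -/
theorem scalar_of_conj_tv (hF : Fintype.card F = q ^ 2) (ha : 2 ≤ a) (hex : ¬ (a = 2 ∧ q = 2))
    (ζ : Matrix (Fin a) (Fin a) F)
    (h : ∀ (x₀ : Fin a → F) (c : F) (hx : hv q x₀ x₀ = 0), c ^ q = -c →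
      IsScalarMat (ζ - ((tvU q x₀ c hx : GL (Fin a) F) : Matrix (Fin a) (Fin a) F) * ζ *
        (((tvU q x₀ c hx)⁻¹ : GL (Fin a) F) : Matrix (Fin a) (Fin a) F))) :
    IsScalarMat ζ := by
  have hf := hv_unitary (n := a) hF
  apply scalar_of_iso_eigen hF ha
  intro x₀ hx
  by_cases hx0 : x₀ = 0
  · exact ⟨0, by rw [hx0, Matrix.mulVec_zero, smul_zero]⟩
  obtain ⟨p, hpp, hpx, hxp⟩ := Cfsg.Agent.Lib.Helper23.UTNLeaf.exists_partner hF hx0 hx
  obtain ⟨c₀, hc₀0, hc₀⟩ := Cfsg.Agent.Lib.Helper23.UTLeaf.exists_skew hF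
  obtain ⟨s, hs⟩ : ∃ s : F, s = hv q (ζ *ᵥ x₀) x₀ := ⟨_, rfl⟩
  obtain ⟨hh, hhh⟩ : ∃ hh : F, hh = hv q (ζ *ᵥ p) x₀ := ⟨_, rfl⟩
  -- the vector form of the hypothesis
  have E : ∀ c : F, c ^ q = -c → ∃ l : F, ∀ v : Fin a → F,
      (c * hv q v x₀) • (ζ *ᵥ x₀) - (c * (hv q (ζ *ᵥ v) x₀ - c * hv q v x₀ * s)) • x₀ = l • v := by
    intro c hc
    obtain ⟨l, hl⟩ := h x₀ c hx hc
    refine ⟨l, fun v => ?_⟩
    have h1 := congrArg (fun A : Matrix (Fin a) (Fin a) F => A *ᵥ v) hl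
    beta_reduce at h1
    rw [Matrix.sub_mulVec, conj_tvU_mulVec, Matrix.smul_mulVec, Matrix.one_mulVec, ← hs] at h1
    rw [← h1]
    abel
  -- consequences for a non-zero skew `c`
  have P : ∀ c : F, c ^ q = -c → c ≠ 0 → ∃ l : F, l = -(c * s) ∧
      ζ *ᵥ x₀ = (hh - c * s) • x₀ + (l / c) • p ∧
      ∀ v : Fin a → F, hv q v x₀ = 0 → hv q (ζ *ᵥ v) x₀ = 0 → l • v = 0 := by
    intro c hc hc0
    obtain ⟨l, hl⟩ := E c hc
    refine ⟨l, ?_, ?_, ?_⟩
    · have h1 := hl x₀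
      simp only [hx, mul_zero, zero_mul, zero_smul, zero_sub, sub_zero, ← hs] at h1
      rw [← neg_smul] at h1
      have h2 : (-(c * s) - l) • x₀ = 0 := by rw [sub_smul, h1, sub_self]
      rcases smul_eq_zero.mp h2 with h3 | h3
      · exact (sub_eq_zero.mp h3).symm
      · exact absurd h3 hx0
    · have h1 := hl p
      simp only [hpx, mul_one, ← hhh] at h1
      have h2 : c • (ζ *ᵥ x₀) = (c * (hh - c * s)) • x₀ + l • p := by
        rw [← h1]; abel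
      have h3 : ζ *ᵥ x₀ = c⁻¹ • (c • (ζ *ᵥ x₀)) := (inv_smul_smul₀ hc0 _).symm
      rw [h3, h2, smul_add, smul_smul, smul_smul]
      congr 2
      · field_simp
      · field_simp
    · intro v h1 h2
      have h3 := hl v
      rw [h1, h2] at h3
      rw [← h3]
      simp
  by_cases ha3 : 3 ≤ a
  · -- a nonzero `v₀ ⊥ x₀, ζ† x₀`
    have hfin := Cfsg.Agent.Lib.Helper23.UTLeaf.finrank_pp_pp hF x₀ (adjM q ζ *ᵥ x₀)
    obtain ⟨v₀, hmem, hv₀0⟩ := UForm.exists_mem_ne_zero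
      (U := (⊤ : Submodule F (Fin a → F)) ⊓ UForm.pp hf x₀ ⊓ UForm.pp hf (adjM q ζ *ᵥ x₀))
      (by omega)
    obtain ⟨hm1, hm2⟩ := Submodule.mem_inf.mp hmem
    obtain ⟨-, hm3⟩ := Submodule.mem_inf.mp hm1
    rw [UForm.mem_pp] at hm2 hm3
    obtain ⟨l, hl1, hl2, hl3⟩ := P c₀ hc₀ hc₀0
    have hl0 : l = 0 := by
      have := hl3 v₀ hm3 (by rw [hv_adjM hF]; exact hm2)
      rcases smul_eq_zero.mp this with h3 | h3
      · exact h3
      · exact absurd h3 hv₀0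
    refine ⟨hh - c₀ * s, ?_⟩
    rw [hl2, hl0, zero_div, zero_smul, add_zero]
  · have ha2 : a = 2 := by omega
    have hq3 : 3 ≤ q := by
      have h2 : 2 ≤ q := by
        by_contra hlt
        have hcard : 2 ≤ Fintype.card F := Fintype.one_lt_card
        have : q = 0 ∨ q = 1 := by omega
        rcases this with rfl | rfl <;> simp at hF <;> omega
      by_contra hlt
      exact hex ⟨ha2, by omega⟩
    obtain ⟨r, hr0, hr1, hr⟩ := Cfsg.Agent.Lib.Helper9.UTGLeaf.exists_fixed_ne hF hq3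
    have hrc : (r * c₀) ^ q = -(r * c₀) := by rw [mul_pow, hr, hc₀]; ring
    obtain ⟨l, hl1, hl2, -⟩ := P c₀ hc₀ hc₀0
    obtain ⟨l', hl1', hl2', -⟩ := P (r * c₀) hrc (mul_ne_zero hr0 hc₀0)
    have hs0 : s = 0 := by
      rw [hl1, hl1'] at *
      have h1 : (hh - c₀ * s) • x₀ + (-(c₀ * s) / c₀) • p =
          (hh - r * c₀ * s) • x₀ + (-(r * c₀ * s) / (r * c₀)) • p := by
        rw [← hl2, ← hl2']
      have e1 : -(c₀ * s) / c₀ = -s := by field_simp
      have e2 : -(r * c₀ * s) / (r * c₀) = -s := by field_simp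
      rw [e1, e2] at h1
      have h2 : ((r - 1) * c₀ * s) • x₀ = 0 := by
        have h3 := add_right_cancel h1
        have : ((r - 1) * c₀ * s) • x₀ = (hh - c₀ * s) • x₀ - (hh - r * c₀ * s) • x₀ := by
          rw [← sub_smul]; congr 1; ring
        rw [this, h3, sub_self]
      rcases smul_eq_zero.mp h2 with h3 | h3
      · rcases mul_eq_zero.mp h3 with h4 | h4
        · rcases mul_eq_zero.mp h4 with h5 | h5
          · exact absurd (sub_eq_zero.mp h5) hr1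
          · exact absurd h5 hc₀0
        · exact h4
      · exact absurd h3 hx0
    refine ⟨hh, ?_⟩
    rw [hl2, hl1, hs0]
    simp

end Cfsg.Agent.Lib.Helper9.UTNLeaf
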