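import Mathlib
import Cfsg.Agent.Lib.Helper20.UTNDefs
import Cfsg.Agent.Lib.Helper20.UTS
import Cfsg.Agent.Lib.Helper5.SUMax
import Cfsg.Agent.Lib.Helper9.UTNConj
import Cfsg.Agent.Lib.Helper9.UTGN1

/-!
S5670 part (N) leaf N5a `lemmaAH` (LEMMA A, hermitian, `q ≥ 3`): a set `S` of skew-hermitian matrices closed under
`+`, `-`, fixed-field scalars and conjugation by the transvections `tvU q x c`, containing a non-scalar matrix,
contains a full root group `{c • rk1 q x}`.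
-/

set_option autoImplicit false
set_option linter.unusedSectionVars false
set_option linter.unusedVariables false

namespace Cfsg.Agent.Lib.Helper9.UTNLeaf
open Matrix
open Cfsg.Agent.Lib.Helper25.Tens Cfsg.Agent.Lib.Helper25.TensLeaf Cfsg.Agent.Lib.Helper25.TensLeaves
open Cfsg.Agent.Lib.Helper20.UT Cfsg.Agent.Lib.Helper20.UTLeaf Cfsg.Agent.Lib.Helper20.UTN
open Cfsg.Agent.Lib.Helper5
open scoped Kronecker

variable {F : Type*} [Field F] [Fintype F] {a b q : ℕ} {M : Subgroup (GL (Idx a b) F)}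

/-- for skew-hermitian `θ`: `hv x (θ x') = - hv (θ x) x'` -/
lemma hv_skew_right (hF : Fintype.card F = q ^ 2) {θ : Matrix (Fin a) (Fin a) F}
    (hθ : adjM q θ = -θ) (x x' : Fin a → F) : hv q x (θ *ᵥ x') = - hv q (θ *ᵥ x) x' := by
  rw [hv_adjM hF, hθ, Matrix.neg_mulVec, hv_neg_right hF, neg_neg]

/-- N5a LEMMA A (hermitian), `q ≥ 3`. -/
theorem lemmaAH (hF : Fintype.card F = q ^ 2) (hq : 3 ≤ q) (ha : 2 ≤ a)
    (S : Set (Matrix (Fin a) (Fin a) F))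
    (hadd : ∀ θ θ', θ ∈ S → θ' ∈ S → θ + θ' ∈ S) (hneg : ∀ θ, θ ∈ S → -θ ∈ S)
    (hsm : ∀ r : F, r ^ q = r → ∀ θ, θ ∈ S → r • θ ∈ S)
    (hconj : ∀ (x : Fin a → F) (c : F) (hx : hv q x x = 0), c ^ q = -c → ∀ θ, θ ∈ S →
      ((tvU q x c hx : GL (Fin a) F) : Matrix (Fin a) (Fin a) F) * θ *
        (((tvU q x c hx)⁻¹ : GL (Fin a) F) : Matrix (Fin a) (Fin a) F) ∈ S)
    (hskew : ∀ θ, θ ∈ S → adjM q θ = -θ)
    {θ : Matrix (Fin a) (Fin a) F} (hθ : θ ∈ S) (hns : ¬ IsScalarMat θ) :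
    ∃ x : Fin a → F, x ≠ 0 ∧ ∀ c : F, c ^ q = -c → c • rk1 q x ∈ S := by
  have hf := hv_unitary (n := a) hF
  obtain ⟨c₀, hc₀0, hc₀⟩ := Cfsg.Agent.Lib.Helper23.UTLeaf.exists_skew hF
  obtain ⟨r, hr0, hr1, hr⟩ := Cfsg.Agent.Lib.Helper9.UTGLeaf.exists_fixed_ne hF hq
  -- the elements `γ_c`
  have hγ : ∀ θ' ∈ S, ∀ (x : Fin a → F) (c : F), hv q x x = 0 → c ^ q = -c →
      c • (rk1 q x * θ' - θ' * rk1 q x) - (c ^ 2 * hv q (θ' *ᵥ x) x) • rk1 q x ∈ S := by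
    intro θ' hθ' x c hx hc
    rw [← conj_tvU_sub x c hx θ', sub_eq_add_neg]
    exact hadd _ _ (hconj x c hx hc θ' hθ') (hneg _ hθ')
  -- Case A
  have caseA : ∀ θ' ∈ S, ∀ x : Fin a → F, hv q x x = 0 → hv q (θ' *ᵥ x) x ≠ 0 →
      ∃ x : Fin a → F, x ≠ 0 ∧ ∀ c : F, c ^ q = -c → c • rk1 q x ∈ S := by
    intro θ' hθ' x hx hs
    obtain ⟨s, hsdef⟩ : ∃ s : F, s = hv q (θ' *ᵥ x) x := ⟨_, rfl⟩
    rw [← hsdef] at hs
    have hsq : s ^ q = -s := by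
      rw [hsdef, hv_conj hF, hv_skew_right hF (hskew θ' hθ')]
    have hx0 : x ≠ 0 := by
      rintro rfl
      apply hs
      rw [hsdef]
      exact hv_zero_right hF _
    refine ⟨x, hx0, ?_⟩
    have hrc : (r * c₀) ^ q = -(r * c₀) := by rw [mul_pow, hr, hc₀]; ring
    have h1 := hγ θ' hθ' x c₀ hx hc₀
    have h2 := hγ θ' hθ' x (r * c₀) hx hrc
    have h3 := hadd _ _ (hsm r hr _ h1) (hneg _ h2)
    rw [← hsdef] at h3
    have h4 : r • (c₀ • (rk1 q x * θ' - θ' * rk1 q x) - (c₀ ^ 2 * s) • rk1 q x) +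
        -((r * c₀) • (rk1 q x * θ' - θ' * rk1 q x) - ((r * c₀) ^ 2 * s) • rk1 q x) =
        (r * (r - 1) * c₀ ^ 2 * s) • rk1 q x := by
      module
    rw [h4] at h3
    obtain ⟨κ, hκ⟩ : ∃ κ : F, κ = r * (r - 1) * c₀ ^ 2 * s := ⟨_, rfl⟩
    rw [← hκ] at h3
    have hκ0 : κ ≠ 0 := by
      rw [hκ]
      exact mul_ne_zero (mul_ne_zero (mul_ne_zero hr0 (sub_ne_zero.mpr hr1)) (pow_ne_zero 2 hc₀0)) hs
    have hκq : κ ^ q = -κ := by
      rw [hκ, mul_pow, mul_pow, mul_pow, sub_eq_add_neg, add_pow_q hF, neg_pow_q hF, one_pow, hr,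
        ← pow_mul, mul_comm 2 q, pow_mul, hc₀, hsq]
      ring
    intro c hc
    have h5 : c • rk1 q x = (c / κ) • (κ • rk1 q x) := by
      rw [smul_smul, div_mul_cancel₀ _ hκ0]
    rw [h5]
    apply hsm _ _ _ h3
    rw [div_pow, hc, hκq, neg_div_neg_eq]
  by_cases hA : ∃ x : Fin a → F, hv q x x = 0 ∧ hv q (θ *ᵥ x) x ≠ 0
  · obtain ⟨x, hx, hs⟩ := hA
    exact caseA θ hθ x hx hs
  push_neg at hA
  -- Case B: some isotropic `x` is not an eigenvector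
  have hB : ∃ x : Fin a → F, hv q x x = 0 ∧ ∀ l : F, θ *ᵥ x ≠ l • x := by
    by_contra hcon
    push_neg at hcon
    exact hns (scalar_of_iso_eigen hF ha θ hcon)
  obtain ⟨x, hx, hne⟩ := hB
  have hx0 : x ≠ 0 := by
    rintro rfl
    exact hne 0 (by rw [Matrix.mulVec_zero, smul_zero])
  obtain ⟨x', hx'⟩ : ∃ x' : Fin a → F, x' = θ *ᵥ x := ⟨_, rfl⟩
  have hs0 : hv q x' x = 0 := by rw [hx']; exact hA x hx
  have hxx' : hv q x x' = 0 := hv_symm_zero hF hs0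
  have hθ₂ := hγ θ hθ x c₀ hx hc₀
  have hnot : x' ∉ Submodule.span F {x} := by
    rw [Submodule.mem_span_singleton]
    rintro ⟨l, hl⟩
    exact hne l (by rw [← hx', hl])
  obtain ⟨p, hp1, hp2⟩ := UForm.exists_sep hf hx0 hnot
  obtain ⟨w, -, hwx, -⟩ := Cfsg.Agent.Lib.Helper23.UTNLeaf.exists_partner hF hx0 hx
  obtain ⟨t₀, ht₀⟩ := UForm.exists_tr_ne hf.involutive hf.ne_refl
  have ht₀' : t₀ + t₀ ^ q ≠ 0 := ht₀
  have hpx : hv q p x = 0 := hv_symm_zero hF hp1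
  have hpx' : hv q p x' ≠ 0 := UForm.u_symm_ne hf hp2
  obtain ⟨β, hβ⟩ : ∃ β : F, β = (t₀ - hv q w x') / hv q p x' := ⟨_, rfl⟩
  obtain ⟨v, hvdef⟩ : ∃ v : Fin a → F, v = w + β • p := ⟨_, rfl⟩
  have hvx : hv q v x = 1 := by
    rw [hvdef, hv_add_left, hv_smul_left, hpx, mul_zero, add_zero, hwx]
  have hvx' : hv q v x' = t₀ := by
    rw [hvdef, hv_add_left, hv_smul_left, hβ, div_mul_cancel₀ _ hpx']
    ring
  obtain ⟨m, hm⟩ := UForm.tr_surj hf.involutive hf.ne_refl (-(hv q v v))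
    (by rw [map_neg, UForm.u_self_fixed hf])
  have hm' : m + m ^ q = -(hv q v v) := hm
  have hxv : hv q x v = 1 := by
    rw [← hv_conj hF, hvx, one_pow]
  obtain ⟨x₂, hx₂def⟩ : ∃ x₂ : Fin a → F, x₂ = v + m • x := ⟨_, rfl⟩
  have hx₂ : hv q x₂ x₂ = 0 := by
    rw [hx₂def, hv_add_left, hv_add_right hF, hv_add_right hF, hv_smul_left, hv_smul_left,
      hv_smul_right, hv_smul_right, hx, hvx, hxv]
    linear_combination hm'
  have hx₂x : hv q x₂ x = 1 := by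
    rw [hx₂def, hv_add_left, hv_smul_left, hx, mul_zero, add_zero, hvx]
  have hx₂x' : hv q x₂ x' = t₀ := by
    rw [hx₂def, hv_add_left, hv_smul_left, hxx', mul_zero, add_zero, hvx']
  have hxx₂ : hv q x x₂ = 1 := by rw [← hv_conj hF, hx₂x, one_pow]
  have hx'x₂ : hv q x' x₂ = t₀ ^ q := by rw [← hv_conj hF, hx₂x']
  apply caseA _ hθ₂ x₂ hx₂
  -- `hv (θ₂ x₂) x₂ = -c₀ (t₀ + t₀^q) ≠ 0`
  have hθx₂ : hv q (θ *ᵥ x₂) x = -t₀ := by
    have := hv_skew_right hF (hskew θ hθ) x₂ x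
    rw [← hx', hx₂x'] at this
    linear_combination this
  rw [Matrix.sub_mulVec, Matrix.smul_mulVec, Matrix.sub_mulVec, Matrix.smul_mulVec,
    ← Matrix.mulVec_mulVec, ← Matrix.mulVec_mulVec, rk1_mulVec, rk1_mulVec, Matrix.mulVec_smul,
    ← hx', hs0, hx₂x, hθx₂, mul_zero, zero_smul, sub_zero, one_smul, hv_smul_left, hv_sub_left,
    hv_smul_left, hxx₂, hx'x₂]
  intro h0
  apply ht₀'
  have : c₀ * (t₀ + t₀ ^ q) = 0 := by linear_combination -h0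
  rcases mul_eq_zero.mp this with h1 | h1
  · exact absurd h1 hc₀0
  · exact h1

end Cfsg.Agent.Lib.Helper9.UTNLeaf
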