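import Mathlib
import Cfsg.Agent.Lib.Helper20.UTNDefs
import Cfsg.Agent.Lib.Helper20.UTS
import Cfsg.Agent.Lib.Helper5.SUMax
import Cfsg.Agent.Lib.Helper12.UTNN5bDefs
import Cfsg.Agent.Lib.Helper9.UTNN5b00

/-!
S5670 part (N), N5b sub-leaf: the case `(σ, n) = (1, 1)` of `lemmaAH_two` (`γ = x x'† + x' x† + x x†` is the
orthogonal projection onto the non-degenerate plane `P = ⟨x, x'⟩`): `a ≥ 4` reduces to the case `(0, 0)` through
`x₂ = x + r`, `r ∈ P^⊥` isotropic; for `a = 3`, `1 + γ = rk1 2 w`, `w ∈ P^⊥`.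
-/

set_option autoImplicit false
set_option linter.unusedSectionVars false
set_option linter.unusedVariables false

namespace Cfsg.Agent.Lib.Helper9.UTNLeaf00
open Matrix
open Cfsg.Agent.Lib.Helper25.Tens Cfsg.Agent.Lib.Helper25.TensLeaf Cfsg.Agent.Lib.Helper25.TensLeaves
open Cfsg.Agent.Lib.Helper20.UT Cfsg.Agent.Lib.Helper20.UTLeaf Cfsg.Agent.Lib.Helper20.UTN
open Cfsg.Agent.Lib.Helper12.UTNLeaf Cfsg.Agent.Lib.Helper5
open scoped Kronecker

variable {F : Type*} [Field F] [Fintype F] {a b q : ℕ} {M : Subgroup (GL (Idx a b) F)}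

/-- (C11) the case `(σ, n) = (1, 1)` of `lemmaAH_two` -/
theorem lemmaAH_two_case11 (hF : Fintype.card F = 2 ^ 2) (ha : 3 ≤ a)
    {S : Set (Matrix (Fin a) (Fin a) F)} (hS : SHyp S) {x x' : Fin a → F} (hx0 : x ≠ 0)
    (hxx : hv 2 x x = 0) (hσ : hv 2 x' x = 1) (hn : hv 2 x' x' = 1)
    (hγ : E2 x x' + E2 x' x + E2 x x ∈ S) : ∃ w : Fin a → F, w ≠ 0 ∧ rk1 2 w ∈ S := by
  have hf := hv_unitary (n := a) hF
  have h2 : (2 : F) = 0 := Cfsg.Agent.Lib.Helper7.UTNLeaf.two_eq_zero_of_card hF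
  have hxx' : hv 2 x x' = 1 := by rw [← hv_conj hF, hσ, one_pow]
  obtain ⟨γ, hγdef⟩ : ∃ γ : Matrix (Fin a) (Fin a) F, γ = E2 x x' + E2 x' x + E2 x x := ⟨_, rfl⟩
  rw [← hγdef] at hγ
  have hg : ∀ t : Fin a → F, γ *ᵥ t = hv 2 t x' • x + hv 2 t x • x' + hv 2 t x • x := by
    intro t
    rw [hγdef, Matrix.add_mulVec, Matrix.add_mulVec, E2_mulVec, E2_mulVec, E2_mulVec]
  by_cases ha4 : 4 ≤ a
  · obtain ⟨r, hr0, hrr, hxr, hx'r⟩ := Cfsg.Agent.Lib.Helper23.UTLeaf.exists_iso_perp_two hF ha4 x x'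
    have hrx : hv 2 r x = 0 := hv_symm_zero hF hxr
    have hrx' : hv 2 r x' = 0 := hv_symm_zero hF hx'r
    obtain ⟨x₂, hx₂def⟩ : ∃ x₂ : Fin a → F, x₂ = x + r := ⟨_, rfl⟩
    have hx₂ : hv 2 x₂ x₂ = 0 := by
      rw [hx₂def, hv_add_left, hv_add_right hF, hv_add_right hF, hxx, hxr, hrx, hrr]; ring
    have hx₂x' : hv 2 x₂ x' = 1 := by rw [hx₂def, hv_add_left, hxx', hrx', add_zero]
    have hx₂x : hv 2 x₂ x = 0 := by rw [hx₂def, hv_add_left, hxx, hrx, add_zero]
    have hxx₂ : hv 2 x x₂ = 0 := hv_symm_zero hF hx₂x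
    have hx'x₂ : hv 2 x' x₂ = 1 := by rw [← hv_conj hF, hx₂x', one_pow]
    have hγx₂ : γ *ᵥ x₂ = x := by
      rw [hg, hx₂x', hx₂x, one_smul, zero_smul, zero_smul, add_zero, add_zero]
    have hconj := hS.conj x₂ 1 hx₂ (Cfsg.Agent.Lib.Helper7.UTNLeaf.one_skew_two hF) γ hγ
    have hsum := hS.add _ _ hconj hγ
    have hid : ((tvU 2 x₂ 1 hx₂ : GL (Fin a) F) : Matrix (Fin a) (Fin a) F) * γ *
        (((tvU 2 x₂ 1 hx₂)⁻¹ : GL (Fin a) F) : Matrix (Fin a) (Fin a) F) + γ =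
        E2 x₂ x + E2 x x₂ := by
      apply Matrix.mulVec_injective
      funext t
      rw [Matrix.add_mulVec, Cfsg.Agent.Lib.Helper9.UTNLeaf.conj_tvU_mulVec, hγx₂, Matrix.add_mulVec,
        E2_mulVec, E2_mulVec, hg]
      simp only [hv_add_left, hv_smul_left, hxx₂, hx'x₂, mul_zero, mul_one, one_mul, zero_add,
        add_zero, sub_zero]
      ext i
      simp only [Pi.add_apply, Pi.sub_apply, Pi.smul_apply, smul_eq_mul]
      linear_combination (hv 2 t x' * x i + hv 2 t x * x' i + hv 2 t x * x i - hv 2 t x₂ * x i) * h2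
    rw [hid] at hsum
    have hx₂0 : x₂ ≠ 0 := by
      rintro h0
      rw [h0] at hx₂x'
      simp at hx₂x'
    refine ⟨x₂, hx₂0, lemmaAH_two_case00 hF hS hx₂ hxx hxx₂ hx₂0 ?_ hsum⟩
    intro c hc
    have h1 : hv 2 x x' = c * hv 2 x₂ x' := by
      conv_lhs => rw [hc]
      rw [hv_smul_left]
    rw [hxx', hx₂x', mul_one] at h1
    rw [← h1, one_smul, hx₂def] at hc
    apply hr0
    have : x + r = x + 0 := by rw [add_zero]; exact hc.symm
    exact add_left_cancel this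
  · have ha3 : a = 3 := by omega
    let φ : (Fin a → F) →ₗ[F] F × F := (UForm.uL hf x).prod (UForm.uL hf x')
    have hφ : ∀ u : Fin a → F, φ u = (hv 2 u x, hv 2 u x') := fun u => rfl
    have hsurj : Function.Surjective φ := by
      rintro ⟨s, t⟩
      refine ⟨(t - s) • x + s • x', ?_⟩
      rw [hφ]
      simp only [hv_add_left, hv_smul_left, hxx, hσ, hxx', hn, Prod.mk.injEq]
      constructor <;> ring
    have hker : Module.finrank F (LinearMap.ker φ) = 1 := by
      have h1 := LinearMap.finrank_range_add_finrank_ker φ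
      rw [LinearMap.range_eq_top.mpr hsurj, finrank_top, Module.finrank_prod, Module.finrank_self,
        Module.finrank_fin_fun] at h1
      omega
    have hmemker : ∀ u : Fin a → F, u ∈ LinearMap.ker φ ↔ hv 2 u x = 0 ∧ hv 2 u x' = 0 := by
      intro u
      rw [LinearMap.mem_ker, hφ, Prod.mk_eq_zero]
    obtain ⟨⟨w, hwk⟩, hw0⟩ := Module.finrank_pos_iff_exists_ne_zero.mp
      (by omega : 0 < Module.finrank F (LinearMap.ker φ))
    have hw0' : w ≠ 0 := fun h => hw0 (Subtype.ext h)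
    have hgen : ∀ u ∈ LinearMap.ker φ, ∃ c : F, u = c • w := by
      intro u hu
      obtain ⟨c, hc⟩ := (finrank_eq_one_iff_of_nonzero' (⟨w, hwk⟩ : LinearMap.ker φ) hw0).mp hker
        ⟨u, hu⟩
      refine ⟨c, ?_⟩
      have := congrArg Subtype.val hc
      simpa using this.symm
    obtain ⟨hwx, hwx'⟩ := (hmemker w).1 hwk
    have hD : ∀ u : Fin a → F, u + γ *ᵥ u ∈ LinearMap.ker φ := by
      intro u
      rw [hmemker, hg]
      constructor
      · simp only [hv_add_left, hv_smul_left, hxx, hσ]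
        linear_combination (hv 2 u x) * h2
      · simp only [hv_add_left, hv_smul_left, hxx', hn]
        linear_combination (hv 2 u x' + hv 2 u x) * h2
    have hxw : hv 2 x w = 0 := hv_symm_zero hF hwx
    have hx'w : hv 2 x' w = 0 := hv_symm_zero hF hwx'
    have hγw : ∀ u : Fin a → F, hv 2 (γ *ᵥ u) w = 0 := by
      intro u
      rw [hg]
      simp only [hv_add_left, hv_smul_left, hxw, hx'w, mul_zero, add_zero]
    have hww : hv 2 w w ≠ 0 := by
      intro h0
      apply hw0'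
      apply UForm.u_eq_zero_of_forall_left hf
      intro u
      obtain ⟨c, hc⟩ := hgen _ (hD u)
      have h3 : u = c • w - γ *ᵥ u := by rw [← hc]; abel
      rw [h3, hv_sub_left, hv_smul_left, h0, hγw]
      ring
    have hww1 : hv 2 w w = 1 := by
      have h1 := hv_self_pow hF w
      have h3 : hv 2 w w * (hv 2 w w - 1) = 0 := by linear_combination h1
      rcases mul_eq_zero.mp h3 with h | h
      · exact absurd h hww
      · exact sub_eq_zero.mp h
    refine ⟨w, hw0', ?_⟩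
    have hrk : rk1 2 w = 1 + γ := by
      apply Matrix.mulVec_injective
      funext u
      rw [rk1_mulVec, Matrix.add_mulVec, Matrix.one_mulVec]
      obtain ⟨c, hc⟩ := hgen _ (hD u)
      have h3 : hv 2 (u + γ *ᵥ u) w = c := by rw [hc, hv_smul_left, hww1, mul_one]
      rw [hv_add_left, hγw, add_zero] at h3
      rw [hc, h3]
    rw [hrk]
    exact hS.add _ _ hS.one hγ

end Cfsg.Agent.Lib.Helper9.UTNLeaf00
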