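import Mathlib
import Cfsg.Agent.Lib.Helper9.SU3Invol
import Cfsg.Agent.Lib.Helper9.Ext27D

set_option autoImplicit false
set_option linter.unusedSectionVars false
set_option linter.unusedVariables false

namespace Cfsg.Agent.Lib.Helper9.Uni27A

open Cfsg.Agent.Lib.Helper14 Cfsg.Agent.Lib.Helper9.SU3Local Cfsg.Agent.Lib.Helper9.SU3Invol
open Matrix Finset

variable {F : Type*} [Field F] [Fintype F] [DecidableEq F] {q : ℕ}

local notation "hh" => Cfsg.hermForm 3 F q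

theorem mu3_pow_q (hq3 : q % 3 = 2) (β : F) (hβ : β ^ 3 = 1) : β ^ q = β ^ 2 := by
  obtain ⟨k, hk⟩ : ∃ k, q = 3 * k + 2 := ⟨q / 3, by omega⟩
  rw [hk, pow_add, pow_mul, hβ, one_pow, one_mul]

theorem ortho_of_eigen {Y : Matrix (Fin 3) (Fin 3) F} (hY : IsUni F q 3 Y) (u w : Fin 3 → F)
    (α β : F) (hu : Y *ᵥ u = α • u) (hw : Y *ᵥ w = β • w) (hne : α * β ^ q ≠ 1) : hh u w = 0 := by
  have h1 := hY u w
  rw [hu, hw, hermForm_smul_left, hermForm_smul_right] at h1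
  have : (α * β ^ q - 1) * hh u w = 0 := by linear_combination h1
  rcases mul_eq_zero.mp this with h | h
  · exact absurd (sub_eq_zero.mp h) hne
  · exact h

theorem mu3_ne (hq3 : q % 3 = 2) (α β : F) (hβ : β ^ 3 = 1) (hne : α ≠ β) :
    α * β ^ q ≠ 1 := by
  rw [mu3_pow_q hq3 β hβ]
  intro h
  apply hne
  calc α = α * β ^ 3 := by rw [hβ, mul_one]
    _ = β * (α * β ^ 2) := by ring
    _ = β := by rw [h, mul_one]

theorem perp_invariant (hF : Fintype.card F = q ^ 2) {Y : Matrix (Fin 3) (Fin 3) F}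
    (hY : IsUni F q 3 Y) (u v : Fin 3 → F)
    (μ : F) (hμ : μ ≠ 0) (hv : Y *ᵥ v = μ • v) (huv : hh u v = 0) : hh (Y *ᵥ u) v = 0 := by
  have h1 := hY u v
  rw [hv, hermForm_smul_right, huv] at h1
  rcases mul_eq_zero.mp h1 with h | h
  · exact absurd (pow_eq_zero_iff (by have := herm_two_le hF; omega) |>.mp h) hμ
  · exact h

/-- the Lagrange projection onto the `μ`-eigenspace, applied to a vector -/
def Evec (Y : Matrix (Fin 3) (Fin 3) F) (μ : F) (u : Fin 3 → F) : Fin 3 → F :=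
  (3 : F)⁻¹ • (u + μ ^ 2 • (Y *ᵥ u) + μ • (Y *ᵥ (Y *ᵥ u)))

theorem Y_Evec (Y : Matrix (Fin 3) (Fin 3) F) (hY3 : Y ^ 3 = 1) (μ : F) (hμ : μ ^ 3 = 1)
    (u : Fin 3 → F) : Y *ᵥ Evec Y μ u = μ • Evec Y μ u := by
  have hy3 : Y *ᵥ (Y *ᵥ (Y *ᵥ u)) = u := by
    rw [Matrix.mulVec_mulVec, Matrix.mulVec_mulVec, ← pow_two, ← pow_succ, hY3,
      Matrix.one_mulVec]
  unfold Evec
  have e1 : μ * μ ^ 2 = 1 := by rw [← hμ]; ring
  have e2 : μ * μ = μ ^ 2 := by ring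
  rw [Matrix.mulVec_smul, smul_comm μ (3 : F)⁻¹]
  congr 1
  rw [Matrix.mulVec_add, Matrix.mulVec_add, Matrix.mulVec_smul, Matrix.mulVec_smul, hy3,
    smul_add, smul_add, smul_smul, smul_smul, e1, e2, one_smul]
  abel

theorem sum_Evec (h3 : (3 : F) ≠ 0) (ω : F) (hω : ω ^ 2 + ω + 1 = 0)
    (Y : Matrix (Fin 3) (Fin 3) F) (u : Fin 3 → F) :
    Evec Y 1 u + Evec Y ω u + Evec Y (ω ^ 2) u = u := by
  have hω3 : ω ^ 3 = 1 := by linear_combination (ω - 1) * hω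
  have e4 : (ω ^ 2) ^ 2 = ω := by rw [← pow_mul]; linear_combination ω * hω3
  unfold Evec
  rw [← smul_add, ← smul_add, e4]
  have : (u + (1 : F) ^ 2 • (Y *ᵥ u) + (1 : F) • (Y *ᵥ (Y *ᵥ u))) +
      (u + ω ^ 2 • (Y *ᵥ u) + ω • (Y *ᵥ (Y *ᵥ u))) +
      (u + ω • (Y *ᵥ u) + (ω ^ 2) • (Y *ᵥ (Y *ᵥ u))) =
      (3 : F) • u + (ω ^ 2 + ω + 1) • (Y *ᵥ u) + (ω ^ 2 + ω + 1) • (Y *ᵥ (Y *ᵥ u)) := by
    simp only [add_smul, one_pow, one_smul]
    have : (3 : F) • u = u + u + u := by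
      rw [show (3 : F) = 1 + 1 + 1 by norm_num, add_smul, add_smul, one_smul]
    rw [this]
    abel
  rw [this, hω, zero_smul, zero_smul, add_zero, add_zero, smul_smul, inv_mul_cancel₀ h3,
    one_smul]

/-- some Lagrange component of a non-isotropic vector is non-isotropic -/
theorem exists_noniso_comp (hF : Fintype.card F = q ^ 2) (hq3 : q % 3 = 2) (h3 : (3 : F) ≠ 0)
    (ω : F) (hω : ω ^ 2 + ω + 1 = 0)
    {Y : Matrix (Fin 3) (Fin 3) F} (hY : IsUni F q 3 Y) (hY3 : Y ^ 3 = 1) (u : Fin 3 → F)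
    (hu : hh u u ≠ 0) :
    ∃ μ : F, μ ^ 3 = 1 ∧ hh (Evec Y μ u) (Evec Y μ u) ≠ 0 := by
  have hω3 : ω ^ 3 = 1 := by linear_combination (ω - 1) * hω
  have hω23 : (ω ^ 2) ^ 3 = 1 := by rw [← pow_mul, mul_comm, pow_mul, hω3, one_pow]
  have hω1 : ω ≠ 1 := by
    intro h
    rw [h] at hω
    apply h3
    linear_combination hω
  have hω0 : ω ≠ 0 := by
    intro h
    rw [h] at hω3
    norm_num at hω3
  have n1 : (1 : F) ≠ ω := fun h => hω1 h.symm
  have n2 : (1 : F) ≠ ω ^ 2 := by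
    intro h
    have : (ω - 1) * (ω + 1) = 0 := by linear_combination -h
    rcases mul_eq_zero.mp this with h5 | h5
    · exact hω1 (sub_eq_zero.mp h5)
    · apply hω0
      have : ω ^ 2 = 0 := by linear_combination hω - h5
      exact pow_eq_zero_iff (by norm_num) |>.mp this
  have n3 : ω ≠ ω ^ 2 := by
    intro h
    have : ω * (ω - 1) = 0 := by linear_combination -h
    rcases mul_eq_zero.mp this with h5 | h5
    · exact hω0 h5
    · exact hω1 (sub_eq_zero.mp h5)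
  set w1 := Evec Y 1 u with hw1
  set w2 := Evec Y ω u with hw2
  set w3 := Evec Y (ω ^ 2) u with hw3
  have e1 : Y *ᵥ w1 = (1 : F) • w1 := Y_Evec Y hY3 1 (one_pow 3) u
  have e2 : Y *ᵥ w2 = ω • w2 := Y_Evec Y hY3 ω hω3 u
  have e3 : Y *ᵥ w3 = (ω ^ 2) • w3 := Y_Evec Y hY3 (ω ^ 2) hω23 u
  have o12 : hh w1 w2 = 0 := ortho_of_eigen hY w1 w2 1 ω e1 e2 (mu3_ne hq3 1 ω hω3 n1)
  have o13 : hh w1 w3 = 0 := ortho_of_eigen hY w1 w3 1 (ω ^ 2) e1 e3 (mu3_ne hq3 1 (ω ^ 2) hω23 n2)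
  have o23 : hh w2 w3 = 0 := ortho_of_eigen hY w2 w3 ω (ω ^ 2) e2 e3 (mu3_ne hq3 ω (ω ^ 2) hω23 n3)
  have o21 := hermForm_eq_zero_symm hF _ _ o12
  have o31 := hermForm_eq_zero_symm hF _ _ o13
  have o32 := hermForm_eq_zero_symm hF _ _ o23
  have hsum : u = w1 + w2 + w3 := (sum_Evec h3 ω hω Y u).symm
  by_contra hcon
  push Not at hcon
  apply hu
  have z1 := hcon 1 (one_pow 3)
  have z2 := hcon ω hω3
  have z3 := hcon (ω ^ 2) hω23
  rw [← hw1] at z1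
  rw [← hw2] at z2
  rw [← hw3] at z3
  rw [hsum, hermForm_add_left, hermForm_add_left, hermForm_add_right hF, hermForm_add_right hF,
    hermForm_add_right hF, hermForm_add_right hF, hermForm_add_right hF, hermForm_add_right hF,
    z1, z2, z3, o12, o13, o23, o21, o31, o32]
  ring

end Cfsg.Agent.Lib.Helper9.Uni27A
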