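import Mathlib
import Cfsg.Agent.Lib.Helper9.Uni27A

set_option autoImplicit false
set_option linter.unusedSectionVars false
set_option linter.unusedVariables false

namespace Cfsg.Agent.Lib.Helper9.Uni27B

open Cfsg.Agent.Lib.Helper14 Cfsg.Agent.Lib.Helper9.SU3Local Cfsg.Agent.Lib.Helper9.SU3Invol
open Cfsg.Agent.Lib.Helper9.Uni27A
open Matrix Finset

variable {F : Type*} [Field F] [Fintype F] [DecidableEq F] {q : ℕ}

local notation "hh" => Cfsg.hermForm 3 F q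

/-- normalize a non-isotropic eigenvector -/
theorem unit_of_noniso (hF : Fintype.card F = q ^ 2) (Y : Matrix (Fin 3) (Fin 3) F)
    (w : Fin 3 → F) (μ : F) (hw : Y *ᵥ w = μ • w) (hne : hh w w ≠ 0) :
    ∃ v : Fin 3 → F, hh v v = 1 ∧ Y *ᵥ v = μ • v ∧ ∃ l : F, v = l • w := by
  obtain ⟨l, hl0, hl⟩ := exists_unit_smul hF w hne
  refine ⟨l • w, hl, ?_, l, rfl⟩
  rw [Matrix.mulVec_smul, hw, smul_comm]

theorem exists_unit_eigen (hF : Fintype.card F = q ^ 2) (hq3 : q % 3 = 2) (h3 : (3 : F) ≠ 0)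
    (ω : F) (hω : ω ^ 2 + ω + 1 = 0)
    {Y : Matrix (Fin 3) (Fin 3) F} (hY : IsUni F q 3 Y) (hY3 : Y ^ 3 = 1) :
    ∃ (v : Fin 3 → F) (μ : F), hh v v = 1 ∧ μ ^ 3 = 1 ∧ Y *ᵥ v = μ • v := by
  have he : hh (Pi.single 0 1) (Pi.single 0 1) ≠ 0 := by
    rw [hermForm_single hF, if_pos rfl]
    exact one_ne_zero
  obtain ⟨μ, hμ, hne⟩ := exists_noniso_comp hF hq3 h3 ω hω hY hY3 _ he
  obtain ⟨v, hv, hYv, _⟩ := unit_of_noniso hF Y _ μ (Y_Evec Y hY3 μ hμ _) hne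
  exact ⟨v, μ, hv, hμ, hYv⟩

theorem exists_unit_eigen_perp (hF : Fintype.card F = q ^ 2) (hq3 : q % 3 = 2) (h3 : (3 : F) ≠ 0)
    (ω : F) (hω : ω ^ 2 + ω + 1 = 0)
    {Y : Matrix (Fin 3) (Fin 3) F} (hY : IsUni F q 3 Y) (hY3 : Y ^ 3 = 1)
    (v₁ : Fin 3 → F) (μ₁ : F) (hv₁ : hh v₁ v₁ = 1) (hμ₁ : μ₁ ^ 3 = 1) (hYv₁ : Y *ᵥ v₁ = μ₁ • v₁) :
    ∃ (v : Fin 3 → F) (μ : F), hh v v = 1 ∧ hh v v₁ = 0 ∧ μ ^ 3 = 1 ∧ Y *ᵥ v = μ • v := by
  have hμ0 : μ₁ ≠ 0 := by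
    intro h
    rw [h] at hμ₁
    norm_num at hμ₁
  obtain ⟨u, huv, huu⟩ := exists_perp_one hF v₁ hv₁
  have hne0 : hh u u ≠ 0 := by rw [huu]; exact one_ne_zero
  obtain ⟨μ, hμ, hne⟩ := exists_noniso_comp hF hq3 h3 ω hω hY hY3 u hne0
  obtain ⟨v, hv, hYv, l, hl⟩ := unit_of_noniso hF Y _ μ (Y_Evec Y hY3 μ hμ _) hne
  refine ⟨v, μ, hv, ?_, hμ, hYv⟩
  have p1 : hh (Y *ᵥ u) v₁ = 0 := perp_invariant hF hY u v₁ μ₁ hμ0 hYv₁ huv
  have p2 : hh (Y *ᵥ (Y *ᵥ u)) v₁ = 0 := perp_invariant hF hY _ v₁ μ₁ hμ0 hYv₁ p1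
  rw [hl, hermForm_smul_left]
  unfold Evec
  rw [hermForm_smul_left, hermForm_add_left, hermForm_add_left, hermForm_smul_left,
    hermForm_smul_left, huv, p1, p2]
  ring

/-- unitary diagonalization of a unitary matrix of order dividing three, with prescribed
determinant of the diagonalizing matrix -/
theorem unitary_diag (hF : Fintype.card F = q ^ 2) (hq3 : q % 3 = 2) (h3 : (3 : F) ≠ 0)
    (ω : F) (hω : ω ^ 2 + ω + 1 = 0)
    {Y : Matrix (Fin 3) (Fin 3) F} (hY : IsUni F q 3 Y) (hY3 : Y ^ 3 = 1)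
    (δ : F) (hδ : δ * δ ^ q = 1) :
    ∃ (H : Matrix (Fin 3) (Fin 3) F) (d : Fin 3 → F), IsUni F q 3 H ∧ H.det = δ ∧
      Y * H = H * Matrix.diagonal d ∧ ∀ k, d k ^ 3 = 1 := by
  obtain ⟨v₁, μ₁, hv₁, hμ₁, hYv₁⟩ := exists_unit_eigen hF hq3 h3 ω hω hY hY3
  obtain ⟨v₂, μ₂, hv₂, hv₂₁, hμ₂, hYv₂⟩ :=
    exists_unit_eigen_perp hF hq3 h3 ω hω hY hY3 v₁ μ₁ hv₁ hμ₁ hYv₁
  obtain ⟨z, hzv₁, hzv₂, hzz⟩ := exists_perp_two hF v₁ v₂ hv₁ hv₂ hv₂₁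
  have hμ₁0 : μ₁ ≠ 0 := by
    intro h
    rw [h] at hμ₁
    norm_num at hμ₁
  have hμ₂0 : μ₂ ≠ 0 := by
    intro h
    rw [h] at hμ₂
    norm_num at hμ₂
  -- z is an eigenvector
  have p1 : hh (Y *ᵥ z) v₁ = 0 := perp_invariant hF hY z v₁ μ₁ hμ₁0 hYv₁ hzv₁
  have p2 : hh (Y *ᵥ z) v₂ = 0 := perp_invariant hF hY z v₂ μ₂ hμ₂0 hYv₂ hzv₂
  have hexp := frame_expand hF v₁ v₂ z hv₁ hv₂ hzz hv₂₁ hzv₁ hzv₂ (Y *ᵥ z)
  rw [p1, p2, zero_smul, zero_smul, zero_add, zero_add] at hexp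
  set β := hh (Y *ᵥ z) z with hβ
  have hz0 : z ≠ 0 := by
    intro h
    rw [h, hermForm_zero_left] at hzz
    exact zero_ne_one hzz
  have hβ3 : β ^ 3 = 1 := by
    have hy3 : Y *ᵥ (Y *ᵥ (Y *ᵥ z)) = z := by
      rw [Matrix.mulVec_mulVec, Matrix.mulVec_mulVec, ← pow_two, ← pow_succ, hY3,
        Matrix.one_mulVec]
    have h1 : Y *ᵥ (Y *ᵥ (Y *ᵥ z)) = (β ^ 3) • z := by
      rw [hexp, Matrix.mulVec_smul, hexp, Matrix.mulVec_smul, Matrix.mulVec_smul, hexp,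
        smul_smul, smul_smul]
      congr 1
      ring
    rw [hy3] at h1
    have h2 : (β ^ 3 - 1) • z = 0 := by
      rw [sub_smul, one_smul, ← h1, sub_self]
    rcases smul_eq_zero.mp h2 with h | h
    · exact sub_eq_zero.mp h
    · exact absurd h hz0
  -- adjust the determinant
  have hO := colMat_orthoN hF v₁ v₂ z hv₁ hv₂ hzz hv₂₁ hzv₁ hzv₂
  have hdet := det_mul_det_pow_of_orthoN hF _ hO
  have hD0 : (colMat v₁ v₂ z).det ≠ 0 := by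
    intro h
    rw [h, zero_mul] at hdet
    exact zero_ne_one hdet
  set D := (colMat v₁ v₂ z).det with hD
  set c := δ * D⁻¹ with hc
  have hcc : c * c ^ q = 1 := by
    rw [hc, mul_pow, inv_pow]
    have hDq : D ^ q ≠ 0 := by
      intro h
      rw [h, mul_zero] at hdet
      exact zero_ne_one hdet
    field_simp
    linear_combination hδ - hdet
  have hz' : hh (c • z) (c • z) = 1 := by
    rw [hermForm_smul_left, hermForm_smul_right, hzz, mul_one, hcc]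
  have hO' := colMat_orthoN hF v₁ v₂ (c • z) hv₁ hv₂ hz' hv₂₁
    (by rw [hermForm_smul_left, hzv₁, mul_zero]) (by rw [hermForm_smul_left, hzv₂, mul_zero])
  have hdet' : (colMat v₁ v₂ (c • z)).det = δ := by
    rw [colMat_det_smul, ← hD, hc, mul_assoc, inv_mul_cancel₀ hD0, mul_one]
  refine ⟨colMat v₁ v₂ (c • z), ![μ₁, μ₂, β], ?_, hdet', ?_, ?_⟩
  · intro u u'
    exact hermForm_mulVec_of_orthoN hF _ hO' u u'
  · rw [colMat_mul, hYv₁, hYv₂, Matrix.mulVec_smul, hexp]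
    ext i j
    fin_cases j <;> simp [colMat, Matrix.mul_diagonal, mul_comm]
    ring
  · intro k
    fin_cases k
    · exact hμ₁
    · exact hμ₂
    · exact hβ3

end Cfsg.Agent.Lib.Helper9.Uni27B
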