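import Mathlib
import Cfsg.Agent.Lib.Helper9.Uni27B

set_option autoImplicit false
set_option linter.unusedSectionVars false
set_option linter.unusedVariables false

namespace Cfsg.Agent.Lib.Helper9.Uni27C

open Cfsg.Agent.Lib.Helper14 Cfsg.Agent.Lib.Helper9.SU3Local Cfsg.Agent.Lib.Helper9.SU3Invol
open Cfsg.Agent.Lib.Helper9 Cfsg.Agent.Lib.Helper9.Uni27A Cfsg.Agent.Lib.Helper9.Uni27B
open Cfsg.Agent.Lib.Helper9.Ext27B
open Matrix Finset

variable {F : Type*} [Field F] [Fintype F] [DecidableEq F] {q : ℕ}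

local notation "hh" => Cfsg.hermForm 3 F q

theorem std_form_uni (hF : Fintype.card F = q ^ 2) (hq3 : q % 3 = 2) (h3 : (3 : F) ≠ 0)
    (t : F) (ht : t ^ 2 + t + 1 = 0) (A B : Matrix (Fin 3) (Fin 3) F)
    (hA : IsUni F q 3 A) (hB : IsUni F q 3 B) (hA3 : A ^ 3 = 1) (hB3 : B ^ 3 = 1)
    (hAB : A * B = t • (B * A)) :
    ∃ (m : Matrix (Fin 3) (Fin 3) F) (l : F), IsUni F q 3 m ∧ m.det ≠ 0 ∧ l ^ 3 = 1 ∧
      A * m = m * (l • Xm t) ∧ B * m = m * Ord3A.Cm F := by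
  have ht3 : t ^ 3 = 1 := by linear_combination (t - 1) * ht
  have ht1 : t ≠ 1 := by
    intro h
    rw [h] at ht
    apply h3
    linear_combination ht
  have ht0 : t ≠ 0 := by
    intro h
    rw [h] at ht3
    norm_num at ht3
  obtain ⟨v, l, hv, hl3, hAv⟩ := exists_unit_eigen hF hq3 h3 t ht hA hA3
  have hl0 : l ≠ 0 := by
    intro h
    rw [h] at hl3
    norm_num at hl3
  have hab' : ∀ u : Fin 3 → F, A *ᵥ (B *ᵥ u) = t • (B *ᵥ (A *ᵥ u)) := by
    intro u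
    rw [Matrix.mulVec_mulVec, hAB, Matrix.smul_mulVec, Matrix.mulVec_mulVec]
  have hav1 : A *ᵥ (B *ᵥ v) = (t * l) • (B *ᵥ v) := by
    rw [hab', hAv, Matrix.mulVec_smul, smul_smul]
  have hav2 : A *ᵥ (B *ᵥ (B *ᵥ v)) = (t ^ 2 * l) • (B *ᵥ (B *ᵥ v)) := by
    rw [hab', hav1, Matrix.mulVec_smul, smul_smul]
    congr 1
    ring
  have n01 : l ≠ t * l := by
    intro e
    have : l * (t - 1) = 0 := by linear_combination -e
    rcases mul_eq_zero.mp this with h5 | h5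
    · exact hl0 h5
    · exact ht1 (sub_eq_zero.mp h5)
  have n02 : l ≠ t ^ 2 * l := by
    intro e
    have : l * (t - 1) * (t + 1) = 0 := by linear_combination -e
    rcases mul_eq_zero.mp this with h5 | h5
    · rcases mul_eq_zero.mp h5 with h6 | h6
      · exact hl0 h6
      · exact ht1 (sub_eq_zero.mp h6)
    · apply ht0
      have : t ^ 2 = 0 := by linear_combination ht - h5
      exact pow_eq_zero_iff (by norm_num) |>.mp this
  have n12 : t * l ≠ t ^ 2 * l := by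
    intro e
    have : l * t * (t - 1) = 0 := by linear_combination -e
    rcases mul_eq_zero.mp this with h5 | h5
    · rcases mul_eq_zero.mp h5 with h6 | h6
      · exact hl0 h6
      · exact ht0 h6
    · exact ht1 (sub_eq_zero.mp h5)
  have c1 : (t * l) ^ 3 = 1 := by rw [mul_pow, ht3, hl3, one_mul]
  have hv1 : hh (B *ᵥ v) (B *ᵥ v) = 1 := by rw [hB, hv]
  have hv2 : hh (B *ᵥ (B *ᵥ v)) (B *ᵥ (B *ᵥ v)) = 1 := by rw [hB, hv1]
  have o10 : hh (B *ᵥ v) v = 0 :=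
    ortho_of_eigen hA _ _ (t * l) l hav1 hAv (mu3_ne hq3 (t * l) l hl3 (fun h => n01 h.symm))
  have o20 : hh (B *ᵥ (B *ᵥ v)) v = 0 :=
    ortho_of_eigen hA _ _ (t ^ 2 * l) l hav2 hAv (mu3_ne hq3 (t ^ 2 * l) l hl3 (fun h => n02 h.symm))
  have o21 : hh (B *ᵥ (B *ᵥ v)) (B *ᵥ v) = 0 :=
    ortho_of_eigen hA _ _ (t ^ 2 * l) (t * l) hav2 hav1
      (mu3_ne hq3 (t ^ 2 * l) (t * l) c1 (fun h => n12 h.symm))
  have hO := colMat_orthoN hF v (B *ᵥ v) (B *ᵥ (B *ᵥ v)) hv hv1 hv2 o10 o20 o21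
  have hcm : SU3Invol.colMat v (B *ᵥ v) (B *ᵥ (B *ᵥ v)) = Ord3A.colMat B v := rfl
  refine ⟨SU3Invol.colMat v (B *ᵥ v) (B *ᵥ (B *ᵥ v)), l, ?_, det_ne_zero_of_orthoN hF _ hO, hl3, ?_,
    ?_⟩
  · intro u u'
    exact hermForm_mulVec_of_orthoN hF _ hO u u'
  · rw [colMat_mul, hAv, hav1, hav2, Xm, ← Matrix.diagonal_smul]
    ext i j
    rw [Matrix.mul_diagonal]
    fin_cases j
    · simp [SU3Invol.colMat, mul_comm]
    · simp [SU3Invol.colMat]
      ring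
    · simp [SU3Invol.colMat]
      ring
  · rw [hcm]
    exact Ord3A.mul_colMat B hB3 v

end Cfsg.Agent.Lib.Helper9.Uni27C
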