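import Mathlib
import Cfsg.Prelude.Def_GeometricClasses
import Cfsg.Prelude.Def_LieClassical
import Cfsg.Agent.Lib.Helper9.Ext27H
import Cfsg.Agent.Lib.Helper9.Uni27C

set_option autoImplicit false
set_option linter.unusedSectionVars false
set_option linter.unusedVariables false

namespace Cfsg.Agent.Lib.Helper9.Uni27D

open Cfsg.Agent.Lib.Helper14 Cfsg.Agent.Lib.Helper9.SU3Local Cfsg.Agent.Lib.Helper9.SU3Invol
open Cfsg.Agent.Lib.Helper9 Cfsg.Agent.Lib.Helper9.Uni27A Cfsg.Agent.Lib.Helper9.Uni27B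
  Cfsg.Agent.Lib.Helper9.Uni27C
open Cfsg.Agent.Lib.Helper9.Ext27B Cfsg.Agent.Lib.Helper9.Ext27C Cfsg.Agent.Lib.Helper9.Ext27D
  Cfsg.Agent.Lib.Helper9.Ext27E Cfsg.Agent.Lib.Helper9.Ext27F Cfsg.Agent.Lib.Helper9.Ext27G
  Cfsg.Agent.Lib.Helper9.Ext27H
open Matrix
open scoped MatrixGroups

variable {F : Type*} [Field F] [Fintype F] [DecidableEq F] {q : ℕ}

theorem mem_GU_iff' (g : GL (Fin 3) F) :
    g ∈ Cfsg.GU 3 F q ↔ IsUni F q 3 (g : Matrix (Fin 3) (Fin 3) F) := Iff.rfl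

/-- the structure theorem with a unitary conjugating matrix -/
theorem structure_thm_uni (hF : Fintype.card F = q ^ 2) (hq3 : q % 3 = 2) (h3 : (3 : F) ≠ 0)
    (ω₀ : F) (hω₀ : ω₀ ^ 2 + ω₀ + 1 = 0)
    (R : Subgroup (GL (Fin 3) F)) (hRU : R ≤ Cfsg.GU 3 F q) (hR : Nat.card R = 27)
    (hRe : Monoid.exponent R = 3) (hRna : ¬ IsMulCommutative R) :
    ∃ (ω : F) (xg cg mg wg : GL (Fin 3) F), ω ^ 2 + ω + 1 = 0 ∧
      (xg : Matrix (Fin 3) (Fin 3) F) = Xm ω ∧ (cg : Matrix (Fin 3) (Fin 3) F) = Ord3A.Cm F ∧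
      (wg : Matrix (Fin 3) (Fin 3) F) = ω • (1 : Matrix (Fin 3) (Fin 3) F) ∧ wg ∈ R ∧
      mg ∈ Cfsg.GU 3 F q ∧
      R = Subgroup.closure {mg * xg * mg⁻¹, mg * cg * mg⁻¹} := by
  obtain ⟨a₀, b₀, wg, t, ha₀, hb₀, hwg, htω, hwgm, hA3, hB3, hABt⟩ :=
    structure_pre h3 ω₀ hω₀ R hRe hRna
  have hA : IsUni F q 3 (a₀ : Matrix (Fin 3) (Fin 3) F) := (mem_GU_iff' a₀).mp (hRU ha₀)
  have hB : IsUni F q 3 (b₀ : Matrix (Fin 3) (Fin 3) F) := (mem_GU_iff' b₀).mp (hRU hb₀)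
  obtain ⟨m, l, hUm, hm, hl3, hAm, hBm⟩ := std_form_uni hF hq3 h3 t htω _ _ hA hB hA3 hB3 hABt
  obtain ⟨xg, cg, mg, hxg, hcg, hmg, hRcl⟩ :=
    structure_post h3 R hR a₀ b₀ wg t ha₀ hb₀ hwg htω hwgm hABt m l hm hl3 hAm hBm
  refine ⟨t, xg, cg, mg, wg, htω, hxg, hcg, hwgm, hwg, ?_, hRcl⟩
  rw [mem_GU_iff', hmg]
  exact hUm

/-- from the subgroup of `GL` to the special unitary group -/
def toSU (x : GL (Fin 3) F)
    (hx : x ∈ Cfsg.GU 3 F q ⊓ Cfsg.Geo.specialLinear (Fin 3) F) : ↥(Cfsg.SU 3 F q) :=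
  ⟨⟨(x : Matrix (Fin 3) (Fin 3) F), (mem_SL_iff x).mp (Subgroup.mem_inf.mp hx).2⟩,
    (mem_SU_iff _).mpr ((mem_GU_iff' x).mp (Subgroup.mem_inf.mp hx).1)⟩

theorem mat_toSU (x : GL (Fin 3) F)
    (hx : x ∈ Cfsg.GU 3 F q ⊓ Cfsg.Geo.specialLinear (Fin 3) F) :
    mat (toSU x hx) = (x : Matrix (Fin 3) (Fin 3) F) := rfl

/-- from the special unitary group to `GL` -/
def ofSU (g : ↥(Cfsg.SU 3 F q)) : GL (Fin 3) F := Matrix.SpecialLinearGroup.toGL g.1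

theorem ofSU_val (g : ↥(Cfsg.SU 3 F q)) : ((ofSU g : GL (Fin 3) F) : Matrix (Fin 3) (Fin 3) F) = mat g :=
  rfl

theorem ofSU_mem (g : ↥(Cfsg.SU 3 F q)) :
    ofSU g ∈ Cfsg.GU 3 F q ⊓ Cfsg.Geo.specialLinear (Fin 3) F := by
  refine Subgroup.mem_inf.mpr ⟨?_, ?_⟩
  · rw [mem_GU_iff', ofSU_val]
    exact mat_isUni g
  · rw [mem_SL_iff, ofSU_val]
    exact g.1.2

theorem invol_conj_GL (hq : Odd q) (hF : Fintype.card F = q ^ 2) (a b : GL (Fin 3) F)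
    (ha : a ∈ Cfsg.GU 3 F q ⊓ Cfsg.Geo.specialLinear (Fin 3) F)
    (hb : b ∈ Cfsg.GU 3 F q ⊓ Cfsg.Geo.specialLinear (Fin 3) F)
    (ha2 : a * a = 1) (ha1 : a ≠ 1) (hb2 : b * b = 1) (hb1 : b ≠ 1) :
    ∃ g ∈ Cfsg.GU 3 F q ⊓ Cfsg.Geo.specialLinear (Fin 3) F, g⁻¹ * a * g = b := by
  have hta1 : toSU a ha ≠ 1 := by
    intro h
    apply ha1
    apply Units.ext
    have := congrArg mat h
    rw [mat_toSU, mat_one] at this
    rw [this, Units.val_one]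
  have htb1 : toSU b hb ≠ 1 := by
    intro h
    apply hb1
    apply Units.ext
    have := congrArg mat h
    rw [mat_toSU, mat_one] at this
    rw [this, Units.val_one]
  have hta2 : toSU a ha * toSU a ha = 1 := by
    apply mat_injective
    rw [mat_mul, mat_toSU, mat_one, ← Units.val_mul, ha2, Units.val_one]
  have htb2 : toSU b hb * toSU b hb = 1 := by
    apply mat_injective
    rw [mat_mul, mat_toSU, mat_one, ← Units.val_mul, hb2, Units.val_one]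
  obtain ⟨g₀, hg₀⟩ := invol_conj hq hF (toSU a ha) (toSU b hb) hta1 hta2 htb1 htb2
  refine ⟨(ofSU g₀)⁻¹, Subgroup.inv_mem _ (ofSU_mem g₀), ?_⟩
  have h1 : g₀ * toSU a ha = toSU b hb * g₀ := by
    rw [← hg₀, inv_mul_cancel_right]
  have h2 : ofSU g₀ * a = b * ofSU g₀ := by
    apply Units.ext
    rw [Units.val_mul, Units.val_mul, ofSU_val, ← mat_toSU a ha, ← mat_toSU b hb, ← mat_mul,
      ← mat_mul, h1]
  rw [inv_inv, h2, mul_inv_cancel_right]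

theorem card_SU_GL (hF : Fintype.card F = q ^ 2) :
    (q + 1) * Nat.card (Cfsg.GU 3 F q ⊓ Cfsg.Geo.specialLinear (Fin 3) F : Subgroup (GL (Fin 3) F)) =
      Nat.card (Cfsg.GU 3 F q) := by
  rw [← card_SU_mul hF 3 (by norm_num)]
  congr 1
  apply Nat.card_congr
  refine ⟨fun x => toSU x.1 x.2, fun g => ⟨ofSU g, ofSU_mem g⟩, ?_, ?_⟩
  · intro x
    apply Subtype.ext
    apply Units.ext
    rfl
  · intro g
    apply mat_injective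
    rfl

set_option maxRecDepth 1000000 in
theorem aux243u : ∀ r : ℕ, r < 243 → (r % 9 = 2 ∨ r % 9 = 5) →
    ((r : ZMod 243) ^ 3 * (((r : ZMod 243) + 1) * ((r : ZMod 243) ^ 2 - 1) *
      ((r : ZMod 243) ^ 3 + 1))) ≠ 0 := by
  decide

theorem prod_mod243u (q : ℕ) (hq : q % 9 = 2 ∨ q % 9 = 5) :
    ¬ 243 ∣ q ^ 3 * ((q + 1) * (q ^ 2 - 1) * (q ^ 3 + 1)) := by
  intro h
  have hq1 : 1 ≤ q := by omega
  have e0 : 1 ≤ q ^ 2 := Nat.one_le_pow _ _ hq1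
  have hz : ((q ^ 3 * ((q + 1) * (q ^ 2 - 1) * (q ^ 3 + 1)) : ℕ) : ZMod 243) = 0 :=
    (ZMod.natCast_eq_zero_iff _ 243).mpr h
  rw [Nat.cast_mul, Nat.cast_mul, Nat.cast_mul, Nat.cast_sub e0] at hz
  push_cast at hz
  have hq243 : (q : ZMod 243) = ((q % 243 : ℕ) : ZMod 243) := (ZMod.natCast_mod q 243).symm
  rw [hq243] at hz
  have hlt : q % 243 < 243 := Nat.mod_lt _ (by norm_num)
  have hmod : (q % 243) % 9 = q % 9 := Nat.mod_mod_of_dvd q (by norm_num)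
  exact aux243u (q % 243) hlt (by rw [hmod]; exact hq) hz

theorem not_81_dvd_SU (hF : Fintype.card F = q ^ 2) (hq : q % 9 = 2 ∨ q % 9 = 5) :
    ¬ 81 ∣ Nat.card (Cfsg.GU 3 F q ⊓ Cfsg.Geo.specialLinear (Fin 3) F : Subgroup (GL (Fin 3) F)) := by
  intro h
  have h1 := card_SU_GL (q := q) hF
  rw [card_GU3 hF] at h1
  apply prod_mod243u q hq
  have h3 : 3 ∣ q + 1 := by omega
  have : (243 : ℕ) = 3 * 81 := by norm_num
  rw [← h1, this]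
  exact Nat.mul_dvd_mul h3 h

end Cfsg.Agent.Lib.Helper9.Uni27D
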