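import Mathlib
import Cfsg.Agent.Lib.Helper9.Uni27D

set_option autoImplicit false
set_option linter.unusedSectionVars false
set_option linter.unusedVariables false

namespace Cfsg.Agent.Lib.Helper9.Uni27E

open Cfsg.Agent.Lib.Helper14 Cfsg.Agent.Lib.Helper9.SU3Local Cfsg.Agent.Lib.Helper9.SU3Invol
open Cfsg.Agent.Lib.Helper9 Cfsg.Agent.Lib.Helper9.Uni27A Cfsg.Agent.Lib.Helper9.Uni27B
  Cfsg.Agent.Lib.Helper9.Uni27C Cfsg.Agent.Lib.Helper9.Uni27D
open Cfsg.Agent.Lib.Helper9.Ext27B Cfsg.Agent.Lib.Helper9.Ext27C Cfsg.Agent.Lib.Helper9.Ext27D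
  Cfsg.Agent.Lib.Helper9.Ext27E Cfsg.Agent.Lib.Helper9.Ext27F Cfsg.Agent.Lib.Helper9.Ext27G
  Cfsg.Agent.Lib.Helper9.Ext27H
open Matrix
open scoped MatrixGroups

variable {F : Type*} [Field F] [Fintype F] [DecidableEq F] {q : ℕ}

/-- Cauchy in a subgroup of the special linear group: a non-scalar element of order `r ≥ 5` -/
theorem cauchy_nonscalar' (K : Subgroup (GL (Fin 3) F))
    (hK : K ≤ Cfsg.Geo.specialLinear (Fin 3) F) (r : ℕ) [Fact r.Prime] (hr : 5 ≤ r)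
    (hdvd : r ∣ Nat.card K) :
    ∃ x ∈ K, x ^ r = 1 ∧
      ∀ z : F, (x : Matrix (Fin 3) (Fin 3) F) ≠ z • (1 : Matrix (Fin 3) (Fin 3) F) := by
  obtain ⟨x, hx⟩ := exists_prime_orderOf_dvd_card' (G := K) r hdvd
  refine ⟨x, x.2, ?_, ?_⟩
  · have := pow_orderOf_eq_one x
    rw [hx] at this
    have := congrArg Subtype.val this
    simpa using this
  · intro z hz
    have hdet := (mem_SL_iff (x : GL (Fin 3) F)).mp (hK x.2)
    rw [hz, Matrix.det_smul, Matrix.det_one, Fintype.card_fin, mul_one] at hdet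
    have hx3 : x ^ 3 = 1 := by
      apply Subtype.ext
      apply Units.ext
      simp only [Subgroup.coe_pow, Units.val_pow_eq_pow_val, Subgroup.coe_one, Units.val_one]
      rw [hz, smul_pow, one_pow, hdet, one_smul]
    have := orderOf_dvd_of_pow_eq_one hx3
    rw [hx] at this
    have := Nat.le_of_dvd (by norm_num) this
    omega

theorem exists_cube_root_uni (hF : Fintype.card F = q ^ 2) (h9 : 9 ∣ q + 1) (z : F)
    (hz : z ^ 3 = 1) : ∃ c₀ : F, c₀ ^ 3 * z = 1 ∧ c₀ * c₀ ^ q = 1 := by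
  have h9' : 9 ∣ Fintype.card F - 1 := by
    rw [hF]
    obtain ⟨n, rfl⟩ : ∃ n, q = n + 1 := ⟨q - 1, by omega⟩
    have e : (n + 1) ^ 2 = (n + 1 + 1) * n + 1 := by ring
    rw [e, Nat.add_sub_cancel]
    exact Dvd.dvd.mul_right h9 n
  obtain ⟨ζ, hζ9, hζ3⟩ := Ord3C.exists_order9 h9'
  have hη : (ζ ^ 3) ^ 2 + ζ ^ 3 + 1 = 0 := by
    have : (ζ ^ 3 - 1) * ((ζ ^ 3) ^ 2 + ζ ^ 3 + 1) = 0 := by linear_combination hζ9
    rcases mul_eq_zero.mp this with h5 | h5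
    · exact absurd (sub_eq_zero.mp h5) hζ3
    · exact h5
  obtain ⟨n, hn⟩ := mu3 (ζ ^ 3) hη z hz
  obtain ⟨k, hk⟩ := h9
  refine ⟨ζ ^ (8 * n), ?_, ?_⟩
  · rw [hn, ← pow_mul, ← pow_mul, ← pow_add, show 8 * n * 3 + 3 * n = 9 * (3 * n) by ring, pow_mul,
      hζ9, one_pow]
  · rw [← pow_succ', ← pow_mul, hk, show 8 * n * (9 * k) = 9 * (8 * n * k) by ring, pow_mul, hζ9,
      one_pow]

theorem isUni_Tm (hq : Odd q) : IsUni F q 3 (Tm F) := by
  intro u v
  have hu : (Tm F) *ᵥ u = ![-u 0, -u 2, -u 1] := by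
    funext i
    fin_cases i <;> simp [Tm, Matrix.mulVec, dotProduct, Fin.sum_univ_three]
  have hv : (Tm F) *ᵥ v = ![-v 0, -v 2, -v 1] := by
    funext i
    fin_cases i <;> simp [Tm, Matrix.mulVec, dotProduct, Fin.sum_univ_three]
  rw [hu, hv]
  unfold Cfsg.hermForm
  rw [Fin.sum_univ_three, Fin.sum_univ_three]
  simp only [Matrix.cons_val_zero, Matrix.cons_val_one, Matrix.cons_val_two, Matrix.head_cons,
    Matrix.tail_cons, hq.neg_pow]
  ring

theorem isUni_smul (c : F) (hc : c * c ^ q = 1) {M : Matrix (Fin 3) (Fin 3) F}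
    (hM : IsUni F q 3 M) : IsUni F q 3 (c • M) := by
  intro u v
  rw [Matrix.smul_mulVec, Matrix.smul_mulVec, hermForm_smul_left, hermForm_smul_right, hM,
    ← mul_assoc, hc, one_mul]

theorem isUni_one : IsUni F q 3 (1 : Matrix (Fin 3) (Fin 3) F) := by
  intro u v
  rw [Matrix.one_mulVec, Matrix.one_mulVec]

theorem mu3_norm (hq3 : q % 3 = 2) (z : F) (hz : z ^ 3 = 1) : z * z ^ q = 1 := by
  rw [mu3_pow_q hq3 z hz, ← pow_succ', hz]

omit [Fintype F] [DecidableEq F] in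
theorem transfer' (x mg : GL (Fin 3) F)
    (h N₀ : Matrix (Fin 3) (Fin 3) F)
    (hdet : h.det = (mg : Matrix (Fin 3) (Fin 3) F).det)
    (hxh : (x : Matrix (Fin 3) (Fin 3) F) * h = h * N₀) :
    ∃ hg : GL (Fin 3) F, (hg : Matrix (Fin 3) (Fin 3) F) = h ∧
      hg * mg⁻¹ ∈ Cfsg.Geo.specialLinear (Fin 3) F ∧ ∃ ng : GL (Fin 3) F,
      (ng : Matrix (Fin 3) (Fin 3) F) = N₀ ∧ (hg * mg⁻¹)⁻¹ * x * (hg * mg⁻¹) = mg * ng * mg⁻¹ := by
  have hh : h.det ≠ 0 := by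
    rw [hdet]
    exact Matrix.GeneralLinearGroup.det_ne_zero mg
  obtain ⟨hg, hhg⟩ : ∃ hg : GL (Fin 3) F, (hg : Matrix (Fin 3) (Fin 3) F) = h :=
    ⟨Matrix.GeneralLinearGroup.mkOfDetNeZero h hh, rfl⟩
  have hu : IsUnit h.det := isUnit_iff_ne_zero.mpr hh
  refine ⟨hg, hhg, ?_, hg⁻¹ * x * hg, ?_, ?_⟩
  · rw [mem_SL_iff, Units.val_mul, Matrix.det_mul, hhg, hdet, Matrix.coe_units_inv,
      Matrix.det_nonsing_inv, Ring.inverse_eq_inv',
      mul_inv_cancel₀ (Matrix.GeneralLinearGroup.det_ne_zero mg)]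
  · have e : hg * (hg⁻¹ * x * hg) = x * hg := by group
    have e' := congrArg (fun g : GL (Fin 3) F => (g : Matrix (Fin 3) (Fin 3) F)) e
    simp only [Units.val_mul] at e'
    rw [hhg, hxh] at e'
    have e'' : h * ((hg⁻¹ * x * hg : GL (Fin 3) F) : Matrix (Fin 3) (Fin 3) F) = h * N₀ := by
      rw [← e']
      simp only [Units.val_mul, hhg, mul_assoc]
    calc ((hg⁻¹ * x * hg : GL (Fin 3) F) : Matrix (Fin 3) (Fin 3) F)
        = h⁻¹ * (h * ((hg⁻¹ * x * hg : GL (Fin 3) F) : Matrix (Fin 3) (Fin 3) F)) := by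
          rw [← mul_assoc, Matrix.nonsing_inv_mul h hu, one_mul]
      _ = N₀ := by rw [e'', ← mul_assoc, Matrix.nonsing_inv_mul h hu, one_mul]
  · group

omit [Fintype F] [DecidableEq F] in
theorem scalar_central (sg : GL (Fin 3) F) (s : F)
    (hs : (sg : Matrix (Fin 3) (Fin 3) F) = s • (1 : Matrix (Fin 3) (Fin 3) F)) (y : GL (Fin 3) F) :
    sg * y = y * sg := by
  apply Units.ext
  rw [Units.val_mul, Units.val_mul, hs, Matrix.smul_mul, Matrix.mul_smul, one_mul, mul_one]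

omit [Fintype F] [DecidableEq F] in
theorem Tm_mul_self : Tm F * Tm F = 1 := by
  ext i j
  fin_cases i <;> fin_cases j <;>
    simp only [Tm, Matrix.mul_apply, Fin.sum_univ_three, Matrix.one_apply,
      Matrix.of_apply, Matrix.cons_val_zero,
      Matrix.cons_val_one, Matrix.cons_val_two, Matrix.cons_val_fin_one, Matrix.head_cons,
      Matrix.tail_cons, Fin.zero_eta, Fin.mk_one, Fin.reduceFinMk, Fin.reduceEq,
      Fin.isValue, ↓reduceIte] <;>
    ring1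

end Cfsg.Agent.Lib.Helper9.Uni27E
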