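/-
helper9: S2524 leaf TW `exists_twist` (planner helper10, notes/S2524_leaves2.lean; twin of helper2's take).
The diagonal automorphism `δ` = conjugation by `diag(ν⁻¹ I, I)`.
-/
import Mathlib
import Cfsg.Agent.Lib.Helper10.WGDefs
import Cfsg.Agent.Lib.Helper10.WGDefs2
import Cfsg.Agent.Lib.Helper23.WGLVW

set_option autoImplicit false

namespace Cfsg.Agent.Lib.Helper9.WGTW

open Matrix Cfsg.Agent.Lib.Helper11.LS Cfsg.Agent.Lib.Helper10.WG

universe u

variable {F : Type*} [Field F]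

section delta

variable {n : ℕ} (ν : F) (hν0 : ν ≠ 0)

/-- `diag(c I, I)` -/
def dM (c : F) : Matrix (Fin n ⊕ Fin n) (Fin n ⊕ Fin n) F := fromBlocks (c • 1) 0 0 1

theorem dM_mul (c d : F) : (dM c : Matrix (Fin n ⊕ Fin n) (Fin n ⊕ Fin n) F) * dM d = dM (c * d) := by
  unfold dM
  rw [fromBlocks_multiply]
  simp [smul_smul, mul_comm]

theorem dM_one : (dM 1 : Matrix (Fin n ⊕ Fin n) (Fin n ⊕ Fin n) F) = 1 := by
  unfold dM
  rw [one_smul, fromBlocks_one]

theorem dM_J (c : F) :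
    (dM c : Matrix (Fin n ⊕ Fin n) (Fin n ⊕ Fin n) F) * J (Fin n) F * (dM c)ᵀ = c • J (Fin n) F := by
  unfold dM J
  rw [fromBlocks_transpose, fromBlocks_multiply, fromBlocks_multiply, fromBlocks_smul]
  simp

theorem conj_mem (c d : F) (hcd : c * d = 1) (M : Matrix (Fin n ⊕ Fin n) (Fin n ⊕ Fin n) F)
    (hM : M ∈ Matrix.symplecticGroup (Fin n) F) :
    dM c * M * dM d ∈ Matrix.symplecticGroup (Fin n) F := by
  rw [SymplecticGroup.mem_iff] at hM ⊢
  calc dM c * M * dM d * J (Fin n) F * (dM c * M * dM d)ᵀ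
      = dM c * (M * (dM d * J (Fin n) F * (dM d)ᵀ) * Mᵀ) * (dM c)ᵀ := by
        rw [transpose_mul, transpose_mul]
        simp only [Matrix.mul_assoc]
    _ = d • (dM c * (M * J (Fin n) F * Mᵀ) * (dM c)ᵀ) := by
        rw [dM_J]
        simp only [Matrix.mul_smul, Matrix.smul_mul]
    _ = d • (c • J (Fin n) F) := by rw [hM, dM_J]
    _ = J (Fin n) F := by rw [smul_smul, mul_comm, hcd, one_smul]

/-- conjugation by `diag(c I, I)` (`c d = 1`) on the symplectic group -/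
def conjHom (c d : F) (hcd : c * d = 1) : SpG F n →* SpG F n where
  toFun g := ⟨dM c * g.1 * dM d, conj_mem c d hcd g.1 g.2⟩
  map_one' := by
    apply Subtype.ext
    show dM c * (1 : Matrix (Fin n ⊕ Fin n) (Fin n ⊕ Fin n) F) * dM d = 1
    rw [Matrix.mul_one, dM_mul, hcd, dM_one]
  map_mul' g h := by
    apply Subtype.ext
    show dM c * (g.1 * h.1) * dM d = dM c * g.1 * dM d * (dM c * h.1 * dM d)
    have : (dM d : Matrix (Fin n ⊕ Fin n) (Fin n ⊕ Fin n) F) * dM c = 1 := by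
      rw [dM_mul, mul_comm, hcd, dM_one]
    calc dM c * (g.1 * h.1) * dM d = dM c * g.1 * 1 * h.1 * dM d := by
          simp only [Matrix.mul_assoc, Matrix.one_mul]
      _ = dM c * g.1 * dM d * (dM c * h.1 * dM d) := by
          rw [← this]
          simp only [Matrix.mul_assoc]

theorem conjHom_val (c d : F) (hcd : c * d = 1) (g : SpG F n) :
    (conjHom c d hcd g).1 = dM c * g.1 * dM d := rfl

/-- the diagonal automorphism -/
def delta (c d : F) (hcd : c * d = 1) : SpG F n ≃* SpG F n where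
  toFun := conjHom c d hcd
  invFun := conjHom d c (by rw [mul_comm]; exact hcd)
  left_inv g := by
    apply Subtype.ext
    rw [conjHom_val, conjHom_val]
    have : (dM d : Matrix (Fin n ⊕ Fin n) (Fin n ⊕ Fin n) F) * dM c = 1 := by
      rw [dM_mul, mul_comm, hcd, dM_one]
    calc dM d * (dM c * g.1 * dM d) * dM c = (dM d * dM c) * g.1 * (dM d * dM c) := by
          simp only [Matrix.mul_assoc]
      _ = g.1 := by rw [this, Matrix.one_mul, Matrix.mul_one]
  right_inv g := by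
    apply Subtype.ext
    rw [conjHom_val, conjHom_val]
    have : (dM c : Matrix (Fin n ⊕ Fin n) (Fin n ⊕ Fin n) F) * dM d = 1 := by
      rw [dM_mul, hcd, dM_one]
    calc dM c * (dM d * g.1 * dM c) * dM d = (dM c * dM d) * g.1 * (dM c * dM d) := by
          simp only [Matrix.mul_assoc]
      _ = g.1 := by rw [this, Matrix.one_mul, Matrix.mul_one]
  map_mul' := map_mul (conjHom c d hcd)

theorem delta_Xs (c d : F) (hcd : c * d = 1) (S : Matrix (Fin n) (Fin n) F) (hS : Sᵀ = S) :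
    delta c d hcd (Xs S hS) = Xs (c • S) (by rw [transpose_smul, hS]) := by
  apply Subtype.ext
  show dM c * fromBlocks 1 S 0 1 * dM d = fromBlocks 1 (c • S) 0 1
  unfold dM
  rw [fromBlocks_multiply, fromBlocks_multiply]
  have hdc : d * c = 1 := by rw [mul_comm]; exact hcd
  simp [smul_smul, hdc]

end delta

section weights

variable [Fintype F] [DecidableEq F] {n : ℕ} {V : Type u} [AddCommGroup V] [Module ℂ V]

theorem Xs_congr {S T : Matrix (Fin n) (Fin n) F} (h : S = T) (hS : Sᵀ = S) (hT : Tᵀ = T) :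
    (Xs S hS : SpG F n) = Xs T hT := by
  subst h
  rfl

/-- the weight `B` of `ρ ∘ δ` is the weight `d B` of `ρ` (`δ (Xs S) = Xs (c S)`, `c d = 1`) -/
theorem wt_comp_delta (ψ : AddChar F ℂ) (c d : F) (hcd : c * d = 1)
    (ρ : Representation ℂ (SpG F n) V) (B : Matrix (Fin n) (Fin n) F) :
    wt ψ (MonoidHom.comp ρ (delta c d hcd).toMonoidHom : Representation ℂ (SpG F n) V) B =
      wt ψ ρ (d • B) := by
  have hdc : d * c = 1 := by rw [mul_comm]; exact hcd
  ext v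
  rw [mem_wt, mem_wt]
  constructor
  · intro h S hS
    have h1 := h (d • S) (by rw [transpose_smul, hS])
    have h2 : (MonoidHom.comp ρ (delta c d hcd).toMonoidHom : Representation ℂ (SpG F n) V)
        (Xs (d • S) (by rw [transpose_smul, hS])) = ρ (Xs S hS) := by
      show ρ (delta c d hcd (Xs (d • S) _)) = ρ (Xs S hS)
      rw [delta_Xs]
      congr 1
      exact Xs_congr (by rw [smul_smul, hcd, one_smul]) _ _
    rw [h2] at h1
    rw [h1, Matrix.mul_smul, Matrix.smul_mul]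
  · intro h S hS
    show ρ (delta c d hcd (Xs S hS)) v = _
    rw [delta_Xs, h, Matrix.mul_smul, Matrix.smul_mul, smul_smul, hcd, one_smul]

theorem dgG_val (d : Fin n → Fˣ) :
    ((dgG d : GL (Fin n) F) : Matrix (Fin n) (Fin n) F) = diagonal fun i => (d i : F) := rfl

theorem dgG_inv (d : Fin n → Fˣ) : (dgG d : GL (Fin n) F)⁻¹ = dgG fun i => (d i)⁻¹ := by
  apply inv_eq_of_mul_eq_one_right
  apply Units.ext
  rw [Units.val_mul, dgG_val, dgG_val, diagonal_mul_diagonal, Units.val_one]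
  rw [← diagonal_one]
  congr 1
  funext i
  rw [← Units.val_mul, mul_inv_cancel, Units.val_one]

theorem diag_conj_single (w : Fin (n + 1) → F) (c : F) :
    (diagonal w)ᵀ * single 0 0 c * diagonal w = single 0 0 (w 0 * c * w 0) := by
  rw [diagonal_transpose]
  ext i j
  rw [mul_diagonal, diagonal_mul, single_apply, single_apply]
  by_cases h : (0 : Fin (n + 1)) = i ∧ (0 : Fin (n + 1)) = j
  · rw [if_pos h, if_pos h, ← h.1, ← h.2]
  · rw [if_neg h, if_neg h, mul_zero, zero_mul]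

/-- `LvG (t1G t)` moves the weight `c E_00` to the weight `t⁻¹ c t⁻¹ E_00` -/
theorem wt_single_transfer (ψ : AddChar F ℂ) (ρ : Representation ℂ (SpG F (n + 1)) V) (t : Fˣ) (c : F)
    (h : wt ψ ρ (single 0 0 c) ≠ ⊥) :
    wt ψ ρ (single 0 0 ((t⁻¹ : Fˣ) * c * (t⁻¹ : Fˣ))) ≠ ⊥ := by
  obtain ⟨v, hv, hv0⟩ := (Submodule.ne_bot_iff _).mp h
  rw [Submodule.ne_bot_iff]
  refine ⟨ρ (LvG (t1G t)) v, ?_, ?_⟩
  · have h1 := Cfsg.Agent.Lib.Helper23.WGLVW.LvG_mem_wt ψ ρ (t1G t) (single 0 0 c) v hv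
    let w : Fin (n + 1) → F := fun i => ((((Fin.cons t fun _ => 1 : Fin (n + 1) → Fˣ) i)⁻¹ : Fˣ) : F)
    have h2 : (((t1G t : GL (Fin (n + 1)) F)⁻¹ : GL (Fin (n + 1)) F) :
        Matrix (Fin (n + 1)) (Fin (n + 1)) F) = diagonal w := by
      rw [t1G, dgG_inv, dgG_val]
    rw [h2, diag_conj_single] at h1
    exact h1
  · intro h0
    apply hv0
    have : ρ (LvG (t1G t))⁻¹ (ρ (LvG (t1G t)) v) = v := by
      rw [← Module.End.mul_apply, ← map_mul, inv_mul_cancel, map_one, Module.End.one_apply]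
    rw [← this, h0, map_zero]

end weights

/-- (TW) -/
theorem exists_twist [Fintype F] [DecidableEq F] {n : ℕ} (ψ : AddChar F ℂ) (ν : F) (hν0 : ν ≠ 0) :
    ∃ δ : SpG F (n + 1) ≃* SpG F (n + 1),
      ∀ (V : Type u) [AddCommGroup V] [Module ℂ V] (ρ : Representation ℂ (SpG F (n + 1)) V),
        (wt ψ (MonoidHom.comp ρ δ.toMonoidHom : Representation ℂ (SpG F (n + 1)) V) (single 0 0 1) ≠ ⊥ ↔
          wt ψ ρ (single 0 0 ν) ≠ ⊥) ∧
        (wt ψ (MonoidHom.comp ρ δ.toMonoidHom : Representation ℂ (SpG F (n + 1)) V) (single 0 0 ν) ≠ ⊥ ↔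
          wt ψ ρ (single 0 0 1) ≠ ⊥) := by
  have hcd : ν⁻¹ * ν = 1 := inv_mul_cancel₀ hν0
  refine ⟨delta ν⁻¹ ν hcd, ?_⟩
  intro V _ _ ρ
  rw [wt_comp_delta, wt_comp_delta, smul_single, smul_single, smul_eq_mul, smul_eq_mul, mul_one]
  refine ⟨Iff.rfl, ?_⟩
  constructor
  · intro h
    have h1 := wt_single_transfer ψ ρ (Units.mk0 ν hν0) (ν * ν) h
    have h2 : (((Units.mk0 ν hν0)⁻¹ : Fˣ) : F) * (ν * ν) * (((Units.mk0 ν hν0)⁻¹ : Fˣ) : F) = 1 := by
      rw [Units.val_inv_eq_inv_val, Units.val_mk0]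
      field_simp
    rw [h2] at h1
    exact h1
  · intro h
    have h1 := wt_single_transfer ψ ρ (Units.mk0 ν hν0)⁻¹ 1 h
    have h2 : ((((Units.mk0 ν hν0)⁻¹)⁻¹ : Fˣ) : F) * 1 * ((((Units.mk0 ν hν0)⁻¹)⁻¹ : Fˣ) : F) = ν * ν := by
      rw [inv_inv, Units.val_mk0, mul_one]
    rw [h2] at h1
    exact h1

end Cfsg.Agent.Lib.Helper9.WGTW
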