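/-
Helper9 library: derived length in regular wreath products; finite perfect groups with solvable
maximal subgroups of arbitrarily large derived length.
-/
import Mathlib
import Cfsg.Agent.Lib.Lead.CharBurnside

set_option autoImplicit false
set_option linter.unusedSectionVars false
set_option linter.style.haveILetI false

namespace Cfsg.Agent.Lib.Helper9.WreathDerived

open RegularWreathProduct

section general

/-- derived series of a Pi group lies in the product of derived series. -/
theorem derivedSeries_pi_le {ι : Type*} {D : Type*} [Group D] (n : ℕ) :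
    derivedSeries (ι → D) n ≤ Subgroup.pi Set.univ (fun _ => derivedSeries D n) := by
  induction n with
  | zero =>
    intro x _ i _
    exact Subgroup.mem_top _
  | succ n ih =>
    rw [derivedSeries_succ, derivedSeries_succ]
    exact le_trans (Subgroup.commutator_mono ih ih) (Subgroup.commutator_pi_pi_le _ _)

theorem isSolvable_pi {ι : Type*} {D : Type*} [Group D] [Group.IsSolvable D] :
    Group.IsSolvable (ι → D) := by
  obtain ⟨n, hn⟩ := (Group.isSolvable_def D).mp inferInstance
  refine (Group.isSolvable_def _).mpr ⟨n, ?_⟩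
  rw [eq_bot_iff]
  intro x hx
  have := derivedSeries_pi_le (ι := ι) (D := D) n hx
  rw [hn] at this
  rw [Subgroup.mem_bot]
  funext i
  exact (Subgroup.mem_bot).mp (this i (Set.mem_univ i))

/-- derived series of a subgroup versus a larger subgroup. -/
theorem derivedSeries_ne_bot_of_le {Γ : Type*} [Group Γ] {K H : Subgroup Γ} (hKH : K ≤ H) (d : ℕ)
    (hK : derivedSeries ↥K d ≠ ⊥) : derivedSeries ↥H d ≠ ⊥ := by
  intro hH
  apply hK
  have h1 := map_derivedSeries_le_derivedSeries (Subgroup.inclusion hKH) d
  rw [hH, le_bot_iff] at h1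
  exact (Subgroup.map_eq_bot_iff_of_injective _ (Subgroup.inclusion_injective hKH)).mp h1

theorem derivedSeries_ne_bot_of_injective {A B : Type*} [Group A] [Group B] (j : A →* B)
    (hj : Function.Injective j) (d : ℕ) (hA : derivedSeries A d ≠ ⊥) : derivedSeries B d ≠ ⊥ := by
  intro hB
  apply hA
  have h1 := map_derivedSeries_le_derivedSeries j d
  rw [hB, le_bot_iff] at h1
  exact (Subgroup.map_eq_bot_iff_of_injective _ hj).mp h1

/-- surjections do not decrease derived length. -/
theorem derivedSeries_ne_bot_of_surjective {G G' : Type*} [Group G] [Group G'] (f : G →* G')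
    (hf : Function.Surjective f) (d : ℕ) (h : derivedSeries G' d ≠ ⊥) : derivedSeries G d ≠ ⊥ := by
  intro hG
  apply h
  rw [← map_derivedSeries_eq hf, hG, Subgroup.map_bot]

/-- derived series of the commutator subgroup. -/
theorem map_derivedSeries_commutator_le {Γ : Type*} [Group Γ] (d : ℕ) :
    (derivedSeries ↥(commutator Γ) d).map (commutator Γ).subtype ≤ derivedSeries Γ (d + 1) := by
  induction d with
  | zero =>
    rw [derivedSeries_zero, ← MonoidHom.range_eq_map, Subgroup.range_subtype, derivedSeries_succ,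
      derivedSeries_zero]
    exact le_of_eq rfl
  | succ d ih =>
    rw [derivedSeries_succ, derivedSeries_succ (G := Γ) (n := d + 1), Subgroup.map_commutator]
    exact Subgroup.commutator_mono ih ih

theorem derivedSeries_succ_ne_bot_of_commutator {Γ : Type*} [Group Γ] (d : ℕ)
    (h : derivedSeries ↥(commutator Γ) d ≠ ⊥) : derivedSeries Γ (d + 1) ≠ ⊥ := by
  intro hΓ
  apply h
  have h1 := map_derivedSeries_commutator_le (Γ := Γ) d
  rw [hΓ, le_bot_iff] at h1
  exact (Subgroup.map_eq_bot_iff_of_injective _ (Subgroup.subtype_injective _)).mp h1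

end general

section wreath

variable {D Q : Type*} [Group D] [Group Q]

/-- the left part, as a homomorphism on the base group (the kernel of `rightHom`). -/
def leftHom : (rightHom (D := D) (Q := Q)).ker →* (Q → D) where
  toFun w := w.1.left
  map_one' := rfl
  map_mul' w w' := by
    have h : w.1.right = 1 := w.2
    funext x
    simp [h]

theorem leftHom_apply (w : (rightHom (D := D) (Q := Q)).ker) : leftHom w = w.1.left := rfl

theorem leftHom_injective : Function.Injective (leftHom (D := D) (Q := Q)) := by
  intro w w' h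
  apply Subtype.ext
  have h1 : w.1.right = 1 := w.2
  have h2 : w'.1.right = 1 := w'.2
  ext1
  · exact h
  · rw [h1, h2]

instance isSolvable_base [Group.IsSolvable D] :
    Group.IsSolvable (rightHom (D := D) (Q := Q)).ker := by
  haveI : Group.IsSolvable (Q → D) := isSolvable_pi
  exact Group.isSolvable_of_isSolvable_injective leftHom_injective

instance isSolvable_wreath [Group.IsSolvable D] [Group.IsSolvable Q] :
    Group.IsSolvable (D ≀ᵣ Q) := by
  exact Group.isSolvable_of_ker_le_range (rightHom (D := D) (Q := Q)).ker.subtype rightHom (by simp)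

theorem exists_mem_of_comm [DecidableEq Q] (P : Subgroup (D ≀ᵣ Q)) (g : D ≀ᵣ Q)
    (hg : g.right ≠ 1) (hP : ∀ b : D ≀ᵣ Q, b.right = 1 → b * g * b⁻¹ * g⁻¹ ∈ P) (s : D) :
    ∃ n ∈ P, n.right = 1 ∧ n.left 1 = s := by
  refine ⟨_, hP ⟨Pi.mulSingle 1 s, 1⟩ rfl, ?_, ?_⟩
  · simp
  · have h1 : g.right⁻¹ ≠ 1 := by simpa using hg
    simp [Pi.mulSingle_apply, h1]

/-- evaluation at `1` of the left part, on the part of `P` over the identity of `Q`. -/
def evalHom (P : Subgroup (D ≀ᵣ Q)) :
    ↥((rightHom (D := D) (Q := Q)).comp P.subtype).ker →* D :=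
  (Pi.evalMonoidHom (fun _ : Q => D) 1).comp
    (leftHom.comp
      (MonoidHom.codRestrict (P.subtype.comp (Subgroup.subtype _))
        (rightHom (D := D) (Q := Q)).ker (fun x => x.2)))

theorem evalHom_apply (P : Subgroup (D ≀ᵣ Q))
    (x : ↥((rightHom (D := D) (Q := Q)).comp P.subtype).ker) :
    evalHom P x = x.1.1.left 1 := rfl

theorem evalHom_surjective [DecidableEq Q] (P : Subgroup (D ≀ᵣ Q)) (g : D ≀ᵣ Q)
    (hg : g.right ≠ 1) (hP : ∀ b : D ≀ᵣ Q, b.right = 1 → b * g * b⁻¹ * g⁻¹ ∈ P) :
    Function.Surjective (evalHom P) := by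
  intro s
  obtain ⟨n, hnP, hn1, hns⟩ := exists_mem_of_comm P g hg hP s
  exact ⟨⟨⟨n, hnP⟩, hn1⟩, hns⟩

theorem derivedSeries_ne_bot_of_ker_le [DecidableEq Q] (P : Subgroup (D ≀ᵣ Q)) (g : D ≀ᵣ Q)
    (hg : g.right ≠ 1) (hP : ∀ b : D ≀ᵣ Q, b.right = 1 → b * g * b⁻¹ * g⁻¹ ∈ P)
    (H : Subgroup ↥P) (hH : ((rightHom (D := D) (Q := Q)).comp P.subtype).ker ≤ H) (d : ℕ)
    (hd : derivedSeries D d ≠ ⊥) : derivedSeries ↥H d ≠ ⊥ :=
  derivedSeries_ne_bot_of_le hH d
    (derivedSeries_ne_bot_of_surjective (evalHom P) (evalHom_surjective P g hg hP) d hd)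

/-- wreathing with a nontrivial group increases the derived length. -/
theorem derivedSeries_succ_ne_bot [DecidableEq Q] [Nontrivial Q] (d : ℕ)
    (hd : derivedSeries D d ≠ ⊥) : derivedSeries (D ≀ᵣ Q) (d + 1) ≠ ⊥ := by
  obtain ⟨q, hq⟩ := exists_ne (1 : Q)
  apply derivedSeries_succ_ne_bot_of_commutator
  have := derivedSeries_ne_bot_of_ker_le (commutator (D ≀ᵣ Q)) (inl q) (by simpa using hq)
    (fun b _ => by
      rw [commutator_def]
      exact Subgroup.commutator_mem_commutator (Subgroup.mem_top b) (Subgroup.mem_top (inl q)))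
    ⊤ le_top d hd
  exact derivedSeries_ne_bot_of_injective (⊤ : Subgroup ↥(commutator (D ≀ᵣ Q))).subtype
    (Subgroup.subtype_injective _) d this

end wreath


section alt5

open Equiv MulAction

instance alt5_pretransitive : IsPretransitive (alternatingGroup (Fin 5)) (Fin 5) := by
  haveI := alternatingGroup.isMultiplyPretransitive (Fin 5)
  haveI : IsMultiplyPretransitive (alternatingGroup (Fin 5)) (Fin 5) 1 :=
    isMultiplyPretransitive_of_le (G := alternatingGroup (Fin 5)) (α := Fin 5) (n := Nat.card (Fin 5) - 2)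
      (by simp) (by simp)
  exact is_one_pretransitive_iff.mp inferInstance

theorem alt5_stab_index :
    (stabilizer (alternatingGroup (Fin 5)) (0 : Fin 5)).index = 5 := by
  rw [index_stabilizer_of_transitive]
  simp

theorem alt5_card : Nat.card (alternatingGroup (Fin 5)) = 60 := by
  have h := two_mul_card_alternatingGroup (α := Fin 5)
  rw [Fintype.card_perm, Fintype.card_fin] at h
  rw [Nat.card_eq_fintype_card]
  have : (5 : ℕ).factorial = 120 := by decide
  omega

theorem alt5_stab_card :
    Nat.card (stabilizer (alternatingGroup (Fin 5)) (0 : Fin 5)) = 12 := by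
  have h := Subgroup.card_mul_index (stabilizer (alternatingGroup (Fin 5)) (0 : Fin 5))
  rw [alt5_stab_index, alt5_card] at h
  omega

instance alt5_stab_solvable :
    Group.IsSolvable (stabilizer (alternatingGroup (Fin 5)) (0 : Fin 5)) :=
  Cfsg.Agent.CharLib.isSolvable_of_card_pq 2 3 2 1 Nat.prime_two Nat.prime_three
    (by rw [alt5_stab_card]; norm_num)

theorem isCoatom_of_index_prime {G : Type*} [Group G] (H : Subgroup G) {p : ℕ} (hp : p.Prime)
    (hH : H.index = p) : IsCoatom H := by
  constructor
  · intro h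
    rw [h, Subgroup.index_top] at hH
    exact hp.one_lt.ne hH
  · intro K hK
    have h1 := Subgroup.relIndex_mul_index hK.le
    rw [hH] at h1
    have h2 : K.index ∣ p := ⟨_, by rw [← h1, mul_comm]⟩
    rcases (Nat.dvd_prime hp).mp h2 with h3 | h3
    · exact Subgroup.index_eq_one.mp h3
    · exfalso
      rw [h3] at h1
      have h4 : H.relIndex K = 1 := by
        have hp0 : 0 < p := hp.pos
        exact Nat.eq_of_mul_eq_mul_right hp0 (by rw [h1, one_mul])
      exact hK.not_ge (Subgroup.relIndex_eq_one.mp h4)

theorem alt5_stab_isCoatom :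
    IsCoatom (stabilizer (alternatingGroup (Fin 5)) (0 : Fin 5)) :=
  isCoatom_of_index_prime _ (by norm_num : Nat.Prime 5) alt5_stab_index

theorem alt5_derivedSeries (n : ℕ) : derivedSeries (alternatingGroup (Fin 5)) n = ⊤ := by
  induction n with
  | zero => rfl
  | succ n ih =>
    rw [derivedSeries_succ, ih, ← commutator_def]
    exact commutator_alternatingGroup_eq_top (by simp)

end alt5


section core

theorem exists_eq_succ_of_antitone (f : ℕ → ℕ) (hf : ∀ n, f (n + 1) ≤ f n) :
    ∃ k, f (k + 1) = f k := by
  by_contra hcon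
  push Not at hcon
  have hlt : ∀ n, f (n + 1) < f n := fun n => lt_of_le_of_ne (hf n) (hcon n)
  have hbound : ∀ n, f n + n ≤ f 0 := by
    intro n
    induction n with
    | zero => simp
    | succ n ih => have := hlt n; omega
  have := hbound (f 0 + 1)
  omega

theorem exists_derivedSeries_stable (W : Type*) [Group W] [Finite W] :
    ∃ k, derivedSeries W (k + 1) = derivedSeries W k := by
  obtain ⟨k, hk⟩ := exists_eq_succ_of_antitone (fun n => Nat.card (derivedSeries W n))
    (fun n => Subgroup.card_le_of_le (derivedSeries_antitone W (Nat.le_succ n)))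
  exact ⟨k, Subgroup.eq_of_le_of_card_ge (derivedSeries_antitone W (Nat.le_succ k)) hk.ge⟩

theorem commutator_eq_top_of_stable {W : Type*} [Group W] {k : ℕ}
    (hk : derivedSeries W (k + 1) = derivedSeries W k) :
    commutator ↥(derivedSeries W k) = ⊤ := by
  apply Subgroup.map_injective (Subgroup.subtype_injective (derivedSeries W k))
  rw [commutator_def, Subgroup.map_commutator, ← MonoidHom.range_eq_map, Subgroup.range_subtype,
    ← derivedSeries_succ, hk]

theorem isCoatom_comap {G A : Type*} [Group G] [Group A] (f : G →* A) (hf : Function.Surjective f)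
    {M : Subgroup A} (hM : IsCoatom M) : IsCoatom (M.comap f) := by
  constructor
  · intro h
    apply hM.1
    rw [eq_top_iff]
    intro a _
    obtain ⟨g, rfl⟩ := hf a
    have : g ∈ M.comap f := by rw [h]; exact Subgroup.mem_top g
    exact this
  · intro K hK
    have h1 : M ≤ K.map f := by
      intro a ha
      obtain ⟨g, rfl⟩ := hf a
      exact ⟨g, hK.le ha, rfl⟩
    have h2 : M ≠ K.map f := by
      intro h
      apply hK.not_ge
      intro x hx
      have : f x ∈ K.map f := ⟨x, hx, rfl⟩
      rw [← h] at this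
      exact this
    have h3 := hM.2 _ (lt_of_le_of_ne h1 h2)
    rw [eq_top_iff]
    intro x _
    have : f x ∈ K.map f := by rw [h3]; exact Subgroup.mem_top _
    obtain ⟨y, hy, hyx⟩ := this
    have hker : y⁻¹ * x ∈ K := by
      apply hK.le
      change f (y⁻¹ * x) ∈ M
      rw [map_mul, map_inv, hyx, inv_mul_cancel]
      exact M.one_mem
    have := K.mul_mem hy hker
    simpa using this

end core


section main

open RegularWreathProduct MulAction

theorem exists_solvable_derived (d : ℕ) :
    ∃ (S : Type) (_ : Group S) (_ : Finite S), Group.IsSolvable S ∧ derivedSeries S d ≠ ⊥ := by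
  induction d with
  | zero =>
    refine ⟨Multiplicative (ZMod 2), inferInstance, inferInstance, inferInstance, ?_⟩
    rw [derivedSeries_zero]
    exact top_ne_bot
  | succ d ih =>
    obtain ⟨S, hG, hF, hS, hd⟩ := ih
    classical
    refine ⟨S ≀ᵣ Multiplicative (ZMod 2), inferInstance, inferInstance, inferInstance, ?_⟩
    exact derivedSeries_succ_ne_bot d hd

theorem exists_perfect_with_solvable_coatom (d : ℕ) :
    ∃ (G : Type) (_ : Group G) (_ : Finite G) (H : Subgroup G), commutator G = ⊤ ∧ IsCoatom H ∧
      Group.IsSolvable H ∧ derivedSeries H d ≠ ⊥ := by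
  classical
  obtain ⟨S, hG, hF, hS, hd⟩ := exists_solvable_derived d
  obtain ⟨k, hk⟩ := exists_derivedSeries_stable (S ≀ᵣ alternatingGroup (Fin 5))
  set P := derivedSeries (S ≀ᵣ alternatingGroup (Fin 5)) k with hPdef
  set f : ↥P →* alternatingGroup (Fin 5) :=
    (rightHom (D := S) (Q := alternatingGroup (Fin 5))).comp P.subtype with hfdef
  have hrs : Function.Surjective (rightHom (D := S) (Q := alternatingGroup (Fin 5))) :=
    fun q => ⟨inl q, rfl⟩
  have hf : Function.Surjective f := by
    intro a
    have : a ∈ (derivedSeries (S ≀ᵣ alternatingGroup (Fin 5)) k).map rightHom := by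
      rw [map_derivedSeries_eq hrs, alt5_derivedSeries]
      exact Subgroup.mem_top a
    obtain ⟨w, hw, rfl⟩ := this
    exact ⟨⟨w, hw⟩, rfl⟩
  set M₀ := stabilizer (alternatingGroup (Fin 5)) (0 : Fin 5) with hM₀
  refine ⟨↥P, inferInstance, inferInstance, M₀.comap f, commutator_eq_top_of_stable hk,
    isCoatom_comap f hf alt5_stab_isCoatom, ?_, ?_⟩
  · -- solvable
    let g₂ : ↥(M₀.comap f) →* ↥M₀ :=
      (f.comp (M₀.comap f).subtype).codRestrict M₀ (fun x => x.2)
    let j : ↥g₂.ker →* ↥(rightHom (D := S) (Q := alternatingGroup (Fin 5))).ker :=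
      (P.subtype.comp ((M₀.comap f).subtype.comp g₂.ker.subtype)).codRestrict _ (fun x => by
        have h1 : g₂ x.1 = 1 := x.2
        have h2 : f x.1.1 = 1 := congrArg Subtype.val h1
        exact h2)
    have hj : Function.Injective j := by
      intro x y hxy
      apply Subtype.ext
      apply Subtype.ext
      apply Subtype.ext
      exact congrArg (fun z : ↥(rightHom (D := S) (Q := alternatingGroup (Fin 5))).ker => z.1) hxy
    haveI : Group.IsSolvable ↥g₂.ker := Group.isSolvable_of_isSolvable_injective hj
    exact Group.isSolvable_of_ker_le_range g₂.ker.subtype g₂ (by simp)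
  · -- derived length
    obtain ⟨a, ha⟩ := exists_ne (1 : alternatingGroup (Fin 5))
    obtain ⟨⟨g, hgP⟩, hga⟩ := hf a
    have hg : g.right ≠ 1 := by
      intro h
      apply ha
      rw [← hga]
      exact h
    have hPn : P.Normal := by rw [hPdef]; infer_instance
    refine derivedSeries_ne_bot_of_ker_le P g hg (fun b _ => ?_) (M₀.comap f) ?_ d hd
    · exact P.mul_mem (hPn.conj_mem g hgP b) (P.inv_mem hgP)
    · intro x hx
      change f x ∈ M₀
      have : f x = 1 := hx
      rw [this]
      exact M₀.one_mem

end main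

end Cfsg.Agent.Lib.Helper9.WreathDerived
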